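import Mathlib

set_option autoImplicit false
set_option linter.unusedVariables false
set_option maxHeartbeats 4000000
set_option maxRecDepth 100000

namespace Cfsg.Agent.Lib.Lead.SL25

abbrev Q := ℕ × ℕ × ℕ × ℕ

def mulN (p : ℕ) (x y : Q) : Q :=
  ((x.1 * y.1 + x.2.1 * y.2.2.1) % p, (x.1 * y.2.1 + x.2.1 * y.2.2.2) % p,
   (x.2.2.1 * y.1 + x.2.2.2 * y.2.2.1) % p, (x.2.2.1 * y.2.1 + x.2.2.2 * y.2.2.2) % p)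

def invN (p : ℕ) (x : Q) : Q :=
  (x.2.2.2, (x.2.1 * (p - 1)) % p, (x.2.2.1 * (p - 1)) % p, x.1)

def detOK (p : ℕ) (x : Q) : Prop := (x.1 * x.2.2.2) % p = (x.2.1 * x.2.2.1 + 1) % p

instance instDecDetOK (p : ℕ) (x : Q) : Decidable (detOK p x) := by unfold detOK; infer_instance

def fpf (x : Q) : Prop := ((x.1 + 10) * (x.2.2.2 + 10)) % 11 ≠ (x.2.1 * x.2.2.1) % 11

instance instDecFpf (x : Q) : Decidable (fpf x) := by unfold fpf; infer_instance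

def idQ : Q := (1, 0, 0, 1)
def qa : Q := (1, 1, 0, 1)
def qA : Q := (0, 1, 10, 3)
def qb : Q := (1, 0, 1, 1)
def qB : Q := (3, 5, 2, 0)

def qbeq (x y : Q) : Bool :=
  Nat.beq x.1 y.1 && (Nat.beq x.2.1 y.2.1 && (Nat.beq x.2.2.1 y.2.2.1 && Nat.beq x.2.2.2 y.2.2.2))

theorem qbeq_eq {x y : Q} (h : qbeq x y = true) : x = y := by
  unfold qbeq at h
  simp only [Bool.and_eq_true] at h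
  obtain ⟨h1, h2, h3, h4⟩ := h
  exact Prod.ext (Nat.eq_of_beq_eq_true h1) (Prod.ext (Nat.eq_of_beq_eq_true h2)
    (Prod.ext (Nat.eq_of_beq_eq_true h3) (Nat.eq_of_beq_eq_true h4)))

def T : List (Q × Q) :=
  [((0, 1, 4, 0), (8, 7, 8, 3)),
  ((0, 1, 4, 1), (9, 3, 5, 3)),
  ((0, 1, 4, 2), (8, 2, 7, 6)),
  ((0, 1, 4, 3), (4, 3, 5, 4)),
  ((0, 1, 4, 4), (4, 7, 8, 6)),
  ((0, 2, 2, 0), (0, 7, 3, 0)),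
  ((0, 2, 2, 1), (10, 4, 2, 2)),
  ((0, 2, 2, 2), (4, 10, 0, 3)),
  ((0, 2, 2, 3), (7, 0, 9, 8)),
  ((0, 2, 2, 4), (1, 1, 8, 9)),
  ((0, 3, 3, 0), (0, 4, 8, 0)),
  ((0, 3, 3, 1), (10, 10, 3, 2)),
  ((0, 3, 3, 2), (4, 0, 2, 3)),
  ((0, 3, 3, 3), (7, 1, 0, 8)),
  ((0, 3, 3, 4), (1, 7, 9, 9)),
  ((0, 4, 1, 0), (3, 4, 3, 8)),
  ((0, 4, 1, 1), (7, 4, 3, 5)),
  ((0, 4, 1, 2), (7, 8, 6, 7)),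
  ((0, 4, 1, 3), (3, 9, 4, 5)),
  ((0, 4, 1, 4), (2, 8, 6, 8)),
  ((1, 0, 0, 1), (1, 0, 0, 1)),
  ((1, 0, 1, 1), (3, 5, 2, 0)),
  ((1, 0, 2, 1), (8, 4, 6, 10)),
  ((1, 0, 3, 1), (10, 7, 5, 8)),
  ((1, 0, 4, 1), (0, 6, 9, 3)),
  ((1, 1, 0, 1), (0, 1, 10, 3)),
  ((1, 1, 1, 2), (6, 7, 0, 2)),
  ((1, 1, 2, 3), (7, 9, 1, 3)),
  ((1, 1, 3, 4), (4, 9, 3, 7)),
  ((1, 1, 4, 0), (5, 7, 8, 7)),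
  ((1, 2, 0, 1), (10, 3, 8, 8)),
  ((1, 2, 1, 3), (4, 5, 9, 6)),
  ((1, 2, 2, 0), (2, 1, 8, 10)),
  ((1, 2, 3, 2), (2, 9, 4, 2)),
  ((1, 2, 4, 4), (4, 4, 4, 7)),
  ((1, 3, 0, 1), (8, 8, 3, 10)),
  ((1, 3, 1, 4), (6, 8, 5, 5)),
  ((1, 3, 2, 2), (10, 5, 1, 5)),
  ((1, 3, 3, 0), (2, 7, 9, 10)),
  ((1, 3, 4, 3), (7, 5, 4, 3)),
  ((1, 4, 0, 1), (3, 10, 1, 0)),
  ((1, 4, 1, 0), (3, 8, 6, 9)),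
  ((1, 4, 2, 4), (6, 3, 6, 5)),
  ((1, 4, 3, 3), (4, 1, 1, 6)),
  ((1, 4, 4, 2), (6, 0, 8, 2)),
  ((2, 0, 0, 3), (10, 1, 9, 1)),
  ((2, 0, 1, 3), (9, 6, 1, 2)),
  ((2, 0, 2, 3), (9, 8, 9, 2)),
  ((2, 0, 3, 3), (10, 6, 7, 1)),
  ((2, 0, 4, 3), (6, 1, 7, 5)),
  ((2, 1, 0, 3), (6, 2, 9, 5)),
  ((2, 1, 1, 1), (2, 0, 3, 6)),
  ((2, 1, 2, 4), (8, 9, 1, 4)),
  ((2, 1, 3, 2), (10, 8, 4, 0)),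
  ((2, 1, 4, 0), (7, 3, 5, 7)),
  ((2, 2, 0, 3), (10, 2, 10, 1)),
  ((2, 2, 1, 4), (5, 5, 9, 7)),
  ((2, 2, 2, 0), (3, 0, 9, 4)),
  ((2, 2, 3, 1), (5, 6, 10, 10)),
  ((2, 2, 4, 2), (10, 9, 6, 0)),
  ((2, 3, 0, 3), (9, 1, 6, 2)),
  ((2, 3, 1, 2), (0, 2, 5, 10)),
  ((2, 3, 2, 1), (2, 2, 7, 2)),
  ((2, 3, 3, 0), (3, 1, 0, 4)),
  ((2, 3, 4, 4), (8, 5, 4, 4)),
  ((2, 4, 0, 3), (9, 5, 10, 2)),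
  ((2, 4, 1, 0), (6, 9, 4, 8)),
  ((2, 4, 2, 2), (0, 3, 7, 10)),
  ((2, 4, 3, 4), (5, 1, 1, 7)),
  ((2, 4, 4, 1), (2, 4, 0, 6)),
  ((3, 0, 0, 2), (1, 10, 2, 10)),
  ((3, 0, 1, 2), (5, 10, 4, 6)),
  ((3, 0, 2, 2), (1, 5, 4, 10)),
  ((3, 0, 3, 2), (2, 3, 2, 9)),
  ((3, 0, 4, 2), (2, 5, 10, 9)),
  ((3, 1, 0, 2), (2, 6, 1, 9)),
  ((3, 1, 1, 4), (9, 7, 0, 5)),
  ((3, 1, 2, 1), (6, 10, 10, 4)),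
  ((3, 1, 3, 3), (0, 8, 4, 1)),
  ((3, 1, 4, 0), (5, 2, 7, 3)),
  ((3, 2, 0, 2), (2, 10, 5, 9)),
  ((3, 2, 1, 1), (3, 6, 7, 7)),
  ((3, 2, 2, 0), (8, 10, 0, 7)),
  ((3, 2, 3, 4), (9, 9, 4, 9)),
  ((3, 2, 4, 3), (0, 9, 6, 1)),
  ((3, 3, 0, 2), (1, 9, 1, 10)),
  ((3, 3, 1, 3), (1, 2, 5, 0)),
  ((3, 3, 2, 4), (6, 5, 1, 1)),
  ((3, 3, 3, 0), (8, 0, 2, 7)),
  ((3, 3, 4, 1), (6, 6, 2, 4)),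
  ((3, 4, 0, 2), (5, 9, 2, 6)),
  ((3, 4, 1, 0), (4, 8, 6, 4)),
  ((3, 4, 2, 3), (1, 3, 7, 0)),
  ((3, 4, 3, 1), (3, 2, 10, 7)),
  ((3, 4, 4, 4), (9, 0, 8, 5)),
  ((4, 0, 0, 4), (10, 0, 0, 10)),
  ((4, 0, 1, 4), (0, 5, 2, 8)),
  ((4, 0, 2, 4), (1, 4, 6, 3)),
  ((4, 0, 3, 4), (3, 7, 5, 1)),
  ((4, 0, 4, 4), (8, 6, 9, 0)),
  ((4, 1, 0, 4), (8, 1, 10, 0)),
  ((4, 1, 1, 3), (5, 0, 3, 9)),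
  ((4, 1, 2, 2), (7, 10, 10, 5)),
  ((4, 1, 3, 1), (5, 8, 5, 6)),
  ((4, 1, 4, 0), (8, 3, 5, 2)),
  ((4, 2, 0, 4), (3, 3, 8, 1)),
  ((4, 2, 1, 2), (4, 6, 7, 8)),
  ((4, 2, 2, 0), (9, 4, 2, 1)),
  ((4, 2, 3, 3), (1, 6, 10, 6)),
  ((4, 2, 4, 1), (5, 3, 6, 6)),
  ((4, 3, 0, 4), (1, 8, 3, 3)),
  ((4, 3, 1, 1), (7, 7, 7, 4)),
  ((4, 3, 2, 3), (9, 2, 7, 9)),
  ((4, 3, 3, 0), (9, 10, 3, 1)),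
  ((4, 3, 4, 2), (7, 6, 2, 5)),
  ((4, 4, 0, 4), (0, 10, 1, 8)),
  ((4, 4, 1, 0), (6, 4, 3, 4)),
  ((4, 4, 2, 1), (7, 2, 8, 4)),
  ((4, 4, 3, 2), (4, 2, 10, 8)),
  ((4, 4, 4, 3), (5, 4, 0, 9))]

def memT (x y : Q) : Bool := T.any (fun t => qbeq t.1 x && qbeq t.2 y)

theorem memT_mem {x y : Q} (h : memT x y = true) : (x, y) ∈ T := by
  unfold memT at h
  obtain ⟨u, hu, huq⟩ := List.any_eq_true.1 h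
  rw [Bool.and_eq_true] at huq
  have e1 := qbeq_eq huq.1
  have e2 := qbeq_eq huq.2
  have : u = (x, y) := Prod.ext e1 e2
  rw [← this]; exact hu

theorem T_det : ∀ t ∈ T, detOK 5 t.1 ∧ detOK 11 t.2 := by decide +kernel

theorem T_one : (idQ, idQ) ∈ T := by decide +kernel

theorem T_genB :
    T.all (fun s => memT (mulN 5 s.1 qa) (mulN 11 s.2 qA) &&
      (memT (mulN 5 s.1 (invN 5 qa)) (mulN 11 s.2 (invN 11 qA)) &&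
      (memT (mulN 5 s.1 qb) (mulN 11 s.2 qB) &&
        memT (mulN 5 s.1 (invN 5 qb)) (mulN 11 s.2 (invN 11 qB))))) = true := by
  decide +kernel

theorem T_gen (s : Q × Q) (hs : s ∈ T) :
    (mulN 5 s.1 qa, mulN 11 s.2 qA) ∈ T ∧
    (mulN 5 s.1 (invN 5 qa), mulN 11 s.2 (invN 11 qA)) ∈ T ∧
    (mulN 5 s.1 qb, mulN 11 s.2 qB) ∈ T ∧
    (mulN 5 s.1 (invN 5 qb), mulN 11 s.2 (invN 11 qB)) ∈ T := by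
  have h := (List.all_eq_true.1 T_genB) s hs
  simp only [Bool.and_eq_true] at h
  exact ⟨memT_mem h.1, memT_mem h.2.1, memT_mem h.2.2.1, memT_mem h.2.2.2⟩

theorem T_fpf : ∀ t ∈ T, t = (idQ, idQ) ∨ fpf t.2 := by decide +kernel

theorem T_ker : ∀ t ∈ T,
    (t.1.1 % 5 = 1 ∧ t.1.2.1 % 5 = 0 ∧ t.1.2.2.1 % 5 = 0 ∧ t.1.2.2.2 % 5 = 1) → t.2 = idQ := by
  decide +kernel

end Cfsg.Agent.Lib.Lead.SL25
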