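import Mathlib
import Cfsg.Prelude.Def_Solvable
import Cfsg.Agent.Lib.Helper3.FrobConstr
import Cfsg.Agent.Lib.Lead.SL25Table

set_option autoImplicit false
set_option linter.unusedVariables false
set_option linter.unusedSectionVars false
set_option maxHeartbeats 1000000

namespace Cfsg.Agent.Lib.Lead.SL25

instance instFactPrimeFive : Fact (Nat.Prime 5) := ⟨by norm_num⟩
instance instFactPrimeEleven : Fact (Nat.Prime 11) := ⟨by norm_num⟩

abbrev G5 := Matrix.SpecialLinearGroup (Fin 2) (ZMod 5)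
abbrev G11 := Matrix.SpecialLinearGroup (Fin 2) (ZMod 11)

def toM (p : ℕ) (x : Q) : Matrix (Fin 2) (Fin 2) (ZMod p) :=
  !![(x.1 : ZMod p), (x.2.1 : ZMod p); (x.2.2.1 : ZMod p), (x.2.2.2 : ZMod p)]

theorem toM_mul (p : ℕ) (x y : Q) : toM p (mulN p x y) = toM p x * toM p y := by
  simp only [toM, mulN, Matrix.mul_fin_two, ZMod.natCast_mod, Nat.cast_add, Nat.cast_mul]

theorem toM_det (p : ℕ) (x : Q) (h : detOK p x) : (toM p x).det = 1 := by
  unfold detOK at h
  have h2 : ((x.1 * x.2.2.2 : ℕ) : ZMod p) = ((x.2.1 * x.2.2.1 + 1 : ℕ) : ZMod p) :=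
    (ZMod.natCast_eq_natCast_iff' _ _ p).2 h
  push_cast at h2
  rw [toM, Matrix.det_fin_two_of]
  linear_combination h2

theorem toM_one (p : ℕ) : toM p idQ = 1 := by
  simp [toM, idQ, Matrix.one_fin_two]

theorem toM_inv (p : ℕ) (hp : ((p - 1 : ℕ) : ZMod p) = -1) (x : Q) :
    toM p (invN p x) = (toM p x).adjugate := by
  simp only [toM, invN, Matrix.adjugate_fin_two_of, ZMod.natCast_mod, Nat.cast_mul, hp,
    mul_neg_one]

theorem h5 : ((5 - 1 : ℕ) : ZMod 5) = -1 := by decide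
theorem h11 : ((11 - 1 : ℕ) : ZMod 11) = -1 := by decide

/-! ### generation of `SL(2,5)` -/

def U (t : ZMod 5) : G5 := ⟨!![1, t; 0, 1], by rw [Matrix.det_fin_two_of]; ring⟩
def Lw (t : ZMod 5) : G5 := ⟨!![1, 0; t, 1], by rw [Matrix.det_fin_two_of]; ring⟩

theorem U_mul (s t : ZMod 5) : U s * U t = U (s + t) := by
  apply Subtype.ext
  show !![1, s; 0, 1] * !![1, t; 0, 1] = !![1, s + t; 0, 1]
  rw [Matrix.mul_fin_two]
  ext i j
  fin_cases i <;> fin_cases j <;> simp [add_comm]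

theorem Lw_mul (s t : ZMod 5) : Lw s * Lw t = Lw (s + t) := by
  apply Subtype.ext
  show !![1, 0; s, 1] * !![1, 0; t, 1] = !![1, 0; s + t, 1]
  rw [Matrix.mul_fin_two]
  ext i j
  fin_cases i <;> fin_cases j <;> simp [add_comm]

theorem U_zero : U 0 = 1 := by
  apply Subtype.ext
  show !![(1 : ZMod 5), 0; 0, 1] = (1 : Matrix (Fin 2) (Fin 2) (ZMod 5))
  rw [Matrix.one_fin_two]

theorem Lw_zero : Lw 0 = 1 := by
  apply Subtype.ext
  show !![(1 : ZMod 5), 0; 0, 1] = (1 : Matrix (Fin 2) (Fin 2) (ZMod 5))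
  rw [Matrix.one_fin_two]

theorem U_nat (n : ℕ) : U (n : ZMod 5) = U 1 ^ n := by
  induction n with
  | zero => rw [pow_zero, Nat.cast_zero, U_zero]
  | succ n ih => rw [pow_succ, ← ih, U_mul, Nat.cast_succ]

theorem Lw_nat (n : ℕ) : Lw (n : ZMod 5) = Lw 1 ^ n := by
  induction n with
  | zero => rw [pow_zero, Nat.cast_zero, Lw_zero]
  | succ n ih => rw [pow_succ, ← ih, Lw_mul, Nat.cast_succ]

theorem U_mem (t : ZMod 5) : U t ∈ Subgroup.closure ({U 1, Lw 1} : Set G5) := by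
  have : U t = U 1 ^ t.val := by rw [← U_nat, ZMod.natCast_zmod_val]
  rw [this]
  exact pow_mem (Subgroup.subset_closure (by simp)) _

theorem Lw_mem (t : ZMod 5) : Lw t ∈ Subgroup.closure ({U 1, Lw 1} : Set G5) := by
  have : Lw t = Lw 1 ^ t.val := by rw [← Lw_nat, ZMod.natCast_zmod_val]
  rw [this]
  exact pow_mem (Subgroup.subset_closure (by simp)) _

theorem det_eq (g : G5) : g.1 0 0 * g.1 1 1 - g.1 0 1 * g.1 1 0 = 1 := by
  have := g.2
  rwa [Matrix.det_fin_two] at this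

theorem decomp (g : G5) (hc : g.1 1 0 ≠ 0) :
    g = U ((g.1 0 0 - 1) / g.1 1 0) * Lw (g.1 1 0) * U ((g.1 1 1 - 1) / g.1 1 0) := by
  have hdet := det_eq g
  obtain ⟨x, hx⟩ : ∃ x, x = (g.1 0 0 - 1) / g.1 1 0 := ⟨_, rfl⟩
  obtain ⟨y, hy⟩ : ∃ y, y = (g.1 1 1 - 1) / g.1 1 0 := ⟨_, rfl⟩
  have hx' : x * g.1 1 0 = g.1 0 0 - 1 := by rw [hx, div_mul_cancel₀ _ hc]
  have hy' : y * g.1 1 0 = g.1 1 1 - 1 := by rw [hy, div_mul_cancel₀ _ hc]
  rw [← hx, ← hy]
  apply Subtype.ext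
  show g.1 = !![1, x; 0, 1] * !![1, 0; g.1 1 0, 1] * !![1, y; 0, 1]
  rw [Matrix.mul_fin_two, Matrix.mul_fin_two]
  ext i j
  fin_cases i <;> fin_cases j
  · show g.1 0 0 = (1 * 1 + x * g.1 1 0) * 1 + (1 * 0 + x * 1) * 0
    linear_combination (-1 : ZMod 5) * hx'
  · show g.1 0 1 = (1 * 1 + x * g.1 1 0) * y + (1 * 0 + x * 1) * 1
    apply mul_right_cancel₀ hc
    linear_combination (-(y * g.1 1 0 + 1)) * hx' - g.1 0 0 * hy' - hdet
  · show g.1 1 0 = (0 * 1 + 1 * g.1 1 0) * 1 + (0 * 0 + 1 * 1) * 0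
    ring
  · show g.1 1 1 = (0 * 1 + 1 * g.1 1 0) * y + (0 * 0 + 1 * 1) * 1
    linear_combination (-1 : ZMod 5) * hy'

theorem gen : Subgroup.closure ({U 1, Lw 1} : Set G5) = ⊤ := by
  rw [eq_top_iff]
  intro g _
  have key : ∀ g : G5, g.1 1 0 ≠ 0 → g ∈ Subgroup.closure ({U 1, Lw 1} : Set G5) := by
    intro g hc
    rw [decomp g hc]
    exact mul_mem (mul_mem (U_mem _) (Lw_mem _)) (U_mem _)
  by_cases hc : g.1 1 0 = 0
  · have hdet := det_eq g
    have ha : g.1 0 0 ≠ 0 := by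
      intro h0
      rw [h0, hc] at hdet
      simp at hdet
    have h1 : (Lw 1 * g).1 1 0 ≠ 0 := by
      show (!![1, 0; (1 : ZMod 5), 1] * g.1) 1 0 ≠ 0
      rw [Matrix.mul_apply, Fin.sum_univ_two]
      simp [hc, ha]
    have h2 := key _ h1
    have : g = (Lw 1)⁻¹ * (Lw 1 * g) := by group
    rw [this]
    exact mul_mem (inv_mem (Subgroup.subset_closure (by simp))) h2
  · exact key g hc

/-! ### the graph subgroup -/

theorem hqa : toM 5 qa = !![1, 1; 0, 1] := by simp [toM, qa]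
theorem hqb : toM 5 qb = !![1, 0; 1, 1] := by simp [toM, qb]

def gA : G11 := ⟨toM 11 qA, toM_det 11 qA (by decide)⟩
def gB : G11 := ⟨toM 11 qB, toM_det 11 qB (by decide)⟩

def K : Subgroup (G5 × G11) := Subgroup.closure ({(U 1, gA), (Lw 1, gB)} : Set (G5 × G11))

def inT (g : G5 × G11) : Prop := ∃ t ∈ T, toM 5 t.1 = g.1.1 ∧ toM 11 t.2 = g.2.1

theorem K_sub (g : G5 × G11) (hg : g ∈ K) : inT g := by
  refine Subgroup.closure_induction_right (p := fun g _ => inT g) ?_ ?_ ?_ hg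
  · refine ⟨(idQ, idQ), T_one, ?_, ?_⟩
    · rw [toM_one]; rfl
    · rw [toM_one]; rfl
  · rintro x hx y hy ⟨s, hs, hs1, hs2⟩
    obtain ⟨h1, h2, h3, h4⟩ := T_gen s hs
    rcases hy with rfl | hy
    · refine ⟨_, h1, ?_, ?_⟩
      · rw [toM_mul, hs1, hqa]; rfl
      · rw [toM_mul, hs2]; rfl
    · rw [Set.mem_singleton_iff] at hy
      subst hy
      refine ⟨_, h3, ?_, ?_⟩
      · rw [toM_mul, hs1, hqb]; rfl
      · rw [toM_mul, hs2]; rfl
  · rintro x hx y hy ⟨s, hs, hs1, hs2⟩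
    obtain ⟨h1, h2, h3, h4⟩ := T_gen s hs
    rcases hy with rfl | hy
    · refine ⟨_, h2, ?_, ?_⟩
      · rw [toM_mul, toM_inv 5 h5, hs1, hqa]; rfl
      · rw [toM_mul, toM_inv 11 h11, hs2]; rfl
    · rw [Set.mem_singleton_iff] at hy
      subst hy
      refine ⟨_, h4, ?_, ?_⟩
      · rw [toM_mul, toM_inv 5 h5, hs1, hqb]; rfl
      · rw [toM_mul, toM_inv 11 h11, hs2]; rfl

def f : K →* G5 := (MonoidHom.fst G5 G11).comp K.subtype

theorem f_inj : Function.Injective f := by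
  rw [injective_iff_map_eq_one]
  intro k hk
  obtain ⟨t, ht, ht1, ht2⟩ := K_sub k.1 k.2
  have hk1 : k.1.1.1 = 1 := congrArg Subtype.val hk
  have h1 : toM 5 t.1 = 1 := by rw [ht1]; exact hk1
  have e00 := congrFun (congrFun h1 0) 0
  have e01 := congrFun (congrFun h1 0) 1
  have e10 := congrFun (congrFun h1 1) 0
  have e11 := congrFun (congrFun h1 1) 1
  simp [toM] at e00 e01 e10 e11
  have c00 : t.1.1 % 5 = 1 := by
    have := (ZMod.natCast_eq_natCast_iff' t.1.1 1 5).1 (by simpa using e00)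
    simpa using this
  have c01 : t.1.2.1 % 5 = 0 := by
    have := (ZMod.natCast_eq_natCast_iff' t.1.2.1 0 5).1 (by simpa using e01)
    simpa using this
  have c10 : t.1.2.2.1 % 5 = 0 := by
    have := (ZMod.natCast_eq_natCast_iff' t.1.2.2.1 0 5).1 (by simpa using e10)
    simpa using this
  have c11 : t.1.2.2.2 % 5 = 1 := by
    have := (ZMod.natCast_eq_natCast_iff' t.1.2.2.2 1 5).1 (by simpa using e11)
    simpa using this
  have h2 : t.2 = idQ := T_ker t ht ⟨c00, c01, c10, c11⟩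
  apply Subtype.ext
  apply Prod.ext
  · exact hk
  · apply Subtype.ext
    show k.1.2.1 = 1
    rw [← ht2, h2]
    exact toM_one 11

theorem f_surj : Function.Surjective f := by
  intro g
  have h1 : Subgroup.map (MonoidHom.fst G5 G11) K = ⊤ := by
    unfold K
    rw [MonoidHom.map_closure, Set.image_pair]
    exact gen
  have h2 : g ∈ Subgroup.map (MonoidHom.fst G5 G11) K := by rw [h1]; exact Subgroup.mem_top g
  obtain ⟨k, hk, hkg⟩ := Subgroup.mem_map.1 h2
  exact ⟨⟨k, hk⟩, hkg⟩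

instance instDMAK : DistribMulAction K (Fin 2 → ZMod 11) where
  smul k v := Matrix.mulVec k.1.2.1 v
  one_smul v := by
    show Matrix.mulVec (1 : Matrix (Fin 2) (Fin 2) (ZMod 11)) v = v
    exact Matrix.one_mulVec v
  mul_smul k k' v := by
    show Matrix.mulVec (k.1.2.1 * k'.1.2.1) v = Matrix.mulVec k.1.2.1 (Matrix.mulVec k'.1.2.1 v)
    rw [Matrix.mulVec_mulVec]
  smul_zero k := Matrix.mulVec_zero _
  smul_add k v w := Matrix.mulVec_add _ _ _

theorem free (k : K) (hk : k ≠ 1) (v : Fin 2 → ZMod 11) (hv : k • v = v) : v = 0 := by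
  obtain ⟨t, ht, ht1, ht2⟩ := K_sub k.1 k.2
  rcases T_fpf t ht with h | h
  · exfalso
    apply hk
    apply Subtype.ext
    apply Prod.ext
    · apply Subtype.ext
      show k.1.1.1 = 1
      rw [← ht1, h]
      exact toM_one 5
    · apply Subtype.ext
      show k.1.2.1 = 1
      rw [← ht2, h]
      exact toM_one 11
  · have hdet : (k.1.2.1 - 1 : Matrix (Fin 2) (Fin 2) (ZMod 11)).det ≠ 0 := by
      rw [← ht2]
      intro h0
      apply h
      rw [Matrix.det_fin_two] at h0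
      simp [toM] at h0
      have h10 : (10 : ZMod 11) = -1 := by decide
      have h3 : (((t.2.1 + 10) * (t.2.2.2.2 + 10) : ℕ) : ZMod 11)
          = ((t.2.2.1 * t.2.2.2.1 : ℕ) : ZMod 11) := by
        push_cast
        rw [h10]
        linear_combination h0
      exact (ZMod.natCast_eq_natCast_iff' _ _ 11).1 h3
    have hv' : Matrix.mulVec (k.1.2.1 - 1 : Matrix (Fin 2) (Fin 2) (ZMod 11)) v = 0 := by
      rw [Matrix.sub_mulVec, Matrix.one_mulVec]
      have : Matrix.mulVec k.1.2.1 v = v := hv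
      rw [this, sub_self]
    exact Matrix.eq_zero_of_mulVec_eq_zero hdet hv'

theorem main : ∃ (L : Type) (_ : Group L) (_ : Finite L) (H : Subgroup L),
    Cfsg.IsFrobeniusComplement H ∧
      Nonempty (H ≃* Matrix.SpecialLinearGroup (Fin 2) (ZMod 5)) := by
  have e : K ≃* G5 := MulEquiv.ofBijective f ⟨f_inj, f_surj⟩
  haveI : Nontrivial G5 := by
    refine ⟨⟨1, U 1, ?_⟩⟩
    intro h
    have := congrFun (congrFun (congrArg Subtype.val h) 0) 1
    simp [U] at this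
  haveI : Nontrivial K := e.toEquiv.nontrivial
  obtain ⟨L, hG, hF, C, h1, ⟨e2⟩, -⟩ :=
    Cfsg.Agent.Lib.Helper3.exists_frobenius_of_distribMulAction (H := K)
      (V := Fin 2 → ZMod 11) free
  exact ⟨L, hG, hF, C, h1, ⟨e2.symm.trans e⟩⟩

end Cfsg.Agent.Lib.Lead.SL25
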