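import Mathlib

namespace Cfsg.Agent.Lib.Lead.SylowCount

variable {G : Type*} [Group G]

/-- `|H| * [K : H] = |K|` for `H ≤ K`. -/
theorem card_mul_relIndex {H K : Subgroup G} (h : H ≤ K) :
    Nat.card H * H.relIndex K = Nat.card K := by
  rw [← Subgroup.relIndex_bot_left, ← Subgroup.relIndex_bot_left]
  exact Subgroup.relIndex_mul_relIndex _ _ _ bot_le h

/-- `|H ⊔ K| = |H| * |K|` when `K` is normal and `H ⊓ K = ⊥`. -/
theorem card_sup_of_normal_disjoint (H K : Subgroup G) [K.Normal] (h : H ⊓ K = ⊥) :
    Nat.card (H ⊔ K : Subgroup G) = Nat.card H * Nat.card K := by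
  have h1 : K.relIndex (H ⊔ K) = Nat.card H := by
    rw [Subgroup.relIndex_sup_right, ← Subgroup.inf_relIndex_left, h, Subgroup.relIndex_bot_left]
  rw [← card_mul_relIndex (le_sup_right : K ≤ H ⊔ K), h1, mul_comm]

/-- index from cardinalities. -/
theorem index_of_card {a b : ℕ} (H : Subgroup G) (hH : Nat.card H = a) (hG : Nat.card G = a * b)
    (ha : 0 < a) : H.index = b := by
  have h := Subgroup.card_mul_index H
  rw [hH, hG] at h
  exact Nat.eq_of_mul_eq_mul_left ha h

variable [Finite G]

/-- the number of Sylow subgroups divides `b` if `|P| = a`, `|G| = a * b`. -/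
theorem card_sylow_dvd_of_card {p a b : ℕ} [Fact p.Prime] (P : Sylow p G) (hP : Nat.card P = a)
    (hG : Nat.card G = a * b) (ha : 0 < a) : Nat.card (Sylow p G) ∣ b := by
  have h1 := Sylow.card_dvd_index P
  rwa [index_of_card (P : Subgroup G) hP hG ha] at h1

theorem card_sylow_mul_card_normalizer (p : ℕ) [Fact p.Prime] (P : Sylow p G) :
    Nat.card (Sylow p G) * Nat.card (Subgroup.normalizer (P : Set G)) = Nat.card G := by
  rw [Sylow.card_eq_index_normalizer P, mul_comm, Subgroup.card_mul_index]

/-- Sylow subgroup has order `p` if `|G| = p * m` with `p ∤ m`. -/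
theorem card_sylow_of_card_eq (p m : ℕ) [hp : Fact p.Prime] (hG : Nat.card G = p * m)
    (hm : ¬ p ∣ m) (P : Sylow p G) : Nat.card P = p := by
  rw [Sylow.card_eq_multiplicity, hG]
  have hm0 : m ≠ 0 := fun h => hm (h ▸ dvd_zero p)
  rw [Nat.factorization_mul hp.out.ne_zero hm0]
  simp [hp.out.factorization_self, Nat.factorization_eq_zero_of_not_dvd hm]

/-- Sylow subgroup has order `p ^ k` if `|G| = p ^ k * m` with `p ∤ m`. -/
theorem card_sylow_of_card_eq_pow (p k m : ℕ) [hp : Fact p.Prime] (hG : Nat.card G = p ^ k * m)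
    (hm : ¬ p ∣ m) (P : Sylow p G) : Nat.card P = p ^ k := by
  rw [Sylow.card_eq_multiplicity, hG]
  have hm0 : m ≠ 0 := fun h => hm (h ▸ dvd_zero p)
  rw [Nat.factorization_mul (pow_ne_zero k hp.out.ne_zero) hm0]
  simp [hp.out.factorization_self, Nat.factorization_eq_zero_of_not_dvd hm]

/-- a subgroup all of whose elements commute normalizes each of its subgroups. -/
theorem le_normalizer_of_comm {T D : Subgroup G} (hcomm : ∀ a ∈ T, ∀ b ∈ T, a * b = b * a)
    (hDT : D ≤ T) : T ≤ Subgroup.normalizer (D : Set G) := by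
  intro x hx
  rw [Subgroup.mem_normalizer_iff]
  intro d
  have key : ∀ e ∈ T, x * e * x⁻¹ = e := by
    intro e he
    rw [hcomm x hx e he]; group
  constructor
  · intro hd; rw [key d (hDT hd)]; exact hd
  · intro hd
    have hdT : d ∈ T := by
      have h1 : x⁻¹ * (x * d * x⁻¹) * x = d := by group
      rw [← h1]
      exact T.mul_mem (T.mul_mem (T.inv_mem hx) (hDT hd)) hx
    rw [key d hdT] at hd
    exact hd

/-- If the number of Sylow `p`-subgroups is `1`, any Sylow `p`-subgroup is normal. -/
theorem normal_of_card_sylow_eq_one (p : ℕ) [Fact p.Prime] (h : Nat.card (Sylow p G) = 1)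
    (P : Sylow p G) : (P : Subgroup G).Normal := by
  haveI : Subsingleton (Sylow p G) := (Nat.card_eq_one_iff_unique.mp h).1
  exact Sylow.normal_of_subsingleton P

/-- `n ≡ 1 [MOD p]`, `n ∣ m`, `m` prime, `m < p` (or just `m ≢ 1`) gives `n = 1`. -/
theorem eq_one_of_dvd_prime_of_modEq {n m p : ℕ} (hm : m.Prime) (hmp : m < p)
    (hn : n ∣ m) (h1 : n ≡ 1 [MOD p]) : n = 1 := by
  rcases (Nat.dvd_prime hm).mp hn with h | h
  · exact h
  · subst h
    have h2 : n % p = 1 % p := h1
    rw [Nat.mod_eq_of_lt hmp, Nat.mod_eq_of_lt (lt_trans hm.one_lt hmp)] at h2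
    exact h2

/-- A subgroup of prime order is commutative: elementwise version. -/
theorem commute_of_card_prime {p : ℕ} [hp : Fact p.Prime] (H : Subgroup G) (hH : Nat.card H = p)
    {x y : G} (hx : x ∈ H) (hy : y ∈ H) : x * y = y * x := by
  haveI := isCyclic_of_prime_card hH
  letI := IsCyclic.commGroup (α := H)
  have := mul_comm (⟨x, hx⟩ : H) ⟨y, hy⟩
  exact congrArg Subtype.val this

/-- Burnside: if `N(P) = P` and `P` of prime order, there is a normal complement. -/
theorem exists_normal_complement_of_normalizer_eq {p : ℕ} [hp : Fact p.Prime] (P : Sylow p G)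
    (hP : Nat.card P = p) (hN : Subgroup.normalizer (P : Set G) = P) :
    ∃ K : Subgroup G, K.Normal ∧ Nat.card K * p = Nat.card G ∧ K ⊓ P = ⊥ := by
  have hle : Subgroup.normalizer (P : Set G) ≤ Subgroup.centralizer (P : Set G) := by
    rw [hN]
    intro x hx
    rw [Subgroup.mem_centralizer_iff]
    intro y hy
    exact commute_of_card_prime (P : Subgroup G) hP hy hx
  have hc := MonoidHom.ker_transferSylow_isComplement' P hle
  refine ⟨(MonoidHom.transferSylow P hle).ker, inferInstance, ?_, ?_⟩
  · have := hc.card_mul_card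
    rw [hP] at this
    exact this
  · exact hc.disjoint.eq_bot

/-- `N/C` theorem: `[N(H) : C(H)]` divides `|Aut H|`. -/
theorem relIndex_centralizer_normalizer_dvd (H : Subgroup G) :
    (Subgroup.centralizer (H : Set G)).relIndex (Subgroup.normalizer (H : Set G)) ∣
      Nat.card (MulAut H) := by
  have key := Subgroup.card_dvd_of_injective _
    (QuotientGroup.kerLift_injective H.normalizerMonoidHom)
  rwa [Subgroup.normalizerMonoidHom_ker, ← Subgroup.index, ← Subgroup.relIndex] at key

/-- For a Sylow subgroup of prime order, `N(P) ≤ C(P)` if `[N(P):P]` is coprime to `p - 1`. -/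
theorem normalizer_le_centralizer_of_coprime {p : ℕ} [hp : Fact p.Prime] (P : Sylow p G)
    (hP : Nat.card P = p)
    (hcop : Nat.Coprime ((P : Subgroup G).relIndex (Subgroup.normalizer ((P : Subgroup G) : Set G))) (p - 1)) :
    Subgroup.normalizer ((P : Subgroup G) : Set G) ≤ Subgroup.centralizer ((P : Subgroup G) : Set G) := by
  have hPC : (P : Subgroup G) ≤ Subgroup.centralizer ((P : Subgroup G) : Set G) := by
    intro x hx
    rw [Subgroup.mem_centralizer_iff]
    intro y hy
    exact commute_of_card_prime (P : Subgroup G) hP hy hx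
  have h1 := relIndex_centralizer_normalizer_dvd (P : Subgroup G)
  haveI : IsCyclic (P : Subgroup G) := isCyclic_of_prime_card hP
  have hP' : Nat.card (P : Subgroup G) = p := hP
  rw [IsCyclic.card_mulAut, hP', Nat.totient_prime hp.out] at h1
  have h2 : (Subgroup.centralizer ((P : Subgroup G) : Set G)).relIndex (Subgroup.normalizer ((P : Subgroup G) : Set G)) ∣
      (P : Subgroup G).relIndex (Subgroup.normalizer ((P : Subgroup G) : Set G)) :=
    Subgroup.relIndex_dvd_of_le_left _ hPC
  exact Subgroup.relIndex_eq_one.mp (Nat.eq_one_of_dvd_coprimes hcop h2 h1)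

/-- Burnside for Sylow subgroups of prime order, numerical form: if `|G| = p * n_p * c`
(so `|N(P)| = p * c`) with `c` coprime to `p - 1`, there is a normal `p`-complement. -/
theorem exists_normal_complement_of_coprime {p c : ℕ} [hp : Fact p.Prime] (P : Sylow p G)
    (hP : Nat.card P = p) (hN : Nat.card (Subgroup.normalizer ((P : Subgroup G) : Set G)) = p * c)
    (hcop : Nat.Coprime c (p - 1)) :
    ∃ K : Subgroup G, K.Normal ∧ Nat.card K * p = Nat.card G ∧ K ⊓ P = ⊥ := by
  have hrel : (P : Subgroup G).relIndex (Subgroup.normalizer ((P : Subgroup G) : Set G)) = c := by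
    have h := card_mul_relIndex (Subgroup.le_normalizer : (P : Subgroup G) ≤ _)
    have hP' : Nat.card (P : Subgroup G) = p := hP
    rw [hP', hN] at h
    exact Nat.eq_of_mul_eq_mul_left hp.out.pos h
  have hle := normalizer_le_centralizer_of_coprime P hP (by rw [hrel]; exact hcop)
  have hc := MonoidHom.ker_transferSylow_isComplement' P hle
  refine ⟨(MonoidHom.transferSylow P hle).ker, inferInstance, ?_, ?_⟩
  · have := hc.card_mul_card
    have hP' : Nat.card (P : Subgroup G) = p := hP
    rw [hP'] at this
    exact this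
  · exact hc.disjoint.eq_bot

/-- A simple group with a Sylow subgroup of prime order `p`, `|G| ≠ p`, cannot have
`|N(P)| = p * c` with `c` coprime to `p - 1`. -/
theorem false_of_simple_of_coprime [IsSimpleGroup G] {p c : ℕ} [hp : Fact p.Prime] (P : Sylow p G)
    (hP : Nat.card P = p) (hN : Nat.card (Subgroup.normalizer ((P : Subgroup G) : Set G)) = p * c)
    (hcop : Nat.Coprime c (p - 1)) (hG : Nat.card G ≠ p) : False := by
  obtain ⟨K, hKn, hKcard, hKP⟩ := exists_normal_complement_of_coprime P hP hN hcop
  rcases hKn.eq_bot_or_eq_top with h | h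
  · rw [h] at hKcard
    simp at hKcard
    exact hG hKcard.symm
  · rw [h, Subgroup.card_top] at hKcard
    have : Nat.card G * p = Nat.card G * 1 := by rw [hKcard, mul_one]
    have := Nat.eq_of_mul_eq_mul_left Nat.card_pos this
    exact hp.out.one_lt.ne' this

/-- In a simple group, a Sylow subgroup which is neither trivial nor the whole group
is not unique. -/
theorem card_sylow_ne_one_of_card [IsSimpleGroup G] {p a : ℕ} [Fact p.Prime] (P : Sylow p G)
    (hP : Nat.card P = a) (h1 : a ≠ 1) (h2 : Nat.card G ≠ a) : Nat.card (Sylow p G) ≠ 1 := by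
  intro h
  have hn := normal_of_card_sylow_eq_one p h P
  have hP' : Nat.card (P : Subgroup G) = a := hP
  rcases hn.eq_bot_or_eq_top with e | e
  · rw [e] at hP'
    simp at hP'
    exact h1 hP'.symm
  · rw [e, Subgroup.card_top] at hP'
    exact h2 hP'

end Cfsg.Agent.Lib.Lead.SylowCount
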