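import Mathlib
import Cfsg.Agent.Lib.Helper1.ClassTwo
import Cfsg.Agent.Lib.Helper1.FrattiniP
import Cfsg.Agent.Lib.Helper1.MaxAbelianNormal
import Cfsg.Agent.Lib.Helper2.AbelianCyclic
import Cfsg.Agent.Lib.Helper3.QuatLift

set_option autoImplicit false

/-!
# `p`-groups with a unique subgroup of order `p`

Such a group is cyclic or (for `p = 2`) generalised quaternion.  The hypothesis is used in the
elementwise form `UOP p G`: `x ^ p = 1`, `y ^ p = 1`, `x ≠ 1` imply `y ∈ ⟨x⟩`.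
-/

namespace Cfsg.Agent.Lib.Lead.UniqueP

open Cfsg.Agent.Lib.Helper1 Cfsg.Agent.Lib.Helper2 Cfsg.Agent.Lib.Helper3

/-- Elementwise form of "at most one subgroup of order `p`". -/
def UOP (p : ℕ) (G : Type*) [Group G] : Prop :=
  ∀ x y : G, x ^ p = 1 → y ^ p = 1 → x ≠ 1 → y ∈ Subgroup.zpowers x

theorem uop_of_uniq {G : Type*} [Group G] (p : ℕ) [hp : Fact p.Prime]
    (huniq : ∀ H K : Subgroup G, Nat.card H = p → Nat.card K = p → H = K) : UOP p G := by
  intro x y hx hy hx1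
  by_cases hy1 : y = 1
  · rw [hy1]; exact one_mem _
  have ox : orderOf x = p := orderOf_eq_prime hx hx1
  have oy : orderOf y = p := orderOf_eq_prime hy hy1
  have := huniq (Subgroup.zpowers x) (Subgroup.zpowers y) (by rw [Nat.card_zpowers, ox])
    (by rw [Nat.card_zpowers, oy])
  rw [this]; exact Subgroup.mem_zpowers y

theorem UOP.subgroup {G : Type*} [Group G] {p : ℕ} (h : UOP p G) (H : Subgroup G) : UOP p H := by
  intro x y hx hy hx1
  have h1 := h (x : G) (y : G) (by rw [← Subgroup.coe_pow, hx]; rfl)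
    (by rw [← Subgroup.coe_pow, hy]; rfl) (fun e => hx1 (Subtype.ext e))
  obtain ⟨k, hk⟩ := Subgroup.mem_zpowers_iff.mp h1
  rw [Subgroup.mem_zpowers_iff]
  exact ⟨k, Subtype.ext (by rw [Subgroup.coe_zpow]; exact hk)⟩

/-- Abelian case. -/
theorem isCyclic_of_comm {A : Type*} [CommGroup A] [Finite A] (p : ℕ) [hp : Fact p.Prime]
    (hA : IsPGroup p A) (hu : UOP p A) : IsCyclic A := by
  apply isCyclic_of_card_torsionSub_le
  intro q hq
  by_cases hqp : q = p
  · subst hqp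
    by_cases hex : ∃ x : A, x ^ q = 1 ∧ x ≠ 1
    · obtain ⟨x, hx, hx1⟩ := hex
      have hle : torsionSub A q ≤ Subgroup.zpowers x :=
        fun y hy => hu x y hx (mem_torsionSub.mp hy) hx1
      calc Nat.card (torsionSub A q) ≤ Nat.card (Subgroup.zpowers x) := Subgroup.card_le_of_le hle
        _ = q := by rw [Nat.card_zpowers, orderOf_eq_prime hx hx1]
    · push Not at hex
      have : torsionSub A q = ⊥ := by
        rw [eq_bot_iff]; intro y hy; rw [Subgroup.mem_bot]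
        exact hex y (mem_torsionSub.mp hy)
      rw [this, Subgroup.card_bot]; exact hq.one_lt.le
  · have : torsionSub A q = ⊥ := by
      rw [eq_bot_iff]; intro y hy; rw [Subgroup.mem_bot]
      obtain ⟨k, hk⟩ := hA y
      have h1 : orderOf y ∣ q := orderOf_dvd_of_pow_eq_one (mem_torsionSub.mp hy)
      have h2 : orderOf y ∣ p ^ k := orderOf_dvd_of_pow_eq_one hk
      have h3 : orderOf y ∣ Nat.gcd q (p ^ k) := Nat.dvd_gcd h1 h2
      rw [Nat.Coprime.pow_right k ((Nat.coprime_primes hq hp.out).mpr hqp)] at h3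
      exact orderOf_eq_one_iff.mp (Nat.dvd_one.mp h3)
    rw [this, Subgroup.card_bot]; exact hq.one_lt.le

/-- Arithmetic core for the case `p = 2`. -/
theorem arith (m k s : ℕ) (hk : 1 ≤ k) (h1 : ∀ i : ℕ, ¬ 2 ^ m ∣ (k + 1) * i + s)
    (h2 : 2 ^ m ∣ (k - 1) * s) (h4 : ¬ 2 ^ m ∣ k - 1) : 2 ^ m ∣ k + 1 := by
  have hs0 : s ≠ 0 := by
    intro h0
    apply h1 0
    rw [h0]; simp
  obtain ⟨t, o, ho, hko⟩ := Nat.exists_eq_two_pow_mul_odd (n := k + 1) (by omega)
  obtain ⟨v, s', hs', hss⟩ := Nat.exists_eq_two_pow_mul_odd hs0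
  -- Step A : v < t
  have hvt : v < t := by
    by_contra hcon
    push Not at hcon
    -- o is a unit mod 2^m
    have hcop : Nat.Coprime o (2 ^ m) := Nat.Coprime.pow_right m (Nat.coprime_two_right.mpr ho)
    let u : (ZMod (2 ^ m))ˣ := ZMod.unitOfCoprime o hcop
    have hNZ : NeZero (2 ^ m) := ⟨by positivity⟩
    let c : ℕ := 2 ^ (v - t) * s'
    let i : ZMod (2 ^ m) := - ((u⁻¹ : (ZMod (2 ^ m))ˣ) : ZMod (2 ^ m)) * (c : ZMod (2 ^ m))
    apply h1 i.val
    rw [← ZMod.natCast_eq_zero_iff]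
    push_cast
    rw [ZMod.natCast_zmod_val]
    have e1 : ((k : ZMod (2 ^ m)) + 1) = (2 : ZMod (2 ^ m)) ^ t * (o : ZMod (2 ^ m)) := by
      have := congrArg (fun n : ℕ => (n : ZMod (2 ^ m))) hko
      push_cast at this
      exact this
    have e2 : (s : ZMod (2 ^ m)) = (2 : ZMod (2 ^ m)) ^ t * (c : ZMod (2 ^ m)) := by
      have : s = 2 ^ t * c := by
        show s = 2 ^ t * (2 ^ (v - t) * s')
        rw [← mul_assoc, ← pow_add, Nat.add_sub_cancel' hcon]; exact hss
      have := congrArg (fun n : ℕ => (n : ZMod (2 ^ m))) this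
      push_cast at this
      exact this
    have e3 : (o : ZMod (2 ^ m)) * ((u⁻¹ : (ZMod (2 ^ m))ˣ) : ZMod (2 ^ m)) = 1 := by
      have : (u : ZMod (2 ^ m)) = (o : ZMod (2 ^ m)) := ZMod.coe_unitOfCoprime o hcop
      rw [← this]
      exact Units.mul_inv u
    rw [e1, e2]
    show (2 : ZMod (2 ^ m)) ^ t * (o : ZMod (2 ^ m)) *
      (- ((u⁻¹ : (ZMod (2 ^ m))ˣ) : ZMod (2 ^ m)) * (c : ZMod (2 ^ m))) + 2 ^ t * (c : ZMod (2 ^ m)) = 0
    calc (2 : ZMod (2 ^ m)) ^ t * (o : ZMod (2 ^ m)) *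
          (- ((u⁻¹ : (ZMod (2 ^ m))ˣ) : ZMod (2 ^ m)) * (c : ZMod (2 ^ m))) + 2 ^ t * (c : ZMod (2 ^ m))
        = - (2 ^ t * ((o : ZMod (2 ^ m)) * ((u⁻¹ : (ZMod (2 ^ m))ˣ) : ZMod (2 ^ m))) * c) + 2 ^ t * c := by
          ring
      _ = 0 := by rw [e3]; ring
  -- Step B
  have hdvd_t : 2 ^ (v + 1) ∣ k + 1 := by
    rw [hko]
    exact Dvd.dvd.mul_right (pow_dvd_pow 2 hvt) o
  by_cases hvm : m ≤ v
  · exact (pow_dvd_pow 2 (by omega : m ≤ v + 1)).trans hdvd_t
  push Not at hvm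
  -- 2^(m-v) ∣ k - 1
  have h5 : 2 ^ (m - v) ∣ k - 1 := by
    have hcop : Nat.Coprime (2 ^ (m - v)) s' :=
      Nat.Coprime.pow_left _ (Nat.coprime_two_left.mpr hs')
    have h6 : 2 ^ v * 2 ^ (m - v) ∣ 2 ^ v * ((k - 1) * s') := by
      rw [← pow_add, Nat.add_sub_cancel' hvm.le]
      have : 2 ^ v * ((k - 1) * s') = (k - 1) * s := by rw [hss]; ring
      rw [this]; exact h2
    have h7 : 2 ^ (m - v) ∣ (k - 1) * s' := Nat.dvd_of_mul_dvd_mul_left (by positivity) h6
    exact hcop.dvd_of_dvd_mul_right h7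
  rcases Nat.eq_zero_or_pos v with hv0 | hvpos
  · subst hv0
    exact absurd h5 h4
  · -- 4 ∣ k + 1, so 4 ∤ k - 1, so m - v ≤ 1
    have h4' : 4 ∣ k + 1 := by
      have : (4 : ℕ) = 2 ^ 2 := by norm_num
      rw [this]
      exact (pow_dvd_pow 2 (by omega : 2 ≤ v + 1)).trans hdvd_t
    have hmv : m - v ≤ 1 := by
      by_contra hcon
      push Not at hcon
      have h8 : 4 ∣ k - 1 := by
        have : (4 : ℕ) = 2 ^ 2 := by norm_num
        rw [this]
        exact (pow_dvd_pow 2 hcon).trans h5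
      omega
    exact (pow_dvd_pow 2 (by omega : m ≤ v + 1)).trans hdvd_t

section two
variable {G : Type*} [Group G] [Finite G]

theorem exists_nat_pow_of_mem_zpowers {a x : G} (hx : x ∈ Subgroup.zpowers a) :
    ∃ n : ℕ, a ^ n = x := by
  have := mem_powers_iff_mem_zpowers.mpr hx
  exact (Submonoid.mem_powers_iff _ _).mp this

/-- Key claim: if `⟨a⟩` is a cyclic `2`-subgroup containing every `x` with `x ^ 2 = 1`, and
`g ∉ ⟨a⟩` normalises `⟨a⟩`, does not centralise `a` and has `g ^ 2 ∈ ⟨a⟩`, then `g` inverts `a`. -/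
theorem inverts_of_sq_mem (a g : G) (m : ℕ) (hoa : orderOf a = 2 ^ m)
    (hnorm : g * a * g⁻¹ ∈ Subgroup.zpowers a) (hg : g ∉ Subgroup.zpowers a)
    (hg2 : g ^ 2 ∈ Subgroup.zpowers a)
    (hU : ∀ x : G, x ^ 2 = 1 → x ∈ Subgroup.zpowers a) (hnc : g * a * g⁻¹ ≠ a) :
    g * a * g⁻¹ = a⁻¹ := by
  obtain ⟨k0, hk0⟩ := exists_nat_pow_of_mem_zpowers hnorm
  obtain ⟨s, hs⟩ := exists_nat_pow_of_mem_zpowers hg2
  have hk : a ^ (k0 + 2 ^ m) = g * a * g⁻¹ := by
    rw [pow_add, hk0, ← hoa, pow_orderOf_eq_one, mul_one]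
  have hk1 : 1 ≤ k0 + 2 ^ m := Nat.le_add_left_of_le Nat.one_le_two_pow
  generalize k0 + 2 ^ m = k at hk hk1
  have hconj : ∀ i : ℕ, g * a ^ i * g⁻¹ = a ^ (k * i) := by
    intro i
    rw [← conj_pow, ← hk, ← pow_mul]
  have h1 : ∀ i : ℕ, ¬ 2 ^ m ∣ (k + 1) * i + s := by
    intro i hdvd
    rw [← hoa] at hdvd
    have e1 : a ^ ((k + 1) * i + s) = 1 := orderOf_dvd_iff_pow_eq_one.mp hdvd
    have e2 : (g * a ^ i) ^ 2 = a ^ ((k + 1) * i + s) := by
      have : (g * a ^ i) ^ 2 = (g * a ^ i * g⁻¹) * g ^ 2 * a ^ i := by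
        rw [pow_two, pow_two]; group
      rw [this, hconj, ← hs, ← pow_add, ← pow_add]
      congr 1; ring
    have e3 : g * a ^ i ∈ Subgroup.zpowers a := hU _ (by rw [e2, e1])
    apply hg
    have : g = (g * a ^ i) * (a ^ i)⁻¹ := by group
    rw [this]
    exact Subgroup.mul_mem _ e3 (Subgroup.inv_mem _ (Subgroup.pow_mem _ (Subgroup.mem_zpowers a) i))
  have h2 : 2 ^ m ∣ (k - 1) * s := by
    rw [← hoa]
    apply orderOf_dvd_of_pow_eq_one
    have e1 : a ^ (k * s) = a ^ s := by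
      rw [← hconj, hs]
      rw [pow_two]; group
    have e2 : a ^ ((k - 1) * s) * a ^ s = a ^ s := by
      rw [← pow_add]
      have : (k - 1) * s + s = k * s := by
        have : k = (k - 1) + 1 := by omega
        conv_rhs => rw [this]
        ring
      rw [this, e1]
    exact mul_eq_right.mp e2
  have h4 : ¬ 2 ^ m ∣ k - 1 := by
    intro hdvd
    rw [← hoa] at hdvd
    have e1 : a ^ (k - 1) = 1 := orderOf_dvd_iff_pow_eq_one.mp hdvd
    apply hnc
    rw [← hk]
    have : k = (k - 1) + 1 := by omega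
    rw [this, pow_succ, e1, one_mul]
  have h5 := arith m k s hk1 h1 h2 h4
  rw [← hoa] at h5
  have e1 : a ^ (k + 1) = 1 := orderOf_dvd_iff_pow_eq_one.mp h5
  rw [← hk]
  rw [pow_succ] at e1
  exact eq_inv_of_mul_eq_one_left e1

end two

section twoMain
variable {G : Type*} [Group G] [Finite G]

theorem comm_of_isCyclic {H : Type*} [Group H] [hc : IsCyclic H] (x y : H) : x * y = y * x := by
  obtain ⟨g, hg⟩ := IsCyclic.exists_generator (α := H)
  obtain ⟨m, rfl⟩ := Subgroup.mem_zpowers_iff.mp (hg x)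
  obtain ⟨n, rfl⟩ := Subgroup.mem_zpowers_iff.mp (hg y)
  exact (Commute.zpow_zpow_self g m n).eq

theorem two_group (hG : IsPGroup 2 G) (hu : UOP 2 G) :
    IsCyclic G ∨ ∃ n : ℕ, Nonempty (G ≃* QuaternionGroup (2 ^ n)) := by
  classical
  haveI : Fact (Nat.Prime 2) := ⟨Nat.prime_two⟩
  haveI : Group.IsNilpotent G := hG.isNilpotent
  -- maximal normal abelian subgroup
  obtain ⟨A, ⟨hAn, hAc⟩, hAmax⟩ : ∃ A : Subgroup G, (A.Normal ∧ IsMulCommutative A) ∧
      ∀ M : Subgroup G, M.Normal → IsMulCommutative M → A ≤ M → M = A := by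
    have hS : {M : Subgroup G | M.Normal ∧ IsMulCommutative M}.Finite := Set.toFinite _
    obtain ⟨A, -, hA⟩ := hS.exists_le_maximal
      (show (⊥ : Subgroup G) ∈ {M : Subgroup G | M.Normal ∧ IsMulCommutative M} from
        ⟨inferInstance, ⟨⟨fun a b => Subsingleton.elim _ _⟩⟩⟩)
    exact ⟨A, hA.prop, fun M hMn hMc hAM => (hA.eq_of_le ⟨hMn, hMc⟩ hAM).symm⟩
  haveI := hAn
  haveI := hAc
  have hCA : Subgroup.centralizer (A : Set G) = A :=
    centralizer_eq_of_maximal_abelian_normal A hAmax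
  letI : CommGroup A := { (inferInstance : Group A) with mul_comm := fun a b => mul_comm' a b }
  have hAcyc : IsCyclic A := isCyclic_of_comm 2 (hG.to_subgroup A) (hu.subgroup A)
  by_cases hAtop : A = ⊤
  · left
    rw [hAtop] at hAcyc
    exact isCyclic_of_surjective (Subgroup.topEquiv : (⊤ : Subgroup G) ≃* G)
      (MulEquiv.surjective _)
  right
  obtain ⟨⟨a, haA⟩, hgen⟩ := hAcyc.exists_generator
  have hAz : A = Subgroup.zpowers a := by
    apply le_antisymm
    · intro x hx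
      obtain ⟨k, hk⟩ := Subgroup.mem_zpowers_iff.mp (hgen ⟨x, hx⟩)
      rw [Subgroup.mem_zpowers_iff]
      refine ⟨k, ?_⟩
      have := congrArg Subtype.val hk
      simpa using this
    · exact (Subgroup.zpowers_le).mpr haA
  obtain ⟨m, hm⟩ : ∃ m, orderOf a = 2 ^ m := by
    obtain ⟨k, hk⟩ := hG a
    obtain ⟨j, -, hj⟩ := (Nat.dvd_prime_pow Nat.prime_two).mp (orderOf_dvd_of_pow_eq_one hk)
    exact ⟨j, hj⟩
  -- A ≠ ⊥
  have hA1 : a ≠ 1 := by
    intro h1
    apply hAtop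
    rw [← hCA, hAz, h1, Subgroup.zpowers_one_eq_bot]
    rw [eq_top_iff]
    intro x _
    rw [Subgroup.mem_centralizer_iff]
    intro y hy
    rw [Subgroup.coe_bot, Set.mem_singleton_iff] at hy
    rw [hy, one_mul, mul_one]
  have hm1 : 1 ≤ m := by
    rcases Nat.eq_zero_or_pos m with h0 | h0
    · rw [h0, pow_zero, orderOf_eq_one_iff] at hm
      exact absurd hm hA1
    · exact h0
  -- the involution
  set z := a ^ (2 ^ (m - 1)) with hz
  have hz2 : z ^ 2 = 1 := by
    rw [hz, ← pow_mul, ← pow_succ, Nat.sub_add_cancel hm1, ← hm, pow_orderOf_eq_one]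
  have hz1 : z ≠ 1 := by
    apply pow_ne_one_of_lt_orderOf (by positivity)
    rw [hm]
    exact Nat.pow_lt_pow_right (by norm_num) (by omega)
  have hzA : z ∈ Subgroup.zpowers a := Subgroup.pow_mem _ (Subgroup.mem_zpowers a) _
  have hU : ∀ x : G, x ^ 2 = 1 → x ∈ Subgroup.zpowers a := by
    intro x hx
    have := hu z x hz2 hx hz1
    exact (Subgroup.zpowers_le.mpr hzA) this
  have hnormA : ∀ g : G, g * a * g⁻¹ ∈ Subgroup.zpowers a := by
    intro g
    rw [← hAz]
    exact hAn.conj_mem a haA g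
  have hcent : ∀ g : G, g * a * g⁻¹ = a → g ∈ Subgroup.zpowers a := by
    intro g hga
    rw [← hAz, ← hCA, Subgroup.mem_centralizer_iff]
    intro y hy
    rw [SetLike.mem_coe, hAz] at hy
    obtain ⟨k, rfl⟩ := Subgroup.mem_zpowers_iff.mp hy
    have hc : Commute g a := by
      show g * a = a * g
      calc g * a = (g * a * g⁻¹) * g := by group
        _ = a * g := by rw [hga]
    exact (hc.zpow_right k).eq.symm
  -- Claim 1
  have claim1 : ∀ g : G, g ∉ Subgroup.zpowers a → g ^ 2 ∈ Subgroup.zpowers a →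
      g * a * g⁻¹ = a⁻¹ := by
    intro g hg hg2
    exact inverts_of_sq_mem a g m hm (hnormA g) hg hg2 hU (fun h => hg (hcent g h))
  -- descent
  have descent : ∀ g : G, g ∉ Subgroup.zpowers a →
      ∃ e : ℕ, 1 ≤ e ∧ g ^ (2 ^ e) ∈ Subgroup.zpowers a ∧ g ^ (2 ^ (e - 1)) ∉ Subgroup.zpowers a := by
    intro g hg
    have hex : ∃ e : ℕ, g ^ (2 ^ e) ∈ Subgroup.zpowers a := by
      obtain ⟨k, hk⟩ := hG g
      exact ⟨k, by rw [hk]; exact one_mem _⟩
    refine ⟨Nat.find hex, ?_, Nat.find_spec hex, ?_⟩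
    · rcases Nat.eq_zero_or_pos (Nat.find hex) with h0 | h0
      · have := Nat.find_spec hex
        rw [h0, pow_zero, pow_one] at this
        exact absurd this hg
      · exact h0
    · have h1 : 1 ≤ Nat.find hex := by
        rcases Nat.eq_zero_or_pos (Nat.find hex) with h0 | h0
        · have := Nat.find_spec hex
          rw [h0, pow_zero, pow_one] at this
          exact absurd this hg
        · exact h0
      exact Nat.find_min hex (by omega)
  -- pick g outside A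
  obtain ⟨g₀, hg₀⟩ : ∃ g : G, g ∉ Subgroup.zpowers a := by
    by_contra hcon
    push Not at hcon
    apply hAtop
    rw [hAz, eq_top_iff]
    intro x _
    exact hcon x
  -- m ≥ 2
  have hm2 : 2 ≤ m := by
    obtain ⟨e, he1, he2, he3⟩ := descent g₀ hg₀
    have hu2 : (g₀ ^ (2 ^ (e - 1))) ^ 2 ∈ Subgroup.zpowers a := by
      rw [← pow_mul, ← pow_succ, Nat.sub_add_cancel he1]; exact he2
    have hinv := claim1 _ he3 hu2
    by_contra hcon
    have hm' : m = 1 := by omega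
    rw [hm', pow_one] at hm
    have ha2 : a ^ 2 = 1 := by rw [← hm]; exact pow_orderOf_eq_one a
    have : a⁻¹ = a := by
      rw [inv_eq_iff_mul_eq_one, ← pow_two]; exact ha2
    rw [this] at hinv
    exact he3 (hcent _ hinv)
  -- Claim 2'
  have claim2' : ∀ u : G, u ^ 4 ∈ Subgroup.zpowers a → u ^ 2 ∈ Subgroup.zpowers a := by
    intro u hu4
    by_contra hu2
    have h4 : (u ^ 2) ^ 2 ∈ Subgroup.zpowers a := by rw [← pow_mul]; exact hu4
    have hinv := claim1 _ hu2 h4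
    obtain ⟨k, hk⟩ := exists_nat_pow_of_mem_zpowers (hnormA u)
    have e1 : u ^ 2 * a * (u ^ 2)⁻¹ = a ^ (k * k) := by
      calc u ^ 2 * a * (u ^ 2)⁻¹ = u * (u * a * u⁻¹) * u⁻¹ := by rw [pow_two]; group
        _ = u * a ^ k * u⁻¹ := by rw [hk]
        _ = (u * a * u⁻¹) ^ k := by rw [conj_pow]
        _ = a ^ (k * k) := by rw [← hk, ← pow_mul]
    rw [e1] at hinv
    have e2 : a ^ (k * k + 1) = 1 := by
      rw [pow_succ, hinv, inv_mul_cancel]
    have e3 : 2 ^ m ∣ k * k + 1 := by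
      rw [← hm]; exact orderOf_dvd_of_pow_eq_one e2
    have e4 : 4 ∣ k * k + 1 := by
      have : (4 : ℕ) = 2 ^ 2 := by norm_num
      rw [this]
      exact (pow_dvd_pow 2 hm2).trans e3
    have e5 : (k * k + 1) % 4 = 0 := Nat.mod_eq_zero_of_dvd e4
    have e6 : k % 4 < 4 := Nat.mod_lt _ (by norm_num)
    rw [Nat.add_mod, Nat.mul_mod] at e5
    interval_cases (k % 4) <;> simp at e5
  -- Claim 2
  have claim2 : ∀ g : G, g ∉ Subgroup.zpowers a → g ^ 2 ∈ Subgroup.zpowers a := by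
    intro g hg
    by_contra hg2
    obtain ⟨e, he1, he2, he3⟩ := descent g hg
    have he2' : 2 ≤ e := by
      by_contra hcon
      have : e = 1 := by omega
      rw [this, pow_one] at he2
      exact hg2 he2
    apply he3
    have h1 : g ^ (2 ^ (e - 1)) = (g ^ (2 ^ (e - 2))) ^ 2 := by
      rw [← pow_mul, ← pow_succ]
      congr 2
      omega
    rw [h1]
    apply claim2'
    rw [← pow_mul]
    have : 2 ^ (e - 2) * 4 = 2 ^ e := by
      have : (4 : ℕ) = 2 ^ 2 := by norm_num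
      rw [this, ← pow_add]
      congr 1
      omega
    rw [this]
    exact he2
  have inv_all : ∀ g : G, g ∉ Subgroup.zpowers a → g * a * g⁻¹ = a⁻¹ :=
    fun g hg => claim1 g hg (claim2 g hg)
  -- Claim 3
  have claim3 : ∀ g h : G, g ∉ Subgroup.zpowers a → h ∉ Subgroup.zpowers a →
      g * h⁻¹ ∈ Subgroup.zpowers a := by
    intro g h hg hh
    apply hcent
    have h1 := inv_all g hg
    have h2 := inv_all h hh
    have h3 : h⁻¹ * a * h = a⁻¹ := by
      have : h * a⁻¹ * h⁻¹ = a := by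
        calc h * a⁻¹ * h⁻¹ = (h * a * h⁻¹)⁻¹ := by group
          _ = a := by rw [h2, inv_inv]
      calc h⁻¹ * a * h = h⁻¹ * (h * a⁻¹ * h⁻¹) * h := by rw [this]
        _ = a⁻¹ := by group
    calc g * h⁻¹ * a * (g * h⁻¹)⁻¹ = g * (h⁻¹ * a * h) * g⁻¹ := by group
      _ = g * a⁻¹ * g⁻¹ := by rw [h3]
      _ = (g * a * g⁻¹)⁻¹ := by group
      _ = a := by rw [h1, inv_inv]
  -- g₀² = z
  have hg2 : g₀ * g₀ = z := by
    have hmem := claim2 g₀ hg₀
    obtain ⟨s, hs⟩ := exists_nat_pow_of_mem_zpowers hmem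
    have hinv : g₀ * g₀ ^ 2 * g₀⁻¹ = (g₀ ^ 2)⁻¹ := by
      rw [← hs, ← conj_pow, inv_all g₀ hg₀, inv_pow]
    have hfix : g₀ * g₀ ^ 2 * g₀⁻¹ = g₀ ^ 2 := by group
    have h4 : (g₀ ^ 2) ^ 2 = 1 := by
      rw [pow_two (g₀ ^ 2)]
      nth_rewrite 1 [← hfix]
      rw [hinv, inv_mul_cancel]
    have hne : g₀ ^ 2 ≠ 1 := fun h => hg₀ (hU g₀ h)
    have h5 := hu (g₀ ^ 2) z h4 hz2 hne
    obtain ⟨j, hj⟩ := exists_nat_pow_of_mem_zpowers h5
    have h6 : (g₀ ^ 2) ^ j = (g₀ ^ 2) ^ (j % 2) := pow_eq_pow_mod j h4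
    rw [h6] at hj
    have h7 : j % 2 < 2 := Nat.mod_lt _ (by norm_num)
    interval_cases (j % 2)
    · rw [pow_zero] at hj; exact absurd hj.symm hz1
    · rw [pow_one] at hj; rw [← hj, pow_two]
  -- the isomorphism
  haveI : NeZero (2 ^ (m - 1)) := ⟨by positivity⟩
  have h2n : 2 * 2 ^ (m - 1) = 2 ^ m := by
    rw [← pow_succ', Nat.sub_add_cancel hm1]
  have hA' : a ^ (2 * 2 ^ (m - 1)) = 1 := by rw [h2n, ← hm]; exact pow_orderOf_eq_one a
  let f := quatLift (2 ^ (m - 1)) a g₀ hA' hg2 (inv_all g₀ hg₀)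
  have ha_range : a ∈ f.range := by
    refine ⟨QuaternionGroup.a ((1 : ℕ) : ZMod (2 * 2 ^ (m - 1))), ?_⟩
    rw [quatLift_a_natCast, pow_one]
  have hg_range : g₀ ∈ f.range := by
    refine ⟨QuaternionGroup.xa 0, ?_⟩
    rw [quatLift_xa, zmodPw_zero, mul_one]
  have hsurj : Function.Surjective f := by
    intro x
    rw [← MonoidHom.mem_range]
    by_cases hx : x ∈ Subgroup.zpowers a
    · exact (Subgroup.zpowers_le.mpr ha_range) hx
    · have h1 : x * g₀⁻¹ ∈ f.range := (Subgroup.zpowers_le.mpr ha_range) (claim3 x g₀ hx hg₀)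
      have : x = (x * g₀⁻¹) * g₀ := by group
      rw [this]
      exact Subgroup.mul_mem _ h1 hg_range
  have hidx : (Subgroup.zpowers a).index = 2 := by
    rw [Subgroup.index_eq_two_iff]
    refine ⟨g₀, fun b => ?_⟩
    by_cases hb : b ∈ Subgroup.zpowers a
    · refine Or.inr ⟨hb, fun hbg => hg₀ ?_⟩
      have : g₀ = b⁻¹ * (b * g₀) := by group
      rw [this]
      exact Subgroup.mul_mem _ (Subgroup.inv_mem _ hb) hbg
    · refine Or.inl ⟨?_, hb⟩
      have hginv : g₀⁻¹ ∉ Subgroup.zpowers a := fun h => hg₀ (by simpa using Subgroup.inv_mem _ h)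
      have := claim3 b g₀⁻¹ hb hginv
      rwa [inv_inv] at this
  have hcard : Nat.card (QuaternionGroup (2 ^ (m - 1))) = Nat.card G := by
    rw [Nat.card_eq_fintype_card, QuaternionGroup.card, ← (Subgroup.zpowers a).card_mul_index, hidx,
      Nat.card_zpowers, hm, ← h2n]
    ring
  have hbij : Function.Bijective f := (Nat.bijective_iff_surjective_and_card f).mpr ⟨hsurj, hcard⟩
  exact ⟨m - 1, ⟨(MulEquiv.ofBijective f hbij).symm⟩⟩

end twoMain

theorem card_lt_of_lt {G : Type*} [Group G] [Finite G] {D E : Subgroup G} (h : D < E) :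
    Nat.card D < Nat.card E := by
  by_contra hle
  push Not at hle
  exact h.ne (Subgroup.eq_of_le_of_card_ge h.le hle)

section odd
open scoped commutatorElement
universe u

theorem odd_aux (p : ℕ) [hp : Fact p.Prime] (hp2 : p ≠ 2) :
    ∀ (N : ℕ) (G : Type u) [Group G] [Finite G], Nat.card G = N → IsPGroup p G → UOP p G →
      IsCyclic G := by
  intro N
  induction N using Nat.strong_induction_on with
  | _ N ih =>
  intro G _ _ hN hG hu
  by_contra hnc
  have hbt : (⊥ : Subgroup G) ≠ ⊤ := by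
    intro h
    apply hnc
    haveI : Subsingleton G := by
      refine ⟨fun a b => ?_⟩
      have ha : a ∈ (⊥ : Subgroup G) := by rw [h]; trivial
      have hb : b ∈ (⊥ : Subgroup G) := by rw [h]; trivial
      rw [Subgroup.mem_bot.mp ha, Subgroup.mem_bot.mp hb]
    exact isCyclic_of_subsingleton
  obtain ⟨M₁, hM₁, -⟩ := (eq_top_or_exists_le_coatom (⊥ : Subgroup G)).resolve_left hbt
  obtain ⟨x, hx⟩ : ∃ x : G, x ∉ M₁ := by
    by_contra hcon
    push Not at hcon
    exact hM₁.1 (eq_top_iff.mpr fun y _ => hcon y)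
  have hzx : Subgroup.zpowers x ≠ ⊤ := by
    intro h
    apply hnc
    refine ⟨⟨x, fun y => ?_⟩⟩
    have : y ∈ Subgroup.zpowers x := by rw [h]; trivial
    exact this
  obtain ⟨M₂, hM₂, hxM₂⟩ := (eq_top_or_exists_le_coatom (Subgroup.zpowers x)).resolve_left hzx
  have hne : M₁ ≠ M₂ := by
    intro h
    apply hx
    rw [h]
    exact hxM₂ (Subgroup.mem_zpowers x)
  have hlt : ∀ M : Subgroup G, M ≠ ⊤ → Nat.card M < N := by
    intro M hM
    rw [← hN]
    by_contra hcon
    push Not at hcon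
    exact hM (Subgroup.eq_top_of_le_card M hcon)
  have hc₁ : IsCyclic M₁ := ih _ (hlt M₁ hM₁.1) M₁ rfl (hG.to_subgroup M₁) (hu.subgroup M₁)
  have hc₂ : IsCyclic M₂ := ih _ (hlt M₂ hM₂.1) M₂ rfl (hG.to_subgroup M₂) (hu.subgroup M₂)
  have hsup : M₁ ⊔ M₂ = ⊤ := by
    rcases hM₁.le_iff.mp (le_sup_left : M₁ ≤ M₁ ⊔ M₂) with h | h
    · exact h
    · exfalso
      have h21 : M₂ ≤ M₁ := by rw [← h]; exact le_sup_right
      rcases hM₂.le_iff.mp h21 with h' | h'
      · exact hM₁.1 h'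
      · exact hne h'
  have hfr : frattini G ≤ M₁ ⊓ M₂ := le_inf (frattini_le_coatom hM₁) (frattini_le_coatom hM₂)
  have hDc : M₁ ⊓ M₂ ≤ Subgroup.center G := by
    intro d hd
    rw [Subgroup.mem_center_iff]
    have h1 : M₁ ≤ Subgroup.centralizer {d} := by
      intro y hy
      rw [Subgroup.mem_centralizer_iff]
      intro w hw
      rw [Set.mem_singleton_iff] at hw
      rw [hw]
      have := comm_of_isCyclic (H := M₁) ⟨d, hd.1⟩ ⟨y, hy⟩
      exact congrArg Subtype.val this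
    have h2 : M₂ ≤ Subgroup.centralizer {d} := by
      intro y hy
      rw [Subgroup.mem_centralizer_iff]
      intro w hw
      rw [Set.mem_singleton_iff] at hw
      rw [hw]
      have := comm_of_isCyclic (H := M₂) ⟨d, hd.2⟩ ⟨y, hy⟩
      exact congrArg Subtype.val this
    intro y
    have hy : y ∈ Subgroup.centralizer {d} := by
      have : (⊤ : Subgroup G) ≤ Subgroup.centralizer {d} := by rw [← hsup]; exact sup_le h1 h2
      exact this trivial
    exact (Subgroup.mem_centralizer_iff.mp hy d rfl).symm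
  have hCC : CommCentral G :=
    commCentral_of_commutator_le_center
      (((commutator_le_frattini_of_isPGroup p hG).trans hfr).trans hDc)
  have hpowc : ∀ y : G, y ^ p ∈ Subgroup.center G :=
    fun y => hDc (hfr (pow_prime_mem_frattini_of_isPGroup p hG y))
  have hmul : ∀ a b : G, (a * b) ^ p = a ^ p * b ^ p := by
    intro a b
    apply hCC.mul_pow_prime_eq hp.out hp2
    rw [← hCC.comm_pow_left, commutatorElement_eq_one_iff_mul_comm]
    exact (Subgroup.mem_center_iff.mp (hpowc b) a).symm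
  let φ : G →* G := { toFun := fun a => a ^ p, map_one' := one_pow p, map_mul' := hmul }
  have hker : Nat.card φ.ker ≤ p := by
    by_cases hex : ∃ y : G, y ^ p = 1 ∧ y ≠ 1
    · obtain ⟨y, hy, hy1⟩ := hex
      have hle : φ.ker ≤ Subgroup.zpowers y := fun w hw => hu y w hy (MonoidHom.mem_ker.mp hw) hy1
      calc Nat.card φ.ker ≤ Nat.card (Subgroup.zpowers y) := Subgroup.card_le_of_le hle
        _ = p := by rw [Nat.card_zpowers, orderOf_eq_prime hy hy1]
    · push Not at hex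
      have : φ.ker = ⊥ := by
        rw [eq_bot_iff]; intro y hy; rw [Subgroup.mem_bot]
        exact hex y (MonoidHom.mem_ker.mp hy)
      rw [this, Subgroup.card_bot]; exact hp.out.one_lt.le
  have hrange : φ.range ≤ M₁ ⊓ M₂ := by
    rintro _ ⟨y, rfl⟩
    exact hfr (pow_prime_mem_frattini_of_isPGroup p hG y)
  have hcard : Nat.card φ.ker * Nat.card φ.range = Nat.card G := by
    rw [← Subgroup.index_ker, Subgroup.card_mul_index]
  -- orders as powers of p
  obtain ⟨γ, hγ⟩ := IsPGroup.iff_card.mp hG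
  obtain ⟨μ, hμ⟩ := IsPGroup.iff_card.mp (hG.to_subgroup M₁)
  obtain ⟨d, hd⟩ := IsPGroup.iff_card.mp (hG.to_subgroup (M₁ ⊓ M₂))
  have hDlt : M₁ ⊓ M₂ < M₁ := by
    refine lt_of_le_of_ne inf_le_left ?_
    intro h
    have h12 : M₁ ≤ M₂ := by rw [← h]; exact inf_le_right
    rcases hM₁.le_iff.mp h12 with h' | h'
    · exact hM₂.1 h'
    · exact hne h'.symm
  have hone : 1 < p := hp.out.one_lt
  have h1 : d < μ := by
    have := Cfsg.Agent.Lib.Lead.UniqueP.card_lt_of_lt hDlt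
    rw [hd, hμ] at this
    exact (Nat.pow_lt_pow_iff_right hone).mp this
  have h2 : μ < γ := by
    have := hlt M₁ hM₁.1
    rw [hμ, ← hN, hγ] at this
    exact (Nat.pow_lt_pow_iff_right hone).mp this
  have h3 : Nat.card G ≤ p * p ^ d := by
    rw [← hcard, ← hd]
    exact Nat.mul_le_mul hker (Subgroup.card_le_of_le hrange)
  rw [hγ, ← pow_succ'] at h3
  have := (Nat.pow_le_pow_iff_right hone).mp h3
  omega

end odd

/-- A finite `p`-group with at most one subgroup of order `p` is cyclic or generalised quaternion. -/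
theorem cyclic_or_quaternion {G : Type*} [Group G] [Finite G] (p : ℕ) [hp : Fact p.Prime]
    (hG : IsPGroup p G) (hu : UOP p G) :
    IsCyclic G ∨ (p = 2 ∧ ∃ n : ℕ, Nonempty (G ≃* QuaternionGroup (2 ^ n))) := by
  by_cases hp2 : p = 2
  · subst hp2
    rcases two_group hG hu with h | h
    · exact Or.inl h
    · exact Or.inr ⟨rfl, h⟩
  · exact Or.inl (odd_aux p hp2 _ G rfl hG hu)

end Cfsg.Agent.Lib.Lead.UniqueP
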