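import Mathlib

set_option autoImplicit false

namespace Cfsg.Agent.Lib.Lead
namespace BaerSuzuki

variable {G : Type*} [Group G]

/-- the conjugate `g X g⁻¹` -/
def cj (X : Subgroup G) (g : G) : Subgroup G := X.map (MulAut.conj g).toMonoidHom

theorem cj_le_iff (X H : Subgroup G) (g : G) : cj X g ≤ H ↔ ∀ x ∈ X, g * x * g⁻¹ ∈ H := by
  unfold cj
  rw [Subgroup.map_le_iff_le_comap]
  constructor
  · intro h x hx
    exact h hx
  · intro h x hx
    exact h x hx

theorem mem_cj (X : Subgroup G) (g x : G) : x ∈ cj X g ↔ g⁻¹ * x * g ∈ X := by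
  unfold cj
  rw [Subgroup.mem_map]
  constructor
  · rintro ⟨y, hy, rfl⟩
    simp only [MulEquiv.coe_toMonoidHom, MulAut.conj_apply]
    have : g⁻¹ * (g * y * g⁻¹) * g = y := by group
    rw [this]; exact hy
  · intro h
    refine ⟨g⁻¹ * x * g, h, ?_⟩
    simp only [MulEquiv.coe_toMonoidHom, MulAut.conj_apply]
    group

theorem cj_one (X : Subgroup G) : cj X 1 = X := by
  ext x
  rw [mem_cj]
  simp

theorem map_cj (X : Subgroup G) (a b : G) :
    (cj X b).map (MulAut.conj a).toMonoidHom = cj X (a * b) := by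
  ext x
  rw [mem_cj, Subgroup.mem_map]
  constructor
  · rintro ⟨y, hy, rfl⟩
    rw [mem_cj] at hy
    simp only [MulEquiv.coe_toMonoidHom, MulAut.conj_apply]
    have : (a * b)⁻¹ * (a * y * a⁻¹) * (a * b) = b⁻¹ * y * b := by group
    rw [this]; exact hy
  · intro h
    refine ⟨a⁻¹ * x * a, ?_, ?_⟩
    · rw [mem_cj]
      have : b⁻¹ * (a⁻¹ * x * a) * b = (a * b)⁻¹ * x * (a * b) := by group
      rw [this]; exact h
    · simp only [MulEquiv.coe_toMonoidHom, MulAut.conj_apply]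
      group

theorem le_normalizer_of_map_le (H D : Subgroup G)
    (h : ∀ u ∈ H, D.map (MulAut.conj u).toMonoidHom ≤ D) : H ≤ Subgroup.normalizer (D : Set G) := by
  intro u hu
  rw [Subgroup.mem_normalizer_iff]
  intro x
  constructor
  · intro hx
    exact h u hu ⟨x, hx, rfl⟩
  · intro hx
    have := h u⁻¹ (H.inv_mem hu) ⟨u * x * u⁻¹, hx, rfl⟩
    simp only [MulEquiv.coe_toMonoidHom, MulAut.conj_apply, inv_inv] at this
    have e : u⁻¹ * (u * x * u⁻¹) * u = x := by group
    rwa [e] at this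

theorem map_conj_le_of_mem_normalizer (K : Subgroup G) (u : G)
    (hu : u ∈ Subgroup.normalizer (K : Set G)) : K.map (MulAut.conj u).toMonoidHom ≤ K := by
  rintro _ ⟨x, hx, rfl⟩
  exact (Subgroup.mem_normalizer_iff.mp hu x).mp hx

section main

variable {p : ℕ} [Fact p.Prime] [Finite G] (X : Subgroup G)

/-- the conjugating elements landing in `P` -/
def SS (P : Sylow p G) : Set G := {g | cj X g ≤ P}

/-- the subgroup generated by the common conjugates -/
def DD (P Q : Sylow p G) : Subgroup G := ⨆ g ∈ SS X P ∩ SS X Q, cj X g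

theorem DD_comm (P Q : Sylow p G) : DD X P Q = DD X Q P := by
  unfold DD; rw [Set.inter_comm]

theorem DD_le_left (P Q : Sylow p G) : DD X P Q ≤ P :=
  iSup₂_le (fun _ hg => hg.1)

theorem DD_le_right (P Q : Sylow p G) : DD X P Q ≤ Q :=
  iSup₂_le (fun _ hg => hg.2)

theorem mem_inter_of_le_DD (P Q : Sylow p G) (g : G) (h : cj X g ≤ DD X P Q) :
    g ∈ SS X P ∩ SS X Q :=
  ⟨h.trans (DD_le_left X P Q), h.trans (DD_le_right X P Q)⟩

theorem ncard_SS (P Q : Sylow p G) : (SS X P).ncard = (SS X Q).ncard := by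
  obtain ⟨a, rfl⟩ := MulAction.exists_smul_eq G P Q
  apply Set.ncard_congr (fun g _ => a * g)
  · intro g hg
    show cj X (a * g) ≤ (a • P : Sylow p G)
    rw [← map_cj]
    have hg' : cj X g ≤ P := hg
    rintro _ ⟨x, hx, rfl⟩
    have := hg' hx
    show _ ∈ ((a • P : Sylow p G) : Subgroup G)
    rw [Sylow.coe_subgroup_smul]
    exact Subgroup.smul_mem_pointwise_smul x (MulAut.conj a) P this
  · intro g h _ _ hgh
    exact mul_left_cancel hgh
  · intro g hg
    refine ⟨a⁻¹ * g, ?_, by group⟩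
    have hg' : cj X g ≤ (a • P : Sylow p G) := hg
    show cj X (a⁻¹ * g) ≤ P
    rw [← map_cj]
    rintro _ ⟨x, hx, rfl⟩
    have h1 := hg' hx
    change x ∈ ((a • P : Sylow p G) : Subgroup G) at h1
    rw [Sylow.coe_subgroup_smul, Subgroup.mem_pointwise_smul_iff_inv_smul_mem] at h1
    simpa [MulAut.smul_def] using h1

variable (hpair : ∀ g : G, IsPGroup p ↥(X ⊔ cj X g))

include hpair in
theorem pair_pgroup (y z : G) : IsPGroup p ↥(cj X y ⊔ cj X z) := by
  have h1 := (hpair (y⁻¹ * z)).map (MulAut.conj y).toMonoidHom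
  rw [Subgroup.map_sup, map_cj, mul_inv_cancel_left] at h1
  have h2 : X.map (MulAut.conj y).toMonoidHom = cj X y := rfl
  rwa [h2] at h1

theorem exists_normalizing (P Q : Sylow p G) (hnot : ¬ SS X P ⊆ SS X Q) :
    ∃ y, y ∈ SS X P ∧ y ∉ SS X Q ∧ cj X y ≤ Subgroup.normalizer (DD X P Q : Set G) := by
  set D := DD X P Q with hD
  let prop : Subgroup G → Prop := fun K => D ≤ K ∧ K ≤ P ∧ ∀ g, cj X g ≤ K → g ∈ SS X P ∩ SS X Q
  have hpropD : prop D := ⟨le_rfl, DD_le_left X P Q, fun g hg => mem_inter_of_le_DD X P Q g hg⟩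
  obtain ⟨K, hDK, hKmax⟩ := Finite.exists_le_maximal (p := prop) hpropD
  obtain ⟨hK1, hK2, hK3⟩ := hKmax.prop
  have hKP : K ≠ P := by
    intro h
    apply hnot
    intro g hg
    have : cj X g ≤ K := by rw [h]; exact hg
    exact (hK3 g this).2
  -- normalizer condition in P
  haveI : Group.IsNilpotent ↥(P : Subgroup G) := P.2.isNilpotent
  have hnc := Group.normalizerCondition_of_isNilpotent (G := ↥(P : Subgroup G))
  have hlt : K.subgroupOf P < ⊤ := by
    rw [lt_top_iff_ne_top]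
    intro h
    exact hKP (le_antisymm hK2 (Subgroup.subgroupOf_eq_top.mp h))
  obtain ⟨n, hnN, hnK⟩ := SetLike.exists_of_lt (hnc _ hlt)
  have hnG : (n : G) ∈ Subgroup.normalizer (K : Set G) := by
    rw [Subgroup.mem_normalizer_iff]
    intro x
    have key : ∀ x' : ↥(P : Subgroup G), (x' : G) ∈ K ↔ ((n : G) * x' * (n : G)⁻¹) ∈ K := by
      intro x'
      have := Subgroup.mem_normalizer_iff.mp hnN x'
      rw [Subgroup.mem_subgroupOf, Subgroup.mem_subgroupOf] at this
      simpa using this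
    constructor
    · intro hx
      exact (key ⟨x, hK2 hx⟩).mp hx
    · intro hx
      have hxP : x ∈ (P : Subgroup G) := by
        have h1 : (n : G)⁻¹ * ((n : G) * x * (n : G)⁻¹) * (n : G) ∈ (P : Subgroup G) :=
          mul_mem (mul_mem (inv_mem n.2) (hK2 hx)) n.2
        have e : (n : G)⁻¹ * ((n : G) * x * (n : G)⁻¹) * (n : G) = x := by group
        rwa [e] at h1
      exact (key ⟨x, hxP⟩).mpr hx
  have hnK' : (n : G) ∉ K := by
    intro h
    apply hnK
    rw [Subgroup.mem_subgroupOf]; exact h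
  set K' := (P : Subgroup G) ⊓ Subgroup.normalizer (K : Set G) with hK'
  have hKK' : K ≤ K' := le_inf hK2 Subgroup.le_normalizer
  have hnotprop : ¬ prop K' := by
    intro h
    have := hKmax.le_of_ge h hKK'
    exact hnK' (this ⟨n.2, hnG⟩)
  have hex : ∃ y, cj X y ≤ K' ∧ y ∉ SS X P ∩ SS X Q := by
    by_contra hne
    push Not at hne
    exact hnotprop ⟨hK1.trans hKK', inf_le_left, hne⟩
  obtain ⟨y, hyK', hyA⟩ := hex
  have hyP : y ∈ SS X P := hyK'.trans inf_le_left
  refine ⟨y, hyP, fun hyQ => hyA ⟨hyP, hyQ⟩, ?_⟩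
  apply le_normalizer_of_map_le
  intro u hu
  have huK : u ∈ Subgroup.normalizer (K : Set G) := (hyK' hu).2
  rw [hD, DD, Subgroup.map_iSup]
  apply iSup_le
  intro g
  rw [Subgroup.map_iSup]
  apply iSup_le
  intro hg
  rw [map_cj]
  have h1 : cj X g ≤ K := (le_iSup₂ (f := fun g (_ : g ∈ SS X P ∩ SS X Q) => cj X g) g hg).trans hK1
  have h2 : cj X (u * g) ≤ K := by
    rw [← map_cj]
    exact (Subgroup.map_mono h1).trans (map_conj_le_of_mem_normalizer K u huK)
  exact le_iSup₂ (f := fun g (_ : g ∈ SS X P ∩ SS X Q) => cj X g) (u * g) (hK3 _ h2)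

include hpair in
theorem SS_eq (P Q : Sylow p G) : SS X P = SS X Q := by
  classical
  by_contra hne0
  haveI : Fintype (Sylow p G × Sylow p G) := Fintype.ofFinite _
  let bad : Finset (Sylow p G × Sylow p G) :=
    Finset.univ.filter (fun pq => SS X pq.1 ≠ SS X pq.2)
  have hbad : bad.Nonempty := ⟨(P, Q), by simp [bad, hne0]⟩
  obtain ⟨⟨P', Q'⟩, hmem, hmax⟩ :=
    Finset.exists_max_image bad (fun pq => (SS X pq.1 ∩ SS X pq.2).ncard) hbad
  have hne : SS X P' ≠ SS X Q' := by simpa [bad] using hmem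
  have hmax' : ∀ P₁ Q₁ : Sylow p G, SS X P₁ ≠ SS X Q₁ →
      (SS X P₁ ∩ SS X Q₁).ncard ≤ (SS X P' ∩ SS X Q').ncard := by
    intro P₁ Q₁ h
    exact hmax (P₁, Q₁) (by simp [bad, h])
  have hfin : ∀ s : Set G, s.Finite := fun s => Set.toFinite s
  have hnot1 : ¬ SS X P' ⊆ SS X Q' := by
    intro h
    exact hne (Set.eq_of_subset_of_ncard_le h (ncard_SS X P' Q').ge (hfin _))
  have hnot2 : ¬ SS X Q' ⊆ SS X P' := by
    intro h
    exact hne (Set.eq_of_subset_of_ncard_le h (ncard_SS X P' Q').le (hfin _)).symm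
  obtain ⟨y, hyP, hyQ, hyN⟩ := exists_normalizing X P' Q' hnot1
  obtain ⟨z, hzQ, hzP, hzN⟩ := exists_normalizing X Q' P' hnot2
  rw [DD_comm] at hzN
  set D := DD X P' Q' with hD
  have hDp : IsPGroup p ↥D := P'.2.to_le (DD_le_left X P' Q')
  have hR : IsPGroup p ↥((cj X y ⊔ cj X z) ⊔ D : Subgroup G) :=
    IsPGroup.to_sup_of_normal_right' (pair_pgroup X hpair y z) hDp (sup_le hyN hzN)
  obtain ⟨T, hT⟩ := hR.exists_le_sylow
  have hyT : y ∈ SS X T := (le_sup_left.trans le_sup_left).trans hT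
  have hzT : z ∈ SS X T := (le_sup_right.trans le_sup_left).trans hT
  have hAT : SS X P' ∩ SS X Q' ⊆ SS X T := by
    intro g hg
    exact ((le_iSup₂ (f := fun g (_ : g ∈ SS X P' ∩ SS X Q') => cj X g) g hg).trans
      le_sup_right).trans hT
  have hTP : SS X T = SS X P' := by
    by_contra h
    have h1 := hmax' T P' h
    have hsub : insert y (SS X P' ∩ SS X Q') ⊆ SS X T ∩ SS X P' := by
      intro g hg
      rcases Set.mem_insert_iff.mp hg with rfl | hg
      · exact ⟨hyT, hyP⟩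
      · exact ⟨hAT hg, hg.1⟩
    have h2 := Set.ncard_le_ncard hsub (hfin _)
    rw [Set.ncard_insert_of_notMem (fun hy => hyQ hy.2) (hfin _)] at h2
    omega
  have hTQ : SS X T = SS X Q' := by
    by_contra h
    have h1 := hmax' T Q' h
    have hsub : insert z (SS X P' ∩ SS X Q') ⊆ SS X T ∩ SS X Q' := by
      intro g hg
      rcases Set.mem_insert_iff.mp hg with rfl | hg
      · exact ⟨hzT, hzQ⟩
      · exact ⟨hAT hg, hg.2⟩
    have h2 := Set.ncard_le_ncard hsub (hfin _)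
    rw [Set.ncard_insert_of_notMem (fun hz => hzP hz.1) (hfin _)] at h2
    omega
  exact hne (hTP.symm.trans hTQ)

include hpair in
/-- **Baer-Suzuki** for a `p`-subgroup. -/
theorem baer_suzuki (hX : IsPGroup p X) :
    ∃ N : Subgroup G, N.Normal ∧ IsPGroup p N ∧ X ≤ N := by
  obtain ⟨P, hP⟩ := hX.exists_le_sylow
  refine ⟨(P : Subgroup G).normalCore, inferInstance, P.2.to_le (Subgroup.normalCore_le _), ?_⟩
  intro x hx b
  -- `X ≤ b⁻¹ • P`
  have h1 : (1 : G) ∈ SS X P := by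
    show cj X 1 ≤ P
    rw [cj_one]; exact hP
  have h2 : (1 : G) ∈ SS X (b⁻¹ • P) := by
    rw [← SS_eq X hpair P (b⁻¹ • P)]; exact h1
  have h3 : cj X 1 ≤ (b⁻¹ • P : Sylow p G) := h2
  rw [cj_one] at h3
  have h4 := h3 hx
  change x ∈ ((b⁻¹ • P : Sylow p G) : Subgroup G) at h4
  rw [Sylow.coe_subgroup_smul, Subgroup.mem_pointwise_smul_iff_inv_smul_mem] at h4
  simpa [MulAut.smul_def] using h4

end main

end BaerSuzuki
end Cfsg.Agent.Lib.Lead
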