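import Mathlib
import Cfsg.Agent.Lib.Lead.BaerSuzuki

set_option autoImplicit false

namespace Cfsg.Agent.Lib.Lead
namespace BaerSuzuki
open scoped Pointwise

variable {G : Type*} [Group G]

theorem cj_cj (X : Subgroup G) (a b : G) : cj (cj X a) b = cj X (b * a) := map_cj X b a

theorem cj_inv_cj (X : Subgroup G) (g : G) : cj (cj X g) g⁻¹ = X := by
  rw [cj_cj, inv_mul_cancel, cj_one]

theorem cj_cj_inv (X : Subgroup G) (g : G) : cj (cj X g⁻¹) g = X := by
  rw [cj_cj, mul_inv_cancel, cj_one]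

theorem cj_mono {X Y : Subgroup G} (h : X ≤ Y) (g : G) : cj X g ≤ cj Y g :=
  Subgroup.map_mono h

theorem cj_le_cj_iff (X Y : Subgroup G) (g : G) : cj X g ≤ cj Y g ↔ X ≤ Y :=
  Subgroup.map_le_map_iff_of_injective (MulAut.conj g).injective

theorem cj_le_iff_le_cj_inv (X H : Subgroup G) (g : G) : cj X g ≤ H ↔ X ≤ cj H g⁻¹ := by
  constructor
  · intro h
    have := cj_mono h g⁻¹
    rwa [cj_inv_cj] at this
  · intro h
    have := cj_mono h g
    rwa [cj_cj_inv] at this

theorem cj_of_mem (H : Subgroup G) (h : G) (hh : h ∈ H) : cj H h = H := by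
  ext x
  rw [mem_cj]
  constructor
  · intro hx
    have : x = h * (h⁻¹ * x * h) * h⁻¹ := by group
    rw [this]
    exact H.mul_mem (H.mul_mem hh hx) (H.inv_mem hh)
  · intro hx
    exact H.mul_mem (H.mul_mem (H.inv_mem hh) hx) hh

theorem normalizer_cj (X : Subgroup G) (g : G) :
    Subgroup.normalizer ((cj X g : Subgroup G) : Set G) =
      cj (Subgroup.normalizer (X : Set G)) g :=
  (Subgroup.map_equiv_normalizer_eq X (MulAut.conj g)).symm

theorem isPGroup_cj {p : ℕ} (X : Subgroup G) (g : G) (h : IsPGroup p X) : IsPGroup p (cj X g) :=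
  h.map _

theorem cj_ne_bot (X : Subgroup G) (g : G) (h : X ≠ ⊥) : cj X g ≠ ⊥ := by
  intro h'
  apply h
  exact (Subgroup.map_eq_bot_iff_of_injective X (MulAut.conj g).injective).mp h'

theorem cj_eq_iff (X Y : Subgroup G) (g : G) : cj X g = Y ↔ X = cj Y g⁻¹ := by
  constructor
  · rintro rfl; rw [cj_inv_cj]
  · rintro rfl; rw [cj_cj_inv]

theorem mem_normalizer_of_cj_eq (X : Subgroup G) (g : G) (h : cj X g = X) :
    g ∈ Subgroup.normalizer (X : Set G) := by
  rw [Subgroup.mem_normalizer_iff]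
  intro x
  constructor
  · intro hx
    rw [← h, mem_cj]
    have : g⁻¹ * (g * x * g⁻¹) * g = x := by group
    rw [this]; exact hx
  · intro hx
    rw [← h, mem_cj] at hx
    have : g⁻¹ * (g * x * g⁻¹) * g = x := by group
    rwa [this] at hx

/-- a `p`-subgroup of `G` inside `H` is `H`-conjugate into a given Sylow subgroup of `H` -/
theorem exists_cj_le_sylow {p : ℕ} [Fact p.Prime] [Finite G] (H : Subgroup G) (P : Sylow p H)
    (Y : Subgroup G) (hY : Y ≤ H) (h2 : IsPGroup p Y) :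
    ∃ h ∈ H, cj Y h ≤ (P : Subgroup H).map H.subtype := by
  have hY0 : IsPGroup p (Y.subgroupOf H) := h2.comap_subtype
  obtain ⟨Q, hQ⟩ := hY0.exists_le_sylow
  obtain ⟨h, hh⟩ := MulAction.exists_smul_eq H Q P
  refine ⟨h, h.2, ?_⟩
  rw [cj_le_iff]
  intro y hy
  have hyQ : (⟨y, hY hy⟩ : H) ∈ Q := hQ (by rw [Subgroup.mem_subgroupOf]; exact hy)
  have hmem : h * ⟨y, hY hy⟩ * h⁻¹ ∈ (P : Subgroup H) := by
    rw [← hh]
    have e : ((h • Q : Sylow p H) : Subgroup H) = MulAut.conj h • (Q : Subgroup H) := rfl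
    rw [e, Subgroup.mem_pointwise_smul_iff_inv_smul_mem]
    have hyQ' : (⟨y, hY hy⟩ : H) ∈ (Q : Subgroup H) := hyQ
    simpa [MulAut.smul_def, mul_assoc] using hyQ'
  exact ⟨_, hmem, rfl⟩

end BaerSuzuki
end Cfsg.Agent.Lib.Lead
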