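import Mathlib

set_option autoImplicit false

namespace Cfsg.Agent.Lib.Lead

variable {G : Type*} [Group G]

theorem invol_iff {t : G} : orderOf t = 2 ↔ t ≠ 1 ∧ t ^ 2 = 1 := by
  constructor
  · intro h
    refine ⟨?_, ?_⟩
    · intro h1
      rw [h1, orderOf_one] at h
      omega
    · rw [← h]; exact pow_orderOf_eq_one t
  · rintro ⟨h1, h2⟩
    exact orderOf_eq_prime h2 h1

theorem invol_ne_one {t : G} (h : orderOf t = 2) : t ≠ 1 := (invol_iff.mp h).1

theorem invol_sq {t : G} (h : orderOf t = 2) : t ^ 2 = 1 := (invol_iff.mp h).2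

theorem invol_mul_self {t : G} (h : orderOf t = 2) : t * t = 1 := by
  rw [← pow_two]; exact invol_sq h

theorem invol_inv {t : G} (h : orderOf t = 2) : t⁻¹ = t :=
  inv_eq_of_mul_eq_one_right (invol_mul_self h)

theorem invol_of_mul_self {t : G} (h1 : t ≠ 1) (h : t * t = 1) : orderOf t = 2 :=
  invol_iff.mpr ⟨h1, by rw [pow_two]; exact h⟩

end Cfsg.Agent.Lib.Lead
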