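import Mathlib
import Cfsg.Agent.Lib.Lead.Invol

set_option autoImplicit false

namespace Cfsg.Agent.Lib.Lead

variable {G : Type*} [Group G]

/-- an involution `x` inverts `x * y` when `y` is an involution -/
theorem invol_conj_mul {x y : G} (hx : orderOf x = 2) (hy : orderOf y = 2) :
    x * (x * y) * x⁻¹ = (x * y)⁻¹ := by
  rw [mul_inv_rev, invol_inv hx, invol_inv hy, ← mul_assoc, invol_mul_self hx, one_mul]

theorem invol_conj_mul_zpow {x y : G} (hx : orderOf x = 2) (hy : orderOf y = 2) (k : ℤ) :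
    x * (x * y) ^ k * x⁻¹ = (x * y) ^ (-k) := by
  rw [← conj_zpow, invol_conj_mul hx hy, inv_zpow, zpow_neg]

theorem invol_mul_zpow_mul {x y : G} (hx : orderOf x = 2) (hy : orderOf y = 2) (k : ℤ) :
    x * (x * y) ^ k * x = (x * y) ^ (-k) := by
  have := invol_conj_mul_zpow hx hy k
  rwa [invol_inv hx] at this

theorem pair_y_eq {x y : G} (hx : orderOf x = 2) : y = x * (x * y) := by
  rw [← mul_assoc, invol_mul_self hx, one_mul]

/-- the two shapes of elements of the group generated by two involutions -/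
def PairShape (x y d : G) : Prop :=
  (∃ k : ℤ, d = (x * y) ^ k) ∨ (∃ k : ℤ, d = x * (x * y) ^ k)

theorem pairShape_x_mul {x y d : G} (hx : orderOf x = 2) (h : PairShape x y d) :
    PairShape x y (x * d) := by
  rcases h with ⟨k, rfl⟩ | ⟨k, rfl⟩
  · exact Or.inr ⟨k, rfl⟩
  · left
    refine ⟨k, ?_⟩
    rw [← mul_assoc, invol_mul_self hx, one_mul]

theorem pairShape_y_mul {x y d : G} (hx : orderOf x = 2) (hy : orderOf y = 2)
    (h : PairShape x y d) : PairShape x y (y * d) := by
  rcases h with ⟨k, rfl⟩ | ⟨k, rfl⟩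
  · right
    refine ⟨1 + k, ?_⟩
    rw [zpow_add, zpow_one, ← mul_assoc, ← mul_assoc, invol_mul_self hx, one_mul]
  · left
    refine ⟨-1 + k, ?_⟩
    have h1 : y * x = (x * y) ^ (-1 : ℤ) := by
      rw [zpow_neg, zpow_one, mul_inv_rev, invol_inv hx, invol_inv hy]
    rw [zpow_add, ← h1, mul_assoc]

theorem mem_closure_pair {x y : G} (hx : orderOf x = 2) (hy : orderOf y = 2) {d : G}
    (hd : d ∈ Subgroup.closure ({x, y} : Set G)) : PairShape x y d := by
  induction hd using Subgroup.closure_induction_left with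
  | one => exact Or.inl ⟨0, by simp⟩
  | mul_left g hg d _ ih =>
    have hgx : g = x ∨ g = y := by simpa using hg
    rcases hgx with rfl | rfl
    · exact pairShape_x_mul hx ih
    · exact pairShape_y_mul hx hy ih
  | inv_mul_cancel g hg d _ ih =>
    have hgx : g = x ∨ g = y := by simpa using hg
    rcases hgx with rfl | rfl
    · rw [invol_inv hx]; exact pairShape_x_mul hx ih
    · rw [invol_inv hy]; exact pairShape_y_mul hx hy ih

theorem x_mem_closure_pair (x y : G) : x ∈ Subgroup.closure ({x, y} : Set G) :=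
  Subgroup.subset_closure (by simp)

theorem y_mem_closure_pair (x y : G) : y ∈ Subgroup.closure ({x, y} : Set G) :=
  Subgroup.subset_closure (by simp)

theorem mul_mem_closure_pair (x y : G) : x * y ∈ Subgroup.closure ({x, y} : Set G) :=
  mul_mem (x_mem_closure_pair x y) (y_mem_closure_pair x y)

theorem zpow_mem_closure_pair (x y : G) (k : ℤ) :
    (x * y) ^ k ∈ Subgroup.closure ({x, y} : Set G) :=
  zpow_mem (mul_mem_closure_pair x y) k

/-- conjugating `x` by a rotation -/
theorem rot_conj_x {x y : G} (hx : orderOf x = 2) (hy : orderOf y = 2) (k : ℤ) :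
    (x * y) ^ k * x * ((x * y) ^ k)⁻¹ = (x * y) ^ (2 * k) * x := by
  have h := invol_mul_zpow_mul hx hy (-k)
  rw [neg_neg] at h
  -- x z^{-k} x = z^k, so x * z^{-k} = z^k * x
  have h2 : x * (x * y) ^ (-k) = (x * y) ^ k * x := by
    rw [← h, mul_assoc, mul_assoc, invol_mul_self hx, mul_one]
  rw [← zpow_neg, mul_assoc, h2, ← mul_assoc, ← zpow_add, two_mul]

/-- conjugating `x` by a reflection -/
theorem refl_conj_x {x y : G} (hx : orderOf x = 2) (hy : orderOf y = 2) (k : ℤ) :
    (x * (x * y) ^ k) * x * (x * (x * y) ^ k)⁻¹ = (x * y) ^ (-(2 * k)) * x := by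
  have h := invol_mul_zpow_mul hx hy k
  rw [mul_inv_rev, invol_inv hx]
  calc x * (x * y) ^ k * x * (((x * y) ^ k)⁻¹ * x)
      = (x * (x * y) ^ k * x) * ((x * y) ^ k)⁻¹ * x := by group
    _ = (x * y) ^ (-k) * ((x * y) ^ k)⁻¹ * x := by rw [h]
    _ = (x * y) ^ (-(2 * k)) * x := by
        rw [← zpow_neg, ← zpow_add]
        congr 2
        ring

end Cfsg.Agent.Lib.Lead
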