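import Mathlib
import Cfsg.Prelude.Def_TwoFusion
import Cfsg.Agent.Lib.Lead.Dihedral
import Cfsg.Agent.S0209
import Cfsg.Agent.S0211
import Cfsg.Agent.S0216
import Cfsg.Agent.S0231

set_option autoImplicit false

namespace Cfsg.Agent.Lib.Lead

variable {G : Type*} [Group G]

/-- explicit conjugating element for two involutions with product of odd order -/
theorem odd_conj_pow {x y : G} (hx : orderOf x = 2) (hy : orderOf y = 2) (m : ℕ)
    (hm : (x * y) ^ (2 * m + 1) = 1) :
    (x * y) ^ m * x * ((x * y) ^ m)⁻¹ = y := by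
  have h := rot_conj_x hx hy (m : ℤ)
  rw [zpow_natCast] at h
  rw [h]
  have h1 : (x * y) ^ (2 * (m : ℤ) + 1) = 1 := by
    have : (2 * (m : ℤ) + 1) = ((2 * m + 1 : ℕ) : ℤ) := by push_cast; ring
    rw [this, zpow_natCast, hm]
  have h2 : (x * y) ^ (2 * (m : ℤ)) = (x * y)⁻¹ := by
    rw [zpow_add, zpow_one] at h1
    exact eq_inv_of_mul_eq_one_left h1
  rw [h2, mul_inv_rev, invol_inv hx, invol_inv hy, mul_assoc, invol_mul_self hx, mul_one]

/-- squaring is injective on elements of odd order -/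
theorem odd_sq_inj {k l : G} (hk : Odd (orderOf k)) (hl : Odd (orderOf l)) (h : k ^ 2 = l ^ 2) :
    k = l := by
  obtain ⟨a, ha⟩ := hk
  obtain ⟨b, hb⟩ := hl
  -- k = (k^2)^(a+1), l = (l^2)^(b+1); use exponent (a+1)*(2b+1)... simpler: common exponent
  -- let N = (2a+1)*(2b+1), odd; k^N = 1 = l^N; k = (k^2)^((N+1)/2)
  set N := (2 * a + 1) * (2 * b + 1) with hN
  have hkN : k ^ N = 1 := by
    rw [hN, pow_mul, ← ha, pow_orderOf_eq_one, one_pow]
  have hlN : l ^ N = 1 := by
    rw [hN, mul_comm, pow_mul, ← hb, pow_orderOf_eq_one, one_pow]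
  have hNodd : ∃ c, N = 2 * c + 1 := ⟨2 * a * b + a + b, by rw [hN]; ring⟩
  obtain ⟨c, hc⟩ := hNodd
  have hk' : k = (k ^ 2) ^ (c + 1) := by
    rw [← pow_mul, show 2 * (c + 1) = N + 1 by omega, pow_succ, hkN, one_mul]
  have hl' : l = (l ^ 2) ^ (c + 1) := by
    rw [← pow_mul, show 2 * (c + 1) = N + 1 by omega, pow_succ, hlN, one_mul]
  rw [hk', hl', h]

theorem odd_orderOf_sq {k : G} (hk : Odd (orderOf k)) : Odd (orderOf (k ^ 2)) :=
  hk.of_dvd_nat (orderOf_pow_dvd 2)

theorem isolated_conj {z : G} (hz : Cfsg.IsIsolatedInvolution z) (a : G) :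
    Cfsg.IsIsolatedInvolution (a * z * a⁻¹) := by
  obtain ⟨h2, hiso⟩ := hz
  refine ⟨?_, ?_⟩
  · have hsc : SemiconjBy a z (a * z * a⁻¹) := by unfold SemiconjBy; group
    rw [← hsc.orderOf_eq a]; exact h2
  · intro g hc
    have e : g * (a * z * a⁻¹) * g⁻¹ = a * ((a⁻¹ * g * a) * z * (a⁻¹ * g * a)⁻¹) * a⁻¹ := by group
    rw [e] at hc ⊢
    have hc' : Commute z ((a⁻¹ * g * a) * z * (a⁻¹ * g * a)⁻¹) := by
      have := hc
      unfold Commute SemiconjBy at this ⊢
      have h3 : a⁻¹ * (a * z * a⁻¹ * (a * (a⁻¹ * g * a * z * (a⁻¹ * g * a)⁻¹) * a⁻¹)) * a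
          = a⁻¹ * (a * (a⁻¹ * g * a * z * (a⁻¹ * g * a)⁻¹) * a⁻¹ * (a * z * a⁻¹)) * a := by
        rw [this]
      have l1 : a⁻¹ * (a * z * a⁻¹ * (a * (a⁻¹ * g * a * z * (a⁻¹ * g * a)⁻¹) * a⁻¹)) * a
          = z * (a⁻¹ * g * a * z * (a⁻¹ * g * a)⁻¹) := by group
      have l2 : a⁻¹ * (a * (a⁻¹ * g * a * z * (a⁻¹ * g * a)⁻¹) * a⁻¹ * (a * z * a⁻¹)) * a
          = (a⁻¹ * g * a * z * (a⁻¹ * g * a)⁻¹) * z := by group
      rw [l1, l2] at h3
      exact h3
    rw [hiso _ hc']

/-- an isolated involution has no other conjugate in a Sylow 2-subgroup containing it -/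
theorem isolated_sylow [Finite G] {z : G} (hz : Cfsg.IsIsolatedInvolution z) (P : Sylow 2 G)
    (hzP : z ∈ P) (g : G) (hg : g * z * g⁻¹ ∈ P) : g * z * g⁻¹ = z := by
  obtain ⟨h2, hiso⟩ := hz
  set v := g * z * g⁻¹ with hv
  have hvo : orderOf v = 2 := by
    have hsc : SemiconjBy g z v := by unfold SemiconjBy; rw [hv]; group
    rw [← hsc.orderOf_eq g]; exact h2
  have hmem : z * v ∈ (P : Subgroup G) := mul_mem hzP hg
  obtain ⟨k, hk⟩ := (IsPGroup.iff_orderOf.mp P.2) ⟨_, hmem⟩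
  rw [Subgroup.orderOf_mk] at hk
  -- k = 0 : v = z
  rcases Nat.lt_or_ge k 1 with hk0 | hk1
  · have : k = 0 := by omega
    subst this
    rw [pow_zero, orderOf_eq_one_iff] at hk
    have : v = z⁻¹ := eq_inv_of_mul_eq_one_right hk
    rw [this, invol_inv h2]
  · -- the product has even order
    have heven : Even (orderOf (z * v)) := by
      rw [hk]; exact (Nat.even_pow' (by omega)).mpr even_two
    obtain ⟨hu2, huz, -⟩ := Cfsg.Agent.S0209.result z v h2 hvo heven
    rcases Nat.lt_or_ge k 2 with hk2 | hk2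
    · -- order 2 : z and v commute
      have hk1' : k = 1 := by omega
      subst hk1'
      rw [pow_one] at hk
      have hzv : (z * v) ^ 2 = 1 := by rw [← hk]; exact pow_orderOf_eq_one _
      have hcomm : Commute z v := by
        have h3 : z * v * (z * v) = 1 := by rw [← pow_two]; exact hzv
        have h4 : (z * v)⁻¹ = z * v := inv_eq_of_mul_eq_one_right h3
        rw [mul_inv_rev, invol_inv h2, invol_inv hvo] at h4
        exact h4.symm
      exact hiso g hcomm
    · -- 4 divides the order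
      exfalso
      have h4 : 4 ∣ orderOf (z * v) := by
        rw [hk]
        exact (show 4 = 2 ^ 2 by norm_num) ▸ pow_dvd_pow 2 hk2
      obtain ⟨d, -, hd⟩ := (Cfsg.Agent.S0211.result z v h2 hvo heven).mpr h4
      set u := (z * v) ^ (orderOf (z * v) / 2) with hu
      have hc : Commute z (d * z * d⁻¹) := by
        rw [hd]
        exact (Commute.refl z).mul_right huz.symm
      have h5 := hiso d hc
      rw [hd] at h5
      have : u = 1 := by
        have := mul_left_cancel (h5.trans (mul_one z).symm)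
        exact this
      exact invol_ne_one hu2 this

/-- all commutators with an isolated involution have odd order -/
theorem isolated_odd [Finite G] {z : G} (hz : Cfsg.IsIsolatedInvolution z) (g : G) :
    Odd (orderOf (z * (g * z * g⁻¹))) := by
  obtain ⟨P, hzP⟩ := Cfsg.Agent.S0231.invol_mem_sylow z hz.1
  have h := (Cfsg.Agent.S0216.result P z hz.1 hzP).mp (fun g hg => isolated_sylow hz P hzP g hg) g
  have e : z * g * z⁻¹ * g⁻¹ = z * (g * z * g⁻¹) := by rw [invol_inv hz.1]; group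
  rwa [e] at h

/-- every conjugate of an isolated involution `z` is `k z k⁻¹` for an element `k` of odd order
inverted by `z`, a power of `z * (g z g⁻¹)` -/
theorem isolated_rep [Finite G] {z : G} (hz : Cfsg.IsIsolatedInvolution z) (g : G) :
    ∃ m : ℕ, Odd (orderOf ((z * (g * z * g⁻¹)) ^ m)) ∧
      z * (z * (g * z * g⁻¹)) ^ m * z⁻¹ = ((z * (g * z * g⁻¹)) ^ m)⁻¹ ∧
      (z * (g * z * g⁻¹)) ^ m * z * ((z * (g * z * g⁻¹)) ^ m)⁻¹ = g * z * g⁻¹ := by
  have h2 := hz.1
  set v := g * z * g⁻¹ with hv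
  have hvo : orderOf v = 2 := by
    have hsc : SemiconjBy g z v := by unfold SemiconjBy; rw [hv]; group
    rw [← hsc.orderOf_eq g]; exact h2
  have hodd := isolated_odd hz g
  obtain ⟨m, hm⟩ := hodd
  refine ⟨m, ?_, ?_, ?_⟩
  · have hodd' : Odd (orderOf (z * v)) := ⟨m, hm⟩
    exact hodd'.of_dvd_nat (orderOf_pow_dvd m)
  · have := invol_conj_mul_zpow h2 hvo (m : ℤ)
    rw [zpow_neg, zpow_natCast] at this
    exact this
  · apply odd_conj_pow h2 hvo m
    rw [← hm]; exact pow_orderOf_eq_one _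

end Cfsg.Agent.Lib.Lead
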