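import Mathlib

set_option autoImplicit false

namespace Cfsg.Agent.Lib.Lead

variable {G : Type*} [Group G]

/-- orbit-stabilizer for conjugacy classes -/
theorem card_conj_mul_card_centralizer [Finite G] (t : G) :
    Nat.card {b : G // IsConj t b} * Nat.card (Subgroup.centralizer ({t} : Set G)) = Nat.card G := by
  have e := MulAction.orbitProdStabilizerEquivGroup (ConjAct G) t
  have h1 : Nat.card (MulAction.orbit (ConjAct G) t) = Nat.card {b : G // IsConj t b} := by
    apply Nat.card_congr
    exact Equiv.subtypeEquivRight (fun b => by rw [ConjAct.mem_orbit_conjAct]; exact isConj_comm)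
  have h2 : Nat.card (MulAction.stabilizer (ConjAct G) t) =
      Nat.card (Subgroup.centralizer ({t} : Set G)) := by
    apply Nat.card_congr
    refine Equiv.subtypeEquiv ConjAct.ofConjAct.toEquiv ?_
    intro g
    rw [MulAction.mem_stabilizer_iff, Subgroup.mem_centralizer_singleton_iff, ConjAct.smul_def]
    simp only [MulEquiv.toEquiv_eq_coe, EquivLike.coe_coe]
    exact mul_inv_eq_iff_eq_mul
  rw [← h1, ← h2, ← Nat.card_prod, Nat.card_congr e]
  rfl

theorem card_centralizer_conj [Finite G] (t g : G) :
    Nat.card (Subgroup.centralizer ({g * t * g⁻¹} : Set G)) =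
      Nat.card (Subgroup.centralizer ({t} : Set G)) := by
  apply Nat.card_congr
  refine
    { toFun := fun c => ⟨g⁻¹ * c.1 * g, ?_⟩
      invFun := fun c => ⟨g * c.1 * g⁻¹, ?_⟩
      left_inv := fun c => by apply Subtype.ext; simp; group
      right_inv := fun c => by apply Subtype.ext; simp; group }
  · have hc := Subgroup.mem_centralizer_singleton_iff.mp c.2
    rw [Subgroup.mem_centralizer_singleton_iff]
    have : g⁻¹ * c.1 * g * t = g⁻¹ * (c.1 * (g * t * g⁻¹)) * g := by group
    rw [this, hc]; group
  · have hc := Subgroup.mem_centralizer_singleton_iff.mp c.2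
    rw [Subgroup.mem_centralizer_singleton_iff]
    have : g * c.1 * g⁻¹ * (g * t * g⁻¹) = g * (c.1 * t) * g⁻¹ := by group
    rw [this, hc]; group

end Cfsg.Agent.Lib.Lead
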