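import Mathlib
import Cfsg.Prelude.Def_TwoFusion
import Cfsg.Agent.Lib.Lead.Isolated
import Cfsg.Agent.Lib.Lead.ConjCount

set_option autoImplicit false

namespace Cfsg.Agent.Lib.Lead.IsoMid

open Cfsg.Agent.Lib.Lead

variable {G : Type*} [Group G]

/-- the midpoint of `w` and `s w s⁻¹` in the dihedral group they generate -/
noncomputable def mid (s w : G) : G := (w * (s * w * s⁻¹)) ^ (orderOf (w * (s * w * s⁻¹)) / 2) * w

theorem orderOf_conj' (c d : G) : orderOf (c * d * c⁻¹) = orderOf d := by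
  have hsc : SemiconjBy c d (c * d * c⁻¹) := by unfold SemiconjBy; group
  exact (hsc.orderOf_eq c).symm

theorem conj_comm_aux {s c : G} (hc : Commute c s) (w : G) :
    s * (c * w * c⁻¹) * s⁻¹ = c * (s * w * s⁻¹) * c⁻¹ := by
  have h1 : s * c = c * s := hc.eq.symm
  have h2 : c⁻¹ * s⁻¹ = s⁻¹ * c⁻¹ := by rw [← mul_inv_rev, ← mul_inv_rev, h1]
  calc s * (c * w * c⁻¹) * s⁻¹ = (s * c) * w * (c⁻¹ * s⁻¹) := by group
    _ = (c * s) * w * (s⁻¹ * c⁻¹) := by rw [h1, h2]
    _ = c * (s * w * s⁻¹) * c⁻¹ := by group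

theorem mid_conj {s c : G} (hc : Commute c s) (w : G) :
    mid s (c * w * c⁻¹) = c * mid s w * c⁻¹ := by
  unfold mid
  rw [conj_comm_aux hc w]
  have e : c * w * c⁻¹ * (c * (s * w * s⁻¹) * c⁻¹) = c * (w * (s * w * s⁻¹)) * c⁻¹ := by group
  rw [e, orderOf_conj', conj_pow]
  group

/-- in the group generated by two involutions with product of odd order, all reflections
`(x y)^i x` are conjugate to `x` -/
theorem refl_conj {x y : G} (hx : orderOf x = 2) (hy : orderOf y = 2) (j : ℕ)
    (hj : (x * y) ^ (2 * j + 1) = 1) (i : ℕ) :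
    ∃ e : G, e * x * e⁻¹ = (x * y) ^ i * x := by
  refine ⟨(x * y) ^ (i * (j + 1)), ?_⟩
  have h := rot_conj_x hx hy ((i * (j + 1) : ℕ) : ℤ)
  rw [zpow_natCast] at h
  rw [h]
  congr 1
  have : (2 * ((i * (j + 1) : ℕ) : ℤ)) = ((i * (2 * j + 1) + i : ℕ) : ℤ) := by push_cast; ring
  rw [this, zpow_natCast, pow_add, mul_comm i, pow_mul, hj, one_pow, one_mul]

theorem isConj_orderOf {z w : G} (h : IsConj z w) : orderOf w = orderOf z := by
  obtain ⟨c, rfl⟩ := isConj_iff.mp h
  exact orderOf_conj' c z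

theorem isolated_of_isConj {z w : G} (hz : Cfsg.IsIsolatedInvolution z) (h : IsConj z w) :
    Cfsg.IsIsolatedInvolution w := by
  obtain ⟨c, rfl⟩ := isConj_iff.mp h
  exact isolated_conj hz c

/-- product of two conjugates of an isolated involution has odd order -/
theorem odd_mul [Finite G] {z w v : G} (hz : Cfsg.IsIsolatedInvolution z) (hw : IsConj z w)
    (hv : IsConj z v) : Odd (orderOf (w * v)) := by
  have hwv : IsConj w v := hw.symm.trans hv
  obtain ⟨c, rfl⟩ := isConj_iff.mp hwv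
  exact isolated_odd (isolated_of_isConj hz hw) c

theorem mid_props [Finite G] {z s : G} (hz : Cfsg.IsIsolatedInvolution z) (hs : orderOf s = 2)
    {w : G} (hw : IsConj z w) :
    IsConj z (mid s w) ∧ Commute (mid s w) s ∧ mid s w * w * (mid s w)⁻¹ = s * w * s⁻¹ := by
  have hwi := isolated_of_isConj hz hw
  have hw2 : orderOf w = 2 := hwi.1
  set w' := s * w * s⁻¹ with hw'
  have hw'2 : orderOf w' = 2 := by rw [hw', orderOf_conj']; exact hw2
  have hodd : Odd (orderOf (w * w')) := isolated_odd hwi s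
  obtain ⟨j, hj⟩ := hodd
  have hdpow : (w * w') ^ (2 * j + 1) = 1 := by rw [← hj]; exact pow_orderOf_eq_one _
  have hmid : mid s w = (w * w') ^ j * w := by
    unfold mid
    rw [← hw', hj]
    congr 2
    omega
  have h1 : (w * w') ^ j * w * ((w * w') ^ j)⁻¹ = w' := odd_conj_pow hw2 hw'2 j hdpow
  refine ⟨?_, ?_, ?_⟩
  · obtain ⟨e, he⟩ := refl_conj hw2 hw'2 j hdpow j
    rw [hmid, ← he]
    exact hw.trans (isConj_iff.mpr ⟨e, rfl⟩)
  · -- s m s⁻¹ = m
    have hsinv : s⁻¹ = s := invol_inv hs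
    have hss : s * s = 1 := invol_mul_self hs
    have hsw' : s * w' * s⁻¹ = w := by
      rw [hw', hsinv]
      calc s * (s * w * s) * s = (s * s) * w * (s * s) := by group
        _ = w := by rw [hss, one_mul, mul_one]
    have hsd : s * (w * w') * s⁻¹ = (w * w')⁻¹ := by
      have : s * (w * w') * s⁻¹ = (s * w * s⁻¹) * (s * w' * s⁻¹) := by group
      rw [this, hsw', ← hw', mul_inv_rev, invol_inv hw2, invol_inv hw'2]
    have hconj : s * mid s w * s⁻¹ = mid s w := by
      rw [hmid]
      have : s * ((w * w') ^ j * w) * s⁻¹ = (s * (w * w') * s⁻¹) ^ j * (s * w * s⁻¹) := by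
        rw [conj_pow]; group
      rw [this, hsd, ← hw']
      -- ((w w')⁻¹)^j * w' = (w w')^j * w
      have hw'eq : w' = (w * w')⁻¹ * w := by
        rw [mul_inv_rev, invol_inv hw2, invol_inv hw'2, mul_assoc, invol_mul_self hw2, mul_one]
      have h3 : ((w * w')⁻¹) ^ j * w' = ((w * w')⁻¹) ^ (j + 1) * w := by
        rw [pow_succ, mul_assoc, ← hw'eq]
      rw [h3]
      congr 1
      -- (d⁻¹)^(j+1) = d^j
      have : (w * w') ^ j * (w * w') ^ (j + 1) = 1 := by
        rw [← pow_add, show j + (j + 1) = 2 * j + 1 by ring, hdpow]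
      rw [inv_pow]
      exact inv_eq_of_mul_eq_one_left this
    have : s * mid s w = mid s w * s := by
      have h4 : s * mid s w * s⁻¹ * s = mid s w * s := by rw [hconj]
      rwa [inv_mul_cancel_right] at h4
    exact this.symm
  · rw [hmid]
    have : (w * w') ^ j * w * w * ((w * w') ^ j * w)⁻¹ = (w * w') ^ j * w * ((w * w') ^ j)⁻¹ := by
      group
    rw [this, h1]

theorem mid_eq_iff [Finite G] {z s : G} (hz : Cfsg.IsIsolatedInvolution z) (hs : orderOf s = 2)
    (hsz : Commute s z) {w : G} (hw : IsConj z w) :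
    mid s w = z ↔ Commute w (s * z) := by
  have hz2 := hz.1
  have hsinv : s⁻¹ = s := invol_inv hs
  have hzinv : z⁻¹ = z := invol_inv hz2
  have hss : s * s = 1 := invol_mul_self hs
  have hzz : z * z = 1 := invol_mul_self hz2
  have hwi := isolated_of_isConj hz hw
  have hw2 : orderOf w = 2 := hwi.1
  have hszinv : (s * z)⁻¹ = s * z := by
    rw [mul_inv_rev, hsinv, hzinv, hsz.eq]
  constructor
  · intro h
    have h3 := (mid_props hz hs hw).2.2
    rw [h] at h3
    -- z w z⁻¹ = s w s⁻¹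
    have h4 : (s * z) * w * (s * z)⁻¹ = w := by
      have : (s * z) * w * (s * z)⁻¹ = s * (z * w * z⁻¹) * s⁻¹ := by group
      rw [this, h3, hsinv]
      calc s * (s * w * s) * s = (s * s) * w * (s * s) := by group
        _ = w := by rw [hss, one_mul, mul_one]
    have h5 : (s * z) * w = w * (s * z) := by
      have h6 : (s * z) * w * (s * z)⁻¹ * (s * z) = w * (s * z) := by rw [h4]
      rwa [inv_mul_cancel_right] at h6
    exact h5.symm
  · intro h
    have h4 : s * w * s⁻¹ = z * w * z⁻¹ := by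
      have h5 : (s * z) * w * (s * z)⁻¹ = w := by
        rw [← h.eq]; group
      have : s * w * s⁻¹ = s * ((s * z) * w * (s * z)⁻¹) * s⁻¹ := by rw [h5]
      rw [this, hszinv, hsinv, hzinv]
      calc s * (s * z * w * (s * z)) * s = (s * s) * z * w * (s * z * s) := by group
        _ = z * w * z := by
          rw [hss, one_mul]
          have : s * z * s = z := by rw [hsz.eq, mul_assoc, hss, mul_one]
          rw [this]
    have hoddwz : Odd (orderOf (w * z)) := odd_mul hz hw (IsConj.refl z)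
    obtain ⟨i, hi⟩ := hoddwz
    have hd : w * (s * w * s⁻¹) = (w * z) ^ 2 := by
      rw [h4, hzinv, pow_two]; group
    have hord : orderOf ((w * z) ^ 2) = orderOf (w * z) := by
      apply Nat.Coprime.orderOf_pow
      rw [hi]
      have : Nat.Coprime (2 * i + 1) 2 := by
        rw [Nat.coprime_comm, Nat.coprime_two_left]
        exact ⟨i, rfl⟩
      exact this
    unfold mid
    rw [hd, hord, hi, show (2 * i + 1) / 2 = i by omega, ← pow_mul]
    have hp : (w * z) ^ (2 * i) * (w * z) = 1 := by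
      rw [← pow_succ, ← hi]; exact pow_orderOf_eq_one _
    have : (w * z) ^ (2 * i) = (w * z)⁻¹ := eq_inv_of_mul_eq_one_left hp
    rw [this, mul_inv_rev, hzinv, invol_inv hw2, mul_assoc, invol_mul_self hw2, mul_one]

end Cfsg.Agent.Lib.Lead.IsoMid
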