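import Mathlib
import Cfsg.Agent.Lib.Lead.SL25
import Cfsg.Agent.Lib.Helper4.Simple60
import Cfsg.Agent.Lib.Helper4.SLCard
import Cfsg.Agent.S3377
import Cfsg.Agent.S0201
import Cfsg.Agent.S0144
import Cfsg.Agent.S0987
import Cfsg.Agent.Lib.Lead.SylowCount

set_option autoImplicit false
set_option linter.unusedVariables false
set_option linter.unusedSectionVars false
set_option maxHeartbeats 1000000

namespace Cfsg.Agent.Lib.Lead.SL25Pres

open Cfsg.Agent.Lib.Lead.SL25

/-! ### generalities -/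

theorem comm_rel {H : Type*} [Group H] (z x : H) (h : z * x = x * z) : z⁻¹ * x * z * x⁻¹ = 1 := by
  rw [mul_assoc z⁻¹ x z, ← h, inv_mul_cancel_left, mul_inv_cancel]

theorem solv_ext {G : Type*} [Group G] (N : Subgroup G) [N.Normal] (h1 : Group.IsSolvable N)
    (h2 : Group.IsSolvable (G ⧸ N)) : Group.IsSolvable G :=
  Group.isSolvable_of_ker_le_range N.subtype (QuotientGroup.mk' N)
    (by rw [QuotientGroup.ker_mk', Subgroup.range_subtype])

set_option maxRecDepth 100000 in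
theorem dvd60_cases : ∀ n < 60, n ∣ 60 → n = 1 ∨ n = 2 ∨ n = 3 ∨ n = 4 ∨ n = 5 ∨ n = 6 ∨ n = 10 ∨
    n = 12 ∨ n = 15 ∨ n = 20 ∨ n = 30 := by decide

set_option maxRecDepth 100000 in
theorem odd_dvd120_cases : ∀ n ≤ 120, n ∣ 120 → n % 2 = 1 → n = 1 ∨ n = 3 ∨ n = 5 ∨ n = 15 := by
  decide

theorem quat_invol : ∀ a b : QuaternionGroup 2, a ≠ 1 → b ≠ 1 → a * a = 1 → b * b = 1 → a = b := by
  decide

theorem solv_of_card_lt_60 {H : Type*} [Group H] [Finite H] (hd : Nat.card H ∣ 60)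
    (hlt : Nat.card H < 60) : Group.IsSolvable H := by
  have p2 : Nat.Prime 2 := by norm_num
  have p3 : Nat.Prime 3 := by norm_num
  have p5 : Nat.Prime 5 := by norm_num
  rcases dvd60_cases _ hlt hd with h | h | h | h | h | h | h | h | h | h | h
  · exact Cfsg.Agent.S0144.result 2 3 0 0 p2 p3 (h.trans (by norm_num))
  · exact Cfsg.Agent.S0144.result 2 3 1 0 p2 p3 (h.trans (by norm_num))
  · exact Cfsg.Agent.S0144.result 2 3 0 1 p2 p3 (h.trans (by norm_num))
  · exact Cfsg.Agent.S0144.result 2 3 2 0 p2 p3 (h.trans (by norm_num))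
  · exact Cfsg.Agent.S0144.result 2 5 0 1 p2 p5 (h.trans (by norm_num))
  · exact Cfsg.Agent.S0144.result 2 3 1 1 p2 p3 (h.trans (by norm_num))
  · exact Cfsg.Agent.S0144.result 2 5 1 1 p2 p5 (h.trans (by norm_num))
  · exact Cfsg.Agent.S0144.result 2 3 2 1 p2 p3 (h.trans (by norm_num))
  · exact Cfsg.Agent.S0144.result 3 5 1 1 p3 p5 (h.trans (by norm_num))
  · exact Cfsg.Agent.S0144.result 2 5 2 1 p2 p5 (h.trans (by norm_num))
  · obtain ⟨R⟩ : Nonempty (Sylow 5 H) := inferInstance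
    have hRn : (R : Subgroup H).Normal :=
      Cfsg.Agent.S0987.result 2 3 5 p2 p3 (by norm_num) (by norm_num) (h.trans (by norm_num)) R
    haveI := hRn
    have hR5 : Nat.card (R : Subgroup H) = 5 :=
      Cfsg.Agent.Lib.Lead.SylowCount.card_sylow_of_card_eq 5 6 (h.trans (by norm_num))
        (by norm_num) R
    have hmul := Subgroup.card_eq_card_quotient_mul_card_subgroup (R : Subgroup H)
    rw [h, hR5] at hmul
    have hq6 : Nat.card (H ⧸ (R : Subgroup H)) = 6 := by omega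
    exact solv_ext (R : Subgroup H)
      (Cfsg.Agent.S0144.result 5 2 1 0 p5 p2 (hR5.trans (by norm_num)))
      (Cfsg.Agent.S0144.result 2 3 1 1 p2 p3 (hq6.trans (by norm_num)))

theorem simple_of_card_60 {Q : Type*} [Group Q] [Finite Q] (h60 : Nat.card Q = 60)
    (hns : ¬ Group.IsSolvable Q) : IsSimpleGroup Q := by
  haveI : Nontrivial Q := Finite.one_lt_card_iff_nontrivial.1 (by rw [h60]; norm_num)
  refine { toNontrivial := inferInstance, eq_bot_or_eq_top_of_normal := fun M hM => ?_ }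
  haveI := hM
  have hmul := Subgroup.card_eq_card_quotient_mul_card_subgroup M
  rw [h60] at hmul
  by_cases h1 : Nat.card M = 1
  · left; exact Subgroup.eq_bot_of_card_eq M h1
  by_cases h2 : Nat.card M = 60
  · right; exact (Subgroup.card_eq_iff_eq_top M).1 (h2.trans h60.symm)
  exfalso
  apply hns
  have hMd := Subgroup.card_subgroup_dvd_card M
  have hQd := Subgroup.card_quotient_dvd_card M
  rw [h60] at hMd hQd
  have hMlt : Nat.card M < 60 := lt_of_le_of_ne (Nat.le_of_dvd (by norm_num) hMd) h2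
  have hQlt : Nat.card (Q ⧸ M) < 60 := by
    apply lt_of_le_of_ne (Nat.le_of_dvd (by norm_num) hQd)
    intro h
    rw [h] at hmul
    apply h1
    omega
  exact solv_ext M (solv_of_card_lt_60 hMd hMlt) (solv_of_card_lt_60 hQd hQlt)

theorem odd_normal_trivial {G : Type*} [Group G] [Finite G] (hcard : Nat.card G = 120)
    (hns : ¬ Group.IsSolvable G) (N : Subgroup G) (hN : N.Normal) (hodd : Odd (Nat.card N)) :
    N = ⊥ := by
  haveI := hN
  have hmul := Subgroup.card_eq_card_quotient_mul_card_subgroup N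
  rw [hcard] at hmul
  have hd := Subgroup.card_subgroup_dvd_card N
  rw [hcard] at hd
  have p2 : Nat.Prime 2 := by norm_num
  have p3 : Nat.Prime 3 := by norm_num
  have p5 : Nat.Prime 5 := by norm_num
  rcases odd_dvd120_cases _ (Nat.le_of_dvd (by norm_num) hd) hd (Nat.odd_iff.1 hodd) with
    h | h | h | h
  · exact Subgroup.eq_bot_of_card_eq N h
  · exfalso
    rw [h] at hmul
    have hq : Nat.card (G ⧸ N) = 40 := by omega
    exact hns (solv_ext N (Cfsg.Agent.S0144.result 3 5 1 0 p3 p5 (h.trans (by norm_num)))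
      (Cfsg.Agent.S0144.result 2 5 3 1 p2 p5 (hq.trans (by norm_num))))
  · exfalso
    rw [h] at hmul
    have hq : Nat.card (G ⧸ N) = 24 := by omega
    exact hns (solv_ext N (Cfsg.Agent.S0144.result 3 5 0 1 p3 p5 (h.trans (by norm_num)))
      (Cfsg.Agent.S0144.result 2 3 3 1 p2 p3 (hq.trans (by norm_num))))
  · exfalso
    rw [h] at hmul
    have hq : Nat.card (G ⧸ N) = 8 := by omega
    exact hns (solv_ext N (Cfsg.Agent.S0144.result 3 5 1 1 p3 p5 (h.trans (by norm_num)))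
      (Cfsg.Agent.S0144.result 2 3 3 0 p2 p3 (hq.trans (by norm_num))))

theorem invol_in_center {G : Type*} [Group G] [Finite G]
    (hsyl : ∀ P : Sylow 2 G, Nonempty ((P : Subgroup G) ≃* QuaternionGroup 2))
    (hZ : Nat.card (Subgroup.center G) = 2) (z : G) (hzc : z ∈ Subgroup.center G) (hz1 : z ≠ 1)
    (hz2 : z ^ 2 = 1) (W : G) (hW1 : W ≠ 1) (hW2 : W ^ 2 = 1) : W = z := by
  have hpW : IsPGroup 2 (Subgroup.zpowers W) := by
    apply IsPGroup.of_card (n := 1)
    rw [Nat.card_zpowers, orderOf_eq_prime hW2 hW1, pow_one]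
  obtain ⟨P, hWP⟩ := hpW.exists_le_sylow
  have hpZ : IsPGroup 2 (Subgroup.center G) := IsPGroup.of_card (n := 1) (by rw [hZ, pow_one])
  have hsup : IsPGroup 2 ((P : Subgroup G) ⊔ Subgroup.center G : Subgroup G) :=
    IsPGroup.to_sup_of_normal_right P.isPGroup' hpZ
  have hle : Subgroup.center G ≤ (P : Subgroup G) := by
    have h := P.is_maximal' hsup le_sup_left
    calc Subgroup.center G ≤ (P : Subgroup G) ⊔ Subgroup.center G := le_sup_right
      _ = (P : Subgroup G) := h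
  obtain ⟨e⟩ := hsyl P
  have hWm : W ∈ (P : Subgroup G) := hWP (Subgroup.mem_zpowers W)
  have hzm : z ∈ (P : Subgroup G) := hle hzc
  have hne : ∀ (g : G) (hg : g ∈ (P : Subgroup G)), g ≠ 1 → e ⟨g, hg⟩ ≠ 1 := by
    intro g hg hg1 h
    apply hg1
    have h2 : (⟨g, hg⟩ : (P : Subgroup G)) = 1 := e.injective (h.trans (map_one e).symm)
    exact congrArg Subtype.val h2
  have hsq : ∀ (g : G) (hg : g ∈ (P : Subgroup G)), g ^ 2 = 1 →
      e ⟨g, hg⟩ * e ⟨g, hg⟩ = 1 := by
    intro g hg hg2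
    rw [← map_mul]
    have h2 : (⟨g, hg⟩ : (P : Subgroup G)) * ⟨g, hg⟩ = 1 := by
      apply Subtype.ext
      show g * g = 1
      rw [← pow_two]; exact hg2
    rw [h2, map_one]
  have key := quat_invol (e ⟨W, hWm⟩) (e ⟨z, hzm⟩) (hne W hWm hW1) (hne z hzm hz1)
    (hsq W hWm hW2) (hsq z hzm hz2)
  have h3 := e.injective key
  exact congrArg Subtype.val h3

/-! ### the presented group -/

abbrev F3 := FreeGroup (Fin 3)

abbrev rels3 : Set F3 :=
  ({FreeGroup.of (0 : Fin 3) ^ 3, FreeGroup.of (1 : Fin 3) ^ 5, FreeGroup.of (2 : Fin 3) ^ 2,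
        (FreeGroup.of (2 : Fin 3))⁻¹ * FreeGroup.of 0 * FreeGroup.of 2 * (FreeGroup.of (0 : Fin 3))⁻¹,
        (FreeGroup.of (2 : Fin 3))⁻¹ * FreeGroup.of 1 * FreeGroup.of 2 * (FreeGroup.of (1 : Fin 3))⁻¹,
        (FreeGroup.of (0 : Fin 3) * FreeGroup.of 1) ^ 2 * (FreeGroup.of (2 : Fin 3))⁻¹} :
          Set (FreeGroup (Fin 3)))

abbrev Gam := PresentedGroup rels3

def gx : Gam := PresentedGroup.of 0
def gy : Gam := PresentedGroup.of 1
def gz : Gam := PresentedGroup.of 2

theorem gx3 : gx ^ 3 = 1 := by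
  have h : PresentedGroup.mk rels3 (FreeGroup.of (0 : Fin 3) ^ 3) = 1 :=
    PresentedGroup.one_of_mem (Or.inl rfl)
  rw [map_pow] at h
  exact h

theorem gy5 : gy ^ 5 = 1 := by
  have h : PresentedGroup.mk rels3 (FreeGroup.of (1 : Fin 3) ^ 5) = 1 :=
    PresentedGroup.one_of_mem (Or.inr (Or.inl rfl))
  rw [map_pow] at h
  exact h

theorem gz2 : gz ^ 2 = 1 := by
  have h : PresentedGroup.mk rels3 (FreeGroup.of (2 : Fin 3) ^ 2) = 1 :=
    PresentedGroup.one_of_mem (Or.inr (Or.inr (Or.inl rfl)))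
  rw [map_pow] at h
  exact h

theorem gz_comm_gx : gz * gx = gx * gz := by
  have h : PresentedGroup.mk rels3 ((FreeGroup.of (2 : Fin 3))⁻¹ * FreeGroup.of 0 *
      FreeGroup.of 2 * (FreeGroup.of (0 : Fin 3))⁻¹) = 1 :=
    PresentedGroup.one_of_mem (Or.inr (Or.inr (Or.inr (Or.inl rfl))))
  rw [map_mul, map_mul, map_mul, map_inv, map_inv] at h
  change gz⁻¹ * gx * gz * gx⁻¹ = 1 at h
  have h2 : gz⁻¹ * gx * gz = gx := by rwa [mul_inv_eq_one] at h
  calc gz * gx = gz * (gz⁻¹ * gx * gz) := by rw [h2]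
    _ = gx * gz := by group

theorem gz_comm_gy : gz * gy = gy * gz := by
  have h : PresentedGroup.mk rels3 ((FreeGroup.of (2 : Fin 3))⁻¹ * FreeGroup.of 1 *
      FreeGroup.of 2 * (FreeGroup.of (1 : Fin 3))⁻¹) = 1 :=
    PresentedGroup.one_of_mem (Or.inr (Or.inr (Or.inr (Or.inr (Or.inl rfl)))))
  rw [map_mul, map_mul, map_mul, map_inv, map_inv] at h
  change gz⁻¹ * gy * gz * gy⁻¹ = 1 at h
  have h2 : gz⁻¹ * gy * gz = gy := by rwa [mul_inv_eq_one] at h
  calc gz * gy = gz * (gz⁻¹ * gy * gz) := by rw [h2]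
    _ = gy * gz := by group

theorem gxy2 : (gx * gy) ^ 2 = gz := by
  have h : PresentedGroup.mk rels3 ((FreeGroup.of (0 : Fin 3) * FreeGroup.of 1) ^ 2 *
      (FreeGroup.of (2 : Fin 3))⁻¹) = 1 :=
    PresentedGroup.one_of_mem (Or.inr (Or.inr (Or.inr (Or.inr (Or.inr rfl)))))
  rw [map_mul, map_pow, map_mul, map_inv] at h
  change (gx * gy) ^ 2 * gz⁻¹ = 1 at h
  rwa [mul_inv_eq_one] at h

theorem gz_central (g : Gam) : gz * g = g * gz := by
  have hcl : Subgroup.closure (Set.range (PresentedGroup.of (rels := rels3))) = ⊤ :=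
    PresentedGroup.closure_range_of rels3
  have hg : g ∈ Subgroup.closure (Set.range (PresentedGroup.of (rels := rels3))) := by
    rw [hcl]; trivial
  have hle : Subgroup.closure (Set.range (PresentedGroup.of (rels := rels3))) ≤
      Subgroup.centralizer {gz} := by
    rw [Subgroup.closure_le]
    rintro _ ⟨i, rfl⟩
    rw [SetLike.mem_coe, Subgroup.mem_centralizer_iff]
    intro h hh
    rw [Set.mem_singleton_iff] at hh
    subst hh
    fin_cases i
    · exact gz_comm_gx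
    · exact gz_comm_gy
    · rfl
  have h3 := hle hg
  rw [Subgroup.mem_centralizer_iff] at h3
  exact h3 gz rfl

def Zs : Subgroup Gam := Subgroup.zpowers gz

instance Zs_normal : Zs.Normal := by
  constructor
  intro n hn g
  obtain ⟨k, rfl⟩ := Subgroup.mem_zpowers_iff.1 hn
  have hc0 : Commute g gz := (gz_central g).symm
  have hc : Commute g (gz ^ k) := hc0.zpow_right k
  rw [hc.eq, mul_inv_cancel_right]
  exact Subgroup.zpow_mem_zpowers gz k

def piZ : Gam →* Gam ⧸ Zs := QuotientGroup.mk' Zs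

theorem piZ_gz : piZ gz = 1 :=
  (QuotientGroup.eq_one_iff (N := Zs) gz).2 (Subgroup.mem_zpowers gz)

theorem toQ_rel (r : FreeGroup (Fin 2)) (hr : r ∈ Cfsg.Agent.S3377.rels) :
    FreeGroup.lift ![piZ gx, piZ gy] r = 1 := by
  delta Cfsg.Agent.S3377.rels at hr
  simp only [Set.mem_insert_iff, Set.mem_singleton_iff] at hr
  rcases hr with rfl | rfl | rfl
  · simp only [map_pow, FreeGroup.lift_apply_of]
    show piZ gx ^ 3 = 1
    rw [← map_pow, gx3, map_one]
  · simp only [map_pow, FreeGroup.lift_apply_of]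
    show piZ gy ^ 5 = 1
    rw [← map_pow, gy5, map_one]
  · simp only [map_pow, map_mul, FreeGroup.lift_apply_of]
    show (piZ gx * piZ gy) ^ 2 = 1
    rw [← map_mul, ← map_pow, gxy2, piZ_gz]

def toQ : PresentedGroup Cfsg.Agent.S3377.rels →* Gam ⧸ Zs :=
  PresentedGroup.toGroup (f := ![piZ gx, piZ gy]) toQ_rel

theorem toQ_x : toQ (PresentedGroup.of 0) = piZ gx := PresentedGroup.toGroup.of _
theorem toQ_y : toQ (PresentedGroup.of 1) = piZ gy := PresentedGroup.toGroup.of _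

theorem toQ_surj : Function.Surjective toQ := by
  rw [← MonoidHom.range_eq_top]
  have h1 : Subgroup.comap piZ toQ.range = ⊤ := by
    rw [eq_top_iff, ← PresentedGroup.closure_range_of rels3, Subgroup.closure_le]
    rintro _ ⟨i, rfl⟩
    rw [SetLike.mem_coe, Subgroup.mem_comap]
    fin_cases i
    · exact MonoidHom.mem_range.2 ⟨PresentedGroup.of 0, toQ_x⟩
    · exact MonoidHom.mem_range.2 ⟨PresentedGroup.of 1, toQ_y⟩
    · show piZ gz ∈ toQ.range
      rw [piZ_gz]; exact one_mem _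
  rw [eq_top_iff]
  intro q _
  obtain ⟨g, rfl⟩ := QuotientGroup.mk'_surjective Zs q
  have h2 : g ∈ Subgroup.comap piZ toQ.range := by rw [h1]; trivial
  exact h2

theorem card_quot_le : Nat.card (Gam ⧸ Zs) ≤ 60 ∧ Finite (Gam ⧸ Zs) := by
  obtain ⟨e⟩ := Cfsg.Agent.S3377.result
  haveI : Finite (PresentedGroup Cfsg.Agent.S3377.rels) := Finite.of_equiv _ e.symm.toEquiv
  have h60 : Nat.card (PresentedGroup Cfsg.Agent.S3377.rels) = 60 := by
    rw [Nat.card_congr e.toEquiv]; exact Cfsg.Agent.S3377.card_A5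
  refine ⟨?_, Finite.of_surjective toQ toQ_surj⟩
  rw [← h60]
  exact Nat.card_le_card_of_surjective toQ toQ_surj

theorem gam_finite_card : Finite Gam ∧ Nat.card Gam ≤ 120 := by
  obtain ⟨h60, hfin⟩ := card_quot_le
  haveI := hfin
  have hz : orderOf gz ∣ 2 := orderOf_dvd_of_pow_eq_one gz2
  have hz2 : Nat.card Zs ∣ 2 := by
    show Nat.card (Subgroup.zpowers gz) ∣ 2
    rw [Nat.card_zpowers]; exact hz
  have hz3 : Nat.card Zs ≤ 2 := Nat.le_of_dvd two_pos hz2
  have hz4 : 0 < Nat.card Zs := Nat.pos_of_dvd_of_pos hz2 two_pos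
  have hq : 0 < Nat.card (Gam ⧸ Zs) := Nat.card_pos
  have hmul := Subgroup.card_eq_card_quotient_mul_card_subgroup Zs
  have hpos : 0 < Nat.card Gam := by rw [hmul]; exact Nat.mul_pos hq hz4
  refine ⟨Nat.finite_of_card_ne_zero hpos.ne', ?_⟩
  rw [hmul]
  calc Nat.card (Gam ⧸ Zs) * Nat.card Zs ≤ 60 * 2 := Nat.mul_le_mul h60 hz3
    _ = 120 := by norm_num

/-! ### lifting -/

section lift

variable {H : Type*} [Group H] (X Y Z : H) (h1 : X ^ 3 = 1) (h2 : Y ^ 5 = 1) (h3 : Z ^ 2 = 1)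
  (h4 : Z * X = X * Z) (h5 : Z * Y = Y * Z) (h6 : (X * Y) ^ 2 = Z)

include h1 h2 h3 h4 h5 h6 in
theorem lift_rel (r : F3) (hr : r ∈ rels3) : FreeGroup.lift ![X, Y, Z] r = 1 := by
  delta rels3 at hr
  simp only [Set.mem_insert_iff, Set.mem_singleton_iff] at hr
  rcases hr with rfl | rfl | rfl | rfl | rfl | rfl
  · simp only [map_pow, FreeGroup.lift_apply_of]
    exact h1
  · simp only [map_pow, FreeGroup.lift_apply_of]
    exact h2
  · simp only [map_pow, FreeGroup.lift_apply_of]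
    exact h3
  · simp only [map_mul, map_inv, FreeGroup.lift_apply_of]
    exact comm_rel Z X h4
  · simp only [map_mul, map_inv, FreeGroup.lift_apply_of]
    exact comm_rel Z Y h5
  · simp only [map_pow, map_mul, map_inv, FreeGroup.lift_apply_of]
    show (X * Y) ^ 2 * Z⁻¹ = 1
    rw [h6, mul_inv_cancel]

def liftG : Gam →* H :=
  PresentedGroup.toGroup (f := ![X, Y, Z]) (lift_rel X Y Z h1 h2 h3 h4 h5 h6)

theorem liftG_x : liftG X Y Z h1 h2 h3 h4 h5 h6 gx = X := PresentedGroup.toGroup.of _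
theorem liftG_y : liftG X Y Z h1 h2 h3 h4 h5 h6 gy = Y := PresentedGroup.toGroup.of _
theorem liftG_z : liftG X Y Z h1 h2 h3 h4 h5 h6 gz = Z := PresentedGroup.toGroup.of _

end lift

/-! ### the matrices -/

def mA : G5 := ⟨!![0,-1;1,-1], by rw [Matrix.det_fin_two_of]; decide⟩
def mC : G5 := ⟨!![-1,0;0,-1], by rw [Matrix.det_fin_two_of]; decide⟩

set_option maxRecDepth 100000 in
theorem mA3 : mA ^ 3 = 1 := by decide
set_option maxRecDepth 100000 in
theorem mAU2 : (mA * U 1) ^ 2 = mC := by decide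
set_option maxRecDepth 100000 in
theorem Lw_eq : Lw 1 = mA * (U 1) ^ 4 * mA ^ 2 := by decide
set_option maxRecDepth 100000 in
theorem mC2 : mC ^ 2 = 1 := by decide
set_option maxRecDepth 100000 in
theorem mC_mA : mC * mA = mA * mC := by decide
set_option maxRecDepth 100000 in
theorem mC_U : mC * U 1 = U 1 * mC := by decide
set_option maxRecDepth 100000 in
theorem U5 : U 1 ^ 5 = 1 := by decide

def psi : Gam →* G5 := liftG mA (U 1) mC mA3 U5 mC2 mC_mA mC_U mAU2

theorem psi_x : psi gx = mA := liftG_x _ _ _ _ _ _ _ _ _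
theorem psi_y : psi gy = U 1 := liftG_y _ _ _ _ _ _ _ _ _

theorem psi_surj : Function.Surjective psi := by
  rw [← MonoidHom.range_eq_top, eq_top_iff, ← gen, Subgroup.closure_le]
  intro g hg
  rcases hg with rfl | hg
  · exact MonoidHom.mem_range.2 ⟨gy, psi_y⟩
  · rw [Set.mem_singleton_iff] at hg
    subst hg
    refine MonoidHom.mem_range.2 ⟨gx * gy ^ 4 * gx ^ 2, ?_⟩
    rw [map_mul, map_mul, map_pow, map_pow, psi_x, psi_y]
    exact Lw_eq.symm

theorem card_G5 : Nat.card G5 = 120 := by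
  have h := Cfsg.Agent.Lib.Helper4.card_SL2 (F := ZMod 5)
  rw [ZMod.card] at h
  exact h.trans (by norm_num)

theorem part2 : Nonempty (Gam ≃* G5) := by
  obtain ⟨hfin, hle⟩ := gam_finite_card
  haveI := hfin
  have hbij : Function.Bijective psi :=
    psi_surj.bijective_of_nat_card_le (by rw [card_G5]; exact hle)
  exact ⟨MulEquiv.ofBijective psi hbij⟩

/-! ### relations in the presentation of `A5` -/

abbrev P2 := PresentedGroup Cfsg.Agent.S3377.rels

theorem P_x3 : (PresentedGroup.of 0 : P2) ^ 3 = 1 := by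
  have h : PresentedGroup.mk Cfsg.Agent.S3377.rels (FreeGroup.of (0 : Fin 2) ^ 3) = 1 :=
    PresentedGroup.one_of_mem (Or.inl rfl)
  rw [map_pow] at h
  exact h

theorem P_y5 : (PresentedGroup.of 1 : P2) ^ 5 = 1 := by
  have h : PresentedGroup.mk Cfsg.Agent.S3377.rels (FreeGroup.of (1 : Fin 2) ^ 5) = 1 :=
    PresentedGroup.one_of_mem (Or.inr (Or.inl rfl))
  rw [map_pow] at h
  exact h

theorem P_xy2 : ((PresentedGroup.of 0 : P2) * PresentedGroup.of 1) ^ 2 = 1 := by
  have h : PresentedGroup.mk Cfsg.Agent.S3377.rels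
      ((FreeGroup.of (0 : Fin 2) * FreeGroup.of 1) ^ 2) = 1 :=
    PresentedGroup.one_of_mem (Or.inr (Or.inr rfl))
  rw [map_pow, map_mul] at h
  exact h

/-! ### the recognition theorem -/

section part1

universe u

variable {G : Type u} [Group G] [Finite G]

theorem center_card (hcard : Nat.card G = 120) (hns : ¬ Group.IsSolvable G)
    (hsyl : ∀ P : Sylow 2 G, Nonempty ((P : Subgroup G) ≃* QuaternionGroup 2)) :
    Nat.card (Subgroup.center G) = 2 := by
  obtain ⟨P⟩ : Nonempty (Sylow 2 G) := inferInstance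
  obtain ⟨e⟩ := hsyl P
  exact Cfsg.Agent.S0201.result P 0 e
    (fun N hN hodd => odd_normal_trivial hcard hns N hN hodd)

theorem part1 (hcard : Nat.card G = 120) (hns : ¬ Group.IsSolvable G)
    (hsyl : ∀ P : Sylow 2 G, Nonempty ((P : Subgroup G) ≃* QuaternionGroup 2)) :
    Nonempty (G ≃* G5) := by
  classical
  have hZ : Nat.card (Subgroup.center G) = 2 := center_card hcard hns hsyl
  obtain ⟨z, hz1, hzu⟩ := (Nat.card_eq_two_iff' (1 : Subgroup.center G)).1 hZ
  have hz1' : z ≠ 1 := hz1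
  have hzu' : ∀ y : Subgroup.center G, y ≠ 1 → y = z := hzu
  have hcz : ∀ c : G, c ∈ Subgroup.center G → c = 1 ∨ c = z.1 := by
    intro c hc
    by_cases h : (⟨c, hc⟩ : Subgroup.center G) = 1
    · left; exact congrArg Subtype.val h
    · right; exact congrArg Subtype.val (hzu' ⟨c, hc⟩ h)
  have hc2 : ∀ c : G, c ∈ Subgroup.center G → c ^ 2 = 1 := by
    intro c hc
    have h := pow_card_eq_one' (G := Subgroup.center G) (x := ⟨c, hc⟩)
    rw [hZ] at h
    have h' := congrArg Subtype.val h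
    simpa using h'
  have hzc : z.1 ∈ Subgroup.center G := z.2
  have hzne : z.1 ≠ 1 := by
    intro h
    apply hz1'
    exact Subtype.ext h
  -- the quotient
  obtain ⟨π, hπsurj, hπker⟩ : ∃ π : G →* G ⧸ Subgroup.center G, Function.Surjective π ∧
      ∀ g, π g = 1 ↔ g ∈ Subgroup.center G :=
    ⟨QuotientGroup.mk' _, QuotientGroup.mk'_surjective _, fun g => QuotientGroup.eq_one_iff g⟩
  have hQ60 : Nat.card (G ⧸ Subgroup.center G) = 60 := by
    have h := Subgroup.card_eq_card_quotient_mul_card_subgroup (Subgroup.center G)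
    rw [hcard, hZ] at h
    omega
  have hQns : ¬ Group.IsSolvable (G ⧸ Subgroup.center G) := by
    intro h
    exact hns (solv_ext (Subgroup.center G)
      (Cfsg.Agent.S0144.result 2 3 1 0 (by norm_num) (by norm_num) (hZ.trans (by norm_num))) h)
  haveI : IsSimpleGroup (G ⧸ Subgroup.center G) := simple_of_card_60 hQ60 hQns
  obtain ⟨e1⟩ := Cfsg.Agent.Lib.Helper4.simple_sixty_iso hQ60
  obtain ⟨e2⟩ := Cfsg.Agent.S3377.result
  obtain ⟨f, hf_surj⟩ : ∃ f : P2 →* G ⧸ Subgroup.center G, Function.Surjective f :=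
    ⟨e1.symm.toMonoidHom.comp e2.toMonoidHom, e1.symm.surjective.comp e2.surjective⟩
  obtain ⟨xb, hxb⟩ : ∃ xb, xb = f (PresentedGroup.of 0) := ⟨_, rfl⟩
  obtain ⟨yb, hyb⟩ : ∃ yb, yb = f (PresentedGroup.of 1) := ⟨_, rfl⟩
  have hxb3 : xb ^ 3 = 1 := by rw [hxb, ← map_pow, P_x3, map_one]
  have hyb5 : yb ^ 5 = 1 := by rw [hyb, ← map_pow, P_y5, map_one]
  have hxyb2 : (xb * yb) ^ 2 = 1 := by rw [hxb, hyb, ← map_mul, ← map_pow, P_xy2, map_one]
  have hxyb : xb * yb ≠ 1 := by
    intro h1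
    apply hQns
    have hyx : yb = xb⁻¹ := eq_inv_of_mul_eq_one_right h1
    have hall : ∀ q : G ⧸ Subgroup.center G, q ∈ Subgroup.zpowers xb := by
      intro q
      obtain ⟨w, rfl⟩ := hf_surj q
      have htop : Subgroup.comap f (Subgroup.zpowers xb) = ⊤ := by
        rw [eq_top_iff, ← PresentedGroup.closure_range_of Cfsg.Agent.S3377.rels,
          Subgroup.closure_le]
        rintro _ ⟨i, rfl⟩
        rw [SetLike.mem_coe, Subgroup.mem_comap]
        fin_cases i
        · show f (PresentedGroup.of 0) ∈ Subgroup.zpowers xb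
          rw [← hxb]; exact Subgroup.mem_zpowers xb
        · show f (PresentedGroup.of 1) ∈ Subgroup.zpowers xb
          rw [← hyb, hyx]; exact inv_mem (Subgroup.mem_zpowers xb)
      have hw : w ∈ Subgroup.comap f (Subgroup.zpowers xb) := by rw [htop]; trivial
      exact hw
    apply Group.isSolvable_of_comm
    intro a b
    obtain ⟨i, rfl⟩ := Subgroup.mem_zpowers_iff.1 (hall a)
    obtain ⟨j, rfl⟩ := Subgroup.mem_zpowers_iff.1 (hall b)
    rw [← zpow_add, ← zpow_add, add_comm]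
  -- lifts
  obtain ⟨X0, hX0⟩ := hπsurj xb
  obtain ⟨Y0, hY0⟩ := hπsurj yb
  have hX03 : X0 ^ 3 ∈ Subgroup.center G := by rw [← hπker, map_pow, hX0, hxb3]
  have hY05 : Y0 ^ 5 ∈ Subgroup.center G := by rw [← hπker, map_pow, hY0, hyb5]
  obtain ⟨X, hXdef⟩ : ∃ X, X = X0 ^ 4 := ⟨_, rfl⟩
  obtain ⟨Y, hYdef⟩ : ∃ Y, Y = Y0 ^ 6 := ⟨_, rfl⟩
  have hX3 : X ^ 3 = 1 := by
    have h : (X0 ^ 4) ^ 3 = ((X0 ^ 3) ^ 2) ^ 2 := by group
    rw [hXdef, h, hc2 _ hX03, one_pow]
  have hY5 : Y ^ 5 = 1 := by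
    have h : (Y0 ^ 6) ^ 5 = ((Y0 ^ 5) ^ 2) ^ 3 := by group
    rw [hYdef, h, hc2 _ hY05, one_pow]
  have hπX : π X = xb := by
    rw [hXdef, map_pow, hX0, pow_succ, hxb3, one_mul]
  have hπY : π Y = yb := by
    rw [hYdef, map_pow, hY0, pow_succ, hyb5, one_mul]
  have hW2c : (X * Y) ^ 2 ∈ Subgroup.center G := by
    rw [← hπker, map_pow, map_mul, hπX, hπY, hxyb2]
  have hWnc : X * Y ∉ Subgroup.center G := by
    rw [← hπker, map_mul, hπX, hπY]; exact hxyb
  have hW2 : (X * Y) ^ 2 = z.1 := by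
    rcases hcz _ hW2c with h1 | h1
    · exfalso
      have hW1 : X * Y ≠ 1 := by
        intro h
        apply hWnc
        rw [h]; exact one_mem _
      have hWz := invol_in_center hsyl hZ z.1 hzc hzne (hc2 _ hzc) (X * Y) hW1 h1
      apply hWnc
      rw [hWz]; exact hzc
    · exact h1
  have hzX : z.1 * X = X * z.1 := (Subgroup.mem_center_iff.1 hzc X).symm
  have hzY : z.1 * Y = Y * z.1 := (Subgroup.mem_center_iff.1 hzc Y).symm
  obtain ⟨Θ, hΘx, hΘy, hΘz⟩ : ∃ Θ : Gam →* G, Θ gx = X ∧ Θ gy = Y ∧ Θ gz = z.1 :=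
    ⟨liftG X Y z.1 hX3 hY5 (hc2 _ hzc) hzX hzY hW2, liftG_x _ _ _ _ _ _ _ _ _,
      liftG_y _ _ _ _ _ _ _ _ _, liftG_z _ _ _ _ _ _ _ _ _⟩
  have hker : π.ker = Subgroup.center G := by
    ext g; rw [MonoidHom.mem_ker]; exact hπker g
  have hcR : Subgroup.center G ≤ Θ.range := by
    intro c hc
    rcases hcz c hc with h | h
    · rw [h]; exact one_mem _
    · rw [h]; exact MonoidHom.mem_range.2 ⟨gz, hΘz⟩
  have hmap : Subgroup.map π Θ.range = ⊤ := by
    rw [eq_top_iff]
    intro q _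
    obtain ⟨w, rfl⟩ := hf_surj q
    have htop : Subgroup.comap f (Subgroup.map π Θ.range) = ⊤ := by
      rw [eq_top_iff, ← PresentedGroup.closure_range_of Cfsg.Agent.S3377.rels,
        Subgroup.closure_le]
      rintro _ ⟨i, rfl⟩
      rw [SetLike.mem_coe, Subgroup.mem_comap]
      fin_cases i
      · show f (PresentedGroup.of 0) ∈ Subgroup.map π Θ.range
        exact Subgroup.mem_map.2 ⟨X, MonoidHom.mem_range.2 ⟨gx, hΘx⟩, hπX.trans hxb⟩
      · show f (PresentedGroup.of 1) ∈ Subgroup.map π Θ.range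
        exact Subgroup.mem_map.2 ⟨Y, MonoidHom.mem_range.2 ⟨gy, hΘy⟩, hπY.trans hyb⟩
    have hw : w ∈ Subgroup.comap f (Subgroup.map π Θ.range) := by rw [htop]; trivial
    exact hw
  have hRtop : Θ.range = ⊤ := by
    rw [← Subgroup.comap_map_eq_self (f := π) (H := Θ.range) (by rw [hker]; exact hcR), hmap,
      Subgroup.comap_top]
  have hΘsurj : Function.Surjective Θ := MonoidHom.range_eq_top.1 hRtop
  obtain ⟨hfin, hle⟩ := gam_finite_card
  haveI := hfin
  have hbij : Function.Bijective Θ :=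
    hΘsurj.bijective_of_nat_card_le (by rw [hcard]; exact hle)
  obtain ⟨eG⟩ := part2
  exact ⟨(MulEquiv.ofBijective Θ hbij).symm.trans eG⟩

end part1

end Cfsg.Agent.Lib.Lead.SL25Pres
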