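import Mathlib
import Cfsg.Agent.Lib.Lead.Invol
import Cfsg.Agent.S0216

set_option autoImplicit false

namespace Cfsg.Agent.Lib.Lead
namespace KleinSylow

variable {G : Type*} [Group G] [Finite G]

/-- the three involutions of a Klein four subgroup -/
theorem exists_three (P : Subgroup G) (hP : IsKleinFour P) :
    ∃ a b : G, a ∈ P ∧ b ∈ P ∧ a ≠ 1 ∧ b ≠ 1 ∧ a ≠ b ∧
      ∀ x ∈ P, x = 1 ∨ x = a ∨ x = b ∨ x = a * b := by
  classical
  haveI := hP
  haveI : Fintype P := Fintype.ofFinite P
  have hcard : Fintype.card P = 4 := IsKleinFour.card_four' (G := P)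
  -- a nontrivial element
  have h1 : ∃ a : P, a ≠ 1 := by
    by_contra h
    push Not at h
    have : Fintype.card P ≤ 1 := Fintype.card_le_one_iff.mpr (fun x y => (h x).trans (h y).symm)
    omega
  obtain ⟨a, ha⟩ := h1
  have h2 : ∃ b : P, b ≠ 1 ∧ b ≠ a := by
    by_contra h
    push Not at h
    have hsub : (Finset.univ : Finset P) ⊆ {1, a} := by
      intro x _
      by_cases hx : x = 1
      · simp [hx]
      · simp [h x hx]
    have := Finset.card_le_card hsub
    rw [Finset.card_univ, hcard] at this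
    have h3 : ({1, a} : Finset P).card ≤ 2 := Finset.card_le_two
    omega
  obtain ⟨b, hb1, hba⟩ := h2
  refine ⟨a, b, a.2, b.2, ?_, ?_, ?_, ?_⟩
  · intro h; exact ha (Subtype.ext h)
  · intro h; exact hb1 (Subtype.ext h)
  · intro h; exact hba (Subtype.ext h).symm
  · intro x hx
    by_cases hx1 : (⟨x, hx⟩ : P) = 1
    · left; exact congrArg Subtype.val hx1
    by_cases hxa : (⟨x, hx⟩ : P) = a
    · right; left; exact congrArg Subtype.val hxa
    by_cases hxb : (⟨x, hx⟩ : P) = b
    · right; right; left; exact congrArg Subtype.val hxb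
    right; right; right
    have := IsKleinFour.eq_mul_of_ne_all ha hb1 (Ne.symm hba) hx1 hxa hxb
    exact congrArg Subtype.val this

theorem orderOf_two_of_mem (P : Subgroup G) (hP : IsKleinFour P) (x : G) (hx : x ∈ P)
    (hx1 : x ≠ 1) : orderOf x = 2 := by
  haveI := hP
  apply invol_of_mul_self hx1
  have := IsKleinFour.mul_self (⟨x, hx⟩ : P)
  exact congrArg Subtype.val this

theorem commute_of_mem (P : Subgroup G) (hP : IsKleinFour P) (x y : G) (hx : x ∈ P)
    (hy : y ∈ P) : Commute x y := by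
  haveI := hP
  haveI : IsMulCommutative P := IsKleinFour.isMulCommutative
  have := IsMulCommutative.is_comm.comm (⟨x, hx⟩ : P) ⟨y, hy⟩
  exact congrArg Subtype.val this

/-- every involution is conjugate into a Sylow 2-subgroup -/
theorem conj_mem_sylow (P : Sylow 2 G) (t : G) (ht : orderOf t = 2) :
    ∃ g : G, g * t * g⁻¹ ∈ P := by
  haveI : Fact (Nat.Prime 2) := ⟨Nat.prime_two⟩
  have hp : IsPGroup 2 (Subgroup.zpowers t) := by
    apply IsPGroup.of_card (n := 1)
    rw [Nat.card_zpowers, ht, pow_one]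
  obtain ⟨Q, hQ⟩ := hp.exists_le_sylow
  obtain ⟨g, hg⟩ := MulAction.exists_smul_eq G P Q
  have h1 : t ∈ Q := hQ (Subgroup.mem_zpowers t)
  rw [← hg, Cfsg.Agent.S0216.mem_smul_sylow] at h1
  exact ⟨g⁻¹, by rwa [inv_inv]⟩

/-- Burnside's fusion lemma for the Klein four Sylow subgroup -/
theorem burnside (P : Sylow 2 G) (hP : IsKleinFour (P : Subgroup G)) (x y : G) (hx : x ∈ P)
    (hy : y ∈ P) (hxy : IsConj x y) :
    ∃ n ∈ Subgroup.normalizer ((P : Subgroup G) : Set G), n * x * n⁻¹ = y := by
  haveI : Fact (Nat.Prime 2) := ⟨Nat.prime_two⟩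
  haveI := hP
  haveI : IsMulCommutative (P : Subgroup G) := IsKleinFour.isMulCommutative
  obtain ⟨g, hg⟩ := isConj_iff.mp hxy
  have hy' : (g⁻¹)⁻¹ * x * g⁻¹ ∈ P := by rw [inv_inv, hg]; exact hy
  obtain ⟨n, hn, hn'⟩ := P.conj_eq_normalizer_conj_of_mem x g⁻¹ hx hy'
  refine ⟨n⁻¹, inv_mem hn, ?_⟩
  rw [inv_inv, ← hn', inv_inv, hg]

/-- a 2-element normalizing a Sylow 2-subgroup lies in it -/
theorem mem_of_two_elt_normalizer (P : Sylow 2 G) (n : G)
    (hn : n ∈ Subgroup.normalizer ((P : Subgroup G) : Set G)) (k : ℕ) (hk : orderOf n = 2 ^ k) :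
    n ∈ P := by
  have hp : IsPGroup 2 (Subgroup.zpowers n) := by
    apply IsPGroup.of_card (n := k)
    rw [Nat.card_zpowers, hk]
  have hle : Subgroup.zpowers n ≤ Subgroup.normalizer ((P : Subgroup G) : Set G) := by
    rw [Subgroup.zpowers_le]; exact hn
  have hsup := IsPGroup.to_sup_of_normal_right' hp P.2 hle
  have h3 := P.3 hsup le_sup_right
  have h4 : n ∈ Subgroup.zpowers n ⊔ (P : Subgroup G) :=
    Subgroup.mem_sup_left (Subgroup.mem_zpowers n)
  rw [h3] at h4
  exact h4

/-- if two of the three involutions are conjugate then all are -/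
theorem conj_all (P : Sylow 2 G) (hP : IsKleinFour (P : Subgroup G)) (x y z : G)
    (hx : x ∈ P) (hy : y ∈ P) (hz : z ∈ P) (hx1 : x ≠ 1) (hy1 : y ≠ 1) (hz1 : z ≠ 1)
    (hxy : x ≠ y) (hxz : x ≠ z) (hyz : y ≠ z)
    (hall : ∀ w ∈ P, w = 1 ∨ w = x ∨ w = y ∨ w = z) (hconj : IsConj y z) : IsConj x y := by
  obtain ⟨n, hn, hnyz⟩ := burnside P hP y z hy hz hconj
  have hnorm : ∀ w ∈ P, n * w * n⁻¹ ∈ P := fun w hw =>
    (Subgroup.mem_normalizer_iff.mp hn w).mp hw
  -- where does x go?
  have hnx := hall _ (hnorm x hx)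
  have hinj : ∀ u v : G, n * u * n⁻¹ = n * v * n⁻¹ → u = v := by
    intro u v h
    have := mul_right_cancel h
    exact mul_left_cancel this
  rcases hnx with h | h | h | h
  · exfalso
    apply hx1
    have : n * x * n⁻¹ = n * 1 * n⁻¹ := by rw [h]; group
    exact hinj _ _ this
  · -- n fixes x, so it swaps y and z
    exfalso
    have hnz := hall _ (hnorm z hz)
    have hnzy : n * z * n⁻¹ = y := by
      rcases hnz with h' | h' | h' | h'
      · exfalso; apply hz1
        have : n * z * n⁻¹ = n * 1 * n⁻¹ := by rw [h']; group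
        exact hinj _ _ this
      · exfalso; exact hxz (hinj _ _ (h.trans h'.symm))
      · exact h'
      · exfalso; exact hyz (hinj _ _ (hnyz.trans h'.symm))
    -- the 2-part of n
    have hn0 : orderOf n ≠ 0 := (orderOf_pos n).ne'
    obtain ⟨k, m, hm, hnkm⟩ := Nat.exists_eq_two_pow_mul_odd hn0
    have hswap : ∀ j : ℕ, (Even j → n ^ j * y * (n ^ j)⁻¹ = y) ∧
        (Odd j → n ^ j * y * (n ^ j)⁻¹ = z) := by
      intro j
      induction j with
      | zero =>
        constructor
        · intro _; simp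
        · intro h0; exact absurd h0 (by decide)
      | succ j ih =>
        have e : n ^ (j + 1) * y * (n ^ (j + 1))⁻¹ = n * (n ^ j * y * (n ^ j)⁻¹) * n⁻¹ := by
          rw [pow_succ']; group
        constructor
        · intro hev
          have hodd : Odd j := by
            rcases Nat.even_or_odd j with h0 | h0
            · exfalso
              have : Odd (j + 1) := h0.add_one
              exact (Nat.not_even_iff_odd.mpr this) hev
            · exact h0
          rw [e, ih.2 hodd, hnzy]
        · intro hod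
          have hev : Even j := by
            rcases Nat.even_or_odd j with h0 | h0
            · exact h0
            · exfalso
              have : Even (j + 1) := h0.add_one
              exact (Nat.not_even_iff_odd.mpr hod) this
          rw [e, ih.1 hev, hnyz]
    have h2 := (hswap m).2 hm
    have hmem : n ^ m ∈ P := by
      apply mem_of_two_elt_normalizer P (n ^ m) (pow_mem hn m) k
      rw [orderOf_pow_of_dvd hm.pos.ne' ⟨2 ^ k, by rw [hnkm]; ring⟩, hnkm]
      exact Nat.mul_div_cancel _ hm.pos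
    have hc := commute_of_mem (P : Subgroup G) hP (n ^ m) y hmem hy
    rw [hc.eq, mul_inv_cancel_right] at h2
    exact hyz h2
  · exact isConj_iff.mpr ⟨n, h⟩
  · exfalso; exact hxy (hinj _ _ (h.trans hnyz.symm))

end KleinSylow
end Cfsg.Agent.Lib.Lead
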