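import Mathlib
import Cfsg.Prelude.Def_Perm

set_option autoImplicit false

namespace Cfsg.Agent.Lib.Lead
namespace NearFieldLib

open Cfsg

variable {F : Type*} [NearField F]

theorem nf_zero_mul (a : F) : (0 : F) * a = 0 := by
  have h := NearField.right_distrib (0 : F) 0 a
  rw [add_zero] at h
  have : (0 : F) * a + 0 = 0 * a + 0 * a := by rw [add_zero]; exact h
  exact (add_left_cancel this).symm

theorem nf_neg_mul (a c : F) : (-a) * c = -(a * c) := by
  have h := NearField.right_distrib (-a) a c
  rw [neg_add_cancel, nf_zero_mul] at h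
  exact eq_neg_of_add_eq_zero_left h.symm

theorem nf_sub_mul (a b c : F) : (a - b) * c = a * c - b * c := by
  rw [sub_eq_add_neg, NearField.right_distrib, nf_neg_mul, ← sub_eq_add_neg]

/-- a chosen inverse -/
noncomputable def nfInv (a : F) (ha : a ≠ 0) : F := Classical.choose (NearField.exists_inv a ha)

theorem mul_nfInv (a : F) (ha : a ≠ 0) : a * nfInv a ha = 1 :=
  (Classical.choose_spec (NearField.exists_inv a ha)).1

theorem nfInv_mul (a : F) (ha : a ≠ 0) : nfInv a ha * a = 1 :=
  (Classical.choose_spec (NearField.exists_inv a ha)).2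

theorem nfInv_ne_zero (a : F) (ha : a ≠ 0) : nfInv a ha ≠ 0 := by
  intro h
  have := mul_nfInv a ha
  rw [h, NearField.mul_zero] at this
  exact NearField.zero_ne_one this

theorem nf_mul_ne_zero {a b : F} (ha : a ≠ 0) (hb : b ≠ 0) : a * b ≠ 0 := by
  intro h
  apply ha
  have : a * b * nfInv b hb = 0 := by rw [h, nf_zero_mul]
  rwa [mul_assoc, mul_nfInv, mul_one] at this

theorem nf_mul_left_cancel {a b c : F} (ha : a ≠ 0) (h : a * b = a * c) : b = c := by
  have := congrArg (fun x => nfInv a ha * x) h
  simp only [← mul_assoc, nfInv_mul, one_mul] at this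
  exact this

theorem nf_mul_right_cancel {a b c : F} (hc : c ≠ 0) (h : a * c = b * c) : a = b := by
  have := congrArg (fun x => x * nfInv c hc) h
  simp only [mul_assoc, mul_nfInv, mul_one] at this
  exact this

/-- the affine map `x ↦ x * a + b` as a permutation -/
noncomputable def affPerm (a : F) (ha : a ≠ 0) (b : F) : Equiv.Perm F where
  toFun x := x * a + b
  invFun y := (y - b) * nfInv a ha
  left_inv x := by
    simp only [add_sub_cancel_right, mul_assoc, mul_nfInv, mul_one]
  right_inv y := by
    simp only [mul_assoc, nfInv_mul, mul_one, sub_add_cancel]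

theorem affPerm_apply (a : F) (ha : a ≠ 0) (b x : F) : affPerm a ha b x = x * a + b := rfl

end NearFieldLib
end Cfsg.Agent.Lib.Lead
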