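import Mathlib

namespace Cfsg.Agent.Lib.Lead.Sharp3

open MulAction

variable {α : Type*}

/-- The embedding `Fin 3 ↪ α` given by three distinct points. -/
def emb3 (p q r : α) (hpq : p ≠ q) (hpr : p ≠ r) (hqr : q ≠ r) : Fin 3 ↪ α :=
  ⟨![p, q, r], by
    intro i j hij
    fin_cases i <;> fin_cases j <;> simp_all⟩

@[simp] theorem emb3_zero (p q r : α) (hpq : p ≠ q) (hpr : p ≠ r) (hqr : q ≠ r) :
    emb3 p q r hpq hpr hqr 0 = p := rfl
@[simp] theorem emb3_one (p q r : α) (hpq : p ≠ q) (hpr : p ≠ r) (hqr : q ≠ r) :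
    emb3 p q r hpq hpr hqr 1 = q := rfl
@[simp] theorem emb3_two (p q r : α) (hpq : p ≠ q) (hpr : p ≠ r) (hqr : q ≠ r) :
    emb3 p q r hpq hpr hqr 2 = r := rfl

variable {G : Type*} [Group G] [MulAction G α]

theorem exists_map3 (h3 : IsMultiplyPretransitive G α 3)
    {p q r p' q' r' : α} (hpq : p ≠ q) (hpr : p ≠ r) (hqr : q ≠ r)
    (hpq' : p' ≠ q') (hpr' : p' ≠ r') (hqr' : q' ≠ r') :
    ∃ k : G, k • p = p' ∧ k • q = q' ∧ k • r = r' := by
  obtain ⟨k, hk⟩ := h3.exists_smul_eq (emb3 p q r hpq hpr hqr) (emb3 p' q' r' hpq' hpr' hqr')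
  refine ⟨k, ?_, ?_, ?_⟩
  · have := DFunLike.congr_fun hk 0
    simpa using this
  · have := DFunLike.congr_fun hk 1
    simpa using this
  · have := DFunLike.congr_fun hk 2
    simpa using this

theorem eq_one_of_fix3 (hsharp : ∀ x : Fin 3 ↪ α, stabilizer G x = ⊥)
    {p q r : α} (hpq : p ≠ q) (hpr : p ≠ r) (hqr : q ≠ r) (g : G)
    (hp : g • p = p) (hq : g • q = q) (hr : g • r = r) : g = 1 := by
  have : g ∈ stabilizer G (emb3 p q r hpq hpr hqr) := by
    rw [mem_stabilizer_iff]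
    ext i
    fin_cases i
    · simpa using hp
    · simpa using hq
    · simpa using hr
  rwa [hsharp, Subgroup.mem_bot] at this

theorem eq_of_agree3 (hsharp : ∀ x : Fin 3 ↪ α, stabilizer G x = ⊥)
    {p q r : α} (hpq : p ≠ q) (hpr : p ≠ r) (hqr : q ≠ r) (g h : G)
    (hp : g • p = h • p) (hq : g • q = h • q) (hr : g • r = h • r) : g = h := by
  have : h⁻¹ * g = 1 := by
    apply eq_one_of_fix3 hsharp hpq hpr hqr
    · rw [mul_smul, hp, inv_smul_smul]
    · rw [mul_smul, hq, inv_smul_smul]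
    · rw [mul_smul, hr, inv_smul_smul]
  exact (inv_mul_eq_one.mp this).symm

end Cfsg.Agent.Lib.Lead.Sharp3
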