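import Mathlib
import Cfsg.Agent.Lib.Lead.ConjCount

set_option autoImplicit false

namespace Cfsg.Agent.Lib.Lead.Sharp2

open MulAction

variable {α : Type*}

/-- The embedding `Fin 2 ↪ α` given by two distinct points. -/
def emb2 (p q : α) (hpq : p ≠ q) : Fin 2 ↪ α :=
  ⟨![p, q], by
    intro i j hij
    fin_cases i <;> fin_cases j <;> simp_all⟩

@[simp] theorem emb2_zero (p q : α) (hpq : p ≠ q) : emb2 p q hpq 0 = p := rfl
@[simp] theorem emb2_one (p q : α) (hpq : p ≠ q) : emb2 p q hpq 1 = q := rfl

variable {G : Type*} [Group G] [MulAction G α]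

theorem exists_map2 (h2 : IsMultiplyPretransitive G α 2)
    {p q p' q' : α} (hpq : p ≠ q) (hpq' : p' ≠ q') :
    ∃ k : G, k • p = p' ∧ k • q = q' := by
  obtain ⟨k, hk⟩ := h2.exists_smul_eq (emb2 p q hpq) (emb2 p' q' hpq')
  refine ⟨k, ?_, ?_⟩
  · have := DFunLike.congr_fun hk 0
    simpa using this
  · have := DFunLike.congr_fun hk 1
    simpa using this

theorem eq_one_of_fix2 (hsharp : ∀ x : Fin 2 ↪ α, stabilizer G x = ⊥)
    {p q : α} (hpq : p ≠ q) (g : G) (hp : g • p = p) (hq : g • q = q) : g = 1 := by
  have : g ∈ stabilizer G (emb2 p q hpq) := by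
    rw [mem_stabilizer_iff]
    ext i
    fin_cases i
    · simpa using hp
    · simpa using hq
  rwa [hsharp, Subgroup.mem_bot] at this

theorem pretransitive (h2 : IsMultiplyPretransitive G α 2) (hn : ∃ a b : α, a ≠ b) :
    IsPretransitive G α := by
  obtain ⟨a0, b0, hab0⟩ := hn
  constructor
  intro a b
  by_cases hab : a = b
  · exact ⟨1, by rw [one_smul, hab]⟩
  · -- choose c ≠ a and d ≠ b
    obtain ⟨k, hk, -⟩ := exists_map2 h2 hab (Ne.symm hab)
    exact ⟨k, hk⟩

/-- order of a sharply 2-transitive group -/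
theorem card_group [Fintype α] [Finite G] (h2 : IsMultiplyPretransitive G α 2)
    (hsharp : ∀ x : Fin 2 ↪ α, stabilizer G x = ⊥) (hn : 2 ≤ Fintype.card α) :
    Nat.card G = Fintype.card α * (Fintype.card α - 1) := by
  classical
  haveI : Fintype G := Fintype.ofFinite G
  obtain ⟨x⟩ : Nonempty (Fin 2 ↪ α) := by
    rw [Function.Embedding.nonempty_iff_card_le]
    simpa using hn
  have h1 := MulAction.card_orbit_mul_card_stabilizer_eq_card_group G x
  have h3 : MulAction.orbit G x = Set.univ := MulAction.orbit_eq_univ G x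
  have h4 : Fintype.card (MulAction.orbit G x) = Fintype.card (Fin 2 ↪ α) := by
    rw [← Nat.card_eq_fintype_card, ← Nat.card_eq_fintype_card]
    rw [h3]
    exact Nat.card_congr (Equiv.Set.univ _)
  have h5 : Fintype.card (MulAction.stabilizer G x) = 1 := by
    rw [← Nat.card_eq_fintype_card, hsharp x, Subgroup.card_bot]
  rw [h4, h5, mul_one, Fintype.card_embedding_eq, Fintype.card_fin] at h1
  rw [Nat.card_eq_fintype_card, ← h1]
  rw [show (2 : ℕ) = 1 + 1 from rfl, Nat.descFactorial_succ, Nat.descFactorial_one]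
  ring

/-- the number of elements that are trivial or fixed point free equals the degree -/
theorem card_N [Fintype α] [Finite G] (h2 : IsMultiplyPretransitive G α 2)
    (hsharp : ∀ x : Fin 2 ↪ α, stabilizer G x = ⊥) (hn : 2 ≤ Fintype.card α) :
    Nat.card {g : G // g = 1 ∨ ∀ a : α, g • a ≠ a} = Fintype.card α := by
  classical
  haveI : Fintype G := Fintype.ofFinite G
  have hne : ∃ a b : α, a ≠ b := by
    have : 1 < Fintype.card α := by omega
    obtain ⟨a, b, hab⟩ := Fintype.exists_pair_of_one_lt_card this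
    exact ⟨a, b, hab⟩
  haveI := pretransitive h2 hne
  haveI : Nonempty α := ⟨hne.choose⟩
  haveI : Fintype (Quotient (MulAction.orbitRel G α)) := Fintype.ofFinite _
  have hB := MulAction.sum_card_fixedBy_eq_card_orbits_mul_card_group G α
  have horb : Fintype.card (Quotient (MulAction.orbitRel G α)) = 1 := by
    haveI : Subsingleton (Quotient (MulAction.orbitRel G α)) :=
      (MulAction.pretransitive_iff_subsingleton_quotient G α).mp inferInstance
    haveI : Nonempty (Quotient (MulAction.orbitRel G α)) := ⟨Quotient.mk _ hne.choose⟩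
    exact le_antisymm (Fintype.card_le_one_iff_subsingleton.mpr inferInstance) Fintype.card_pos
  rw [horb, one_mul] at hB
  set p : G → Prop := fun g => g = 1 ∨ ∀ a : α, g • a ≠ a with hp
  have hsplit := Finset.sum_filter_add_sum_filter_not Finset.univ p
    (fun g : G => Fintype.card (MulAction.fixedBy α g))
  have h1 : ∑ g ∈ Finset.univ.filter p, Fintype.card (MulAction.fixedBy α g) = Fintype.card α := by
    rw [Finset.sum_eq_single_of_mem (1 : G)]
    · have : MulAction.fixedBy α (1 : G) = Set.univ := by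
        ext a; simp
      rw [← Nat.card_eq_fintype_card, this, Nat.card_congr (Equiv.Set.univ _), Nat.card_eq_fintype_card]
    · simp [hp]
    · intro g hg hg1
      have hg' := (Finset.mem_filter.mp hg).2
      rcases hg' with h | h
      · exact absurd h hg1
      · rw [Fintype.card_eq_zero_iff]
        constructor
        rintro ⟨a, ha⟩
        exact h a ha
  have h2' : ∑ g ∈ Finset.univ.filter (fun g => ¬ p g), Fintype.card (MulAction.fixedBy α g) =
      (Finset.univ.filter (fun g => ¬ p g)).card := by
    rw [Finset.card_eq_sum_ones]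
    apply Finset.sum_congr rfl
    intro g hg
    have hg' := (Finset.mem_filter.mp hg).2
    simp only [hp, not_or, not_forall, not_not] at hg'
    obtain ⟨hg1, a, ha⟩ := hg'
    rw [Fintype.card_eq_one_iff]
    refine ⟨⟨a, ha⟩, ?_⟩
    rintro ⟨b, hb⟩
    apply Subtype.ext
    by_contra hba
    exact hg1 (eq_one_of_fix2 hsharp hba g hb ha)
  have hsplit' : Fintype.card α + (Finset.univ.filter (fun g => ¬ p g)).card = Fintype.card G := by
    rw [← h1, ← h2', ← hB]
    exact hsplit
  have hcount := Finset.card_filter_add_card_filter_not (s := (Finset.univ : Finset G)) p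
  rw [Finset.card_univ] at hcount
  rw [Nat.card_eq_fintype_card, Fintype.card_subtype]
  show (Finset.univ.filter p).card = _
  omega

section Main

variable [Fintype α] [Finite G] (h2 : IsMultiplyPretransitive G α 2)
  (hsharp : ∀ x : Fin 2 ↪ α, stabilizer G x = ⊥) (hn : 2 ≤ Fintype.card α)
include h2 hsharp hn

theorem exists_fpf : ∃ g : G, g ≠ 1 ∧ ∀ a : α, g • a ≠ a := by
  have h1 := card_N h2 hsharp hn
  by_contra hcon
  push Not at hcon
  have : Nat.card {g : G // g = 1 ∨ ∀ a : α, g • a ≠ a} ≤ 1 := by
    rw [Finite.card_le_one_iff_subsingleton]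
    constructor
    rintro ⟨g, hg⟩ ⟨g', hg'⟩
    apply Subtype.ext
    show g = g'
    have e1 : g = 1 := by
      by_contra hg1
      obtain ⟨a, ha⟩ := hcon g hg1
      rcases hg with h | h
      · exact hg1 h
      · exact h a ha
    have e2 : g' = 1 := by
      by_contra hg1
      obtain ⟨a, ha⟩ := hcon g' hg1
      rcases hg' with h | h
      · exact hg1 h
      · exact h a ha
    rw [e1, e2]
  omega

omit [Fintype α] [Finite G] h2 hn in
theorem centralizer_sub {g : G} (hg : ∀ a : α, g • a ≠ a) {h : G}
    (hh : h ∈ Subgroup.centralizer ({g} : Set G)) : h = 1 ∨ ∀ a : α, h • a ≠ a := by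
  by_contra hcon
  push Not at hcon
  obtain ⟨h1, a, ha⟩ := hcon
  rw [Subgroup.mem_centralizer_singleton_iff] at hh
  apply h1
  apply eq_one_of_fix2 hsharp (hg a) h _ ha
  rw [← mul_smul, hh, mul_smul, ha]

omit [Fintype α] [Finite G] h2 hsharp hn in
theorem fpf_conj {g : G} (hg : ∀ a : α, g • a ≠ a) (k : G) : ∀ a : α, (k * g * k⁻¹) • a ≠ a := by
  intro a ha
  apply hg (k⁻¹ • a)
  rw [← mul_smul]
  have : g * k⁻¹ = k⁻¹ * (k * g * k⁻¹) := by group
  rw [this, mul_smul, ha]

/-- the centralizer of a fixed point free element is the set of all trivial or fixed point free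
elements, and these are all conjugate -/
theorem centralizer_eq {g : G} (hg1 : g ≠ 1) (hg : ∀ a : α, g • a ≠ a) :
    (∀ h : G, h ∈ Subgroup.centralizer ({g} : Set G) ↔ (h = 1 ∨ ∀ a : α, h • a ≠ a)) ∧
    (∀ h : G, h ≠ 1 → (∀ a : α, h • a ≠ a) → IsConj g h) := by
  classical
  have hN := card_N h2 hsharp hn
  have hG := card_group h2 hsharp hn
  have hcc := card_conj_mul_card_centralizer g
  -- the centralizer injects into N
  let ι : Subgroup.centralizer ({g} : Set G) → {h : G // h = 1 ∨ ∀ a : α, h • a ≠ a} :=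
    fun h => ⟨h.1, centralizer_sub hsharp hg h.2⟩
  have hι : Function.Injective ι := fun a b hab => Subtype.ext (congrArg
    (fun z : {h : G // h = 1 ∨ ∀ a : α, h • a ≠ a} => z.1) hab)
  have hCle : Nat.card (Subgroup.centralizer ({g} : Set G)) ≤ Fintype.card α := by
    rw [← hN]; exact Nat.card_le_card_of_injective ι hι
  -- the class plus the identity injects into N
  let κ : {b : G // IsConj g b} ⊕ Unit → {h : G // h = 1 ∨ ∀ a : α, h • a ≠ a} := fun x =>
    match x with
    | Sum.inl b => ⟨b.1, Or.inr (by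
        obtain ⟨k, hk⟩ := isConj_iff.mp b.2
        rw [← hk]; exact fpf_conj hg k)⟩
    | Sum.inr _ => ⟨1, Or.inl rfl⟩
  have hκ : Function.Injective κ := by
    rintro (b | u) (b' | u') hbb
    · have : b.1 = b'.1 := congrArg
        (fun z : {h : G // h = 1 ∨ ∀ a : α, h • a ≠ a} => z.1) hbb
      rw [Subtype.ext this]
    · exfalso
      have : b.1 = 1 := congrArg
        (fun z : {h : G // h = 1 ∨ ∀ a : α, h • a ≠ a} => z.1) hbb
      obtain ⟨k, hk⟩ := isConj_iff.mp b.2
      rw [← hk] at this
      apply hg1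
      have h3 : g = k⁻¹ * (k * g * k⁻¹) * k := by group
      rw [h3, this]; group
    · exfalso
      have : (1 : G) = b'.1 := congrArg
        (fun z : {h : G // h = 1 ∨ ∀ a : α, h • a ≠ a} => z.1) hbb
      obtain ⟨k, hk⟩ := isConj_iff.mp b'.2
      rw [← hk] at this
      apply hg1
      have h3 : g = k⁻¹ * (k * g * k⁻¹) * k := by group
      rw [h3, ← this]; group
    · rfl
  have hU : Nat.card Unit = 1 := by simp
  have hKle : Nat.card {b : G // IsConj g b} + 1 ≤ Fintype.card α := by
    rw [← hN]
    have := Nat.card_le_card_of_injective κ hκ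
    rwa [Nat.card_sum, hU] at this
  rw [hG] at hcc
  -- both bounds are attained
  have hCeq : Nat.card (Subgroup.centralizer ({g} : Set G)) = Fintype.card α := by
    by_contra hne
    have hlt : Nat.card (Subgroup.centralizer ({g} : Set G)) ≤ Fintype.card α - 1 := by omega
    have : Nat.card {b : G // IsConj g b} * Nat.card (Subgroup.centralizer ({g} : Set G)) ≤
        (Fintype.card α - 1) * (Fintype.card α - 1) := Nat.mul_le_mul (by omega) hlt
    rw [hcc] at this
    have h5 : Fintype.card α - 1 < Fintype.card α := by omega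
    have h6 : 0 < Fintype.card α - 1 := by omega
    have := Nat.mul_lt_mul_of_pos_right h5 h6
    omega
  have hKeq : Nat.card {b : G // IsConj g b} + 1 = Fintype.card α := by
    rw [hCeq] at hcc
    have h6 : 0 < Fintype.card α := by omega
    have : Nat.card {b : G // IsConj g b} = Fintype.card α - 1 := by
      apply Nat.eq_of_mul_eq_mul_right h6
      rw [hcc, mul_comm]
    omega
  have hιb := hι.bijective_of_nat_card_le (by rw [hN, hCeq])
  have hκb := hκ.bijective_of_nat_card_le (by rw [hN, Nat.card_sum, hU, hKeq])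
  constructor
  · intro h
    constructor
    · exact fun hh => centralizer_sub hsharp hg hh
    · intro hh
      obtain ⟨c, hc⟩ := hιb.2 ⟨h, hh⟩
      have : c.1 = h := congrArg (fun z : {h : G // h = 1 ∨ ∀ a : α, h • a ≠ a} => z.1) hc
      rw [← this]; exact c.2
  · intro h hh1 hh
    obtain ⟨c, hc⟩ := hκb.2 ⟨h, Or.inr hh⟩
    rcases c with b | u
    · have : b.1 = h := congrArg (fun z : {h : G // h = 1 ∨ ∀ a : α, h • a ≠ a} => z.1) hc
      rw [← this]; exact b.2
    · exfalso
      have : (1 : G) = h := congrArg (fun z : {h : G // h = 1 ∨ ∀ a : α, h • a ≠ a} => z.1) hc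
      exact hh1 this.symm

/-- the regular normal elementary abelian subgroup of a sharply 2-transitive group -/
theorem exists_kernel : ∃ N : Subgroup G, (∀ g : G, g ∈ N ↔ (g = 1 ∨ ∀ a : α, g • a ≠ a)) ∧
    N.Normal ∧ (∀ a ∈ N, ∀ b ∈ N, a * b = b * a) ∧ Nat.card N = Fintype.card α ∧
    ∃ p : ℕ, p.Prime ∧ ∀ x ∈ N, x ^ p = 1 := by
  obtain ⟨g0, hg01, hg0⟩ := exists_fpf h2 hsharp hn
  obtain ⟨hmem, hconj⟩ := centralizer_eq h2 hsharp hn hg01 hg0
  refine ⟨Subgroup.centralizer ({g0} : Set G), hmem, ?_, ?_, ?_, ?_⟩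
  · constructor
    intro x hx k
    rw [hmem] at hx ⊢
    rcases hx with rfl | hx
    · left; group
    · right; exact fpf_conj hx k
  · intro a ha b hb
    by_cases ha1 : a = 1
    · rw [ha1, one_mul, mul_one]
    · have hafpf : ∀ c : α, a • c ≠ c := by
        rcases (hmem a).mp ha with h | h
        · exact absurd h ha1
        · exact h
      obtain ⟨hmem', -⟩ := centralizer_eq h2 hsharp hn ha1 hafpf
      have : b ∈ Subgroup.centralizer ({a} : Set G) := (hmem' b).mpr ((hmem b).mp hb)
      exact (Subgroup.mem_centralizer_singleton_iff.mp this).symm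
  · rw [← card_N h2 hsharp hn]
    apply Nat.card_congr
    exact Equiv.subtypeEquivRight hmem
  · -- all nonidentity elements have the same order, which is prime
    have hord : ∀ x ∈ Subgroup.centralizer ({g0} : Set G), x ≠ 1 → orderOf x = orderOf g0 := by
      intro x hx hx1
      have hxf : ∀ c : α, x • c ≠ c := by
        rcases (hmem x).mp hx with h | h
        · exact absurd h hx1
        · exact h
      obtain ⟨k, hk⟩ := isConj_iff.mp (hconj x hx1 hxf)
      rw [← hk]
      exact (MulAut.conj k).orderOf_eq g0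
    have ho1 : orderOf g0 ≠ 1 := fun h => hg01 (orderOf_eq_one_iff.mp h)
    have hopos : 0 < orderOf g0 := orderOf_pos g0
    set p := (orderOf g0).minFac with hp
    have hpp : p.Prime := Nat.minFac_prime ho1
    have hpd : p ∣ orderOf g0 := Nat.minFac_dvd _
    have h1 : orderOf (g0 ^ (orderOf g0 / p)) = p := orderOf_pow_orderOf_div hopos.ne' hpd
    have h2' : g0 ^ (orderOf g0 / p) ≠ 1 := by
      intro h
      rw [h, orderOf_one] at h1
      exact hpp.one_lt.ne h1
    have h3 := hord _ (pow_mem (Subgroup.mem_centralizer_singleton_iff.mpr rfl) _) h2'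
    rw [h1] at h3
    refine ⟨p, hpp, ?_⟩
    intro x hx
    by_cases hx1 : x = 1
    · rw [hx1, one_pow]
    · rw [h3, ← hord x hx hx1]
      exact pow_orderOf_eq_one x

theorem card_stabilizer (a : α) :
    Nat.card (stabilizer G a) = Fintype.card α - 1 := by
  classical
  haveI : Fintype G := Fintype.ofFinite G
  have hne : ∃ a b : α, a ≠ b := by
    have : 1 < Fintype.card α := by omega
    obtain ⟨a, b, hab⟩ := Fintype.exists_pair_of_one_lt_card this
    exact ⟨a, b, hab⟩
  haveI := pretransitive h2 hne
  have h1 := MulAction.card_orbit_mul_card_stabilizer_eq_card_group G a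
  have h3 : MulAction.orbit G a = Set.univ := MulAction.orbit_eq_univ G a
  have h4 : Fintype.card (MulAction.orbit G a) = Fintype.card α := by
    rw [← Nat.card_eq_fintype_card, ← Nat.card_eq_fintype_card]
    rw [h3]
    exact Nat.card_congr (Equiv.Set.univ _)
  have hG := card_group h2 hsharp hn
  rw [h4, ← Nat.card_eq_fintype_card (α := stabilizer G a), ← Nat.card_eq_fintype_card (α := G), hG] at h1
  have h6 : 0 < Fintype.card α := by omega
  exact Nat.eq_of_mul_eq_mul_left h6 h1

omit h2 hn hsharp [Finite G] in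
/-- a subgroup of fixed point free elements of order the degree is transitive -/
theorem kernel_transitive (N : Subgroup G)
    (hmem : ∀ g : G, g ∈ N → (g = 1 ∨ ∀ a : α, g • a ≠ a))
    (hcard : Nat.card N = Fintype.card α) (a b : α) : ∃ g ∈ N, g • a = b := by
  let f : N → α := fun g => g.1 • a
  have hinj : Function.Injective f := by
    intro g g' hgg
    have h1 : (g'.1⁻¹ * g.1) • a = a := by
      rw [mul_smul]
      show g'.1⁻¹ • (f g) = a
      rw [hgg]
      show g'.1⁻¹ • (g'.1 • a) = a
      rw [inv_smul_smul]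
    have h3 : g'.1⁻¹ * g.1 = 1 := by
      rcases hmem _ (N.mul_mem (N.inv_mem g'.2) g.2) with h | h
      · exact h
      · exact absurd h1 (h a)
    apply Subtype.ext
    have := congrArg (g'.1 * ·) h3
    simpa using this
  have hbij := hinj.bijective_of_nat_card_le (by rw [hcard, Nat.card_eq_fintype_card])
  obtain ⟨g, hg⟩ := hbij.2 b
  exact ⟨g.1, g.2, hg⟩

end Main

end Cfsg.Agent.Lib.Lead.Sharp2
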