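import Mathlib
import Cfsg.Prelude.Def_Perm
import Cfsg.Agent.Lib.Lead.Sharp3
import Cfsg.Agent.Lib.Lead.NearField
import Cfsg.Agent.S0683

set_option autoImplicit false

namespace Cfsg.Agent.Lib.Lead.S3

open MulAction Cfsg Cfsg.Agent.Lib.Lead Cfsg.Agent.Lib.Lead.NearFieldLib

/-! ### fixed point free involutory automorphisms invert -/

theorem inv_of_fpf_invol {U : Type*} [Group U] [Finite U] (T : U →* U)
    (hT2 : ∀ u, T (T u) = u) (hfix : ∀ u, T u = u → u = 1) : ∀ u, T u = u⁻¹ := by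
  have hinj : Function.Injective (fun u : U => u⁻¹ * T u) := by
    intro u v huv
    have huv' : u⁻¹ * T u = v⁻¹ * T v := huv
    have h1 : T (v * u⁻¹) = v * u⁻¹ := by
      rw [map_mul, map_inv]
      have h0 : T v = v * (u⁻¹ * T u) := by rw [huv', mul_inv_cancel_left]
      rw [h0, mul_assoc, mul_assoc, mul_inv_cancel, mul_one]
    have h2 := hfix _ h1
    exact (mul_inv_eq_one.mp h2).symm
  have hsurj := Finite.injective_iff_surjective.mp hinj
  intro z
  obtain ⟨u, hu⟩ := hsurj z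
  have hu' : u⁻¹ * T u = z := hu
  rw [← hu', map_mul, map_inv, hT2, mul_inv_rev, inv_inv]

theorem comm_of_inv_hom {U : Type*} [Group U] (T : U →* U) (hT : ∀ u, T u = u⁻¹) (u v : U) :
    u * v = v * u := by
  have h := T.map_mul u v
  rw [hT, hT, hT, mul_inv_rev] at h
  have h2 := congrArg (fun z => z⁻¹) h
  simp only [mul_inv_rev, inv_inv] at h2
  exact h2

/-! ### commutative near-fields are fields -/

section NF

variable {K : Type*} [NearField K]

theorem nf_left_distrib (hcomm : ∀ a b : K, a * b = b * a) (a b c : K) :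
    a * (b + c) = a * b + a * c := by
  rw [hcomm a (b + c), NearField.right_distrib, hcomm b a, hcomm c a]

theorem nf_add_comm (hcomm : ∀ a b : K, a * b = b * a) (a b : K) : a + b = b + a := by
  have e1 : ((1 : K) + 1) * (a + b) = (a + b) + (a + b) := by
    rw [NearField.right_distrib, one_mul]
  have e2 : ((1 : K) + 1) * (a + b) = (a + a) + (b + b) := by
    rw [nf_left_distrib hcomm, NearField.right_distrib, NearField.right_distrib, one_mul, one_mul]
  have h1 : (a + b) + (a + b) = (a + a) + (b + b) := e1.symm.trans e2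
  have h2 : a + (b + (a + b)) = a + (a + (b + b)) := by
    rw [← add_assoc a b (a + b), ← add_assoc a a (b + b)]; exact h1
  have h3 := add_left_cancel h2
  have h4 : (b + a) + b = (a + b) + b := by
    rw [add_assoc b a b, add_assoc a b b]; exact h3
  exact (add_right_cancel h4).symm

end NF

/-- a commutative near-field as a commutative ring -/
noncomputable def commRingOfNF (K : Type*) [nf : NearField K]
    (hcomm : ∀ a b : K, a * b = b * a) : CommRing K :=
  { nf.toAddGroup, nf.toMonoid with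
    add_comm := nf_add_comm hcomm
    left_distrib := nf_left_distrib hcomm
    right_distrib := NearField.right_distrib
    zero_mul := nf_zero_mul
    mul_zero := NearField.mul_zero
    mul_comm := hcomm }

/-- a commutative near-field as a field -/
noncomputable def fieldOfNF (K : Type*) [nf : NearField K]
    (hcomm : ∀ a b : K, a * b = b * a) : Field K :=
  letI := commRingOfNF K hcomm
  IsField.toField (R := K)
    { exists_pair_ne := ⟨0, 1, NearField.zero_ne_one⟩
      mul_comm := hcomm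
      mul_inv_cancel := fun {a} ha => ⟨nfInv a ha, mul_nfInv a ha⟩ }

/-- the points different from `inf` -/
abbrev Pt {α : Type*} (inf : α) : Type _ := {x : α // x ≠ inf}

section Restrict

variable {α : Type*} [Fintype α] [DecidableEq α] (G : Subgroup (Equiv.Perm α)) (inf : α)

/-- the group induced on the remaining points by the stabilizer of `inf` -/
def stabRestrict : Subgroup (Equiv.Perm (Pt inf)) := G.comap Equiv.Perm.ofSubtype

theorem mem_stabRestrict (σ : Equiv.Perm (Pt inf)) :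
    σ ∈ stabRestrict G inf ↔ Equiv.Perm.ofSubtype σ ∈ G := Iff.rfl

theorem fix_iff {g : Equiv.Perm α} (hg : g inf = inf) (x : α) : g x ≠ inf ↔ x ≠ inf := by
  constructor
  · intro h hx; exact h (by rw [hx]; exact hg)
  · intro h hgx; exact h (g.injective (hgx.trans hg.symm))

/-- restriction of a permutation fixing `inf` -/
def restr (g : Equiv.Perm α) (hg : g inf = inf) : Equiv.Perm (Pt inf) :=
  Equiv.Perm.subtypePerm (p := fun x => x ≠ inf) g (fix_iff inf hg)

theorem restr_apply (g : Equiv.Perm α) (hg : g inf = inf) (x : Pt inf) :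
    ((restr inf g hg x : Pt inf) : α) = g x := rfl

theorem ofSubtype_restrict {g : Equiv.Perm α} (hg : g inf = inf) :
    Equiv.Perm.ofSubtype (restr inf g hg) = g :=
  Equiv.Perm.ofSubtype_subtypePerm (p := fun x => x ≠ inf) (fix_iff inf hg)
    (fun x hx hxi => hx (by rw [hxi]; exact hg))

theorem card_Pt : Fintype.card (Pt inf) = Fintype.card α - 1 := by
  rw [Fintype.card_subtype, Finset.filter_ne' Finset.univ inf,
    Finset.card_erase_of_mem (Finset.mem_univ _), Finset.card_univ]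

theorem restrict_two_trans (h3 : IsMultiplyPretransitive G α 3) :
    IsMultiplyPretransitive (stabRestrict G inf) (Pt inf) 2 := by
  rw [isMultiplyPretransitive_iff]
  intro x y
  have hx01 : ((x 0 : Pt inf) : α) ≠ (x 1 : Pt inf) := fun h =>
    absurd (x.injective (Subtype.ext h)) (by decide)
  have hy01 : ((y 0 : Pt inf) : α) ≠ (y 1 : Pt inf) := fun h =>
    absurd (y.injective (Subtype.ext h)) (by decide)
  obtain ⟨g, hg0, hg1, hgi⟩ := Sharp3.exists_map3 h3 hx01 (x 0).2 (x 1).2 hy01 (y 0).2 (y 1).2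
  have hgi' : (g : Equiv.Perm α) inf = inf := hgi
  have hg0' : (g : Equiv.Perm α) (x 0 : Pt inf) = (y 0 : Pt inf) := hg0
  have hg1' : (g : Equiv.Perm α) (x 1 : Pt inf) = (y 1 : Pt inf) := hg1
  have hmem : restr inf (g : Equiv.Perm α) hgi' ∈ stabRestrict G inf := by
    rw [mem_stabRestrict, ofSubtype_restrict inf hgi']
    exact g.2
  refine ⟨⟨_, hmem⟩, ?_⟩
  ext i : 1
  apply Subtype.ext
  rw [Function.Embedding.smul_apply]
  change ((restr inf (g : Equiv.Perm α) hgi' (x i) : Pt inf) : α) = y i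
  rw [restr_apply]
  fin_cases i
  · exact hg0'
  · exact hg1'

theorem restrict_sharp (hsharp : ∀ x : Fin 3 ↪ α, stabilizer G x = ⊥) :
    ∀ x : Fin 2 ↪ Pt inf, stabilizer (stabRestrict G inf) x = ⊥ := by
  intro x
  rw [eq_bot_iff]
  rintro ⟨σ, hσ⟩ hst
  rw [Subgroup.mem_bot]
  rw [mem_stabilizer_iff] at hst
  have hx01 : ((x 0 : Pt inf) : α) ≠ (x 1 : Pt inf) := fun h =>
    absurd (x.injective (Subtype.ext h)) (by decide)
  have h0 : σ (x 0) = x 0 := by have := DFunLike.congr_fun hst 0; exact this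
  have h1 : σ (x 1) = x 1 := by have := DFunLike.congr_fun hst 1; exact this
  have hG : Equiv.Perm.ofSubtype σ ∈ G := hσ
  have h1' : (⟨Equiv.Perm.ofSubtype σ, hG⟩ : G) = 1 := by
    apply Sharp3.eq_one_of_fix3 hsharp hx01 (x 0).2 (x 1).2
    · change Equiv.Perm.ofSubtype σ ((x 0 : Pt inf) : α) = (x 0 : Pt inf)
      rw [Equiv.Perm.ofSubtype_apply_coe, h0]
    · change Equiv.Perm.ofSubtype σ ((x 1 : Pt inf) : α) = (x 1 : Pt inf)
      rw [Equiv.Perm.ofSubtype_apply_coe, h1]
    · change Equiv.Perm.ofSubtype σ inf = inf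
      exact Equiv.Perm.ofSubtype_apply_of_not_mem σ (fun h => h rfl)
  have h2 : Equiv.Perm.ofSubtype σ = 1 := congrArg Subtype.val h1'
  have h3 : σ = 1 := Equiv.Perm.ofSubtype_injective (by rw [h2, map_one])
  exact Subtype.ext h3

theorem nf_level [NearField (Pt inf)] (h3 : IsMultiplyPretransitive G α 3)
    (hsharp : ∀ x : Fin 3 ↪ α, stabilizer G x = ⊥) (hodd : Odd (Fintype.card α))
    (hdesc : ∀ σ : Equiv.Perm (Pt inf), σ ∈ stabRestrict G inf ↔
      ∃ a b : Pt inf, a ≠ 0 ∧ ∀ x : Pt inf, σ x = x * a + b) :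
    (∀ a b : Pt inf, a * b = b * a) ∧
    (∀ g ∈ G, g inf = inf → ∃ a b : Pt inf, a ≠ 0 ∧
      ∀ x : Pt inf, g (x : α) = ((x * a + b : Pt inf) : α)) ∧
    (∀ a b : Pt inf, a ≠ 0 → ∃ g ∈ G, g inf = inf ∧
      ∀ x : Pt inf, g (x : α) = ((x * a + b : Pt inf) : α)) ∧
    ∃ t ∈ G, t inf = ((0 : Pt inf) : α) ∧ t ((0 : Pt inf) : α) = inf ∧
      ∀ x : Pt inf, x ≠ 0 → ∃ y : Pt inf, x * y = 1 ∧ t (x : α) = (y : α) := by
  have hA : ∀ g ∈ G, g inf = inf → ∃ a b : Pt inf, a ≠ 0 ∧
      ∀ x : Pt inf, g (x : α) = ((x * a + b : Pt inf) : α) := by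
    intro g hg hgi
    have hmem : restr inf g hgi ∈ stabRestrict G inf := by
      rw [mem_stabRestrict, ofSubtype_restrict inf hgi]; exact hg
    obtain ⟨a, b, ha, hab⟩ := (hdesc _).mp hmem
    refine ⟨a, b, ha, fun x => ?_⟩
    rw [← hab x, restr_apply]
  have hA' : ∀ a b : Pt inf, a ≠ 0 → ∃ g ∈ G, g inf = inf ∧
      ∀ x : Pt inf, g (x : α) = ((x * a + b : Pt inf) : α) := by
    intro a b ha
    have hmem : affPerm a ha b ∈ stabRestrict G inf :=
      (hdesc _).mpr ⟨a, b, ha, fun x => rfl⟩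
    refine ⟨Equiv.Perm.ofSubtype (affPerm a ha b), hmem, ?_, fun x => ?_⟩
    · exact Equiv.Perm.ofSubtype_apply_of_not_mem _ (fun h => h rfl)
    · rw [Equiv.Perm.ofSubtype_apply_coe, affPerm_apply]
  have hoi : ((0 : Pt inf) : α) ≠ inf := (0 : Pt inf).2
  have hei : ((1 : Pt inf) : α) ≠ inf := (1 : Pt inf).2
  have hoe : ((0 : Pt inf) : α) ≠ ((1 : Pt inf) : α) := fun h =>
    NearField.zero_ne_one (Subtype.ext h)
  obtain ⟨t, ht0, hti, hte⟩ := Sharp3.exists_map3 h3 (p := ((0 : Pt inf) : α)) (q := inf)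
    (r := ((1 : Pt inf) : α)) (p' := inf) (q' := ((0 : Pt inf) : α)) (r' := ((1 : Pt inf) : α))
    hoi hoe hei.symm hoi.symm hei.symm hoe
  have htt0 : t * t = 1 := by
    apply Sharp3.eq_one_of_fix3 hsharp hoi hoe hei.symm
    · rw [mul_smul, ht0, hti]
    · rw [mul_smul, hti, ht0]
    · rw [mul_smul, hte, hte]
  obtain ⟨tp, htp⟩ : ∃ tp : Equiv.Perm α, tp = (t : Equiv.Perm α) := ⟨_, rfl⟩
  have htpG : tp ∈ G := htp ▸ t.2
  have ht0' : tp ((0 : Pt inf) : α) = inf := by rw [htp]; exact ht0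
  have hti' : tp inf = ((0 : Pt inf) : α) := by rw [htp]; exact hti
  have hte' : tp ((1 : Pt inf) : α) = ((1 : Pt inf) : α) := by rw [htp]; exact hte
  have htt : ∀ x : α, tp (tp x) = x := by
    intro x
    have h2 : ((t * t : G) : Equiv.Perm α) x = x := by rw [htt0]; rfl
    rw [htp]; exact h2
  have hne_inf : ∀ x : Pt inf, x ≠ 0 → tp (x : α) ≠ inf := by
    intro x hx h
    apply hx
    apply Subtype.ext
    apply tp.injective
    rw [h, ht0']
  have hne_o : ∀ x : Pt inf, tp (x : α) ≠ ((0 : Pt inf) : α) := by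
    intro x h
    apply x.2
    apply tp.injective
    rw [h, hti']
  obtain ⟨τ, hτ⟩ : ∃ τ : Pt inf → Pt inf,
      ∀ x : Pt inf, x ≠ 0 → ((τ x : Pt inf) : α) = tp (x : α) := by
    classical
    refine ⟨fun x => if hx : x = 0 then 0 else ⟨tp (x : α), hne_inf x hx⟩, fun x hx => ?_⟩
    dsimp only
    rw [dif_neg hx]
  have hτ0 : ∀ x : Pt inf, x ≠ 0 → τ x ≠ 0 := by
    intro x hx h
    apply hne_o x
    rw [← hτ x hx, h]
  have hττ : ∀ x : Pt inf, x ≠ 0 → τ (τ x) = x := by
    intro x hx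
    apply Subtype.ext
    rw [hτ (τ x) (hτ0 x hx), hτ x hx, htt]
  have hτ1 : τ 1 = 1 := by
    apply Subtype.ext
    rw [hτ 1 (Ne.symm NearField.zero_ne_one)]; exact hte'
  have hmul : ∀ a b : Pt inf, a ≠ 0 → b ≠ 0 → τ (b * a) = τ b * τ a := by
    intro a b ha hb
    obtain ⟨m, hmG, hmi, hm⟩ := hA' a 0 ha
    have hm' : ∀ x : Pt inf, m (x : α) = ((x * a : Pt inf) : α) := fun x => by
      rw [hm x, add_zero]
    have hcG : tp * m * tp ∈ G := G.mul_mem (G.mul_mem htpG hmG) htpG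
    have hc : ∀ z : α, (tp * m * tp) z = tp (m (tp z)) := fun z => rfl
    have hci : (tp * m * tp) inf = inf := by
      rw [hc, hti', hm', nf_zero_mul, ht0']
    obtain ⟨a', b', ha', hab'⟩ := hA _ hcG hci
    have hb' : b' = 0 := by
      have h1 := hab' 0
      rw [hc, ht0', hmi, hti', nf_zero_mul, zero_add] at h1
      exact (Subtype.ext h1).symm
    have ha'' : a' = τ a := by
      have h1 := hab' 1
      rw [hc, hte', hm', one_mul, ← hτ a ha, one_mul, hb', add_zero] at h1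
      exact (Subtype.ext h1).symm
    have h2 := hab' (τ b)
    rw [hc, hτ b hb, htt, hm', ← hτ (b * a) (nf_mul_ne_zero hb ha), hb', add_zero, ha''] at h2
    exact Subtype.ext h2
  have hfix : ∀ x : Pt inf, x ≠ 0 → τ x = x → x = 1 := by
    intro x hx hτx
    by_contra hx1
    have hfx : tp (x : α) = x := by rw [← hτ x hx, hτx]
    have hne : ((1 : Pt inf) : α) ≠ (x : α) := fun h => hx1 (Subtype.ext h).symm
    have hsupp : 2 ∣ tp.support.card := Equiv.Perm.two_dvd_card_support (by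
      ext z; simp only [pow_two, Equiv.Perm.mul_apply, htt, Equiv.Perm.one_apply])
    have hS : (tp.supportᶜ).card = Fintype.card α - tp.support.card := Finset.card_compl _
    have hle : tp.support.card ≤ Fintype.card α := Finset.card_le_univ _
    have hmemS : ∀ z : α, z ∈ tp.supportᶜ ↔ tp z = z := fun z => by
      rw [Finset.mem_compl, Equiv.Perm.notMem_support]
    have h1S : 1 < (tp.supportᶜ).card :=
      Finset.one_lt_card.mpr ⟨_, (hmemS _).mpr hte', _, (hmemS _).mpr hfx, hne⟩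
    have h2S : 2 < (tp.supportᶜ).card := by
      obtain ⟨k, hk⟩ := hodd
      obtain ⟨j, hj⟩ := hsupp
      omega
    obtain ⟨a, b, c, ha, hb, hc, hab, hac, hbc⟩ := Finset.two_lt_card_iff.mp h2S
    have h1 : t = 1 := by
      apply Sharp3.eq_one_of_fix3 hsharp hab hac hbc
      · have := (hmemS a).mp ha; rw [htp] at this; exact this
      · have := (hmemS b).mp hb; rw [htp] at this; exact this
      · have := (hmemS c).mp hc; rw [htp] at this; exact this
    have h0 : tp ((0 : Pt inf) : α) = ((0 : Pt inf) : α) := by rw [htp, h1]; rfl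
    rw [ht0'] at h0
    exact hoi h0.symm
  have hunit_ne : ∀ u : (Pt inf)ˣ, (u : Pt inf) ≠ 0 := by
    intro u h
    have h1 : (u : Pt inf) * ((u⁻¹ : (Pt inf)ˣ) : Pt inf) = 1 := Units.mul_inv u
    rw [h, nf_zero_mul] at h1
    exact NearField.zero_ne_one h1
  let T : (Pt inf)ˣ →* (Pt inf)ˣ :=
    { toFun := fun u => ⟨τ u, τ (u⁻¹ : (Pt inf)ˣ),
        by rw [← hmul _ _ (hunit_ne u⁻¹) (hunit_ne u), Units.mul_inv, hτ1],
        by rw [← hmul _ _ (hunit_ne u) (hunit_ne u⁻¹), Units.inv_mul, hτ1]⟩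
      map_one' := Units.ext hτ1
      map_mul' := fun u v => Units.ext (hmul _ _ (hunit_ne v) (hunit_ne u)) }
  have hT2 : ∀ u, T (T u) = u := fun u => Units.ext (hττ _ (hunit_ne u))
  have hTfix : ∀ u, T u = u → u = 1 := fun u hu =>
    Units.ext (hfix _ (hunit_ne u) (congrArg Units.val hu))
  have hTinv := inv_of_fpf_invol T hT2 hTfix
  have hTcomm := comm_of_inv_hom T hTinv
  have mkU : ∀ a : Pt inf, a ≠ 0 → ∃ u : (Pt inf)ˣ, (u : Pt inf) = a := fun a ha =>
    ⟨⟨a, nfInv a ha, mul_nfInv a ha, nfInv_mul a ha⟩, rfl⟩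
  have hcomm : ∀ a b : Pt inf, a * b = b * a := by
    intro a b
    by_cases ha : a = 0
    · rw [ha, nf_zero_mul, NearField.mul_zero]
    by_cases hb : b = 0
    · rw [hb, nf_zero_mul, NearField.mul_zero]
    obtain ⟨u, rfl⟩ := mkU a ha
    obtain ⟨v, rfl⟩ := mkU b hb
    exact congrArg Units.val (hTcomm u v)
  refine ⟨hcomm, hA, hA', tp, htpG, hti', ht0', fun x hx => ⟨τ x, ?_, (hτ x hx).symm⟩⟩
  obtain ⟨u, rfl⟩ := mkU x hx
  have h1 : ((T u : (Pt inf)ˣ) : Pt inf) = ((u⁻¹ : (Pt inf)ˣ) : Pt inf) :=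
    congrArg Units.val (hTinv u)
  have h2 : (u : Pt inf) * ((u⁻¹ : (Pt inf)ˣ) : Pt inf) = 1 := Units.mul_inv u
  rw [← h1] at h2
  exact h2

theorem inv_form [Field (Pt inf)]
    (H : ∃ t ∈ G, t inf = ((0 : Pt inf) : α) ∧ t ((0 : Pt inf) : α) = inf ∧
      ∀ x : Pt inf, x ≠ 0 → ∃ y : Pt inf, x * y = 1 ∧ t (x : α) = (y : α)) :
    ∃ t ∈ G, t inf = ((0 : Pt inf) : α) ∧ t ((0 : Pt inf) : α) = inf ∧
      ∀ x : Pt inf, x ≠ 0 → t (x : α) = ((x⁻¹ : Pt inf) : α) := by
  obtain ⟨t, htG, h1, h2, h3⟩ := H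
  refine ⟨t, htG, h1, h2, fun x hx => ?_⟩
  obtain ⟨y, hxy, hty⟩ := h3 x hx
  rw [hty, eq_inv_of_mul_eq_one_right hxy]

/-- structure of a sharply 3-transitive group of odd degree: the point stabilizer is the affine
group of a field and there is an inversion -/
theorem main_structure (h3 : IsMultiplyPretransitive G α 3)
    (hsharp : ∀ x : Fin 3 ↪ α, stabilizer G x = ⊥) (hodd : Odd (Fintype.card α))
    (hc3 : 3 ≤ Fintype.card α) :
    ∃ (_ : Field (Pt inf)),
      (∀ g ∈ G, g inf = inf → ∃ a b : Pt inf, a ≠ 0 ∧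
        ∀ x : Pt inf, g (x : α) = ((x * a + b : Pt inf) : α)) ∧
      (∀ a b : Pt inf, a ≠ 0 → ∃ g ∈ G, g inf = inf ∧
        ∀ x : Pt inf, g (x : α) = ((x * a + b : Pt inf) : α)) ∧
      ∃ t ∈ G, t inf = ((0 : Pt inf) : α) ∧ t ((0 : Pt inf) : α) = inf ∧
        ∀ x : Pt inf, x ≠ 0 → t (x : α) = ((x⁻¹ : Pt inf) : α) := by
  haveI h2t := restrict_two_trans G inf h3
  have hsh2 := restrict_sharp G inf hsharp
  have hcK : 2 ≤ Fintype.card (Pt inf) := by rw [card_Pt]; omega
  obtain ⟨nf, hdesc⟩ := Cfsg.Agent.S0683.result (stabRestrict G inf) hsh2 hcK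
  obtain ⟨hcomm, hA, hA', ht⟩ := nf_level G inf h3 hsharp hodd hdesc
  letI fld : Field (Pt inf) := fieldOfNF (Pt inf) hcomm
  exact ⟨fld, hA, hA', inv_form G inf ht⟩

end Restrict

end Cfsg.Agent.Lib.Lead.S3
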