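import Mathlib
import Cfsg.Agent.Lib.Lead.S3A
import Cfsg.Agent.Lib.Helper4.ProjLine
import Cfsg.Agent.S0680

set_option autoImplicit false

namespace Cfsg.Agent.Lib.Lead.S3

open MulAction Matrix Cfsg.Agent.Lib.Helper4 Cfsg.Agent.Lib.Lead
open scoped LinearAlgebra.Projectivization MatrixGroups

theorem cross_vec {F : Type*} [Field F] (a b c d : F) :
    cross ![a, b] ![c, d] = a * d - b * c := by
  simp [cross]

section PGL

variable {α : Type*} [Fintype α] [DecidableEq α] (G : Subgroup (Equiv.Perm α)) (inf : α)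
  [Field (Pt inf)]

theorem vec_ne (k : Pt inf) : (![k, 1] : Fin 2 → Pt inf) ≠ 0 := fun h => by
  simpa using congrFun h 1

/-- the identification of `α` with the projective line -/
noncomputable def beta (x : α) : ℙ (Pt inf) (Fin 2 → Pt inf) :=
  if h : x = inf then Projectivization.mk (Pt inf) ![1, 0] e1_ne
  else Projectivization.mk (Pt inf) ![⟨x, h⟩, 1] (vec_ne inf ⟨x, h⟩)

theorem beta_inf : beta inf inf = Projectivization.mk (Pt inf) ![1, 0] e1_ne := dif_pos rfl

theorem beta_coe (k : Pt inf) :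
    beta inf (k : α) = Projectivization.mk (Pt inf) ![k, 1] (vec_ne inf k) := by
  unfold beta
  rw [dif_neg k.2]

theorem beta_injective : Function.Injective (beta inf) := by
  intro x y hxy
  by_cases hx : x = inf
  · by_cases hy : y = inf
    · rw [hx, hy]
    · exfalso
      obtain ⟨k, rfl⟩ : ∃ k : Pt inf, (k : α) = y := ⟨⟨y, hy⟩, rfl⟩
      rw [hx, beta_inf, beta_coe, mk_eq_mk_iff_cross, cross_vec] at hxy
      simp at hxy
  · obtain ⟨k, rfl⟩ : ∃ k : Pt inf, (k : α) = x := ⟨⟨x, hx⟩, rfl⟩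
    by_cases hy : y = inf
    · exfalso
      rw [hy, beta_inf, beta_coe, mk_eq_mk_iff_cross, cross_vec] at hxy
      simp at hxy
    · obtain ⟨l, rfl⟩ : ∃ l : Pt inf, (l : α) = y := ⟨⟨y, hy⟩, rfl⟩
      rw [beta_coe, beta_coe, mk_eq_mk_iff_cross, cross_vec, mul_one, one_mul] at hxy
      rw [sub_eq_zero.mp hxy]

theorem beta_surjective : Function.Surjective (beta inf) := by
  intro P
  induction P using Projectivization.ind with | _ v hv =>
  by_cases h1 : v 1 = 0
  · refine ⟨inf, ?_⟩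
    rw [beta_inf, mk_eq_mk_iff_cross]
    simp [cross, h1]
  · refine ⟨((v 0 / v 1 : Pt inf) : α), ?_⟩
    rw [beta_coe, mk_eq_mk_iff_cross]
    have : cross ![v 0 / v 1, 1] v = v 0 / v 1 * v 1 - 1 * v 0 := by simp [cross]
    rw [this, div_mul_cancel₀ _ h1, one_mul, sub_self]

/-- `α` is the projective line -/
noncomputable def betaE : α ≃ ℙ (Pt inf) (Fin 2 → Pt inf) :=
  Equiv.ofBijective (beta inf) ⟨beta_injective inf, beta_surjective inf⟩

/-- the action of `PGL₂` on `α` -/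
noncomputable def Psi : Matrix.ProjGenLinGroup (Fin 2) (Pt inf) →* Equiv.Perm α where
  toFun P := (betaE inf).symm.permCongr (MulAction.toPerm P)
  map_one' := by
    ext x
    simp [Equiv.permCongr_apply]
  map_mul' := fun P Q => by
    ext x
    simp [Equiv.permCongr_apply, mul_smul]

theorem beta_Psi (P : Matrix.ProjGenLinGroup (Fin 2) (Pt inf)) (x : α) :
    beta inf (Psi inf P x) = P • beta inf x := by
  have h1 : Psi inf P x = (betaE inf).symm (P • betaE inf x) := by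
    simp [Psi, Equiv.permCongr_apply]
  rw [h1]
  exact (betaE inf).apply_symm_apply _

theorem exists_Psi_of_aff (g : Equiv.Perm α) (hgi : g inf = inf) (a b : Pt inf) (ha : a ≠ 0)
    (hg : ∀ x : Pt inf, g (x : α) = ((x * a + b : Pt inf) : α)) :
    ∃ P, Psi inf P = g := by
  have hdet : (!![a, b; 0, 1] : Matrix (Fin 2) (Fin 2) (Pt inf)).det ≠ 0 := by
    rw [Matrix.det_fin_two_of]; simpa using ha
  refine ⟨Matrix.ProjGenLinGroup.mk (Matrix.GeneralLinearGroup.mkOfDetNeZero _ hdet), ?_⟩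
  ext x
  apply beta_injective inf
  rw [beta_Psi]
  have hact : ∀ u v : Pt inf,
      (Matrix.GeneralLinearGroup.mkOfDetNeZero _ hdet : GL (Fin 2) (Pt inf)) •
        (![u, v] : Fin 2 → Pt inf) = ![a * u + b * v, v] := by
    intro u v
    change (!![a, b; 0, 1] : Matrix (Fin 2) (Fin 2) (Pt inf)) *ᵥ ![u, v] = _
    funext i; fin_cases i <;> simp [Matrix.mulVec, dotProduct, Fin.sum_univ_two]
  by_cases hx : x = inf
  · rw [hx, hgi, beta_inf, Projectivization.PGL.mk_smul_mk, mk_eq_mk_iff_cross, hact, cross_vec]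
    ring
  · obtain ⟨k, rfl⟩ : ∃ k : Pt inf, (k : α) = x := ⟨⟨x, hx⟩, rfl⟩
    rw [hg k, beta_coe, beta_coe, Projectivization.PGL.mk_smul_mk, mk_eq_mk_iff_cross, hact,
      cross_vec]
    ring

theorem exists_Psi_of_inv (t : Equiv.Perm α) (hti : t inf = ((0 : Pt inf) : α))
    (ht0 : t ((0 : Pt inf) : α) = inf)
    (ht : ∀ x : Pt inf, x ≠ 0 → t (x : α) = ((x⁻¹ : Pt inf) : α)) : ∃ P, Psi inf P = t := by
  have hdet : (!![0, 1; 1, 0] : Matrix (Fin 2) (Fin 2) (Pt inf)).det ≠ 0 := by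
    rw [Matrix.det_fin_two_of]; simp
  refine ⟨Matrix.ProjGenLinGroup.mk (Matrix.GeneralLinearGroup.mkOfDetNeZero _ hdet), ?_⟩
  ext x
  apply beta_injective inf
  rw [beta_Psi]
  have hact : ∀ u v : Pt inf,
      (Matrix.GeneralLinearGroup.mkOfDetNeZero _ hdet : GL (Fin 2) (Pt inf)) •
        (![u, v] : Fin 2 → Pt inf) = ![v, u] := by
    intro u v
    change (!![0, 1; 1, 0] : Matrix (Fin 2) (Fin 2) (Pt inf)) *ᵥ ![u, v] = _
    funext i; fin_cases i <;> simp [Matrix.mulVec, dotProduct, Fin.sum_univ_two]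
  by_cases hx : x = inf
  · rw [hx, hti, beta_inf, beta_coe, Projectivization.PGL.mk_smul_mk, mk_eq_mk_iff_cross, hact,
      cross_vec]
    ring
  · obtain ⟨k, rfl⟩ : ∃ k : Pt inf, (k : α) = x := ⟨⟨x, hx⟩, rfl⟩
    by_cases hk : k = 0
    · rw [hk, ht0, beta_inf, beta_coe, Projectivization.PGL.mk_smul_mk, mk_eq_mk_iff_cross, hact,
        cross_vec]
      ring
    · rw [ht k hk, beta_coe, beta_coe, Projectivization.PGL.mk_smul_mk, mk_eq_mk_iff_cross, hact,
        cross_vec, mul_inv_cancel₀ hk]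
      ring

theorem three_pts : ((0 : Pt inf) : α) ≠ inf ∧ ((1 : Pt inf) : α) ≠ inf ∧
    ((0 : Pt inf) : α) ≠ ((1 : Pt inf) : α) :=
  ⟨(0 : Pt inf).2, (1 : Pt inf).2, fun h => zero_ne_one (Subtype.ext h)⟩

theorem Psi_injective : Function.Injective (Psi inf) := by
  rw [injective_iff_map_eq_one]
  intro P hP
  obtain ⟨hoi, hei, hoe⟩ := three_pts inf
  have hfix : ∀ x : α, P • beta inf x = beta inf x := fun x => by
    rw [← beta_Psi, hP]; rfl
  exact pgl_sharp P (beta inf inf) (beta inf ((0 : Pt inf) : α)) (beta inf ((1 : Pt inf) : α))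
    (fun h => hoi.symm (beta_injective inf h)) (fun h => hei.symm (beta_injective inf h))
    (fun h => hoe (beta_injective inf h)) (hfix _) (hfix _) (hfix _)

theorem range_Psi (h3 : IsMultiplyPretransitive G α 3)
    (hA : ∀ g ∈ G, g inf = inf → ∃ a b : Pt inf, a ≠ 0 ∧
      ∀ x : Pt inf, g (x : α) = ((x * a + b : Pt inf) : α))
    (hA' : ∀ a b : Pt inf, a ≠ 0 → ∃ g ∈ G, g inf = inf ∧
      ∀ x : Pt inf, g (x : α) = ((x * a + b : Pt inf) : α))
    (hT : ∃ t ∈ G, t inf = ((0 : Pt inf) : α) ∧ t ((0 : Pt inf) : α) = inf ∧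
      ∀ x : Pt inf, x ≠ 0 → t (x : α) = ((x⁻¹ : Pt inf) : α)) :
    (Psi inf).range = G := by
  obtain ⟨t, htG, hti, ht0, ht⟩ := hT
  obtain ⟨P3, hP3⟩ := exists_Psi_of_inv inf t hti ht0 ht
  have hsub : ∀ g ∈ G, ∃ P, Psi inf P = g := by
    intro g hg
    by_cases hgi : g inf = inf
    · obtain ⟨a, b, ha, hab⟩ := hA g hg hgi
      exact exists_Psi_of_aff inf g hgi a b ha hab
    · obtain ⟨h, hhG, hhi, hh⟩ := hA' 1 (-(⟨g inf, hgi⟩ : Pt inf)) one_ne_zero
      have hc : (t * h * g) inf = inf := by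
        change t (h (g inf)) = inf
        have e1 : g inf = ((⟨g inf, hgi⟩ : Pt inf) : α) := rfl
        rw [e1, hh, mul_one, add_neg_cancel, ht0]
      obtain ⟨a, b, ha, hab⟩ := hA _ (G.mul_mem (G.mul_mem htG hhG) hg) hc
      obtain ⟨P1, hP1⟩ := exists_Psi_of_aff inf _ hc a b ha hab
      obtain ⟨P2, hP2⟩ := exists_Psi_of_aff inf h hhi 1 _ one_ne_zero hh
      refine ⟨P2⁻¹ * (P3⁻¹ * P1), ?_⟩
      rw [map_mul, map_mul, map_inv, map_inv, hP1, hP2, hP3]
      group
  apply le_antisymm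
  · rintro γ ⟨P, rfl⟩
    obtain ⟨hoi, hei, hoe⟩ := three_pts inf
    have hinj := (Psi inf P).injective
    obtain ⟨g, hg1, hg2, hg3⟩ := Sharp3.exists_map3 h3 hoi.symm hei.symm hoe
      (fun h => hoi.symm (hinj h)) (fun h => hei.symm (hinj h)) (fun h => hoe (hinj h))
    obtain ⟨P', hP'⟩ := hsub g g.2
    have hQ : ∀ x : α, (g : Equiv.Perm α) x = Psi inf P x →
        (P'⁻¹ * P) • beta inf x = beta inf x := by
      intro x hx
      rw [← beta_Psi, map_mul, map_inv, hP']
      congr 1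
      change (g : Equiv.Perm α)⁻¹ (Psi inf P x) = x
      rw [← hx]
      exact (g : Equiv.Perm α).symm_apply_apply x
    have h1 : P'⁻¹ * P = 1 :=
      pgl_sharp _ (beta inf inf) (beta inf ((0 : Pt inf) : α)) (beta inf ((1 : Pt inf) : α))
        (fun h => hoi.symm (beta_injective inf h)) (fun h => hei.symm (beta_injective inf h))
        (fun h => hoe (beta_injective inf h)) (hQ _ hg1) (hQ _ hg2) (hQ _ hg3)
    have h2 : P = P' := by
      have := congrArg (fun z => P' * z) h1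
      simpa using this
    rw [h2, hP']
    exact g.2
  · intro g hg
    obtain ⟨P, hP⟩ := hsub g hg
    exact ⟨P, hP⟩

theorem pgl_iso (h3 : IsMultiplyPretransitive G α 3)
    (hA : ∀ g ∈ G, g inf = inf → ∃ a b : Pt inf, a ≠ 0 ∧
      ∀ x : Pt inf, g (x : α) = ((x * a + b : Pt inf) : α))
    (hA' : ∀ a b : Pt inf, a ≠ 0 → ∃ g ∈ G, g inf = inf ∧
      ∀ x : Pt inf, g (x : α) = ((x * a + b : Pt inf) : α))
    (hT : ∃ t ∈ G, t inf = ((0 : Pt inf) : α) ∧ t ((0 : Pt inf) : α) = inf ∧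
      ∀ x : Pt inf, x ≠ 0 → t (x : α) = ((x⁻¹ : Pt inf) : α)) :
    Nonempty (G ≃* Matrix.ProjGenLinGroup (Fin 2) (Pt inf)) := by
  have hr := range_Psi G inf h3 hA hA' hT
  exact ⟨((MonoidHom.ofInjective (Psi_injective inf)).trans (MulEquiv.subgroupCongr hr)).symm⟩

end PGL

/-- `PGL₂` of isomorphic rings -/
noncomputable def pglCongr {R S : Type*} [CommRing R] [CommRing S] (f : R ≃+* S) :
    Matrix.ProjGenLinGroup (Fin 2) R ≃* Matrix.ProjGenLinGroup (Fin 2) S :=
  MonoidHom.toMulEquiv (ProjGenLinGroup.map f.toRingHom) (ProjGenLinGroup.map f.symm.toRingHom)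
    (by rw [← ProjGenLinGroup.map_comp, RingEquiv.symm_toRingHom_comp_toRingHom,
      ProjGenLinGroup.map_id])
    (by rw [← ProjGenLinGroup.map_comp, RingEquiv.toRingHom_comp_symm_toRingHom,
      ProjGenLinGroup.map_id])

theorem ringChar_two_of_card {F : Type*} [Field F] [Fintype F] {f : ℕ}
    (hc : Fintype.card F = 2 ^ f) : ringChar F = 2 := by
  obtain ⟨n, hp, hcard⟩ := FiniteField.card F (ringChar F)
  rw [hc] at hcard
  have h1 : ringChar F ∣ 2 ^ f := by rw [hcard]; exact dvd_pow_self _ n.ne_zero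
  exact (Nat.prime_dvd_prime_iff_eq hp Nat.prime_two).mp (hp.dvd_of_dvd_pow h1)

/-- in characteristic 2, `PSL₂ ≃ PGL₂` for finite fields -/
noncomputable def pslEquivPgl (F : Type*) [Field F] [Fintype F] (h2 : ringChar F = 2) :
    Matrix.ProjectiveSpecialLinearGroup (Fin 2) F ≃* Matrix.ProjGenLinGroup (Fin 2) F :=
  MulEquiv.ofBijective Matrix.ProjectiveSpecialLinearGroup.toPGL
    ⟨Matrix.ProjectiveSpecialLinearGroup.toPGL_injective,
     Matrix.ProjectiveSpecialLinearGroup.toPGL_surj_of_roots (fun r => by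
       obtain ⟨k, hk⟩ := FiniteField.isSquare_of_char_two h2 (r : F)
       have hk0 : k ≠ 0 := by
         rintro rfl
         rw [mul_zero] at hk
         exact r.ne_zero hk
       refine ⟨Units.mk0 k hk0, ?_⟩
       apply Units.ext
       simp [pow_two, hk])⟩

theorem center_sl2_eq_bot (F : Type*) [Field F] (h2 : ringChar F = 2) :
    Subgroup.center (Matrix.SpecialLinearGroup (Fin 2) F) = ⊥ := by
  haveI : CharP F 2 := ringChar.of_eq h2
  rw [eq_bot_iff]
  intro A hA
  rw [Matrix.SpecialLinearGroup.mem_center_iff] at hA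
  obtain ⟨r, hr, hrA⟩ := hA
  rw [Subgroup.mem_bot]
  have hr1 : r = 1 := by
    have h : r * r = 1 := by rw [← pow_two]; simpa using hr
    rcases mul_self_eq_one_iff.mp h with h | h
    · exact h
    · rw [h, CharTwo.neg_eq]
  apply Subtype.ext
  rw [← hrA, hr1]
  simp

/-- in characteristic 2, `SL₂ ≃ PSL₂` -/
noncomputable def slEquivPsl (F : Type*) [Field F] (h2 : ringChar F = 2) :
    Matrix.SpecialLinearGroup (Fin 2) F ≃* Matrix.ProjectiveSpecialLinearGroup (Fin 2) F :=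
  (QuotientGroup.quotientBot (G := Matrix.SpecialLinearGroup (Fin 2) F)).symm.trans
    (QuotientGroup.quotientMulEquivOfEq (center_sl2_eq_bot F h2).symm)

section Main

variable {α : Type*} [Fintype α] [DecidableEq α] (G : Subgroup (Equiv.Perm α))

/-- Zassenhaus: a sharply 3-transitive group of degree `2^f + 1` is `PGL₂(2^f)` -/
theorem sharp3_pgl (h3 : IsMultiplyPretransitive G α 3)
    (hsharp : ∀ x : Fin 3 ↪ α, stabilizer G x = ⊥) {f : ℕ} (hf : 1 ≤ f)
    (hα : Fintype.card α = 2 ^ f + 1) :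
    ∃ (F : Type) (_ : Field F) (_ : Fintype F), Fintype.card F = 2 ^ f ∧
      Nonempty (G ≃* Matrix.ProjGenLinGroup (Fin 2) F) := by
  have h2f : 1 < 2 ^ f := Nat.one_lt_two_pow (by omega)
  have hc3 : 3 ≤ Fintype.card α := by omega
  have hodd : Odd (Fintype.card α) := by
    rw [hα]; exact (Nat.even_pow.mpr ⟨even_two, by omega⟩).add_one
  obtain ⟨inf⟩ : Nonempty α := Fintype.card_pos_iff.mp (by omega)
  obtain ⟨fld, hA, hA', hT⟩ := main_structure G inf h3 hsharp hodd hc3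
  obtain ⟨e⟩ := pgl_iso G inf h3 hA hA' hT
  haveI : Fact (Nat.Prime 2) := ⟨Nat.prime_two⟩
  haveI : Fintype (GaloisField 2 f) := Fintype.ofFinite _
  have hcF : Fintype.card (GaloisField 2 f) = 2 ^ f := by
    rw [← Nat.card_eq_fintype_card]; exact GaloisField.card 2 f (by omega)
  have hcK : Fintype.card (Pt inf) = 2 ^ f := by rw [card_Pt, hα]; omega
  let r : Pt inf ≃+* GaloisField 2 f := FiniteField.ringEquivOfCardEq (hcK.trans hcF.symm)
  exact ⟨GaloisField 2 f, inferInstance, inferInstance, hcF, ⟨e.trans (pglCongr r)⟩⟩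

/-- the degree of a sharply 3-transitive group of odd degree is `2^a + 1` -/
theorem degree_of_odd (h3 : IsMultiplyPretransitive G α 3)
    (hsharp : ∀ x : Fin 3 ↪ α, stabilizer G x = ⊥) (hodd : Odd (Fintype.card α))
    (hc3 : 3 ≤ Fintype.card α) : ∃ a : ℕ, 1 ≤ a ∧ Fintype.card α = 2 ^ a + 1 := by
  obtain ⟨inf⟩ : Nonempty α := Fintype.card_pos_iff.mp (by omega)
  haveI h2t := restrict_two_trans G inf h3
  have hsh2 := restrict_sharp G inf hsharp
  have hcK : Fintype.card (Pt inf) = Fintype.card α - 1 := card_Pt inf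
  obtain ⟨p, j, hp, hj, hpj, -⟩ := Cfsg.Agent.S0680.result (stabRestrict G inf) hsh2 (by omega)
  obtain ⟨k, hk⟩ := hodd
  have h2 : 2 ∣ p ^ j := by rw [← hpj, hcK, hk]; exact ⟨k, by omega⟩
  have hp2 : 2 = p := (Nat.prime_dvd_prime_iff_eq Nat.prime_two hp).mp
    (Nat.prime_two.dvd_of_dvd_pow h2)
  refine ⟨j, hj, ?_⟩
  rw [hp2]; omega

theorem sharp_of_fixedBy
    (hfix : ∀ g : G, 3 ≤ Nat.card (MulAction.fixedBy α g) → g = 1) :
    ∀ x : Fin 3 ↪ α, stabilizer G x = ⊥ := by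
  intro x
  rw [eq_bot_iff]
  intro g hg
  rw [Subgroup.mem_bot]
  apply hfix
  rw [mem_stabilizer_iff] at hg
  have hgx : ∀ i, g • x i = x i := fun i => by
    have := DFunLike.congr_fun hg i
    exact this
  let f : Fin 3 → MulAction.fixedBy α g := fun i => ⟨x i, hgx i⟩
  have hinj : Function.Injective f := fun i j h => x.injective (congrArg Subtype.val h)
  have := Nat.card_le_card_of_injective f hinj
  simpa using this

end Main

end Cfsg.Agent.Lib.Lead.S3
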