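import Mathlib
import Cfsg.Prelude.Def_Involutions
import Cfsg.Agent.Lib.Lead.Invol

set_option autoImplicit false

namespace Cfsg.Agent.Lib.Lead

variable {G : Type*} [Group G]

theorem mem_map_conj (H : Subgroup G) (g x : G) :
    x ∈ H.map (MulAut.conj g).toMonoidHom ↔ g⁻¹ * x * g ∈ H := by
  rw [Subgroup.mem_map]
  constructor
  · rintro ⟨y, hy, rfl⟩
    simp only [MulEquiv.coe_toMonoidHom, MulAut.conj_apply]
    have : g⁻¹ * (g * y * g⁻¹) * g = y := by group
    rw [this]; exact hy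
  · intro h
    refine ⟨g⁻¹ * x * g, h, ?_⟩
    simp only [MulEquiv.coe_toMonoidHom, MulAut.conj_apply]
    group

/-- a subgroup of even order contains an involution -/
theorem exists_invol_of_even [Finite G] (K : Subgroup G) (h : Even (Nat.card K)) :
    ∃ s : G, s ∈ K ∧ orderOf s = 2 := by
  haveI : Fact (Nat.Prime 2) := ⟨Nat.prime_two⟩
  obtain ⟨c, hc⟩ := exists_prime_orderOf_dvd_card' 2 (even_iff_two_dvd.mp h)
  exact ⟨c, c.2, by rw [Subgroup.orderOf_coe, hc]⟩

/-- a subgroup containing an involution has even order -/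
theorem even_card_of_invol_mem [Finite G] (K : Subgroup G) (s : G) (hs : orderOf s = 2)
    (hsK : s ∈ K) : Even (Nat.card K) := by
  have h5 : orderOf (⟨s, hsK⟩ : K) = 2 := by rw [Subgroup.orderOf_mk, hs]
  have h6 := orderOf_dvd_natCard (⟨s, hsK⟩ : K)
  rw [h5] at h6
  exact even_iff_two_dvd.mpr h6

/-- the "no involution in `H ∩ H^g`" form of strong embedding -/
theorem stronglyEmbedded_iff [Finite G] (H : Subgroup G) (hH : H ≠ ⊤) (heven : Even (Nat.card H)) :
    Cfsg.IsStronglyEmbedded H ↔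
      ∀ g : G, g ∉ H → ∀ s : G, orderOf s = 2 → s ∈ H → g⁻¹ * s * g ∉ H := by
  unfold Cfsg.IsStronglyEmbedded
  constructor
  · rintro ⟨-, -, h⟩ g hg s hs hsH hconj
    have hodd := h g hg
    have hmem : s ∈ H ⊓ H.map (MulAut.conj g).toMonoidHom :=
      Subgroup.mem_inf.mpr ⟨hsH, (mem_map_conj H g s).mpr hconj⟩
    exact (Nat.not_even_iff_odd.mpr hodd) (even_card_of_invol_mem _ s hs hmem)
  · intro h
    refine ⟨hH, heven, ?_⟩
    intro g hg
    by_contra hne
    rw [Nat.not_odd_iff_even] at hne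
    obtain ⟨s, hsK, hs⟩ := exists_invol_of_even _ hne
    obtain ⟨hsH, hsc⟩ := Subgroup.mem_inf.mp hsK
    exact h g hg s hs hsH ((mem_map_conj H g s).mp hsc)

end Cfsg.Agent.Lib.Lead
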