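import Mathlib
import Cfsg.Prelude.Def_Involutions
import Cfsg.Agent.Lib.Lead.StronglyEmbedded
import Cfsg.Agent.Lib.Lead.Dihedral

set_option autoImplicit false

namespace Cfsg.Agent.Lib.Lead.SE

open Cfsg Cfsg.Agent.Lib.Lead

variable {G : Type*} [Group G]

theorem orderOf_conj_eq (g t : G) : orderOf (g * t * g⁻¹) = orderOf t :=
  (MulAut.conj g).orderOf_eq t

theorem orderOf_conj_eq' (g t : G) : orderOf (g⁻¹ * t * g) = orderOf t := by
  have := orderOf_conj_eq g⁻¹ t
  rwa [inv_inv] at this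

/-- two involutions whose product has even order commute with a common involution -/
theorem exists_central_invol {x y : G} (hx : orderOf x = 2) (hy : orderOf y = 2)
    (he : Even (orderOf (x * y))) (hpos : 0 < orderOf (x * y)) :
    ∃ w : G, orderOf w = 2 ∧ w * x = x * w ∧ w * y = y * w := by
  obtain ⟨k, hk⟩ := he
  have hw2 : ((x * y) ^ k) * ((x * y) ^ k) = 1 := by
    rw [← pow_add, ← hk, pow_orderOf_eq_one]
  have hw1 : (x * y) ^ k ≠ 1 := by
    intro h
    have := orderOf_dvd_of_pow_eq_one h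
    have := Nat.le_of_dvd (by omega) this
    omega
  have hwinv : ((x * y) ^ k)⁻¹ = (x * y) ^ k := inv_eq_of_mul_eq_one_left hw2
  refine ⟨(x * y) ^ k, invol_of_mul_self hw1 hw2, ?_, ?_⟩
  · have h1 : x * (x * y) ^ k * x⁻¹ = ((x * y) ^ k)⁻¹ := by
      rw [← conj_pow, invol_conj_mul hx hy, inv_pow]
    rw [hwinv] at h1
    have := congrArg (· * x) h1
    simpa [mul_assoc] using this.symm
  · have h0 : y * (x * y) * y⁻¹ = (x * y)⁻¹ := by
      rw [mul_inv_rev, invol_inv hx, invol_inv hy, mul_assoc, mul_assoc, invol_mul_self hy, mul_one]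
    have h1 : y * (x * y) ^ k * y⁻¹ = ((x * y) ^ k)⁻¹ := by
      rw [← conj_pow, h0, inv_pow]
    rw [hwinv] at h1
    have := congrArg (· * y) h1
    simpa [mul_assoc] using this.symm

/-- two involutions whose product has odd order are conjugate by an involution -/
theorem exists_invol_conj {x y : G} (hx : orderOf x = 2) (hy : orderOf y = 2)
    (ho : Odd (orderOf (x * y))) :
    ∃ c : G, orderOf c = 2 ∧ c * x * c⁻¹ = y := by
  obtain ⟨k, hk⟩ := ho
  have hconj : ((x * y) ^ (k : ℤ) * x) * x * ((x * y) ^ (k : ℤ) * x)⁻¹ = y := by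
    have h1 := rot_conj_x hx hy (k : ℤ)
    have h2 : (x * y) ^ (2 * (k : ℤ)) = (x * y)⁻¹ := by
      have h3 : (x * y) ^ (2 * (k : ℤ) + 1) = 1 := by
        have : (2 * (k : ℤ) + 1) = ((2 * k + 1 : ℕ) : ℤ) := by push_cast; ring
        rw [this, zpow_natCast, ← hk, pow_orderOf_eq_one]
      rw [zpow_add, zpow_one] at h3
      exact eq_inv_of_mul_eq_one_left h3
    calc ((x * y) ^ (k : ℤ) * x) * x * ((x * y) ^ (k : ℤ) * x)⁻¹
        = (x * y) ^ (k : ℤ) * x * ((x * y) ^ (k : ℤ))⁻¹ := by group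
      _ = (x * y) ^ (2 * (k : ℤ)) * x := h1
      _ = (x * y)⁻¹ * x := by rw [h2]
      _ = y := by rw [mul_inv_rev, invol_inv hx, invol_inv hy, mul_assoc, invol_mul_self hx, mul_one]
  have hsq : ((x * y) ^ (k : ℤ) * x) * ((x * y) ^ (k : ℤ) * x) = 1 := by
    have h := invol_mul_zpow_mul hx hy (k : ℤ)
    calc ((x * y) ^ (k : ℤ) * x) * ((x * y) ^ (k : ℤ) * x)
        = (x * y) ^ (k : ℤ) * (x * (x * y) ^ (k : ℤ) * x) := by group
      _ = 1 := by rw [h, ← zpow_add]; simp
  refine ⟨(x * y) ^ (k : ℤ) * x, invol_of_mul_self ?_ hsq, hconj⟩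
  intro h1
  rw [h1] at hconj
  have hxy : x = y := by simpa using hconj
  have h2 : x * y = 1 := by rw [← hxy, invol_mul_self hx]
  rw [h2, one_zpow, one_mul] at h1
  exact invol_ne_one hx h1

/-- orbit-stabilizer for the conjugation action of a subgroup `A` on an element `s` -/
theorem card_conjOrbit_mul [Finite G] (A : Subgroup G) (s : G) :
    Nat.card {b : G // ∃ d ∈ A, d * s * d⁻¹ = b} *
      Nat.card (Subgroup.centralizer ({s} : Set G) ⊓ A : Subgroup G) = Nat.card A := by
  classical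
  let Orb := {b : G // ∃ d ∈ A, d * s * d⁻¹ = b}
  let f : A → Orb := fun d => ⟨d.1 * s * d.1⁻¹, d.1, d.2, rfl⟩
  haveI : Fintype Orb := Fintype.ofFinite _
  have h1 : Nat.card A = Nat.card (Σ b : Orb, {d : A // f d = b}) :=
    Nat.card_congr (Equiv.sigmaFiberEquiv f).symm
  have h2 : ∀ b : Orb, Nat.card {d : A // f d = b} =
      Nat.card (Subgroup.centralizer ({s} : Set G) ⊓ A : Subgroup G) := by
    rintro ⟨b, d0, hd0, rfl⟩
    apply Nat.card_congr
    refine
      { toFun := fun d => ⟨d0⁻¹ * d.1.1, ?_⟩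
        invFun := fun c => ⟨⟨d0 * c.1, A.mul_mem hd0 (Subgroup.mem_inf.mp c.2).2⟩, ?_⟩
        left_inv := fun d => by apply Subtype.ext; apply Subtype.ext; simp
        right_inv := fun c => by apply Subtype.ext; simp }
    · have hd : d.1.1 * s * d.1.1⁻¹ = d0 * s * d0⁻¹ := congrArg Subtype.val d.2
      refine Subgroup.mem_inf.mpr ⟨?_, A.mul_mem (A.inv_mem hd0) d.1.2⟩
      rw [Subgroup.mem_centralizer_singleton_iff]
      have : d0⁻¹ * d.1.1 * s = d0⁻¹ * (d.1.1 * s * d.1.1⁻¹) * d.1.1 := by group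
      rw [this, hd]; group
    · have hc := Subgroup.mem_centralizer_singleton_iff.mp (Subgroup.mem_inf.mp c.2).1
      apply Subtype.ext
      show d0 * c.1 * s * (d0 * c.1)⁻¹ = d0 * s * d0⁻¹
      have : d0 * c.1 * s * (d0 * c.1)⁻¹ = d0 * (c.1 * s) * c.1⁻¹ * d0⁻¹ := by group
      rw [this, hc]; group
  rw [h1, Nat.card_sigma]
  simp only [h2, Finset.sum_const, Finset.card_univ, smul_eq_mul]
  rw [Nat.card_eq_fintype_card]

section SE

open scoped Pointwise

variable [Finite G] {H : Subgroup G}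

theorem not_mem_of_conj (hH : IsStronglyEmbedded H) :
    ∀ g : G, g ∉ H → ∀ s : G, orderOf s = 2 → s ∈ H → g⁻¹ * s * g ∉ H :=
  (stronglyEmbedded_iff H hH.1 hH.2.1).mp hH

omit [Finite G] in
theorem smul_mk_eq_iff (t g : G) :
    t • ((g : G) : G ⧸ H) = ((g : G) : G ⧸ H) ↔ g⁻¹ * t * g ∈ H := by
  have : t • ((g : G) : G ⧸ H) = ((t * g : G) : G ⧸ H) := rfl
  rw [this, QuotientGroup.eq, ← H.inv_mem_iff]
  have : (((t * g)⁻¹ * g)⁻¹ : G) = g⁻¹ * t * g := by group
  rw [this]

theorem fix_unique (hH : IsStronglyEmbedded H) {t : G} (ht : orderOf t = 2) {a b : G ⧸ H}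
    (ha : t • a = a) (hb : t • b = b) : a = b := by
  induction a using QuotientGroup.induction_on with
  | H g =>
  induction b using QuotientGroup.induction_on with
  | H g' =>
  rw [smul_mk_eq_iff] at ha hb
  rw [QuotientGroup.eq]
  by_contra hk
  have hs : orderOf (g⁻¹ * t * g) = 2 := by rw [orderOf_conj_eq', ht]
  apply not_mem_of_conj hH (g⁻¹ * g') hk (g⁻¹ * t * g) hs ha
  have : (g⁻¹ * g')⁻¹ * (g⁻¹ * t * g) * (g⁻¹ * g') = g'⁻¹ * t * g' := by group
  rw [this]; exact hb

theorem centralizer_le (hH : IsStronglyEmbedded H) {t : G} (ht : orderOf t = 2) (htH : t ∈ H) :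
    Subgroup.centralizer ({t} : Set G) ≤ H := by
  intro g hg
  rw [Subgroup.mem_centralizer_singleton_iff] at hg
  by_contra hgH
  apply not_mem_of_conj hH g hgH t ht htH
  have : g⁻¹ * t * g = t := by rw [mul_assoc, ← hg]; group
  rw [this]; exact htH

theorem exists_sylow_le (hH : IsStronglyEmbedded H) : ∃ S : Sylow 2 G, (S : Subgroup G) ≤ H := by
  haveI : Fact (Nat.Prime 2) := ⟨Nat.prime_two⟩
  obtain ⟨s, hsH, hs⟩ := exists_invol_of_even H hH.2.1
  have h2 : IsPGroup 2 (Subgroup.zpowers s) := by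
    apply IsPGroup.of_card (n := 1)
    rw [Nat.card_zpowers, hs, pow_one]
  obtain ⟨S, hS⟩ := h2.exists_le_sylow
  have hsS : s ∈ (S : Subgroup G) := hS (Subgroup.mem_zpowers s)
  haveI : Nontrivial (S : Subgroup G) := by
    refine ⟨⟨⟨s, hsS⟩, 1, ?_⟩⟩
    intro h
    exact invol_ne_one hs (congrArg Subtype.val h)
  haveI := IsPGroup.center_nontrivial S.2
  have hc2 : 2 ∣ Nat.card (Subgroup.center (S : Subgroup G)) := by
    have hp : IsPGroup 2 (Subgroup.center (S : Subgroup G)) := S.2.to_subgroup _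
    obtain ⟨n, hn⟩ := IsPGroup.iff_card.mp hp
    rcases Nat.eq_zero_or_pos n with h0 | h0
    · rw [h0, pow_zero] at hn
      have := (Nat.card_eq_one_iff_unique.mp hn).1
      exact absurd (inferInstance : Nontrivial (Subgroup.center (S : Subgroup G)))
        (not_nontrivial_iff_subsingleton.mpr this)
    · rw [hn]; exact dvd_pow_self 2 (by omega)
  obtain ⟨z, hz⟩ := exists_prime_orderOf_dvd_card' 2 hc2
  have hzo : orderOf ((z : (S : Subgroup G)) : G) = 2 := by
    rw [Subgroup.orderOf_coe, Subgroup.orderOf_coe, hz]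
  have hzc : ∀ a ∈ (S : Subgroup G), a * ((z : (S : Subgroup G)) : G) = ((z : (S : Subgroup G)) : G) * a := by
    intro a ha
    have := Subgroup.mem_center_iff.mp z.2 ⟨a, ha⟩
    exact congrArg Subtype.val this
  have hzH : ((z : (S : Subgroup G)) : G) ∈ H := by
    apply centralizer_le hH hs hsH
    rw [Subgroup.mem_centralizer_singleton_iff]
    exact (hzc s hsS).symm
  refine ⟨S, fun a ha => ?_⟩
  apply centralizer_le hH hzo hzH
  rw [Subgroup.mem_centralizer_singleton_iff]
  exact hzc a ha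

theorem fix_exists (hH : IsStronglyEmbedded H) {t : G} (ht : orderOf t = 2) :
    ∃ a : G ⧸ H, t • a = a := by
  haveI : Fact (Nat.Prime 2) := ⟨Nat.prime_two⟩
  obtain ⟨S, hS⟩ := exists_sylow_le hH
  have h2 : IsPGroup 2 (Subgroup.zpowers t) := by
    apply IsPGroup.of_card (n := 1)
    rw [Nat.card_zpowers, ht, pow_one]
  obtain ⟨Q, hQ⟩ := h2.exists_le_sylow
  obtain ⟨g, hg⟩ := MulAction.exists_smul_eq G S Q
  have htQ : t ∈ (Q : Subgroup G) := hQ (Subgroup.mem_zpowers t)
  rw [← hg, Sylow.coe_subgroup_smul, Subgroup.mem_pointwise_smul_iff_inv_smul_mem] at htQ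
  refine ⟨((g : G) : G ⧸ H), ?_⟩
  rw [smul_mk_eq_iff]
  apply hS
  simpa [MulAut.smul_def] using htQ

/-- the number of involutions fixing a point equals the number of involutions of `H` -/
theorem card_fix (a : G ⧸ H) :
    Nat.card {t : G // orderOf t = 2 ∧ t • a = a} = Nat.card {t : G // orderOf t = 2 ∧ t ∈ H} := by
  induction a using QuotientGroup.induction_on with
  | H g =>
  apply Nat.card_congr
  refine
    { toFun := fun t => ⟨g⁻¹ * t.1 * g, by rw [orderOf_conj_eq']; exact t.2.1,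
        (smul_mk_eq_iff t.1 g).mp t.2.2⟩
      invFun := fun t => ⟨g * t.1 * g⁻¹, by rw [orderOf_conj_eq]; exact t.2.1, ?_⟩
      left_inv := fun t => by apply Subtype.ext; simp; group
      right_inv := fun t => by apply Subtype.ext; simp; group }
  rw [smul_mk_eq_iff]
  have : g⁻¹ * (g * t.1 * g⁻¹) * g = t.1 := by group
  rw [this]; exact t.2.2

theorem commute_fix (hH : IsStronglyEmbedded H) {s w : G} (hs : orderOf s = 2)
    (hw : w * s = s * w) {x : G ⧸ H} (hx : s • x = x) : w • x = x := by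
  apply fix_unique hH hs ?_ hx
  rw [← mul_smul, ← hw, mul_smul, hx]

theorem odd_orderOf_mul (hH : IsStronglyEmbedded H) {s s' : G} (hs : orderOf s = 2)
    (hs' : orderOf s' = 2) {x y : G ⧸ H} (hxy : x ≠ y) (hx : s • x = x) (hy : s' • y = y) :
    Odd (orderOf (s * s')) := by
  rw [← Nat.not_even_iff_odd]
  intro he
  obtain ⟨w, hw, hws, hws'⟩ := exists_central_invol hs hs' he (orderOf_pos _)
  have h1 := commute_fix hH hs hws hx
  have h2 := commute_fix hH hs' hws' hy
  exact hxy (fix_unique hH hw h1 h2)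

theorem conj_fix (hH : IsStronglyEmbedded H) {s s' c : G} (hs' : orderOf s' = 2)
    {x y : G ⧸ H} (hx : s • x = x) (hy : s' • y = y) (hc : c * s * c⁻¹ = s') : c • x = y := by
  apply fix_unique hH hs' ?_ hy
  have : s' * c = c * s := by rw [← hc]; group
  rw [← mul_smul, this, mul_smul, hx]

theorem le_card_swap (hH : IsStronglyEmbedded H) {x y : G ⧸ H} (hxy : x ≠ y) :
    Nat.card {t : G // orderOf t = 2 ∧ t ∈ H} ≤ Nat.card {i : G // orderOf i = 2 ∧ i • x = y} := by
  rw [← card_fix x]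
  -- an involution fixing y
  obtain ⟨s0, hs0H, hs0⟩ := exists_invol_of_even H hH.2.1
  have hne : Nonempty {t : G // orderOf t = 2 ∧ t • y = y} := by
    have h0 : 0 < Nat.card {t : G // orderOf t = 2 ∧ t • y = y} := by
      rw [card_fix y]
      exact Nat.card_pos_iff.mpr ⟨⟨⟨s0, hs0, hs0H⟩⟩, inferInstance⟩
    exact (Nat.card_pos_iff.mp h0).1
  obtain ⟨⟨s', hs', hy⟩⟩ := hne
  have key : ∀ s : {t : G // orderOf t = 2 ∧ t • x = x}, ∃ c : G, orderOf c = 2 ∧ c * s.1 * c⁻¹ = s' :=
    fun s => exists_invol_conj s.2.1 hs' (odd_orderOf_mul hH s.2.1 hs' hxy s.2.2 hy)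
  choose c hc2 hcc using key
  apply Nat.card_le_card_of_injective
    (fun s => (⟨c s, hc2 s, conj_fix hH hs' s.2.2 hy (hcc s)⟩ : {i : G // orderOf i = 2 ∧ i • x = y}))
  intro s1 s2 h12
  have h : c s1 = c s2 := congrArg Subtype.val h12
  apply Subtype.ext
  have e1 : s1.1 = (c s1)⁻¹ * s' * c s1 := by rw [← hcc s1]; group
  have e2 : s2.1 = (c s2)⁻¹ * s' * c s2 := by rw [← hcc s2]; group
  rw [e1, e2, h]

open Classical in
theorem card_filter_eq_natCard [Fintype G] (p : G → Prop) :
    (Finset.univ.filter p).card = Nat.card {i : G // p i} := by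
  rw [Nat.card_eq_fintype_card, Fintype.card_subtype]

/-- the number of involutions mapping `x` to `y ≠ x` equals the number of involutions of `H` -/
theorem card_swap (hH : IsStronglyEmbedded H) {x y : G ⧸ H} (hxy : x ≠ y) :
    Nat.card {i : G // orderOf i = 2 ∧ i • x = y} = Nat.card {t : G // orderOf t = 2 ∧ t ∈ H} := by
  classical
  haveI : Fintype G := Fintype.ofFinite G
  haveI : Fintype (G ⧸ H) := Fintype.ofFinite _
  set m := Nat.card {t : G // orderOf t = 2 ∧ t ∈ H} with hm
  set I : Finset G := Finset.univ.filter (fun t => orderOf t = 2) with hI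
  -- double counting of (involution, fixed point)
  have h1 := Finset.sum_card_bipartiteAbove_eq_sum_card_bipartiteBelow
    (s := I) (t := (Finset.univ : Finset (G ⧸ H))) (fun (t : G) (a : G ⧸ H) => t • a = a)
  have h2 : ∀ t ∈ I, (Finset.bipartiteAbove (fun (t : G) (a : G ⧸ H) => t • a = a)
      (Finset.univ : Finset (G ⧸ H)) t).card = 1 := by
    intro t ht
    have ht2 : orderOf t = 2 := (Finset.mem_filter.mp ht).2
    obtain ⟨a, ha⟩ := fix_exists hH ht2
    rw [Finset.card_eq_one]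
    refine ⟨a, ?_⟩
    ext b
    simp only [Finset.bipartiteAbove, Finset.mem_filter, Finset.mem_univ, true_and,
      Finset.mem_singleton]
    exact ⟨fun hb => fix_unique hH ht2 hb ha, fun hb => hb ▸ ha⟩
  have h3 : ∀ a ∈ (Finset.univ : Finset (G ⧸ H)),
      (Finset.bipartiteBelow (fun (t : G) (a : G ⧸ H) => t • a = a) I a).card = m := by
    intro a _
    rw [hm, ← card_fix a, ← card_filter_eq_natCard]
    congr 1
    ext t
    simp [Finset.bipartiteBelow, hI]
  rw [Finset.sum_congr rfl h2, Finset.sum_congr rfl h3] at h1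
  simp only [Finset.sum_const, smul_eq_mul, mul_one, Finset.card_univ] at h1
  -- split off the involutions fixing x
  have h4 := Finset.card_filter_add_card_filter_not (s := I) (fun t : G => t • x = x)
  have h5 : (I.filter (fun t : G => t • x = x)).card = m := by
    rw [hm, ← card_fix x, ← card_filter_eq_natCard]
    congr 1
    ext t
    simp [hI]
  -- the involutions moving x, by image of x
  have h6 := Finset.card_eq_sum_card_fiberwise (f := fun t : G => t • x)
    (s := I.filter (fun t : G => ¬ t • x = x)) (t := Finset.univ.erase x)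
    (fun t ht => by
      simp only [Finset.coe_filter, Set.mem_setOf_eq] at ht
      simpa using ht.2)
  have h7 : ∀ z ∈ Finset.univ.erase x,
      ((I.filter (fun t : G => ¬ t • x = x)).filter (fun t : G => t • x = z)).card
        = Nat.card {i : G // orderOf i = 2 ∧ i • x = z} := by
    intro z hz
    have hzx : z ≠ x := (Finset.mem_erase.mp hz).1
    rw [← card_filter_eq_natCard]
    congr 1
    ext t
    simp only [hI, Finset.mem_filter, Finset.mem_univ, true_and]
    constructor
    · rintro ⟨⟨h, -⟩, h'⟩; exact ⟨h, h'⟩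
    · rintro ⟨h, h'⟩; exact ⟨⟨h, by rw [h']; exact hzx⟩, h'⟩
  rw [Finset.sum_congr rfl h7] at h6
  -- compare
  have h8 : ∀ z ∈ Finset.univ.erase x, m ≤ Nat.card {i : G // orderOf i = 2 ∧ i • x = z} :=
    fun z hz => le_card_swap hH (Finset.mem_erase.mp hz).1.symm
  have h9 : ∑ z ∈ Finset.univ.erase x, m = ∑ z ∈ Finset.univ.erase x,
      Nat.card {i : G // orderOf i = 2 ∧ i • x = z} := by
    rw [← h6, Finset.sum_const, smul_eq_mul, Finset.card_erase_of_mem (Finset.mem_univ x),
      Finset.card_univ]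
    have hn : 0 < Fintype.card (G ⧸ H) := Fintype.card_pos_iff.mpr ⟨x⟩
    have : Fintype.card (G ⧸ H) * m = (Fintype.card (G ⧸ H) - 1) * m + m := by
      conv_lhs => rw [show Fintype.card (G ⧸ H) = (Fintype.card (G ⧸ H) - 1) + 1 by omega]
      ring
    omega
  have h10 := (Finset.sum_eq_sum_iff_of_le h8).mp h9 y (Finset.mem_erase.mpr ⟨hxy.symm, Finset.mem_univ y⟩)
  exact h10.symm

end SE

end Cfsg.Agent.Lib.Lead.SE
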