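import Mathlib
import Cfsg.Prelude.Def_Involutions
import Cfsg.Agent.Lib.Lead.SEInvol

set_option autoImplicit false

namespace Cfsg.Agent.Lib.Lead.SE

open Cfsg Cfsg.Agent.Lib.Lead

variable {G : Type*} [Group G]

/-- two involutions whose product has odd order are conjugate by a power of the product -/
theorem exists_rot_conj {x y : G} (hx : orderOf x = 2) (hy : orderOf y = 2)
    (ho : Odd (orderOf (x * y))) :
    ∃ k : ℤ, (x * y) ^ k * x * ((x * y) ^ k)⁻¹ = y := by
  obtain ⟨k, hk⟩ := ho
  refine ⟨(k : ℤ), ?_⟩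
  have h1 := rot_conj_x hx hy (k : ℤ)
  have h2 : (x * y) ^ (2 * (k : ℤ)) = (x * y)⁻¹ := by
    have h3 : (x * y) ^ (2 * (k : ℤ) + 1) = 1 := by
      have : (2 * (k : ℤ) + 1) = ((2 * k + 1 : ℕ) : ℤ) := by push_cast; ring
      rw [this, zpow_natCast, ← hk, pow_orderOf_eq_one]
    rw [zpow_add, zpow_one] at h3
    exact eq_inv_of_mul_eq_one_left h3
  rw [h1, h2, mul_inv_rev, invol_inv hx, invol_inv hy, mul_assoc, invol_mul_self hx, mul_one]

section SE

variable [Finite G] {H : Subgroup G}

/-- all involutions are conjugate -/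
theorem isConj_invol (hH : IsStronglyEmbedded H) {a b : G} (ha : orderOf a = 2)
    (hb : orderOf b = 2) : IsConj a b := by
  -- non-conjugate involutions have the same fixed point
  have key : ∀ a b : G, orderOf a = 2 → orderOf b = 2 → ¬ IsConj a b →
      ∀ x y : G ⧸ H, a • x = x → b • y = y → x = y := by
    intro a b ha hb hnc x y hx hy
    by_contra hxy
    obtain ⟨c, -, hc⟩ := exists_invol_conj ha hb (odd_orderOf_mul hH ha hb hxy hx hy)
    exact hnc (isConj_iff.mpr ⟨c, hc⟩)
  by_contra hnc
  obtain ⟨x, hx⟩ := fix_exists hH ha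
  obtain ⟨y, hy⟩ := fix_exists hH hb
  have hxy := key a b ha hb hnc x y hx hy
  -- an element moving x
  obtain ⟨g, hg⟩ : ∃ g : G, g • x ≠ x := by
    by_contra hall
    push Not at hall
    apply hH.1
    rw [eq_top_iff]
    intro h _
    induction x using QuotientGroup.induction_on with
    | H g0 =>
    have := hall (g0 * h * g0⁻¹)
    rw [smul_mk_eq_iff] at this
    have e : g0⁻¹ * (g0 * h * g0⁻¹) * g0 = h := by group
    rwa [e] at this
  have ha' : orderOf (g * a * g⁻¹) = 2 := by rw [orderOf_conj_eq, ha]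
  have hx' : (g * a * g⁻¹) • (g • x) = g • x := by
    rw [← mul_smul, inv_mul_cancel_right, mul_smul, hx]
  have hnc' : ¬ IsConj (g * a * g⁻¹) b := by
    intro h
    exact hnc ((isConj_iff.mpr ⟨g, rfl⟩).trans h)
  have := key _ b ha' hb hnc' (g • x) y hx' hy
  exact hg (this.trans hxy.symm)

/-- elements fixing two distinct points have odd order -/
theorem odd_orderOf_of_fix (hH : IsStronglyEmbedded H) {y z : G ⧸ H} (hyz : y ≠ z) {d : G}
    (hy : d • y = y) (hz : d • z = z) : Odd (orderOf d) := by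
  rw [← Nat.not_even_iff_odd]
  rintro ⟨k, hk⟩
  have hpos := orderOf_pos d
  have hw2 : (d ^ k) * (d ^ k) = 1 := by rw [← pow_add, ← hk, pow_orderOf_eq_one]
  have hw1 : d ^ k ≠ 1 := by
    intro h
    have := Nat.le_of_dvd (by omega) (orderOf_dvd_of_pow_eq_one h)
    omega
  have hw := invol_of_mul_self hw1 hw2
  have h1 : d ^ k • y = y := by
    have : d ^ k ∈ MulAction.stabilizer G y := pow_mem (MulAction.mem_stabilizer_iff.mpr hy) k
    exact MulAction.mem_stabilizer_iff.mp this
  have h2 : d ^ k • z = z := by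
    have : d ^ k ∈ MulAction.stabilizer G z := pow_mem (MulAction.mem_stabilizer_iff.mpr hz) k
    exact MulAction.mem_stabilizer_iff.mp this
  exact hyz (fix_unique hH hw h1 h2)

open Classical in
/-- the fixed point of an involution (junk otherwise) -/
noncomputable def fixPt (H : Subgroup G) (t : G) : G ⧸ H :=
  if h : ∃ a : G ⧸ H, t • a = a then h.choose else ((1 : G) : G ⧸ H)

theorem smul_fixPt (hH : IsStronglyEmbedded H) {t : G} (ht : orderOf t = 2) :
    t • fixPt H t = fixPt H t := by
  unfold fixPt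
  rw [dif_pos (fix_exists hH ht)]
  exact (fix_exists hH ht).choose_spec

theorem fixPt_eq_iff (hH : IsStronglyEmbedded H) {t : G} (ht : orderOf t = 2) (a : G ⧸ H) :
    fixPt H t = a ↔ t • a = a :=
  ⟨fun h => h ▸ smul_fixPt hH ht, fun h => fix_unique hH ht (smul_fixPt hH ht) h⟩

/-- the local inequality: `|G_y ∩ G_x| ≤ |G_y ∩ G_{sy}|` for an involution `s` fixing `x ≠ y`,
with the consequence of equality. -/
theorem local_ineq (hH : IsStronglyEmbedded H) {s : G} (hs : orderOf s = 2) {x y : G ⧸ H}
    (hx : s • x = x) (hxy : x ≠ y) :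
    Nat.card (MulAction.stabilizer G y ⊓ MulAction.stabilizer G x : Subgroup G) ≤
      Nat.card (MulAction.stabilizer G y ⊓ MulAction.stabilizer G (s • y) : Subgroup G) ∧
    (Nat.card (MulAction.stabilizer G y ⊓ MulAction.stabilizer G x : Subgroup G) =
      Nat.card (MulAction.stabilizer G y ⊓ MulAction.stabilizer G (s • y) : Subgroup G) →
      ∀ t : G, orderOf t = 2 → t • x = x →
        ∃ d ∈ (MulAction.stabilizer G y ⊓ MulAction.stabilizer G x : Subgroup G),
          d * s * d⁻¹ = t) := by
  set A : Subgroup G := MulAction.stabilizer G y ⊓ MulAction.stabilizer G x with hA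
  set B : Subgroup G := MulAction.stabilizer G y ⊓ MulAction.stabilizer G (s • y) with hB
  set m := Nat.card {t : G // orderOf t = 2 ∧ t ∈ H} with hm
  have hsy : s • y ≠ y := fun h => hxy (fix_unique hH hs hx h)
  have hssy : s • s • y = y := by rw [← mul_smul, invol_mul_self hs, one_smul]
  -- the two orbit-stabilizer relations
  have hLA := card_conjOrbit_mul A s
  have hLB := card_conjOrbit_mul B s
  -- the centralizer parts agree
  have hC : (Subgroup.centralizer ({s} : Set G) ⊓ A : Subgroup G) =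
      Subgroup.centralizer ({s} : Set G) ⊓ B := by
    ext c
    simp only [hA, hB, Subgroup.mem_inf, MulAction.mem_stabilizer_iff,
      Subgroup.mem_centralizer_singleton_iff]
    constructor
    · rintro ⟨hc, hcy, -⟩
      refine ⟨hc, hcy, ?_⟩
      rw [← mul_smul, hc, mul_smul, hcy]
    · rintro ⟨hc, hcy, -⟩
      exact ⟨hc, hcy, commute_fix hH hs hc hx⟩
  -- orbit of s under A sits inside the involutions fixing x
  have hOA : Nat.card {b : G // ∃ d ∈ A, d * s * d⁻¹ = b} ≤ m := by
    rw [hm, ← card_fix x]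
    apply Nat.card_le_card_of_injective
      (fun b => (⟨b.1, by
        obtain ⟨d, hd, hb⟩ := b.2
        have hdx : d • x = x := MulAction.mem_stabilizer_iff.mp (Subgroup.mem_inf.mp hd).2
        have hdx' : d⁻¹ • x = x := by rw [inv_smul_eq_iff, hdx]
        refine ⟨by rw [← hb, orderOf_conj_eq, hs], ?_⟩
        rw [← hb, mul_smul, mul_smul, hdx', hx, hdx]⟩ : {t : G // orderOf t = 2 ∧ t • x = x}))
    intro b1 b2 h
    exact Subtype.ext (congrArg (fun z : {t : G // orderOf t = 2 ∧ t • x = x} => z.1) h)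
  -- orbit of s under B is the set of involutions mapping y to s • y
  have hOB : Nat.card {b : G // ∃ d ∈ B, d * s * d⁻¹ = b} = m := by
    rw [hm, ← card_swap hH hsy.symm]
    apply Nat.card_congr
    refine Equiv.subtypeEquivRight ?_
    intro i
    constructor
    · rintro ⟨d, hd, rfl⟩
      have hdy : d • y = y := MulAction.mem_stabilizer_iff.mp (Subgroup.mem_inf.mp hd).1
      have hdy' : d⁻¹ • y = y := by rw [inv_smul_eq_iff, hdy]
      have hdsy : d • (s • y) = s • y := MulAction.mem_stabilizer_iff.mp (Subgroup.mem_inf.mp hd).2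
      refine ⟨by rw [orderOf_conj_eq, hs], ?_⟩
      rw [mul_smul, mul_smul, hdy', hdsy]
    · rintro ⟨hi, hiy⟩
      have hiiy : i • (s • y) = y := by rw [← hiy, ← mul_smul, invol_mul_self hi, one_smul]
      have h1 : (s * i) • y = y := by rw [mul_smul, hiy, hssy]
      have h2 : (s * i) • (s • y) = s • y := by rw [mul_smul, hiiy]
      have hodd := odd_orderOf_of_fix hH hsy.symm h1 h2
      obtain ⟨k, hk⟩ := exists_rot_conj hs hi hodd
      refine ⟨(s * i) ^ k, ?_, hk⟩
      apply zpow_mem
      exact Subgroup.mem_inf.mpr ⟨MulAction.mem_stabilizer_iff.mpr h1,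
        MulAction.mem_stabilizer_iff.mpr h2⟩
  have hkpos : 0 < Nat.card (Subgroup.centralizer ({s} : Set G) ⊓ B : Subgroup G) := Nat.card_pos
  rw [hC] at hLA
  rw [hOB] at hLB
  constructor
  · rw [← hLA, ← hLB]
    exact Nat.mul_le_mul_right _ hOA
  · intro heq t ht htx
    -- the orbit has m elements
    have hcard : Nat.card {b : G // ∃ d ∈ A, d * s * d⁻¹ = b} = m := by
      rw [← hLA, ← hLB] at heq
      exact Nat.eq_of_mul_eq_mul_right hkpos heq
    -- hence the injection into the involutions fixing x is onto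
    let f : {b : G // ∃ d ∈ A, d * s * d⁻¹ = b} → {t : G // orderOf t = 2 ∧ t • x = x} :=
      fun b => ⟨b.1, by
        obtain ⟨d, hd, hb⟩ := b.2
        have hdx : d • x = x := MulAction.mem_stabilizer_iff.mp (Subgroup.mem_inf.mp hd).2
        have hdx' : d⁻¹ • x = x := by rw [inv_smul_eq_iff, hdx]
        refine ⟨by rw [← hb, orderOf_conj_eq, hs], ?_⟩
        rw [← hb, mul_smul, mul_smul, hdx', hx, hdx]⟩
    have hinj : Function.Injective f := fun b1 b2 h =>
      Subtype.ext (congrArg (fun z : {t : G // orderOf t = 2 ∧ t • x = x} => z.1) h)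
    have hbij := hinj.bijective_of_nat_card_le (by rw [card_fix x, hcard])
    obtain ⟨b, hb⟩ := hbij.2 ⟨t, ht, htx⟩
    obtain ⟨d, hd, hdb⟩ := b.2
    refine ⟨d, hd, ?_⟩
    rw [hdb]
    exact congrArg Subtype.val hb

/-- the global equality obtained by summing the local inequalities -/
theorem card_eq_all (hH : IsStronglyEmbedded H) (y : G ⧸ H) {s : G} (hs : orderOf s = 2)
    (hsy : s • y ≠ y) :
    Nat.card (MulAction.stabilizer G y ⊓ MulAction.stabilizer G (fixPt H s) : Subgroup G) =
      Nat.card (MulAction.stabilizer G y ⊓ MulAction.stabilizer G (s • y) : Subgroup G) := by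
  classical
  haveI : Fintype G := Fintype.ofFinite G
  haveI : Fintype (G ⧸ H) := Fintype.ofFinite _
  set m := Nat.card {t : G // orderOf t = 2 ∧ t ∈ H} with hm
  set ψ : G ⧸ H → ℕ := fun z =>
    Nat.card (MulAction.stabilizer G y ⊓ MulAction.stabilizer G z : Subgroup G) with hψ
  set T : Finset G := Finset.univ.filter (fun s => orderOf s = 2 ∧ s • y ≠ y) with hT
  have hle : ∀ s ∈ T, ψ (fixPt H s) ≤ ψ (s • y) := by
    intro s hsT
    obtain ⟨-, hs2, hsy⟩ := Finset.mem_filter.mp hsT
    have hx := smul_fixPt hH hs2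
    have hxy : fixPt H s ≠ y := fun h => hsy (h ▸ hx)
    exact (local_ineq hH hs2 hx hxy).1
  have hsumA : ∑ s ∈ T, ψ (fixPt H s) = ∑ x ∈ Finset.univ.erase y, m * ψ x := by
    rw [← Finset.sum_fiberwise_of_maps_to (g := fixPt H) (s := T) (t := Finset.univ.erase y)]
    · apply Finset.sum_congr rfl
      intro x hx
      have hxy : x ≠ y := (Finset.mem_erase.mp hx).1
      have h1 : ∀ s ∈ T.filter (fun s => fixPt H s = x), ψ (fixPt H s) = ψ x := by
        intro s hs
        rw [(Finset.mem_filter.mp hs).2]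
      rw [Finset.sum_congr rfl h1, Finset.sum_const, smul_eq_mul]
      congr 1
      rw [hm, ← card_fix x, ← card_filter_eq_natCard]
      congr 1
      ext s
      simp only [hT, Finset.mem_filter, Finset.mem_univ, true_and]
      constructor
      · rintro ⟨⟨h2, -⟩, hf⟩
        exact ⟨h2, (fixPt_eq_iff hH h2 x).mp hf⟩
      · rintro ⟨h2, hf⟩
        refine ⟨⟨h2, fun h => hxy (fix_unique hH h2 hf h)⟩, (fixPt_eq_iff hH h2 x).mpr hf⟩
    · intro s hsT
      obtain ⟨-, hs2, hsy⟩ := Finset.mem_filter.mp hsT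
      have hx := smul_fixPt hH hs2
      refine Finset.mem_erase.mpr ⟨fun h => hsy (h ▸ hx), Finset.mem_univ _⟩
  have hsumB : ∑ s ∈ T, ψ (s • y) = ∑ z ∈ Finset.univ.erase y, m * ψ z := by
    rw [← Finset.sum_fiberwise_of_maps_to (g := fun s : G => s • y) (s := T)
      (t := Finset.univ.erase y)]
    · apply Finset.sum_congr rfl
      intro z hz
      have hzy : z ≠ y := (Finset.mem_erase.mp hz).1
      have h1 : ∀ s ∈ T.filter (fun s => s • y = z), ψ (s • y) = ψ z := by
        intro s hs
        rw [(Finset.mem_filter.mp hs).2]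
      rw [Finset.sum_congr rfl h1, Finset.sum_const, smul_eq_mul]
      congr 1
      rw [hm, ← card_swap hH hzy.symm, ← card_filter_eq_natCard]
      congr 1
      ext s
      simp only [hT, Finset.mem_filter, Finset.mem_univ, true_and]
      constructor
      · rintro ⟨⟨h2, -⟩, hf⟩
        exact ⟨h2, hf⟩
      · rintro ⟨h2, hf⟩
        exact ⟨⟨h2, by rw [hf]; exact hzy⟩, hf⟩
    · intro s hsT
      obtain ⟨-, hs2, hsy⟩ := Finset.mem_filter.mp hsT
      exact Finset.mem_erase.mpr ⟨hsy, Finset.mem_univ _⟩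
  have hall := (Finset.sum_eq_sum_iff_of_le hle).mp (hsumA.trans hsumB.symm)
  exact hall s (Finset.mem_filter.mpr ⟨Finset.mem_univ _, hs, hsy⟩)

/-- the two-point stabilizer is transitive on the involutions fixing one of the points -/
theorem exists_conj_in_inf (hH : IsStronglyEmbedded H) {x y : G ⧸ H} (hxy : x ≠ y) {s t : G}
    (hs : orderOf s = 2) (ht : orderOf t = 2) (hsx : s • x = x) (htx : t • x = x) :
    ∃ d ∈ (MulAction.stabilizer G y ⊓ MulAction.stabilizer G x : Subgroup G),
      d * s * d⁻¹ = t := by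
  have hsy : s • y ≠ y := fun h => hxy (fix_unique hH hs hsx h)
  have h1 := card_eq_all hH y hs hsy
  rw [(fixPt_eq_iff hH hs x).mpr hsx] at h1
  exact (local_ineq hH hs hsx hxy).2 h1 t ht htx

end SE

end Cfsg.Agent.Lib.Lead.SE
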