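import Mathlib
import Cfsg.Prelude.Def_Involutions
import Cfsg.Agent.Lib.Lead.SETrans
import Cfsg.Agent.S1226

set_option autoImplicit false

namespace Cfsg.Agent.Lib.Lead.SE

open Cfsg Cfsg.Agent.Lib.Lead

variable {G : Type*} [Group G] [Finite G]

section General

variable {H : Subgroup G}

/-- the orbit of an involution `s` fixing `x` under the two point stabilizer is the set of all
involutions fixing `x` -/
theorem card_orbit_eq (hH : IsStronglyEmbedded H) {x y : G ⧸ H} (hxy : x ≠ y) {s : G}
    (hs : orderOf s = 2) (hsx : s • x = x) :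
    Nat.card {b : G // ∃ d ∈ (MulAction.stabilizer G y ⊓ MulAction.stabilizer G x : Subgroup G),
      d * s * d⁻¹ = b} = Nat.card {t : G // orderOf t = 2 ∧ t ∈ H} := by
  rw [← card_fix x]
  apply Nat.card_congr
  refine Equiv.subtypeEquivRight ?_
  intro b
  constructor
  · rintro ⟨d, hd, rfl⟩
    have hdx : d • x = x := MulAction.mem_stabilizer_iff.mp (Subgroup.mem_inf.mp hd).2
    have hdx' : d⁻¹ • x = x := by rw [inv_smul_eq_iff, hdx]
    refine ⟨by rw [orderOf_conj_eq, hs], ?_⟩
    rw [mul_smul, mul_smul, hdx', hsx, hdx]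
  · rintro ⟨hb, hbx⟩
    exact exists_conj_in_inf hH hxy hs hb hsx hbx

/-- the involutions mapping `x` to `y` correspond to the elements of the two point stabilizer
inverted by a fixed such involution -/
theorem card_inverted (hH : IsStronglyEmbedded H) {x y : G ⧸ H} (hxy : x ≠ y) {u : G}
    (hu : orderOf u = 2) (hux : u • x = y) :
    Nat.card {d : G // d ∈ (MulAction.stabilizer G y ⊓ MulAction.stabilizer G x : Subgroup G) ∧
      u * d * u⁻¹ = d⁻¹} = Nat.card {t : G // orderOf t = 2 ∧ t ∈ H} := by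
  rw [← card_swap hH hxy]
  have huy : u • y = x := by rw [← hux, ← mul_smul, invol_mul_self hu, one_smul]
  apply Nat.card_congr
  refine
    { toFun := fun d => ⟨u * d.1, ?_, ?_⟩
      invFun := fun i => ⟨u * i.1, ?_, ?_⟩
      left_inv := fun d => by
        apply Subtype.ext
        show u * (u * d.1) = d.1
        rw [← mul_assoc, invol_mul_self hu, one_mul]
      right_inv := fun i => by
        apply Subtype.ext
        show u * (u * i.1) = i.1
        rw [← mul_assoc, invol_mul_self hu, one_mul] }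
  · -- u * d is an involution
    obtain ⟨d, hd, hinv⟩ := d
    simp only
    have hdx : d • x = x := MulAction.mem_stabilizer_iff.mp (Subgroup.mem_inf.mp hd).2
    apply invol_of_mul_self
    · intro h1
      have : d = u := by
        have := congrArg (u * ·) h1
        simp only [← mul_assoc, invol_mul_self hu, one_mul, mul_one] at this
        exact this
      rw [this, hux] at hdx
      exact hxy hdx.symm
    · rw [invol_inv hu] at hinv
      calc u * d * (u * d) = (u * d * u) * d := by group
        _ = 1 := by rw [hinv, inv_mul_cancel]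
  · obtain ⟨d, hd, -⟩ := d
    simp only
    have hdx : d • x = x := MulAction.mem_stabilizer_iff.mp (Subgroup.mem_inf.mp hd).2
    rw [mul_smul, hdx, hux]
  · obtain ⟨i, hi, hix⟩ := i
    simp only
    have hiy : i • y = x := by
      have := congrArg (i • ·) hix
      simp only [← mul_smul, invol_mul_self hi, one_smul] at this
      exact this.symm
    refine Subgroup.mem_inf.mpr ⟨MulAction.mem_stabilizer_iff.mpr ?_,
      MulAction.mem_stabilizer_iff.mpr ?_⟩
    · rw [mul_smul, hiy, hux]
    · rw [mul_smul, hix, huy]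
  · obtain ⟨i, hi, -⟩ := i
    simp only
    rw [mul_inv_rev, invol_inv hu, invol_inv hi]
    calc u * (u * i) * u = (u * u) * i * u := by group
      _ = i * u := by rw [invol_mul_self hu, one_mul]

end General

/-- hypotheses: Sylow 2-subgroup neither cyclic nor normal, involution centralizers elementary
abelian -/
structure ElemHyp (T : Sylow 2 G) : Prop where
  hnc : ¬ IsCyclic (T : Subgroup G)
  hnn : ¬ (T : Subgroup G).Normal
  hC : ∀ t : G, orderOf t = 2 → IsMulCommutative (Subgroup.centralizer ({t} : Set G)) ∧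
    ∀ c ∈ Subgroup.centralizer ({t} : Set G), c ^ 2 = 1

namespace ElemHyp

variable {T : Sylow 2 G} (h : ElemHyp T)
include h

theorem se : IsStronglyEmbedded (Subgroup.normalizer ((T : Subgroup G) : Set G)) :=
  Cfsg.Agent.S1226.result T h.hnc h.hnn h.hC

theorem ne_bot : (T : Subgroup G) ≠ ⊥ := by
  intro hb
  apply h.hnc
  rw [hb]
  infer_instance

theorem exists_invol_mem : ∃ s : G, s ∈ T ∧ orderOf s = 2 := by
  haveI : Fact (Nat.Prime 2) := ⟨Nat.prime_two⟩
  apply exists_invol_of_even
  rcases T.2.card_eq_or_dvd with h1 | h1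
  · exact absurd (Subgroup.card_eq_one.mp h1) h.ne_bot
  · exact even_iff_two_dvd.mpr h1

theorem centralizer_eq {s : G} (hs : orderOf s = 2) (hsT : s ∈ T) :
    Subgroup.centralizer ({s} : Set G) = T :=
  Cfsg.Agent.S1226.centralizer_eq_sylow T h.hnc h.hC s hs hsT

theorem sq_eq_one {t : G} (ht : t ∈ T) : t ^ 2 = 1 := by
  obtain ⟨s, hsT, hs⟩ := h.exists_invol_mem
  have := h.centralizer_eq hs hsT
  have ht' : t ∈ (T : Subgroup G) := ht
  rw [← this] at ht'
  exact (h.hC s hs).2 t ht'

theorem invol_mem_iff {t : G} :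
    (orderOf t = 2 ∧ t ∈ Subgroup.normalizer ((T : Subgroup G) : Set G)) ↔ (t ∈ T ∧ t ≠ 1) := by
  constructor
  · rintro ⟨ht, htH⟩
    exact ⟨KleinSylow.mem_of_two_elt_normalizer T t htH 1 (by rw [ht]; norm_num), invol_ne_one ht⟩
  · rintro ⟨htT, ht1⟩
    refine ⟨Cfsg.Agent.Lib.Lead.invol_iff.mpr ⟨ht1, h.sq_eq_one htT⟩, Subgroup.le_normalizer htT⟩

theorem card_invol :
    Nat.card {t : G // orderOf t = 2 ∧ t ∈ Subgroup.normalizer ((T : Subgroup G) : Set G)} =
      Nat.card T - 1 := by
  classical
  have e : {t : G // orderOf t = 2 ∧ t ∈ Subgroup.normalizer ((T : Subgroup G) : Set G)} ≃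
      {t : (T : Subgroup G) // t ≠ 1} :=
    { toFun := fun t => ⟨⟨t.1, (h.invol_mem_iff.mp t.2).1⟩, fun h1 =>
        (h.invol_mem_iff.mp t.2).2 (congrArg Subtype.val h1)⟩
      invFun := fun t => ⟨t.1.1, h.invol_mem_iff.mpr ⟨t.1.2, fun h1 => t.2 (Subtype.ext h1)⟩⟩
      left_inv := fun t => rfl
      right_inv := fun t => rfl }
  rw [Nat.card_congr e]
  haveI : Fintype (T : Subgroup G) := Fintype.ofFinite _
  rw [Nat.card_eq_fintype_card, Fintype.card_subtype_compl, Nat.card_eq_fintype_card]
  simp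

/-- the two point stabilizers meet involution centralizers trivially -/
theorem centralizer_inf_eq_bot {x y : G ⧸ Subgroup.normalizer ((T : Subgroup G) : Set G)}
    (hxy : x ≠ y) {s : G} (hs : orderOf s = 2) :
    (Subgroup.centralizer ({s} : Set G) ⊓
      (MulAction.stabilizer G y ⊓ MulAction.stabilizer G x) : Subgroup G) = ⊥ := by
  rw [eq_bot_iff]
  intro c hc
  obtain ⟨hcs, hcy, hcx⟩ := Subgroup.mem_inf.mp hc |>.imp id Subgroup.mem_inf.mp
  rw [Subgroup.mem_bot]
  by_contra hc1
  have hc2 : orderOf c = 2 := Cfsg.Agent.Lib.Lead.invol_iff.mpr ⟨hc1, (h.hC s hs).2 c hcs⟩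
  exact hxy (fix_unique h.se hc2 (MulAction.mem_stabilizer_iff.mp hcx)
    (MulAction.mem_stabilizer_iff.mp hcy))

/-- the two point stabilizers have order `|T| - 1` -/
theorem card_two_point {x y : G ⧸ Subgroup.normalizer ((T : Subgroup G) : Set G)}
    (hxy : x ≠ y) :
    Nat.card (MulAction.stabilizer G y ⊓ MulAction.stabilizer G x : Subgroup G) =
      Nat.card T - 1 := by
  -- an involution fixing x
  obtain ⟨s0, hs0T, hs0⟩ := h.exists_invol_mem
  have hpos : 0 < Nat.card {t : G // orderOf t = 2 ∧ t • x = x} := by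
    rw [card_fix x]
    exact Nat.card_pos_iff.mpr ⟨⟨⟨s0, hs0, Subgroup.le_normalizer hs0T⟩⟩, inferInstance⟩
  obtain ⟨⟨s, hs, hsx⟩⟩ := (Nat.card_pos_iff.mp hpos).1
  have h1 := card_conjOrbit_mul
    (MulAction.stabilizer G y ⊓ MulAction.stabilizer G x : Subgroup G) s
  rw [card_orbit_eq h.se hxy hs hsx, h.centralizer_inf_eq_bot hxy hs, h.card_invol] at h1
  rw [← h1]
  simp

/-- an involution swapping two points inverts their stabilizer -/
theorem inverts {x y : G ⧸ Subgroup.normalizer ((T : Subgroup G) : Set G)}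
    (hxy : x ≠ y) {u : G} (hu : orderOf u = 2) (hux : u • x = y) {d : G}
    (hd : d ∈ (MulAction.stabilizer G y ⊓ MulAction.stabilizer G x : Subgroup G)) :
    u * d * u⁻¹ = d⁻¹ := by
  have h1 := card_inverted h.se hxy hu hux
  rw [h.card_invol, ← h.card_two_point hxy] at h1
  let f : {d : G // d ∈ (MulAction.stabilizer G y ⊓ MulAction.stabilizer G x : Subgroup G) ∧
      u * d * u⁻¹ = d⁻¹} → (MulAction.stabilizer G y ⊓ MulAction.stabilizer G x : Subgroup G) :=
    fun d => ⟨d.1, d.2.1⟩
  have hinj : Function.Injective f := fun a b hab => Subtype.ext (congrArg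
    (fun z : (MulAction.stabilizer G y ⊓ MulAction.stabilizer G x : Subgroup G) => z.1) hab)
  have hbij := hinj.bijective_of_nat_card_le (le_of_eq h1.symm)
  obtain ⟨e, he⟩ := hbij.2 ⟨d, hd⟩
  have : e.1 = d := congrArg Subtype.val he
  rw [← this]
  exact e.2.2

/-- the order of `N_G(T)` -/
theorem card_normalizer :
    Nat.card (Subgroup.normalizer ((T : Subgroup G) : Set G)) = Nat.card T * (Nat.card T - 1) := by
  obtain ⟨s, hsT, hs⟩ := h.exists_invol_mem
  have h1 := card_conjOrbit_mul (Subgroup.normalizer ((T : Subgroup G) : Set G)) s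
  have hcen : (Subgroup.centralizer ({s} : Set G) ⊓ Subgroup.normalizer ((T : Subgroup G) : Set G)
      : Subgroup G) = T := by
    rw [h.centralizer_eq hs hsT]
    exact inf_eq_left.mpr Subgroup.le_normalizer
  -- a second point
  obtain ⟨g, hg⟩ : ∃ g : G, g ∉ Subgroup.normalizer ((T : Subgroup G) : Set G) := by
    by_contra hall
    push Not at hall
    exact h.se.1 (eq_top_iff.mpr fun g _ => hall g)
  have hxy : (((1 : G) : G ⧸ Subgroup.normalizer ((T : Subgroup G) : Set G))) ≠ ((g : G) : G ⧸ _) := by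
    intro he
    rw [QuotientGroup.eq] at he
    apply hg
    simpa using he
  have hsx : s • (((1 : G) : G ⧸ Subgroup.normalizer ((T : Subgroup G) : Set G))) = ((1 : G) : G ⧸ _) := by
    rw [smul_mk_eq_iff]; simpa using Subgroup.le_normalizer hsT
  have horb : Nat.card {b : G // ∃ d ∈ Subgroup.normalizer ((T : Subgroup G) : Set G),
      d * s * d⁻¹ = b} = Nat.card T - 1 := by
    rw [← h.card_invol]
    apply Nat.card_congr
    refine Equiv.subtypeEquivRight ?_
    intro b
    constructor
    · rintro ⟨d, hd, rfl⟩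
      refine ⟨by rw [orderOf_conj_eq, hs], ?_⟩
      exact Subgroup.mul_mem _ (Subgroup.mul_mem _ hd (Subgroup.le_normalizer hsT))
        (Subgroup.inv_mem _ hd)
    · rintro ⟨hb, hbH⟩
      have hbx : b • (((1 : G) : G ⧸ Subgroup.normalizer ((T : Subgroup G) : Set G))) = ((1 : G) : G ⧸ _) := by
        rw [smul_mk_eq_iff]; simpa using hbH
      obtain ⟨d, hd, hdb⟩ := exists_conj_in_inf h.se hxy hs hb hsx hbx
      refine ⟨d, ?_, hdb⟩
      have := (Subgroup.mem_inf.mp hd).2
      rwa [MulAction.stabilizer_quotient] at this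
  rw [horb, hcen] at h1
  rw [← h1, mul_comm]

end ElemHyp

end Cfsg.Agent.Lib.Lead.SE
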