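import Mathlib
import Cfsg.Prelude.Def_Involutions
import Cfsg.Agent.Lib.Lead.SEElem
import Cfsg.Agent.Lib.Helper1.Hall

set_option autoImplicit false

namespace Cfsg.Agent.Lib.Lead.SE

open Cfsg Cfsg.Agent.Lib.Lead

variable {G : Type*} [Group G] [Finite G]

namespace ElemHyp

variable {T : Sylow 2 G} (h : ElemHyp T)
include h

local notation "HH" => Subgroup.normalizer ((T : Subgroup G) : Set G)

theorem card_ne_two : Nat.card T ≠ 2 := by
  intro h2
  apply h.hnc
  haveI : Fact (Nat.Prime 2) := ⟨Nat.prime_two⟩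
  exact isCyclic_of_prime_card (α := (T : Subgroup G)) h2

theorem card_ne_one : Nat.card T ≠ 1 := by
  intro h1
  exact h.ne_bot (Subgroup.card_eq_one.mp h1)

/-- there is an involution mapping `x` to `y` -/
theorem exists_swap {x y : G ⧸ HH} (hxy : x ≠ y) : ∃ u : G, orderOf u = 2 ∧ u • x = y := by
  have h1 := card_swap h.se hxy
  rw [h.card_invol] at h1
  have hpos : 0 < Nat.card {i : G // orderOf i = 2 ∧ i • x = y} := by
    rw [h1]
    have := h.card_ne_one
    have : 0 < Nat.card T := Nat.card_pos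
    omega
  obtain ⟨⟨u, hu, hux⟩⟩ := (Nat.card_pos_iff.mp hpos).1
  exact ⟨u, hu, hux⟩

/-- the stabilizer of two points is determined by its order -/
theorem two_point_eq {x y z : G ⧸ HH} (hxy : x ≠ y) (hxz : x ≠ z)
    (hz : ∀ d ∈ (MulAction.stabilizer G y ⊓ MulAction.stabilizer G x : Subgroup G), d • z = z) :
    (MulAction.stabilizer G y ⊓ MulAction.stabilizer G x : Subgroup G) =
      MulAction.stabilizer G z ⊓ MulAction.stabilizer G x := by
  apply Subgroup.eq_of_le_of_card_ge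
  · intro d hd
    exact Subgroup.mem_inf.mpr ⟨MulAction.mem_stabilizer_iff.mpr (hz d hd), (Subgroup.mem_inf.mp hd).2⟩
  · rw [h.card_two_point hxy, h.card_two_point hxz]

/-- powers of an inverting element -/
theorem pow_inverts {a d : G} (hinv : a * d * a⁻¹ = d⁻¹) {e : ℕ} (he : Odd e) :
    a ^ e * d * (a ^ e)⁻¹ = d⁻¹ := by
  obtain ⟨j, rfl⟩ := he
  have h2 : a ^ 2 * d⁻¹ = d⁻¹ * a ^ 2 := by
    have : a * d⁻¹ * a⁻¹ = d := by
      have := congrArg (·⁻¹) hinv
      simp only [mul_inv_rev, inv_inv] at this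
      rw [← mul_assoc] at this
      exact this
    calc a ^ 2 * d⁻¹ = a * (a * d⁻¹ * a⁻¹) * a := by rw [pow_two]; group
      _ = a * d * a := by rw [this]
      _ = (a * d * a⁻¹) * a ^ 2 := by rw [pow_two]; group
      _ = d⁻¹ * a ^ 2 := by rw [hinv]
  have h3 : (a ^ 2) ^ j * d⁻¹ = d⁻¹ * (a ^ 2) ^ j := (Commute.pow_left h2 j)
  calc a ^ (2 * j + 1) * d * (a ^ (2 * j + 1))⁻¹
      = (a ^ 2) ^ j * (a * d * a⁻¹) * ((a ^ 2) ^ j)⁻¹ := by
        rw [pow_succ, pow_mul]; group
    _ = (a ^ 2) ^ j * d⁻¹ * ((a ^ 2) ^ j)⁻¹ := by rw [hinv]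
    _ = d⁻¹ := by rw [h3]; group

/-- no element of `N_G(T)` inverts a nontrivial odd order element of `N_G(T)` -/
theorem eq_one_of_inverted {a d : G} (ha : a ∈ HH) (hd : d ∈ HH) (hodd : Odd (orderOf d))
    (hinv : a * d * a⁻¹ = d⁻¹) : d = 1 := by
  obtain ⟨k, e, he, hke⟩ := Nat.exists_eq_two_pow_mul_odd (orderOf_pos a).ne'
  have hinv' := pow_inverts h hinv he
  have hord : orderOf (a ^ e) = 2 ^ k := by
    rw [orderOf_pow' a he.pos.ne', hke, Nat.gcd_eq_right (dvd_mul_left e (2 ^ k))]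
    exact Nat.mul_div_cancel _ he.pos
  have haT : a ^ e ∈ T := KleinSylow.mem_of_two_elt_normalizer T _ (pow_mem ha e) k hord
  -- d⁻² ∈ T
  have h1 : a ^ e * (d * (a ^ e)⁻¹ * d⁻¹) ∈ (T : Subgroup G) := by
    apply Subgroup.mul_mem _ haT
    have := (Subgroup.mem_normalizer_iff.mp hd) ((a ^ e)⁻¹)
    exact this.mp (Subgroup.inv_mem _ haT)
  have h2 : a ^ e * (d * (a ^ e)⁻¹ * d⁻¹) = d⁻¹ * d⁻¹ := by
    calc a ^ e * (d * (a ^ e)⁻¹ * d⁻¹) = (a ^ e * d * (a ^ e)⁻¹) * d⁻¹ := by group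
      _ = d⁻¹ * d⁻¹ := by rw [hinv']
  rw [h2] at h1
  have h3 := h.sq_eq_one h1
  have h4 : d ^ 4 = 1 := by
    have : (d⁻¹ * d⁻¹) ^ 2 = (d ^ 4)⁻¹ := by group
    rw [this, inv_eq_one] at h3
    exact h3
  have h5 : orderOf d ∣ 4 := orderOf_dvd_of_pow_eq_one h4
  have h6 : orderOf d = 1 := by
    have hcop : Nat.Coprime (orderOf d) (2 ^ 2) := Nat.Coprime.pow_right 2 hodd.coprime_two_right
    exact Nat.eq_one_of_dvd_coprimes hcop dvd_rfl h5
  exact orderOf_eq_one_iff.mp h6

/-- the stabilizer of two points (one of them the base point) fixes no further point -/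
theorem fix_two_base {y z : G ⧸ HH} (hy : ((1 : G) : G ⧸ HH) ≠ y)
    (hz : ∀ d ∈ (MulAction.stabilizer G y ⊓ MulAction.stabilizer G ((1 : G) : G ⧸ HH) : Subgroup G),
      d • z = z) : z = ((1 : G) : G ⧸ HH) ∨ z = y := by
  by_contra hcon
  push Not at hcon
  obtain ⟨hzx, hzy⟩ := hcon
  set x : G ⧸ HH := ((1 : G) : G ⧸ HH) with hx
  set D : Subgroup G := MulAction.stabilizer G y ⊓ MulAction.stabilizer G x with hD
  obtain ⟨u, hu, hux⟩ := h.exists_swap hy
  obtain ⟨v, hv, hvx⟩ := h.exists_swap (Ne.symm hzx)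
  have hDz : D = MulAction.stabilizer G z ⊓ MulAction.stabilizer G x :=
    h.two_point_eq hy (Ne.symm hzx) hz
  have huinv : ∀ d ∈ D, u * d * u⁻¹ = d⁻¹ := fun d hd => h.inverts hy hu hux hd
  have hvinv : ∀ d ∈ D, v * d * v⁻¹ = d⁻¹ := fun d hd => h.inverts (Ne.symm hzx) hv hvx (hDz ▸ hd)
  -- the point x' = u • z
  have hx'fix : ∀ d ∈ D, d • (u • z) = u • z := by
    intro d hd
    have h1 : d * u = u * d⁻¹ := by
      rw [← huinv d hd, invol_inv hu, ← mul_assoc, ← mul_assoc, invol_mul_self hu, one_mul]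
    rw [← mul_smul, h1, mul_smul, hz d⁻¹ (D.inv_mem hd)]
  have hx'ne : x ≠ u • z := by
    intro he
    apply hzy
    have := congrArg (u • ·) he
    simp only [← mul_smul, invol_mul_self hu, one_smul] at this
    rw [← this, hux]
  obtain ⟨w, hw, hwx⟩ := h.exists_swap hx'ne
  have hDx' : D = MulAction.stabilizer G (u • z) ⊓ MulAction.stabilizer G x :=
    h.two_point_eq hy hx'ne hx'fix
  have hwinv : ∀ d ∈ D, w * d * w⁻¹ = d⁻¹ := fun d hd => h.inverts hx'ne hw hwx (hDx' ▸ hd)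
  -- the element a = w u v fixes x and inverts D
  have hax : (w * u * v) • x = x := by
    rw [mul_smul, mul_smul, hvx, ← hwx, ← mul_smul, invol_mul_self hw, one_smul]
  have haH : w * u * v ∈ HH := by
    have := MulAction.mem_stabilizer_iff.mpr hax
    rwa [hx, MulAction.stabilizer_quotient] at this
  have hainv : ∀ d ∈ D, (w * u * v) * d * (w * u * v)⁻¹ = d⁻¹ := by
    intro d hd
    calc (w * u * v) * d * (w * u * v)⁻¹ = w * (u * (v * d * v⁻¹) * u⁻¹) * w⁻¹ := by group
      _ = w * (u * d⁻¹ * u⁻¹) * w⁻¹ := by rw [hvinv d hd]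
      _ = w * d * w⁻¹ := by rw [huinv d⁻¹ (D.inv_mem hd), inv_inv]
      _ = d⁻¹ := hwinv d hd
  -- hence D is trivial
  have hDbot : D = ⊥ := by
    rw [eq_bot_iff]
    intro d hd
    rw [Subgroup.mem_bot]
    have hdH : d ∈ HH := by
      have := (Subgroup.mem_inf.mp hd).2
      rwa [hx, MulAction.stabilizer_quotient] at this
    have hodd : Odd (orderOf d) :=
      odd_orderOf_of_fix h.se hy (MulAction.mem_stabilizer_iff.mp (Subgroup.mem_inf.mp hd).2)
        (MulAction.mem_stabilizer_iff.mp (Subgroup.mem_inf.mp hd).1)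
    exact h.eq_one_of_inverted haH hdH hodd (hainv d hd)
  have hcard := h.card_two_point hy
  rw [← hD, hDbot, Subgroup.card_bot] at hcard
  have h1 := h.card_ne_two
  have h2 := h.card_ne_one
  have h3 : 0 < Nat.card T := Nat.card_pos
  omega

/-- two point stabilizers are commutative -/
theorem two_point_comm {x y : G ⧸ HH} (hxy : x ≠ y) {a b : G}
    (ha : a ∈ (MulAction.stabilizer G y ⊓ MulAction.stabilizer G x : Subgroup G))
    (hb : b ∈ (MulAction.stabilizer G y ⊓ MulAction.stabilizer G x : Subgroup G)) :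
    a * b = b * a := by
  obtain ⟨u, hu, hux⟩ := h.exists_swap hxy
  have h1 := h.inverts hxy hu hux ha
  have h2 := h.inverts hxy hu hux hb
  have h3 := h.inverts hxy hu hux (Subgroup.mul_mem _ ha hb)
  have h4 : u * (a * b) * u⁻¹ = (u * a * u⁻¹) * (u * b * u⁻¹) := by group
  rw [h3, h1, h2, mul_inv_rev] at h4
  have := congrArg (·⁻¹) h4
  simpa using this

/-- an element fixing the base point and two further points is trivial -/
theorem three_point_base {y z : G ⧸ HH} (hy : ((1 : G) : G ⧸ HH) ≠ y)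
    (hz : ((1 : G) : G ⧸ HH) ≠ z) (hyz : y ≠ z) {g : G}
    (hgx : g • (((1 : G) : G ⧸ HH)) = ((1 : G) : G ⧸ HH)) (hgy : g • y = y) (hgz : g • z = z) :
    g = 1 := by
  by_contra hg1
  set x : G ⧸ HH := ((1 : G) : G ⧸ HH) with hx
  set D : Subgroup G := MulAction.stabilizer G y ⊓ MulAction.stabilizer G x with hD
  set D' : Subgroup G := MulAction.stabilizer G z ⊓ MulAction.stabilizer G x with hD'
  have hStx : MulAction.stabilizer G x = HH := by rw [hx, MulAction.stabilizer_quotient]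
  have hgD : g ∈ D := Subgroup.mem_inf.mpr
    ⟨MulAction.mem_stabilizer_iff.mpr hgy, MulAction.mem_stabilizer_iff.mpr hgx⟩
  have hgD' : g ∈ D' := Subgroup.mem_inf.mpr
    ⟨MulAction.mem_stabilizer_iff.mpr hgz, MulAction.mem_stabilizer_iff.mpr hgx⟩
  have hgodd : Odd (orderOf g) := odd_orderOf_of_fix h.se hy hgx hgy
  set A : Subgroup G := Subgroup.centralizer ({g} : Set G) ⊓ HH with hA
  have hDA : D ≤ A := by
    intro d hd
    refine Subgroup.mem_inf.mpr ⟨?_, hStx ▸ (Subgroup.mem_inf.mp hd).2⟩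
    rw [Subgroup.mem_centralizer_singleton_iff]
    exact h.two_point_comm hy hd hgD
  have hD'A : D' ≤ A := by
    intro d hd
    refine Subgroup.mem_inf.mpr ⟨?_, hStx ▸ (Subgroup.mem_inf.mp hd).2⟩
    rw [Subgroup.mem_centralizer_singleton_iff]
    exact h.two_point_comm hz hd hgD'
  have hAT : ∀ a ∈ A, a ∈ T → a = 1 := by
    intro a haA haT
    by_contra ha1
    have ha2 : orderOf a = 2 := Cfsg.Agent.Lib.Lead.invol_iff.mpr ⟨ha1, h.sq_eq_one haT⟩
    have hc := h.centralizer_eq ha2 haT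
    have hga : g ∈ Subgroup.centralizer ({a} : Set G) := by
      rw [Subgroup.mem_centralizer_singleton_iff]
      exact (Subgroup.mem_centralizer_singleton_iff.mp (Subgroup.mem_inf.mp haA).1).symm
    rw [hc] at hga
    have hg2 : g ^ 2 = 1 := h.sq_eq_one hga
    have h5 : orderOf g ∣ 2 := orderOf_dvd_of_pow_eq_one hg2
    have h6 : orderOf g = 1 := Nat.eq_one_of_dvd_coprimes hgodd.coprime_two_right dvd_rfl h5
    exact hg1 (orderOf_eq_one_iff.mp h6)
  -- |A| * |T| ≤ |H|
  have hcard : Nat.card A * Nat.card T ≤ Nat.card HH := by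
    rw [← Nat.card_prod]
    apply Nat.card_le_card_of_injective
      (fun p : A × (T : Subgroup G) => (⟨p.1.1 * p.2.1, Subgroup.mul_mem _
        (Subgroup.mem_inf.mp p.1.2).2 (Subgroup.le_normalizer p.2.2)⟩ : HH))
    rintro ⟨a1, t1⟩ ⟨a2, t2⟩ he
    have he' : a1.1 * t1.1 = a2.1 * t2.1 := congrArg Subtype.val he
    have h7 : a2.1⁻¹ * a1.1 = t2.1 * t1.1⁻¹ := by
      calc a2.1⁻¹ * a1.1 = a2.1⁻¹ * (a1.1 * t1.1) * t1.1⁻¹ := by group
        _ = t2.1 * t1.1⁻¹ := by rw [he']; group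
    have h8 : a2.1⁻¹ * a1.1 = 1 := by
      apply hAT _ (Subgroup.mul_mem _ (Subgroup.inv_mem _ a2.2) a1.2)
      rw [h7]
      exact Subgroup.mul_mem _ t2.2 (Subgroup.inv_mem _ t1.2)
    have h9 : a1 = a2 := by
      apply Subtype.ext
      have := congrArg (a2.1 * ·) h8
      simpa using this
    have h10 : t1 = t2 := by
      apply Subtype.ext
      rw [h9] at he'
      exact mul_left_cancel he'
    rw [h9, h10]
  rw [h.card_normalizer, mul_comm] at hcard
  have hTpos : 0 < Nat.card T := Nat.card_pos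
  have hAle : Nat.card A ≤ Nat.card T - 1 := Nat.le_of_mul_le_mul_left hcard hTpos
  have hDA' : D = A := Subgroup.eq_of_le_of_card_ge hDA (by rw [h.card_two_point hy]; exact hAle)
  have hD'A' : D' = A := Subgroup.eq_of_le_of_card_ge hD'A (by rw [h.card_two_point hz]; exact hAle)
  have hfix : ∀ d ∈ D, d • z = z := by
    intro d hd
    rw [hDA', ← hD'A'] at hd
    exact MulAction.mem_stabilizer_iff.mp (Subgroup.mem_inf.mp hd).1
  rcases h.fix_two_base hy hfix with h1 | h1
  · exact hz h1.symm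
  · exact hyz h1.symm

theorem two_point_le_base {y : G ⧸ HH} :
    (MulAction.stabilizer G y ⊓ MulAction.stabilizer G (((1 : G) : G ⧸ HH)) : Subgroup G) ≤ HH := by
  intro d hd
  have := (Subgroup.mem_inf.mp hd).2
  rwa [MulAction.stabilizer_quotient] at this

/-- `T` and a two point stabilizer are complements in `N_G(T)` -/
theorem isComplement_base {y : G ⧸ HH} (hy : ((1 : G) : G ⧸ HH) ≠ y) :
    Subgroup.IsComplement' ((T : Subgroup G).subgroupOf HH)
      ((MulAction.stabilizer G y ⊓ MulAction.stabilizer G (((1 : G) : G ⧸ HH)) : Subgroup G).subgroupOf HH) := by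
  have hTpos : 0 < Nat.card T := Nat.card_pos
  have hc1 : Nat.card ((T : Subgroup G).subgroupOf HH) = Nat.card T :=
    Nat.card_congr (Subgroup.subgroupOfEquivOfLe (Subgroup.le_normalizer : (T : Subgroup G) ≤ HH)).toEquiv
  have hc2 : Nat.card ((MulAction.stabilizer G y ⊓ MulAction.stabilizer G (((1 : G) : G ⧸ HH)) :
      Subgroup G).subgroupOf HH) = Nat.card T - 1 := by
    rw [Nat.card_congr (Subgroup.subgroupOfEquivOfLe h.two_point_le_base).toEquiv]
    exact h.card_two_point hy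
  apply Subgroup.isComplement'_of_coprime
  · rw [hc1, hc2, h.card_normalizer]
  · rw [hc1, hc2]
    have : Nat.card T = (Nat.card T - 1) + 1 := by omega
    rw [this]
    simp

/-- `N_G(T)` is transitive on the points other than the base point -/
theorem transitive_base {y z : G ⧸ HH} (hy : ((1 : G) : G ⧸ HH) ≠ y)
    (hz : ((1 : G) : G ⧸ HH) ≠ z) : ∃ g ∈ HH, g • y = z := by
  haveI : Fact (Nat.Prime 2) := ⟨Nat.prime_two⟩
  set x : G ⧸ HH := ((1 : G) : G ⧸ HH) with hx
  set D : Subgroup G := MulAction.stabilizer G y ⊓ MulAction.stabilizer G x with hD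
  set D' : Subgroup G := MulAction.stabilizer G z ⊓ MulAction.stabilizer G x with hD'
  have hTpos : 0 < Nat.card T := Nat.card_pos
  have hc1 : Nat.card ((T : Subgroup G).subgroupOf HH) = Nat.card T :=
    Nat.card_congr (Subgroup.subgroupOfEquivOfLe (Subgroup.le_normalizer : (T : Subgroup G) ≤ HH)).toEquiv
  have hc2 : Nat.card (D.subgroupOf HH) = Nat.card T - 1 := by
    rw [Nat.card_congr (Subgroup.subgroupOfEquivOfLe h.two_point_le_base).toEquiv]
    exact h.card_two_point hy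
  have hc3 : Nat.card (D'.subgroupOf HH) = Nat.card T - 1 := by
    rw [Nat.card_congr (Subgroup.subgroupOfEquivOfLe h.two_point_le_base).toEquiv]
    exact h.card_two_point hz
  have hcop : (Nat.card T).Coprime (Nat.card T - 1) := by
    have : Nat.card T = (Nat.card T - 1) + 1 := by omega
    rw [this]
    simp
  have hp2 : IsPGroup 2 ((T : Subgroup G).subgroupOf HH) := T.2.comap_subtype
  haveI : Group.IsNilpotent ((T : Subgroup G).subgroupOf HH) := hp2.isNilpotent
  obtain ⟨g, hg⟩ := Cfsg.Agent.Lib.Helper1.sz_dominance ((T : Subgroup G).subgroupOf HH)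
    (D.subgroupOf HH) (D'.subgroupOf HH) (h.isComplement_base hy)
    (by rw [hc1, hc2]; exact hcop) (Or.inl inferInstance) (by rw [hc1, hc3]; exact hcop.symm)
  refine ⟨g.1, g.2, ?_⟩
  -- D' fixes g • y
  have hfix : ∀ d ∈ D', d • (g.1 • y) = g.1 • y := by
    intro d hd
    have hdH : d ∈ HH := h.two_point_le_base hd
    have h1 : (⟨d, hdH⟩ : HH) ∈ D'.subgroupOf HH := by
      rw [Subgroup.mem_subgroupOf]; exact hd
    have h2 := hg h1
    rw [Subgroup.mem_pointwise_smul_iff_inv_smul_mem] at h2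
    have h3 : g⁻¹ * ⟨d, hdH⟩ * g ∈ D.subgroupOf HH := by
      simpa [MulAut.smul_def] using h2
    rw [Subgroup.mem_subgroupOf] at h3
    have h4 : g.1⁻¹ * d * g.1 ∈ D := h3
    have h5 : (g.1⁻¹ * d * g.1) • y = y := MulAction.mem_stabilizer_iff.mp (Subgroup.mem_inf.mp h4).1
    calc d • (g.1 • y) = g.1 • ((g.1⁻¹ * d * g.1) • y) := by
          rw [← mul_smul, ← mul_smul]; congr 1; group
      _ = g.1 • y := by rw [h5]
  rcases h.fix_two_base hz hfix with h1 | h1
  · exfalso
    -- g fixes x, so g • y = x forces y = x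
    have hgx : g.1 • x = x := by
      have : g.1 ∈ MulAction.stabilizer G x := by rw [hx, MulAction.stabilizer_quotient]; exact g.2
      exact MulAction.mem_stabilizer_iff.mp this
    apply hy
    have := h1.trans hgx.symm
    exact (smul_left_cancel g.1 this).symm
  · exact h1

/-- every element of `N_G(T)` is a product `t * d` with `t ∈ T` and `d` in a given two point
stabilizer -/
theorem exists_mul_eq {y : G ⧸ HH} (hy : ((1 : G) : G ⧸ HH) ≠ y) {g : G} (hg : g ∈ HH) :
    ∃ t ∈ T, ∃ d ∈ (MulAction.stabilizer G y ⊓ MulAction.stabilizer G (((1 : G) : G ⧸ HH)) :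
      Subgroup G), t * d = g := by
  set D : Subgroup G := MulAction.stabilizer G y ⊓ MulAction.stabilizer G (((1 : G) : G ⧸ HH)) with hD
  let f : ↥(T : Subgroup G) × ↥D → ↥HH := fun p =>
    ⟨p.1.1 * p.2.1, Subgroup.mul_mem _ (Subgroup.le_normalizer p.1.2) (h.two_point_le_base p.2.2)⟩
  have hTD : ∀ a ∈ T, a ∈ D → a = 1 := by
    intro a haT haD
    by_contra ha1
    have ha2 : orderOf a = 2 := Cfsg.Agent.Lib.Lead.invol_iff.mpr ⟨ha1, h.sq_eq_one haT⟩
    exact hy (fix_unique h.se ha2 (MulAction.mem_stabilizer_iff.mp (Subgroup.mem_inf.mp haD).2)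
      (MulAction.mem_stabilizer_iff.mp (Subgroup.mem_inf.mp haD).1))
  have hinj : Function.Injective f := by
    rintro ⟨t1, d1⟩ ⟨t2, d2⟩ he
    have he' : t1.1 * d1.1 = t2.1 * d2.1 := congrArg Subtype.val he
    have h7 : t2.1⁻¹ * t1.1 = d2.1 * d1.1⁻¹ := by
      calc t2.1⁻¹ * t1.1 = t2.1⁻¹ * (t1.1 * d1.1) * d1.1⁻¹ := by group
        _ = d2.1 * d1.1⁻¹ := by rw [he']; group
    have h8 : t2.1⁻¹ * t1.1 = 1 := by
      apply hTD _ (Subgroup.mul_mem _ (Subgroup.inv_mem _ t2.2) t1.2)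
      rw [h7]
      exact Subgroup.mul_mem _ d2.2 (Subgroup.inv_mem _ d1.2)
    have h9 : t1 = t2 := by
      apply Subtype.ext
      have := congrArg (t2.1 * ·) h8
      simpa using this
    have h10 : d1 = d2 := by
      apply Subtype.ext
      rw [h9] at he'
      exact mul_left_cancel he'
    rw [h9, h10]
  have hbij := hinj.bijective_of_nat_card_le (by
    rw [Nat.card_prod, h.card_normalizer, h.card_two_point hy])
  obtain ⟨⟨t, d⟩, htd⟩ := hbij.2 ⟨g, hg⟩
  exact ⟨t.1, t.2, d.1, d.2, congrArg Subtype.val htd⟩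

/-- `T` is regular on the points other than the base point -/
theorem regular_T {y z : G ⧸ HH} (hy : ((1 : G) : G ⧸ HH) ≠ y) (hz : ((1 : G) : G ⧸ HH) ≠ z) :
    ∃! t : G, t ∈ T ∧ t • y = z := by
  obtain ⟨g, hg, hgy⟩ := h.transitive_base hy hz
  obtain ⟨t, ht, d, hd, rfl⟩ := h.exists_mul_eq hy hg
  have hdy : d • y = y := MulAction.mem_stabilizer_iff.mp (Subgroup.mem_inf.mp hd).1
  refine ⟨t, ⟨ht, by rw [← hgy, mul_smul, hdy]⟩, ?_⟩
  rintro t' ⟨ht', ht'y⟩
  have hty : t • y = z := by rw [← hgy, mul_smul, hdy]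
  by_contra hne
  have h1 : t⁻¹ * t' ∈ T := Subgroup.mul_mem _ (Subgroup.inv_mem _ ht) ht'
  have h2 : t⁻¹ * t' ≠ 1 := by
    intro h3
    apply hne
    have := congrArg (t * ·) h3
    simpa using this
  have h3 : orderOf (t⁻¹ * t') = 2 := Cfsg.Agent.Lib.Lead.invol_iff.mpr ⟨h2, h.sq_eq_one h1⟩
  have h4 : (t⁻¹ * t') • y = y := by
    rw [mul_smul, ht'y, ← hty, ← mul_smul, inv_mul_cancel, one_smul]
  have h5 : (t⁻¹ * t') • (((1 : G) : G ⧸ HH)) = ((1 : G) : G ⧸ HH) := by
    rw [smul_mk_eq_iff]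
    simpa using Subgroup.le_normalizer h1
  exact hy (fix_unique h.se h3 h5 h4)

/-- the number of points -/
theorem card_points : Nat.card (G ⧸ HH) = Nat.card T + 1 := by
  classical
  obtain ⟨g, hg⟩ : ∃ g : G, g ∉ HH := by
    by_contra hall
    push Not at hall
    exact h.se.1 (eq_top_iff.mpr fun g _ => hall g)
  have hy : (((1 : G) : G ⧸ HH)) ≠ ((g : G) : G ⧸ HH) := by
    intro he
    rw [QuotientGroup.eq] at he
    apply hg
    simpa using he
  let f : ↥(T : Subgroup G) → {w : G ⧸ HH // w ≠ ((1 : G) : G ⧸ HH)} := fun t =>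
    ⟨t.1 • ((g : G) : G ⧸ HH), by
      intro he
      have h5 : t.1 • (((1 : G) : G ⧸ HH)) = ((1 : G) : G ⧸ HH) := by
        rw [smul_mk_eq_iff]
        simpa using Subgroup.le_normalizer t.2
      rw [← h5] at he
      exact hy (smul_left_cancel t.1 he).symm⟩
  have hbij : Function.Bijective f := by
    constructor
    · intro t1 t2 he
      have he' : t1.1 • ((g : G) : G ⧸ HH) = t2.1 • ((g : G) : G ⧸ HH) := congrArg Subtype.val he
      have hz : (((1 : G) : G ⧸ HH)) ≠ t2.1 • ((g : G) : G ⧸ HH) := (f t2).2.symm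
      obtain ⟨t0, -, huniq⟩ := h.regular_T hy hz
      apply Subtype.ext
      rw [huniq t1.1 ⟨t1.2, he'⟩, huniq t2.1 ⟨t2.2, rfl⟩]
    · rintro ⟨w, hw⟩
      obtain ⟨t, ⟨ht, htw⟩, -⟩ := h.regular_T hy hw.symm
      exact ⟨⟨t, ht⟩, Subtype.ext htw⟩
  have h1 := Nat.card_congr (Equiv.ofBijective f hbij)
  haveI : Fintype (G ⧸ HH) := Fintype.ofFinite _
  rw [Nat.card_eq_fintype_card (α := {w : G ⧸ HH // w ≠ ((1 : G) : G ⧸ HH)}),
    Fintype.card_subtype_compl, Fintype.card_subtype_eq] at h1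
  have h2 : 0 < Fintype.card (G ⧸ HH) := Fintype.card_pos_iff.mpr ⟨((1 : G) : G ⧸ HH)⟩
  rw [Nat.card_eq_fintype_card (α := G ⧸ HH)]
  have : Nat.card (T : Subgroup G) = Nat.card T := rfl
  omega

/-- a two point stabilizer is transitive on the remaining points -/
theorem transitive_two_point {y z z' : G ⧸ HH} (hy : ((1 : G) : G ⧸ HH) ≠ y)
    (hz : ((1 : G) : G ⧸ HH) ≠ z) (hyz : y ≠ z) (hz' : ((1 : G) : G ⧸ HH) ≠ z') (hyz' : y ≠ z') :
    ∃ d ∈ (MulAction.stabilizer G y ⊓ MulAction.stabilizer G (((1 : G) : G ⧸ HH)) : Subgroup G),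
      d • z = z' := by
  classical
  set x : G ⧸ HH := ((1 : G) : G ⧸ HH) with hx
  set D : Subgroup G := MulAction.stabilizer G y ⊓ MulAction.stabilizer G x with hD
  let f : ↥D → {w : G ⧸ HH // w ≠ x ∧ w ≠ y} := fun d =>
    ⟨d.1 • z, by
      have hdx : d.1 • x = x := MulAction.mem_stabilizer_iff.mp (Subgroup.mem_inf.mp d.2).2
      have hdy : d.1 • y = y := MulAction.mem_stabilizer_iff.mp (Subgroup.mem_inf.mp d.2).1
      constructor
      · intro he
        rw [← hdx] at he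
        exact hz (smul_left_cancel d.1 he).symm
      · intro he
        rw [← hdy] at he
        exact hyz (smul_left_cancel d.1 he).symm⟩
  have hinj : Function.Injective f := by
    intro d1 d2 he
    have he' : d1.1 • z = d2.1 • z := congrArg Subtype.val he
    have h1 : (d2.1⁻¹ * d1.1) • z = z := by
      rw [mul_smul, he', ← mul_smul, inv_mul_cancel, one_smul]
    have h2 : d2.1⁻¹ * d1.1 ∈ D := D.mul_mem (D.inv_mem d2.2) d1.2
    have h3 := h.three_point_base hy hz hyz
      (MulAction.mem_stabilizer_iff.mp (Subgroup.mem_inf.mp h2).2)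
      (MulAction.mem_stabilizer_iff.mp (Subgroup.mem_inf.mp h2).1) h1
    apply Subtype.ext
    have := congrArg (d2.1 * ·) h3
    simpa using this
  have hcard : Nat.card {w : G ⧸ HH // w ≠ x ∧ w ≠ y} = Nat.card T - 1 := by
    haveI : Fintype (G ⧸ HH) := Fintype.ofFinite _
    have h1 : Nat.card {w : G ⧸ HH // w ≠ x ∧ w ≠ y} = Fintype.card (G ⧸ HH) - 2 := by
      rw [Nat.card_eq_fintype_card, Fintype.card_subtype]
      have : (Finset.univ.filter (fun w : G ⧸ HH => w ≠ x ∧ w ≠ y)) =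
          (Finset.univ.erase x).erase y := by
        ext w
        simp only [Finset.mem_filter, Finset.mem_univ, true_and, Finset.mem_erase, and_true]
        tauto
      rw [this, Finset.card_erase_of_mem, Finset.card_erase_of_mem (Finset.mem_univ x),
        Finset.card_univ]
      · omega
      · exact Finset.mem_erase.mpr ⟨hy.symm, Finset.mem_univ y⟩
    rw [h1, ← Nat.card_eq_fintype_card, h.card_points]
    omega
  have hbij := hinj.bijective_of_nat_card_le (by rw [hcard, h.card_two_point hy])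
  obtain ⟨d, hd⟩ := hbij.2 ⟨z', hz'.symm, hyz'.symm⟩
  exact ⟨d.1, d.2, congrArg Subtype.val hd⟩

end ElemHyp

end Cfsg.Agent.Lib.Lead.SE
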