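import Mathlib
import Cfsg.Agent.Lib.Helper1.CoprimeSylow

set_option autoImplicit false

namespace Cfsg.Agent.Lib.Lead.CommNormal

open scoped commutatorElement

/-- `[H,K]` is normalised by `H` and by `K`. -/
theorem conj_mem_commutator {G : Type*} [Group G] (H K : Subgroup G) {g : G}
    (hg : g ∈ H ∨ g ∈ K) {x : G} (hx : x ∈ (⁅H, K⁆ : Subgroup G)) :
    g * x * g⁻¹ ∈ (⁅H, K⁆ : Subgroup G) := by
  have : (⁅H, K⁆ : Subgroup G) ≤ (⁅H, K⁆ : Subgroup G).comap (MulAut.conj g).toMonoidHom := by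
    rw [Subgroup.commutator_le]
    intro h hh k hk
    show g * ⁅h, k⁆ * g⁻¹ ∈ (⁅H, K⁆ : Subgroup G)
    rcases hg with hg | hg
    · have e : g * ⁅h, k⁆ * g⁻¹ = ⁅g * h, k⁆ * ⁅g, k⁆⁻¹ := by
        simp only [commutatorElement_def]; group
      rw [e]
      exact Subgroup.mul_mem _ (Subgroup.commutator_mem_commutator (H.mul_mem hg hh) hk)
        (Subgroup.inv_mem _ (Subgroup.commutator_mem_commutator hg hk))
    · have e : g * ⁅h, k⁆ * g⁻¹ = ⁅h, g⁆⁻¹ * ⁅h, g * k⁆ := by
        simp only [commutatorElement_def]; group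
      rw [e]
      exact Subgroup.mul_mem _ (Subgroup.inv_mem _ (Subgroup.commutator_mem_commutator hh hg))
        (Subgroup.commutator_mem_commutator hh (K.mul_mem hg hk))
  exact this hx

theorem le_normalizer_commutator_left {G : Type*} [Group G] (H K : Subgroup G) :
    H ≤ Subgroup.normalizer ((⁅H, K⁆ : Subgroup G) : Set G) :=
  Cfsg.Agent.Lib.Helper1.le_normalizer_of_conj_mem
    (fun _ hg _ hx => conj_mem_commutator H K (Or.inl hg) hx)

theorem le_normalizer_commutator_right {G : Type*} [Group G] (H K : Subgroup G) :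
    K ≤ Subgroup.normalizer ((⁅H, K⁆ : Subgroup G) : Set G) :=
  Cfsg.Agent.Lib.Helper1.le_normalizer_of_conj_mem
    (fun _ hg _ hx => conj_mem_commutator H K (Or.inr hg) hx)

theorem sup_le_normalizer_commutator {G : Type*} [Group G] (H K : Subgroup G) :
    H ⊔ K ≤ Subgroup.normalizer ((⁅H, K⁆ : Subgroup G) : Set G) :=
  sup_le (le_normalizer_commutator_left H K) (le_normalizer_commutator_right H K)

/-- `[H,K]` is normal as soon as `H ⊔ K = ⊤`. -/
theorem commutator_normal_of_sup_eq_top {G : Type*} [Group G] (H K : Subgroup G)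
    (hHK : H ⊔ K = ⊤) : (⁅H, K⁆ : Subgroup G).Normal := by
  apply Subgroup.normalizer_eq_top_iff.mp
  rw [eq_top_iff, ← hHK]
  exact sup_le_normalizer_commutator H K

/-- If `K` is normal and `U` any subgroup with `K ⊔ U = ⊤`, then `K ⊔ [U,U]` is normal and
contains the derived subgroup. -/
theorem sup_commutator_normal {G : Type*} [Group G] (K U : Subgroup G) [hK : K.Normal]
    (hKU : K ⊔ U = ⊤) : (K ⊔ ⁅U, U⁆ : Subgroup G).Normal := by
  apply Subgroup.normalizer_eq_top_iff.mp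
  rw [eq_top_iff, ← hKU]
  apply sup_le
  · exact (le_sup_left : K ≤ K ⊔ ⁅U, U⁆).trans Subgroup.le_normalizer
  · apply Cfsg.Agent.Lib.Helper1.le_normalizer_of_conj_mem
    intro u hu x hx
    rw [Subgroup.mem_sup_of_normal_left] at hx
    obtain ⟨k, hk, c, hc, rfl⟩ := hx
    have e : u * (k * c) * u⁻¹ = (u * k * u⁻¹) * (u * c * u⁻¹) := by group
    rw [e]
    exact Subgroup.mul_mem _ ((le_sup_left : K ≤ K ⊔ ⁅U, U⁆) (hK.conj_mem k hk u))
      ((le_sup_right : ⁅U, U⁆ ≤ K ⊔ ⁅U, U⁆) (conj_mem_commutator U U (Or.inl hu) hc))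

end Cfsg.Agent.Lib.Lead.CommNormal
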