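import Mathlib

namespace Cfsg.Agent.Lib.Lead.Stability

variable {G : Type*} [Group G]

/-- If `a h a⁻¹ = h c` where `a` commutes with `c` and the orders of `a` and `c` are coprime
(`a` of finite order), then `c = 1`. -/
theorem conj_eq_of_commutator_fixed {a h : G}
    (hc : Commute a (h⁻¹ * (a * h * a⁻¹)))
    (hcop : (orderOf a).Coprime (orderOf (h⁻¹ * (a * h * a⁻¹)))) : a * h * a⁻¹ = h := by
  set c := h⁻¹ * (a * h * a⁻¹) with hcdef
  have hah : a * h * a⁻¹ = h * c := by rw [hcdef]; group
  have hac : ∀ k : ℕ, a * c ^ k * a⁻¹ = c ^ k := by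
    intro k
    have := (hc.pow_right k).eq
    rw [this]; group
  have key : ∀ k : ℕ, a ^ k * h * (a ^ k)⁻¹ = h * c ^ k := by
    intro k
    induction k with
    | zero => simp
    | succ k ih =>
      calc a ^ (k + 1) * h * (a ^ (k + 1))⁻¹ = a * (a ^ k * h * (a ^ k)⁻¹) * a⁻¹ := by
            rw [pow_succ']; group
        _ = a * (h * c ^ k) * a⁻¹ := by rw [ih]
        _ = (a * h * a⁻¹) * (a * c ^ k * a⁻¹) := by group
        _ = h * c * c ^ k := by rw [hah, hac]
        _ = h * c ^ (k + 1) := by rw [pow_succ']; group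
  have h1 := key (orderOf a)
  rw [pow_orderOf_eq_one] at h1
  have h2 : c ^ orderOf a = 1 := by
    have : h = h * c ^ orderOf a := by simpa using h1
    exact (mul_eq_left.mp this.symm)
  have h3 : orderOf c ∣ orderOf a := orderOf_dvd_of_pow_eq_one h2
  have h4 : orderOf c = 1 := Nat.eq_one_of_dvd_coprimes hcop h3 (dvd_refl _)
  rw [hah, orderOf_eq_one_iff.mp h4, mul_one]

end Cfsg.Agent.Lib.Lead.Stability
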