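import Mathlib
import Cfsg.Agent.Lib.Helper1.CoprimeAut
import Cfsg.Agent.Lib.Helper1.CoprimeSylow

set_option autoImplicit false

namespace Cfsg.Agent.Lib.Lead.FixOmega

open Cfsg.Agent.Lib.Helper1

variable {G : Type*} [Group G]

/-- For odd `p`: a `p'`-element normalising a `p`-subgroup `C` and centralising all elements of
`C` of order dividing `p` centralises `C`. -/
theorem centralizes_of_centralizes_omega [Finite G] {p : ℕ} [Fact p.Prime] (hp2 : p ≠ 2)
    (C : Subgroup G) (hC : IsPGroup p C) (l : G) (hl : l ∈ Subgroup.normalizer (C : Set G))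
    (hlo : (orderOf l).Coprime p) (h : ∀ x ∈ C, x ^ p = 1 → l * x = x * l) :
    ∀ x ∈ C, l * x = x * l := by
  have hΓ : Subgroup.zpowers l ≤ Subgroup.normalizer (C : Set G) := by
    rw [Subgroup.zpowers_le]; exact hl
  letI := conjActOfLeNormalizer (Subgroup.zpowers l) C hΓ
  let l' : Subgroup.zpowers l := ⟨l, Subgroup.mem_zpowers l⟩
  let a : MulAut C := MulDistribMulAction.toMulAut (Subgroup.zpowers l) C l'
  have ha : Nat.Coprime (orderOf a) p := by
    have h1 : orderOf a ∣ orderOf l' := orderOf_map_dvd _ l'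
    have h2 : orderOf l' = orderOf l := by
      rw [← Subgroup.orderOf_coe]
    rw [h2] at h1
    exact Nat.Coprime.coprime_dvd_left h1 hlo
  have hfix : ∀ x : C, x ^ p = 1 → a x = x := by
    intro x hx
    apply Subtype.ext
    show l * (x : G) * l⁻¹ = x
    have hx' : (x : G) ^ p = 1 := congrArg Subtype.val hx
    rw [h x x.2 hx', mul_inv_cancel_right]
  have h1 := coprime_aut_trivial_of_fix_omega hp2 hC a ha hfix
  intro x hx
  have h2 : a ⟨x, hx⟩ = ⟨x, hx⟩ := by rw [h1]; rfl
  have h3 : l * x * l⁻¹ = x := congrArg Subtype.val h2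
  calc l * x = (l * x * l⁻¹) * l := by group
    _ = x * l := by rw [h3]

end Cfsg.Agent.Lib.Lead.FixOmega
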