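import Mathlib

namespace Cfsg.Agent.Lib.Lead.FixedMod

open MulAction

/-- For a `p`-group acting on a finite set and an invariant subset `O`, the size of `O` is
congruent mod `p` to the number of fixed points in `O`. -/
theorem card_modEq_inter_fixedPoints {P α : Type*} [Group P] [MulAction P α] [Finite α] {p : ℕ}
    [Fact p.Prime] (hP : IsPGroup p P) (O : Set α) (hO : ∀ g : P, ∀ x ∈ O, g • x ∈ O) :
    Nat.card O ≡ Nat.card ↥(O ∩ fixedPoints P α) [MOD p] := by
  let O' : SubMulAction P α := ⟨O, fun g x hx => hO g _ hx⟩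
  have h1 := hP.card_modEq_card_fixedPoints O'
  have e : fixedPoints P O' ≃ ↥(O ∩ fixedPoints P α) :=
    { toFun := fun x => ⟨x.1.1, x.1.2, fun g => congrArg Subtype.val (x.2 g)⟩
      invFun := fun y => ⟨⟨y.1, y.2.1⟩, fun g => Subtype.ext (y.2.2 g)⟩
      left_inv := fun x => rfl
      right_inv := fun y => rfl }
  rw [Nat.card_congr e] at h1
  exact h1

end Cfsg.Agent.Lib.Lead.FixedMod

namespace Cfsg.Agent.Lib.Lead.FixedMod

open MulAction

/-- The number of fixed points of an element of `p`-power order is congruent to the degree. -/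
theorem card_modEq_card_fixedBy {G Ω : Type*} [Group G] [MulAction G Ω] [Finite Ω] {p : ℕ}
    [Fact p.Prime] (s : G) (n : ℕ) (hs : s ^ p ^ n = 1) :
    Nat.card Ω ≡ Nat.card (fixedBy Ω s) [MOD p] := by
  have hP : IsPGroup p (Subgroup.zpowers s) := by
    rintro ⟨g, hg⟩
    obtain ⟨k, rfl⟩ := Subgroup.mem_zpowers_iff.mp hg
    refine ⟨n, ?_⟩
    apply Subtype.ext
    simp only [Subgroup.coe_pow, Subgroup.coe_one]
    rw [← zpow_natCast, ← zpow_mul, mul_comm, zpow_mul, zpow_natCast, hs, one_zpow]
  have h1 := hP.card_modEq_card_fixedPoints Ω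
  have hset : fixedPoints (Subgroup.zpowers s) Ω = fixedBy Ω s := by
    ext x
    constructor
    · intro hx
      exact hx ⟨s, Subgroup.mem_zpowers s⟩
    · intro hx g
      have hle : Subgroup.zpowers s ≤ stabilizer G x := Subgroup.zpowers_le.mpr hx
      exact hle g.2
  rw [hset] at h1
  exact h1

end Cfsg.Agent.Lib.Lead.FixedMod
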