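import Mathlib
import Cfsg.Agent.Lib.Lead.FixedMod
import Cfsg.Agent.Lib.Helper1.CoprimeSylow

set_option autoImplicit false

namespace Cfsg.Agent.Lib.Lead.KleinInvariantSylow

open Cfsg.Agent.Lib.Helper1 MulAction
open Pointwise

variable {Γ : Type*} [Group Γ]

/-- Two elements `s`, `t` normalising a finite subgroup `L` of odd order, whose squares and
commutator centralise `L`, normalise a common Sylow `p`-subgroup of `L`. -/
theorem exists_invariant_sylow (L : Subgroup Γ) [Finite L] (hodd : Odd (Nat.card L)) (p : ℕ)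
    [Fact p.Prime] (s t : Γ) (hs : s ∈ Subgroup.normalizer (L : Set Γ))
    (ht : t ∈ Subgroup.normalizer (L : Set Γ))
    (hs2 : ∀ g ∈ L, s * (s * g * s⁻¹) * s⁻¹ = g) (ht2 : ∀ g ∈ L, t * (t * g * t⁻¹) * t⁻¹ = g)
    (hst : ∀ g ∈ L, s * (t * g * t⁻¹) * s⁻¹ = t * (s * g * s⁻¹) * t⁻¹) :
    ∃ P : Subgroup Γ, P ≤ L ∧ Nat.card P = p ^ (Nat.card L).factorization p ∧
      s ∈ Subgroup.normalizer (P : Set Γ) ∧ t ∈ Subgroup.normalizer (P : Set Γ) := by
  classical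
  set N := Subgroup.normalizer (L : Set Γ) with hN
  letI := conjActOfLeNormalizer N L le_rfl
  let σ : N →* MulAut L := MulDistribMulAction.toMulAut N L
  set σs : MulAut L := σ ⟨s, hs⟩ with hσs
  set σt : MulAut L := σ ⟨t, ht⟩ with hσt
  have hσs_apply : ∀ g : L, ((σs g : L) : Γ) = s * g * s⁻¹ := fun g => rfl
  have hσt_apply : ∀ g : L, ((σt g : L) : Γ) = t * g * t⁻¹ := fun g => rfl
  have hσs2 : σs ^ 2 ^ 1 = 1 := by
    rw [pow_one, pow_two]
    ext g
    rw [MulAut.mul_apply, MulAut.one_apply, hσs_apply, hσs_apply]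
    exact hs2 g g.2
  have hσt2 : σt ^ 2 ^ 1 = 1 := by
    rw [pow_one, pow_two]
    ext g
    rw [MulAut.mul_apply, MulAut.one_apply, hσt_apply, hσt_apply]
    exact ht2 g g.2
  have hcomm : σs * σt = σt * σs := by
    ext g
    rw [MulAut.mul_apply, MulAut.mul_apply, hσs_apply, hσt_apply, hσt_apply, hσs_apply]
    exact hst g g.2
  haveI : Fact (Nat.Prime 2) := ⟨Nat.prime_two⟩
  have hΩodd : Odd (Nat.card (Sylow p L)) := by
    obtain ⟨P₀⟩ : Nonempty (Sylow p L) := inferInstance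
    have h1 : Nat.card (Sylow p L) ∣ Nat.card L :=
      (Sylow.card_dvd_index P₀).trans (Subgroup.index_dvd_card _)
    exact Odd.of_dvd_nat hodd h1
  have h1 := FixedMod.card_modEq_card_fixedBy (Ω := Sylow p L) σs 1 hσs2
  set O : Set (Sylow p L) := fixedBy (Sylow p L) σs with hO
  have hOodd : Odd (Nat.card O) := by
    rw [Nat.odd_iff] at hΩodd ⊢
    have := h1
    unfold Nat.ModEq at this
    omega
  have hP2 : IsPGroup 2 (Subgroup.zpowers σt) := by
    rintro ⟨g, hg⟩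
    obtain ⟨k, rfl⟩ := Subgroup.mem_zpowers_iff.mp hg
    refine ⟨1, ?_⟩
    apply Subtype.ext
    simp only [Subgroup.coe_pow, Subgroup.coe_one]
    rw [← zpow_natCast, ← zpow_mul, mul_comm, zpow_mul, zpow_natCast, hσt2, one_zpow]
  have hOinv : ∀ g : Subgroup.zpowers σt, ∀ x ∈ O, g • x ∈ O := by
    rintro ⟨g, hg⟩ x hx
    obtain ⟨k, rfl⟩ := Subgroup.mem_zpowers_iff.mp hg
    rw [hO, mem_fixedBy] at hx ⊢
    show σs • (σt ^ k • x) = σt ^ k • x
    have hc : Commute σs (σt ^ k) := (Commute.zpow_right hcomm k)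
    rw [← mul_smul, hc.eq, mul_smul, hx]
  have h2 := FixedMod.card_modEq_inter_fixedPoints hP2 O hOinv
  have hne : Nat.card ↥(O ∩ fixedPoints (Subgroup.zpowers σt) (Sylow p L)) ≠ 0 := by
    rw [Nat.odd_iff] at hOodd
    unfold Nat.ModEq at h2
    omega
  obtain ⟨⟨P, hPs, hPt⟩⟩ := (Nat.card_ne_zero.mp hne).1
  have hPs' : σs • P = P := hPs
  have hPt' : σt • P = P := hPt ⟨σt, Subgroup.mem_zpowers σt⟩
  have key : ∀ (r : Γ) (_ : r ∈ N) (σr : MulAut L)
      (_ : ∀ g : L, ((σr g : L) : Γ) = r * g * r⁻¹)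
      (_ : ∀ g ∈ L, r * (r * g * r⁻¹) * r⁻¹ = g) (_ : σr • P = P),
      r ∈ Subgroup.normalizer (((P : Subgroup L).map L.subtype : Subgroup Γ) : Set Γ) := by
    intro r hr σr happ h2 hP
    have hfwd : ∀ g ∈ (P : Subgroup L).map L.subtype,
        r * g * r⁻¹ ∈ (P : Subgroup L).map L.subtype := by
      rintro _ ⟨g₀, hg₀, rfl⟩
      have h1 : σr • g₀ ∈ σr • (P : Subgroup L) := Subgroup.smul_mem_pointwise_smul _ _ _ hg₀
      rw [← Sylow.pointwise_smul_def, hP] at h1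
      exact ⟨σr • g₀, h1, happ g₀⟩
    rw [Subgroup.mem_normalizer_iff]
    intro g
    refine ⟨hfwd g, fun hg => ?_⟩
    have hgL : g ∈ L := by
      have h3 : r * g * r⁻¹ ∈ L := Subgroup.map_subtype_le _ hg
      exact (Subgroup.mem_normalizer_iff.mp hr g).mpr h3
    have := hfwd _ hg
    rwa [h2 g hgL] at this
  refine ⟨(P : Subgroup L).map L.subtype, Subgroup.map_subtype_le _, ?_, ?_, ?_⟩
  · rw [Subgroup.card_map_of_injective L.subtype_injective]
    exact P.card_eq_multiplicity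
  · exact key s hs σs hσs_apply hs2 hPs'
  · exact key t ht σt hσt_apply ht2 hPt'


/-- A fixed-point-free "involutory" conjugation on a finite subgroup inverts every element. -/
theorem inverts_of_fpf (P : Subgroup Γ) [Finite P] (r : Γ)
    (hr : r ∈ Subgroup.normalizer (P : Set Γ))
    (h2 : ∀ g ∈ P, r * (r * g * r⁻¹) * r⁻¹ = g)
    (hfpf : ∀ g ∈ P, r * g * r⁻¹ = g → g = 1) : ∀ g ∈ P, r * g * r⁻¹ = g⁻¹ := by
  have hmem : ∀ g ∈ P, r * g * r⁻¹ ∈ P := fun g hg => (Subgroup.mem_normalizer_iff.mp hr g).mp hg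
  let φ : P → P := fun g => ⟨(g : Γ)⁻¹ * (r * g * r⁻¹), P.mul_mem (P.inv_mem g.2) (hmem g g.2)⟩
  have hinj : Function.Injective φ := by
    intro g h hgh
    have h1 : (g : Γ)⁻¹ * (r * g * r⁻¹) = (h : Γ)⁻¹ * (r * h * r⁻¹) := congrArg Subtype.val hgh
    have h3 : r * ((h : Γ) * (g : Γ)⁻¹) * r⁻¹ = (h : Γ) * (g : Γ)⁻¹ := by
      have e1 : r * ((h : Γ) * (g : Γ)⁻¹) * r⁻¹ = (r * h * r⁻¹) * (r * g * r⁻¹)⁻¹ := by group
      have e2 : (r * (g : Γ) * r⁻¹) = (g : Γ) * ((h : Γ)⁻¹ * (r * h * r⁻¹)) := by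
        rw [← h1]; group
      rw [e1, e2]; group
    have h4 := hfpf _ (P.mul_mem h.2 (P.inv_mem g.2)) h3
    apply Subtype.ext
    exact (mul_inv_eq_one.mp h4).symm
  have hsurj : Function.Surjective φ := Finite.injective_iff_surjective.mp hinj
  intro g hg
  obtain ⟨h, hh⟩ := hsurj ⟨g, hg⟩
  have hg' : g = (h : Γ)⁻¹ * (r * h * r⁻¹) := (congrArg Subtype.val hh).symm
  have e : r * g * r⁻¹ = (r * h * r⁻¹)⁻¹ * (r * (r * h * r⁻¹) * r⁻¹) := by
    rw [hg']; group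
  rw [e, h2 h h.2, hg']
  group

/-- Two commuting "involutory" conjugations on a nontrivial finite subgroup: one of `s`, `t`,
`s t` centralises a nonidentity element. -/
theorem exists_ne_one_commute (P : Subgroup Γ) [Finite P] (hP : P ≠ ⊥) (s t : Γ)
    (hs : s ∈ Subgroup.normalizer (P : Set Γ)) (ht : t ∈ Subgroup.normalizer (P : Set Γ))
    (hs2 : ∀ g ∈ P, s * (s * g * s⁻¹) * s⁻¹ = g) (ht2 : ∀ g ∈ P, t * (t * g * t⁻¹) * t⁻¹ = g) :
    ∃ g ∈ P, g ≠ 1 ∧ (s * g * s⁻¹ = g ∨ t * g * t⁻¹ = g ∨ (s * t) * g * (s * t)⁻¹ = g) := by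
  by_contra hcon
  push Not at hcon
  have hs' := inverts_of_fpf P s hs hs2 (fun g hg h => by
    by_contra hne
    exact (hcon g hg hne).1 h)
  have ht' := inverts_of_fpf P t ht ht2 (fun g hg h => by
    by_contra hne
    exact (hcon g hg hne).2.1 h)
  obtain ⟨⟨g, hg⟩, hne⟩ := (Subgroup.ne_bot_iff_exists_ne_one).mp hP
  have hne' : g ≠ 1 := fun h => hne (Subtype.ext h)
  apply (hcon g hg hne').2.2
  have hgt : t * g * t⁻¹ ∈ P := (Subgroup.mem_normalizer_iff.mp ht g).mp hg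
  have e : s * t * g * (s * t)⁻¹ = s * (t * g * t⁻¹) * s⁻¹ := by group
  rw [e, ht' g hg, hs' _ (P.inv_mem hg), inv_inv]

end Cfsg.Agent.Lib.Lead.KleinInvariantSylow
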