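import Mathlib

namespace Cfsg.Agent.Lib.Lead.ConjOrbit

variable {G : Type*} [Group G]

/-- Orbit-stabilizer for a subgroup `N` acting on `G` by conjugation:
`|N| = |C_N(g)| * |{n g n⁻¹ : n ∈ N}|`. -/
theorem card_eq_card_centralizer_inf_mul_ncard_conj (N : Subgroup G) (g : G) :
    Nat.card N = Nat.card ((Subgroup.centralizer {g} ⊓ N : Subgroup G)) *
      Set.ncard {h : G | ∃ n ∈ N, n * g * n⁻¹ = h} := by
  let φ : N →* MulAut G := MulAut.conj.comp N.subtype
  letI : MulAction N G := MulAction.compHom G φ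
  have hsmul : ∀ (n : N) (x : G), n • x = (n : G) * x * (n : G)⁻¹ := fun n x => rfl
  have h1 := Subgroup.card_mul_index (MulAction.stabilizer N g)
  rw [MulAction.index_stabilizer] at h1
  rw [← h1]
  congr 1
  · -- stabilizer ≃ centralizer ⊓ N
    apply Nat.card_congr
    refine ⟨fun x => ⟨x.1.1, ?_⟩, fun y => ⟨⟨y.1, (Subgroup.mem_inf.mp y.2).2⟩, ?_⟩, ?_, ?_⟩
    · have hx := x.2
      rw [MulAction.mem_stabilizer_iff, hsmul] at hx
      refine Subgroup.mem_inf.mpr ⟨?_, x.1.2⟩
      rw [Subgroup.mem_centralizer_iff]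
      intro y hy
      rw [Set.mem_singleton_iff] at hy
      subst hy
      calc y * x.1.1 = (x.1.1 * y * (x.1.1)⁻¹) * x.1.1 := by rw [hx]
        _ = x.1.1 * y := by group
    · rw [MulAction.mem_stabilizer_iff, hsmul]
      have hy := (Subgroup.mem_inf.mp y.2).1
      rw [Subgroup.mem_centralizer_iff] at hy
      have := hy g (Set.mem_singleton g)
      change y.1 * g * y.1⁻¹ = g
      rw [← this]; group
    · intro x; rfl
    · intro y; rfl
  · congr 1
    ext h
    constructor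
    · rintro ⟨n, rfl⟩
      exact ⟨n.1, n.2, (hsmul n g).symm⟩
    · rintro ⟨n, hn, rfl⟩
      exact ⟨⟨n, hn⟩, hsmul _ _⟩

end Cfsg.Agent.Lib.Lead.ConjOrbit
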