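import Mathlib
import Cfsg.Prelude.Def_Local
import Cfsg.Agent.Lib.Helper1.PLengthOne
import Cfsg.Agent.Lib.Helper1.PCore
import Cfsg.Agent.Lib.Helper1.Hall
import Cfsg.Agent.Lib.Helper3.SZRel

set_option autoImplicit false

namespace Cfsg.Agent.Lib.Lead.PLength

open Cfsg Cfsg.Agent.Lib.Helper1

variable {G : Type*} [Group G]

theorem upperPSeries_succ_even (p n : ℕ) (h : Even n) :
    (upperPSeries p G (n + 1)).1 =
      (pPrimeCore p (G ⧸ (upperPSeries p G n).1)).comap
        (QuotientGroup.mk' (upperPSeries p G n).1) := by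
  rw [upperPSeries]
  simp only [h, if_true]

theorem upperPSeries_succ_odd (p n : ℕ) (h : ¬ Even n) :
    (upperPSeries p G (n + 1)).1 =
      (pCore p (G ⧸ (upperPSeries p G n).1)).comap
        (QuotientGroup.mk' (upperPSeries p G n).1) := by
  rw [upperPSeries]
  simp only [h, if_false]

theorem upperPSeries_mono (p n : ℕ) : (upperPSeries p G n).1 ≤ (upperPSeries p G (n + 1)).1 := by
  by_cases h : Even n
  · rw [upperPSeries_succ_even p n h]
    intro x hx
    rw [Subgroup.mem_comap]
    have : QuotientGroup.mk' (upperPSeries p G n).1 x = 1 := (QuotientGroup.eq_one_iff x).mpr hx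
    rw [this]; exact Subgroup.one_mem _
  · rw [upperPSeries_succ_odd p n h]
    intro x hx
    rw [Subgroup.mem_comap]
    have : QuotientGroup.mk' (upperPSeries p G n).1 x = 1 := (QuotientGroup.eq_one_iff x).mpr hx
    rw [this]; exact Subgroup.one_mem _

/-- The structure of a finite group of `p`-length at most one: normal subgroups `K ≤ N` with
`K` a `p'`-group, `N/K` a `p`-group and `G/N` a `p'`-group. -/
theorem exists_of_pLengthLE_one [Finite G] (p : ℕ) [Fact p.Prime] (h : PLengthLE p 1 G) :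
    ∃ K N : Subgroup G, K.Normal ∧ N.Normal ∧ K ≤ N ∧ (Nat.card K).Coprime p ∧
      (∃ a : ℕ, Nat.card N = Nat.card K * p ^ a) ∧ N.index.Coprime p := by
  refine ⟨(upperPSeries p G 1).1, (upperPSeries p G 2).1, inferInstance, inferInstance,
    upperPSeries_mono p 1, ?_, ?_, ?_⟩
  · rw [upperPSeries_succ_even p 0 (by decide), card_comap_mk']
    have h0 : (upperPSeries p G 0).1 = ⊥ := rfl
    have : Nat.card (upperPSeries p G 0).1 = 1 := by rw [h0]; exact Subgroup.card_bot
    rw [this, one_mul]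
    exact pPrimeCore_card_coprime p
  · rw [upperPSeries_succ_odd p 1 (by decide), card_comap_mk']
    obtain ⟨a, ha⟩ := IsPGroup.iff_card.mp (pCore_isPGroup (G := G ⧸ (upperPSeries p G 1).1) p)
    exact ⟨a, by rw [ha]⟩
  · have h3 : (upperPSeries p G 3).1 = ⊤ := h
    rw [upperPSeries_succ_even p 2 (by decide)] at h3
    have htop : pPrimeCore p (G ⧸ (upperPSeries p G 2).1) = ⊤ := by
      rw [eq_top_iff]
      intro y _
      obtain ⟨x, rfl⟩ := QuotientGroup.mk'_surjective (upperPSeries p G 2).1 y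
      have : x ∈ (⊤ : Subgroup G) := trivial
      rw [← h3] at this
      exact this
    have hc := pPrimeCore_card_coprime (G := G ⧸ (upperPSeries p G 2).1) p
    rw [htop, Subgroup.card_top] at hc
    rw [Subgroup.index_eq_card]
    exact hc


/-- A `p`-subgroup lies in every normal subgroup of index prime to `p`. -/
theorem le_of_isPGroup_of_index_coprime [Finite G] {p : ℕ} [Fact p.Prime] {N Q : Subgroup G}
    [N.Normal] (hN : N.index.Coprime p) (hQ : IsPGroup p Q) : Q ≤ N := by
  intro q hq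
  obtain ⟨k, hk⟩ := hQ ⟨q, hq⟩
  have hk' : q ^ p ^ k = 1 := congrArg Subtype.val hk
  have h1 : orderOf ((q : G) : G ⧸ N) ∣ p ^ k := by
    apply orderOf_dvd_of_pow_eq_one
    rw [← QuotientGroup.mk_pow, hk']; rfl
  have h2 : orderOf ((q : G) : G ⧸ N) ∣ N.index := by
    rw [Subgroup.index_eq_card]; exact orderOf_dvd_natCard _
  have h3 : orderOf ((q : G) : G ⧸ N) = 1 :=
    Nat.eq_one_of_dvd_coprimes (Nat.Coprime.pow_right k hN) h2 h1
  exact (QuotientGroup.eq_one_iff q).mp (orderOf_eq_one_iff.mp h3)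

/-- In the situation of `exists_of_pLengthLE_one`, `N = K S` for every Sylow `p`-subgroup `S`. -/
theorem eq_sup_sylow [Finite G] {p : ℕ} [Fact p.Prime] {K N : Subgroup G} [K.Normal] [N.Normal]
    (hKN : K ≤ N) (hK : (Nat.card K).Coprime p) (hN : ∃ a : ℕ, Nat.card N = Nat.card K * p ^ a)
    (hi : N.index.Coprime p) (S : Sylow p G) : N = K ⊔ (S : Subgroup G) := by
  have hSN : (S : Subgroup G) ≤ N := le_of_isPGroup_of_index_coprime hi S.2
  obtain ⟨a, ha⟩ := hN
  have hinf : (S : Subgroup G) ⊓ K = ⊥ := by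
    apply (Subgroup.disjoint_of_coprime_natCard _).eq_bot
    rw [S.card_eq_multiplicity]
    exact (Nat.Coprime.pow_right _ hK).symm
  have hcard : Nat.card ((S : Subgroup G) ⊔ K : Subgroup G) = Nat.card S * Nat.card K :=
    Cfsg.Agent.Lib.Helper3.card_sup_of_inf_eq_bot _ _ hinf
  symm
  rw [sup_comm]
  apply Subgroup.eq_of_le_of_card_ge (sup_le hSN hKN)
  rw [hcard, ha, mul_comm]
  apply Nat.mul_le_mul_right
  rw [S.card_eq_multiplicity]
  apply Nat.le_of_dvd (pow_pos (Fact.out : p.Prime).pos _)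
  have h1 : p ^ a ∣ Nat.card G := by
    have : Nat.card N ∣ Nat.card G := Subgroup.card_subgroup_dvd_card N
    exact (Dvd.intro_left _ ha.symm).trans this
  exact (Nat.Prime.pow_dvd_iff_le_factorization Fact.out Nat.card_pos.ne').mp h1 |>
    fun h => pow_dvd_pow p h

/-- Frattini: `G = K N_G(S)`. -/
theorem sup_normalizer_eq_top [Finite G] {p : ℕ} [Fact p.Prime] {K N : Subgroup G} [K.Normal]
    [N.Normal] (S : Sylow p G) (hN : N = K ⊔ (S : Subgroup G)) :
    K ⊔ Subgroup.normalizer ((S : Subgroup G) : Set G) = ⊤ := by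
  have hSN : (S : Subgroup G) ≤ N := by rw [hN]; exact le_sup_right
  have h := Sylow.normalizer_sup_eq_top (S.subtype hSN)
  rw [Sylow.coe_subtype, Subgroup.subgroupOf_map_subtype, inf_of_le_left hSN] at h
  rw [eq_top_iff, ← h, hN]
  apply sup_le
  · exact le_sup_right
  · exact sup_le le_sup_left (Subgroup.le_normalizer.trans le_sup_right)

/-- Summary of the structure of a group of `p`-length one relative to a Sylow `p`-subgroup. -/
theorem pLengthLE_one_sylow [Finite G] (p : ℕ) [Fact p.Prime] (h : PLengthLE p 1 G)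
    (S : Sylow p G) :
    ∃ K : Subgroup G, K.Normal ∧ (Nat.card K).Coprime p ∧ (K ⊔ (S : Subgroup G)).Normal ∧
      (K ⊔ (S : Subgroup G)).index.Coprime p ∧
      K ⊔ Subgroup.normalizer ((S : Subgroup G) : Set G) = ⊤ ∧
      K ⊓ (S : Subgroup G) = ⊥ ∧ K ≤ pPrimeCore p G := by
  obtain ⟨K, N, hKn, hNn, hKN, hK, hN, hi⟩ := exists_of_pLengthLE_one p h
  haveI := hKn
  haveI := hNn
  have hNeq := eq_sup_sylow hKN hK hN hi S
  refine ⟨K, hKn, hK, hNeq ▸ hNn, hNeq ▸ hi, sup_normalizer_eq_top S hNeq, ?_, le_sSup ⟨hKn, hK⟩⟩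
  apply (Subgroup.disjoint_of_coprime_natCard _).eq_bot
  rw [S.card_eq_multiplicity]
  exact Nat.Coprime.pow_right _ hK

/-- The first term of the upper `p`-series is `O_{p'}(G)`. -/
theorem upperPSeries_one_eq [Finite G] (p : ℕ) :
    (upperPSeries p G 1).1 = pPrimeCore p G := by
  apply le_antisymm
  · apply le_sSup
    refine ⟨inferInstance, ?_⟩
    rw [upperPSeries_succ_even p 0 (by decide), card_comap_mk']
    have h0 : (upperPSeries p G 0).1 = ⊥ := rfl
    have : Nat.card (upperPSeries p G 0).1 = 1 := by rw [h0]; exact Subgroup.card_bot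
    rw [this, one_mul]
    exact pPrimeCore_card_coprime p
  · rw [upperPSeries_succ_even p 0 (by decide), ← Subgroup.map_le_iff_le_comap]
    apply le_sSup
    refine ⟨Subgroup.Normal.map inferInstance _ (QuotientGroup.mk'_surjective _), ?_⟩
    exact Nat.Coprime.coprime_dvd_left (Subgroup.card_map_dvd _ _) (pPrimeCore_card_coprime p)

/-- Structure of a group of `p`-length one, with `K = O_{p'}(G)` made explicit. -/
theorem pLengthLE_one_core [Finite G] (p : ℕ) [Fact p.Prime] (h : PLengthLE p 1 G)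
    (S : Sylow p G) :
    (pPrimeCore p G ⊔ (S : Subgroup G)).Normal ∧
      (pPrimeCore p G ⊔ (S : Subgroup G)).index.Coprime p ∧
      pPrimeCore p G ⊔ Subgroup.normalizer ((S : Subgroup G) : Set G) = ⊤ ∧
      pPrimeCore p G ⊓ (S : Subgroup G) = ⊥ := by
  have hK : (Nat.card (pPrimeCore p G)).Coprime p := pPrimeCore_card_coprime p
  have hN : ∃ a : ℕ, Nat.card (upperPSeries p G 2).1 = Nat.card (pPrimeCore p G) * p ^ a := by
    rw [← upperPSeries_one_eq]
    rw [upperPSeries_succ_odd p 1 (by decide), card_comap_mk']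
    obtain ⟨a, ha⟩ := IsPGroup.iff_card.mp (pCore_isPGroup (G := G ⧸ (upperPSeries p G 1).1) p)
    exact ⟨a, by rw [ha]⟩
  have hKN : pPrimeCore p G ≤ (upperPSeries p G 2).1 := by
    rw [← upperPSeries_one_eq]; exact upperPSeries_mono p 1
  have hi : (upperPSeries p G 2).1.index.Coprime p := by
    have h3 : (upperPSeries p G 3).1 = ⊤ := h
    rw [upperPSeries_succ_even p 2 (by decide)] at h3
    have htop : pPrimeCore p (G ⧸ (upperPSeries p G 2).1) = ⊤ := by
      rw [eq_top_iff]
      intro y _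
      obtain ⟨x, rfl⟩ := QuotientGroup.mk'_surjective (upperPSeries p G 2).1 y
      have : x ∈ (⊤ : Subgroup G) := trivial
      rw [← h3] at this
      exact this
    have hc := pPrimeCore_card_coprime (G := G ⧸ (upperPSeries p G 2).1) p
    rw [htop, Subgroup.card_top] at hc
    rw [Subgroup.index_eq_card]
    exact hc
  have hNeq := eq_sup_sylow hKN hK hN hi S
  refine ⟨hNeq ▸ inferInstance, hNeq ▸ hi, sup_normalizer_eq_top S hNeq, ?_⟩
  apply (Subgroup.disjoint_of_coprime_natCard _).eq_bot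
  rw [S.card_eq_multiplicity]
  exact Nat.Coprime.pow_right _ hK

end Cfsg.Agent.Lib.Lead.PLength
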