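import Mathlib

set_option autoImplicit false

namespace Cfsg.Agent.Lib.Lead.NilpotentCoprime

/-- In a finite nilpotent group, elements of coprime orders commute. -/
theorem commute_of_coprime (N : Type*) [Group N] [Group.IsNilpotent N] :
    Finite N → ∀ a b : N, (orderOf a).Coprime (orderOf b) → a * b = b * a := by
  refine Group.nilpotent_center_quotient_ind
    (P := fun N _ _ => Finite N → ∀ a b : N, (orderOf a).Coprime (orderOf b) → a * b = b * a) N ?_ ?_
  · intro N _ _ _ a b _; exact Subsingleton.elim _ _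
  · intro N _ _ ih hfin a b hab
    haveI := hfin
    set Z := Subgroup.center N with hZ
    let π := QuotientGroup.mk' Z
    have hcop : (orderOf (π a)).Coprime (orderOf (π b)) :=
      Nat.Coprime.of_dvd (orderOf_map_dvd π a) (orderOf_map_dvd π b) hab
    have hcomm := ih inferInstance (π a) (π b) hcop
    set z := a * b * a⁻¹ * b⁻¹ with hz
    have hzZ : z ∈ Z := by
      rw [← QuotientGroup.eq_one_iff]
      have : ((z : N) : N ⧸ Z) = π a * π b * (π a)⁻¹ * (π b)⁻¹ := by simp [hz, π]
      rw [this, hcomm]; group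
    have hzc : ∀ g : N, g * z = z * g := fun g => Subgroup.mem_center_iff.mp hzZ g
    -- a b a⁻¹ = z b
    have h1 : a * b * a⁻¹ = z * b := by rw [hz]; group
    have h2 : (z * b) ^ orderOf b = 1 := by
      rw [← h1, conj_pow, pow_orderOf_eq_one]; group
    have hzb : Commute z b := (hzc b).symm
    have h3 : z ^ orderOf b = 1 := by
      rw [hzb.mul_pow, pow_orderOf_eq_one, mul_one] at h2
      exact h2
    -- b a b⁻¹ = z⁻¹ a
    have h4 : b * a * b⁻¹ = z⁻¹ * a := by rw [hz]; group
    have hza : Commute z⁻¹ a := by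
      have := hzc a
      show z⁻¹ * a = a * z⁻¹
      calc z⁻¹ * a = z⁻¹ * (a * z) * z⁻¹ := by group
        _ = z⁻¹ * (z * a) * z⁻¹ := by rw [this]
        _ = a * z⁻¹ := by group
    have h5 : (z⁻¹ * a) ^ orderOf a = 1 := by
      rw [← h4, conj_pow, pow_orderOf_eq_one]; group
    have h6 : z ^ orderOf a = 1 := by
      rw [hza.mul_pow, pow_orderOf_eq_one, mul_one, inv_pow, inv_eq_one] at h5
      exact h5
    have h7 : orderOf z ∣ 1 := by
      have d1 := orderOf_dvd_of_pow_eq_one h6
      have d2 := orderOf_dvd_of_pow_eq_one h3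
      have := Nat.dvd_gcd d1 d2
      rwa [Nat.Coprime.gcd_eq_one hab] at this
    have hz1 : z = 1 := orderOf_eq_one_iff.mp (Nat.dvd_one.mp h7)
    have : a * b = z * (b * a) := by rw [hz]; group
    rw [this, hz1, one_mul]

/-- Version for a nilpotent subgroup. -/
theorem commute_of_coprime_of_mem {G : Type*} [Group G] [Finite G] (M : Subgroup G)
    (hM : Group.IsNilpotent M) {a b : G} (ha : a ∈ M) (hb : b ∈ M)
    (hab : (orderOf a).Coprime (orderOf b)) : a * b = b * a := by
  haveI := hM
  have h := commute_of_coprime M inferInstance ⟨a, ha⟩ ⟨b, hb⟩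
    (by rw [Subgroup.orderOf_mk, Subgroup.orderOf_mk]; exact hab)
  exact congrArg Subtype.val h

end Cfsg.Agent.Lib.Lead.NilpotentCoprime
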