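import Mathlib
import Cfsg.Prelude.Def_OddOrderLocal
import Cfsg.Agent.Lib.Helper1.Fitting

namespace Cfsg.Agent.Lib.Lead.FittingHall

open Subgroup

/-- A subgroup of a nilpotent subgroup is nilpotent. -/
theorem isNilpotent_of_le {G : Type*} [Group G] {N K : Subgroup G} (h : N ≤ K)
    (hK : Group.IsNilpotent K) : Group.IsNilpotent N := by
  haveI := hK
  refine Subgroup.isNilpotent_of_ker_le_center (Subgroup.inclusion h) ?_
  rw [(MonoidHom.ker_eq_bot_iff _).mpr (Subgroup.inclusion_injective h)]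
  exact bot_le

/-- The Hall condition is closed under joins of normal subgroups. -/
theorem coprime_sup {M : Type*} [Group M] [Finite M] (N₁ N₂ : Subgroup M) [N₁.Normal] [N₂.Normal]
    (h₁ : (Nat.card N₁).Coprime N₁.index) (h₂ : (Nat.card N₂).Coprime N₂.index) :
    (Nat.card ↥(N₁ ⊔ N₂)).Coprime (N₁ ⊔ N₂).index := by
  rw [Nat.coprime_iff_gcd_eq_one]
  by_contra hne
  obtain ⟨p, hp, hpd⟩ := Nat.exists_prime_and_dvd hne
  have hp1 : p ∣ Nat.card ↥(N₁ ⊔ N₂) := hpd.trans (Nat.gcd_dvd_left _ _)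
  have hp2 : p ∣ (N₁ ⊔ N₂).index := hpd.trans (Nat.gcd_dvd_right _ _)
  have hi1 : p ∣ N₁.index := hp2.trans (Subgroup.index_dvd_of_le le_sup_left)
  have hi2 : p ∣ N₂.index := hp2.trans (Subgroup.index_dvd_of_le le_sup_right)
  have hcard : Nat.card ↥(N₁ ⊔ N₂) ∣ Nat.card N₁ * Nat.card N₂ := by
    have e1 : Nat.card N₂ * N₂.relIndex (N₁ ⊔ N₂) = Nat.card ↥(N₁ ⊔ N₂) := by
      rw [← Subgroup.relIndex_bot_left, ← Subgroup.relIndex_bot_left]
      exact Subgroup.relIndex_mul_relIndex _ _ _ bot_le le_sup_right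
    rw [← e1, Subgroup.relIndex_sup_right, mul_comm]
    exact Nat.mul_dvd_mul_right (Subgroup.relIndex_dvd_card _ _) _
  rcases (hp.dvd_mul).mp (hp1.trans hcard) with h | h
  · exact hp.one_lt.ne' (Nat.eq_one_of_dvd_coprimes h₁ h hi1)
  · exact hp.one_lt.ne' (Nat.eq_one_of_dvd_coprimes h₂ h hi2)

theorem fittingHall_le_fittingSubgroup (M : Type*) [Group M] :
    Cfsg.fittingHall M ≤ Cfsg.fittingSubgroup M := by
  apply sSup_le
  rintro N ⟨hN, hnil, -⟩
  exact le_sSup ⟨hN, hnil⟩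

theorem fittingHall_isNilpotent (M : Type*) [Group M] [Finite M] :
    Group.IsNilpotent (Cfsg.fittingHall M) :=
  isNilpotent_of_le (fittingHall_le_fittingSubgroup M)
    Cfsg.Agent.Lib.Helper1.fittingSubgroup_isNilpotent

theorem le_fittingHall {M : Type*} [Group M] {N : Subgroup M} (hN : N.Normal)
    (hnil : Group.IsNilpotent N) (hco : (Nat.card N).Coprime N.index) :
    N ≤ Cfsg.fittingHall M := le_sSup ⟨hN, hnil, hco⟩

/-- `M_F` is itself a normal nilpotent Hall subgroup. -/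
theorem fittingHall_coprime (M : Type*) [Group M] [Finite M] :
    (Nat.card (Cfsg.fittingHall M)).Coprime (Cfsg.fittingHall M).index := by
  let s : Set (Subgroup M) := {N | N.Normal ∧ N ≤ Cfsg.fittingSubgroup M ∧
    (Nat.card N).Coprime N.index}
  have hs : SupClosed s := by
    rintro N₁ ⟨hn1, hle1, hc1⟩ N₂ ⟨hn2, hle2, hc2⟩
    exact ⟨Subgroup.sup_normal N₁ N₂, sup_le hle1 hle2, coprime_sup N₁ N₂ hc1 hc2⟩
  have hbot : (⊥ : Subgroup M) ∈ s := by
    refine ⟨inferInstance, bot_le, ?_⟩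
    simp
  have hts : {N : Subgroup M | N.Normal ∧ Group.IsNilpotent N ∧ (Nat.card N).Coprime N.index} ⊆ s := by
    rintro N ⟨hN, hnil, hco⟩
    exact ⟨hN, le_sSup ⟨hN, hnil⟩, hco⟩
  have := hs.sSup_mem (Set.toFinite _) hbot hts
  exact this.2.2

section InSubgroup

variable {G : Type*} [Group G]

theorem fittingHallOf_le (M : Subgroup G) : Cfsg.fittingHallOf M ≤ M := by
  rintro x ⟨y, -, rfl⟩
  exact y.2

theorem card_fittingHallOf (M : Subgroup G) :
    Nat.card (Cfsg.fittingHallOf M) = Nat.card (Cfsg.fittingHall M) :=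
  Subgroup.card_map_of_injective M.subtype_injective

theorem relIndex_fittingHallOf (M : Subgroup G) :
    (Cfsg.fittingHallOf M).relIndex M = (Cfsg.fittingHall M).index := by
  unfold Cfsg.fittingHallOf
  rw [Subgroup.relIndex, Subgroup.subgroupOf, Subgroup.comap_map_eq_self_of_injective M.subtype_injective]

theorem fittingHallOf_coprime [Finite G] (M : Subgroup G) :
    (Nat.card (Cfsg.fittingHallOf M)).Coprime ((Cfsg.fittingHallOf M).relIndex M) := by
  rw [card_fittingHallOf, relIndex_fittingHallOf]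
  exact fittingHall_coprime M

theorem fittingHallOf_isNilpotent [Finite G] (M : Subgroup G) :
    Group.IsNilpotent (Cfsg.fittingHallOf M) := by
  have h := fittingHall_isNilpotent M
  have e : Cfsg.fittingHall M ≃* Cfsg.fittingHallOf M :=
    (Cfsg.fittingHall M).equivMapOfInjective M.subtype M.subtype_injective
  exact Group.nilpotent_of_mulEquiv e

theorem le_normalizer_fittingHallOf (M : Subgroup G) :
    M ≤ Subgroup.normalizer (Cfsg.fittingHallOf M : Set G) := by
  intro m hm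
  rw [Subgroup.mem_normalizer_iff]
  intro x
  have hn : (Cfsg.fittingHall M).Normal := inferInstance
  constructor
  · rintro ⟨y, hy, rfl⟩
    exact ⟨⟨m, hm⟩ * y * ⟨m, hm⟩⁻¹, hn.conj_mem y hy ⟨m, hm⟩, rfl⟩
  · rintro ⟨y, hy, hyx⟩
    have hxM : x ∈ M := by
      have : x = m⁻¹ * (m * x * m⁻¹) * m := by group
      rw [this, ← hyx]
      exact M.mul_mem (M.mul_mem (M.inv_mem hm) y.2) hm
    refine ⟨⟨x, hxM⟩, ?_, rfl⟩
    have := hn.conj_mem y hy ⟨m, hm⟩⁻¹
    have e : (⟨m, hm⟩ : M)⁻¹ * y * (⟨m, hm⟩ : M)⁻¹⁻¹ = ⟨x, hxM⟩ := by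
      apply Subtype.ext
      simp only [Subgroup.coe_mul, InvMemClass.coe_inv, inv_inv]
      have hyx' : (y : G) = m * x * m⁻¹ := hyx
      rw [hyx']; group
    rwa [e] at this

/-- A subgroup of `M`, normal in `M`, nilpotent and Hall in `M`, lies in `M_F`. -/
theorem le_fittingHallOf {M N : Subgroup G} (hNM : N ≤ M)
    (hnorm : M ≤ Subgroup.normalizer (N : Set G)) (hnil : Group.IsNilpotent N)
    (hco : (Nat.card N).Coprime (N.relIndex M)) : N ≤ Cfsg.fittingHallOf M := by
  have hN : (N.subgroupOf M).Normal := by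
    refine ⟨fun n hn g => ?_⟩
    rw [Subgroup.mem_subgroupOf] at hn ⊢
    have := (Subgroup.mem_normalizer_iff.mp (hnorm g.2) n).mp hn
    simpa using this
  have e : N.subgroupOf M ≃* N := Subgroup.subgroupOfEquivOfLe hNM
  have hnil' : Group.IsNilpotent (N.subgroupOf M) := by
    haveI := hnil
    exact Group.nilpotent_of_mulEquiv e.symm
  have hco' : (Nat.card (N.subgroupOf M)).Coprime (N.subgroupOf M).index := by
    rw [Nat.card_congr e.toEquiv]
    exact hco
  have := le_fittingHall hN hnil' hco'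
  intro x hx
  exact ⟨⟨x, hNM hx⟩, this (Subgroup.mem_subgroupOf.mpr hx), rfl⟩

end InSubgroup

end Cfsg.Agent.Lib.Lead.FittingHall
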