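import Mathlib
import Cfsg.Prelude.Def_OddOrderLocal

namespace Cfsg.Agent.Lib.Lead.ComplIn

open Subgroup

/-- Elements of the join of two elementwise-commuting subgroups are products. -/
theorem mem_sup_of_commute {G : Type*} [Group G] {A B : Subgroup G}
    (hc : ∀ a ∈ A, ∀ b ∈ B, a * b = b * a) {x : G} (hx : x ∈ A ⊔ B) :
    ∃ a ∈ A, ∃ b ∈ B, x = a * b := by
  rw [Subgroup.sup_eq_closure] at hx
  induction hx using Subgroup.closure_induction with
  | mem y hy =>
    rcases hy with hy | hy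
    · exact ⟨y, hy, 1, B.one_mem, by simp⟩
    · exact ⟨1, A.one_mem, y, hy, by simp⟩
  | one => exact ⟨1, A.one_mem, 1, B.one_mem, by simp⟩
  | mul y z _ _ hy hz =>
    obtain ⟨a, ha, b, hb, rfl⟩ := hy
    obtain ⟨a', ha', b', hb', rfl⟩ := hz
    refine ⟨a * a', A.mul_mem ha ha', b * b', B.mul_mem hb hb', ?_⟩
    have := hc a' ha' b hb
    calc a * b * (a' * b') = a * (b * a') * b' := by group
      _ = a * (a' * b) * b' := by rw [this]
      _ = a * a' * (b * b') := by group
  | inv y _ hy =>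
    obtain ⟨a, ha, b, hb, rfl⟩ := hy
    refine ⟨a⁻¹, A.inv_mem ha, b⁻¹, B.inv_mem hb, ?_⟩
    have := hc a ha b hb
    rw [mul_inv_rev]
    have h2 : a⁻¹ * b⁻¹ = (b * a)⁻¹ := by group
    rw [h2, ← this]; group

/-- A complement pair in `M` multiplies orders. -/
theorem card_eq {G : Type*} [Group G] {A B M : Subgroup G} (h : Cfsg.IsComplIn A B M) :
    Nat.card M = Nat.card A * Nat.card B := by
  obtain ⟨hA, hB, hAB, hM⟩ := h
  rw [← Nat.card_prod]
  symm
  refine Nat.card_congr (Equiv.ofBijective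
    (fun ab : A × B => (⟨(ab.1 : G) * ab.2, M.mul_mem (hA ab.1.2) (hB ab.2.2)⟩ : M)) ⟨?_, ?_⟩)
  · rintro ⟨a, b⟩ ⟨a', b'⟩ h
    simp only [Subtype.mk.injEq] at h
    have h1 : (a' : G)⁻¹ * a = b' * (b : G)⁻¹ := by
      have : (a' : G)⁻¹ * (a * b) * (b : G)⁻¹ = (a' : G)⁻¹ * (a' * b') * (b : G)⁻¹ := by rw [h]
      calc (a' : G)⁻¹ * a = (a' : G)⁻¹ * (a * b) * (b : G)⁻¹ := by group
        _ = (a' : G)⁻¹ * (a' * b') * (b : G)⁻¹ := this
        _ = b' * (b : G)⁻¹ := by group
    have h2 : (a' : G)⁻¹ * a ∈ A ⊓ B := by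
      refine ⟨A.mul_mem (A.inv_mem a'.2) a.2, ?_⟩
      rw [h1]; exact B.mul_mem b'.2 (B.inv_mem b.2)
    rw [hAB, Subgroup.mem_bot] at h2
    have h3 : (a : G) = a' := by
      have := inv_mul_eq_one.mp h2
      exact this.symm
    have h4 : (b : G) = b' := by
      rw [h3] at h; exact mul_left_cancel h
    exact Prod.ext (Subtype.ext h3) (Subtype.ext h4)
  · rintro ⟨m, hm⟩
    obtain ⟨a, ha, b, hb, rfl⟩ := hM m hm
    exact ⟨(⟨a, ha⟩, ⟨b, hb⟩), rfl⟩

/-- The relative index of the second factor is the order of the first. -/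
theorem relIndex_right {G : Type*} [Group G] [Finite G] {A B M : Subgroup G}
    (h : Cfsg.IsComplIn A B M) : B.relIndex M = Nat.card A := by
  have h1 := card_eq h
  have h2 : B.relIndex M * Nat.card B = Nat.card M := by
    rw [mul_comm, ← Subgroup.relIndex_bot_left, ← Subgroup.relIndex_bot_left]
    exact Subgroup.relIndex_mul_relIndex _ _ _ bot_le h.2.1
  have hpos : 0 < Nat.card B := Nat.card_pos
  rw [h1] at h2
  exact Nat.eq_of_mul_eq_mul_right hpos h2

theorem relIndex_left {G : Type*} [Group G] [Finite G] {A B M : Subgroup G}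
    (h : Cfsg.IsComplIn A B M) : A.relIndex M = Nat.card B := by
  have h1 := card_eq h
  have h2 : A.relIndex M * Nat.card A = Nat.card M := by
    rw [mul_comm, ← Subgroup.relIndex_bot_left, ← Subgroup.relIndex_bot_left]
    exact Subgroup.relIndex_mul_relIndex _ _ _ bot_le h.1
  have hpos : 0 < Nat.card A := Nat.card_pos
  rw [h1, mul_comm (Nat.card A)] at h2
  exact Nat.eq_of_mul_eq_mul_right hpos h2

/-- If `s` and `a` commute and have coprime orders then `a` is a power of `s * a`. -/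
theorem mem_zpowers_mul_of_coprime {G : Type*} [Group G] {s a : G} (hc : Commute s a)
    (hco : (orderOf s).Coprime (orderOf a)) : a ∈ Subgroup.zpowers (s * a) := by
  have h1 : (s * a) ^ orderOf s = a ^ orderOf s := by
    rw [hc.mul_pow, pow_orderOf_eq_one, one_mul]
  have h2 : a ∈ Subgroup.zpowers (a ^ orderOf s) := by
    obtain ⟨m, hm⟩ := exists_pow_eq_self_of_coprime hco
    exact ⟨(m : ℤ), by simpa using hm⟩
  rw [← h1] at h2
  exact (Subgroup.zpowers_le.mpr (Subgroup.pow_mem _ (Subgroup.mem_zpowers _) _)) h2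

end Cfsg.Agent.Lib.Lead.ComplIn
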