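import Mathlib
import Cfsg.Prelude.Def_Local
import Cfsg.Agent.Lib.Helper1.SplitPResidual2

set_option autoImplicit false
open Cfsg

namespace Cfsg.Agent.Lib.Lead.MaxPNil

universe u

/-- Every maximal subgroup is `p`-nilpotent or of prime index. -/
def Hmax (p : ℕ) (G : Type*) [Group G] : Prop :=
  ∀ M : Subgroup G, IsCoatom M →
    (∃ K : Subgroup ↥M, K.Normal ∧ ¬ p ∣ Nat.card K ∧ ∃ k : ℕ, K.index = p ^ k) ∨ (M.index).Prime

/-- A normal chain of type `(p', p, p', p, p')`, the last factor trivial when `p = 2`. -/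
def Good (p : ℕ) (G : Type*) [Group G] : Prop :=
  ∃ A B C D : Subgroup G, A.Normal ∧ B.Normal ∧ C.Normal ∧ D.Normal ∧ A ≤ B ∧ B ≤ C ∧ C ≤ D ∧
    ¬ p ∣ Nat.card A ∧ (∃ k : ℕ, A.relIndex B = p ^ k) ∧ ¬ p ∣ B.relIndex C ∧
    (∃ k : ℕ, C.relIndex D = p ^ k) ∧ ¬ p ∣ D.index ∧ (p = 2 → D = ⊤)

section basics
variable {G : Type*} [Group G]

theorem relIndex_dvd_of_le_right' (X : Subgroup G) [X.Normal] {K Y : Subgroup G} (hKY : K ≤ Y) :
    X.relIndex K ∣ X.relIndex Y := by
  have h := Subgroup.relIndex_dvd_index_of_normal (X.subgroupOf Y) (K.subgroupOf Y)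
  rw [Subgroup.relIndex_subgroupOf hKY] at h
  exact h

theorem relIndex_inf_dvd (X : Subgroup G) [X.Normal] {Y : Subgroup G} (L : Subgroup G)
    (hXY : X ≤ Y) : (X ⊓ L).relIndex (Y ⊓ L) ∣ X.relIndex Y := by
  have h1 : X ⊓ (Y ⊓ L) = X ⊓ L := by rw [← inf_assoc, inf_eq_left.2 hXY]
  have h2 : (X ⊓ L).relIndex (Y ⊓ L) = X.relIndex (Y ⊓ L) := by
    rw [← h1, Subgroup.inf_relIndex_right]
  rw [h2]
  exact relIndex_dvd_of_le_right' X inf_le_left

theorem comap_mk'_bot (N : Subgroup G) [N.Normal] :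
    (⊥ : Subgroup (G ⧸ N)).comap (QuotientGroup.mk' N) = N := by
  rw [MonoidHom.comap_bot, QuotientGroup.ker_mk']

theorem relIndex_comap_mk' (N : Subgroup G) [N.Normal] (X Y : Subgroup (G ⧸ N)) :
    (X.comap (QuotientGroup.mk' N)).relIndex (Y.comap (QuotientGroup.mk' N)) = X.relIndex Y := by
  rw [Subgroup.relIndex_comap,
    Subgroup.map_comap_eq_self_of_surjective (QuotientGroup.mk'_surjective N)]

theorem le_comap_mk' (N : Subgroup G) [N.Normal] (X : Subgroup (G ⧸ N)) :
    N ≤ X.comap (QuotientGroup.mk' N) := by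
  intro x hx
  rw [Subgroup.mem_comap]
  have h1 : QuotientGroup.mk' N x = 1 := (QuotientGroup.eq_one_iff x).2 hx
  rw [h1]
  exact X.one_mem

theorem relIndex_self_comap_mk' (N : Subgroup G) [N.Normal] (X : Subgroup (G ⧸ N)) :
    N.relIndex (X.comap (QuotientGroup.mk' N)) = Nat.card X := by
  have h := relIndex_comap_mk' N ⊥ X
  rw [comap_mk'_bot, Subgroup.relIndex_bot_left] at h
  exact h

theorem card_comap_mk' (N : Subgroup G) [N.Normal] (X : Subgroup (G ⧸ N)) :
    Nat.card (X.comap (QuotientGroup.mk' N)) = Nat.card N * Nat.card X := by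
  have h := Subgroup.relIndex_mul_relIndex ⊥ N (X.comap (QuotientGroup.mk' N)) bot_le
    (le_comap_mk' N X)
  rw [Subgroup.relIndex_bot_left, Subgroup.relIndex_bot_left, relIndex_self_comap_mk'] at h
  exact h.symm

theorem card_quot_lt [Finite G] (N : Subgroup G) [N.Normal] (hN : N ≠ ⊥) :
    Nat.card (G ⧸ N) < Nat.card G := by
  have h1 := Subgroup.card_eq_card_quotient_mul_card_subgroup N
  have h2 : 1 < Nat.card N := (Subgroup.one_lt_card_iff_ne_bot N).2 hN
  have h3 : 0 < Nat.card (G ⧸ N) := Nat.card_pos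
  nlinarith

theorem hmax_quot {p : ℕ} (hp : p.Prime) (N : Subgroup G) [N.Normal] (h : Hmax p G) :
    Hmax p (G ⧸ N) := by
  intro M' hM'
  have hsurj := QuotientGroup.mk'_surjective N
  have hco : IsCoatom (M'.comap (QuotientGroup.mk' N)) :=
    Subgroup.isCoatom_comap_of_surjective hsurj hM'
  rcases h _ hco with ⟨K, hKn, hKp, k, hk⟩ | hpr
  · left
    have hψs : Function.Surjective ((QuotientGroup.mk' N).subgroupComap M') :=
      MonoidHom.subgroupComap_surjective_of_surjective (QuotientGroup.mk' N) M' hsurj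
    refine ⟨K.map ((QuotientGroup.mk' N).subgroupComap M'), hKn.map _ hψs, ?_, ?_⟩
    · intro hd
      exact hKp (dvd_trans hd (Subgroup.card_map_dvd K _))
    · have hdvd : (K.map ((QuotientGroup.mk' N).subgroupComap M')).index ∣ p ^ k := by
        rw [← hk]; exact Subgroup.index_map_dvd K hψs
      obtain ⟨j, -, hj⟩ := (Nat.dvd_prime_pow hp).1 hdvd
      exact ⟨j, hj⟩
  · right
    rwa [Subgroup.index_comap_of_surjective M' hsurj] at hpr

theorem eq_of_pow_prime {p a : ℕ} (hp : p.Prime) (h : (p ^ a).Prime) : p ^ a = p := by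
  have ha : a ≠ 0 := by
    rintro rfl
    rw [pow_zero] at h
    exact Nat.not_prime_one h
  rcases (Nat.dvd_prime h).1 (dvd_pow_self p ha) with h1 | h1
  · exact absurd h1 hp.ne_one
  · exact h1.symm

end basics

/-- Surjective images of `p`-solvable groups are `p`-solvable. -/
theorem psolv_of_surj {G H : Type*} [Group G] [Group H] [Finite G] {p : ℕ}
    (hp : p.Prime) (f : G →* H) (hf : Function.Surjective f) (hG : IsPSolvable p G) :
    IsPSolvable p H := by
  obtain ⟨n, K, h0, hlast, hmono, hnorm, hfac⟩ := hG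
  refine ⟨n, fun i => (K i).map f, ?_, ?_, ?_, ?_, ?_⟩
  · simp only [h0, Subgroup.map_bot]
  · simp only [hlast]
    exact Subgroup.map_top_of_surjective _ hf
  · intro i j hij
    exact Subgroup.map_mono (hmono hij)
  · intro i
    exact (hnorm i).map _ hf
  · intro i
    have := hnorm i.castSucc
    have hdvd : ((K i.castSucc).map f).relIndex ((K i.succ).map f) ∣
        (K i.castSucc).relIndex (K i.succ) := by
      rw [Subgroup.relIndex_map_map]
      have hle : K i.castSucc ≤ K i.succ := hmono (Fin.castSucc_le_succ i)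
      have e1 : K i.succ ⊔ f.ker = (K i.castSucc ⊔ f.ker) ⊔ K i.succ := by
        rw [sup_right_comm, sup_eq_right.2 hle]
      rw [e1, Subgroup.relIndex_sup_left]
      exact Subgroup.relIndex_dvd_of_le_left _ le_sup_left
    rcases hfac i with ⟨m, hm⟩ | hcop
    · left
      rw [hm] at hdvd
      obtain ⟨j, -, hj⟩ := (Nat.dvd_prime_pow hp).1 hdvd
      exact ⟨j, hj⟩
    · right
      exact Nat.Coprime.coprime_dvd_left hdvd hcop

theorem min_normal_le {G : Type*} [Group G] [Finite G] (Z : Subgroup G) (hZn : Z.Normal)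
    (hZ : Z ≠ ⊥) :
    ∃ N : Subgroup G, N ≤ Z ∧ N.Normal ∧ N ≠ ⊥ ∧
      ∀ M : Subgroup G, M.Normal → M ≤ N → M = ⊥ ∨ M = N := by
  let S : Set (Subgroup G) := {N | N.Normal ∧ N ≠ ⊥}
  have hS : S.Finite := Set.toFinite S
  have htop : Z ∈ S := ⟨hZn, hZ⟩
  obtain ⟨N, hNZ, hNmin⟩ := hS.exists_le_minimal htop
  refine ⟨N, hNZ, hNmin.prop.1, hNmin.prop.2, ?_⟩
  intro M hMn hMN
  by_cases hM : M = ⊥
  · exact Or.inl hM
  · right
    exact le_antisymm hMN (hNmin.le_of_le ⟨hMn, hM⟩ hMN)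

theorem exists_normal_pgroup {G : Type*} [Group G] [Nontrivial G] {p : ℕ} (hp : p.Prime)
    (hG : IsPSolvable p G)
    (hfree : ∀ L : Subgroup G, L.Normal → ¬ p ∣ Nat.card L → L = ⊥) :
    ∃ P : Subgroup G, P.Normal ∧ P ≠ ⊥ ∧ ∃ k : ℕ, Nat.card P = p ^ k := by
  by_contra hno
  obtain ⟨n, H, h0, hlast, hmono, hnorm, hfac⟩ := hG
  have hall : ∀ i : Fin (n + 1), H i = ⊥ := by
    intro i
    induction i using Fin.induction with
    | zero => exact h0
    | succ i ih =>
      have hrel : (H i.castSucc).relIndex (H i.succ) = Nat.card (H i.succ) := by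
        rw [ih, Subgroup.relIndex_bot_left]
      rcases hfac i with ⟨m, hm⟩ | hcop
      · by_contra hne
        exact hno ⟨H i.succ, hnorm _, hne, m, by rw [← hrel, hm]⟩
      · apply hfree _ (hnorm _)
        rw [hrel] at hcop
        exact (Nat.Prime.coprime_iff_not_dvd hp).1 hcop.symm
  have h1 : (⊤ : Subgroup G) = ⊥ := by rw [← hlast]; exact hall _
  exact top_ne_bot h1

theorem min_normal_comm {G : Type*} [Group G] [Finite G] {p : ℕ} (hp : p.Prime)
    (N : Subgroup G) (hNn : N.Normal) (hN1 : N ≠ ⊥) (hNp : ∃ a : ℕ, Nat.card N = p ^ a)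
    (hmin : ∀ M : Subgroup G, M.Normal → M ≤ N → M = ⊥ ∨ M = N) :
    ∀ a ∈ N, ∀ b ∈ N, a * b = b * a := by
  haveI := hNn
  haveI : Fact p.Prime := ⟨hp⟩
  obtain ⟨k, hk⟩ := hNp
  have hpg : IsPGroup p N := IsPGroup.of_card hk
  haveI : Nontrivial N := (Subgroup.nontrivial_iff_ne_bot N).2 hN1
  have hZnt : Nontrivial (Subgroup.center N) := hpg.center_nontrivial
  have hZ1 : Subgroup.center N ≠ ⊥ := (Subgroup.nontrivial_iff_ne_bot _).1 hZnt
  have hZn : ((Subgroup.center N).map N.subtype).Normal :=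
    ConjAct.normal_of_characteristic_of_normal
  have hZN : (Subgroup.center N).map N.subtype ≤ N := Subgroup.map_subtype_le _
  have hZ1' : (Subgroup.center N).map N.subtype ≠ ⊥ := by
    intro h
    exact hZ1 ((Subgroup.map_eq_bot_iff_of_injective _ N.subtype_injective).1 h)
  have hZeq : (Subgroup.center N).map N.subtype = N := (hmin _ hZn hZN).resolve_left hZ1'
  intro a ha b hb
  have ha' : a ∈ (Subgroup.center N).map N.subtype := by rw [hZeq]; exact ha
  obtain ⟨z, hz, rfl⟩ := ha'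
  have h1 := (Subgroup.mem_center_iff.1 hz) ⟨b, hb⟩
  have h2 := congrArg Subtype.val h1
  simpa using h2.symm

theorem index_centralizer_of_card_prime {G : Type*} [Group G] [Finite G] {p : ℕ} (hp : p.Prime)
    (N : Subgroup G) (hNn : N.Normal) (hcard : Nat.card N = p) :
    (Subgroup.centralizer (N : Set G)).index ∣ p - 1 := by
  haveI := hNn
  haveI : Fact p.Prime := ⟨hp⟩
  haveI : IsCyclic N := isCyclic_of_prime_card hcard
  have h1 : Nat.card (MulAut N) = p - 1 := by
    rw [IsCyclic.card_mulAut ↥N, hcard, Nat.totient_prime hp]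
  have hker : (MulAut.conjNormal (H := N)).ker ≤ Subgroup.centralizer (N : Set G) := by
    intro g hg
    rw [MonoidHom.mem_ker] at hg
    rw [Subgroup.mem_centralizer_iff]
    intro h hh
    have h2 : g * h * g⁻¹ = h := by
      have h3 := MulAut.conjNormal_apply (H := N) g ⟨h, hh⟩
      rw [hg] at h3
      exact h3.symm
    calc h * g = (g * h * g⁻¹) * g := by rw [h2]
      _ = g * h := by group
  have h3 : (Subgroup.centralizer (N : Set G)).index ∣ (MulAut.conjNormal (H := N)).ker.index :=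
    Subgroup.index_dvd_of_le hker
  rw [Subgroup.index_ker] at h3
  have h4 := Subgroup.card_subgroup_dvd_card (MulAut.conjNormal (H := N)).range
  rw [h1] at h4
  exact dvd_trans h3 h4

/-- The structure lemma: a complemented minimal normal subgroup. -/
theorem structure_lemma {G : Type*} [Group G] [Finite G] {p : ℕ} (hp : p.Prime)
    (N K : Subgroup G) (hNn : N.Normal) (hKn : K.Normal) (hNK : N ≤ K)
    (hNab : ∀ a ∈ N, ∀ b ∈ N, a * b = b * a)
    (hNp : ∃ a : ℕ, Nat.card N = p ^ a)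
    (hN1 : N ≠ ⊥)
    (hmin : ∀ L : Subgroup G, L.Normal → L ≤ N → L = ⊥ ∨ L = N)
    (hK : ¬ p ∣ N.relIndex K) (hKN : K ≠ N)
    (hfree : ∀ L : Subgroup G, L.Normal → ¬ p ∣ Nat.card L → L = ⊥) :
    ∃ M : Subgroup G, IsCoatom M ∧ M ⊓ N = ⊥ ∧ (∀ g : G, ∃ a ∈ N, ∃ m ∈ M, g = a * m) ∧
      K ⊓ Subgroup.centralizer (N : Set G) ≤ N := by
  haveI := hNn
  haveI := hKn
  obtain ⟨a, hNa⟩ := hNp
  have hcardsub : Nat.card (N.subgroupOf K) = Nat.card N :=
    Nat.card_congr (Subgroup.subgroupOfEquivOfLe hNK).toEquiv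
  have hcop0 : (Nat.card (N.subgroupOf K)).Coprime (N.subgroupOf K).index := by
    rw [hcardsub, hNa]
    exact Nat.Coprime.pow_left a ((Nat.Prime.coprime_iff_not_dvd hp).2 hK)
  obtain ⟨Q₀, hQ₀⟩ := Subgroup.exists_right_complement'_of_coprime hcop0
  obtain ⟨Q, hQdef⟩ : ∃ Q : Subgroup G, Q = Q₀.map K.subtype := ⟨_, rfl⟩
  have hQK : Q ≤ K := by rw [hQdef]; exact Subgroup.map_subtype_le _
  have hcardQ : Nat.card Q = Nat.card Q₀ := by
    rw [hQdef]; exact Subgroup.card_map_of_injective K.subtype_injective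
  have hcardK : Nat.card K = Nat.card N * Nat.card Q := by
    rw [hcardQ, ← hcardsub]; exact (hQ₀.card_mul_card).symm
  have hrel : N.relIndex K = Nat.card Q := by
    have h1 := Subgroup.relIndex_mul_relIndex ⊥ N K bot_le hNK
    rw [Subgroup.relIndex_bot_left, Subgroup.relIndex_bot_left, hcardK] at h1
    have hpos : 0 < Nat.card N := Nat.card_pos
    exact Nat.eq_of_mul_eq_mul_left hpos h1
  have hQp : ¬ p ∣ Nat.card Q := by rw [← hrel]; exact hK
  have hcopNQ : (Nat.card N).Coprime (Nat.card Q) := by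
    rw [hNa]; exact Nat.Coprime.pow_left a ((Nat.Prime.coprime_iff_not_dvd hp).2 hQp)
  haveI hNc : IsMulCommutative N := ⟨⟨fun x y => Subtype.ext (hNab x.1 x.2 y.1 y.2)⟩⟩
  have hKnorm : K ≤ Subgroup.normalizer (N : Set G) := by
    rw [Subgroup.normalizer_eq_top]; exact le_top
  obtain ⟨M, hM⟩ : ∃ M : Subgroup G, M = Subgroup.normalizer (Q : Set G) := ⟨_, rfl⟩
  have hMmem : ∀ g : G, g ∈ M ↔ ∀ h : G, h ∈ Q ↔ g * h * g⁻¹ ∈ Q := by
    intro g; rw [hM]; exact Subgroup.mem_normalizer_iff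
  have hdec : ∀ g : G, ∃ a ∈ N, ∃ m ∈ M, g = a * m := by
    intro g
    have hg : g ∈ Subgroup.normalizer (K : Set G) := by
      rw [Subgroup.normalizer_eq_top]; exact Subgroup.mem_top g
    obtain ⟨a, ha, ham⟩ := Cfsg.Agent.Lib.Helper1.exists_mul_mem_normalizer_of_complement
      N K Q hNK hQK hKnorm hcardK hcopNQ g hg
    rw [← hM] at ham
    exact ⟨a, ha, a⁻¹ * g, ham, by group⟩
  have hconj : ∀ (a m x : G), a * (m * x * m⁻¹) = (m * x * m⁻¹) * a →
      a * m * x * (a * m)⁻¹ = m * x * m⁻¹ := by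
    intro a m x hcomm
    calc a * m * x * (a * m)⁻¹ = a * (m * x * m⁻¹) * a⁻¹ := by group
      _ = (m * x * m⁻¹) * a * a⁻¹ := by rw [hcomm]
      _ = m * x * m⁻¹ := by group
  have hLN : ∀ L : Subgroup G, M ≤ L → (L ⊓ N).Normal := by
    intro L hML
    refine ⟨fun x hx g => ?_⟩
    obtain ⟨a, ha, m, hm, rfl⟩ := hdec g
    have hx' := Subgroup.mem_inf.1 hx
    have hy : m * x * m⁻¹ ∈ L ⊓ N :=
      Subgroup.mem_inf.2 ⟨L.mul_mem (L.mul_mem (hML hm) hx'.1) (L.inv_mem (hML hm)),
        hNn.conj_mem x hx'.2 m⟩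
    have hcomm := hNab a ha _ (Subgroup.mem_inf.1 hy).2
    rw [hconj a m x hcomm]; exact hy
  have hMN : M ⊓ N = ⊥ := by
    rcases hmin _ (hLN M le_rfl) inf_le_right with h | h
    · exact h
    · exfalso
      have hNM : N ≤ M := inf_eq_right.1 h
      have hMtop : ∀ g : G, g ∈ M := by
        intro g
        obtain ⟨a, ha, m, hm, rfl⟩ := hdec g
        exact M.mul_mem (hNM ha) hm
      have hQn : Q.Normal := ⟨fun x hx g => ((hMmem g).1 (hMtop g) x).1 hx⟩
      have hQ1 : Q = ⊥ := hfree Q hQn hQp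
      apply hKN
      exact (Subgroup.eq_of_le_of_card_ge hNK
        (le_of_eq (by rw [hcardK, hQ1, Subgroup.card_bot, mul_one]))).symm
  have hMne : M ≠ ⊤ := by
    intro h
    apply hN1
    have h1 : M ⊓ N = N := by rw [h, top_inf_eq]
    exact h1.symm.trans hMN
  have hMco : IsCoatom M := by
    refine ⟨hMne, fun L hML => ?_⟩
    rcases hmin _ (hLN L hML.le) inf_le_right with h | h
    · exfalso
      have hLM : L ≤ M := by
        intro l hl
        obtain ⟨a, ha, m, hm, rfl⟩ := hdec l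
        have ha' : a ∈ L ⊓ N := by
          refine Subgroup.mem_inf.2 ⟨?_, ha⟩
          have h1 : a * m * m⁻¹ ∈ L := L.mul_mem hl (L.inv_mem (hML.le hm))
          simpa using h1
        rw [h, Subgroup.mem_bot] at ha'
        rw [ha', one_mul]; exact hm
      exact lt_irrefl _ (lt_of_lt_of_le hML hLM)
    · have hNL : N ≤ L := inf_eq_right.1 h
      rw [eq_top_iff]
      intro g _
      obtain ⟨a, ha, m, hm, rfl⟩ := hdec g
      exact L.mul_mem (hNL ha) (hML.le hm)
  have hQ1n : (Q ⊓ Subgroup.centralizer (N : Set G)).Normal := by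
    refine ⟨fun x hx g => ?_⟩
    obtain ⟨a, ha, m, hm, rfl⟩ := hdec g
    have hx' := Subgroup.mem_inf.1 hx
    have hyQ : m * x * m⁻¹ ∈ Q := ((hMmem m).1 hm x).1 hx'.1
    have hyC : m * x * m⁻¹ ∈ Subgroup.centralizer (N : Set G) :=
      (Subgroup.normal_centralizer (H := N)).conj_mem x hx'.2 m
    have hcomm : a * (m * x * m⁻¹) = (m * x * m⁻¹) * a :=
      Subgroup.mem_centralizer_iff.1 hyC a ha
    rw [hconj a m x hcomm]; exact Subgroup.mem_inf.2 ⟨hyQ, hyC⟩
  have hQ1 : Q ⊓ Subgroup.centralizer (N : Set G) = ⊥ := by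
    apply hfree _ hQ1n
    intro hd
    exact hQp (dvd_trans hd (Subgroup.card_dvd_of_le inf_le_left))
  have hKC : K ⊓ Subgroup.centralizer (N : Set G) ≤ N := by
    intro x hx
    obtain ⟨hxK, hxC⟩ := Subgroup.mem_inf.1 hx
    obtain ⟨⟨n, q⟩, hnq, -⟩ := hQ₀.existsUnique ⟨x, hxK⟩
    have hnq' : ((n.1 : K) : G) * ((q.1 : K) : G) = x := by
      have h1 := congrArg Subtype.val hnq
      simpa using h1
    have hnN : ((n.1 : K) : G) ∈ N := Subgroup.mem_subgroupOf.1 n.2
    have hqQ : ((q.1 : K) : G) ∈ Q := by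
      rw [hQdef]; exact Subgroup.mem_map_of_mem K.subtype q.2
    have hnC : ((n.1 : K) : G) ∈ Subgroup.centralizer (N : Set G) := by
      rw [Subgroup.mem_centralizer_iff]
      intro h hh
      exact hNab h hh _ hnN
    have hqC : ((q.1 : K) : G) ∈ Subgroup.centralizer (N : Set G) := by
      have h1 : ((q.1 : K) : G) = ((n.1 : K) : G)⁻¹ * x := by rw [← hnq']; group
      rw [h1]
      exact Subgroup.mul_mem _ (Subgroup.inv_mem _ hnC) hxC
    have hq1 : ((q.1 : K) : G) = 1 := by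
      have h1 : ((q.1 : K) : G) ∈ Q ⊓ Subgroup.centralizer (N : Set G) :=
        Subgroup.mem_inf.2 ⟨hqQ, hqC⟩
      rw [hQ1] at h1
      exact Subgroup.mem_bot.1 h1
    rw [← hnq', hq1, mul_one]; exact hnN
  exact ⟨M, hMco, hMN, hdec, hKC⟩

/-- The case of a `p`-nilpotent complement. -/
theorem case_nilp {G : Type*} [Group G] [Finite G] {p : ℕ} (hp : p.Prime)
    (N M : Subgroup G) (hNn : N.Normal) (hNp : ∃ a : ℕ, Nat.card N = p ^ a)
    (hMN : M ⊓ N = ⊥) (hdec : ∀ g : G, ∃ a ∈ N, ∃ m ∈ M, g = a * m)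
    (KM : Subgroup ↥M) (hKMn : KM.Normal) (hKMp : ¬ p ∣ Nat.card KM)
    (hKMi : ∃ k : ℕ, KM.index = p ^ k) : Good p G := by
  haveI := hNn
  obtain ⟨φ, hφ⟩ : ∃ φ : ↥M →* G ⧸ N, φ = (QuotientGroup.mk' N).comp M.subtype := ⟨_, rfl⟩
  have hφa : ∀ m : M, φ m = QuotientGroup.mk' N (m : G) := by
    intro m; rw [hφ]; rfl
  have hφs : Function.Surjective φ := by
    intro y
    obtain ⟨g, rfl⟩ := QuotientGroup.mk'_surjective N y
    obtain ⟨a, ha, m, hm, rfl⟩ := hdec g
    refine ⟨⟨m, hm⟩, ?_⟩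
    rw [hφa, map_mul]
    have h1 : (QuotientGroup.mk' N) a = 1 := (QuotientGroup.eq_one_iff a).2 ha
    rw [h1, one_mul]
  have hφi : Function.Injective φ := by
    rw [injective_iff_map_eq_one]
    intro m hm
    rw [hφa] at hm
    have hmN : (m : G) ∈ N := (QuotientGroup.eq_one_iff (m : G)).1 hm
    have h1 : (m : G) ∈ M ⊓ N := Subgroup.mem_inf.2 ⟨m.2, hmN⟩
    rw [hMN, Subgroup.mem_bot] at h1
    exact Subtype.ext h1
  obtain ⟨k, hk⟩ := hKMi
  obtain ⟨a, hNa⟩ := hNp
  have hC'n : (KM.map φ).Normal := hKMn.map φ hφs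
  have hC'card : Nat.card (KM.map φ) = Nat.card KM := Subgroup.card_map_of_injective hφi
  have hC'idx : (KM.map φ).index = KM.index := Subgroup.index_map_of_bijective ⟨hφi, hφs⟩ KM
  refine ⟨⊥, N, (KM.map φ).comap (QuotientGroup.mk' N), ⊤, inferInstance, hNn, hC'n.comap _,
    inferInstance, bot_le, le_comap_mk' N _, le_top, ?_, ⟨a, ?_⟩, ?_, ⟨k, ?_⟩, ?_, fun _ => rfl⟩
  · rw [Subgroup.card_bot]; exact hp.not_dvd_one
  · rw [Subgroup.relIndex_bot_left, hNa]
  · rw [relIndex_self_comap_mk', hC'card]; exact hKMp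
  · rw [Subgroup.relIndex_top_right,
      Subgroup.index_comap_of_surjective _ (QuotientGroup.mk'_surjective N), hC'idx, hk]
  · rw [Subgroup.index_top]; exact hp.not_dvd_one

/-- Cutting a chain above `N` with a normal subgroup `C` of `p'`-index. -/
theorem cut {G : Type*} [Group G] [Finite G] {p : ℕ} (hp : p.Prime)
    (N KA KB KC KD C : Subgroup G)
    (hNn : N.Normal) (hAn : KA.Normal) (hBn : KB.Normal) (hCn : KC.Normal) (hDn : KD.Normal)
    (hCCn : C.Normal)
    (hNA : N ≤ KA) (hAB : KA ≤ KB) (hBC : KB ≤ KC) (hCD : KC ≤ KD)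
    (hNp : ∃ a : ℕ, Nat.card N = p ^ a)
    (hcap : KA ⊓ C ≤ N) (hNC : N ≤ C)
    (h1 : ∃ k : ℕ, KA.relIndex KB = p ^ k) (h2 : ¬ p ∣ KB.relIndex KC)
    (h3 : ∃ k : ℕ, KC.relIndex KD = p ^ k) (h4 : ¬ p ∣ KD.index) (h5 : ¬ p ∣ C.index)
    (h6 : p = 2 → KD = ⊤ ∧ C = ⊤) : Good p G := by
  haveI := hNn; haveI := hAn; haveI := hBn; haveI := hCn; haveI := hDn; haveI := hCCn
  obtain ⟨a, hNa⟩ := hNp
  obtain ⟨k1, hk1⟩ := h1
  obtain ⟨k3, hk3⟩ := h3
  have hNeq : KA ⊓ C = N := le_antisymm hcap (le_inf hNA hNC)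
  have hd1 : (KA ⊓ C).relIndex (KB ⊓ C) ∣ p ^ k1 := by
    rw [← hk1]; exact relIndex_inf_dvd KA C hAB
  obtain ⟨j1, -, hj1⟩ := (Nat.dvd_prime_pow hp).1 hd1
  have hd2 : (KB ⊓ C).relIndex (KC ⊓ C) ∣ KB.relIndex KC := relIndex_inf_dvd KB C hBC
  have hd3 : (KC ⊓ C).relIndex (KD ⊓ C) ∣ p ^ k3 := by
    rw [← hk3]; exact relIndex_inf_dvd KC C hCD
  obtain ⟨j3, -, hj3⟩ := (Nat.dvd_prime_pow hp).1 hd3
  refine ⟨⊥, KB ⊓ C, KC ⊓ C, KD ⊓ C, inferInstance, inferInstance, inferInstance, inferInstance,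
    bot_le, inf_le_inf_right C hBC, inf_le_inf_right C hCD, ?_, ⟨a + j1, ?_⟩, ?_, ⟨j3, hj3⟩,
    ?_, ?_⟩
  · rw [Subgroup.card_bot]; exact hp.not_dvd_one
  · rw [Subgroup.relIndex_bot_left]
    have hNB : N ≤ KB ⊓ C := le_inf (hNA.trans hAB) hNC
    have h := Subgroup.relIndex_mul_relIndex ⊥ N (KB ⊓ C) bot_le hNB
    rw [Subgroup.relIndex_bot_left, Subgroup.relIndex_bot_left] at h
    rw [← h, hNa, pow_add]
    congr 1
    rw [← hNeq]; exact hj1
  · intro hd; exact h2 (dvd_trans hd hd2)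
  · intro hd
    have h := Subgroup.relIndex_mul_index (inf_le_left : KD ⊓ C ≤ KD)
    rw [Subgroup.inf_relIndex_left] at h
    rw [← h] at hd
    rcases (Nat.Prime.dvd_mul hp).1 hd with h' | h'
    · exact h5 (dvd_trans h' (Subgroup.relIndex_dvd_index_of_normal C KD))
    · exact h4 h'
  · intro h2'
    obtain ⟨hD, hC⟩ := h6 h2'
    rw [hD, hC, inf_idem]

theorem main_aux {p : ℕ} (hp : p.Prime) : ∀ n : ℕ, ∀ (G : Type u) [Group G] [Finite G],
    Nat.card G = n → IsPSolvable p G → Hmax p G → Good p G := by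
  intro n
  induction n using Nat.strong_induction_on with
  | _ n ih =>
  intro G _ _ hn hG hmax
  rcases subsingleton_or_nontrivial G with hsub | hnt
  · have hc1 : Nat.card G = 1 := Nat.card_eq_one_iff_unique.2 ⟨hsub, ⟨1⟩⟩
    refine ⟨⊤, ⊤, ⊤, ⊤, inferInstance, inferInstance, inferInstance, inferInstance, le_rfl,
      le_rfl, le_rfl, ?_, ⟨0, ?_⟩, ?_, ⟨0, ?_⟩, ?_, fun _ => rfl⟩
    · rw [Subgroup.card_top, hc1]; exact hp.not_dvd_one
    · rw [Subgroup.relIndex_top_right, Subgroup.index_top, pow_zero]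
    · rw [Subgroup.relIndex_top_right, Subgroup.index_top]; exact hp.not_dvd_one
    · rw [Subgroup.relIndex_top_right, Subgroup.index_top, pow_zero]
    · rw [Subgroup.index_top]; exact hp.not_dvd_one
  · by_cases hex : ∃ L : Subgroup G, L.Normal ∧ L ≠ ⊥ ∧ ¬ p ∣ Nat.card L
    · obtain ⟨L, hLn, hL1, hLp⟩ := hex
      haveI := hLn
      have hlt : Nat.card (G ⧸ L) < n := by rw [← hn]; exact card_quot_lt L hL1
      obtain ⟨A', B', C', D', hA'n, hB'n, hC'n, hD'n, hAB, hBC, hCD, hA'p, ⟨k1, hk1⟩, h2,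
        ⟨k3, hk3⟩, h4, h5⟩ :=
        ih _ hlt (G ⧸ L) rfl
          (psolv_of_surj hp (QuotientGroup.mk' L) (QuotientGroup.mk'_surjective L) hG)
          (hmax_quot hp L hmax)
      refine ⟨A'.comap (QuotientGroup.mk' L), B'.comap (QuotientGroup.mk' L),
        C'.comap (QuotientGroup.mk' L), D'.comap (QuotientGroup.mk' L), hA'n.comap _,
        hB'n.comap _, hC'n.comap _, hD'n.comap _, Subgroup.comap_mono hAB,
        Subgroup.comap_mono hBC, Subgroup.comap_mono hCD, ?_, ⟨k1, ?_⟩, ?_, ⟨k3, ?_⟩, ?_, ?_⟩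
      · rw [card_comap_mk']
        intro hd
        rcases (Nat.Prime.dvd_mul hp).1 hd with h | h
        · exact hLp h
        · exact hA'p h
      · rw [relIndex_comap_mk', hk1]
      · rw [relIndex_comap_mk']; exact h2
      · rw [relIndex_comap_mk', hk3]
      · rw [Subgroup.index_comap_of_surjective _ (QuotientGroup.mk'_surjective L)]; exact h4
      · intro h; rw [h5 h, Subgroup.comap_top]
    · have hfree : ∀ L : Subgroup G, L.Normal → ¬ p ∣ Nat.card L → L = ⊥ := by
        intro L hLn hLp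
        by_contra hL1
        exact hex ⟨L, hLn, hL1, hLp⟩
      obtain ⟨P, hPn, hP1, kP, hPk⟩ := exists_normal_pgroup hp hG hfree
      obtain ⟨N, hNP, hNn, hN1, hmin⟩ := min_normal_le P hPn hP1
      haveI := hNn
      have hNp : ∃ a : ℕ, Nat.card N = p ^ a := by
        have hd : Nat.card N ∣ p ^ kP := by rw [← hPk]; exact Subgroup.card_dvd_of_le hNP
        obtain ⟨a, -, ha⟩ := (Nat.dvd_prime_pow hp).1 hd
        exact ⟨a, ha⟩
      have hNab := min_normal_comm hp N hNn hN1 hNp hmin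
      have hlt : Nat.card (G ⧸ N) < n := by rw [← hn]; exact card_quot_lt N hN1
      obtain ⟨A', B', C', D', hA'n, hB'n, hC'n, hD'n, hAB, hBC, hCD, hA'p, ⟨k1, hk1⟩, h2,
        ⟨k3, hk3⟩, h4, h5⟩ :=
        ih _ hlt (G ⧸ N) rfl
          (psolv_of_surj hp (QuotientGroup.mk' N) (QuotientGroup.mk'_surjective N) hG)
          (hmax_quot hp N hmax)
      have hcut : ∀ C : Subgroup G, C.Normal → A'.comap (QuotientGroup.mk' N) ⊓ C ≤ N → N ≤ C →
          ¬ p ∣ C.index → (p = 2 → C = ⊤) → Good p G := by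
        intro C hCn hcap hNC hCi hC2
        refine cut hp N (A'.comap (QuotientGroup.mk' N)) (B'.comap (QuotientGroup.mk' N))
          (C'.comap (QuotientGroup.mk' N)) (D'.comap (QuotientGroup.mk' N)) C hNn (hA'n.comap _)
          (hB'n.comap _) (hC'n.comap _) (hD'n.comap _) hCn (le_comap_mk' N A')
          (Subgroup.comap_mono hAB) (Subgroup.comap_mono hBC) (Subgroup.comap_mono hCD) hNp hcap
          hNC ⟨k1, ?_⟩ ?_ ⟨k3, ?_⟩ ?_ hCi ?_
        · rw [relIndex_comap_mk', hk1]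
        · rw [relIndex_comap_mk']; exact h2
        · rw [relIndex_comap_mk', hk3]
        · rw [Subgroup.index_comap_of_surjective _ (QuotientGroup.mk'_surjective N)]; exact h4
        · intro h; exact ⟨by rw [h5 h, Subgroup.comap_top], hC2 h⟩
      by_cases hA' : A' = ⊥
      · apply hcut ⊤ inferInstance ?_ le_top ?_ (fun _ => rfl)
        · exact le_of_eq (by rw [inf_top_eq, hA', comap_mk'_bot])
        · rw [Subgroup.index_top]; exact hp.not_dvd_one
      · have hKN : A'.comap (QuotientGroup.mk' N) ≠ N := by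
          intro h
          apply hA'
          have h1 := relIndex_self_comap_mk' N A'
          rw [h, Subgroup.relIndex_self] at h1
          exact Subgroup.card_eq_one.1 h1.symm
        have hK : ¬ p ∣ N.relIndex (A'.comap (QuotientGroup.mk' N)) := by
          rw [relIndex_self_comap_mk']; exact hA'p
        obtain ⟨M, hMco, hMN, hdec, hKC⟩ := structure_lemma hp N (A'.comap (QuotientGroup.mk' N))
          hNn (hA'n.comap _) (le_comap_mk' N A') hNab hNp hN1 hmin hK hKN hfree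
        rcases hmax M hMco with ⟨KM, hKMn, hKMp, hKMi⟩ | hpr
        · exact case_nilp hp N M hNn hNp hMN hdec KM hKMn hKMp hKMi
        · have hcompl : Subgroup.IsComplement' N M := by
            apply Subgroup.isComplement'_of_disjoint_and_mul_eq_univ
            · rw [disjoint_iff, inf_comm]; exact hMN
            · apply Set.eq_univ_of_forall
              intro g
              obtain ⟨a, ha, m, hm, rfl⟩ := hdec g
              exact Set.mul_mem_mul ha hm
          have hidx : M.index = Nat.card N := hcompl.index_eq_card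
          have hcardN : Nat.card N = p := by
            obtain ⟨a, hNa⟩ := hNp
            rw [hNa]; apply eq_of_pow_prime hp; rw [← hNa, ← hidx]; exact hpr
          have hCdvd := index_centralizer_of_card_prime hp N hNn hcardN
          have hNC : N ≤ Subgroup.centralizer (N : Set G) := by
            intro x hx
            rw [Subgroup.mem_centralizer_iff]
            intro h hh
            exact hNab h hh x hx
          apply hcut (Subgroup.centralizer (N : Set G)) Subgroup.normal_centralizer hKC hNC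
          · intro hd
            have h1 := dvd_trans hd hCdvd
            have hp2 := hp.two_le
            have hpos : 0 < p - 1 := by omega
            have h3 := Nat.le_of_dvd hpos h1
            omega
          · intro h2'
            rw [h2'] at hCdvd
            have h3 : (Subgroup.centralizer (N : Set G)).index = 1 :=
              Nat.dvd_one.1 (by simpa using hCdvd)
            exact Subgroup.index_eq_one.1 h3

theorem main {G : Type u} [Group G] [Finite G] {p : ℕ} (hp : p.Prime) (hG : IsPSolvable p G)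
    (hmax : Hmax p G) : Good p G :=
  main_aux hp (Nat.card G) G rfl hG hmax

end Cfsg.Agent.Lib.Lead.MaxPNil
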