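import Mathlib
import Cfsg.Prelude.Def_Local
import Cfsg.Agent.Lib.Helper1.PL0
import Cfsg.Agent.Lib.Helper1.Coprime
import Cfsg.Agent.Lib.Helper1.ThreeSubgroups
import Cfsg.Agent.Lib.Helper1.FrattiniAction
import Cfsg.Agent.Lib.Helper1.FrattiniP
import Cfsg.Agent.Lib.Helper1.FittingCentralizer
import Cfsg.Agent.Lib.Helper1.XS19
import Cfsg.Agent.Lib.Helper1.SubnormalPCore
import Cfsg.Agent.Lib.Helper1.PCore
import Cfsg.Agent.Lib.Helper2.PLengthSeries
import Cfsg.Agent.Lib.Helper2.Cores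
import Cfsg.Agent.Lib.Lead.PLength
import Cfsg.Agent.Lib.Lead.MaxPNil

/-! Reduction of the `p`-length theorem for `[H, R]` (B&G Theorem 3.6) to its core case
`Helper1.PL.CoreStatement`, by induction on the group order. -/
set_option autoImplicit false
open scoped commutatorElement

namespace Cfsg.Agent.Lib.Lead.PLMain

open Cfsg

universe u

section general
variable {G : Type u} [Group G]

theorem card_subgroupOf_of_le {A L : Subgroup G} (h : A ≤ L) :
    Nat.card ↥(A.subgroupOf L) = Nat.card ↥A :=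
  Nat.card_congr (Subgroup.subgroupOfEquivOfLe h).toEquiv

theorem card_sup_of_normalizes {A D : Subgroup G} (hAD : A ≤ Subgroup.normalizer (D : Set G))
    (hdisj : Disjoint D A) : Nat.card ↥(D ⊔ A) = Nat.card ↥D * Nat.card ↥A := by
  obtain ⟨-, hc⟩ := Helper1.isComplement'_subgroupOf_sup hAD hdisj
  have h := hc.card_mul_card
  rw [card_subgroupOf_of_le le_sup_left, card_subgroupOf_of_le le_sup_right] at h
  exact h.symm

theorem isZGroup_of_map_le {X Y : Type*} [Group X] [Group Y] (f : X →* Y)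
    (hf : Function.Injective f) (A : Subgroup X) (B : Subgroup Y) (hAB : A.map f ≤ B)
    (hB : IsZGroup ↥B) : IsZGroup ↥A := by
  let g : ↥A →* ↥B := (f.comp A.subtype).codRestrict B (fun a => hAB ⟨a, a.2, rfl⟩)
  have hg : Function.Injective g := by
    intro a b hab
    have h1 : f (a : X) = f (b : X) := congrArg Subtype.val hab
    exact Subtype.ext (hf h1)
  exact IsZGroup.of_injective hg

theorem isZGroup_map {X Y : Type*} [Group X] [Group Y] [Finite X] (f : X →* Y) (B : Subgroup X)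
    (hB : IsZGroup ↥B) : IsZGroup ↥(B.map f) :=
  IsZGroup.of_surjective (f := f.subgroupMap B) (f.subgroupMap_surjective B)

/-- A normal series `K ≤ N ≤ H` of `H` inside `G` with `N/K` a `p`-group and `H/N` a `p'`-group. -/
structure Ser (p : ℕ) (H K N : Subgroup G) : Prop where
  kn : K ≤ N
  nh : N ≤ H
  hk : H ≤ Subgroup.normalizer (K : Set G)
  hn : H ≤ Subgroup.normalizer (N : Set G)
  cn : ∃ a : ℕ, Nat.card ↥N = Nat.card ↥K * p ^ a
  ch : ∃ m : ℕ, Nat.card ↥H = Nat.card ↥N * m ∧ m.Coprime p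

theorem ser_of_plen [Finite G] (p : ℕ) [Fact p.Prime] (H : Subgroup G)
    (h : PLengthLE p 1 ↥H) :
    ∃ K N : Subgroup G, Ser p H K N ∧ (Nat.card ↥K).Coprime p := by
  obtain ⟨K, N, hKn, hNn, hKN, hK, ⟨a, ha⟩, hi⟩ := Lead.PLength.exists_of_pLengthLE_one p h
  have hcard : ∀ X : Subgroup ↥H, Nat.card ↥(X.map H.subtype) = Nat.card ↥X := fun X =>
    Subgroup.card_map_of_injective H.subtype_injective
  have hnorm : ∀ X : Subgroup ↥H, X.Normal →
      H ≤ Subgroup.normalizer ((X.map H.subtype : Subgroup G) : Set G) := by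
    intro X hX
    have h1 := Subgroup.le_normalizer_map (H := X) H.subtype
    rw [Subgroup.normalizer_eq_top_iff.mpr hX, ← MonoidHom.range_eq_map,
      Subgroup.range_subtype] at h1
    exact h1
  refine ⟨K.map H.subtype, N.map H.subtype,
    ⟨Subgroup.map_mono hKN, Subgroup.map_subtype_le N, hnorm K hKn, hnorm N hNn, ⟨a, ?_⟩,
      ⟨N.index, ?_, hi⟩⟩, ?_⟩
  · rw [hcard, hcard, ha]
  · rw [hcard]; exact (Subgroup.card_mul_index N).symm
  · rw [hcard]; exact hK

/-- The test series `⊥ ≤ K ≤ N ≤ ⊤ ≤ ⊤ ≤ ⋯`. -/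
def ser3 {X : Type*} [Group X] (K N : Subgroup X) : ℕ → Subgroup X
  | 0 => ⊥
  | 1 => K
  | 2 => N
  | _ + 3 => ⊤

theorem plen_one_of_series {X : Type*} [Group X] [Finite X] (p : ℕ) [Fact p.Prime]
    (K N : Subgroup X) (hKn : K.Normal) (hNn : N.Normal) (hKN : K ≤ N)
    (hK : (Nat.card ↥K).Coprime p) (hN : ∃ a : ℕ, Nat.card ↥N = Nat.card ↥K * p ^ a)
    (hi : N.index.Coprime p) : PLengthLE p 1 X := by
  have key := Helper2.PLQ.le_upperPSeries_of_series p (ser3 K N) ?_ rfl ?_ ?_ 3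
  · exact top_le_iff.mp key
  · intro n
    rcases n with _ | _ | _ | n
    · show (⊥ : Subgroup X).Normal
      infer_instance
    · exact hKn
    · exact hNn
    · show (⊤ : Subgroup X).Normal
      infer_instance
  · intro n hn
    rcases n with _ | _ | _ | n
    · show ((⊥ : Subgroup X).relIndex K).Coprime p
      rw [Subgroup.relIndex_bot_left]; exact hK
    · exact absurd hn (by decide)
    · show (N.relIndex ⊤).Coprime p
      rw [Subgroup.relIndex_top_right]; exact hi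
    · show ((⊤ : Subgroup X).relIndex ⊤).Coprime p
      rw [Subgroup.relIndex_self]; exact Nat.coprime_one_left p
  · intro n hn
    rcases n with _ | _ | _ | n
    · exact absurd (by decide : Even 0) hn
    · obtain ⟨a, ha⟩ := hN
      refine ⟨a, ?_⟩
      show K.relIndex N = p ^ a
      have h1 := Subgroup.relIndex_mul_relIndex ⊥ K N bot_le hKN
      rw [Subgroup.relIndex_bot_left, Subgroup.relIndex_bot_left, ha] at h1
      exact Nat.eq_of_mul_eq_mul_left Nat.card_pos h1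
    · exact absurd (by decide : Even 2) hn
    · refine ⟨0, ?_⟩
      show (⊤ : Subgroup X).relIndex ⊤ = p ^ 0
      rw [Subgroup.relIndex_self, pow_zero]

theorem plen_of_ser [Finite G] (p : ℕ) [Fact p.Prime] {H K N : Subgroup G} (hs : Ser p H K N)
    (hK : (Nat.card ↥K).Coprime p) : PLengthLE p 1 ↥H := by
  have hKH : K ≤ H := hs.kn.trans hs.nh
  obtain ⟨a, ha⟩ := hs.cn
  obtain ⟨m, hm, hmp⟩ := hs.ch
  apply plen_one_of_series p (K.subgroupOf H) (N.subgroupOf H)
    ((Subgroup.normal_subgroupOf_iff_le_normalizer hKH).mpr hs.hk)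
    ((Subgroup.normal_subgroupOf_iff_le_normalizer hs.nh).mpr hs.hn)
  · intro x hx
    exact Subgroup.mem_subgroupOf.mpr (hs.kn (Subgroup.mem_subgroupOf.mp hx))
  · rw [card_subgroupOf_of_le hKH]; exact hK
  · exact ⟨a, by rw [card_subgroupOf_of_le hKH, card_subgroupOf_of_le hs.nh, ha]⟩
  · have h1 := Subgroup.card_mul_index (N.subgroupOf H)
    rw [card_subgroupOf_of_le hs.nh, hm] at h1
    have h2 : (N.subgroupOf H).index = m := Nat.eq_of_mul_eq_mul_left Nat.card_pos h1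
    rw [h2]; exact hmp

theorem ser_comap (p : ℕ) (M : Subgroup G) [M.Normal] {H : Subgroup G} (hMH : M ≤ H)
    {K N : Subgroup (G ⧸ M)} (hs : Ser p (H.map (QuotientGroup.mk' M)) K N) :
    Ser p H (K.comap (QuotientGroup.mk' M)) (N.comap (QuotientGroup.mk' M)) := by
  have hH : (H.map (QuotientGroup.mk' M)).comap (QuotientGroup.mk' M) = H := by
    rw [Subgroup.comap_map_eq, QuotientGroup.ker_mk', sup_eq_left.mpr hMH]
  obtain ⟨a, ha⟩ := hs.cn
  obtain ⟨m, hm, hmp⟩ := hs.ch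
  refine ⟨Subgroup.comap_mono hs.kn, ?_, ?_, ?_, ⟨a, ?_⟩, ⟨m, ?_, hmp⟩⟩
  · exact (Subgroup.comap_mono hs.nh).trans hH.le
  · exact (Subgroup.le_comap_map _ H).trans
      ((Subgroup.comap_mono hs.hk).trans (Subgroup.le_normalizer_comap _))
  · exact (Subgroup.le_comap_map _ H).trans
      ((Subgroup.comap_mono hs.hn).trans (Subgroup.le_normalizer_comap _))
  · rw [MaxPNil.card_comap_mk', MaxPNil.card_comap_mk', ha, mul_assoc]
  · have h1 := MaxPNil.card_comap_mk' M (H.map (QuotientGroup.mk' M))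
    rw [hH] at h1
    rw [h1, MaxPNil.card_comap_mk', hm, mul_assoc]

end general

/-- The inductive hypothesis: the theorem for all groups of order less than `n`. -/
def IHyp (p : ℕ) (n : ℕ) : Prop :=
  ∀ (X : Type u) [Group X] [Finite X] [Group.IsSolvable X], Nat.card X < n → Odd (Nat.card X) →
  ∀ (H R R₀ : Subgroup X) [H.Normal], (Nat.card ↥H).Coprime H.index →
    Subgroup.IsComplement' H R → R₀ ≤ R → (Nat.card ↥R₀).Prime →
    IsZGroup ↥(H ⊓ Subgroup.centralizer (R₀ : Set X)) → PLengthLE p 1 ↥⁅H, R⁆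

theorem sub_step (p : ℕ) [Fact p.Prime] {G : Type u} [Group G] [Finite G] [Group.IsSolvable G]
    (hodd : Odd (Nat.card G)) (ih : IHyp.{u} p (Nat.card G))
    (H R R₀ : Subgroup G) [H.Normal] (hHall : (Nat.card ↥H).Coprime H.index)
    (hR : Subgroup.IsComplement' H R) (hR₀ : R₀ ≤ R) (hR₀p : (Nat.card ↥R₀).Prime)
    (hZ : IsZGroup ↥(H ⊓ Subgroup.centralizer (R₀ : Set G)))
    (H₁ R₁ : Subgroup G) (h1 : H₁ ≤ H) (h2 : R₁ ≤ R) (h3 : R₀ ≤ R₁)
    (h4 : R₁ ≤ Subgroup.normalizer (H₁ : Set G)) (h5 : H₁ ⊔ R₁ ≠ ⊤) :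
    PLengthLE p 1 ↥⁅H₁, R₁⁆ := by
  have hdisj : Disjoint H₁ R₁ := hR.disjoint.mono h1 h2
  obtain ⟨hn, hc⟩ := Helper1.isComplement'_subgroupOf_sup h4 hdisj
  obtain ⟨L, hL⟩ : ∃ L : Subgroup G, L = H₁ ⊔ R₁ := ⟨_, rfl⟩
  rw [← hL] at hn hc h5
  have hH₁L : H₁ ≤ L := hL ▸ le_sup_left
  have hR₁L : R₁ ≤ L := hL ▸ le_sup_right
  have hR₀L : R₀ ≤ L := h3.trans hR₁L
  have hlt : Nat.card ↥L < Nat.card G := by
    by_contra hcon
    exact h5 (Subgroup.eq_top_of_le_card L (not_lt.mp hcon))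
  have hoddL : Odd (Nat.card ↥L) := hodd.of_dvd_nat (Subgroup.card_subgroup_dvd_card L)
  haveI := hn
  have hindex : H.index = Nat.card ↥R := hR.symm.index_eq_card
  have hHallL : (Nat.card ↥(H₁.subgroupOf L)).Coprime (H₁.subgroupOf L).index := by
    rw [hc.symm.index_eq_card, card_subgroupOf_of_le hH₁L, card_subgroupOf_of_le hR₁L]
    rw [hindex] at hHall
    exact Nat.Coprime.coprime_dvd_left (Subgroup.card_dvd_of_le h1)
      (Nat.Coprime.coprime_dvd_right (Subgroup.card_dvd_of_le h2) hHall)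
  have hle : R₀.subgroupOf L ≤ R₁.subgroupOf L := fun x hx =>
    Subgroup.mem_subgroupOf.mpr (h3 (Subgroup.mem_subgroupOf.mp hx))
  have hprime : (Nat.card ↥(R₀.subgroupOf L)).Prime := by
    rw [card_subgroupOf_of_le hR₀L]; exact hR₀p
  have hZL : IsZGroup ↥(H₁.subgroupOf L ⊓
      Subgroup.centralizer ((R₀.subgroupOf L : Subgroup ↥L) : Set ↥L)) := by
    apply isZGroup_of_map_le L.subtype L.subtype_injective _ _ _ hZ
    rintro _ ⟨x, hx, rfl⟩
    obtain ⟨hx1, hx2⟩ := Subgroup.mem_inf.mp hx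
    refine Subgroup.mem_inf.mpr ⟨h1 (Subgroup.mem_subgroupOf.mp hx1), ?_⟩
    rw [Subgroup.mem_centralizer_iff]
    intro r hr
    have hr' : (⟨r, hR₀L hr⟩ : ↥L) ∈ ((R₀.subgroupOf L : Subgroup ↥L) : Set ↥L) :=
      Subgroup.mem_subgroupOf.mpr hr
    have h6 := Subgroup.mem_centralizer_iff.mp hx2 _ hr'
    exact congrArg Subtype.val h6
  have key := ih ↥L hlt hoddL (H₁.subgroupOf L) (R₁.subgroupOf L) (R₀.subgroupOf L) hHallL hc
    hle hprime hZL
  rw [Helper1.commutator_subgroupOf hH₁L hR₁L] at key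
  have hcomm : ⁅H₁, R₁⁆ ≤ L :=
    (Subgroup.le_normalizer_iff_commutator_le_left.mp h4).trans hH₁L
  exact Helper2.PLQ.pLengthLE_of_mulEquiv p 1 (Subgroup.subgroupOfEquivOfLe hcomm) key

theorem quot_step (p : ℕ) [Fact p.Prime] {G : Type u} [Group G] [Finite G] [Group.IsSolvable G]
    (hodd : Odd (Nat.card G)) (ih : IHyp.{u} p (Nat.card G))
    (H R R₀ : Subgroup G) [H.Normal] (hHall : (Nat.card ↥H).Coprime H.index)
    (hR : Subgroup.IsComplement' H R) (hR₀ : R₀ ≤ R) (hR₀p : (Nat.card ↥R₀).Prime)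
    (hZ : IsZGroup ↥(H ⊓ Subgroup.centralizer (R₀ : Set G)))
    (N : Subgroup G) [N.Normal] (hNH : N ≤ H) (hN : N ≠ ⊥) :
    PLengthLE p 1 ↥((⁅H, R⁆).map (QuotientGroup.mk' N)) := by
  obtain ⟨π, hπ⟩ : ∃ π : G →* G ⧸ N, π = QuotientGroup.mk' N := ⟨_, rfl⟩
  have hsurj : Function.Surjective π := hπ ▸ QuotientGroup.mk'_surjective N
  have hker : π.ker = N := by rw [hπ]; exact QuotientGroup.ker_mk' N
  rw [← hπ]
  have hlt : Nat.card (G ⧸ N) < Nat.card G := MaxPNil.card_quot_lt N hN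
  have hoddQ : Odd (Nat.card (G ⧸ N)) :=
    hodd.of_dvd_nat (Dvd.intro _ (Subgroup.card_eq_card_quotient_mul_card_subgroup N).symm)
  haveI hHn : (H.map π).Normal := Subgroup.Normal.map inferInstance π hsurj
  have hindex : H.index = Nat.card ↥R := hR.symm.index_eq_card
  have hcopHR : (Nat.card ↥H).Coprime (Nat.card ↥R) := hindex ▸ hHall
  have hcop' : (Nat.card ↥(H.map π)).Coprime (Nat.card ↥(R.map π)) :=
    Nat.Coprime.coprime_dvd_left (Subgroup.card_map_dvd H π)
      (Nat.Coprime.coprime_dvd_right (Subgroup.card_map_dvd R π) hcopHR)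
  have hHallQ : (Nat.card ↥(H.map π)).Coprime (H.map π).index := by
    rw [Subgroup.index_map_eq H hsurj (hker.le.trans hNH)]
    exact Nat.Coprime.coprime_dvd_left (Subgroup.card_map_dvd H π) hHall
  have hsup : H.map π ⊔ R.map π = ⊤ := by
    rw [← Subgroup.map_sup, hR.sup_eq_top, Subgroup.map_top_of_surjective π hsurj]
  have hcompl : Subgroup.IsComplement' (H.map π) (R.map π) := by
    apply Subgroup.isComplement'_of_disjoint_and_mul_eq_univ
      (Subgroup.disjoint_of_coprime_natCard hcop')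
    rw [← Subgroup.normal_mul, hsup, Subgroup.coe_top]
  have hleQ : R₀.map π ≤ R.map π := Subgroup.map_mono hR₀
  have hR₀N : ¬ R₀ ≤ N := by
    intro hle
    have h1 : R₀ ≤ H ⊓ R := le_inf (hle.trans hNH) hR₀
    rw [hR.disjoint.eq_bot, le_bot_iff] at h1
    rw [h1, Subgroup.card_bot] at hR₀p
    exact Nat.not_prime_one hR₀p
  have hprimeQ : (Nat.card ↥(R₀.map π)).Prime := by
    rcases hR₀p.eq_one_or_self_of_dvd _ (Subgroup.card_map_dvd R₀ π) with h | h
    · exfalso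
      apply hR₀N
      rw [Subgroup.card_eq_one, Subgroup.map_eq_bot_iff, hker] at h
      exact h
    · rw [h]; exact hR₀p
  have hcopR₀ : (Nat.card ↥R₀).Coprime (Nat.card ↥H) :=
    (Nat.Coprime.coprime_dvd_right (Subgroup.card_dvd_of_le hR₀) hcopHR).symm
  have hnormH : ∀ X : Subgroup G, X ≤ Subgroup.normalizer (H : Set G) := fun X => by
    rw [Subgroup.normalizer_eq_top_iff.mpr inferInstance]; exact le_top
  have hnormN : ∀ X : Subgroup G, X ≤ Subgroup.normalizer (N : Set G) := fun X => by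
    rw [Subgroup.normalizer_eq_top_iff.mpr inferInstance]; exact le_top
  have hZle : H.map π ⊓ Subgroup.centralizer ((R₀.map π : Subgroup (G ⧸ N)) : Set (G ⧸ N)) ≤
      (H ⊓ Subgroup.centralizer (R₀ : Set G)).map π := by
    intro y hy
    obtain ⟨hy1, hy2⟩ := Subgroup.mem_inf.mp hy
    obtain ⟨k, hk, rfl⟩ := hy1
    have hfix : ∀ a ∈ R₀, a * k * a⁻¹ * k⁻¹ ∈ N := by
      intro a ha
      have h1 := Subgroup.mem_centralizer_iff.mp hy2 (π a) (Subgroup.mem_map_of_mem π ha)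
      rw [← hker, MonoidHom.mem_ker, map_mul, map_mul, map_mul, map_inv, map_inv, h1]
      group
    obtain ⟨c, hc, hkc⟩ := Helper1.coprime_fixed_points_quotient R₀ H (hnormH R₀) hcopR₀
      (Or.inl inferInstance) N hNH (hnormN H) (hnormN R₀) k hk hfix
    refine ⟨c, hc, ?_⟩
    have h2 : π (k⁻¹ * c) = 1 := by rw [← MonoidHom.mem_ker, hker]; exact hkc
    rw [map_mul, map_inv, inv_mul_eq_one] at h2
    exact h2.symm
  have hZQ : IsZGroup ↥(H.map π ⊓
      Subgroup.centralizer ((R₀.map π : Subgroup (G ⧸ N)) : Set (G ⧸ N))) := by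
    have h1 : IsZGroup ↥((H ⊓ Subgroup.centralizer (R₀ : Set G)).map π) := isZGroup_map π _ hZ
    exact isZGroup_of_map_le (MonoidHom.id _) (fun _ _ h => h) _ _
      (by rw [Subgroup.map_id]; exact hZle) h1
  have key := ih (G ⧸ N) hlt hoddQ (H.map π) (R.map π) (R₀.map π) hHallQ hcompl hleQ hprimeQ hZQ
  rw [← Subgroup.map_commutator] at key
  exact key

theorem frattini_case (p : ℕ) [Fact p.Prime] {G : Type u} [Group G] [Finite G]
    (H V : Subgroup G) [V.Normal] (hVH : V ≤ H) (hVp : IsPGroup p ↥V)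
    (hCV : H ⊓ Subgroup.centralizer (V : Set G) ≤ V)
    (Φ : Subgroup G) [Φ.Normal] (hΦ : Φ = (frattini ↥V).map V.subtype)
    (K' N' : Subgroup (G ⧸ Φ)) (hs : Ser p (H.map (QuotientGroup.mk' Φ)) K' N')
    (hK' : (Nat.card ↥K').Coprime p) : PLengthLE p 1 ↥H := by
  have hΦV : Φ ≤ V := by rw [hΦ]; exact Subgroup.map_subtype_le _
  have hΦH : Φ ≤ H := hΦV.trans hVH
  have hΦp : IsPGroup p ↥Φ := hVp.to_le hΦV
  have hs' := ser_comap p Φ hΦH hs
  obtain ⟨K, hK⟩ : ∃ K : Subgroup G, K = K'.comap (QuotientGroup.mk' Φ) := ⟨_, rfl⟩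
  obtain ⟨N, hN⟩ : ∃ N : Subgroup G, N = N'.comap (QuotientGroup.mk' Φ) := ⟨_, rfl⟩
  rw [← hK, ← hN] at hs'
  have hKcard : Nat.card ↥K = Nat.card ↥Φ * Nat.card ↥K' := by
    rw [hK]; exact MaxPNil.card_comap_mk' Φ K'
  have hKH : K ≤ H := hs'.kn.trans hs'.nh
  have hVK : V ⊓ K ≤ Φ := by
    intro y hy
    obtain ⟨hyV, hyK⟩ := Subgroup.mem_inf.mp hy
    have hyK' : QuotientGroup.mk' Φ y ∈ K' := by rw [hK] at hyK; exact hyK
    obtain ⟨k, hk⟩ := hVp ⟨y, hyV⟩
    have hk' : y ^ (p ^ k) = 1 := by simpa using congrArg Subtype.val hk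
    have h1 : (QuotientGroup.mk' Φ y) ^ (p ^ k) = 1 := by rw [← map_pow, hk', map_one]
    have h2 : (QuotientGroup.mk' Φ y) ^ (Nat.card ↥K') = 1 := by
      have h3 := pow_card_eq_one' (G := ↥K') (x := ⟨_, hyK'⟩)
      have h4 := congrArg Subtype.val h3
      rw [Subgroup.coe_pow, Subgroup.coe_one] at h4
      exact h4
    have h3 : orderOf (QuotientGroup.mk' Φ y) = 1 :=
      Nat.eq_one_of_dvd_coprimes (Nat.Coprime.pow_right k hK').symm
        (orderOf_dvd_of_pow_eq_one h1) (orderOf_dvd_of_pow_eq_one h2)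
    exact (QuotientGroup.eq_one_iff y).mp (orderOf_eq_one_iff.mp h3)
  have hK'1 : Nat.card ↥K' = 1 := by
    by_contra hne
    obtain ⟨q, hq, hqd⟩ := Nat.exists_prime_and_dvd hne
    haveI : Fact q.Prime := ⟨hq⟩
    have hqp : q ≠ p := by
      rintro rfl
      exact (Nat.Prime.coprime_iff_not_dvd hq).mp hK'.symm hqd
    have hqK : q ∣ Nat.card ↥K := by rw [hKcard]; exact Dvd.dvd.mul_left hqd _
    obtain ⟨x, hx⟩ := exists_prime_orderOf_dvd_card' q hqK
    have hxo : orderOf (x : G) = q := by rw [Subgroup.orderOf_coe]; exact hx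
    have hA : Subgroup.zpowers (x : G) ≤ K := by rw [Subgroup.zpowers_le]; exact x.2
    have hcent : Subgroup.zpowers (x : G) ≤ Subgroup.centralizer (V : Set G) := by
      apply Helper1.centralizes_of_trivial_on_frattini_quotient _ V
      · rw [Subgroup.normalizer_eq_top_iff.mpr inferInstance]; exact le_top
      · rw [Nat.card_zpowers, hxo]
        obtain ⟨c, hc⟩ := IsPGroup.iff_card.mp (hVp.to_subgroup (frattini ↥V))
        rw [hc]
        exact Nat.Coprime.pow_right c ((Nat.coprime_primes hq Fact.out).mpr hqp)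
      · intro a ha k hk
        rw [← hΦ]
        apply hVK
        refine Subgroup.mem_inf.mpr ⟨?_, ?_⟩
        · exact V.mul_mem (Subgroup.Normal.conj_mem inferInstance k hk a) (V.inv_mem hk)
        · have haK := hA ha
          have hkH := hVH hk
          have h1 : k * a⁻¹ * k⁻¹ ∈ K :=
            ((Subgroup.mem_normalizer_iff.mp (hs'.hk hkH)) a⁻¹).mp (K.inv_mem haK)
          have e : a * k * a⁻¹ * k⁻¹ = a * (k * a⁻¹ * k⁻¹) := by group
          rw [e]; exact K.mul_mem haK h1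
    have hxV : (x : G) ∈ V :=
      hCV (Subgroup.mem_inf.mpr ⟨hKH x.2, hcent (Subgroup.mem_zpowers _)⟩)
    obtain ⟨k, hk⟩ := (IsPGroup.iff_orderOf.mp hVp) ⟨x, hxV⟩
    rw [← Subgroup.orderOf_coe] at hk
    have hk' : q = p ^ k := by rw [← hxo]; exact hk
    have hqdp : q ∣ p := hq.dvd_of_dvd_pow hk'.dvd
    exact hqp ((Nat.prime_dvd_prime_iff_eq hq Fact.out).mp hqdp)
  obtain ⟨a, ha⟩ := hs'.cn
  obtain ⟨b, hb⟩ := IsPGroup.iff_card.mp hΦp
  have hKc : Nat.card ↥K = p ^ b := by rw [hKcard, hK'1, mul_one, hb]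
  have hNc : Nat.card ↥N = p ^ (b + a) := by rw [ha, hKc, pow_add]
  have hbn : H ≤ Subgroup.normalizer ((⊥ : Subgroup G) : Set G) := by
    rw [Subgroup.normalizer_eq_top_iff.mpr inferInstance]; exact le_top
  have hser : Ser p H ⊥ N :=
    ⟨bot_le, hs'.nh, hbn, hs'.hn, ⟨b + a, by rw [Subgroup.card_bot, one_mul, hNc]⟩, hs'.ch⟩
  exact plen_of_ser p hser (by rw [Subgroup.card_bot]; exact Nat.coprime_one_left p)

theorem main_step (hcore : Helper1.PL.CoreStatement.{u}) (p : ℕ) [Fact p.Prime]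
    {G : Type u} [Group G] [Finite G] [Group.IsSolvable G]
    (hodd : Odd (Nat.card G)) (ih : IHyp.{u} p (Nat.card G))
    (H R R₀ : Subgroup G) [H.Normal] (hHall : (Nat.card ↥H).Coprime H.index)
    (hR : Subgroup.IsComplement' H R) (hR₀ : R₀ ≤ R) (hR₀p : (Nat.card ↥R₀).Prime)
    (hZ : IsZGroup ↥(H ⊓ Subgroup.centralizer (R₀ : Set G))) :
    PLengthLE p 1 ↥⁅H, R⁆ := by
  have hindex : H.index = Nat.card ↥R := hR.symm.index_eq_card
  have hcopHR : (Nat.card ↥H).Coprime (Nat.card ↥R) := hindex ▸ hHall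
  have hnormH : ∀ X : Subgroup G, X ≤ Subgroup.normalizer (H : Set G) := fun X => by
    rw [Subgroup.normalizer_eq_top_iff.mpr inferInstance]; exact le_top
  by_cases hHR : ⁅H, R⁆ = H
  swap
  · have h1 : ⁅H, R⁆ ≤ H := Subgroup.commutator_le_left H R
    have h4 : R ≤ Subgroup.normalizer ((⁅H, R⁆ : Subgroup G) : Set G) :=
      Subgroup.normalizer_commutator_ge_right H R
    have h5 : ⁅H, R⁆ ⊔ R ≠ ⊤ := by
      intro htop
      have hd : Disjoint ⁅H, R⁆ R := hR.disjoint.mono_left h1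
      have hc := card_sup_of_normalizes h4 hd
      rw [htop, Subgroup.card_top, ← hR.card_mul_card] at hc
      have h6 : Nat.card ↥H = Nat.card ↥⁅H, R⁆ := Nat.eq_of_mul_eq_mul_right Nat.card_pos hc
      exact hHR (Subgroup.eq_of_le_of_card_ge h1 h6.le)
    have key := sub_step p hodd ih H R R₀ hHall hR hR₀ hR₀p hZ ⁅H, R⁆ R h1 le_rfl hR₀ h4 h5
    rw [Helper1.coprime_commutator_commutator R H (hnormH R) hcopHR.symm
      (Or.inr inferInstance)] at key
    exact key
  rw [hHR]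
  -- Step 3: `O_{p'}(H) = 1`
  haveI hchar1 : (pPrimeCore p ↥H).Characteristic := Helper2.pPrimeCore_characteristic p
  obtain ⟨N₀, hN₀⟩ : ∃ N₀ : Subgroup G, N₀ = (pPrimeCore p ↥H).map H.subtype := ⟨_, rfl⟩
  have hN₀n : N₀.Normal := by
    rw [← Subgroup.normalizer_eq_top_iff, eq_top_iff, hN₀]
    exact (hnormH ⊤).trans
      (Helper1.normalizer_le_normalizer_map_characteristic H (pPrimeCore p ↥H))
  have hN₀H : N₀ ≤ H := by rw [hN₀]; exact Subgroup.map_subtype_le _
  have hN₀c : (Nat.card ↥N₀).Coprime p := by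
    rw [hN₀, Subgroup.card_map_of_injective H.subtype_injective]
    exact Helper2.pPrimeCore_card_coprime p
  by_cases hN₀b : N₀ = ⊥
  swap
  · haveI := hN₀n
    have key := quot_step p hodd ih H R R₀ hHall hR hR₀ hR₀p hZ N₀ hN₀H hN₀b
    rw [hHR] at key
    obtain ⟨K, N, hs, hK⟩ := ser_of_plen p _ key
    have hs' := ser_comap p N₀ hN₀H hs
    apply plen_of_ser p hs'
    rw [MaxPNil.card_comap_mk']
    exact Nat.Coprime.mul_left hN₀c hK
  have hOp' : pPrimeCore p ↥H = ⊥ := by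
    rw [hN₀] at hN₀b
    exact (Subgroup.map_eq_bot_iff_of_injective _ H.subtype_injective).mp hN₀b
  -- Step 4: `V = O_p(H)`
  obtain ⟨V, hV⟩ : ∃ V : Subgroup G, V = (pCore p ↥H).map H.subtype := ⟨_, rfl⟩
  have hVn : V.Normal := by
    rw [← Subgroup.normalizer_eq_top_iff, eq_top_iff, hV]
    exact (hnormH ⊤).trans
      (Helper1.normalizer_le_normalizer_map_characteristic H (pCore p ↥H))
  have hVH : V ≤ H := by rw [hV]; exact Subgroup.map_subtype_le _
  have hVp : IsPGroup p ↥V := by rw [hV]; exact (Helper1.pCore_isPGroup p).map _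
  have hFV : Cfsg.fittingOf H = V := by
    rw [hV]; unfold Cfsg.fittingOf
    rw [Helper1.fittingSubgroup_eq_pCore_of_pPrimeCore_eq_bot p hOp']
  have hCV : H ⊓ Subgroup.centralizer (V : Set G) ≤ V := by
    have h1 := Helper1.XS.centralizer_fittingOf_le H inferInstance
    rw [hFV] at h1
    exact h1
  have hmaxV : ∀ P : Subgroup G, P ≤ H → IsPGroup p ↥P →
      H ≤ Subgroup.normalizer (P : Set G) → P ≤ V := by
    intro P hPH hPp hPn
    have h1 : (P.subgroupOf H).Normal :=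
      (Subgroup.normal_subgroupOf_iff_le_normalizer hPH).mpr hPn
    have h2 : IsPGroup p ↥(P.subgroupOf H) := hPp.comap_subtype
    have h3 := Helper1.le_pCore h1 h2
    intro x hx
    rw [hV]
    exact ⟨⟨x, hPH hx⟩, h3 (Subgroup.mem_subgroupOf.mpr hx), rfl⟩
  have hnormV : ∀ X : Subgroup G, X ≤ Subgroup.normalizer (V : Set G) := fun X => by
    rw [Subgroup.normalizer_eq_top_iff.mpr hVn]; exact le_top
  -- Step 5: `Φ(V) = 1`
  obtain ⟨Φ, hΦ⟩ : ∃ Φ : Subgroup G, Φ = (frattini ↥V).map V.subtype := ⟨_, rfl⟩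
  have hΦn : Φ.Normal := by
    rw [← Subgroup.normalizer_eq_top_iff, eq_top_iff, hΦ]
    exact (hnormV ⊤).trans
      (Helper1.normalizer_le_normalizer_map_characteristic V (frattini ↥V))
  have hΦV : Φ ≤ V := by rw [hΦ]; exact Subgroup.map_subtype_le _
  by_cases hΦb : Φ = ⊥
  swap
  · haveI := hΦn
    haveI := hVn
    have key := quot_step p hodd ih H R R₀ hHall hR hR₀ hR₀p hZ Φ (hΦV.trans hVH) hΦb
    rw [hHR] at key
    obtain ⟨K', N', hs, hK'⟩ := ser_of_plen p _ key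
    exact frattini_case p H V hVH hVp hCV Φ hΦ K' N' hs hK'
  have hfr : frattini ↥V = ⊥ := by
    rw [hΦ] at hΦb
    exact (Subgroup.map_eq_bot_iff_of_injective _ V.subtype_injective).mp hΦb
  have hcomm : ∀ a ∈ V, ∀ b ∈ V, a * b = b * a := by
    intro a ha b hb
    have h1 := Helper1.commutator_le_frattini_of_isPGroup p hVp
    rw [hfr, le_bot_iff] at h1
    have h2 : ⁅(⟨a, ha⟩ : ↥V), ⟨b, hb⟩⁆ ∈ commutator ↥V :=
      Subgroup.commutator_mem_commutator (Subgroup.mem_top _) (Subgroup.mem_top _)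
    rw [h1, Subgroup.mem_bot, commutatorElement_eq_one_iff_mul_comm] at h2
    exact congrArg Subtype.val h2
  have hexp : ∀ a ∈ V, a ^ p = 1 := by
    intro a ha
    have h1 := Helper1.pow_prime_mem_frattini_of_isPGroup p hVp ⟨a, ha⟩
    rw [hfr, Subgroup.mem_bot] at h1
    simpa using congrArg Subtype.val h1
  -- Step 6: the quotient by `V`
  by_cases hVb : V = ⊥
  · have hH1 : Nat.card ↥H = 1 := by
      rw [Subgroup.card_eq_one, eq_bot_iff]
      intro x hx
      have h1 : x ∈ V := by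
        apply hCV
        refine Subgroup.mem_inf.mpr ⟨hx, ?_⟩
        rw [hVb, Subgroup.mem_centralizer_iff]
        intro h hh
        have h2 : h = 1 := by simpa using hh
        rw [h2, one_mul, mul_one]
      rw [hVb] at h1
      exact h1
    exact Helper2.PLQ.pLengthLE_mono p (Nat.zero_le 1)
      (Helper2.PLQ.pLengthLE_zero_of_coprime p (by rw [hH1]; exact Nat.coprime_one_left p))
  haveI := hVn
  have hq := quot_step p hodd ih H R R₀ hHall hR hR₀ hR₀p hZ V hVH hVb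
  rw [hHR] at hq
  exact hcore G hodd H R R₀ V p hHall hR hR₀ hR₀p hZ hHR hVH hcomm hexp hCV hmaxV
    (fun H₁ R₁ a1 a2 a3 a4 a5 =>
      sub_step p hodd ih H R R₀ hHall hR hR₀ hR₀p hZ H₁ R₁ a1 a2 a3 a4 a5) hq

theorem main_aux (hcore : Helper1.PL.CoreStatement.{u}) (p : ℕ) [Fact p.Prime] :
    ∀ n : ℕ, IHyp.{u} p n := by
  intro n
  induction n using Nat.strong_induction_on with
  | _ n ih =>
    intro X _ _ _ hlt hoddX H R R₀ _ hHall hR hR₀ hR₀p hZ
    have ih' : IHyp.{u} p (Nat.card X) := ih (Nat.card X) hlt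
    exact main_step hcore p hoddX ih' H R R₀ hHall hR hR₀ hR₀p hZ

/-- The `p`-length theorem for `[H, R]` follows from its core case. -/
theorem main_of_core (hcore : Helper1.PL.CoreStatement.{u}) :
    ∀ (G : Type u) [Group G] [Finite G] [Group.IsSolvable G], Odd (Nat.card G) →
    ∀ (H R R₀ : Subgroup G) [H.Normal], (Nat.card ↥H).Coprime H.index →
      Subgroup.IsComplement' H R → R₀ ≤ R → (Nat.card ↥R₀).Prime →
      IsZGroup ↥(H ⊓ Subgroup.centralizer (R₀ : Set G)) →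
      ∀ (p : ℕ) [Fact p.Prime], PLengthLE p 1 ↥⁅H, R⁆ := by
  intro G _ _ _ hodd H R R₀ _ hHall hR hR₀ hR₀p hZ p _
  exact main_aux hcore p (Nat.card G + 1) G (Nat.lt_succ_self _) hodd H R R₀ hHall hR hR₀
    hR₀p hZ

end Cfsg.Agent.Lib.Lead.PLMain
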