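import Mathlib
import Cfsg.Agent.Lib.Helper7.BGE1
import Cfsg.Agent.Lib.Helper3.BG12a
import Cfsg.Agent.Lib.Lead.NilpotentCoprime
import Cfsg.Agent.S1414
import Cfsg.Agent.S1409

set_option autoImplicit false
set_option maxHeartbeats 1000000
set_option linter.unusedVariables false
set_option linter.unusedSectionVars false
set_option linter.style.longLine false
set_option linter.unusedSimpArgs false
set_option linter.style.haveILetI false
set_option linter.deprecated false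

/-!
# B&G section 13 (prime action), engine lemmas

General tools used for S1427 (Corollary 13.3(a)) and later rows: a `q`-subgroup `X` of `M_σ`
(`q ∈ σ(M)`) and a `q'`-group `S` normalizing it, both inside `L_σ` for a maximal subgroup `L ≠ M`,
commute (`engine`).
-/

open scoped commutatorElement Pointwise
universe u
namespace Cfsg.Agent.Lib.Lead.BGM

open Cfsg Cfsg.Agent.Lib.Helper1 Cfsg.Agent.Lib.Helper7 Cfsg.Agent.Lib.Helper7.BGRows

variable {G : Type u} [Group G] [Finite G]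

/-- an element killed by `n` lies in every normal subgroup of index coprime to `n` -/
theorem mem_of_coprime_index {K : Type*} [Group K] [Finite K] (N : Subgroup K) [N.Normal] {s : K}
    {n : ℕ} (hs : s ^ n = 1) (hcop : n.Coprime N.index) : s ∈ N := by
  rw [← QuotientGroup.eq_one_iff (N := N), ← orderOf_eq_one_iff]
  have h1 : orderOf (QuotientGroup.mk s : K ⧸ N) ∣ n := by
    apply orderOf_dvd_of_pow_eq_one
    rw [← QuotientGroup.mk_pow, hs, QuotientGroup.mk_one]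
  have h2 : orderOf (QuotientGroup.mk s : K ⧸ N) ∣ N.index := by
    rw [Subgroup.index_eq_card]
    exact orderOf_dvd_natCard _
  exact Nat.eq_one_of_dvd_coprimes hcop h1 h2

/-- powers of a product `x s` with `s` normalizing `X ∋ x` -/
theorem pow_mul_mem {X : Subgroup G} {x s : G} (hx : x ∈ X)
    (hs : ∀ n : ℕ, s ^ n ∈ Subgroup.normalizer (X : Set G)) :
    ∀ n : ℕ, ∃ x' ∈ X, (x * s) ^ n = x' * s ^ n := by
  intro n
  induction n with
  | zero => exact ⟨1, X.one_mem, by simp⟩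
  | succ n ih =>
    obtain ⟨x', hx', h⟩ := ih
    have h1 : s ^ n * x * (s ^ n)⁻¹ ∈ X := ((Subgroup.mem_normalizer_iff.mp (hs n)) x).mp hx
    refine ⟨x' * (s ^ n * x * (s ^ n)⁻¹), X.mul_mem hx' h1, ?_⟩
    rw [pow_succ, h, pow_succ]
    group

/-- the prime divisors of `|X S|` for a `q`-group `X` normalized by a `p`-group `S` -/
theorem prime_dvd_card_sup {q p : ℕ} [hq : Fact q.Prime] [hp : Fact p.Prime] {X S : Subgroup G}
    (hX : IsPGroup q X) (hS : IsPGroup p S) (hSX : S ≤ Subgroup.normalizer (X : Set G)) {r : ℕ}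
    (hr : r.Prime) (hrd : r ∣ Nat.card (X ⊔ S : Subgroup G)) : r = q ∨ r = p := by
  haveI : Fact r.Prime := ⟨hr⟩
  obtain ⟨y, hy⟩ := exists_prime_orderOf_dvd_card' (G := ↥(X ⊔ S : Subgroup G)) r hrd
  have hmem : (y : G) ∈ ((X ⊔ S : Subgroup G) : Set G) := y.2
  rw [Subgroup.coe_mul_of_right_le_normalizer_left X S hSX] at hmem
  obtain ⟨x, hx, s, hs, hxs⟩ := Set.mem_mul.mp hmem
  obtain ⟨k, hk⟩ := hS ⟨s, hs⟩
  have hk' : s ^ (p ^ k) = 1 := by
    have := congrArg Subtype.val hk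
    simpa using this
  obtain ⟨x', hx', h1⟩ := pow_mul_mem hx (fun n => hSX (S.pow_mem hs n)) (p ^ k)
  rw [hk', mul_one] at h1
  obtain ⟨m, hm⟩ := hX ⟨x', hx'⟩
  have hm' : x' ^ (q ^ m) = 1 := by
    have := congrArg Subtype.val hm
    simpa using this
  have h2 : (y : G) ^ (p ^ k * q ^ m) = 1 := by
    rw [← hxs, pow_mul, h1, hm']
  have h3 : orderOf (y : G) ∣ p ^ k * q ^ m := orderOf_dvd_of_pow_eq_one h2
  rw [Subgroup.orderOf_coe, hy] at h3
  rcases (Nat.Prime.dvd_mul hr).mp h3 with h | h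
  · right
    exact (Nat.prime_dvd_prime_iff_eq hr hp.out).mp (hr.dvd_of_dvd_pow h)
  · left
    exact (Nat.prime_dvd_prime_iff_eq hr hq.out).mp (hr.dvd_of_dvd_pow h)

/-- every `σ(H)'`-subgroup of a maximal subgroup `H` lies in a complement of `H_σ` -/
theorem exists_compl_ge (hG : IsMinSimpleOddOrder G) {H : Subgroup G} (hH : IsCoatom H)
    {K : Subgroup G} (hKH : K ≤ H) (hK : ∀ r : ℕ, r.Prime → r ∣ Nat.card K → r ∉ sigma H) :
    ∃ E : Subgroup G, IsComplIn E (sigmaCore H) H ∧ K ≤ E := by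
  classical
  obtain ⟨hHall, -, -⟩ := BGA.s1350 hG H hH
  have hcard : Nat.card (piCore (sigma H) ↥H) = Nat.card (sigmaCore H) :=
    (Subgroup.card_map_of_injective H.subtype_injective).symm
  have hidx : (sigmaCore H).relIndex H = (piCore (sigma H) ↥H).index := by
    unfold Subgroup.relIndex Subgroup.subgroupOf sigmaCore
    rw [Subgroup.comap_map_eq_self_of_injective H.subtype_injective]
  have hcop : (Nat.card (piCore (sigma H) ↥H)).Coprime (piCore (sigma H) ↥H).index := by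
    by_contra hc
    obtain ⟨r, hr, hr1, hr2⟩ := Nat.Prime.not_coprime_iff_dvd.mp hc
    rw [hcard] at hr1
    rw [← hidx] at hr2
    exact hHall.2.2 r hr (hHall.2.1 r hr hr1) hr2
  obtain ⟨E₀, hE₀⟩ := Subgroup.exists_left_complement'_of_coprime hcop
  have hE : IsComplIn (E₀.map H.subtype) (sigmaCore H) H := by
    refine ⟨Subgroup.map_subtype_le _, BGE.sigmaCore_le H, ?_, ?_⟩
    · rw [eq_bot_iff]
      rintro x ⟨⟨e, he, rfl⟩, ⟨n, hn, hne⟩⟩
      have h1 : n = e := Subtype.ext hne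
      rw [h1] at hn
      have h2 : e ∈ E₀ ⊓ piCore (sigma H) ↥H := ⟨he, hn⟩
      rw [hE₀.disjoint.eq_bot, Subgroup.mem_bot] at h2
      rw [Subgroup.mem_bot, h2]
      rfl
    · intro m hm
      obtain ⟨⟨e, n⟩, hen, -⟩ := Subgroup.IsComplement.existsUnique hE₀ ⟨m, hm⟩
      refine ⟨e.1, Subgroup.mem_map_of_mem _ e.2, n.1, Subgroup.mem_map_of_mem _ n.2, ?_⟩
      have := congrArg Subtype.val hen
      simpa using this.symm
  obtain ⟨m, hm, hKm⟩ := BGD.exists_cj_le hG hH hE hKH (BGD.coprime_sigmaCore hG hH hK)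
  exact ⟨BG7.cj m (E₀.map H.subtype), BGD.isComplIn_cj hE (BGE.le_normalizer_sigmaCore H) hm, hKm⟩

/-- for `q ∈ σ(M)`, rank `≥ 3` in `G` gives rank `≥ 3` in `M` -/
theorem not_pRankLE_of_sigma (hG : IsMinSimpleOddOrder G) {M : Subgroup G} (hM : IsCoatom M)
    {q : ℕ} [hq : Fact q.Prime] (hqσ : q ∈ sigma M) (hr : ¬ PRankLE q 2 G) :
    ¬ PRankLE q 2 ↥M := by
  unfold PRankLE at hr
  push Not at hr
  obtain ⟨B, hBc, hBe, hBcard⟩ := hr
  have hBel : IsElementaryAbelian q B := ⟨hBc, hBe⟩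
  have hBp : IsPGroup q B := BG9.isPGroup_of_isElementaryAbelian hBel
  obtain ⟨Q, hQ, -⟩ := BT.exists_isMaxP_ge (p := q) (Y := ⊥) (H := M) IsPGroup.of_bot bot_le
  obtain ⟨-, hQtop, -⟩ := BT.sigma_sylow_le_commutator hG hM hqσ hQ
  obtain ⟨m, -, hBm⟩ := BT.exists_cj_ge hQtop hBp le_top
  have h1 : BG7.cj m⁻¹ B ≤ M := by
    have := BG7.cj_mono (k := m⁻¹) hBm
    rw [BG7.cj_inv_cj] at this
    exact this.trans hQ.1
  obtain ⟨n, hn⟩ := IsPGroup.iff_card.mp hBp
  have hn3 : 3 ≤ n := by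
    rw [hn] at hBcard
    by_contra h
    have h2 : n ≤ 2 := by omega
    have := Nat.pow_le_pow_right hq.out.pos h2
    omega
  apply BG9.not_pRankLE_of_elementary hq.out h1 (BG9.isElementaryAbelian_cj m⁻¹ hBel)
  rw [BG7.card_cj, hn]
  exact Nat.pow_le_pow_right hq.out.pos hn3

/-- if `q ∈ σ(M) ∩ σ(H)` and `H_σ` is nilpotent then `H` is conjugate into `M` -/
theorem exists_cj_le_of_common_sigma (hG : IsMinSimpleOddOrder G) {M H : Subgroup G}
    (hM : IsCoatom M) (hH : IsCoatom H) {q : ℕ} [hq : Fact q.Prime] (hqM : q ∈ sigma M)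
    (hqH : q ∈ sigma H) (hnil : Group.IsNilpotent ↥(sigmaCore H)) : ∃ g : G, BG7.cj g H ≤ M := by
  obtain ⟨QH, hQH, -⟩ := BT.exists_isMaxP_ge (p := q) (Y := ⊥) (H := H) IsPGroup.of_bot bot_le
  obtain ⟨-, hQHtop, -⟩ := BT.sigma_sylow_le_commutator hG hH hqH hQH
  have hQHσ : QH ≤ sigmaCore H := BGE.qsub_le_sigmaCore hG hH hqH hQH.2.1 hQH.1
  have hQH1 : QH ≠ ⊥ := by
    intro h
    have h1 := hQHtop.not_dvd_index
    rw [h, Subgroup.index_bot] at h1
    exact h1 (hqH.2.1.trans (Subgroup.card_subgroup_dvd_card _))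
  have hcop : (Nat.card QH).Coprime (QH.relIndex (sigmaCore H)) := by
    obtain ⟨n, hn⟩ := IsPGroup.iff_card.mp hQH.2.1
    rw [hn]
    apply Nat.Coprime.pow_left
    rw [Nat.Prime.coprime_iff_not_dvd hq.out]
    intro h
    apply hQHtop.not_dvd_index
    rw [← Subgroup.relIndex_mul_index hQHσ]
    exact h.mul_right _
  have hnorm : H ≤ Subgroup.normalizer (QH : Set G) := by
    intro h hh
    apply Cfsg.Agent.Lib.Helper3.T37.mem_normalizer_of_cj_le
    refine BGB.hall_nilpotent_le hnil hQHσ ?_ hcop (by rw [BG7.card_cj])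
    have h1 : BG7.cj h (sigmaCore H) = sigmaCore H :=
      Cfsg.Agent.Lib.Helper3.T37.cj_of_mem_normalizer (BGE.le_normalizer_sigmaCore H hh)
    rw [← h1]
    exact BG7.cj_mono hQHσ
  have hNH : Subgroup.normalizer (QH : Set G) = H :=
    BG8.normalizer_eq_of_coatom hG hH hQH.1 hQH1 hnorm
  obtain ⟨QM, hQM, -⟩ := BT.exists_isMaxP_ge (p := q) (Y := ⊥) (H := M) IsPGroup.of_bot bot_le
  obtain ⟨-, hQMtop, hNQM⟩ := BT.sigma_sylow_le_commutator hG hM hqM hQM
  obtain ⟨g, -, hg⟩ := BT.isMaxP_conj hQHtop hQMtop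
  refine ⟨g, ?_⟩
  rw [← hNH, BT.cj_normalizer, ← hg]
  exact hNQM

/-- `S` normalizes `[X, S]` when it normalizes `X` -/
theorem le_normalizer_commutator' {X S : Subgroup G} (hSX : S ≤ Subgroup.normalizer (X : Set G)) :
    S ≤ Subgroup.normalizer ((⁅X, S⁆ : Subgroup G) : Set G) := by
  intro s hs
  apply BG7.mem_normalizer_of_cj_eq
  have h1 : X.map (MulAut.conj s).toMonoidHom = X :=
    Cfsg.Agent.Lib.Helper3.T37.cj_of_mem_normalizer (hSX hs)
  have h2 : S.map (MulAut.conj s).toMonoidHom = S :=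
    Cfsg.Agent.Lib.Helper3.T37.cj_of_mem_normalizer (Subgroup.le_normalizer hs)
  unfold BG7.cj
  rw [Subgroup.map_commutator, h1, h2]

/-- a subgroup containing a Sylow subgroup of `K` for every prime is all of `K` -/
theorem eq_of_sylow_le {K D : Subgroup G} (hDK : D ≤ K)
    (h : ∀ (q : ℕ) [Fact q.Prime], ∃ P : Sylow q ↥K, (P : Subgroup ↥K).map K.subtype ≤ D) :
    D = K := by
  apply Subgroup.eq_of_le_of_card_ge hDK
  apply Nat.le_of_dvd Nat.card_pos
  rw [← Nat.factorization_prime_le_iff_dvd Nat.card_pos.ne' Nat.card_pos.ne']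
  intro q hq
  haveI : Fact q.Prime := ⟨hq⟩
  obtain ⟨P, hP⟩ := h q
  have h1 : Nat.card ((P : Subgroup ↥K).map K.subtype) = q ^ (Nat.card K).factorization q := by
    rw [Subgroup.card_map_of_injective K.subtype_injective]
    exact P.card_eq_multiplicity
  have h2 : q ^ (Nat.card K).factorization q ∣ Nat.card D := h1 ▸ Subgroup.card_dvd_of_le hP
  exact (hq.pow_dvd_iff_le_factorization Nat.card_pos.ne').mp h2

/-- **Engine.**  `M ≠ L` maximal, `q ∈ σ(M)`, `X ≤ M` a `q`-group and `S` a `p`-group (`p ≠ q`)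
normalizing `X`, with `X, S ≤ L_σ`.  Then `X` and `S` commute elementwise. -/
theorem engine (hG : IsMinSimpleOddOrder G) {M L : Subgroup G} (hM : IsCoatom M) (hL : IsCoatom L)
    (hne : M ≠ L) (h1423 : Row1423 G) {q p : ℕ} [hq : Fact q.Prime] [hp : Fact p.Prime]
    (hpq : p ≠ q) (hqσ : q ∈ sigma M) {X S : Subgroup G} (hXM : X ≤ M) (hX : IsPGroup q X)
    (hS : IsPGroup p S) (hSX : S ≤ Subgroup.normalizer (X : Set G)) (hXL : X ≤ sigmaCore L)
    (hSL : S ≤ sigmaCore L) : ∀ x ∈ X, ∀ s ∈ S, x * s = s * x := by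
  classical
  by_cases hX1 : X = ⊥
  · intro x hx s _
    rw [hX1] at hx
    rw [Subgroup.mem_bot.mp hx, one_mul, mul_one]
  obtain ⟨hHallL, -, -⟩ := BGA.s1350 hG L hL
  have hqX : q ∣ Nat.card X := BG8.dvd_card_of_isPGroup_ne_bot hX hX1
  have hqσL : q ∈ sigma L := hHallL.2.1 q hq.out (hqX.trans (Subgroup.card_dvd_of_le hXL))
  by_cases hqβ : q ∈ beta L
  · exfalso
    obtain ⟨y, hy⟩ := exists_prime_orderOf_dvd_card' (G := ↥X) q hqX
    have hX₁X : Subgroup.zpowers (y : G) ≤ X := Subgroup.zpowers_le.mpr y.2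
    have hX₁c : Nat.card (Subgroup.zpowers (y : G)) = q := by
      rw [Nat.card_zpowers, Subgroup.orderOf_coe, hy]
    have hqβM : q ∈ beta M := ⟨⟨hq.out, not_pRankLE_of_sigma hG hM hqσ hqβ.2.2.1⟩, hqβ.2⟩
    obtain ⟨PM⟩ : Nonempty (Sylow q ↥(sigmaCore M)) := inferInstance
    obtain ⟨PL⟩ : Nonempty (Sylow q ↥(sigmaCore L)) := inferInstance
    obtain ⟨⟨hCM, -⟩, -, -⟩ :=
      h1423 hG M hM q hqσ (Subgroup.zpowers (y : G)) (hX₁X.trans hXM) hX₁c PM (Or.inl hqβM)
    obtain ⟨⟨-, huniq⟩, -, -⟩ :=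
      h1423 hG L hL q hqσL (Subgroup.zpowers (y : G))
        (hX₁X.trans (hXL.trans (BGE.sigmaCore_le L))) hX₁c PL (Or.inl hqβ)
    exact hne (huniq M hM hCM)
  · have hqL : q ∣ Nat.card L := hqσL.2.1
    obtain ⟨-, -, -, -, h5⟩ := Cfsg.Agent.S1414.result hG L hL
    obtain ⟨-, ⟨P, N, hNn, hNc⟩, -⟩ := h5 q hq.out hqL hqβ
    haveI := hNn
    have hidx : N.index = Nat.card (P : Subgroup ↥(sigmaCore L)) := hNc.symm.index_eq_card
    have hNq : q.Coprime (Nat.card N) := by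
      rw [Nat.Prime.coprime_iff_not_dvd hq.out]
      intro hdvd
      have h1 := hNc.card_mul_card
      have h2 := P.card_eq_multiplicity
      have h3 : q ^ ((Nat.card ↥(sigmaCore L)).factorization q + 1) ∣ Nat.card ↥(sigmaCore L) := by
        have h4 := Nat.mul_dvd_mul_left (Nat.card (P : Subgroup ↥(sigmaCore L))) hdvd
        rw [mul_comm _ (Nat.card ↥N), h1, h2] at h4
        rw [pow_succ]
        exact h4
      exact Nat.pow_succ_factorization_not_dvd Nat.card_pos.ne' hq.out h3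
    intro x hx s hs
    obtain ⟨x', hx'⟩ : ∃ x' : ↥(sigmaCore L), (x' : G) = x := ⟨⟨x, hXL hx⟩, rfl⟩
    obtain ⟨s', hs'⟩ : ∃ s' : ↥(sigmaCore L), (s' : G) = s := ⟨⟨s, hSL hs⟩, rfl⟩
    have hs'N : s' ∈ N := by
      obtain ⟨k, hk⟩ := hS ⟨s, hs⟩
      have hk0 : s ^ (p ^ k) = 1 := by
        have := congrArg Subtype.val hk
        simpa using this
      have hsk : s' ^ (p ^ k) = 1 := by
        apply Subtype.ext
        rw [Subgroup.coe_pow, hs', hk0]
        rfl
      apply mem_of_coprime_index N hsk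
      rw [hidx, P.card_eq_multiplicity]
      exact Nat.Coprime.pow _ _ ((Nat.coprime_primes hp.out hq.out).mpr hpq)
    have hcN : x' * s' * x'⁻¹ * s'⁻¹ ∈ N := N.mul_mem (hNn.conj_mem s' hs'N x') (N.inv_mem hs'N)
    have hcX : x * s * x⁻¹ * s⁻¹ ∈ X := by
      have h1 : s * x⁻¹ * s⁻¹ ∈ X :=
        ((Subgroup.mem_normalizer_iff.mp (hSX hs)) x⁻¹).mp (X.inv_mem hx)
      have : x * s * x⁻¹ * s⁻¹ = x * (s * x⁻¹ * s⁻¹) := by group
      rw [this]
      exact X.mul_mem hx h1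
    have hval : ((x' * s' * x'⁻¹ * s'⁻¹ : ↥(sigmaCore L)) : G) = x * s * x⁻¹ * s⁻¹ := by
      simp [hx', hs']
    have hc1 : x * s * x⁻¹ * s⁻¹ = 1 := by
      obtain ⟨k, hk⟩ := hX ⟨_, hcX⟩
      have hk0 : (x * s * x⁻¹ * s⁻¹) ^ (q ^ k) = 1 := by
        have := congrArg Subtype.val hk
        simpa using this
      have hk' : (x' * s' * x'⁻¹ * s'⁻¹) ^ (q ^ k) = 1 := by
        apply Subtype.ext
        rw [Subgroup.coe_pow, hval, hk0]
        rfl
      have h1 : orderOf (x' * s' * x'⁻¹ * s'⁻¹) ∣ q ^ k := orderOf_dvd_of_pow_eq_one hk'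
      have h2 : orderOf (x' * s' * x'⁻¹ * s'⁻¹) ∣ Nat.card N := Subgroup.orderOf_dvd_natCard N hcN
      have h3 : (q ^ k).Coprime (Nat.card N) := Nat.Coprime.pow_left k hNq
      have h4 := orderOf_eq_one_iff.mp (Nat.eq_one_of_dvd_coprimes h3 h1 h2)
      rw [← hval, h4]
      rfl
    calc x * s = (x * s * x⁻¹ * s⁻¹) * (s * x) := by group
      _ = s * x := by rw [hc1, one_mul]

end Cfsg.Agent.Lib.Lead.BGM
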