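import Mathlib
import Cfsg.Agent.Lib.Lead.BGM1
import Cfsg.Agent.Lib.Helper1.Rk3

set_option autoImplicit false
set_option maxHeartbeats 1000000
set_option linter.unusedVariables false
set_option linter.unusedSectionVars false
set_option linter.style.longLine false
set_option linter.unusedSimpArgs false
set_option linter.style.haveILetI false
set_option linter.deprecated false

/-!
# B&G Corollary 13.3(a) (S1427) from the rows S1417, S1418, S1423

`lemmaD` is the core of B&G 13.2(a): a `p`-subgroup `S` of `M` (`p ∉ σ(M)`, `M` of `p`-rank one)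
centralizes every `S`-invariant `q`-subgroup of `M_σ ∩ H`, for `H` maximal with `p ∈ σ(H) ∪ τ₂(H)`.
-/

open scoped commutatorElement Pointwise
universe u
namespace Cfsg.Agent.Lib.Lead.BGM

open Cfsg Cfsg.Agent.Lib.Helper1 Cfsg.Agent.Lib.Helper7 Cfsg.Agent.Lib.Helper7.BGRows

variable {G : Type u} [Group G] [Finite G]

theorem not_sigma_of_sq {p r : ℕ} (hp : p.Prime) {A L : Subgroup G} (hA2 : Nat.card A = p ^ 2)
    (hpL : p ∉ sigma L) (hr : r.Prime) (hrd : r ∣ Nat.card A) : r ∉ sigma L := by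
  rw [hA2] at hrd
  have := (Nat.prime_dvd_prime_iff_eq hr hp).mp (hr.dvd_of_dvd_pow hrd)
  rw [this]
  exact hpL

theorem lemmaD (hG : IsMinSimpleOddOrder G) {M H : Subgroup G} (hM : IsCoatom M) (hH : IsCoatom H)
    (h1417 : Row1417 G) (h1418 : Row1418 G) (h1423 : Row1423 G)
    {q p : ℕ} [hq : Fact q.Prime] [hp : Fact p.Prime] (hpσ : p ∉ sigma M) (hqσ : q ∈ sigma M)
    (hno : ∀ A : Subgroup G, A ≤ M → IsElementaryAbelian p A → Nat.card A = p ^ 2 → False)
    {X S : Subgroup G} (hXM : X ≤ M) (hX : IsPGroup q X) (hS : IsPGroup p S)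
    (hSX : S ≤ Subgroup.normalizer (X : Set G)) (hXH : X ≤ H) (hSH : S ≤ H)
    (hpH : p ∈ sigma H ∨ p ∈ tau2 H) : ∀ x ∈ X, ∀ s ∈ S, x * s = s * x := by
  classical
  have hpq : p ≠ q := fun h => hpσ (h ▸ hqσ)
  have hL : ∃ L : Subgroup G, IsCoatom L ∧ p ∈ sigma L ∧ S ≤ L ∧ X ≤ L := by
    rcases hpH with hpH | hpτ
    · exact ⟨H, hH, hpH, hSH, hXH⟩
    · obtain ⟨hpp, hpσH, hr2, hr1⟩ := hpτ
      obtain ⟨A₀, hA₀H, hA₀e, hA₀2⟩ := BGD.exists_sq_of_rank hr2 hr1
      by_cases hqH : q ∈ sigma H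
      · exfalso
        have hnil := (h1417 hG H hH p ⟨hpp, hpσH, hr2, hr1⟩ A₀ ⟨hA₀H, hA₀e, hA₀2⟩).1
        obtain ⟨g, hg⟩ := exists_cj_le_of_common_sigma hG hM hH hqσ hqH hnil
        exact hno (BG7.cj g A₀) ((BG7.cj_mono hA₀H).trans hg)
          (BG9.isElementaryAbelian_cj g hA₀e) (by rw [BG7.card_cj, hA₀2])
      · have hK : ∀ r : ℕ, r.Prime → r ∣ Nat.card (X ⊔ S : Subgroup G) → r ∉ sigma H := by
          intro r hr hrd
          rcases prime_dvd_card_sup hX hS hSX hr hrd with h | h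
          · rw [h]; exact hqH
          · rw [h]; exact hpσH
        obtain ⟨EH, hEH, hKE⟩ := exists_compl_ge hG hH (sup_le hXH hSH) hK
        have hcopA : (Nat.card A₀).Coprime (Nat.card (sigmaCore H)) :=
          BGD.coprime_sigmaCore hG hH (fun r hr hrd => not_sigma_of_sq hpp hA₀2 hpσH hr hrd)
        obtain ⟨m, hm, hAm⟩ := BGD.exists_cj_le hG hH hEH hA₀H hcopA
        have hAE : BG7.cj m⁻¹ A₀ ≤ EH := by
          have := BG7.cj_mono (k := m⁻¹) hAm
          rwa [BG7.cj_inv_cj] at this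
        have hAe : IsElementaryAbelian p (BG7.cj m⁻¹ A₀) := BG9.isElementaryAbelian_cj m⁻¹ hA₀e
        have hA2 : Nat.card (BG7.cj m⁻¹ A₀) = p ^ 2 := by rw [BG7.card_cj, hA₀2]
        obtain ⟨⟨hEN, -⟩, -, -⟩ :=
          h1418 hG H hH EH hEH p ⟨hpp, hpσH, hr2, hr1⟩ (BG7.cj m⁻¹ A₀) ⟨hAE, hAe, hA2⟩
        have hA1 : BG7.cj m⁻¹ A₀ ≠ ⊥ := Cfsg.Agent.Lib.Helper3.BG12.ne_bot_of_card_sq hpp hA2
        have hAtop : BG7.cj m⁻¹ A₀ ≠ ⊤ := fun h => hH.1 (top_le_iff.mp (h ▸ (hAE.trans hEH.1)))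
        obtain ⟨L, hL, hNL⟩ :=
          (eq_top_or_exists_le_coatom _).resolve_left (BG7.normalizer_ne_top hG hA1 hAtop)
        have hAL : BG7.cj m⁻¹ A₀ ≤ L := Subgroup.le_normalizer.trans hNL
        have hpL : p ∈ sigma L := by
          by_contra hpL
          have hr1L : ¬ PRankLE p 1 ↥L :=
            BG9.not_pRankLE_of_elementary hpp hAL hAe (by rw [hA2])
          have hr2L : PRankLE p 2 ↥L := by
            by_contra h
            exact hpL (BT.alpha_subset_sigma hG hL ⟨hpp, h⟩)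
          obtain ⟨EL, hEL, hAEL⟩ := exists_compl_ge hG hL hAL
            (fun r hr hrd => not_sigma_of_sq hpp hA2 hpL hr hrd)
          obtain ⟨-, ⟨-, -, hnot⟩, -⟩ :=
            h1418 hG L hL EL hEL p ⟨hpp, hpL, hr2L, hr1L⟩ (BG7.cj m⁻¹ A₀) ⟨hAEL, hAe, hA2⟩
          exact hnot hNL
        exact ⟨L, hL, hpL, (le_sup_right.trans hKE).trans (hEN.trans hNL),
          (le_sup_left.trans hKE).trans (hEN.trans hNL)⟩
  obtain ⟨L, hL, hpL, hSL, hXL⟩ := hL
  have hne : M ≠ L := fun h => hpσ (h ▸ hpL)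
  have hSLσ : S ≤ sigmaCore L := BGE.qsub_le_sigmaCore hG hL hpL hS hSL
  have hX₁X : ⁅X, S⁆ ≤ X := Subgroup.le_normalizer_iff_commutator_le_left.mp hSX
  have hX₁L : ⁅X, S⁆ ≤ sigmaCore L := by
    rw [Subgroup.commutator_le]
    intro x hx s hs
    rw [commutatorElement_def]
    have h1 : x * s * x⁻¹ ∈ sigmaCore L :=
      ((Subgroup.mem_normalizer_iff.mp (BGE.le_normalizer_sigmaCore L (hXL hx))) s).mp (hSLσ hs)
    exact (sigmaCore L).mul_mem h1 ((sigmaCore L).inv_mem (hSLσ hs))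
  have hcomm := engine hG hM hL hne h1423 hpq hqσ (hX₁X.trans hXM) (hX.to_le hX₁X) hS
    (le_normalizer_commutator' hSX) hX₁L hSLσ
  have h2 : ⁅⁅X, S⁆, S⁆ = ⊥ := by
    rw [Subgroup.commutator_eq_bot_iff_le_centralizer]
    intro x hx
    rw [Subgroup.mem_centralizer_iff]
    intro s hs
    exact (hcomm x hx s hs).symm
  have hcop : (Nat.card S).Coprime (Nat.card X) := by
    obtain ⟨a, ha⟩ := IsPGroup.iff_card.mp hS
    obtain ⟨b, hb⟩ := IsPGroup.iff_card.mp hX
    rw [ha, hb]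
    exact Nat.Coprime.pow _ _ ((Nat.coprime_primes hp.out hq.out).mpr hpq)
  haveI : Group.IsNilpotent ↥S := hS.isNilpotent
  have hsolv : Group.IsSolvable ↥S := inferInstance
  have h3 := coprime_commutator_commutator S X hSX hcop (Or.inl hsolv)
  rw [h2] at h3
  have h4 : X ≤ Subgroup.centralizer (S : Set G) :=
    Subgroup.commutator_eq_bot_iff_le_centralizer.mp h3.symm
  intro x hx s hs
  exact ((Subgroup.mem_centralizer_iff.mp (h4 hx)) s hs).symm

/-- **B&G Corollary 13.3(a) = S1427**, from the rows S1417, S1418, S1423. -/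
theorem s1427_of (hG : IsMinSimpleOddOrder G) (M : Subgroup G) (hM : IsCoatom M) (E : Subgroup G)
    (hE : IsComplIn E (sigmaCore M) M) (p : ℕ) [hp : Fact p.Prime] (S : Sylow p E)
    (hS1 : (S : Subgroup E) ≠ ⊥) (hSc : IsCyclic (S : Subgroup E))
    (h1417 : Row1417 G) (h1418 : Row1418 G) (h1423 : Row1423 G) :
    ∀ x ∈ (S : Subgroup E).map E.subtype, x ≠ 1 →
      sigmaCore M ⊓ Subgroup.centralizer ({x} : Set G) =
        sigmaCore M ⊓ Subgroup.centralizer
          (((S : Subgroup E).map E.subtype : Subgroup G) : Set G) := by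
  classical
  obtain ⟨S', hS'⟩ : ∃ S' : Subgroup G, S' = (S : Subgroup E).map E.subtype := ⟨_, rfl⟩
  rw [← hS']
  have hS'E : S' ≤ E := hS' ▸ Subgroup.map_subtype_le _
  have hEM : E ≤ M := hE.1
  have hS'p : IsPGroup p S' := hS' ▸ S.isPGroup'.map _
  have hS'max : BG8.IsMaxP p S' E := hS' ▸ BG8.isMaxP_of_sylow S
  haveI hS'cyc : IsCyclic ↥S' := by
    rw [hS']
    exact isCyclic_of_surjective
      (Subgroup.equivMapOfInjective (S : Subgroup E) E.subtype E.subtype_injective)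
      (MulEquiv.surjective _)
  have hS'c : ∀ a ∈ S', ∀ b ∈ S', a * b = b * a := by
    intro a ha b hb
    exact congrArg Subtype.val (mul_comm' (⟨a, ha⟩ : ↥S') ⟨b, hb⟩)
  have hS'1 : S' ≠ ⊥ := by
    intro h
    apply hS1
    rw [hS'] at h
    exact (Subgroup.map_eq_bot_iff_of_injective _ E.subtype_injective).mp h
  have hpE : p ∣ Nat.card E :=
    (BG8.dvd_card_of_isPGroup_ne_bot hS'p hS'1).trans (Subgroup.card_dvd_of_le hS'E)
  have hpσ : p ∉ sigma M := BGD.compl_not_sigma hG hM hE p hp.out hpE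
  have hno : ∀ A : Subgroup G, A ≤ M → IsElementaryAbelian p A → Nat.card A = p ^ 2 → False := by
    intro A hAM hAe hA2
    have hcopA : (Nat.card A).Coprime (Nat.card (sigmaCore M)) :=
      BGD.coprime_sigmaCore hG hM (fun r hr hrd => not_sigma_of_sq hp.out hA2 hpσ hr hrd)
    obtain ⟨m, hm, hAm⟩ := BGD.exists_cj_le hG hM hE hAM hcopA
    have hA1E : BG7.cj m⁻¹ A ≤ E := by
      have := BG7.cj_mono (k := m⁻¹) hAm
      rwa [BG7.cj_inv_cj] at this
    have hA1e : IsElementaryAbelian p (BG7.cj m⁻¹ A) := BG9.isElementaryAbelian_cj m⁻¹ hAe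
    obtain ⟨e, he, hA2S⟩ :=
      BT.exists_cj_ge hS'max (BG9.isPGroup_of_isElementaryAbelian hA1e) hA1E
    have hA3 : BG7.cj e⁻¹ (BG7.cj m⁻¹ A) ≤ S' := by
      have := BG7.cj_mono (k := e⁻¹) hA2S
      rwa [BG7.cj_inv_cj] at this
    have hA3e : IsElementaryAbelian p (BG7.cj e⁻¹ (BG7.cj m⁻¹ A)) :=
      BG9.isElementaryAbelian_cj e⁻¹ hA1e
    have hA32 : Nat.card (BG7.cj e⁻¹ (BG7.cj m⁻¹ A)) = p ^ 2 := by
      rw [BG7.card_cj, BG7.card_cj, hA2]
    refine Rk.not_isCyclic_of_elementary_sq (p := p)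
      ((BG7.cj e⁻¹ (BG7.cj m⁻¹ A)).subgroupOf S') ⟨⟨⟨fun a b => ?_⟩⟩, fun a ha => ?_⟩ ?_ hS'cyc
    · apply Subtype.ext
      apply Subtype.ext
      haveI := hA3e.1
      have h2 : (a.1.1 : G) * b.1.1 = b.1.1 * a.1.1 :=
        congrArg Subtype.val (mul_comm'
          (⟨a.1.1, Subgroup.mem_subgroupOf.mp a.2⟩ : ↥(BG7.cj e⁻¹ (BG7.cj m⁻¹ A)))
          ⟨b.1.1, Subgroup.mem_subgroupOf.mp b.2⟩)
      exact h2
    · apply Subtype.ext
      exact hA3e.2 _ (Subgroup.mem_subgroupOf.mp ha)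
    · rw [card_subgroupOf_of_le hA3, hA32]
  intro x hx hx1
  apply le_antisymm
  swap
  · exact inf_le_inf_left _ (Subgroup.centralizer_le (Set.singleton_subset_iff.mpr hx))
  intro c hc
  obtain ⟨hcσ, hcx⟩ := hc
  refine ⟨hcσ, ?_⟩
  -- an element `z` of order `p` in `⟨x⟩`
  obtain ⟨k, hk⟩ : ∃ k, orderOf x = p ^ k := by
    obtain ⟨k, hk⟩ := (IsPGroup.iff_orderOf.mp hS'p) ⟨x, hx⟩
    exact ⟨k, by rw [← hk, ← Subgroup.orderOf_coe]⟩
  have hk0 : k ≠ 0 := by
    rintro rfl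
    rw [pow_zero, orderOf_eq_one_iff] at hk
    exact hx1 hk
  have hpx : p ∣ orderOf x := by
    rw [hk]
    exact dvd_pow_self p hk0
  have hox : orderOf x ≠ 0 := by
    rw [hk]
    exact (pow_pos hp.out.pos k).ne'
  obtain ⟨z, hz⟩ : ∃ z : G, z = x ^ (orderOf x / p) := ⟨_, rfl⟩
  have hzo : orderOf z = p := hz ▸ orderOf_pow_orderOf_div hox hpx
  have hzS : z ∈ S' := hz ▸ S'.pow_mem hx _
  have hP₀c : Nat.card (Subgroup.zpowers z) = p := by rw [Nat.card_zpowers, hzo]
  have hcx' : x * c = c * x := (Subgroup.mem_centralizer_iff.mp hcx) x rfl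
  have hcz : z * c = c * z := by
    rw [hz]
    exact ((show Commute x c from hcx').pow_left _).eq
  have hcC : c ∈ sigmaCore M ⊓ Subgroup.centralizer ({z} : Set G) := by
    refine ⟨hcσ, Subgroup.mem_centralizer_iff.mpr ?_⟩
    intro y hy
    rw [Set.mem_singleton_iff.mp hy]
    exact hcz
  -- `S'` normalizes `C`
  have hS'Cz : S' ≤ Subgroup.centralizer ({z} : Set G) := by
    intro s hs
    rw [Subgroup.mem_centralizer_iff]
    intro y hy
    rw [Set.mem_singleton_iff.mp hy]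
    exact hS'c z hzS s hs
  have hS'C : S' ≤ Subgroup.normalizer
      ((sigmaCore M ⊓ Subgroup.centralizer ({z} : Set G) : Subgroup G) : Set G) := by
    apply le_normalizer_inf
    · exact (hS'E.trans hEM).trans (BGE.le_normalizer_sigmaCore M)
    · exact hS'Cz.trans Subgroup.le_normalizer
  -- the maximal subgroup `H`
  have hCzN : Subgroup.centralizer ({z} : Set G) ≤
      Subgroup.normalizer ((Subgroup.zpowers z : Subgroup G) : Set G) := by
    intro g hg
    have hgz : z * g = g * z := (Subgroup.mem_centralizer_iff.mp hg) z rfl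
    rw [Subgroup.mem_normalizer_iff]
    intro y
    have hcomm : ∀ y ∈ Subgroup.zpowers z, g * y * g⁻¹ = y := by
      intro y hy
      obtain ⟨i, rfl⟩ := Subgroup.mem_zpowers_iff.mp hy
      have : Commute g (z ^ i) := (show Commute g z from hgz.symm).zpow_right i
      rw [this.eq, mul_inv_cancel_right]
    constructor
    · intro hy
      rw [hcomm y hy]
      exact hy
    · intro hy
      obtain ⟨i, hi⟩ := Subgroup.mem_zpowers_iff.mp hy
      have hc : Commute g (z ^ i) := (show Commute g z from hgz.symm).zpow_right i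
      have hyz : y = z ^ i := by
        have h1 : g * y = z ^ i * g := by rw [hi]; group
        rw [← hc.eq] at h1
        exact mul_left_cancel h1
      rw [hyz]
      exact Subgroup.zpow_mem_zpowers z i
  have hP₀1 : Subgroup.zpowers z ≠ ⊥ := by
    intro h
    rw [h, Subgroup.card_bot] at hP₀c
    exact hp.out.one_lt.ne hP₀c
  have hP₀M : Subgroup.zpowers z ≤ M := Subgroup.zpowers_le.mpr ((hS'E.trans hEM) hzS)
  have hP₀top : Subgroup.zpowers z ≠ ⊤ := fun h => hM.1 (top_le_iff.mp (h ▸ hP₀M))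
  obtain ⟨H, hH, hNH⟩ :=
    (eq_top_or_exists_le_coatom _).resolve_left (BG7.normalizer_ne_top hG hP₀1 hP₀top)
  have hCH : sigmaCore M ⊓ Subgroup.centralizer ({z} : Set G) ≤ H :=
    inf_le_right.trans (hCzN.trans hNH)
  have hS'H : S' ≤ H := hS'Cz.trans (hCzN.trans hNH)
  have hpH : p ∈ sigma H ∨ p ∈ tau2 H := by
    by_cases h : p ∈ sigma H
    · exact Or.inl h
    · right
      obtain ⟨⟨hr2, hr1⟩, -, -⟩ := Cfsg.Agent.S1409.result hG H hH p h (Subgroup.zpowers z) hP₀c hNH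
      exact ⟨hp.out, h, hr2, hr1⟩
  -- coprime action of `S'` on `C`
  have hcop : (Nat.card S').Coprime
      (Nat.card (sigmaCore M ⊓ Subgroup.centralizer ({z} : Set G) : Subgroup G)) := by
    obtain ⟨a, ha⟩ := IsPGroup.iff_card.mp hS'p
    rw [ha]
    apply Nat.Coprime.pow_left
    apply Nat.Coprime.coprime_dvd_right (Subgroup.card_dvd_of_le inf_le_left)
    apply BGD.coprime_sigmaCore hG hM
    intro r hr hrd
    rw [(Nat.prime_dvd_prime_iff_eq hr hp.out).mp hrd]
    exact hpσ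
  haveI : Group.IsNilpotent ↥S' := hS'p.isNilpotent
  have hsolv : Group.IsSolvable ↥S' := inferInstance
  obtain ⟨hHallM, -, -⟩ := BGA.s1350 hG M hM
  have hD : (sigmaCore M ⊓ Subgroup.centralizer ({z} : Set G)) ⊓
      Subgroup.centralizer (S' : Set G) = sigmaCore M ⊓ Subgroup.centralizer ({z} : Set G) := by
    apply eq_of_sylow_le inf_le_left
    intro q _
    obtain ⟨P, hP⟩ := coprime_exists_invariant_sylow S' _ hS'C hcop (Or.inl hsolv) q
    refine ⟨P, ?_⟩
    have hX₀C : (P : Subgroup _).map (Subgroup.subtype _) ≤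
        sigmaCore M ⊓ Subgroup.centralizer ({z} : Set G) := Subgroup.map_subtype_le _
    by_cases hX₀ : (P : Subgroup _).map
        (sigmaCore M ⊓ Subgroup.centralizer ({z} : Set G)).subtype = ⊥
    · rw [hX₀]
      exact bot_le
    have hX₀q : IsPGroup q ↥((P : Subgroup _).map
        (sigmaCore M ⊓ Subgroup.centralizer ({z} : Set G)).subtype) := P.isPGroup'.map _
    have hqσ : q ∈ sigma M :=
      hHallM.2.1 q (Fact.out) ((BG8.dvd_card_of_isPGroup_ne_bot hX₀q hX₀).trans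
        (Subgroup.card_dvd_of_le (hX₀C.trans inf_le_left)))
    have hcomm := lemmaD hG hM hH h1417 h1418 h1423 hpσ hqσ hno
      ((hX₀C.trans inf_le_left).trans (BGE.sigmaCore_le M)) hX₀q hS'p hP (hX₀C.trans hCH) hS'H hpH
    intro y hy
    refine ⟨hX₀C hy, Subgroup.mem_centralizer_iff.mpr ?_⟩
    intro s hs
    exact (hcomm y hy s hs).symm
  have hc' : c ∈ (sigmaCore M ⊓ Subgroup.centralizer ({z} : Set G)) ⊓
      Subgroup.centralizer (S' : Set G) := by
    rw [hD]
    exact hcC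
  exact hc'.2

end Cfsg.Agent.Lib.Lead.BGM
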