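import Mathlib
import Cfsg.Agent.Lib.Helper1.MS1
import Cfsg.Agent.Lib.Helper1.Rk3
import Cfsg.Agent.Lib.Helper1.BG9d
import Cfsg.Agent.Lib.Lead.ComplIn

/-!
B&G section 11, item (7): if `A` is an elementary abelian subgroup of order `p ^ 2` of a minimal
simple group of odd order which is maximal among elementary abelian `p`-subgroups, then for every
Sylow `p`-subgroup `S` containing `A` the centralizer `C_S(A)` is abelian.
-/

universe u

namespace Cfsg.Agent.Lib.Lead.BGL

open Cfsg Subgroup

theorem comm_of {R : Type*} [Group R] {A : Subgroup R} (h : IsMulCommutative A) {a b : R}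
    (ha : a ∈ A) (hb : b ∈ A) : a * b = b * a :=
  congrArg Subtype.val (mul_comm' (⟨a, ha⟩ : A) ⟨b, hb⟩)

/-- the join of two elementwise commuting elementary abelian subgroups is elementary abelian -/
theorem elem_sup {R : Type*} [Group R] {p : ℕ} {A B : Subgroup R} (hA : IsElementaryAbelian p A)
    (hB : IsElementaryAbelian p B) (hc : ∀ a ∈ A, ∀ b ∈ B, a * b = b * a) :
    IsElementaryAbelian p (A ⊔ B) := by
  have key : ∀ x ∈ A ⊔ B, ∃ a ∈ A, ∃ b ∈ B, x = a * b :=
    fun x hx => ComplIn.mem_sup_of_commute hc hx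
  refine ⟨⟨⟨fun x y => ?_⟩⟩, fun x hx => ?_⟩
  · obtain ⟨a, ha, b, hb, hx⟩ := key x x.2
    obtain ⟨a', ha', b', hb', hy⟩ := key y y.2
    apply Subtype.ext
    rw [Subgroup.coe_mul, Subgroup.coe_mul, hx, hy]
    have h1 : Commute a a' := comm_of hA.1 ha ha'
    have h2 : Commute b b' := comm_of hB.1 hb hb'
    have h3 : Commute a b' := hc a ha b' hb'
    have h4 : Commute b a' := (hc a' ha' b hb).symm
    exact ((h1.mul_left h4).mul_right (h3.mul_left h2)).eq
  · obtain ⟨a, ha, b, hb, rfl⟩ := key x hx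
    have h : Commute a b := hc a ha b hb
    rw [h.mul_pow, hA.2 a ha, hB.2 b hb, mul_one]

/-- An element of order dividing `p` centralizing a maximal elementary abelian `A` lies in `A`. -/
theorem mem_of_max {R : Type*} [Group R] {p : ℕ} {A : Subgroup R} (hA : IsElementaryAbelian p A)
    (hmax : ∀ B : Subgroup R, IsElementaryAbelian p B → A ≤ B → B = A) {c : R} (hc : c ^ p = 1)
    (hcent : ∀ a ∈ A, a * c = c * a) : c ∈ A := by
  have hZ : IsElementaryAbelian p (zpowers c) := by
    refine ⟨⟨⟨fun x y => ?_⟩⟩, fun x hx => ?_⟩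
    · obtain ⟨x, hx⟩ := x
      obtain ⟨y, hy⟩ := y
      obtain ⟨i, rfl⟩ := mem_zpowers_iff.mp hx
      obtain ⟨j, rfl⟩ := mem_zpowers_iff.mp hy
      apply Subtype.ext
      show c ^ i * c ^ j = c ^ j * c ^ i
      rw [← zpow_add, ← zpow_add, add_comm]
    · obtain ⟨i, rfl⟩ := mem_zpowers_iff.mp hx
      have : (c ^ i) ^ p = (c ^ p) ^ i := by
        rw [← zpow_natCast, ← zpow_natCast, ← zpow_mul, ← zpow_mul, mul_comm]
      rw [this, hc, one_zpow]
  have hcomm : ∀ a ∈ A, ∀ b ∈ zpowers c, a * b = b * a := by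
    intro a ha b hb
    obtain ⟨i, rfl⟩ := mem_zpowers_iff.mp hb
    exact ((show Commute a c from hcent a ha).zpow_right i).eq
  have := hmax _ (elem_sup hA hZ hcomm) le_sup_left
  rw [← this]
  exact (le_sup_right : zpowers c ≤ A ⊔ zpowers c) (mem_zpowers c)

/-- rank at most two: via the structure of the Sylow subgroup (S1412) -/
theorem cent_comm_rank2 {G : Type u} [Group G] [Finite G] (hG : IsMinSimpleOddOrder G) (p : ℕ)
    [Fact p.Prime] (S : Sylow p G) (hr : PRankLE p 2 (S : Subgroup G)) (A : Subgroup G)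
    (hAS : A ≤ S) (hA : IsElementaryAbelian p A)
    (hmax : ∀ B : Subgroup G, IsElementaryAbelian p B → A ≤ B → B = A) :
    ∀ x ∈ (S : Subgroup G) ⊓ centralizer (A : Set G),
      ∀ y ∈ (S : Subgroup G) ⊓ centralizer (A : Set G), x * y = y * x := by
  rcases Cfsg.Agent.Lib.Helper1.MS.s1412 hG p S hr with
    hab | ⟨P₁, P₂, hsup, hcomm, -, -, hexp, hcyc, hcl⟩
  · intro x hx y hy
    exact comm_of hab hx.1 hy.1
  · have hexp' : ∀ a ∈ P₁, a ^ p = 1 := by
      intro a ha
      have := Monoid.pow_exponent_eq_one (⟨a, ha⟩ : P₁)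
      rw [hexp] at this
      simpa using congrArg Subtype.val this
    have hP2c : ∀ b ∈ P₂, ∀ b' ∈ P₂, b * b' = b' * b := by
      intro b hb b' hb'
      haveI := hcyc
      exact congrArg Subtype.val (mul_comm' (⟨b, hb⟩ : P₂) ⟨b', hb'⟩)
    have hdec : ∀ x ∈ (S : Subgroup G), ∃ a ∈ P₁, ∃ b ∈ P₂, x = a * b := by
      intro x hx
      rw [← hsup] at hx
      exact ComplIn.mem_sup_of_commute hcomm hx
    have hAP : A ≤ P₁ := by
      intro x hx
      obtain ⟨a, ha, b, hb, rfl⟩ := hdec x (hAS hx)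
      have h1 := hA.2 _ hx
      rw [(show Commute a b from hcomm a ha b hb).mul_pow, hexp' a ha, one_mul] at h1
      have hb' : b ∈ closure {x : G | x ∈ P₂ ∧ x ^ p = 1} := subset_closure ⟨hb, h1⟩
      rw [hcl] at hb'
      exact P₁.mul_mem ha hb'.1
    have hdec2 : ∀ x ∈ (S : Subgroup G) ⊓ centralizer (A : Set G),
        ∃ a ∈ A, ∃ b ∈ P₂, x = a * b := by
      intro x hx
      obtain ⟨a, ha, b, hb, rfl⟩ := hdec x hx.1
      refine ⟨a, ?_, b, hb, rfl⟩
      apply mem_of_max hA hmax (hexp' a ha)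
      intro c hc
      have h1 : c * (a * b) = a * b * c := (mem_centralizer_iff.mp hx.2) c hc
      have h2 : c * b = b * c := hcomm c (hAP hc) b hb
      have : c * a * b = a * c * b := by
        rw [mul_assoc, h1, mul_assoc, mul_assoc, h2]
      exact mul_right_cancel this
    intro x hx y hy
    obtain ⟨a, ha, b, hb, rfl⟩ := hdec2 x hx
    obtain ⟨a', ha', b', hb', rfl⟩ := hdec2 y hy
    have h1 : Commute a a' := comm_of hA.1 ha ha'
    have h2 : Commute b b' := hP2c b hb b' hb'
    have h3 : Commute a b' := hcomm a (hAP ha) b' hb'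
    have h4 : Commute b a' := (hcomm a' (hAP ha') b hb).symm
    exact ((h1.mul_left h4).mul_right (h3.mul_left h2)).eq

/-- rank at least three, for an abstract `p`-group: via S1453 -/
theorem cent_comm_rank3 {R : Type u} [Group R] [Finite R] {p : ℕ} [Fact p.Prime] (hp2 : p ≠ 2)
    (hR : IsPGroup p R) (hr : ¬ PRankLE p 2 R) (E : Subgroup R) (hE : IsElementaryAbelian p E)
    (hE2 : Nat.card E = p ^ 2)
    (hEmax : ∀ B : Subgroup R, IsElementaryAbelian p B → E ≤ B → B = E) :
    ∀ x ∈ centralizer (E : Set R), ∀ y ∈ centralizer (E : Set R), x * y = y * x := by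
  obtain ⟨hET, -, -, hTchar, hTidx⟩ := Cfsg.Agent.Lib.Helper1.Rk.s1453 hp2 hR hr E hE hE2 hEmax
  generalize centralizer ((Subgroup.closure
    {x : R | x ∈ Subgroup.upperCentralSeries R 2 ∧ x ^ p = 1} : Subgroup R) : Set R) = T
    at hET hTchar hTidx
  haveI : T.Characteristic := hTchar
  haveI : T.Normal := normal_of_characteristic T
  obtain ⟨t, htE, htT⟩ := SetLike.not_le_iff_exists.mp hET
  have hDp : IsPGroup p ↥(T ⊓ centralizer (E : Set R)) := hR.to_subgroup _
  have hDcyc : IsCyclic ↥(T ⊓ centralizer (E : Set R)) := by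
    by_contra hnc
    obtain ⟨V, hVD, -, hVe, hV2⟩ :=
      Cfsg.Agent.Lib.Helper1.BG9.exists_normal_elementary_sq hp2 hDp hnc
    have hcomm : ∀ a ∈ E, ∀ b ∈ V, a * b = b * a := by
      intro a ha b hb
      exact (mem_centralizer_iff.mp (hVD hb).2) a ha
    have h1 := hEmax _ (elem_sup hE hVe hcomm) le_sup_left
    have hVE : V ≤ E := by
      rw [← h1]
      exact le_sup_right
    have hVE' : V = E := Subgroup.eq_of_le_of_card_ge hVE (by rw [hE2, hV2])
    apply hET
    rw [← hVE']
    exact fun v hv => (hVD hv).1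
  have hquot : Nat.card (R ⧸ T) = p := by
    rw [← Subgroup.index_eq_card]
    exact hTidx
  have htq : (QuotientGroup.mk t : R ⧸ T) ≠ 1 := fun h => htT ((QuotientGroup.eq_one_iff t).mp h)
  have htc : t ∈ centralizer (E : Set R) := by
    rw [mem_centralizer_iff]
    intro e he
    exact comm_of hE.1 he htE
  have hdec : ∀ x ∈ centralizer (E : Set R),
      ∃ n ∈ T ⊓ centralizer (E : Set R), ∃ k : ℤ, x = n * t ^ k := by
    intro x hx
    have hmem : (QuotientGroup.mk x : R ⧸ T)⁻¹ ∈ zpowers (QuotientGroup.mk t : R ⧸ T) :=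
      mem_zpowers_of_prime_card hquot htq
    obtain ⟨k, hk⟩ := mem_zpowers_iff.mp hmem
    refine ⟨x * t ^ k, Subgroup.mem_inf.mpr ⟨?_, ?_⟩, -k, ?_⟩
    · rw [← QuotientGroup.eq_one_iff (N := T), QuotientGroup.mk_mul, QuotientGroup.mk_zpow, hk,
        mul_inv_cancel]
    · exact mul_mem hx (zpow_mem htc k)
    · rw [mul_assoc, ← zpow_add, add_neg_cancel, zpow_zero, mul_one]
  intro x hx y hy
  obtain ⟨n, hn, i, rfl⟩ := hdec x hx
  obtain ⟨m, hm, j, rfl⟩ := hdec y hy
  have hnm : Commute n m := by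
    haveI := hDcyc
    exact congrArg Subtype.val
      (mul_comm' (⟨n, hn⟩ : ↥(T ⊓ centralizer (E : Set R))) ⟨m, hm⟩)
  have hnt : Commute n t := ((mem_centralizer_iff.mp (Subgroup.mem_inf.mp hn).2) t htE).symm
  have hmt : Commute m t := ((mem_centralizer_iff.mp (Subgroup.mem_inf.mp hm).2) t htE).symm
  have h1 : Commute n (t ^ j) := hnt.zpow_right _
  have h2 : Commute (t ^ i) m := (hmt.zpow_right _).symm
  have h3 : Commute (t ^ i) (t ^ j) := (Commute.refl t).zpow_zpow _ _
  exact ((hnm.mul_left h2).mul_right (h1.mul_left h3)).eq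

/-- **B&G section 11, item (7).**  In a minimal simple group of odd order let `S` be a Sylow
`p`-subgroup and `A ≤ S` elementary abelian of order `p ^ 2`, maximal among the elementary
abelian `p`-subgroups of `G`.  Then `C_S(A)` is abelian. -/
theorem cent_comm {G : Type u} [Group G] [Finite G] (hG : IsMinSimpleOddOrder G) (p : ℕ)
    [Fact p.Prime] (S : Sylow p G) (A : Subgroup G) (hAS : A ≤ S)
    (hA : IsElementaryAbelian p A) (hA2 : Nat.card A = p ^ 2)
    (hmax : ∀ B : Subgroup G, IsElementaryAbelian p B → A ≤ B → B = A) :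
    ∀ x ∈ (S : Subgroup G) ⊓ centralizer (A : Set G),
      ∀ y ∈ (S : Subgroup G) ⊓ centralizer (A : Set G), x * y = y * x := by
  by_cases hr : PRankLE p 2 (S : Subgroup G)
  · exact cent_comm_rank2 hG p S hr A hAS hA hmax
  · have hp2 : p ≠ 2 := by
      apply Cfsg.Agent.Lib.Helper1.BG9.odd_prime_of_dvd hG
      have h1 : p ∣ Nat.card A := by
        rw [hA2]
        exact dvd_pow_self p two_ne_zero
      exact h1.trans (Subgroup.card_subgroup_dvd_card A)
    have hE : IsElementaryAbelian p (A.subgroupOf (S : Subgroup G)) := by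
      refine ⟨⟨⟨fun x y => ?_⟩⟩, fun x hx => ?_⟩
      · apply Subtype.ext
        apply Subtype.ext
        exact comm_of hA.1 (mem_subgroupOf.mp x.2) (mem_subgroupOf.mp y.2)
      · apply Subtype.ext
        exact hA.2 _ (mem_subgroupOf.mp hx)
    have hE2 : Nat.card (A.subgroupOf (S : Subgroup G)) = p ^ 2 := by
      rw [← hA2]
      exact Nat.card_congr (subgroupOfEquivOfLe hAS).toEquiv
    have hEmax : ∀ B : Subgroup (S : Subgroup G), IsElementaryAbelian p B →
        A.subgroupOf (S : Subgroup G) ≤ B → B = A.subgroupOf (S : Subgroup G) := by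
      intro B hB hEB
      have hB' : IsElementaryAbelian p (B.map (S : Subgroup G).subtype) := by
        refine ⟨⟨⟨fun x y => ?_⟩⟩, fun x hx => ?_⟩
        · obtain ⟨x, hx⟩ := x
          obtain ⟨y, hy⟩ := y
          obtain ⟨x', hx', rfl⟩ := mem_map.mp hx
          obtain ⟨y', hy', rfl⟩ := mem_map.mp hy
          apply Subtype.ext
          have := comm_of hB.1 hx' hy'
          show (S : Subgroup G).subtype x' * (S : Subgroup G).subtype y' =
            (S : Subgroup G).subtype y' * (S : Subgroup G).subtype x'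
          rw [← map_mul, this, map_mul]
        · obtain ⟨x', hx', rfl⟩ := mem_map.mp hx
          rw [← map_pow, hB.2 x' hx', map_one]
      have hAB : A ≤ B.map (S : Subgroup G).subtype := by
        intro a ha
        exact mem_map.mpr ⟨⟨a, hAS ha⟩, hEB (mem_subgroupOf.mpr ha), rfl⟩
      have h1 := hmax _ hB' hAB
      ext x
      rw [mem_subgroupOf, ← h1]
      constructor
      · intro hx
        exact mem_map.mpr ⟨x, hx, rfl⟩
      · intro hx
        obtain ⟨x', hx', hxx⟩ := mem_map.mp hx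
        have : x' = x := Subtype.ext hxx
        rwa [← this]
    have key := cent_comm_rank3 hp2 S.isPGroup' hr _ hE hE2 hEmax
    intro x hx y hy
    have hx' : (⟨x, hx.1⟩ : (S : Subgroup G)) ∈
        centralizer ((A.subgroupOf (S : Subgroup G) : Subgroup (S : Subgroup G)) :
          Set (S : Subgroup G)) := by
      rw [mem_centralizer_iff]
      intro e he
      apply Subtype.ext
      exact (mem_centralizer_iff.mp hx.2) e (mem_subgroupOf.mp he)
    have hy' : (⟨y, hy.1⟩ : (S : Subgroup G)) ∈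
        centralizer ((A.subgroupOf (S : Subgroup G) : Subgroup (S : Subgroup G)) :
          Set (S : Subgroup G)) := by
      rw [mem_centralizer_iff]
      intro e he
      apply Subtype.ext
      exact (mem_centralizer_iff.mp hy.2) e (mem_subgroupOf.mp he)
    exact congrArg Subtype.val (key _ hx' _ hy')

end Cfsg.Agent.Lib.Lead.BGL
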