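import Mathlib
import Cfsg.Prelude.Def_Characters
import Cfsg.Prelude.Def_OddOrderChar
import Cfsg.Agent.Lib.Helper6.IrrBasis
import Cfsg.Agent.Lib.Helper6.GenChar
import Cfsg.Agent.Lib.Helper6.GenCharOps
import Cfsg.Agent.Lib.Helper6.Gallagher
import Cfsg.Agent.Lib.Helper6.Norm
import Cfsg.Agent.Lib.Helper6.ClassMult

set_option autoImplicit false
open Cfsg

namespace Cfsg.Agent.Lib.Lead.Coh

open Cfsg.Agent.Lib.Helper6

section gen
variable {G : Type*} [Group G] [Fintype G]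

/-- a generalized character of norm one is plus or minus an irreducible character -/
theorem norm_one_cases {θ : G → ℂ} (hθ : IsGeneralizedCharacter G θ)
    (h1 : classInner θ θ = 1) :
    ∃ β : IrrCharacter G, θ = (β : G → ℂ) ∨ θ = -(β : G → ℂ) := by
  classical
  haveI : Fintype (IrrCharacter G) := Fintype.ofFinite _
  obtain ⟨c, hc, hci⟩ := IsGeneralizedCharacter.exists_int_coeff hθ
  have h2 : classInner θ θ = ((∑ β, c β * c β : ℤ) : ℂ) := by
    conv_lhs => rw [hc]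
    exact classInner_sum_int c c
  rw [h1] at h2
  have hsum : ∑ β, c β * c β = 1 := by exact_mod_cast h2.symm
  have hne : ∑ β, c β * c β ≠ 0 := by rw [hsum]; exact one_ne_zero
  obtain ⟨β₀, _, hβ₀⟩ := Finset.exists_ne_zero_of_sum_ne_zero hne
  have hle : c β₀ * c β₀ ≤ 1 := by
    rw [← hsum]
    exact Finset.single_le_sum (f := fun χ => c χ * c χ) (fun _ _ => mul_self_nonneg _)
      (Finset.mem_univ β₀)
  have hm0 : c β₀ ≠ 0 := fun h0 => hβ₀ (by simp [h0])
  have h9 : c β₀ = 1 ∨ c β₀ = -1 := by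
    have h10 : c β₀ * c β₀ = 1 := by
      have : 0 < c β₀ * c β₀ := mul_self_pos.mpr hm0
      omega
    rcases Int.eq_one_or_neg_one_of_mul_eq_one' h10 with h | h
    · exact Or.inl h.1
    · exact Or.inr h.1
  have hββ : classInner (β₀ : G → ℂ) (β₀ : G → ℂ) = 1 := by
    rw [classInner_isIrrCharacter β₀.2 β₀.2, if_pos rfl]
  have hθβ := hci β₀
  have hβθ : classInner (β₀ : G → ℂ) θ = (c β₀ : ℂ) := by
    rw [← classInner_conj_symm, hθβ]; simp
  refine ⟨β₀, ?_⟩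
  rcases h9 with h | h
  · left
    have : classInner (θ - (β₀ : G → ℂ)) (θ - (β₀ : G → ℂ)) = 0 := by
      rw [classInner_sub_left, classInner_sub_right, classInner_sub_right, h1, hθβ, hβθ, hββ, h]
      norm_num
    have := eq_zero_of_classInner_self_eq_zero this
    exact sub_eq_zero.mp this
  · right
    have : classInner (θ + (β₀ : G → ℂ)) (θ + (β₀ : G → ℂ)) = 0 := by
      rw [classInner_add_left, classInner_add_right, classInner_add_right, h1, hθβ, hβθ, hββ, h]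
      norm_num
    have := eq_zero_of_classInner_self_eq_zero this
    exact eq_neg_of_add_eq_zero_left this

/-- the inner product of two generalized characters is an integer -/
theorem classInner_gen_int {θ φ : G → ℂ} (hθ : IsGeneralizedCharacter G θ)
    (hφ : IsGeneralizedCharacter G φ) : ∃ a : ℤ, classInner θ φ = a := by
  classical
  haveI : Fintype (IrrCharacter G) := Fintype.ofFinite _
  obtain ⟨c, hc, -⟩ := IsGeneralizedCharacter.exists_int_coeff hθ
  obtain ⟨c', hc', -⟩ := IsGeneralizedCharacter.exists_int_coeff hφ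
  refine ⟨∑ β, c β * c' β, ?_⟩
  conv_lhs => rw [hc, hc']
  exact classInner_sum_int c c'

end gen

section s1529
variable {G : Type*} [Group G] [Fintype G]

theorem s1529 (N : Subgroup G) [Fintype N] (S : Set (N → ℂ))
    (hirr : ∀ χ ∈ S, IsIrrCharacter N χ) (htwo : ∃ χ ∈ S, ∃ ψ ∈ S, χ ≠ ψ)
    (τ₁ : (N → ℂ) → (G → ℂ)) (hτ₁ : IsLinearIsometryOn (zspan S) τ₁)
    (h0 : ∀ α ∈ zspan S, α 1 = 0 → τ₁ α 1 = 0) :
    ∃ ε : ℂ, (ε = 1 ∨ ε = -1) ∧ (∀ χ ∈ S, IsIrrCharacter G (ε • τ₁ χ)) ∧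
      (∀ χ ∈ S, ∀ ψ ∈ S, τ₁ χ = τ₁ ψ → χ = ψ) := by
  obtain ⟨hadd, hsmul, hiso, hgen⟩ := hτ₁
  have hmem : ∀ χ ∈ S, χ ∈ zspan S := fun χ hχ => Submodule.subset_span hχ
  have hnorm : ∀ χ ∈ S, classInner (τ₁ χ) (τ₁ χ) = 1 := by
    intro χ hχ
    rw [hiso χ (hmem χ hχ) χ (hmem χ hχ),
      classInner_isIrrCharacter (hirr χ hχ) (hirr χ hχ), if_pos rfl]
  have hsign : ∀ χ ∈ S, ∃ (β : IrrCharacter G) (s : ℂ), (s = 1 ∨ s = -1) ∧
      τ₁ χ = s • (β : G → ℂ) := by
    intro χ hχ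
    obtain ⟨β, h | h⟩ := norm_one_cases (hgen χ (hmem χ hχ)) (hnorm χ hχ)
    · exact ⟨β, 1, Or.inl rfl, by rw [h, one_smul]⟩
    · exact ⟨β, -1, Or.inr rfl, by rw [h, neg_one_smul]⟩
  obtain ⟨χ₀, hχ₀, -, -, -⟩ := htwo
  obtain ⟨β₀, ε, hε, hτ₀⟩ := hsign χ₀ hχ₀
  refine ⟨ε, hε, ?_, ?_⟩
  · intro χ hχ
    obtain ⟨β, s, hs, hτχ⟩ := hsign χ hχ
    have c₀ := IsCharacter.apply_one_eq_charDegree (IsIrrCharacter.isCharacter (hirr χ₀ hχ₀))
    have c := IsCharacter.apply_one_eq_charDegree (IsIrrCharacter.isCharacter (hirr χ hχ))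
    have cb₀ := IsCharacter.apply_one_eq_charDegree (IsIrrCharacter.isCharacter β₀.2)
    have cb := IsCharacter.apply_one_eq_charDegree (IsIrrCharacter.isCharacter β.2)
    have p₀ := IsIrrCharacter.charDegree_pos (hirr χ₀ hχ₀)
    have p := IsIrrCharacter.charDegree_pos (hirr χ hχ)
    have pb₀ := IsIrrCharacter.charDegree_pos β₀.2
    have pb := IsIrrCharacter.charDegree_pos β.2
    set d₀ := charDegree χ₀
    set d := charDegree χ
    set b₀ := charDegree (β₀ : G → ℂ)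
    set b := charDegree (β : G → ℂ)
    have m1 : ((d₀ : ℤ) • χ) ∈ zspan S := Submodule.smul_mem _ _ (hmem χ hχ)
    have m2 : ((-(d : ℤ)) • χ₀) ∈ zspan S := Submodule.smul_mem _ _ (hmem χ₀ hχ₀)
    have hα : ((d₀ : ℤ) • χ + (-(d : ℤ)) • χ₀) ∈ zspan S := Submodule.add_mem _ m1 m2
    have hα1 : ((d₀ : ℤ) • χ + (-(d : ℤ)) • χ₀) 1 = 0 := by
      rw [Pi.add_apply, Pi.smul_apply, Pi.smul_apply, c, c₀, zsmul_eq_mul, zsmul_eq_mul]
      push_cast; ring
    have hτα := h0 _ hα hα1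
    rw [hadd _ m1 _ m2, hsmul _ (hmem χ hχ), hsmul _ (hmem χ₀ hχ₀), hτχ, hτ₀] at hτα
    rw [Pi.add_apply, Pi.smul_apply, Pi.smul_apply, Pi.smul_apply, Pi.smul_apply, cb, cb₀,
      zsmul_eq_mul, zsmul_eq_mul, smul_eq_mul, smul_eq_mul] at hτα
    push_cast at hτα
    have hsε : s = ε := by
      rcases hs with rfl | rfl <;> rcases hε with rfl | rfl
      · rfl
      · exfalso
        have h3 : ((d₀ * b + d * b₀ : ℕ) : ℂ) = 0 := by push_cast; linear_combination hτα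
        have h4 : d₀ * b + d * b₀ = 0 := by exact_mod_cast h3
        have : 0 < d₀ * b := Nat.mul_pos p₀ pb
        omega
      · exfalso
        have h3 : ((d₀ * b + d * b₀ : ℕ) : ℂ) = 0 := by push_cast; linear_combination -hτα
        have h4 : d₀ * b + d * b₀ = 0 := by exact_mod_cast h3
        have : 0 < d₀ * b := Nat.mul_pos p₀ pb
        omega
      · rfl
    rw [hτχ, hsε, smul_smul]
    have : ε * ε = 1 := by rcases hε with rfl | rfl <;> norm_num
    rw [this, one_smul]; exact β.2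
  · intro χ hχ ψ hψ h
    by_contra hne
    have h1 := hiso χ (hmem χ hχ) ψ (hmem ψ hψ)
    rw [h, hnorm ψ hψ, classInner_isIrrCharacter (hirr χ hχ) (hirr ψ hψ), if_neg hne] at h1
    exact one_ne_zero h1

end s1529

section s1515
variable {L : Type*} [Group L] [Fintype L] {G : Type*} [Group G] [Fintype G]

theorem s1515 (S : Set (L → ℂ)) (τ : (L → ℂ) → (G → ℂ)) (R : (L → ℂ) → Finset (G → ℂ))
    (hS : IsCoherenceSystem S τ R) (χ : L → ℂ) (hχ : χ ∈ S) (ψ : L → ℂ) (hψ : ψ ∈ zspan S)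
    (h1 : classInner χ ψ = 0) (h2 : classInner (conjFun χ) ψ = 0)
    (τ₁ : (L → ℂ) → (G → ℂ))
    (hτ₁ : IsLinearIsometryOn (zspan {χ - ψ, χ - conjFun χ}) τ₁)
    (hagree : ∀ n : ℤ, τ₁ (n • (χ - conjFun χ)) = τ (n • (χ - conjFun χ))) :
    (classInner χ χ).re ≤ ∑ α ∈ R χ, ‖classInner (τ₁ (χ - ψ)) α‖ ^ 2 ∧
    ((classInner ψ ψ).re ≤ (classInner (τ₁ (χ - ψ)) (τ₁ (χ - ψ))).re -
        ∑ α ∈ R χ, ‖classInner (τ₁ (χ - ψ)) α‖ ^ 2 →
      (∑ α ∈ R χ, ‖classInner (τ₁ (χ - ψ)) α‖ ^ 2 = (classInner χ χ).re ∧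
        ∀ α ∈ R χ, classInner (τ₁ (χ - ψ)) α = 0 ∨ classInner (τ₁ (χ - ψ)) α = 1)) := by
  obtain ⟨hadd, hsmul, hiso, hgen⟩ := hτ₁
  have m1 : χ - ψ ∈ zspan {χ - ψ, χ - conjFun χ} := Submodule.subset_span (by simp)
  have m2 : χ - conjFun χ ∈ zspan {χ - ψ, χ - conjFun χ} := Submodule.subset_span (by simp)
  set X := τ₁ (χ - ψ) with hX
  have hXgen := hgen _ m1
  have hint : ∀ α : G → ℂ, ∃ a : ℤ, α ∈ R χ → classInner X α = a := by
    intro α
    by_cases hα : α ∈ R χ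
    · obtain ⟨a, ha⟩ := classInner_gen_int hXgen (hS.virtual χ hχ α hα)
      exact ⟨a, fun _ => ha⟩
    · exact ⟨0, fun h => absurd h hα⟩
  choose a ha using hint
  have e1 : classInner χ (conjFun χ) = 0 :=
    hS.orthogonal χ hχ (conjFun χ) (hS.conj_mem χ hχ) (hS.conj_ne χ hχ).symm
  have e2 : classInner ψ χ = 0 := by rw [← classInner_conj_symm, h1, map_zero]
  have e3 : classInner ψ (conjFun χ) = 0 := by rw [← classInner_conj_symm, h2, map_zero]
  have hsum_a : ∑ α ∈ R χ, ((a α : ℤ) : ℂ) = classInner χ χ := by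
    have s1 : ∑ α ∈ R χ, ((a α : ℤ) : ℂ) = ∑ α ∈ R χ, classInner X α :=
      Finset.sum_congr rfl fun α hα => (ha α hα).symm
    have hag := hagree 1
    rw [one_smul] at hag
    rw [s1, ← classInner_sum_right, ← hS.sum_eq χ hχ, ← hag, hiso _ m1 _ m2,
      classInner_sub_left, classInner_sub_right, classInner_sub_right, e1, e2, e3]
    ring
  have hre : (classInner χ χ).re = ∑ α ∈ R χ, (a α : ℝ) := by
    rw [← hsum_a, Complex.re_sum]
    refine Finset.sum_congr rfl fun α _ => ?_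
    simp
  have hsq : ∀ α ∈ R χ, ‖classInner X α‖ ^ 2 = (a α : ℝ) ^ 2 := by
    intro α hα
    rw [ha α hα, Complex.norm_intCast, sq_abs]
  have hle : ∀ α, (a α : ℝ) ≤ (a α : ℝ) ^ 2 := by
    intro α
    have : a α ≤ a α ^ 2 := Int.le_self_sq (a α)
    exact_mod_cast this
  rw [Finset.sum_congr rfl hsq, hre]
  refine ⟨Finset.sum_le_sum fun α _ => hle α, ?_⟩
  intro hyp
  have hXX : classInner X X = classInner χ χ + classInner ψ ψ := by
    rw [hX, hiso _ m1 _ m1, classInner_sub_left, classInner_sub_right, classInner_sub_right,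
      h1, e2]
    ring
  rw [hXX, Complex.add_re, hre] at hyp
  have hle2 : ∑ α ∈ R χ, (a α : ℝ) ^ 2 ≤ ∑ α ∈ R χ, (a α : ℝ) := by linarith
  have hzero : ∑ α ∈ R χ, ((a α : ℝ) ^ 2 - (a α : ℝ)) = 0 := by
    rw [Finset.sum_sub_distrib]
    have := Finset.sum_le_sum (s := R χ) fun α _ => hle α
    linarith
  have heach := (Finset.sum_eq_zero_iff_of_nonneg
    (fun α _ => sub_nonneg.mpr (hle α))).mp hzero
  refine ⟨?_, ?_⟩
  · have := Finset.sum_le_sum (s := R χ) fun α _ => hle α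
    linarith
  · intro α hα
    have h3 := heach α hα
    have h4 : (a α : ℝ) * ((a α : ℝ) - 1) = 0 := by linear_combination h3
    rcases mul_eq_zero.mp h4 with h5 | h5
    · left
      rw [ha α hα]
      have : a α = 0 := by exact_mod_cast h5
      rw [this]; simp
    · right
      rw [ha α hα]
      have : a α = 1 := by
        have : (a α : ℝ) = 1 := by linarith
        exact_mod_cast this
      rw [this]; simp

end s1515

end Cfsg.Agent.Lib.Lead.Coh
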