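import Mathlib
import Cfsg.Agent.Lib.Lead.Coh1

set_option autoImplicit false
open Cfsg

namespace Cfsg.Agent.Lib.Lead.Coh

open Cfsg.Agent.Lib.Helper6

lemma four_delta {ι : Type*} (δ : ι → ι → ℂ) (d1 : ∀ a, δ a a = 1)
    (d0 : ∀ a b, a ≠ b → δ a b = 0) {x y x' y' : ι} (h : x ≠ y) (h' : x' ≠ y')
    (key : δ x' x - δ x' y - δ y' x + δ y' y = 0) :
    x' ≠ x ∧ x' ≠ y ∧ y' ≠ x ∧ y' ≠ y := by
  by_cases h1 : x' = x
  · subst h1
    have h3 : y' ≠ x' := fun e => h' e.symm
    rw [d1, d0 _ _ h, d0 _ _ h3] at key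
    by_cases h4 : y' = y
    · rw [h4, d1] at key; norm_num at key
    · rw [d0 _ _ h4] at key; norm_num at key
  by_cases h2 : x' = y
  · subst h2
    have h4 : y' ≠ x' := fun e => h' e.symm
    rw [d0 _ _ h1, d1, d0 _ _ h4] at key
    by_cases h3 : y' = x
    · rw [h3, d1] at key; norm_num at key
    · rw [d0 _ _ h3] at key; norm_num at key
  by_cases h3 : y' = x
  · subst h3
    rw [d0 _ _ h1, d0 _ _ h2, d1, d0 _ _ h] at key
    norm_num at key
  by_cases h4 : y' = y
  · subst h4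
    rw [d0 _ _ h1, d0 _ _ h2, d0 _ _ h3, d1] at key
    norm_num at key
  exact ⟨h1, h2, h3, h4⟩

section s1514
variable {L : Type*} [Group L] [Fintype L] {G : Type*} [Group G] [Fintype G]

theorem s1514 (S : Set (L → ℂ)) (hS : S.Nonempty) (hirr : ∀ χ ∈ S, IsIrrCharacter L χ)
    (hconj : ∀ χ ∈ S, conjFun χ ∈ S ∧ conjFun χ ≠ χ) (τ : (L → ℂ) → (G → ℂ))
    (hτ : IsLinearIsometryOn (zspanOn S {1}ᶜ) τ)
    (hτ1 : ∀ α ∈ zspanOn S {1}ᶜ, τ α 1 = 0) :
    ∃ R : (L → ℂ) → Finset (G → ℂ), IsCoherenceSystem S τ R := by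
  classical
  obtain ⟨hadd, hsmul, hiso, hgen⟩ := hτ
  have hcirr : ∀ χ ∈ S, IsIrrCharacter L (conjFun χ) := fun χ hχ => hirr _ (hconj χ hχ).1
  have hmem : ∀ χ ∈ S, χ - conjFun χ ∈ zspanOn S {1}ᶜ := by
    intro χ hχ
    refine ⟨Submodule.sub_mem _ (Submodule.subset_span hχ)
      (Submodule.subset_span (hconj χ hχ).1), ?_⟩
    intro x hx
    have hx1 : x = 1 := by simpa using hx
    rw [hx1, Pi.sub_apply, conjFun, IsIrrCharacter.conj_apply_one (hirr χ hχ), sub_self]
  have hnorm2 : ∀ χ ∈ S, classInner (χ - conjFun χ) (χ - conjFun χ) = 2 := by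
    intro χ hχ
    rw [classInner_sub_left, classInner_sub_right, classInner_sub_right,
      classInner_isIrrCharacter (hirr χ hχ) (hirr χ hχ), if_pos rfl,
      classInner_isIrrCharacter (hirr χ hχ) (hcirr χ hχ), if_neg (hconj χ hχ).2.symm,
      classInner_isIrrCharacter (hcirr χ hχ) (hirr χ hχ), if_neg (hconj χ hχ).2,
      classInner_isIrrCharacter (hcirr χ hχ) (hcirr χ hχ), if_pos rfl]
    norm_num
  have hex : ∀ χ ∈ S, ∃ p : IrrCharacter G × IrrCharacter G, p.1 ≠ p.2 ∧
      τ (χ - conjFun χ) = (p.1 : G → ℂ) - (p.2 : G → ℂ) := by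
    intro χ hχ
    have hm := hmem χ hχ
    obtain ⟨x, y, hxy, h⟩ := IsGeneralizedCharacter.eq_sub_of_norm_two (hgen _ hm)
      (by rw [hiso _ hm _ hm, hnorm2 χ hχ]) (hτ1 _ hm)
    exact ⟨(x, y), hxy, h⟩
  let R : (L → ℂ) → Finset (G → ℂ) := fun χ =>
    if h : χ ∈ S then {((Classical.choose (hex χ h)).1 : G → ℂ),
      -((Classical.choose (hex χ h)).2 : G → ℂ)} else ∅
  have hR : ∀ χ (h : χ ∈ S), ∃ x y : IrrCharacter G, x ≠ y ∧
      τ (χ - conjFun χ) = (x : G → ℂ) - (y : G → ℂ) ∧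
      R χ = {(x : G → ℂ), -(y : G → ℂ)} := by
    intro χ h
    exact ⟨_, _, (Classical.choose_spec (hex χ h)).1, (Classical.choose_spec (hex χ h)).2,
      by simp only [R, dif_pos h]⟩
  have hxx : ∀ x : IrrCharacter G, classInner (x : G → ℂ) (x : G → ℂ) = 1 := fun x => by
    rw [classInner_irrCharacter, if_pos rfl]
  have hxy0 : ∀ x y : IrrCharacter G, x ≠ y → classInner (x : G → ℂ) (y : G → ℂ) = 0 :=
    fun x y h => by rw [classInner_irrCharacter, if_neg h]
  have hne : ∀ x y : IrrCharacter G, (x : G → ℂ) ≠ -(y : G → ℂ) := by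
    intro x y h
    have := congrFun h 1
    rw [Pi.neg_apply, IsCharacter.apply_one_eq_charDegree (IsIrrCharacter.isCharacter x.2),
      IsCharacter.apply_one_eq_charDegree (IsIrrCharacter.isCharacter y.2)] at this
    have h3 : ((charDegree (x : G → ℂ) + charDegree (y : G → ℂ) : ℕ) : ℂ) = 0 := by
      push_cast; linear_combination this
    have h4 : charDegree (x : G → ℂ) + charDegree (y : G → ℂ) = 0 := by exact_mod_cast h3
    have := IsIrrCharacter.charDegree_pos x.2
    omega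
  refine ⟨R, ?_⟩
  constructor
  · exact hS
  · exact fun χ hχ => IsIrrCharacter.isCharacter (hirr χ hχ)
  · exact fun χ hχ => (hconj χ hχ).1
  · exact fun χ hχ => (hconj χ hχ).2
  · exact ⟨hadd, hsmul, hiso, hgen⟩
  · exact hτ1
  · intro χ hχ φ hφ hne'
    rw [classInner_isIrrCharacter (hirr χ hχ) (hirr φ hφ), if_neg hne']
  · intro χ hχ α hα β hβ
    obtain ⟨x, y, hxy, -, hRχ⟩ := hR χ hχ
    rw [hRχ, Finset.mem_insert, Finset.mem_singleton] at hα hβ
    rcases hα with rfl | rfl <;> rcases hβ with rfl | rfl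
    · rw [hxx, if_pos rfl]
    · rw [classInner_neg_right, hxy0 x y hxy, neg_zero, if_neg (hne x y)]
    · rw [classInner_neg_left, hxy0 y x hxy.symm, neg_zero, if_neg (fun h => hne x y h.symm)]
    · rw [classInner_neg_left, classInner_neg_right, hxx, neg_neg, if_pos rfl]
  · intro χ hχ α hα
    obtain ⟨x, y, hxy, -, hRχ⟩ := hR χ hχ
    rw [hRχ, Finset.mem_insert, Finset.mem_singleton] at hα
    rcases hα with rfl | rfl
    · exact IsCharacter.isGeneralizedCharacter (IsIrrCharacter.isCharacter x.2)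
    · exact IsGeneralizedCharacter.neg
        (IsCharacter.isGeneralizedCharacter (IsIrrCharacter.isCharacter y.2))
  · intro χ hχ
    obtain ⟨x, y, hxy, hτχ, hRχ⟩ := hR χ hχ
    rw [hRχ, Finset.sum_pair (hne x y), hτχ, sub_eq_add_neg]
  · intro χ hχ φ hφ h1 h2 α hα β hβ
    obtain ⟨x, y, hxy, hτχ, hRχ⟩ := hR χ hχ
    obtain ⟨x', y', hxy', hτφ, hRφ⟩ := hR φ hφ
    have hzero : classInner (φ - conjFun φ) (χ - conjFun χ) = 0 := by
      have e3 : classInner (conjFun φ) (conjFun χ) = 0 := by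
        have := classInner_conj_conj φ χ
        rw [h1, map_zero] at this
        exact this
      have e4 : classInner (conjFun φ) χ = 0 := by
        have := classInner_conj_conj φ (conjFun χ)
        rw [h2, map_zero] at this
        have hcc : (fun g => (starRingEnd ℂ) (conjFun χ g)) = χ := by
          funext g; simp [conjFun]
        rw [hcc] at this
        exact this
      rw [classInner_sub_left, classInner_sub_right, classInner_sub_right, h1, h2, e3, e4]
      ring
    have key := hiso _ (hmem φ hφ) _ (hmem χ hχ)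
    rw [hzero, hτφ, hτχ, classInner_sub_left, classInner_sub_right, classInner_sub_right] at key
    obtain ⟨n1, n2, n3, n4⟩ := four_delta
      (fun a b : IrrCharacter G => classInner (a : G → ℂ) (b : G → ℂ)) hxx hxy0 hxy hxy'
      (by linear_combination key)
    rw [hRφ, Finset.mem_insert, Finset.mem_singleton] at hα
    rw [hRχ, Finset.mem_insert, Finset.mem_singleton] at hβ
    rcases hα with rfl | rfl <;> rcases hβ with rfl | rfl
    · exact hxy0 _ _ n1
    · rw [classInner_neg_right, hxy0 _ _ n2, neg_zero]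
    · rw [classInner_neg_left, hxy0 _ _ n3, neg_zero]
    · rw [classInner_neg_left, classInner_neg_right, hxy0 _ _ n4, neg_zero, neg_zero]

end s1514

end Cfsg.Agent.Lib.Lead.Coh
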