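import Mathlib
import Cfsg.Agent.Lib.Lead.Coh2

set_option autoImplicit false
open Cfsg

namespace Cfsg.Agent.Lib.Lead.Coh

open Cfsg.Agent.Lib.Helper6

section general
variable {G : Type*} [Group G] [Fintype G]

theorem classInner_zsmul_left (n : ℤ) (f h : G → ℂ) :
    classInner (n • f) h = (n : ℂ) * classInner f h := by
  rw [← Int.cast_smul_eq_zsmul ℂ n f, classInner_smul_left]

theorem classInner_zsmul_right (n : ℤ) (f h : G → ℂ) :
    classInner h (n • f) = (n : ℂ) * classInner h f := by
  rw [← Int.cast_smul_eq_zsmul ℂ n f, classInner_smul_right, map_intCast]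

/-- Pythagoras for a finite orthonormal family -/
theorem pythag {ι : Type*} [DecidableEq ι] (s : Finset ι) (v : ι → G → ℂ)
    (hv : ∀ i ∈ s, ∀ j ∈ s, classInner (v i) (v j) = if i = j then 1 else 0) (X : G → ℂ) :
    (∀ i ∈ s, classInner (X - ∑ j ∈ s, classInner X (v j) • v j) (v i) = 0) ∧
    classInner X X = ∑ i ∈ s, classInner X (v i) * (starRingEnd ℂ) (classInner X (v i)) +
      classInner (X - ∑ j ∈ s, classInner X (v j) • v j)
        (X - ∑ j ∈ s, classInner X (v j) • v j) := by
  set P := ∑ j ∈ s, classInner X (v j) • v j with hP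
  have h1 : ∀ i ∈ s, classInner P (v i) = classInner X (v i) := by
    intro i hi
    rw [hP, classInner_sum_left]
    rw [Finset.sum_eq_single i]
    · rw [classInner_smul_left, hv i hi i hi, if_pos rfl, mul_one]
    · intro j hj hji
      rw [classInner_smul_left, hv j hj i hi, if_neg hji, mul_zero]
    · intro h; exact absurd hi h
  have h2 : ∀ i ∈ s, classInner (X - P) (v i) = 0 := by
    intro i hi
    rw [classInner_sub_left, h1 i hi, sub_self]
  refine ⟨h2, ?_⟩
  have h3 : classInner (X - P) P = 0 := by
    rw [hP, classInner_sum_right]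
    refine Finset.sum_eq_zero fun i hi => ?_
    rw [classInner_smul_right, h2 i hi, mul_zero]
  have h4 : classInner P (X - P) = 0 := by
    rw [← classInner_conj_symm, h3, map_zero]
  have h5 : classInner P P = ∑ i ∈ s, classInner X (v i) * (starRingEnd ℂ) (classInner X (v i)) := by
    have : classInner P P = classInner (∑ j ∈ s, classInner X (v j) • v j) P := by rw [← hP]
    rw [this, classInner_sum_left]
    refine Finset.sum_congr rfl fun i hi => ?_
    rw [classInner_smul_left, (classInner_conj_symm P (v i)).symm, h1 i hi]
  have h6 : X = P + (X - P) := by ring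
  conv_lhs => rw [h6]
  rw [classInner_add_left, classInner_add_right, classInner_add_right, h3, h4, h5]
  ring

end general

end Cfsg.Agent.Lib.Lead.Coh
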