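import Mathlib
import Cfsg.Agent.Lib.Lead.Coh3

set_option autoImplicit false
open Cfsg

namespace Cfsg.Agent.Lib.Lead.Coh

open Cfsg.Agent.Lib.Helper6

theorem arith_core (a dp D y m : ℤ) (ha : 1 ≤ a) (hdp : 1 ≤ dp) (hm : 0 ≤ m)
    (hD : 2 * a * dp ^ 2 < D)
    (hE : dp ^ 2 * (1 + a ^ 2) = y ^ 2 * D - 2 * y * a * dp ^ 2 + a ^ 2 * dp ^ 2 + dp ^ 2 * m) :
    (y = 0 ∧ m = 1) ∨ (y = 1 ∧ m = 0 ∧ D = (2 * a + 1) * dp ^ 2) := by
  have hdp2 : 0 < dp ^ 2 := by positivity
  by_cases hy : y = 0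
  · left
    refine ⟨hy, ?_⟩
    subst hy
    have h1 : dp ^ 2 * (m - 1) = 0 := by linarith
    rcases mul_eq_zero.mp h1 with h | h
    · exact absurd h hdp2.ne'
    · linarith
  · right
    have hy2 : 0 < y ^ 2 := by positivity
    have h1 : y ^ 2 * D = dp ^ 2 * (1 + 2 * a * y - m) := by linarith
    have h2 : y ^ 2 * (2 * a * dp ^ 2) < y ^ 2 * D := by
      exact mul_lt_mul_of_pos_left hD hy2
    have h3 : dp ^ 2 * (2 * a * y ^ 2) < dp ^ 2 * (1 + 2 * a * y - m) := by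
      rw [← h1]; linarith
    have h4 : 2 * a * y ^ 2 < 1 + 2 * a * y - m := lt_of_mul_lt_mul_left h3 hdp2.le
    have h5 : 2 * a * (y ^ 2 - y) < 1 := by linarith
    have h6 : y ^ 2 - y ≤ 0 := by
      by_contra hcon
      push Not at hcon
      have : 2 * a * (y ^ 2 - y) ≥ 2 * 1 * 1 := by
        apply mul_le_mul (by linarith) (by linarith) (by norm_num) (by linarith)
      linarith
    have h7 : y ≤ 1 := by nlinarith
    have h8 : 0 ≤ y := by nlinarith
    have h9 : y = 1 := by omega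
    subst h9
    have h10 : m = 0 := by linarith
    subst h10
    refine ⟨rfl, rfl, ?_⟩
    linarith

section aux
variable {G : Type*} [Group G] [Fintype G]

theorem classInner_self_re_nonneg (f : G → ℂ) : 0 ≤ (classInner f f).re := by
  unfold classInner
  have h : ∀ g, f g * (starRingEnd ℂ) (f g) = ((Complex.normSq (f g) : ℝ) : ℂ) :=
    fun g => Complex.mul_conj (f g)
  simp only [h]
  rw [← Complex.ofReal_sum, ← Complex.ofReal_natCast, ← Complex.ofReal_inv, ← Complex.ofReal_mul,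
    Complex.ofReal_re]
  exact mul_nonneg (inv_nonneg.mpr (Nat.cast_nonneg _))
    (Finset.sum_nonneg fun g _ => Complex.normSq_nonneg _)

theorem mem_zspanOn_one {X : Type*} [Group X] {T : Set (X → ℂ)} {f : X → ℂ} :
    f ∈ zspanOn T {1}ᶜ ↔ f ∈ zspan T ∧ f 1 = 0 := by
  constructor
  · rintro ⟨h1, h2⟩
    exact ⟨h1, h2 1 (by simp)⟩
  · rintro ⟨h1, h2⟩
    refine ⟨h1, fun x hx => ?_⟩
    have : x = 1 := by simpa using hx
    rw [this]; exact h2

theorem zspan_inner_zero_left {T : Set (G → ℂ)} {χ : G → ℂ}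
    (h : ∀ ξ ∈ T, classInner ξ χ = 0) {g : G → ℂ} (hg : g ∈ zspan T) : classInner g χ = 0 := by
  change g ∈ Submodule.span ℤ T at hg
  induction hg using Submodule.span_induction with
  | mem x hx => exact h x hx
  | zero => exact classInner_zero_left χ
  | add x y _ _ px py => rw [classInner_add_left, px, py, add_zero]
  | smul a x _ px => rw [classInner_zsmul_left, px, mul_zero]

theorem zspan_inner_zero_right {T : Set (G → ℂ)} {χ : G → ℂ}
    (h : ∀ ξ ∈ T, classInner ξ χ = 0) {g : G → ℂ} (hg : g ∈ zspan T) : classInner χ g = 0 := by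
  rw [← classInner_conj_symm, zspan_inner_zero_left h hg, map_zero]

theorem tau_zero {L : Type*} [Group L] [Fintype L] {T : Set (L → ℂ)} {τ₁ : (L → ℂ) → (G → ℂ)}
    (hsmul : ∀ α ∈ zspan T, ∀ n : ℤ, τ₁ (n • α) = n • τ₁ α) : τ₁ 0 = 0 := by
  have := hsmul 0 (Submodule.zero_mem _) 0
  rwa [zero_smul, zero_smul] at this

theorem tau_inner_zero {L : Type*} [Group L] [Fintype L] {T : Set (L → ℂ)}
    {τ₁ : (L → ℂ) → (G → ℂ)}
    (hadd : ∀ α ∈ zspan T, ∀ β ∈ zspan T, τ₁ (α + β) = τ₁ α + τ₁ β)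
    (hsmul : ∀ α ∈ zspan T, ∀ n : ℤ, τ₁ (n • α) = n • τ₁ α) {θ : G → ℂ}
    (h : ∀ ξ ∈ T, classInner θ (τ₁ ξ) = 0) {g : L → ℂ} (hg : g ∈ zspan T) :
    classInner θ (τ₁ g) = 0 := by
  change g ∈ Submodule.span ℤ T at hg
  induction hg using Submodule.span_induction with
  | mem x hx => exact h x hx
  | zero => rw [tau_zero hsmul, classInner_zero_right]
  | add x y hx hy px py => rw [hadd x hx y hy, classInner_add_right, px, py, add_zero]
  | smul a x hx px => rw [hsmul x hx a, classInner_zsmul_right, px, mul_zero]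

end aux

end Cfsg.Agent.Lib.Lead.Coh
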