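import Mathlib
import Cfsg.Agent.Lib.Lead.Coh4

set_option autoImplicit false
open Cfsg

namespace Cfsg.Agent.Lib.Lead.Coh

open Cfsg.Agent.Lib.Helper6

section basics

theorem irr_self {H : Type*} [Group H] [Fintype H] {χ : H → ℂ} (h : IsIrrCharacter H χ) :
    classInner χ χ = 1 := by
  rw [classInner_isIrrCharacter h h, if_pos rfl]

theorem irr_ne {H : Type*} [Group H] [Fintype H] {χ ψ : H → ℂ} (h : IsIrrCharacter H χ)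
    (h' : IsIrrCharacter H ψ) (hne : χ ≠ ψ) : classInner χ ψ = 0 := by
  rw [classInner_isIrrCharacter h h', if_neg hne]

theorem zs_add {X : Type*} {T : Set (X → ℂ)} {f g : X → ℂ} (hf : f ∈ zspan T) (hg : g ∈ zspan T) :
    f + g ∈ zspan T := Submodule.add_mem _ hf hg

theorem zs_smul {X : Type*} {T : Set (X → ℂ)} {f : X → ℂ} (n : ℤ) (hf : f ∈ zspan T) :
    n • f ∈ zspan T := Submodule.smul_mem _ n hf

theorem zs_mem {X : Type*} {T : Set (X → ℂ)} {f : X → ℂ} (hf : f ∈ T) : f ∈ zspan T :=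
  Submodule.subset_span hf

theorem zs_mono {X : Type*} {T T' : Set (X → ℂ)} (h : T ⊆ T') {f : X → ℂ} (hf : f ∈ zspan T) :
    f ∈ zspan T' := Submodule.span_mono h hf

theorem mem_zspan_insert {X : Type*} [DecidableEq (X → ℂ)] (S₀ : Finset (X → ℂ)) (χ f : X → ℂ) :
    f ∈ zspan (↑(insert χ S₀) : Set (X → ℂ)) ↔
      ∃ n : ℤ, ∃ g ∈ zspan (↑S₀ : Set (X → ℂ)), f = n • χ + g := by
  unfold zspan
  rw [Finset.coe_insert, SetLike.mem_coe, Submodule.mem_span_insert]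
  rfl

end basics


section stage1
variable {G : Type*} [Group G] [Fintype G]

theorem stage1 (N : Subgroup G) [Fintype N] [DecidableEq (N → ℂ)] (S₀ : Finset (N → ℂ))
    (χ : N → ℂ)
    (hirr : ∀ ξ ∈ S₀, IsIrrCharacter N ξ) (hχ : IsIrrCharacter N χ) (hχS : χ ∉ S₀)
    (d : (N → ℂ) → ℕ) (hdS : ∀ ξ ∈ S₀, ξ 1 = (d ξ : ℂ)) (hdχ : χ 1 = (d χ : ℂ))
    (τ : (N → ℂ) → (G → ℂ))
    (hτ : IsLinearIsometryOn (zspanOn (↑(insert χ S₀) : Set (N → ℂ)) {1}ᶜ) τ)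
    (hτ1 : ∀ α ∈ zspanOn (↑(insert χ S₀) : Set (N → ℂ)) {1}ᶜ, τ α 1 = 0)
    (τ₁ : (N → ℂ) → (G → ℂ)) (hτ₁ : IsLinearIsometryOn (zspan (↑S₀ : Set (N → ℂ))) τ₁)
    (hag : ∀ α ∈ zspanOn (↑S₀ : Set (N → ℂ)) {1}ᶜ, τ₁ α = τ α)
    (ψ : N → ℂ) (hψ : ψ ∈ S₀) (a : ℕ) (ha : d χ = d ψ * a)
    (hlt : 2 * d ψ * d χ < ∑ ξ ∈ S₀, d ξ ^ 2) :
    ∃ Δ : G → ℂ, IsGeneralizedCharacter G Δ ∧ classInner Δ Δ = 1 ∧
      (∀ ξ ∈ S₀, classInner Δ (τ₁ ξ) = 0) ∧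
      τ (χ + (-(a : ℤ)) • ψ) = Δ + (-(a : ℤ)) • τ₁ ψ := by
  obtain ⟨hτadd, hτsmul, hτiso, hτgen⟩ := hτ
  obtain ⟨h1add, h1smul, h1iso, h1gen⟩ := hτ₁
  have hsub : ∀ {f : N → ℂ}, f ∈ zspan (↑S₀ : Set (N → ℂ)) →
      f ∈ zspan (↑(insert χ S₀) : Set (N → ℂ)) :=
    fun hf => zs_mono (by rw [Finset.coe_insert]; exact Set.subset_insert _ _) hf
  have hχmem : χ ∈ zspan (↑(insert χ S₀) : Set (N → ℂ)) :=
    zs_mem (by rw [Finset.coe_insert]; exact Set.mem_insert _ _)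
  have hmem : ∀ ξ ∈ S₀, ξ ∈ zspan (↑S₀ : Set (N → ℂ)) :=
    fun ξ hξ => zs_mem (Finset.mem_coe.mpr hξ)
  have hψirr := hirr ψ hψ
  have hψmem := hmem ψ hψ
  have hξχ : ∀ ξ ∈ S₀, classInner ξ χ = 0 := fun ξ hξ =>
    irr_ne (hirr ξ hξ) hχ (fun h => hχS (by rw [← h]; exact hξ))
  have hχξ : ∀ ξ ∈ S₀, classInner χ ξ = 0 := fun ξ hξ =>
    irr_ne hχ (hirr ξ hξ) (fun h => hχS (by rw [h]; exact hξ))
  have hdψ : ψ 1 = (d ψ : ℂ) := hdS ψ hψ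
  have hdψpos : 1 ≤ d ψ := by
    rcases Nat.eq_zero_or_pos (d ψ) with h | h
    · exfalso; apply IsIrrCharacter.apply_one_ne_zero hψirr; rw [hdψ, h, Nat.cast_zero]
    · exact h
  have hapos : 1 ≤ a := by
    rcases Nat.eq_zero_or_pos a with h | h
    · exfalso; apply IsIrrCharacter.apply_one_ne_zero hχ
      rw [hdχ, ha, h, mul_zero, Nat.cast_zero]
    · exact h
  have hdψZ : (1 : ℤ) ≤ (d ψ : ℤ) := by exact_mod_cast hdψpos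
  have haZ : (1 : ℤ) ≤ (a : ℤ) := by exact_mod_cast hapos
  -- β
  obtain ⟨β, hβdef⟩ : ∃ β : N → ℂ, β = χ + (-(a : ℤ)) • ψ := ⟨_, rfl⟩
  have hβ1 : β 1 = 0 := by
    rw [hβdef, Pi.add_apply, Pi.smul_apply, hdχ, hdψ, ha, zsmul_eq_mul]
    push_cast; ring
  have hβs : β ∈ zspan (↑(insert χ S₀) : Set (N → ℂ)) := by
    rw [hβdef]; exact zs_add hχmem (zs_smul _ (hsub hψmem))
  have hβZ : β ∈ zspanOn (↑(insert χ S₀) : Set (N → ℂ)) {1}ᶜ := mem_zspanOn_one.mpr ⟨hβs, hβ1⟩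
  obtain ⟨X, hXdef⟩ : ∃ X : G → ℂ, X = τ β := ⟨_, rfl⟩
  have hXgen : IsGeneralizedCharacter G X := by rw [hXdef]; exact hτgen β hβZ
  have hX1 : X 1 = 0 := by rw [hXdef]; exact hτ1 β hβZ
  have hXX : classInner X X = 1 + (a : ℂ) ^ 2 := by
    rw [hXdef, hτiso β hβZ β hβZ, hβdef]
    simp only [classInner_add_left, classInner_add_right, classInner_zsmul_left,
      classInner_zsmul_right]
    rw [irr_self hχ, irr_self hψirr, hχξ ψ hψ, hξχ ψ hψ]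
    push_cast; ring
  -- γ ξ
  have hγ : ∀ ξ ∈ S₀, ((d ψ : ℤ) • ξ + (-(d ξ : ℤ)) • ψ) ∈
      zspanOn (↑S₀ : Set (N → ℂ)) {1}ᶜ := by
    intro ξ hξ
    refine mem_zspanOn_one.mpr ⟨zs_add (zs_smul _ (hmem ξ hξ)) (zs_smul _ hψmem), ?_⟩
    rw [Pi.add_apply, Pi.smul_apply, Pi.smul_apply, hdS ξ hξ, hdψ, zsmul_eq_mul, zsmul_eq_mul]
    push_cast; ring
  have hγ' : ∀ ξ ∈ S₀, ((d ψ : ℤ) • ξ + (-(d ξ : ℤ)) • ψ) ∈
      zspanOn (↑(insert χ S₀) : Set (N → ℂ)) {1}ᶜ := by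
    intro ξ hξ
    obtain ⟨h1, h2⟩ := mem_zspanOn_one.mp (hγ ξ hξ)
    exact mem_zspanOn_one.mpr ⟨hsub h1, h2⟩
  have hτγ : ∀ ξ ∈ S₀, τ ((d ψ : ℤ) • ξ + (-(d ξ : ℤ)) • ψ) =
      (d ψ : ℤ) • τ₁ ξ + (-(d ξ : ℤ)) • τ₁ ψ := by
    intro ξ hξ
    rw [← hag _ (hγ ξ hξ), h1add _ (zs_smul _ (hmem ξ hξ)) _ (zs_smul _ hψmem),
      h1smul ξ (hmem ξ hξ), h1smul ψ hψmem]
  have hint : ∀ ξ ∈ S₀, ∃ k : ℤ, classInner X (τ₁ ξ) = (k : ℂ) := fun ξ hξ =>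
    classInner_gen_int hXgen (h1gen ξ (hmem ξ hξ))
  choose! xi hxi using hint
  have hrel : ∀ ξ ∈ S₀, (d ψ : ℂ) * xi ξ - (d ξ : ℂ) * xi ψ =
      (a : ℂ) * d ξ - a * d ψ * classInner ψ ξ := by
    intro ξ hξ
    have h1 : classInner X (τ ((d ψ : ℤ) • ξ + (-(d ξ : ℤ)) • ψ)) =
        classInner β ((d ψ : ℤ) • ξ + (-(d ξ : ℤ)) • ψ) := by
      rw [hXdef]; exact hτiso β hβZ _ (hγ' ξ hξ)
    have hL : classInner X (τ ((d ψ : ℤ) • ξ + (-(d ξ : ℤ)) • ψ)) =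
        (d ψ : ℂ) * xi ξ - (d ξ : ℂ) * xi ψ := by
      rw [hτγ ξ hξ]
      simp only [classInner_add_right, classInner_zsmul_right]
      rw [hxi ξ hξ, hxi ψ hψ]
      push_cast; ring
    have hR : classInner β ((d ψ : ℤ) • ξ + (-(d ξ : ℤ)) • ψ) =
        (a : ℂ) * d ξ - a * d ψ * classInner ψ ξ := by
      rw [hβdef]
      simp only [classInner_add_left, classInner_add_right, classInner_zsmul_left,
        classInner_zsmul_right]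
      rw [hχξ ξ hξ, hχξ ψ hψ, irr_self hψirr]
      push_cast; ring
    rw [← hL, h1, hR]
  obtain ⟨y, hy⟩ : ∃ y : ℤ, y = xi ψ + a := ⟨_, rfl⟩
  have hxψ : xi ψ = y - a := by rw [hy]; ring
  have hrel_ne : ∀ ξ ∈ S₀, ξ ≠ ψ → (d ψ : ℤ) * xi ξ = (d ξ : ℤ) * y := by
    intro ξ hξ hne
    have h := hrel ξ hξ
    rw [irr_ne hψirr (hirr ξ hξ) (Ne.symm hne)] at h
    have h2 : (((d ψ : ℤ) * xi ξ : ℤ) : ℂ) = (((d ξ : ℤ) * y : ℤ) : ℂ) := by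
      rw [hy]; push_cast; linear_combination h
    exact Int.cast_injective h2
  -- Pythagoras
  have horth : ∀ i ∈ S₀, ∀ j ∈ S₀, classInner (τ₁ i) (τ₁ j) = if i = j then 1 else 0 := by
    intro i hi j hj
    rw [h1iso i (hmem i hi) j (hmem j hj)]
    by_cases h : i = j
    · rw [if_pos h, h]; exact irr_self (hirr j hj)
    · rw [if_neg h]; exact irr_ne (hirr i hi) (hirr j hj) h
  obtain ⟨hΔorth, hpy⟩ := pythag S₀ τ₁ horth X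
  obtain ⟨Δ, hΔdef⟩ : ∃ Δ : G → ℂ, Δ = X - ∑ j ∈ S₀, classInner X (τ₁ j) • τ₁ j := ⟨_, rfl⟩
  rw [← hΔdef] at hpy
  have hΔorth' : ∀ i ∈ S₀, classInner Δ (τ₁ i) = 0 := by
    intro i hi; rw [hΔdef]; exact hΔorth i hi
  have hΔgen : IsGeneralizedCharacter G Δ := by
    rw [hΔdef]
    refine IsGeneralizedCharacter.sub hXgen (IsGeneralizedCharacter.sum S₀ _ fun j hj => ?_)
    rw [hxi j hj]
    exact IsGeneralizedCharacter.intCast_smul (h1gen j (hmem j hj)) (xi j)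
  obtain ⟨m, hm⟩ := classInner_gen_int hΔgen hΔgen
  have hm0 : 0 ≤ m := by
    have := classInner_self_re_nonneg Δ
    rw [hm, Complex.intCast_re] at this
    exact_mod_cast this
  have hpyZ : 1 + (a : ℤ) ^ 2 = ∑ i ∈ S₀, xi i ^ 2 + m := by
    have h2 : ∑ i ∈ S₀, classInner X (τ₁ i) * (starRingEnd ℂ) (classInner X (τ₁ i)) =
        ∑ i ∈ S₀, ((xi i ^ 2 : ℤ) : ℂ) := by
      refine Finset.sum_congr rfl fun i hi => ?_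
      rw [hxi i hi, map_intCast]; push_cast; ring
    rw [hXX, h2, hm, ← Int.cast_sum] at hpy
    exact_mod_cast hpy
  obtain ⟨D, hDdef⟩ : ∃ D : ℤ, D = ∑ i ∈ S₀, (d i : ℤ) ^ 2 := ⟨_, rfl⟩
  have hD : ∑ i ∈ S₀.erase ψ, (d i : ℤ) ^ 2 = D - (d ψ : ℤ) ^ 2 := by
    rw [hDdef, ← Finset.add_sum_erase S₀ (fun i => (d i : ℤ) ^ 2) hψ]; ring
  have hsplit : ∀ f : (N → ℂ) → ℤ, ∑ j ∈ S₀, f j = f ψ + ∑ j ∈ S₀.erase ψ, f j :=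
    fun f => (Finset.add_sum_erase S₀ f hψ).symm
  have hsq : (d ψ : ℤ) ^ 2 * ∑ i ∈ S₀, xi i ^ 2 =
      ((d ψ : ℤ) * (y - a)) ^ 2 + y ^ 2 * (D - (d ψ : ℤ) ^ 2) := by
    rw [hsplit (fun i => xi i ^ 2)]
    have h3 : (d ψ : ℤ) ^ 2 * ∑ j ∈ S₀.erase ψ, xi j ^ 2 =
        y ^ 2 * ∑ i ∈ S₀.erase ψ, (d i : ℤ) ^ 2 := by
      rw [Finset.mul_sum, Finset.mul_sum]
      refine Finset.sum_congr rfl fun i hi => ?_
      have := hrel_ne i (Finset.mem_of_mem_erase hi) (Finset.ne_of_mem_erase hi)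
      calc (d ψ : ℤ) ^ 2 * xi i ^ 2 = ((d ψ : ℤ) * xi i) ^ 2 := by ring
        _ = ((d i : ℤ) * y) ^ 2 := by rw [this]
        _ = y ^ 2 * (d i : ℤ) ^ 2 := by ring
    rw [← hD, ← h3]
    show (d ψ : ℤ) ^ 2 * (xi ψ ^ 2 + ∑ j ∈ S₀.erase ψ, xi j ^ 2) = _
    rw [hxψ]; ring
  have hE : (d ψ : ℤ) ^ 2 * (1 + (a : ℤ) ^ 2) =
      y ^ 2 * D - 2 * y * a * (d ψ : ℤ) ^ 2 + (a : ℤ) ^ 2 * (d ψ : ℤ) ^ 2 + (d ψ : ℤ) ^ 2 * m := by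
    linear_combination (d ψ : ℤ) ^ 2 * hpyZ + hsq
  have hDlt : 2 * (a : ℤ) * (d ψ : ℤ) ^ 2 < D := by
    have h : ((2 * d ψ * d χ : ℕ) : ℤ) < ((∑ ξ ∈ S₀, d ξ ^ 2 : ℕ) : ℤ) := by exact_mod_cast hlt
    rw [ha] at h
    push_cast at h
    rw [hDdef]
    calc 2 * (a : ℤ) * (d ψ : ℤ) ^ 2 = 2 * (d ψ : ℤ) * ((d ψ : ℤ) * a) := by ring
      _ < _ := h
  rcases arith_core (a : ℤ) (d ψ : ℤ) D y m haZ hdψZ hm0 hDlt hE with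
    ⟨hy0, hm1⟩ | ⟨hy1, hm0', hDeq⟩
  · -- good case
    have hxψ' : xi ψ = -(a : ℤ) := by rw [hxψ, hy0]; ring
    have hx0 : ∀ ξ ∈ S₀, ξ ≠ ψ → xi ξ = 0 := by
      intro ξ hξ hne
      have := hrel_ne ξ hξ hne
      rw [hy0, mul_zero] at this
      rcases mul_eq_zero.mp this with h | h
      · exfalso; omega
      · exact h
    have hsum : ∑ j ∈ S₀, classInner X (τ₁ j) • τ₁ j = ((-(a : ℤ) : ℤ) : ℂ) • τ₁ ψ := by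
      rw [Finset.sum_eq_single ψ]
      · rw [hxi ψ hψ, hxψ']
      · intro j hj hne
        rw [hxi j hj, hx0 j hj hne, Int.cast_zero, zero_smul]
      · intro h; exact absurd hψ h
    refine ⟨Δ, hΔgen, by rw [hm, hm1, Int.cast_one], hΔorth', ?_⟩
    rw [← hβdef, ← hXdef, hΔdef, hsum, Int.cast_smul_eq_zsmul]
    abel
  · -- bad case
    exfalso
    have hXsum : X = ∑ j ∈ S₀, classInner X (τ₁ j) • τ₁ j := by
      have h0 : Δ = 0 := eq_zero_of_classInner_self_eq_zero (by rw [hm, hm0', Int.cast_zero])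
      rw [h0] at hΔdef
      exact sub_eq_zero.mp hΔdef.symm
    have h0 : ∑ j ∈ S₀, (xi j : ℂ) * τ₁ j 1 = 0 := by
      have h := hX1
      rw [hXsum, Finset.sum_apply] at h
      refine Eq.trans (Finset.sum_congr rfl fun j hj => ?_) h
      rw [Pi.smul_apply, smul_eq_mul, hxi j hj]
    have ht1 : ∀ ξ ∈ S₀, (d ψ : ℂ) * τ₁ ξ 1 = (d ξ : ℂ) * τ₁ ψ 1 := by
      intro ξ hξ
      have h := hτ1 _ (hγ' ξ hξ)
      rw [hτγ ξ hξ, Pi.add_apply, Pi.smul_apply, Pi.smul_apply, zsmul_eq_mul, zsmul_eq_mul] at h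
      push_cast at h
      linear_combination h
    have hW : ∑ j ∈ S₀, (d j : ℤ) * ((d ψ : ℤ) * xi j) =
        (d ψ : ℤ) * ((d ψ : ℤ) * (y - a)) + y * (D - (d ψ : ℤ) ^ 2) := by
      rw [hsplit (fun j => (d j : ℤ) * ((d ψ : ℤ) * xi j))]
      have h3 : ∑ j ∈ S₀.erase ψ, (d j : ℤ) * ((d ψ : ℤ) * xi j) =
          y * ∑ j ∈ S₀.erase ψ, (d j : ℤ) ^ 2 := by
        rw [Finset.mul_sum]
        refine Finset.sum_congr rfl fun i hi => ?_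
        rw [hrel_ne i (Finset.mem_of_mem_erase hi) (Finset.ne_of_mem_erase hi)]; ring
      rw [h3, hD]
      show (d ψ : ℤ) * ((d ψ : ℤ) * xi ψ) + _ = _
      rw [hxψ]
    have hWval : ∑ j ∈ S₀, (d j : ℤ) * ((d ψ : ℤ) * xi j) = ((a : ℤ) + 1) * (d ψ : ℤ) ^ 2 := by
      rw [hW, hy1, hDeq]; ring
    have h1 : (τ₁ ψ 1) * (((∑ j ∈ S₀, (d j : ℤ) * ((d ψ : ℤ) * xi j) : ℤ)) : ℂ) = 0 := by
      have h4 : (d ψ : ℂ) ^ 2 * ∑ j ∈ S₀, (xi j : ℂ) * τ₁ j 1 = 0 := by rw [h0, mul_zero]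
      rw [← h4, Finset.mul_sum, Int.cast_sum, Finset.mul_sum]
      refine Finset.sum_congr rfl fun j hj => ?_
      push_cast
      linear_combination (-(d ψ : ℂ) * xi j) * ht1 j hj
    rw [hWval] at h1
    have ht0 : τ₁ ψ 1 = 0 := by
      rcases mul_eq_zero.mp h1 with h | h
      · exact h
      · exfalso
        have h' : (((a : ℤ) + 1) * (d ψ : ℤ) ^ 2) = 0 := by exact_mod_cast h
        have h5 : (0 : ℤ) < (d ψ : ℤ) := by omega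
        have : (0 : ℤ) < ((a : ℤ) + 1) * (d ψ : ℤ) ^ 2 := mul_pos (by omega) (pow_pos h5 2)
        omega
    have hn1 : classInner (τ₁ ψ) (τ₁ ψ) = 1 := by
      rw [h1iso ψ hψmem ψ hψmem]; exact irr_self hψirr
    obtain ⟨β', hβ'⟩ := norm_one_cases (h1gen ψ hψmem) hn1
    have hb : (β' : G → ℂ) 1 ≠ 0 := IsIrrCharacter.apply_one_ne_zero β'.2
    rcases hβ' with h | h
    · rw [h] at ht0; exact absurd ht0 hb
    · rw [h, Pi.neg_apply, neg_eq_zero] at ht0; exact absurd ht0 hb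

end stage1


section stage2
variable {G : Type*} [Group G] [Fintype G]

theorem stage2 (N : Subgroup G) [Fintype N] [DecidableEq (N → ℂ)] (S₀ : Finset (N → ℂ))
    (χ : N → ℂ)
    (hirr : ∀ ξ ∈ S₀, IsIrrCharacter N ξ) (hχ : IsIrrCharacter N χ) (hχS : χ ∉ S₀)
    (τ : (N → ℂ) → (G → ℂ))
    (hτ : IsLinearIsometryOn (zspanOn (↑(insert χ S₀) : Set (N → ℂ)) {1}ᶜ) τ)
    (τ₁ : (N → ℂ) → (G → ℂ)) (hτ₁ : IsLinearIsometryOn (zspan (↑S₀ : Set (N → ℂ))) τ₁)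
    (hag : ∀ α ∈ zspanOn (↑S₀ : Set (N → ℂ)) {1}ᶜ, τ₁ α = τ α)
    (ψ : N → ℂ) (hψ : ψ ∈ S₀) (a : ℤ) (hβ1 : (χ + (-a) • ψ) 1 = 0)
    (Δ : G → ℂ) (hΔgen : IsGeneralizedCharacter G Δ) (hΔΔ : classInner Δ Δ = 1)
    (hΔorth : ∀ ξ ∈ S₀, classInner Δ (τ₁ ξ) = 0)
    (hτβ : τ (χ + (-a) • ψ) = Δ + (-a) • τ₁ ψ) :
    ∃ τ₂ : (N → ℂ) → (G → ℂ), IsLinearIsometryOn (zspan (↑(insert χ S₀) : Set (N → ℂ))) τ₂ ∧
      ∀ α ∈ zspanOn (↑(insert χ S₀) : Set (N → ℂ)) {1}ᶜ, τ₂ α = τ α := by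
  obtain ⟨hτadd, hτsmul, hτiso, hτgen⟩ := hτ
  obtain ⟨h1add, h1smul, h1iso, h1gen⟩ := hτ₁
  have hsub : ∀ {f : N → ℂ}, f ∈ zspan (↑S₀ : Set (N → ℂ)) →
      f ∈ zspan (↑(insert χ S₀) : Set (N → ℂ)) :=
    fun hf => zs_mono (by rw [Finset.coe_insert]; exact Set.subset_insert _ _) hf
  have hχmem : χ ∈ zspan (↑(insert χ S₀) : Set (N → ℂ)) :=
    zs_mem (by rw [Finset.coe_insert]; exact Set.mem_insert _ _)
  have hmem : ∀ ξ ∈ S₀, ξ ∈ zspan (↑S₀ : Set (N → ℂ)) :=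
    fun ξ hξ => zs_mem (Finset.mem_coe.mpr hξ)
  have hψmem := hmem ψ hψ
  have hξχ : ∀ ξ ∈ (↑S₀ : Set (N → ℂ)), classInner ξ χ = 0 := fun ξ hξ =>
    irr_ne (hirr ξ (Finset.mem_coe.mp hξ)) hχ
      (fun h => hχS (by rw [← h]; exact Finset.mem_coe.mp hξ))
  have hgχ : ∀ g ∈ zspan (↑S₀ : Set (N → ℂ)), classInner g χ = 0 :=
    fun g hg => zspan_inner_zero_left hξχ hg
  have hχg : ∀ g ∈ zspan (↑S₀ : Set (N → ℂ)), classInner χ g = 0 :=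
    fun g hg => zspan_inner_zero_right hξχ hg
  have hΔg : ∀ g ∈ zspan (↑S₀ : Set (N → ℂ)), classInner Δ (τ₁ g) = 0 := fun g hg =>
    tau_inner_zero h1add h1smul (fun ξ hξ => hΔorth ξ (Finset.mem_coe.mp hξ)) hg
  have hgΔ : ∀ g ∈ zspan (↑S₀ : Set (N → ℂ)), classInner (τ₁ g) Δ = 0 := fun g hg => by
    rw [← classInner_conj_symm, hΔg g hg, map_zero]
  obtain ⟨τ₂, hτ₂def⟩ : ∃ τ₂ : (N → ℂ) → (G → ℂ),
      ∀ f, τ₂ f = τ₁ (f - classInner f χ • χ) + classInner f χ • Δ := ⟨_, fun _ => rfl⟩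
  have KF : ∀ n : ℤ, ∀ g ∈ zspan (↑S₀ : Set (N → ℂ)), τ₂ (n • χ + g) = τ₁ g + n • Δ := by
    intro n g hg
    have hc : classInner (n • χ + g) χ = (n : ℂ) := by
      rw [classInner_add_left, classInner_zsmul_left, irr_self hχ, mul_one, hgχ g hg, add_zero]
    rw [hτ₂def, hc, Int.cast_smul_eq_zsmul, Int.cast_smul_eq_zsmul, add_sub_cancel_left]
  have hdec := mem_zspan_insert S₀ χ
  refine ⟨τ₂, ⟨?_, ?_, ?_, ?_⟩, ?_⟩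
  · intro f₁ hf₁ f₂ hf₂
    obtain ⟨n₁, g₁, hg₁, rfl⟩ := (hdec f₁).mp hf₁
    obtain ⟨n₂, g₂, hg₂, rfl⟩ := (hdec f₂).mp hf₂
    rw [show n₁ • χ + g₁ + (n₂ • χ + g₂) = (n₁ + n₂) • χ + (g₁ + g₂) by module,
      KF _ _ (zs_add hg₁ hg₂), KF _ _ hg₁, KF _ _ hg₂, h1add g₁ hg₁ g₂ hg₂]
    module
  · intro f hf k
    obtain ⟨n, g, hg, rfl⟩ := (hdec f).mp hf
    rw [show k • (n • χ + g) = (k * n) • χ + k • g by module, KF _ _ (zs_smul k hg),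
      KF _ _ hg, h1smul g hg k]
    module
  · intro f₁ hf₁ f₂ hf₂
    obtain ⟨n₁, g₁, hg₁, rfl⟩ := (hdec f₁).mp hf₁
    obtain ⟨n₂, g₂, hg₂, rfl⟩ := (hdec f₂).mp hf₂
    rw [KF _ _ hg₁, KF _ _ hg₂]
    simp only [classInner_add_left, classInner_add_right, classInner_zsmul_left,
      classInner_zsmul_right]
    rw [h1iso g₁ hg₁ g₂ hg₂, hΔg g₂ hg₂, hgΔ g₁ hg₁, hΔΔ, irr_self hχ, hχg g₂ hg₂, hgχ g₁ hg₁]
    ring
  · intro f hf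
    obtain ⟨n, g, hg, rfl⟩ := (hdec f).mp hf
    rw [KF _ _ hg, ← Int.cast_smul_eq_zsmul ℂ n Δ]
    exact IsGeneralizedCharacter.add (h1gen g hg) (IsGeneralizedCharacter.intCast_smul hΔgen n)
  · intro α hα
    obtain ⟨hαs, hα1⟩ := mem_zspanOn_one.mp hα
    obtain ⟨n, g, hg, rfl⟩ := (hdec α).mp hαs
    have hβs : (χ + (-a) • ψ) ∈ zspan (↑(insert χ S₀) : Set (N → ℂ)) :=
      zs_add hχmem (zs_smul _ (hsub hψmem))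
    have hβZ : (χ + (-a) • ψ) ∈ zspanOn (↑(insert χ S₀) : Set (N → ℂ)) {1}ᶜ :=
      mem_zspanOn_one.mpr ⟨hβs, hβ1⟩
    have hnβZ : n • (χ + (-a) • ψ) ∈ zspanOn (↑(insert χ S₀) : Set (N → ℂ)) {1}ᶜ :=
      mem_zspanOn_one.mpr ⟨zs_smul n hβs, by rw [Pi.smul_apply, hβ1, smul_zero]⟩
    have hhs : (g + (n * a) • ψ) ∈ zspan (↑S₀ : Set (N → ℂ)) := zs_add hg (zs_smul _ hψmem)
    have hdecomp : n • χ + g = n • (χ + (-a) • ψ) + (g + (n * a) • ψ) := by module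
    have hh1 : (g + (n * a) • ψ) 1 = 0 := by
      have := hα1
      rw [hdecomp, Pi.add_apply, Pi.smul_apply, hβ1, smul_zero, zero_add] at this
      exact this
    have hhZ₀ : (g + (n * a) • ψ) ∈ zspanOn (↑S₀ : Set (N → ℂ)) {1}ᶜ :=
      mem_zspanOn_one.mpr ⟨hhs, hh1⟩
    have hhZ : (g + (n * a) • ψ) ∈ zspanOn (↑(insert χ S₀) : Set (N → ℂ)) {1}ᶜ :=
      mem_zspanOn_one.mpr ⟨hsub hhs, hh1⟩
    rw [KF n g hg]
    conv_rhs => rw [hdecomp]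
    rw [hτadd _ hnβZ _ hhZ, hτsmul _ hβZ n, hτβ, ← hag _ hhZ₀,
      h1add g hg _ (zs_smul _ hψmem), h1smul ψ hψmem]
    module

end stage2

theorem s1530 {G : Type*} [Group G] [Fintype G] (N : Subgroup G) [Fintype N] (S₀ : Finset (N → ℂ)) (χ : N → ℂ) (hirr : ∀ ξ ∈ S₀, Cfsg.IsIrrCharacter N ξ) (hχ : Cfsg.IsIrrCharacter N χ) (hχS : χ ∉ S₀) (d : (N → ℂ) → ℕ) (hd : ∀ ξ ∈ insert χ S₀, ξ 1 = (d ξ : ℂ)) (τ : (N → ℂ) → (G → ℂ)) (hτ : Cfsg.IsLinearIsometryOn (Cfsg.zspanOn (↑(insert χ S₀) : Set (N → ℂ)) {1}ᶜ) τ) (hτ1 : ∀ α ∈ Cfsg.zspanOn (↑(insert χ S₀) : Set (N → ℂ)) {1}ᶜ, τ α 1 = 0) (hcoh : Cfsg.IsCoherent (↑S₀ : Set (N → ℂ)) {1}ᶜ τ) (ψ : N → ℂ) (hψ : ψ ∈ S₀) (hdvd : d ψ ∣ d χ) (hlt : 2 * d ψ * d χ < ∑ ξ ∈ S₀, d ξ ^ 2) : Cfsg.IsCoherent (↑(insert χ S₀) : Set (N → ℂ)) {1}ᶜ τ := by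
  obtain ⟨⟨α₀, hα₀, hα₀ne⟩, τ₁, hτ₁, hag⟩ := hcoh
  have hsub : ∀ {f : N → ℂ}, f ∈ zspan (↑S₀ : Set (N → ℂ)) →
      f ∈ zspan (↑(insert χ S₀) : Set (N → ℂ)) :=
    fun hf => zs_mono (by rw [Finset.coe_insert]; exact Set.subset_insert _ _) hf
  refine ⟨⟨α₀, ?_, hα₀ne⟩, ?_⟩
  · obtain ⟨h1, h2⟩ := mem_zspanOn_one.mp hα₀
    exact mem_zspanOn_one.mpr ⟨hsub h1, h2⟩
  · obtain ⟨a, ha⟩ := hdvd
    have hdS : ∀ ξ ∈ S₀, ξ 1 = (d ξ : ℂ) := fun ξ hξ => hd ξ (Finset.mem_insert_of_mem hξ)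
    have hdχ : χ 1 = (d χ : ℂ) := hd χ (Finset.mem_insert_self χ S₀)
    obtain ⟨Δ, hΔgen, hΔΔ, hΔorth, hτβ⟩ :=
      stage1 N S₀ χ hirr hχ hχS d hdS hdχ τ hτ hτ1 τ₁ hτ₁ hag ψ hψ a ha hlt
    have hβ1 : (χ + (-(a : ℤ)) • ψ) 1 = 0 := by
      rw [Pi.add_apply, Pi.smul_apply, hdχ, hdS ψ hψ, ha, zsmul_eq_mul]; push_cast; ring
    exact stage2 N S₀ χ hirr hχ hχS τ hτ τ₁ hτ₁ hag ψ hψ (a : ℤ) hβ1 Δ hΔgen hΔΔ hΔorth hτβ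

end Cfsg.Agent.Lib.Lead.Coh
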