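import Mathlib
import Cfsg.Agent.Lib.Lead.Coh5

set_option autoImplicit false
open Cfsg

namespace Cfsg.Agent.Lib.Lead.Coh

open Cfsg.Agent.Lib.Helper6

section basics2

theorem mem_zspan_union {Z : Type*} (X Y : Set (Z → ℂ)) (f : Z → ℂ) :
    f ∈ zspan (X ∪ Y) ↔ ∃ g ∈ zspan X, ∃ h ∈ zspan Y, g + h = f := by
  unfold zspan
  rw [Submodule.span_union, SetLike.mem_coe, Submodule.mem_sup]
  rfl

theorem zspanOn_one_add {Z : Type*} [Group Z] {T : Set (Z → ℂ)} {f g : Z → ℂ}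
    (hf : f ∈ zspanOn T {1}ᶜ) (hg : g ∈ zspanOn T {1}ᶜ) : f + g ∈ zspanOn T {1}ᶜ := by
  obtain ⟨h1, h2⟩ := mem_zspanOn_one.mp hf
  obtain ⟨h3, h4⟩ := mem_zspanOn_one.mp hg
  exact mem_zspanOn_one.mpr ⟨zs_add h1 h3, by rw [Pi.add_apply, h2, h4, add_zero]⟩

theorem zspanOn_one_smul {Z : Type*} [Group Z] {T : Set (Z → ℂ)} {f : Z → ℂ} (n : ℤ)
    (hf : f ∈ zspanOn T {1}ᶜ) : n • f ∈ zspanOn T {1}ᶜ := by
  obtain ⟨h1, h2⟩ := mem_zspanOn_one.mp hf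
  exact mem_zspanOn_one.mpr ⟨zs_smul n h1, by rw [Pi.smul_apply, h2, smul_zero]⟩

theorem zspan_apply_one_int {Z : Type*} [Group Z] {T : Set (Z → ℂ)}
    (hT : ∀ ξ ∈ T, ∃ n : ℤ, ξ 1 = n) {g : Z → ℂ} (hg : g ∈ zspan T) : ∃ k : ℤ, g 1 = k := by
  change g ∈ Submodule.span ℤ T at hg
  induction hg using Submodule.span_induction with
  | mem x hx => exact hT x hx
  | zero => exact ⟨0, by simp⟩
  | add x y _ _ px py =>
    obtain ⟨a, ha⟩ := px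
    obtain ⟨b, hb⟩ := py
    exact ⟨a + b, by rw [Pi.add_apply, ha, hb]; push_cast; ring⟩
  | smul a x _ px =>
    obtain ⟨b, hb⟩ := px
    exact ⟨a * b, by rw [Pi.smul_apply, hb, zsmul_eq_mul]; push_cast; ring⟩

end basics2

section part1
variable {G : Type*} [Group G] [Fintype G]

theorem s1531_part1 (N : Subgroup G) [Fintype N] (S X Y : Set (N → ℂ))
    (hirr : ∀ ξ ∈ S, Cfsg.IsIrrCharacter N ξ) (hXS : X ⊆ S) (hYS : Y ⊆ S) (hXY : Disjoint X Y)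
    (hX2 : ∃ a ∈ X, ∃ b ∈ X, a ≠ b) (hY2 : ∃ a ∈ Y, ∃ b ∈ Y, a ≠ b)
    (α : (N → ℂ) → (G → ℂ)) (hα : Cfsg.IsLinearIsometryOn (Cfsg.zspanOn S {1}ᶜ) α)
    (hα1 : ∀ θ ∈ Cfsg.zspanOn S {1}ᶜ, α θ 1 = 0) (σ τ : (N → ℂ) → (G → ℂ))
    (hσ : Cfsg.IsLinearIsometryOn (Cfsg.zspan X) σ)
    (hσα : ∀ θ ∈ Cfsg.zspanOn X {1}ᶜ, σ θ = α θ)
    (hτ : Cfsg.IsLinearIsometryOn (Cfsg.zspan Y) τ)
    (hτα : ∀ θ ∈ Cfsg.zspanOn Y {1}ᶜ, τ θ = α θ) :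
    ∀ χ ∈ X, ∀ η ∈ Y, Cfsg.classInner (σ χ) (τ η) = 0 := by
  obtain ⟨hαadd, hαsmul, hαiso, hαgen⟩ := hα
  have hσ' := hσ
  have hτ' := hτ
  obtain ⟨hσadd, hσsmul, hσiso, hσgen⟩ := hσ
  obtain ⟨hτadd, hτsmul, hτiso, hτgen⟩ := hτ
  have hXZ : ∀ θ, θ ∈ zspan X → θ 1 = 0 → θ ∈ zspanOn S {1}ᶜ :=
    fun θ h h1 => mem_zspanOn_one.mpr ⟨zs_mono hXS h, h1⟩
  have hYZ : ∀ θ, θ ∈ zspan Y → θ 1 = 0 → θ ∈ zspanOn S {1}ᶜ :=
    fun θ h h1 => mem_zspanOn_one.mpr ⟨zs_mono hYS h, h1⟩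
  have h0X : ∀ θ ∈ zspan X, θ 1 = 0 → σ θ 1 = 0 := by
    intro θ hθ h1
    rw [hσα θ (mem_zspanOn_one.mpr ⟨hθ, h1⟩)]
    exact hα1 θ (hXZ θ hθ h1)
  have h0Y : ∀ θ ∈ zspan Y, θ 1 = 0 → τ θ 1 = 0 := by
    intro θ hθ h1
    rw [hτα θ (mem_zspanOn_one.mpr ⟨hθ, h1⟩)]
    exact hα1 θ (hYZ θ hθ h1)
  obtain ⟨εX, hεX, hXirr, -⟩ := s1529 N X (fun χ h => hirr χ (hXS h)) hX2 σ hσ' h0X
  obtain ⟨εY, hεY, hYirr, -⟩ := s1529 N Y (fun χ h => hirr χ (hYS h)) hY2 τ hτ' h0Y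
  have hdeg : ∀ ξ ∈ S, ∃ n : ℕ, 1 ≤ n ∧ ξ 1 = (n : ℂ) := by
    intro ξ hξ
    obtain ⟨n, hn⟩ := IsCharacter.apply_one_eq_natCast (IsIrrCharacter.isCharacter (hirr ξ hξ))
    refine ⟨n, ?_, hn⟩
    rcases Nat.eq_zero_or_pos n with h | h
    · exfalso; apply IsIrrCharacter.apply_one_ne_zero (hirr ξ hξ); rw [hn, h, Nat.cast_zero]
    · exact h
  have hXYne : ∀ χ ∈ X, ∀ η ∈ Y, χ ≠ η := fun χ hχ η hη h =>
    Set.disjoint_left.mp hXY hχ (by rw [h]; exact hη)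
  have cross : ∀ χ ∈ X, ∀ η ∈ Y, classInner χ η = 0 := fun χ hχ η hη =>
    irr_ne (hirr χ (hXS hχ)) (hirr η (hYS hη)) (hXYne χ hχ η hη)
  have hs : ∀ z : ℂ, (z = 1 ∨ z = -1) → z * z = 1 ∧ (starRingEnd ℂ) z = z := by
    rintro z (rfl | rfl) <;> simp
  obtain ⟨s, hsdef⟩ : ∃ s : ℂ, s = εX * εY := ⟨_, rfl⟩
  have hss : s * s = 1 := by
    rw [hsdef]
    calc εX * εY * (εX * εY) = (εX * εX) * (εY * εY) := by ring
      _ = 1 := by rw [(hs εX hεX).1, (hs εY hεY).1, one_mul]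
  have hs0 : s ≠ 0 := fun h0 => by rw [h0, zero_mul] at hss; exact zero_ne_one hss
  have hF : ∀ χ ∈ X, ∀ η ∈ Y, classInner (σ χ) (τ η) = 0 ∨
      (classInner (σ χ) (τ η) = s ∧ σ χ = s • τ η) := by
    intro χ hχ η hη
    have h1 : classInner (εX • σ χ) (εY • τ η) = s * classInner (σ χ) (τ η) := by
      rw [classInner_smul_left, classInner_smul_right, (hs εY hεY).2, hsdef]; ring
    by_cases h : εX • σ χ = εY • τ η
    · right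
      have h2 : classInner (εX • σ χ) (εY • τ η) = 1 := by
        rw [← h]; exact irr_self (hXirr χ hχ)
      have h3 : σ χ = s • τ η := by
        have : εX • (εX • σ χ) = εX • (εY • τ η) := by rw [h]
        rw [smul_smul, smul_smul, (hs εX hεX).1, one_smul, ← hsdef] at this
        exact this
      refine ⟨?_, h3⟩
      rw [h1] at h2
      calc classInner (σ χ) (τ η) = (s * s) * classInner (σ χ) (τ η) := by rw [hss, one_mul]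
        _ = s * (s * classInner (σ χ) (τ η)) := by ring
        _ = s := by rw [h2, mul_one]
    · left
      have h2 : classInner (εX • σ χ) (εY • τ η) = 0 := irr_ne (hXirr χ hχ) (hYirr η hη) h
      rw [h1] at h2
      exact (mul_eq_zero.mp h2).resolve_left hs0
  intro χ hχ η hη
  rcases hF χ hχ η hη with h | ⟨h, hσχ⟩
  · exact h
  · exfalso
    obtain ⟨χ', hχ', hne⟩ : ∃ χ' ∈ X, χ' ≠ χ := by
      obtain ⟨a, ha, b, hb, hab⟩ := hX2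
      by_cases h : a = χ
      · exact ⟨b, hb, fun hb' => hab (by rw [h, hb'])⟩
      · exact ⟨a, ha, h⟩
    obtain ⟨η', hη', hne'⟩ : ∃ η' ∈ Y, η' ≠ η := by
      obtain ⟨a, ha, b, hb, hab⟩ := hY2
      by_cases h : a = η
      · exact ⟨b, hb, fun hb' => hab (by rw [h, hb'])⟩
      · exact ⟨a, ha, h⟩
    obtain ⟨n, hn1, hn⟩ := hdeg χ (hXS hχ)
    obtain ⟨n', hn'1, hn'⟩ := hdeg χ' (hXS hχ')
    obtain ⟨m, hm1, hm⟩ := hdeg η (hYS hη)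
    obtain ⟨m', hm'1, hm'⟩ := hdeg η' (hYS hη')
    have hθs : ((n' : ℤ) • χ + (-(n : ℤ)) • χ') ∈ zspan X :=
      zs_add (zs_smul _ (zs_mem hχ)) (zs_smul _ (zs_mem hχ'))
    have hθ1 : ((n' : ℤ) • χ + (-(n : ℤ)) • χ') 1 = 0 := by
      rw [Pi.add_apply, Pi.smul_apply, Pi.smul_apply, hn, hn', zsmul_eq_mul, zsmul_eq_mul]
      push_cast; ring
    have hθ's : ((m' : ℤ) • η + (-(m : ℤ)) • η') ∈ zspan Y :=
      zs_add (zs_smul _ (zs_mem hη)) (zs_smul _ (zs_mem hη'))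
    have hθ'1 : ((m' : ℤ) • η + (-(m : ℤ)) • η') 1 = 0 := by
      rw [Pi.add_apply, Pi.smul_apply, Pi.smul_apply, hm, hm', zsmul_eq_mul, zsmul_eq_mul]
      push_cast; ring
    have e1 : α ((n' : ℤ) • χ + (-(n : ℤ)) • χ') = (n' : ℤ) • σ χ + (-(n : ℤ)) • σ χ' := by
      rw [← hσα _ (mem_zspanOn_one.mpr ⟨hθs, hθ1⟩),
        hσadd _ (zs_smul _ (zs_mem hχ)) _ (zs_smul _ (zs_mem hχ')), hσsmul _ (zs_mem hχ),
        hσsmul _ (zs_mem hχ')]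
    have e2 : α ((m' : ℤ) • η + (-(m : ℤ)) • η') = (m' : ℤ) • τ η + (-(m : ℤ)) • τ η' := by
      rw [← hτα _ (mem_zspanOn_one.mpr ⟨hθ's, hθ'1⟩),
        hτadd _ (zs_smul _ (zs_mem hη)) _ (zs_smul _ (zs_mem hη')), hτsmul _ (zs_mem hη),
        hτsmul _ (zs_mem hη')]
    have e3 := hαiso _ (hXZ _ hθs hθ1) _ (hYZ _ hθ's hθ'1)
    have e4 : classInner ((n' : ℤ) • χ + (-(n : ℤ)) • χ') ((m' : ℤ) • η + (-(m : ℤ)) • η') = 0 := by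
      simp only [classInner_add_left, classInner_add_right, classInner_zsmul_left,
        classInner_zsmul_right]
      rw [cross χ hχ η hη, cross χ hχ η' hη', cross χ' hχ' η hη, cross χ' hχ' η' hη']; ring
    have i1 : classInner (σ χ) (τ η') = 0 := by
      rw [hσχ, classInner_smul_left, hτiso _ (zs_mem hη) _ (zs_mem hη'),
        irr_ne (hirr η (hYS hη)) (hirr η' (hYS hη')) (Ne.symm hne'), mul_zero]
    have i2 : classInner (σ χ') (τ η) = 0 := by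
      have h5 : τ η = s • σ χ := by rw [hσχ, smul_smul, hss, one_smul]
      rw [h5, classInner_smul_right, hσiso _ (zs_mem hχ') _ (zs_mem hχ),
        irr_ne (hirr χ' (hXS hχ')) (hirr χ (hXS hχ)) hne, mul_zero]
    rw [e4, e1, e2] at e3
    simp only [classInner_add_left, classInner_add_right, classInner_zsmul_left,
      classInner_zsmul_right] at e3
    rw [h, i1, i2] at e3
    rcases hF χ' hχ' η' hη' with h' | ⟨h', -⟩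
    · rw [h'] at e3
      have h4 : ((n' * m' : ℕ) : ℂ) * s = 0 := by push_cast at e3 ⊢; linear_combination e3
      have h6 := (mul_eq_zero.mp h4).resolve_right hs0
      have h7 : n' * m' = 0 := by exact_mod_cast h6
      have := Nat.mul_pos hn'1 hm'1
      omega
    · rw [h'] at e3
      have h4 : ((n' * m' + n * m : ℕ) : ℂ) * s = 0 := by
        push_cast at e3 ⊢; linear_combination e3
      have h6 := (mul_eq_zero.mp h4).resolve_right hs0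
      have h7 : n' * m' + n * m = 0 := by exact_mod_cast h6
      have := Nat.mul_pos hn'1 hm'1
      omega

end part1


section part2
variable {G : Type*} [Group G] [Fintype G]

theorem s1531_part2 (N : Subgroup G) [Fintype N] (S X Y : Set (N → ℂ))
    (hirr : ∀ ξ ∈ S, Cfsg.IsIrrCharacter N ξ) (hXS : X ⊆ S) (hYS : Y ⊆ S) (hXY : Disjoint X Y)
    (hX2 : ∃ a ∈ X, ∃ b ∈ X, a ≠ b)
    (α : (N → ℂ) → (G → ℂ)) (hα : Cfsg.IsLinearIsometryOn (Cfsg.zspanOn S {1}ᶜ) α)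
    (σ τ : (N → ℂ) → (G → ℂ))
    (hσ : Cfsg.IsLinearIsometryOn (Cfsg.zspan X) σ)
    (hσα : ∀ θ ∈ Cfsg.zspanOn X {1}ᶜ, σ θ = α θ)
    (hτ : Cfsg.IsLinearIsometryOn (Cfsg.zspan Y) τ)
    (hτα : ∀ θ ∈ Cfsg.zspanOn Y {1}ᶜ, τ θ = α θ)
    (hp1 : ∀ χ ∈ X, ∀ η ∈ Y, Cfsg.classInner (σ χ) (τ η) = 0)
    (χ₀ : N → ℂ) (hχ₀ : χ₀ ∈ X) (η₀ : N → ℂ) (hη₀ : η₀ ∈ Y)
    (hω : α (χ₀ 1 • η₀ - η₀ 1 • χ₀) = χ₀ 1 • τ η₀ - η₀ 1 • σ χ₀) :
    Cfsg.IsCoherent (X ∪ Y) {1}ᶜ α := by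
  obtain ⟨hαadd, hαsmul, hαiso, hαgen⟩ := hα
  obtain ⟨hσadd, hσsmul, hσiso, hσgen⟩ := hσ
  obtain ⟨hτadd, hτsmul, hτiso, hτgen⟩ := hτ
  have hdeg : ∀ ξ ∈ S, ∃ n : ℕ, 1 ≤ n ∧ ξ 1 = (n : ℂ) := by
    intro ξ hξ
    obtain ⟨n, hn⟩ := IsCharacter.apply_one_eq_natCast (IsIrrCharacter.isCharacter (hirr ξ hξ))
    refine ⟨n, ?_, hn⟩
    rcases Nat.eq_zero_or_pos n with h | h
    · exfalso; apply IsIrrCharacter.apply_one_ne_zero (hirr ξ hξ); rw [hn, h, Nat.cast_zero]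
    · exact h
  have hXYne : ∀ χ ∈ X, ∀ η ∈ Y, χ ≠ η := fun χ hχ η hη h =>
    Set.disjoint_left.mp hXY hχ (by rw [h]; exact hη)
  have cross : ∀ χ ∈ X, ∀ η ∈ Y, classInner χ η = 0 := fun χ hχ η hη =>
    irr_ne (hirr χ (hXS hχ)) (hirr η (hYS hη)) (hXYne χ hχ η hη)
  have hUS : X ∪ Y ⊆ S := Set.union_subset hXS hYS
  have hgη : ∀ η ∈ Y, ∀ g ∈ zspan X, classInner g η = 0 := fun η hη g hg =>
    zspan_inner_zero_left (fun ξ hξ => cross ξ hξ η hη) hg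
  have hgh : ∀ g ∈ zspan X, ∀ h ∈ zspan Y, classInner g h = 0 := fun g hg h hh =>
    zspan_inner_zero_right (T := Y) (χ := g)
      (fun ξ hξ => by rw [← classInner_conj_symm, hgη ξ hξ g hg, map_zero]) hh
  have hhg : ∀ g ∈ zspan X, ∀ h ∈ zspan Y, classInner h g = 0 := fun g hg h hh => by
    rw [← classInner_conj_symm, hgh g hg h hh, map_zero]
  have hσχτh : ∀ χ ∈ X, ∀ h ∈ zspan Y, classInner (σ χ) (τ h) = 0 := fun χ hχ h hh =>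
    tau_inner_zero hτadd hτsmul (fun ξ hξ => hp1 χ hχ ξ hξ) hh
  have hτhσg : ∀ g ∈ zspan X, ∀ h ∈ zspan Y, classInner (τ h) (σ g) = 0 := fun g hg h hh =>
    tau_inner_zero hσadd hσsmul
      (fun ξ hξ => by rw [← classInner_conj_symm, hσχτh ξ hξ h hh, map_zero]) hg
  have hσgτh : ∀ g ∈ zspan X, ∀ h ∈ zspan Y, classInner (σ g) (τ h) = 0 := fun g hg h hh => by
    rw [← classInner_conj_symm, hτhσg g hg h hh, map_zero]
  have huniq : ∀ g ∈ zspan X, ∀ g' ∈ zspan X, ∀ h ∈ zspan Y, ∀ h' ∈ zspan Y,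
      g + h = g' + h' → g = g' := by
    intro g hg g' hg' h hh h' hh' heq
    have hw : g + (-1 : ℤ) • g' = h' + (-1 : ℤ) • h := by
      rw [neg_one_zsmul, neg_one_zsmul, ← sub_eq_add_neg, ← sub_eq_add_neg,
        sub_eq_sub_iff_add_eq_add, heq, add_comm]
    have hwX : g + (-1 : ℤ) • g' ∈ zspan X := zs_add hg (zs_smul _ hg')
    have hwY : g + (-1 : ℤ) • g' ∈ zspan Y := by rw [hw]; exact zs_add hh' (zs_smul _ hh)
    have := eq_zero_of_classInner_self_eq_zero (hgh _ hwX _ hwY)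
    rw [neg_one_zsmul, ← sub_eq_add_neg] at this
    exact sub_eq_zero.mp this
  obtain ⟨P, hP⟩ : ∃ P : (N → ℂ) → (N → ℂ), ∀ g ∈ zspan X, ∀ h ∈ zspan Y, P (g + h) = g := by
    classical
    refine ⟨fun f => if hf : ∃ g ∈ zspan X, ∃ h ∈ zspan Y, g + h = f then
      Classical.choose hf else 0, ?_⟩
    intro g hg h hh
    have hf : ∃ g' ∈ zspan X, ∃ h' ∈ zspan Y, g' + h' = g + h := ⟨g, hg, h, hh, rfl⟩
    show (if hf : ∃ g' ∈ zspan X, ∃ h' ∈ zspan Y, g' + h' = g + h then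
      Classical.choose hf else 0) = g
    rw [dif_pos hf]
    obtain ⟨hg', h', hh', heq⟩ := Classical.choose_spec hf
    exact huniq _ hg' _ hg _ hh' _ hh heq
  obtain ⟨ρ, hρ⟩ : ∃ ρ : (N → ℂ) → (G → ℂ), ∀ f, ρ f = σ (P f) + τ (f - P f) :=
    ⟨_, fun _ => rfl⟩
  have KF : ∀ g ∈ zspan X, ∀ h ∈ zspan Y, ρ (g + h) = σ g + τ h := by
    intro g hg h hh
    rw [hρ, hP g hg h hh, add_sub_cancel_left]
  have hdec := mem_zspan_union X Y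
  refine ⟨?_, ρ, ⟨?_, ?_, ?_, ?_⟩, ?_⟩
  · obtain ⟨a, ha, b, hb, hab⟩ := hX2
    obtain ⟨na, hna1, hna⟩ := hdeg a (hXS ha)
    obtain ⟨nb, hnb1, hnb⟩ := hdeg b (hXS hb)
    refine ⟨(nb : ℤ) • a + (-(na : ℤ)) • b, mem_zspanOn_one.mpr
      ⟨zs_add (zs_smul _ (zs_mem (Set.mem_union_left Y ha)))
        (zs_smul _ (zs_mem (Set.mem_union_left Y hb))), ?_⟩, ?_⟩
    · rw [Pi.add_apply, Pi.smul_apply, Pi.smul_apply, hna, hnb, zsmul_eq_mul, zsmul_eq_mul]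
      push_cast; ring
    · intro h0
      have h1 : classInner ((nb : ℤ) • a + (-(na : ℤ)) • b) a = (nb : ℂ) := by
        rw [classInner_add_left, classInner_zsmul_left, classInner_zsmul_left,
          irr_self (hirr a (hXS ha)),
          irr_ne (hirr b (hXS hb)) (hirr a (hXS ha)) (Ne.symm hab)]
        push_cast; ring
      rw [h0, classInner_zero_left] at h1
      have : (nb : ℂ) ≠ 0 := by exact_mod_cast (by omega : nb ≠ 0)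
      exact this h1.symm
  · intro f₁ hf₁ f₂ hf₂
    obtain ⟨g₁, hg₁, h₁, hh₁, rfl⟩ := (hdec f₁).mp hf₁
    obtain ⟨g₂, hg₂, h₂, hh₂, rfl⟩ := (hdec f₂).mp hf₂
    rw [show g₁ + h₁ + (g₂ + h₂) = (g₁ + g₂) + (h₁ + h₂) by abel,
      KF _ (zs_add hg₁ hg₂) _ (zs_add hh₁ hh₂), KF _ hg₁ _ hh₁, KF _ hg₂ _ hh₂,
      hσadd _ hg₁ _ hg₂, hτadd _ hh₁ _ hh₂]
    abel
  · intro f hf k
    obtain ⟨g, hg, h, hh, rfl⟩ := (hdec f).mp hf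
    rw [smul_add, KF _ (zs_smul k hg) _ (zs_smul k hh), KF _ hg _ hh, hσsmul _ hg,
      hτsmul _ hh, smul_add]
  · intro f₁ hf₁ f₂ hf₂
    obtain ⟨g₁, hg₁, h₁, hh₁, rfl⟩ := (hdec f₁).mp hf₁
    obtain ⟨g₂, hg₂, h₂, hh₂, rfl⟩ := (hdec f₂).mp hf₂
    rw [KF _ hg₁ _ hh₁, KF _ hg₂ _ hh₂]
    simp only [classInner_add_left, classInner_add_right]
    rw [hσiso _ hg₁ _ hg₂, hτiso _ hh₁ _ hh₂, hσgτh _ hg₁ _ hh₂, hτhσg _ hg₂ _ hh₁,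
      hgh _ hg₁ _ hh₂, hhg _ hg₂ _ hh₁]
  · intro f hf
    obtain ⟨g, hg, h, hh, rfl⟩ := (hdec f).mp hf
    rw [KF _ hg _ hh]
    exact IsGeneralizedCharacter.add (hσgen g hg) (hτgen h hh)
  · intro f hf
    obtain ⟨hfs, hf1⟩ := mem_zspanOn_one.mp hf
    obtain ⟨g, hg, h, hh, rfl⟩ := (hdec f).mp hfs
    rw [KF _ hg _ hh]
    obtain ⟨c, hc1, hc⟩ := hdeg χ₀ (hXS hχ₀)
    obtain ⟨e, he1, he⟩ := hdeg η₀ (hYS hη₀)
    obtain ⟨k, hk⟩ := zspan_apply_one_int (T := X) (fun ξ hξ => by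
      obtain ⟨n, -, hn⟩ := hdeg ξ (hXS hξ)
      exact ⟨n, by rw [hn]; simp⟩) hg
    have hh1 : h 1 = -(k : ℂ) := by
      rw [Pi.add_apply, hk] at hf1; linear_combination hf1
    have hg's : ((c : ℤ) • g + (-k) • χ₀) ∈ zspan X :=
      zs_add (zs_smul _ hg) (zs_smul _ (zs_mem hχ₀))
    have hg'1 : ((c : ℤ) • g + (-k) • χ₀) 1 = 0 := by
      rw [Pi.add_apply, Pi.smul_apply, Pi.smul_apply, hk, hc, zsmul_eq_mul, zsmul_eq_mul]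
      push_cast; ring
    have hh's : ((e : ℤ) • h + k • η₀) ∈ zspan Y :=
      zs_add (zs_smul _ hh) (zs_smul _ (zs_mem hη₀))
    have hh'1 : ((e : ℤ) • h + k • η₀) 1 = 0 := by
      rw [Pi.add_apply, Pi.smul_apply, Pi.smul_apply, hh1, he, zsmul_eq_mul, zsmul_eq_mul]
      push_cast; ring
    have hωs : ((c : ℤ) • η₀ + (-(e : ℤ)) • χ₀) ∈ zspan S :=
      zs_add (zs_smul _ (zs_mem (hYS hη₀))) (zs_smul _ (zs_mem (hXS hχ₀)))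
    have hω1 : ((c : ℤ) • η₀ + (-(e : ℤ)) • χ₀) 1 = 0 := by
      rw [Pi.add_apply, Pi.smul_apply, Pi.smul_apply, hc, he, zsmul_eq_mul, zsmul_eq_mul]
      push_cast; ring
    have hωeq : χ₀ 1 • η₀ - η₀ 1 • χ₀ = (c : ℤ) • η₀ + (-(e : ℤ)) • χ₀ := by
      ext x
      rw [Pi.sub_apply, Pi.add_apply, Pi.smul_apply, Pi.smul_apply, Pi.smul_apply,
        Pi.smul_apply, hc, he, smul_eq_mul, smul_eq_mul, zsmul_eq_mul, zsmul_eq_mul]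
      push_cast; ring
    have hωeq' : χ₀ 1 • τ η₀ - η₀ 1 • σ χ₀ = (c : ℤ) • τ η₀ + (-(e : ℤ)) • σ χ₀ := by
      ext x
      rw [Pi.sub_apply, Pi.add_apply, Pi.smul_apply, Pi.smul_apply, Pi.smul_apply,
        Pi.smul_apply, hc, he, smul_eq_mul, smul_eq_mul, zsmul_eq_mul, zsmul_eq_mul]
      push_cast; ring
    rw [hωeq, hωeq'] at hω
    have mg' : ((c : ℤ) • g + (-k) • χ₀) ∈ zspanOn S {1}ᶜ :=
      mem_zspanOn_one.mpr ⟨zs_mono hXS hg's, hg'1⟩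
    have mh' : ((e : ℤ) • h + k • η₀) ∈ zspanOn S {1}ᶜ :=
      mem_zspanOn_one.mpr ⟨zs_mono hYS hh's, hh'1⟩
    have mω : ((c : ℤ) • η₀ + (-(e : ℤ)) • χ₀) ∈ zspanOn S {1}ᶜ :=
      mem_zspanOn_one.mpr ⟨hωs, hω1⟩
    have mf : (g + h) ∈ zspanOn S {1}ᶜ := mem_zspanOn_one.mpr ⟨zs_mono hUS hfs, hf1⟩
    have hid : ((c : ℤ) * e) • (g + h) =
        ((e : ℤ) • ((c : ℤ) • g + (-k) • χ₀) + (c : ℤ) • ((e : ℤ) • h + k • η₀)) +
          (-k) • ((c : ℤ) • η₀ + (-(e : ℤ)) • χ₀) := by module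
    have hαg' : α ((c : ℤ) • g + (-k) • χ₀) = (c : ℤ) • σ g + (-k) • σ χ₀ := by
      rw [← hσα _ (mem_zspanOn_one.mpr ⟨hg's, hg'1⟩),
        hσadd _ (zs_smul _ hg) _ (zs_smul _ (zs_mem hχ₀)), hσsmul _ hg, hσsmul _ (zs_mem hχ₀)]
    have hαh' : α ((e : ℤ) • h + k • η₀) = (e : ℤ) • τ h + k • τ η₀ := by
      rw [← hτα _ (mem_zspanOn_one.mpr ⟨hh's, hh'1⟩),
        hτadd _ (zs_smul _ hh) _ (zs_smul _ (zs_mem hη₀)), hτsmul _ hh, hτsmul _ (zs_mem hη₀)]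
    have h1 : ((c : ℤ) * e) • α (g + h) = ((c : ℤ) * e) • (σ g + τ h) := by
      rw [← hαsmul _ mf, hid,
        hαadd _ (zspanOn_one_add (zspanOn_one_smul _ mg') (zspanOn_one_smul _ mh')) _
          (zspanOn_one_smul _ mω),
        hαadd _ (zspanOn_one_smul _ mg') _ (zspanOn_one_smul _ mh'), hαsmul _ mg',
        hαsmul _ mh', hαsmul _ mω, hαg', hαh', hω]
      module
    have hcZ : (0 : ℤ) < (c : ℤ) := by exact_mod_cast hc1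
    have heZ : (0 : ℤ) < (e : ℤ) := by exact_mod_cast he1
    have hce : ((c : ℤ) * e) ≠ 0 := (mul_pos hcZ heZ).ne'
    exact (smul_right_injective (G → ℂ) hce h1).symm

end part2

theorem s1531 {G : Type*} [Group G] [Fintype G] (N : Subgroup G) [Fintype N] (S X Y : Set (N → ℂ)) (hirr : ∀ ξ ∈ S, Cfsg.IsIrrCharacter N ξ) (hXS : X ⊆ S) (hYS : Y ⊆ S) (hXY : Disjoint X Y) (hX2 : ∃ a ∈ X, ∃ b ∈ X, a ≠ b) (hY2 : ∃ a ∈ Y, ∃ b ∈ Y, a ≠ b) (α : (N → ℂ) → (G → ℂ)) (hα : Cfsg.IsLinearIsometryOn (Cfsg.zspanOn S {1}ᶜ) α) (hα1 : ∀ θ ∈ Cfsg.zspanOn S {1}ᶜ, α θ 1 = 0) (σ τ : (N → ℂ) → (G → ℂ)) (hσ : Cfsg.IsLinearIsometryOn (Cfsg.zspan X) σ) (hσα : ∀ θ ∈ Cfsg.zspanOn X {1}ᶜ, σ θ = α θ) (hτ : Cfsg.IsLinearIsometryOn (Cfsg.zspan Y) τ) (hτα : ∀ θ ∈ Cfsg.zspanOn Y {1}ᶜ, τ θ = α θ) : (∀ χ ∈ X, ∀ η ∈ Y, Cfsg.classInner (σ χ) (τ η) = 0) ∧ ((∃ χ₀ ∈ X, ∃ η₀ ∈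 Y, α (χ₀ 1 • η₀ - η₀ 1 • χ₀) = χ₀ 1 • τ η₀ - η₀ 1 • σ χ₀) → Cfsg.IsCoherent (X ∪ Y) {1}ᶜ α) := by
  have hp1 := s1531_part1 N S X Y hirr hXS hYS hXY hX2 hY2 α hα hα1 σ τ hσ hσα hτ hτα
  refine ⟨hp1, ?_⟩
  rintro ⟨χ₀, hχ₀, η₀, hη₀, hω⟩
  exact s1531_part2 N S X Y hirr hXS hYS hXY hX2 α hα σ τ hσ hσα hτ hτα hp1 χ₀ hχ₀ η₀ hη₀ hω

end Cfsg.Agent.Lib.Lead.Coh
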