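import Mathlib
import Cfsg.Agent.Lib.Lead.Coh6
import Cfsg.Agent.Lib.Helper6.CharMisc

set_option autoImplicit false
open Cfsg

namespace Cfsg.Agent.Lib.Lead.Coh

open Cfsg.Agent.Lib.Helper6

section orthoTools
variable {G : Type*} [Group G] [Fintype G]

theorem pythag_id (s : Finset (G → ℂ))
    (h1 : ∀ i ∈ s, classInner i i = 1)
    (h0 : ∀ i ∈ s, ∀ j ∈ s, i ≠ j → classInner i j = 0) (X : G → ℂ) :
    classInner X X = ∑ i ∈ s, classInner X i * (starRingEnd ℂ) (classInner X i) +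
      classInner (X - ∑ j ∈ s, classInner X j • j) (X - ∑ j ∈ s, classInner X j • j) := by
  classical
  exact (pythag s (fun i => i) (fun i hi j hj => by
    by_cases h : i = j
    · rw [if_pos h, ← h]; exact h1 i hi
    · rw [if_neg h]; exact h0 i hi j hj h) X).2

theorem expansion_inner_mem (s : Finset (G → ℂ))
    (h1 : ∀ i ∈ s, classInner i i = 1)
    (h0 : ∀ i ∈ s, ∀ j ∈ s, i ≠ j → classInner i j = 0) (c : (G → ℂ) → ℂ) {α : G → ℂ}
    (hα : α ∈ s) : classInner (∑ β ∈ s, c β • β) α = c α := by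
  rw [classInner_sum_left, Finset.sum_eq_single α]
  · rw [classInner_smul_left, h1 α hα, mul_one]
  · intro β hβ hne
    rw [classInner_smul_left, h0 β hβ α hα hne, mul_zero]
  · intro h; exact absurd hα h

theorem inner_expansion (s : Finset (G → ℂ)) (Y : G → ℂ) (c : (G → ℂ) → ℂ) :
    classInner Y (∑ α ∈ s, c α • α) = ∑ α ∈ s, (starRingEnd ℂ) (c α) * classInner Y α := by
  rw [classInner_sum_right]
  refine Finset.sum_congr rfl fun α _ => ?_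
  rw [classInner_smul_right]

theorem norm_expansion (s : Finset (G → ℂ))
    (h1 : ∀ i ∈ s, classInner i i = 1)
    (h0 : ∀ i ∈ s, ∀ j ∈ s, i ≠ j → classInner i j = 0) (c : (G → ℂ) → ℂ) :
    classInner (∑ α ∈ s, c α • α) (∑ α ∈ s, c α • α) =
      ∑ α ∈ s, c α * (starRingEnd ℂ) (c α) := by
  rw [inner_expansion]
  refine Finset.sum_congr rfl fun α hα => ?_
  rw [expansion_inner_mem s h1 h0 c hα, mul_comm]

end orthoTools

section s1517
variable {L : Type*} [Group L] [Fintype L] {G : Type*} [Group G] [Fintype G]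
variable {S : Set (L → ℂ)} {τ : (L → ℂ) → (G → ℂ)} {R : (L → ℂ) → Finset (G → ℂ)}

theorem conjFun_conjFun' {X : Type*} (χ : X → ℂ) : conjFun (conjFun χ) = χ := by
  funext x; simp [conjFun]

theorem classInner_conjFun (χ ψ : L → ℂ) :
    classInner (conjFun χ) (conjFun ψ) = (starRingEnd ℂ) (classInner χ ψ) :=
  classInner_conj_conj χ ψ

theorem cs_sub_mem (hS : IsCoherenceSystem S τ R) (hdeg : ∀ φ ∈ S, ∀ ψ ∈ S, φ 1 = ψ 1)
    {χ ψ : L → ℂ} (hχ : χ ∈ S) (hψ : ψ ∈ S) : χ - ψ ∈ zspanOn S {1}ᶜ :=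
  mem_zspanOn_one.mpr ⟨Submodule.sub_mem _ (zs_mem hχ) (zs_mem hψ),
    by rw [Pi.sub_apply, hdeg χ hχ ψ hψ, sub_self]⟩

theorem cs_conj_orth (hS : IsCoherenceSystem S τ R) {χ : L → ℂ} (hχ : χ ∈ S) :
    classInner χ (conjFun χ) = 0 :=
  hS.orthogonal χ hχ _ (hS.conj_mem χ hχ) (hS.conj_ne χ hχ).symm

theorem cs_h1 (hS : IsCoherenceSystem S τ R) {χ : L → ℂ} (hχ : χ ∈ S) :
    ∀ i ∈ R χ, classInner i i = 1 := fun i hi => by
  rw [hS.orthonormal χ hχ i hi i hi, if_pos rfl]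

theorem cs_h0 (hS : IsCoherenceSystem S τ R) {χ : L → ℂ} (hχ : χ ∈ S) :
    ∀ i ∈ R χ, ∀ j ∈ R χ, i ≠ j → classInner i j = 0 := fun i hi j hj hij => by
  rw [hS.orthonormal χ hχ i hi j hj, if_neg hij]

theorem KL (hS : IsCoherenceSystem S τ R) (hdeg : ∀ φ ∈ S, ∀ ψ ∈ S, φ 1 = ψ 1) {χ ψ : L → ℂ}
    (hχ : χ ∈ S) (hψ : ψ ∈ S) (h1 : ψ ≠ χ) (h2 : ψ ≠ conjFun χ) :
    (∀ α ∈ R χ, ∃ k : ℤ, classInner (τ (χ - ψ)) α = k) ∧
    (∑ α ∈ R χ, classInner (τ (χ - ψ)) α = classInner χ χ) ∧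
    (∑ α ∈ R χ, classInner (τ (χ - ψ)) α * (starRingEnd ℂ) (classInner (τ (χ - ψ)) α) =
      classInner χ χ) ∧
    τ (χ - ψ) = ∑ α ∈ R χ, classInner (τ (χ - ψ)) α • α +
      ∑ β ∈ R ψ, classInner (τ (χ - ψ)) β • β := by
  classical
  obtain ⟨hτadd, hτsmul, hτiso, hτgen⟩ := hS.isometry
  have hcχ := hS.conj_mem χ hχ
  have hcψ := hS.conj_mem ψ hψ
  have m1 := cs_sub_mem hS hdeg hχ hψ
  have m2 := cs_sub_mem hS hdeg hχ hcχ
  have m3 := cs_sub_mem hS hdeg hψ hcψ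
  obtain ⟨X, hX⟩ : ∃ X, X = τ (χ - ψ) := ⟨_, rfl⟩
  rw [← hX]
  have hXgen : IsGeneralizedCharacter G X := by rw [hX]; exact hτgen _ m1
  have o1 : classInner χ (conjFun χ) = 0 := cs_conj_orth hS hχ
  have o2 : classInner ψ χ = 0 := hS.orthogonal ψ hψ χ hχ h1
  have o3 : classInner ψ (conjFun χ) = 0 := hS.orthogonal ψ hψ _ hcχ h2
  have o4 : classInner χ ψ = 0 := hS.orthogonal χ hχ ψ hψ (Ne.symm h1)
  have h2' : χ ≠ conjFun ψ := by
    intro h; apply h2; rw [h, conjFun_conjFun']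
  have o5 : classInner χ (conjFun ψ) = 0 := hS.orthogonal χ hχ _ hcψ h2'
  have o6 : classInner ψ (conjFun ψ) = 0 := cs_conj_orth hS hψ
  have gχ := IsCharacter.isGeneralizedCharacter (hS.isCharacter χ hχ)
  have gψ := IsCharacter.isGeneralizedCharacter (hS.isCharacter ψ hψ)
  obtain ⟨Nχ, hNχ⟩ := classInner_gen_int gχ gχ
  obtain ⟨Nψ, hNψ⟩ := classInner_gen_int gψ gψ
  have hintχ : ∀ α ∈ R χ, ∃ k : ℤ, classInner X α = k := fun α hα =>
    classInner_gen_int hXgen (hS.virtual χ hχ α hα)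
  have hintψ : ∀ β ∈ R ψ, ∃ k : ℤ, classInner X β = k := fun β hβ =>
    classInner_gen_int hXgen (hS.virtual ψ hψ β hβ)
  choose! a ha using hintχ
  choose! b hb using hintψ
  have hsa : ∑ α ∈ R χ, classInner X α = classInner χ χ := by
    have e := classInner_sum_right (R χ) (fun α => α) X
    rw [← e, ← hS.sum_eq χ hχ, hX, hτiso _ m1 _ m2, classInner_sub_left, classInner_sub_right,
      classInner_sub_right, o1, o2, o3]
    ring
  have hsb : ∑ β ∈ R ψ, classInner X β = - classInner ψ ψ := by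
    have e := classInner_sum_right (R ψ) (fun α => α) X
    rw [← e, ← hS.sum_eq ψ hψ, hX, hτiso _ m1 _ m3, classInner_sub_left, classInner_sub_right,
      classInner_sub_right, o4, o5, o6]
    ring
  have hXX : classInner X X = classInner χ χ + classInner ψ ψ := by
    rw [hX, hτiso _ m1 _ m1, classInner_sub_left, classInner_sub_right, classInner_sub_right,
      o4, o2]
    ring
  have hdisj : ∀ α ∈ R χ, ∀ β ∈ R ψ, classInner α β = 0 := fun α hα β hβ =>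
    hS.disjoint ψ hψ χ hχ o4 o5 α hα β hβ
  have hdisj' : ∀ α ∈ R χ, ∀ β ∈ R ψ, classInner β α = 0 := fun α hα β hβ => by
    rw [← classInner_conj_symm, hdisj α hα β hβ, map_zero]
  have hn1 : ∀ i ∈ R χ ∪ R ψ, classInner i i = 1 := by
    intro i hi
    rcases Finset.mem_union.mp hi with h | h
    · exact cs_h1 hS hχ i h
    · exact cs_h1 hS hψ i h
  have hn0 : ∀ i ∈ R χ ∪ R ψ, ∀ j ∈ R χ ∪ R ψ, i ≠ j → classInner i j = 0 := by
    intro i hi j hj hij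
    rcases Finset.mem_union.mp hi with h | h <;> rcases Finset.mem_union.mp hj with h' | h'
    · exact cs_h0 hS hχ i h j h' hij
    · exact hdisj i h j h'
    · exact hdisj' j h' i h
    · exact cs_h0 hS hψ i h j h' hij
  have hdis : Disjoint (R χ) (R ψ) := by
    rw [Finset.disjoint_left]
    intro i hi hi'
    have := hdisj i hi i hi'
    rw [cs_h1 hS hχ i hi] at this
    exact one_ne_zero this
  have hpy := pythag_id (R χ ∪ R ψ) hn1 hn0 X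
  rw [Finset.sum_union hdis, Finset.sum_union hdis] at hpy
  obtain ⟨Δ, hΔ⟩ : ∃ Δ, Δ = X - (∑ α ∈ R χ, classInner X α • α +
      ∑ β ∈ R ψ, classInner X β • β) := ⟨_, rfl⟩
  rw [← hΔ] at hpy
  have hΔgen : IsGeneralizedCharacter G Δ := by
    rw [hΔ]
    refine IsGeneralizedCharacter.sub hXgen (IsGeneralizedCharacter.add
      (IsGeneralizedCharacter.sum _ _ fun α hα => ?_)
      (IsGeneralizedCharacter.sum _ _ fun β hβ => ?_))
    · rw [ha α hα]; exact IsGeneralizedCharacter.intCast_smul (hS.virtual χ hχ α hα) _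
    · rw [hb β hβ]; exact IsGeneralizedCharacter.intCast_smul (hS.virtual ψ hψ β hβ) _
  obtain ⟨m, hm⟩ := classInner_gen_int hΔgen hΔgen
  have hm0 : 0 ≤ m := by
    have := classInner_self_re_nonneg Δ
    rw [hm, Complex.intCast_re] at this
    exact_mod_cast this
  have e1 : ∑ α ∈ R χ, classInner X α * (starRingEnd ℂ) (classInner X α) =
      ((∑ α ∈ R χ, a α ^ 2 : ℤ) : ℂ) := by
    rw [Int.cast_sum]
    refine Finset.sum_congr rfl fun α hα => ?_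
    rw [ha α hα, map_intCast]; push_cast; ring
  have e2 : ∑ β ∈ R ψ, classInner X β * (starRingEnd ℂ) (classInner X β) =
      ((∑ β ∈ R ψ, b β ^ 2 : ℤ) : ℂ) := by
    rw [Int.cast_sum]
    refine Finset.sum_congr rfl fun β hβ => ?_
    rw [hb β hβ, map_intCast]; push_cast; ring
  have e3 : ((∑ α ∈ R χ, a α : ℤ) : ℂ) = Nχ := by
    rw [← hNχ, ← hsa, Int.cast_sum]
    exact Finset.sum_congr rfl fun α hα => (ha α hα).symm
  have e4 : ((∑ β ∈ R ψ, b β : ℤ) : ℂ) = -Nψ := by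
    rw [← hNψ, ← hsb, Int.cast_sum]
    exact Finset.sum_congr rfl fun β hβ => (hb β hβ).symm
  have e3' : ∑ α ∈ R χ, a α = Nχ := by exact_mod_cast e3
  have e4' : ∑ β ∈ R ψ, b β = -Nψ := by exact_mod_cast e4
  rw [hXX, e1, e2, hm, hNχ, hNψ] at hpy
  have e5 : Nχ + Nψ = ∑ α ∈ R χ, a α ^ 2 + ∑ β ∈ R ψ, b β ^ 2 + m := by exact_mod_cast hpy
  have i1 : ∑ α ∈ R χ, a α ≤ ∑ α ∈ R χ, a α ^ 2 :=
    Finset.sum_le_sum fun α _ => Int.le_self_sq (a α)
  have i2 : -∑ β ∈ R ψ, b β ≤ ∑ β ∈ R ψ, b β ^ 2 := by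
    rw [← Finset.sum_neg_distrib]
    refine Finset.sum_le_sum fun β _ => ?_
    have := Int.le_self_sq (-(b β))
    rwa [neg_sq] at this
  have e6 : ∑ α ∈ R χ, a α ^ 2 = Nχ := by linarith
  have e7 : m = 0 := by linarith
  refine ⟨fun α hα => ⟨a α, ha α hα⟩, hsa, by rw [e1, e6, hNχ], ?_⟩
  have hΔ0 : Δ = 0 := eq_zero_of_classInner_self_eq_zero (by rw [hm, e7, Int.cast_zero])
  rw [hΔ0] at hΔ
  exact sub_eq_zero.mp hΔ.symm


theorem OL (hS : IsCoherenceSystem S τ R) (hdeg : ∀ φ ∈ S, ∀ ψ ∈ S, φ 1 = ψ 1)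
    {χ₀ φ₁ φ₂ : L → ℂ} (hχ₀ : χ₀ ∈ S) (h₁ : φ₁ ∈ S) (h₂ : φ₂ ∈ S) (n1 : φ₁ ≠ χ₀)
    (n1' : φ₁ ≠ conjFun χ₀) (n2 : φ₂ ≠ χ₀) (n2' : φ₂ ≠ conjFun χ₀) (hne : φ₂ ≠ φ₁) :
    ∀ α ∈ R χ₀, classInner (τ (φ₁ - φ₂)) α = 0 := by
  intro α hα
  have hc₀ := hS.conj_mem χ₀ hχ₀
  have d1 : ∀ β ∈ R φ₁, classInner β α = 0 := fun β hβ =>
    hS.disjoint χ₀ hχ₀ φ₁ h₁ (hS.orthogonal φ₁ h₁ χ₀ hχ₀ n1) (hS.orthogonal φ₁ h₁ _ hc₀ n1')
      β hβ α hα
  have d2 : ∀ β ∈ R φ₂, classInner β α = 0 := fun β hβ =>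
    hS.disjoint χ₀ hχ₀ φ₂ h₂ (hS.orthogonal φ₂ h₂ χ₀ hχ₀ n2) (hS.orthogonal φ₂ h₂ _ hc₀ n2')
      β hβ α hα
  by_cases hc : φ₂ = conjFun φ₁
  · rw [hc, hS.sum_eq φ₁ h₁, classInner_sum_left]
    exact Finset.sum_eq_zero fun β hβ => d1 β hβ
  · obtain ⟨-, -, -, hexp⟩ := KL hS hdeg h₁ h₂ hne hc
    have e := congrArg (fun f => classInner f α) hexp
    beta_reduce at e
    rw [e, classInner_add_left, classInner_sum_left, classInner_sum_left,
      Finset.sum_eq_zero (fun β hβ => by rw [classInner_smul_left, d1 β hβ, mul_zero]),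
      Finset.sum_eq_zero (fun β hβ => by rw [classInner_smul_left, d2 β hβ, mul_zero]), add_zero]

theorem norm_sum_orthonormal (s : Finset (G → ℂ))
    (h1 : ∀ i ∈ s, classInner i i = 1)
    (h0 : ∀ i ∈ s, ∀ j ∈ s, i ≠ j → classInner i j = 0) (t : Finset (G → ℂ)) (hts : t ⊆ s) :
    classInner (∑ α ∈ s, α) (∑ β ∈ t, β) = (t.card : ℂ) := by
  rw [classInner_sum_right]
  have : ∀ β ∈ t, classInner (∑ α ∈ s, α) β = 1 := by
    intro β hβ
    rw [classInner_sum_left, Finset.sum_eq_single β]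
    · exact h1 β (hts hβ)
    · intro α hα hne; exact h0 α hα β (hts hβ) hne
    · intro h; exact absurd (hts hβ) h
  rw [Finset.sum_congr rfl this, Finset.sum_const, nsmul_eq_mul, mul_one]

theorem exists_T0 (hS : IsCoherenceSystem S τ R) (hdeg : ∀ φ ∈ S, ∀ ψ ∈ S, φ 1 = ψ 1)
    {χ₀ : L → ℂ} (hχ₀ : χ₀ ∈ S) :
    ∃ T₀ : G → ℂ, IsGeneralizedCharacter G T₀ ∧ classInner T₀ T₀ = classInner χ₀ χ₀ ∧
      ∀ ψ ∈ S, ψ ≠ χ₀ → classInner (τ (χ₀ - ψ)) T₀ = classInner χ₀ χ₀ := by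
  classical
  obtain ⟨hτadd, hτsmul, hτiso, hτgen⟩ := hS.isometry
  have hc₀ := hS.conj_mem χ₀ hχ₀
  have hh1 := cs_h1 hS hχ₀
  have hh0 := cs_h0 hS hχ₀
  have g₀ := IsCharacter.isGeneralizedCharacter (hS.isCharacter χ₀ hχ₀)
  obtain ⟨N₀, hN₀⟩ := classInner_gen_int g₀ g₀
  have hreal : (starRingEnd ℂ) (classInner χ₀ χ₀) = classInner χ₀ χ₀ := classInner_conj_symm χ₀ χ₀
  by_cases hcase : ∃ ψ₁ ∈ S, ψ₁ ≠ χ₀ ∧ ψ₁ ≠ conjFun χ₀
  · obtain ⟨ψ₁, hψ₁, h1, h2⟩ := hcase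
    obtain ⟨hk, hsum, hsq, hexp⟩ := KL hS hdeg hχ₀ hψ₁ h1 h2
    obtain ⟨X, hX⟩ : ∃ X, X = τ (χ₀ - ψ₁) := ⟨_, rfl⟩
    rw [← hX] at hk hsum hsq hexp
    obtain ⟨T₀, hT₀⟩ : ∃ T₀, T₀ = ∑ α ∈ R χ₀, classInner X α • α := ⟨_, rfl⟩
    have hT₀α : ∀ α ∈ R χ₀, classInner T₀ α = classInner X α := fun α hα => by
      rw [hT₀]; exact expansion_inner_mem (R χ₀) hh1 hh0 (fun α => classInner X α) hα
    have hYT : ∀ Y : G → ℂ, classInner Y T₀ =
        ∑ α ∈ R χ₀, (starRingEnd ℂ) (classInner X α) * classInner Y α := fun Y => by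
      rw [hT₀]; exact inner_expansion (R χ₀) Y (fun α => classInner X α)
    refine ⟨T₀, ?_, ?_, ?_⟩
    · rw [hT₀]
      refine IsGeneralizedCharacter.sum _ _ fun α hα => ?_
      obtain ⟨k, hk'⟩ := hk α hα
      rw [hk']
      exact IsGeneralizedCharacter.intCast_smul (hS.virtual χ₀ hχ₀ α hα) _
    · rw [hT₀, norm_expansion (R χ₀) hh1 hh0 (fun α => classInner X α)]
      exact hsq
    · intro ψ hψ hne
      by_cases hψc : ψ = conjFun χ₀
      · rw [hψc, hS.sum_eq χ₀ hχ₀, ← classInner_conj_symm, classInner_sum_right,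
          Finset.sum_congr rfl hT₀α, hsum, hreal]
      · by_cases hψ1 : ψ = ψ₁
        · rw [hψ1, ← hX, hYT]
          rw [← hsq]
          exact Finset.sum_congr rfl fun α _ => mul_comm _ _
        · have hdecomp : χ₀ - ψ = (χ₀ - ψ₁) + (ψ₁ - ψ) := by abel
          rw [hdecomp, hτadd _ (cs_sub_mem hS hdeg hχ₀ hψ₁) _ (cs_sub_mem hS hdeg hψ₁ hψ),
            classInner_add_left, ← hX]
          have hz : classInner (τ (ψ₁ - ψ)) T₀ = 0 := by
            rw [hYT]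
            refine Finset.sum_eq_zero fun α hα => ?_
            rw [OL hS hdeg hχ₀ hψ₁ hψ h1 h2 hne hψc hψ1 α hα, mul_zero]
          rw [hz, add_zero, hYT, ← hsq]
          exact Finset.sum_congr rfl fun α _ => mul_comm _ _
  · push Not at hcase
    -- S = {χ₀, conj χ₀}
    have hcard : ((R χ₀).card : ℂ) = 2 * N₀ := by
      have e := norm_sum_orthonormal (R χ₀) hh1 hh0 (R χ₀) (Finset.Subset.refl _)
      rw [← e, ← hS.sum_eq χ₀ hχ₀, hτiso _ (cs_sub_mem hS hdeg hχ₀ hc₀) _ (cs_sub_mem hS hdeg hχ₀ hc₀),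
        classInner_sub_left, classInner_sub_right, classInner_sub_right, cs_conj_orth hS hχ₀,
        hS.orthogonal _ hc₀ χ₀ hχ₀ (hS.conj_ne χ₀ hχ₀), classInner_conjFun, hreal, hN₀]
      ring
    have hcardZ : ((R χ₀).card : ℤ) = 2 * N₀ := by exact_mod_cast hcard
    have hN₀nn : 0 ≤ N₀ := by omega
    obtain ⟨R₁, hR₁s, hR₁c⟩ := Finset.exists_subset_card_eq (s := R χ₀) (n := N₀.toNat) (by omega)
    have hR₁c' : (R₁.card : ℂ) = classInner χ₀ χ₀ := by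
      rw [hN₀, hR₁c]
      have : ((N₀.toNat : ℤ) : ℂ) = (N₀ : ℂ) := by rw [Int.toNat_of_nonneg hN₀nn]
      exact_mod_cast this
    refine ⟨∑ β ∈ R₁, β, ?_, ?_, ?_⟩
    · exact IsGeneralizedCharacter.sum _ _ fun α hα => hS.virtual χ₀ hχ₀ α (hR₁s hα)
    · rw [norm_sum_orthonormal R₁ (fun i hi => hh1 i (hR₁s hi))
        (fun i hi j hj => hh0 i (hR₁s hi) j (hR₁s hj)) R₁ (Finset.Subset.refl _), hR₁c']
    · intro ψ hψ hne
      have hψc : ψ = conjFun χ₀ := hcase ψ hψ hne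
      rw [hψc, hS.sum_eq χ₀ hχ₀, norm_sum_orthonormal (R χ₀) hh1 hh0 R₁ hR₁s, hR₁c']


theorem s1517 (S : Set (L → ℂ)) (τ : (L → ℂ) → (G → ℂ)) (R : (L → ℂ) → Finset (G → ℂ))
    (hS : Cfsg.IsCoherenceSystem S τ R) (hdeg : ∀ φ ∈ S, ∀ ψ ∈ S, φ 1 = ψ 1) :
    Cfsg.IsCoherent S {1}ᶜ τ := by
  obtain ⟨χ₀, hχ₀⟩ := hS.nonempty
  obtain ⟨hτadd, hτsmul, hτiso, hτgen⟩ := hS.isometry
  have hc₀ := hS.conj_mem χ₀ hχ₀
  obtain ⟨T₀, hT₀gen, hT₀n, hT₀⟩ := exists_T0 hS hdeg hχ₀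
  obtain ⟨d, hd⟩ : ∃ d : ℂ, d = χ₀ 1 := ⟨_, rfl⟩
  have hd0 : d ≠ 0 := by
    intro h0
    rw [hd] at h0
    have hz := IsCharacter.eq_zero_of_apply_one_eq_zero (hS.isCharacter χ₀ hχ₀) h0
    apply hS.conj_ne χ₀ hχ₀
    rw [hz]
    funext x
    simp [conjFun]
  have hdS : ∀ ψ ∈ S, ψ 1 = d := fun ψ hψ => by rw [hd]; exact hdeg ψ hψ χ₀ hχ₀
  have hχ₀s : χ₀ ∈ zspan S := zs_mem hχ₀
  refine ⟨⟨χ₀ - conjFun χ₀, cs_sub_mem hS hdeg hχ₀ hc₀,
    fun h => hS.conj_ne χ₀ hχ₀ (sub_eq_zero.mp h).symm⟩, ?_⟩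
  have hτ0 : τ 0 = 0 := by
    have h0 : (0 : L → ℂ) ∈ zspanOn S {1}ᶜ := mem_zspanOn_one.mpr ⟨Submodule.zero_mem _, rfl⟩
    have := hτsmul 0 h0 0
    rwa [zero_smul, zero_smul] at this
  have hprim : ∀ f ∈ zspan S, ∀ k : ℤ, f 1 = k * d → f + (-k) • χ₀ ∈ zspanOn S {1}ᶜ := by
    intro f hf k hk
    refine mem_zspanOn_one.mpr ⟨zs_add hf (zs_smul _ hχ₀s), ?_⟩
    rw [Pi.add_apply, Pi.smul_apply, hk, hdS χ₀ hχ₀, zsmul_eq_mul]
    push_cast; ring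
  -- the key property
  have hstar : ∀ f ∈ zspan S, ∃ k : ℤ, f 1 = k * d ∧
      classInner (τ (f + (-k) • χ₀)) T₀ = classInner (f + (-k) • χ₀) χ₀ := by
    intro f hf
    have hf' := hf
    change f ∈ Submodule.span ℤ S at hf
    induction hf using Submodule.span_induction with
    | mem ψ hψ =>
      refine ⟨1, by rw [hdS ψ hψ]; simp, ?_⟩
      by_cases hne : ψ = χ₀
      · have : ψ + (-(1 : ℤ)) • χ₀ = 0 := by rw [hne]; simp
        rw [this, hτ0, classInner_zero_left, classInner_zero_left]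
      · have e1 : ψ + (-(1 : ℤ)) • χ₀ = (-1 : ℤ) • (χ₀ - ψ) := by module
        rw [e1, hτsmul _ (cs_sub_mem hS hdeg hχ₀ hψ), classInner_zsmul_left, classInner_zsmul_left,
          hT₀ ψ hψ hne, classInner_sub_left, hS.orthogonal ψ hψ χ₀ hχ₀ hne]
        ring
    | zero =>
      refine ⟨0, by simp, ?_⟩
      have : (0 : L → ℂ) + (-(0 : ℤ)) • χ₀ = 0 := by simp
      rw [this, hτ0, classInner_zero_left, classInner_zero_left]
    | add x y hx hy px py =>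
      obtain ⟨kx, hkx, ex⟩ := px hx
      obtain ⟨ky, hky, ey⟩ := py hy
      refine ⟨kx + ky, by rw [Pi.add_apply, hkx, hky]; push_cast; ring, ?_⟩
      have e1 : x + y + (-(kx + ky)) • χ₀ = (x + (-kx) • χ₀) + (y + (-ky) • χ₀) := by module
      rw [e1, hτadd _ (hprim x hx kx hkx) _ (hprim y hy ky hky), classInner_add_left,
        classInner_add_left, ex, ey]
    | smul n x hx px =>
      obtain ⟨kx, hkx, ex⟩ := px hx
      refine ⟨n * kx, by rw [Pi.smul_apply, hkx, zsmul_eq_mul]; push_cast; ring, ?_⟩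
      have e1 : n • x + (-(n * kx)) • χ₀ = n • (x + (-kx) • χ₀) := by module
      rw [e1, hτsmul _ (hprim x hx kx hkx), classInner_zsmul_left, classInner_zsmul_left, ex]
  have hkuniq : ∀ {f : L → ℂ} {k k' : ℤ}, f 1 = k * d → f 1 = k' * d → k = k' := by
    intro f k k' h h'
    have : (k : ℂ) = k' := mul_right_cancel₀ hd0 (h.symm.trans h')
    exact_mod_cast this
  obtain ⟨τ₁, hτ₁⟩ : ∃ τ₁ : (L → ℂ) → (G → ℂ),
      ∀ f, τ₁ f = τ (f - (f 1 / d) • χ₀) + (f 1 / d) • T₀ := ⟨_, fun _ => rfl⟩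
  have KF : ∀ f : L → ℂ, ∀ k : ℤ, f 1 = k * d → τ₁ f = τ (f + (-k) • χ₀) + k • T₀ := by
    intro f k hk
    have hq : f 1 / d = (k : ℂ) := by rw [hk, mul_div_assoc, div_self hd0, mul_one]
    rw [hτ₁, hq, Int.cast_smul_eq_zsmul, Int.cast_smul_eq_zsmul, sub_eq_add_neg, neg_smul]
  have hstar' : ∀ f ∈ zspan S, ∀ k : ℤ, f 1 = k * d →
      classInner T₀ (τ (f + (-k) • χ₀)) = classInner χ₀ (f + (-k) • χ₀) := by
    intro f hf k hk
    obtain ⟨k', hk', e⟩ := hstar f hf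
    have := hkuniq hk hk'
    subst this
    rw [← classInner_conj_symm, e, classInner_conj_symm]
  have hstar'' : ∀ f ∈ zspan S, ∀ k : ℤ, f 1 = k * d →
      classInner (τ (f + (-k) • χ₀)) T₀ = classInner (f + (-k) • χ₀) χ₀ := by
    intro f hf k hk
    obtain ⟨k', hk', e⟩ := hstar f hf
    have := hkuniq hk hk'
    subst this
    exact e
  refine ⟨τ₁, ⟨?_, ?_, ?_, ?_⟩, ?_⟩
  · intro f hf g hg
    obtain ⟨kf, hkf, -⟩ := hstar f hf
    obtain ⟨kg, hkg, -⟩ := hstar g hg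
    have hfg : (f + g) 1 = ((kf + kg : ℤ) : ℂ) * d := by
      rw [Pi.add_apply, hkf, hkg]; push_cast; ring
    rw [KF _ _ hfg, KF _ _ hkf, KF _ _ hkg]
    have e1 : f + g + (-(kf + kg)) • χ₀ = (f + (-kf) • χ₀) + (g + (-kg) • χ₀) := by module
    rw [e1, hτadd _ (hprim f hf kf hkf) _ (hprim g hg kg hkg)]
    module
  · intro f hf n
    obtain ⟨kf, hkf, -⟩ := hstar f hf
    have hnf : (n • f) 1 = ((n * kf : ℤ) : ℂ) * d := by
      rw [Pi.smul_apply, hkf, zsmul_eq_mul]; push_cast; ring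
    rw [KF _ _ hnf, KF _ _ hkf]
    have e1 : n • f + (-(n * kf)) • χ₀ = n • (f + (-kf) • χ₀) := by module
    rw [e1, hτsmul _ (hprim f hf kf hkf)]
    module
  · intro f hf g hg
    obtain ⟨kf, hkf, -⟩ := hstar f hf
    obtain ⟨kg, hkg, -⟩ := hstar g hg
    rw [KF _ _ hkf, KF _ _ hkg]
    obtain ⟨f', hf'⟩ : ∃ f', f' = f + (-kf) • χ₀ := ⟨_, rfl⟩
    obtain ⟨g', hg'⟩ : ∃ g', g' = g + (-kg) • χ₀ := ⟨_, rfl⟩
    have ef : f = f' + kf • χ₀ := by rw [hf']; module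
    have eg : g = g' + kg • χ₀ := by rw [hg']; module
    have mf : f' ∈ zspanOn S {1}ᶜ := by rw [hf']; exact hprim f hf kf hkf
    have mg : g' ∈ zspanOn S {1}ᶜ := by rw [hg']; exact hprim g hg kg hkg
    have s1 : classInner (τ f') T₀ = classInner f' χ₀ := by rw [hf']; exact hstar'' f hf kf hkf
    have s2 : classInner T₀ (τ g') = classInner χ₀ g' := by rw [hg']; exact hstar' g hg kg hkg
    rw [← hf', ← hg']
    conv_rhs => rw [ef, eg]
    simp only [classInner_add_left, classInner_add_right, classInner_zsmul_left,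
      classInner_zsmul_right]
    rw [hτiso f' mf g' mg, s1, s2, hT₀n]
  · intro f hf
    obtain ⟨kf, hkf, -⟩ := hstar f hf
    rw [KF _ _ hkf, ← Int.cast_smul_eq_zsmul ℂ kf T₀]
    exact IsGeneralizedCharacter.add (hτgen _ (hprim f hf kf hkf))
      (IsGeneralizedCharacter.intCast_smul hT₀gen kf)
  · intro f hf
    obtain ⟨hfs, hf1⟩ := mem_zspanOn_one.mp hf
    have h0 : f 1 = ((0 : ℤ) : ℂ) * d := by rw [hf1]; simp
    rw [KF f 0 h0]
    simp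

end s1517

end Cfsg.Agent.Lib.Lead.Coh
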