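import Mathlib
import Cfsg.Agent.Lib.Lead.Coh7

set_option autoImplicit false
open Cfsg

namespace Cfsg.Agent.Lib.Lead.Coh

open Cfsg.Agent.Lib.Helper6

section orthoTools2
variable {G : Type*} [Group G] [Fintype G]

/-- Pythagoras for a finite orthogonal family with nonzero norms -/
theorem pythag_orth {ι : Type*} (s : Finset ι) (v : ι → G → ℂ) (N : ι → ℂ)
    (hN : ∀ i ∈ s, N i ≠ 0)
    (hv1 : ∀ i ∈ s, classInner (v i) (v i) = N i)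
    (hv0 : ∀ i ∈ s, ∀ j ∈ s, i ≠ j → classInner (v i) (v j) = 0) (X : G → ℂ) :
    classInner X X =
      ∑ i ∈ s, classInner X (v i) * (starRingEnd ℂ) (classInner X (v i) / N i) +
      classInner (X - ∑ j ∈ s, (classInner X (v j) / N j) • v j)
        (X - ∑ j ∈ s, (classInner X (v j) / N j) • v j) := by
  set P := ∑ j ∈ s, (classInner X (v j) / N j) • v j with hP
  have h1 : ∀ i ∈ s, classInner P (v i) = classInner X (v i) := by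
    intro i hi
    rw [hP, classInner_sum_left, Finset.sum_eq_single i]
    · rw [classInner_smul_left, hv1 i hi, div_mul_cancel₀ _ (hN i hi)]
    · intro j hj hji
      rw [classInner_smul_left, hv0 j hj i hi hji, mul_zero]
    · intro h; exact absurd hi h
  have h2 : ∀ i ∈ s, classInner (X - P) (v i) = 0 := by
    intro i hi
    rw [classInner_sub_left, h1 i hi, sub_self]
  have h3 : classInner (X - P) P = 0 := by
    rw [hP, classInner_sum_right]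
    refine Finset.sum_eq_zero fun i hi => ?_
    rw [classInner_smul_right, h2 i hi, mul_zero]
  have h4 : classInner P (X - P) = 0 := by
    rw [← classInner_conj_symm, h3, map_zero]
  have h5 : classInner P P =
      ∑ i ∈ s, classInner X (v i) * (starRingEnd ℂ) (classInner X (v i) / N i) := by
    have : classInner P P = classInner P (∑ j ∈ s, (classInner X (v j) / N j) • v j) := by
      rw [← hP]
    rw [this, classInner_sum_right]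
    refine Finset.sum_congr rfl fun i hi => ?_
    rw [classInner_smul_right, h1 i hi, mul_comm]
  have h6 : X = P + (X - P) := by ring
  conv_lhs => rw [h6]
  rw [classInner_add_left, classInner_add_right, classInner_add_right, h3, h4, h5]
  ring

theorem inner_expansion2 (s : Finset (G → ℂ))
    (h1 : ∀ i ∈ s, classInner i i = 1)
    (h0 : ∀ i ∈ s, ∀ j ∈ s, i ≠ j → classInner i j = 0) (c c' : (G → ℂ) → ℂ) :
    classInner (∑ α ∈ s, c α • α) (∑ α ∈ s, c' α • α) =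
      ∑ α ∈ s, c α * (starRingEnd ℂ) (c' α) := by
  rw [inner_expansion]
  refine Finset.sum_congr rfl fun α hα => ?_
  rw [expansion_inner_mem s h1 h0 c hα, mul_comm]

theorem expansion_orth (s : Finset (G → ℂ)) (c : (G → ℂ) → ℂ) (Y : G → ℂ)
    (h : ∀ α ∈ s, classInner α Y = 0) : classInner (∑ α ∈ s, c α • α) Y = 0 := by
  rw [classInner_sum_left]
  exact Finset.sum_eq_zero fun α hα => by rw [classInner_smul_left, h α hα, mul_zero]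

end orthoTools2

section s1516
variable {L : Type*} [Group L] [Fintype L] {G : Type*} [Group G] [Fintype G]
variable {S : Set (L → ℂ)} {τ : (L → ℂ) → (G → ℂ)} {R : (L → ℂ) → Finset (G → ℂ)}

theorem conjFun_apply_one_of_char {φ : L → ℂ} (hφ : IsCharacter L φ) : conjFun φ 1 = φ 1 := by
  obtain ⟨k, hk⟩ := IsCharacter.apply_one_eq_natCast hφ
  show (starRingEnd ℂ) (φ 1) = φ 1
  rw [hk, map_natCast]

theorem cs_sub_conj_mem (hS : IsCoherenceSystem S τ R) {φ : L → ℂ} (hφ : φ ∈ S) :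
    φ - conjFun φ ∈ zspanOn S {1}ᶜ :=
  mem_zspanOn_one.mpr ⟨Submodule.sub_mem _ (zs_mem hφ) (zs_mem (hS.conj_mem φ hφ)),
    by rw [Pi.sub_apply, conjFun_apply_one_of_char (hS.isCharacter φ hφ), sub_self]⟩

/-- `|R χ| = 2 ⟨χ, χ⟩` -/
theorem cs_card (hS : IsCoherenceSystem S τ R) {χ : L → ℂ} (hχ : χ ∈ S) :
    ((R χ).card : ℂ) = 2 * classInner χ χ := by
  obtain ⟨hτadd, hτsmul, hτiso, hτgen⟩ := hS.isometry
  have hc := hS.conj_mem χ hχ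
  have hreal : (starRingEnd ℂ) (classInner χ χ) = classInner χ χ := classInner_conj_symm χ χ
  have e := norm_sum_orthonormal (R χ) (cs_h1 hS hχ) (cs_h0 hS hχ) (R χ) (Finset.Subset.refl _)
  rw [← e, ← hS.sum_eq χ hχ, hτiso _ (cs_sub_conj_mem hS hχ) _ (cs_sub_conj_mem hS hχ),
    classInner_sub_left, classInner_sub_right, classInner_sub_right, cs_conj_orth hS hχ,
    hS.orthogonal _ hc χ hχ (hS.conj_ne χ hχ), classInner_conjFun, hreal]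
  ring

/-- Lemma A: the coherent extension sends `φ` into the span of `R φ`. -/
theorem tau1_expansion (hS : IsCoherenceSystem S τ R) (S₁ : Set (L → ℂ)) (hS₁ : S₁ ⊆ S)
    (hS₁c : ∀ φ ∈ S₁, conjFun φ ∈ S₁) (τ₁ : (L → ℂ) → (G → ℂ))
    (hτ₁ : IsLinearIsometryOn (zspan S₁) τ₁) (hag : ∀ α ∈ zspanOn S₁ {1}ᶜ, τ₁ α = τ α)
    {φ : L → ℂ} (hφ : φ ∈ S₁) : τ₁ φ = ∑ α ∈ R φ, classInner (τ₁ φ) α • α := by
  obtain ⟨h1add, h1smul, h1iso, h1gen⟩ := hτ₁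
  have hφS := hS₁ hφ
  have hcφ := hS₁c φ hφ
  have mφ : φ ∈ zspan S₁ := zs_mem hφ
  have mcφ : conjFun φ ∈ zspan S₁ := zs_mem hcφ
  have msub : φ - conjFun φ ∈ zspan S₁ := Submodule.sub_mem _ mφ mcφ
  have msub0 : φ - conjFun φ ∈ zspanOn S₁ {1}ᶜ := mem_zspanOn_one.mpr ⟨msub,
    by rw [Pi.sub_apply, conjFun_apply_one_of_char (hS.isCharacter φ hφS), sub_self]⟩
  obtain ⟨X, hX⟩ : ∃ X, X = τ₁ φ := ⟨_, rfl⟩
  rw [← hX]
  have hXgen : IsGeneralizedCharacter G X := by rw [hX]; exact h1gen φ mφ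
  have gφ := IsCharacter.isGeneralizedCharacter (hS.isCharacter φ hφS)
  obtain ⟨Nφ, hNφ⟩ := classInner_gen_int gφ gφ
  have hint : ∀ α ∈ R φ, ∃ k : ℤ, classInner X α = k := fun α hα =>
    classInner_gen_int hXgen (hS.virtual φ hφS α hα)
  choose! a ha using hint
  have hsa : ∑ α ∈ R φ, classInner X α = classInner φ φ := by
    have e := classInner_sum_right (R φ) (fun α => α) X
    rw [← e, ← hS.sum_eq φ hφS, ← hag _ msub0, hX, h1iso _ mφ _ msub, classInner_sub_right,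
      cs_conj_orth hS hφS, sub_zero]
  have hXX : classInner X X = classInner φ φ := by rw [hX, h1iso _ mφ _ mφ]
  have hpy := pythag_id (R φ) (cs_h1 hS hφS) (cs_h0 hS hφS) X
  obtain ⟨Δ, hΔ⟩ : ∃ Δ, Δ = X - ∑ α ∈ R φ, classInner X α • α := ⟨_, rfl⟩
  rw [← hΔ] at hpy
  have hΔgen : IsGeneralizedCharacter G Δ := by
    rw [hΔ]
    refine IsGeneralizedCharacter.sub hXgen (IsGeneralizedCharacter.sum _ _ fun α hα => ?_)
    rw [ha α hα]; exact IsGeneralizedCharacter.intCast_smul (hS.virtual φ hφS α hα) _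
  obtain ⟨m, hm⟩ := classInner_gen_int hΔgen hΔgen
  have hm0 : 0 ≤ m := by
    have := classInner_self_re_nonneg Δ
    rw [hm, Complex.intCast_re] at this
    exact_mod_cast this
  have e1 : ∑ α ∈ R φ, classInner X α * (starRingEnd ℂ) (classInner X α) =
      ((∑ α ∈ R φ, a α ^ 2 : ℤ) : ℂ) := by
    rw [Int.cast_sum]
    refine Finset.sum_congr rfl fun α hα => ?_
    rw [ha α hα, map_intCast]; push_cast; ring
  have e3 : ((∑ α ∈ R φ, a α : ℤ) : ℂ) = Nφ := by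
    rw [← hNφ, ← hsa, Int.cast_sum]
    exact Finset.sum_congr rfl fun α hα => (ha α hα).symm
  have e3' : ∑ α ∈ R φ, a α = Nφ := by exact_mod_cast e3
  rw [hXX, e1, hm, hNφ] at hpy
  have e5 : Nφ = ∑ α ∈ R φ, a α ^ 2 + m := by exact_mod_cast hpy
  have i1 : ∑ α ∈ R φ, a α ≤ ∑ α ∈ R φ, a α ^ 2 :=
    Finset.sum_le_sum fun α _ => Int.le_self_sq (a α)
  have e7 : m = 0 := by linarith
  have hΔ0 : Δ = 0 := eq_zero_of_classInner_self_eq_zero (by rw [hm, e7, Int.cast_zero])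
  rw [hΔ0] at hΔ
  exact sub_eq_zero.mp hΔ.symm


theorem s1516_key (hS : IsCoherenceSystem S τ R) (d n : (L → ℂ) → ℕ)
    (hd : ∀ φ ∈ S, φ 1 = (d φ : ℂ)) (hn : ∀ φ ∈ S, classInner φ φ = (n φ : ℂ))
    (S₁ : Finset (L → ℂ)) (hS₁ : ↑S₁ ⊆ S) (hS₁c : ∀ φ ∈ S₁, conjFun φ ∈ S₁)
    (τ₁ : (L → ℂ) → (G → ℂ)) (hτ₁ : IsLinearIsometryOn (zspan (↑S₁ : Set (L → ℂ))) τ₁)
    (hag : ∀ α ∈ zspanOn (↑S₁ : Set (L → ℂ)) {1}ᶜ, τ₁ α = τ α)
    (χ : L → ℂ) (hχ : χ ∈ S) (hχ₁ : χ ∉ S₁) (hχ₂ : conjFun χ ∉ S₁)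
    (χ₁ : L → ℂ) (hχ₁S : χ₁ ∈ S₁) (a : ℕ) (ha : d χ = d χ₁ * a)
    (hineq : (2 * d χ * d χ₁ : ℝ) < ∑ φ ∈ S₁, ((d φ : ℝ) ^ 2 / (n φ : ℝ))) :
    ∃ z : (G → ℂ) → ℤ, (∑ α ∈ R χ, z α = (n χ : ℤ)) ∧ (∑ α ∈ R χ, z α ^ 2 = (n χ : ℤ)) ∧
      τ (χ + (-(a : ℤ)) • χ₁) + (a : ℤ) • τ₁ χ₁ = ∑ α ∈ R χ, (z α : ℂ) • α := by
  classical
  obtain ⟨hτadd, hτsmul, hτiso, hτgen⟩ := hS.isometry
  have hτ₁' := hτ₁
  obtain ⟨h1add, h1smul, h1iso, h1gen⟩ := hτ₁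
  have hmemS : ∀ φ ∈ S₁, φ ∈ S := fun φ hφ => hS₁ (Finset.mem_coe.mpr hφ)
  have hχ₁mem : χ₁ ∈ S := hmemS χ₁ hχ₁S
  have hmem : ∀ φ ∈ S₁, φ ∈ zspan (↑S₁ : Set (L → ℂ)) :=
    fun φ hφ => zs_mem (Finset.mem_coe.mpr hφ)
  have hsub : ∀ {f : L → ℂ}, f ∈ zspan (↑S₁ : Set (L → ℂ)) → f ∈ zspan S :=
    fun hf => zs_mono hS₁ hf
  have hcχ := hS.conj_mem χ hχ
  have hneχ : ∀ φ ∈ S₁, φ ≠ χ := fun φ hφ h => hχ₁ (h ▸ hφ)
  have hnecχ : ∀ φ ∈ S₁, φ ≠ conjFun χ := fun φ hφ h => hχ₂ (h ▸ hφ)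
  have oφχ : ∀ φ ∈ S₁, classInner φ χ = 0 := fun φ hφ =>
    hS.orthogonal φ (hmemS φ hφ) χ hχ (hneχ φ hφ)
  have oχφ : ∀ φ ∈ S₁, classInner χ φ = 0 := fun φ hφ =>
    hS.orthogonal χ hχ φ (hmemS φ hφ) (Ne.symm (hneχ φ hφ))
  have oφcχ : ∀ φ ∈ S₁, classInner φ (conjFun χ) = 0 := fun φ hφ =>
    hS.orthogonal φ (hmemS φ hφ) _ hcχ (hnecχ φ hφ)
  have oχcχ : classInner χ (conjFun χ) = 0 := cs_conj_orth hS hχ
  have hne0 : ∀ φ ∈ S, φ ≠ 0 := by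
    intro φ hφ h0
    apply hS.conj_ne φ hφ
    rw [h0]; funext x; simp [conjFun]
  have hdpos : ∀ φ ∈ S, 1 ≤ d φ := by
    intro φ hφ
    rcases Nat.eq_zero_or_pos (d φ) with h | h
    · exfalso
      apply hne0 φ hφ
      apply IsCharacter.eq_zero_of_apply_one_eq_zero (hS.isCharacter φ hφ)
      rw [hd φ hφ, h, Nat.cast_zero]
    · exact h
  have hnpos : ∀ φ ∈ S, 1 ≤ n φ := by
    intro φ hφ
    rcases Nat.eq_zero_or_pos (n φ) with h | h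
    · exfalso
      apply hne0 φ hφ
      apply eq_zero_of_classInner_self_eq_zero
      rw [hn φ hφ, h, Nat.cast_zero]
    · exact h
  have hd₁ := hdpos χ₁ hχ₁mem
  have hapos : 1 ≤ a := by
    rcases Nat.eq_zero_or_pos a with h | h
    · exfalso; have := hdpos χ hχ; rw [ha, h, mul_zero] at this; omega
    · exact h
  obtain ⟨β, hβ⟩ : ∃ β : L → ℂ, β = χ + (-(a : ℤ)) • χ₁ := ⟨_, rfl⟩
  have hβ1 : β 1 = 0 := by
    rw [hβ, Pi.add_apply, Pi.smul_apply, hd χ hχ, hd χ₁ hχ₁mem, ha, zsmul_eq_mul]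
    push_cast; ring
  have hβs : β ∈ zspan S := by
    rw [hβ]; exact zs_add (zs_mem hχ) (zs_smul _ (zs_mem hχ₁mem))
  have hβZ : β ∈ zspanOn S {1}ᶜ := mem_zspanOn_one.mpr ⟨hβs, hβ1⟩
  obtain ⟨T, hT⟩ : ∃ T, T = τ₁ χ₁ := ⟨_, rfl⟩
  have hTgen : IsGeneralizedCharacter G T := by rw [hT]; exact h1gen _ (hmem χ₁ hχ₁S)
  obtain ⟨X, hX⟩ : ∃ X, X = τ β := ⟨_, rfl⟩
  have hXgen : IsGeneralizedCharacter G X := by rw [hX]; exact hτgen _ hβZ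
  obtain ⟨Z, hZ⟩ : ∃ Z, Z = X + (a : ℤ) • T := ⟨_, rfl⟩
  have hZgen : IsGeneralizedCharacter G Z := by
    rw [hZ, ← Int.cast_smul_eq_zsmul ℂ (a : ℤ) T]
    exact IsGeneralizedCharacter.add hXgen (IsGeneralizedCharacter.intCast_smul hTgen _)
  rw [← hβ, ← hX, ← hT, ← hZ]
  have hββ : classInner β β = (n χ : ℂ) + (a : ℂ) ^ 2 * (n χ₁ : ℂ) := by
    rw [hβ]
    simp only [classInner_add_left, classInner_add_right, classInner_zsmul_left,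
      classInner_zsmul_right]
    rw [hn χ hχ, hn χ₁ hχ₁mem, oχφ χ₁ hχ₁S, oφχ χ₁ hχ₁S]; push_cast; ring
  have hRφ : ∀ α ∈ R χ, ∀ φ ∈ S₁, classInner α (τ₁ φ) = 0 := by
    intro α hα φ hφ
    have e := tau1_expansion hS (↑S₁) hS₁
      (fun φ hφ => Finset.mem_coe.mpr (hS₁c φ (Finset.mem_coe.mp hφ))) τ₁ hτ₁' hag
      (Finset.mem_coe.mpr hφ)
    have e2 : classInner (τ₁ φ) α = 0 := by
      rw [e]
      exact expansion_orth (R φ) _ α (fun β hβ =>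
        hS.disjoint χ hχ φ (hmemS φ hφ) (oφχ φ hφ) (oφcχ φ hφ) β hβ α hα)
    rw [← classInner_conj_symm, e2, map_zero]
  have hyint : ∀ φ ∈ S₁, ∃ k : ℤ, classInner Z (τ₁ φ) = k := fun φ hφ =>
    classInner_gen_int hZgen (h1gen φ (hmem φ hφ))
  choose! y hy using hyint
  have hZτ₁ : ∀ g ∈ zspanOn (↑S₁ : Set (L → ℂ)) {1}ᶜ, classInner Z (τ₁ g) = classInner χ g := by
    intro g hg
    obtain ⟨hgs, hg1⟩ := mem_zspanOn_one.mp hg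
    have hgS : g ∈ zspanOn S {1}ᶜ := mem_zspanOn_one.mpr ⟨hsub hgs, hg1⟩
    rw [hZ, classInner_add_left, classInner_zsmul_left, hT, h1iso _ (hmem χ₁ hχ₁S) _ hgs,
      hag g hg, hX, hτiso _ hβZ _ hgS, hβ, classInner_add_left, classInner_zsmul_left]
    push_cast; ring
  have hrel : ∀ φ ∈ S₁, (d χ₁ : ℤ) * y φ = (d φ : ℤ) * y χ₁ := by
    intro φ hφ
    have hγs : ((d χ₁ : ℤ) • φ + (-(d φ : ℤ)) • χ₁) ∈ zspan (↑S₁ : Set (L → ℂ)) :=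
      zs_add (zs_smul _ (hmem φ hφ)) (zs_smul _ (hmem χ₁ hχ₁S))
    have hγ1 : ((d χ₁ : ℤ) • φ + (-(d φ : ℤ)) • χ₁) 1 = 0 := by
      rw [Pi.add_apply, Pi.smul_apply, Pi.smul_apply, hd φ (hmemS φ hφ), hd χ₁ hχ₁mem,
        zsmul_eq_mul, zsmul_eq_mul]
      push_cast; ring
    have h := hZτ₁ _ (mem_zspanOn_one.mpr ⟨hγs, hγ1⟩)
    rw [h1add _ (zs_smul _ (hmem φ hφ)) _ (zs_smul _ (hmem χ₁ hχ₁S)), h1smul _ (hmem φ hφ),
      h1smul _ (hmem χ₁ hχ₁S)] at h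
    simp only [classInner_add_right, classInner_zsmul_right] at h
    rw [hy φ hφ, hy χ₁ hχ₁S, oχφ φ hφ, oχφ χ₁ hχ₁S] at h
    have h2 : (((d χ₁ : ℤ) * y φ : ℤ) : ℂ) = (((d φ : ℤ) * y χ₁ : ℤ) : ℂ) := by
      push_cast at h ⊢; linear_combination h
    exact_mod_cast h2
  have hY₁ : classInner Z T = (y χ₁ : ℂ) := by rw [hT]; exact hy χ₁ hχ₁S
  have hTT : classInner T T = (n χ₁ : ℂ) := by
    rw [hT, h1iso _ (hmem χ₁ hχ₁S) _ (hmem χ₁ hχ₁S), hn χ₁ hχ₁mem]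
  have hXT : classInner X T = (y χ₁ : ℂ) - (a : ℂ) * (n χ₁ : ℂ) := by
    have := hY₁
    rw [hZ, classInner_add_left, classInner_zsmul_left, hTT] at this
    push_cast at this; linear_combination this
  have hTX : classInner T X = (y χ₁ : ℂ) - (a : ℂ) * (n χ₁ : ℂ) := by
    rw [← classInner_conj_symm, hXT]; simp
  have hXX : classInner X X = (n χ : ℂ) + (a : ℂ) ^ 2 * (n χ₁ : ℂ) := by
    rw [hX, hτiso _ hβZ _ hβZ, hββ]
  have hZZ : classInner Z Z = (n χ : ℂ) + 2 * (a : ℂ) * (y χ₁ : ℂ) := by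
    rw [hZ]
    simp only [classInner_add_left, classInner_add_right, classInner_zsmul_left,
      classInner_zsmul_right]
    rw [hXX, hXT, hTX, hTT]; push_cast; ring
  have hzint : ∀ α ∈ R χ, ∃ k : ℤ, classInner Z α = k := fun α hα =>
    classInner_gen_int hZgen (hS.virtual χ hχ α hα)
  choose! z hz using hzint
  have hsz : ∑ α ∈ R χ, z α = (n χ : ℤ) := by
    have e := classInner_sum_right (R χ) (fun α => α) Z
    have h1a : classInner X (∑ α ∈ R χ, α) = (n χ : ℂ) := by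
      rw [← hS.sum_eq χ hχ, hX, hτiso _ hβZ _ (cs_sub_conj_mem hS hχ), hβ]
      simp only [classInner_add_left, classInner_zsmul_left, classInner_sub_right]
      rw [hn χ hχ, oχcχ, oφχ χ₁ hχ₁S, oφcχ χ₁ hχ₁S]; push_cast; ring
    have h1b : classInner T (∑ α ∈ R χ, α) = 0 := by
      rw [classInner_sum_right]
      refine Finset.sum_eq_zero fun α hα => ?_
      rw [← classInner_conj_symm, hT, hRφ α hα χ₁ hχ₁S, map_zero]
    have h1 : classInner Z (∑ α ∈ R χ, α) = (n χ : ℂ) := by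
      rw [hZ, classInner_add_left, classInner_zsmul_left, h1a, h1b, mul_zero, add_zero]
    have h2 : ((∑ α ∈ R χ, z α : ℤ) : ℂ) = ((n χ : ℤ) : ℂ) := by
      rw [Int.cast_sum, Int.cast_natCast, ← h1, e]
      exact Finset.sum_congr rfl fun α hα => (hz α hα).symm
    exact_mod_cast h2
  have hpyA := pythag_id (R χ) (cs_h1 hS hχ) (cs_h0 hS hχ) Z
  obtain ⟨Z', hZ'⟩ : ∃ Z', Z' = Z - ∑ α ∈ R χ, classInner Z α • α := ⟨_, rfl⟩
  rw [← hZ'] at hpyA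
  have hZ'φ : ∀ φ ∈ S₁, classInner Z' (τ₁ φ) = (y φ : ℂ) := by
    intro φ hφ
    rw [hZ', classInner_sub_left, hy φ hφ,
      expansion_orth (R χ) _ _ (fun α hα => hRφ α hα φ hφ), sub_zero]
  have hpyB := pythag_orth S₁ τ₁ (fun φ => (n φ : ℂ))
    (fun φ hφ => by
      have := hnpos φ (hmemS φ hφ)
      have h' : n φ ≠ 0 := by omega
      exact_mod_cast h')
    (fun φ hφ => by rw [h1iso _ (hmem φ hφ) _ (hmem φ hφ), hn φ (hmemS φ hφ)])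
    (fun φ hφ ψ hψ hne => by
      rw [h1iso _ (hmem φ hφ) _ (hmem ψ hψ)]
      exact hS.orthogonal φ (hmemS φ hφ) ψ (hmemS ψ hψ) hne) Z'
  beta_reduce at hpyB
  obtain ⟨Z'', hZ''⟩ : ∃ Z'', Z'' = Z' - ∑ φ ∈ S₁, (classInner Z' (τ₁ φ) / (n φ : ℂ)) • τ₁ φ :=
    ⟨_, rfl⟩
  rw [← hZ''] at hpyB
  have eA : ∑ α ∈ R χ, classInner Z α * (starRingEnd ℂ) (classInner Z α) =
      ((∑ α ∈ R χ, z α ^ 2 : ℤ) : ℂ) := by
    rw [Int.cast_sum]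
    refine Finset.sum_congr rfl fun α hα => ?_
    rw [hz α hα, map_intCast]; push_cast; ring
  have eB : ∑ φ ∈ S₁, classInner Z' (τ₁ φ) *
      (starRingEnd ℂ) (classInner Z' (τ₁ φ) / (n φ : ℂ)) =
      ∑ φ ∈ S₁, (y φ : ℂ) ^ 2 / (n φ : ℂ) := by
    refine Finset.sum_congr rfl fun φ hφ => ?_
    rw [hZ'φ φ hφ, map_div₀, map_intCast, map_natCast]; ring
  rw [eA, hZZ, hpyB, eB] at hpyA
  obtain ⟨r, hr⟩ : ∃ r : ℝ, r = (n χ : ℝ) + 2 * (a : ℝ) * (y χ₁ : ℝ) -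
      ((∑ α ∈ R χ, z α ^ 2 : ℤ) : ℝ) - ∑ φ ∈ S₁, (y φ : ℝ) ^ 2 / (n φ : ℝ) := ⟨_, rfl⟩
  have hZ''r : classInner Z'' Z'' = (r : ℂ) := by
    rw [hr]; push_cast at hpyA ⊢; linear_combination (-1 : ℂ) * hpyA
  have hr0 : 0 ≤ r := by
    have := classInner_self_re_nonneg Z''
    rwa [hZ''r, Complex.ofReal_re] at this
  have i1 : ∑ α ∈ R χ, z α ≤ ∑ α ∈ R χ, z α ^ 2 :=
    Finset.sum_le_sum fun α _ => Int.le_self_sq (z α)
  have i1r : (n χ : ℝ) ≤ ((∑ α ∈ R χ, z α ^ 2 : ℤ) : ℝ) := by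
    have : (n χ : ℤ) ≤ ∑ α ∈ R χ, z α ^ 2 := by rw [← hsz]; exact i1
    exact_mod_cast this
  have hkey : ∑ φ ∈ S₁, (y φ : ℝ) ^ 2 / (n φ : ℝ) ≤ 2 * (a : ℝ) * (y χ₁ : ℝ) := by
    rw [hr] at hr0; linarith
  have hscale : (d χ₁ : ℝ) ^ 2 * ∑ φ ∈ S₁, (y φ : ℝ) ^ 2 / (n φ : ℝ) =
      (y χ₁ : ℝ) ^ 2 * ∑ φ ∈ S₁, (d φ : ℝ) ^ 2 / (n φ : ℝ) := by
    rw [Finset.mul_sum, Finset.mul_sum]
    refine Finset.sum_congr rfl fun φ hφ => ?_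
    have h := hrel φ hφ
    have h' : (d χ₁ : ℝ) * (y φ : ℝ) = (d φ : ℝ) * (y χ₁ : ℝ) := by exact_mod_cast h
    calc (d χ₁ : ℝ) ^ 2 * ((y φ : ℝ) ^ 2 / (n φ : ℝ))
        = ((d χ₁ : ℝ) * (y φ : ℝ)) ^ 2 / (n φ : ℝ) := by ring
      _ = ((d φ : ℝ) * (y χ₁ : ℝ)) ^ 2 / (n φ : ℝ) := by rw [h']
      _ = (y χ₁ : ℝ) ^ 2 * ((d φ : ℝ) ^ 2 / (n φ : ℝ)) := by ring
  have haR : (1 : ℝ) ≤ (a : ℝ) := by exact_mod_cast hapos
  have hdR : (1 : ℝ) ≤ (d χ₁ : ℝ) := by exact_mod_cast hd₁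
  have hDgt : 2 * (a : ℝ) * (d χ₁ : ℝ) ^ 2 < ∑ φ ∈ S₁, (d φ : ℝ) ^ 2 / (n φ : ℝ) := by
    have : (d χ : ℝ) = (d χ₁ : ℝ) * (a : ℝ) := by exact_mod_cast ha
    rw [this] at hineq
    calc 2 * (a : ℝ) * (d χ₁ : ℝ) ^ 2 = 2 * ((d χ₁ : ℝ) * a) * d χ₁ := by ring
      _ < _ := hineq
  have hy0 : y χ₁ = 0 := by
    by_contra hne
    have hyne : (y χ₁ : ℝ) ≠ 0 := by exact_mod_cast hne
    have hpos : (0 : ℝ) < (y χ₁ : ℝ) ^ 2 :=
      lt_of_le_of_ne (sq_nonneg _) (Ne.symm (pow_ne_zero 2 hyne))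
    have h1 : (y χ₁ : ℝ) ≤ (y χ₁ : ℝ) ^ 2 := by exact_mod_cast Int.le_self_sq (y χ₁)
    have h2 : (0 : ℝ) < 2 * (a : ℝ) * (d χ₁ : ℝ) ^ 2 := by
      have : (0 : ℝ) < (a : ℝ) := by linarith
      have : (0 : ℝ) < (d χ₁ : ℝ) := by linarith
      positivity
    have h3 := mul_lt_mul_of_pos_left hDgt hpos
    have h4 := mul_le_mul_of_nonneg_left hkey (sq_nonneg (d χ₁ : ℝ))
    rw [hscale] at h4
    nlinarith [mul_nonneg h2.le (sub_nonneg.mpr h1)]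
  have hyφ0 : ∀ φ ∈ S₁, y φ = 0 := by
    intro φ hφ
    have h := hrel φ hφ
    rw [hy0, mul_zero] at h
    rcases mul_eq_zero.mp h with h' | h'
    · exfalso
      have : (1 : ℤ) ≤ d χ₁ := by exact_mod_cast hd₁
      omega
    · exact h'
  have hsum0 : ∑ φ ∈ S₁, (y φ : ℝ) ^ 2 / (n φ : ℝ) = 0 :=
    Finset.sum_eq_zero fun φ hφ => by rw [hyφ0 φ hφ]; simp
  have hr' : r = (n χ : ℝ) - ((∑ α ∈ R χ, z α ^ 2 : ℤ) : ℝ) := by
    rw [hr, hsum0, hy0]; simp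
  have hsz2R : ((∑ α ∈ R χ, z α ^ 2 : ℤ) : ℝ) = (n χ : ℝ) := by linarith
  have hsz2 : ∑ α ∈ R χ, z α ^ 2 = (n χ : ℤ) := by exact_mod_cast hsz2R
  have hr00 : r = 0 := by linarith
  have hZ''0 : Z'' = 0 :=
    eq_zero_of_classInner_self_eq_zero (by rw [hZ''r, hr00, Complex.ofReal_zero])
  have hZ'0 : Z' = 0 := by
    rw [hZ''0] at hZ''
    have : ∑ φ ∈ S₁, (classInner Z' (τ₁ φ) / (n φ : ℂ)) • τ₁ φ = 0 :=
      Finset.sum_eq_zero fun φ hφ => by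
        rw [hZ'φ φ hφ, hyφ0 φ hφ, Int.cast_zero, zero_div, zero_smul]
    rw [this, sub_zero] at hZ''
    exact hZ''.symm
  refine ⟨z, hsz, hsz2, ?_⟩
  rw [hZ'0] at hZ'
  exact (sub_eq_zero.mp hZ'.symm).trans (Finset.sum_congr rfl fun α hα => by rw [hz α hα])


theorem mem_zspan_union_pair {X : Type*} (T : Set (X → ℂ)) (χ χ' f : X → ℂ) :
    f ∈ zspan (T ∪ {χ, χ'}) ↔ ∃ g ∈ zspan T, ∃ p q : ℤ, f = g + (p • χ + q • χ') := by
  rw [mem_zspan_union]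
  constructor
  · rintro ⟨g, hg, h, hh, rfl⟩
    obtain ⟨p, q, rfl⟩ := Submodule.mem_span_pair.mp hh
    exact ⟨g, hg, p, q, rfl⟩
  · rintro ⟨g, hg, p, q, rfl⟩
    exact ⟨g, hg, _, Submodule.mem_span_pair.mpr ⟨p, q, rfl⟩, rfl⟩

theorem inner_int_expansion (s : Finset (G → ℂ))
    (h1 : ∀ i ∈ s, classInner i i = 1)
    (h0 : ∀ i ∈ s, ∀ j ∈ s, i ≠ j → classInner i j = 0) (u w : (G → ℂ) → ℤ) :
    classInner (∑ α ∈ s, (u α : ℂ) • α) (∑ α ∈ s, (w α : ℂ) • α) =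
      ((∑ α ∈ s, u α * w α : ℤ) : ℂ) := by
  have e := inner_expansion2 s h1 h0 (fun α => (u α : ℂ)) (fun α => (w α : ℂ))
  beta_reduce at e
  rw [e, Int.cast_sum]
  refine Finset.sum_congr rfl fun α _ => ?_
  rw [map_intCast]; push_cast; ring

theorem R_orth_tau1 (hS : IsCoherenceSystem S τ R)
    (S₁ : Finset (L → ℂ)) (hS₁ : ↑S₁ ⊆ S) (hS₁c : ∀ φ ∈ S₁, conjFun φ ∈ S₁)
    (τ₁ : (L → ℂ) → (G → ℂ)) (hτ₁ : IsLinearIsometryOn (zspan (↑S₁ : Set (L → ℂ))) τ₁)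
    (hag : ∀ α ∈ zspanOn (↑S₁ : Set (L → ℂ)) {1}ᶜ, τ₁ α = τ α)
    {χ : L → ℂ} (hχ : χ ∈ S) (hχ₁ : χ ∉ S₁) (hχ₂ : conjFun χ ∉ S₁) :
    ∀ α ∈ R χ, ∀ g ∈ zspan (↑S₁ : Set (L → ℂ)), classInner α (τ₁ g) = 0 := by
  have hτ₁' := hτ₁
  obtain ⟨h1add, h1smul, h1iso, h1gen⟩ := hτ₁
  have hmemS : ∀ φ ∈ S₁, φ ∈ S := fun φ hφ => hS₁ (Finset.mem_coe.mpr hφ)
  have hcχ := hS.conj_mem χ hχ
  have hneχ : ∀ φ ∈ S₁, φ ≠ χ := fun φ hφ h => hχ₁ (h ▸ hφ)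
  have hnecχ : ∀ φ ∈ S₁, φ ≠ conjFun χ := fun φ hφ h => hχ₂ (h ▸ hφ)
  have oφχ : ∀ φ ∈ S₁, classInner φ χ = 0 := fun φ hφ =>
    hS.orthogonal φ (hmemS φ hφ) χ hχ (hneχ φ hφ)
  have oφcχ : ∀ φ ∈ S₁, classInner φ (conjFun χ) = 0 := fun φ hφ =>
    hS.orthogonal φ (hmemS φ hφ) _ hcχ (hnecχ φ hφ)
  have hRφ : ∀ α ∈ R χ, ∀ φ ∈ S₁, classInner α (τ₁ φ) = 0 := by
    intro α hα φ hφ
    have e := tau1_expansion hS (↑S₁) hS₁
      (fun φ hφ => Finset.mem_coe.mpr (hS₁c φ (Finset.mem_coe.mp hφ))) τ₁ hτ₁' hag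
      (Finset.mem_coe.mpr hφ)
    have e2 : classInner (τ₁ φ) α = 0 := by
      rw [e]
      exact expansion_orth (R φ) _ α (fun β hβ =>
        hS.disjoint χ hχ φ (hmemS φ hφ) (oφχ φ hφ) (oφcχ φ hφ) β hβ α hα)
    rw [← classInner_conj_symm, e2, map_zero]
  intro α hα g hg
  exact tau_inner_zero h1add h1smul (fun ξ hξ => hRφ α hα ξ (Finset.mem_coe.mp hξ)) hg

theorem s1516 (S : Set (L → ℂ)) (τ : (L → ℂ) → (G → ℂ)) (R : (L → ℂ) → Finset (G → ℂ)) (hS : Cfsg.IsCoherenceSystem S τ R) (d n : (L → ℂ) → ℕ) (hd : ∀ φ ∈ S, φ 1 = (d φ : ℂ)) (hn : ∀ φ ∈ S, Cfsg.classInner φ φ = (n φ : ℂ)) (S₁ : Finset (L → ℂ)) (hS₁ : ↑S₁ ⊆ S) (hS₁c : ∀ φ ∈ S₁, Cfsg.conjFun φ ∈ S₁) (hcoh : Cfsg.IsCoherent (↑S₁ : Set (L → ℂ)) {1}ᶜ τ) (χ : L → ℂ) (hχ : χ ∈ S) (hχ₁ : χ ∉ S₁) (hχ₂ : Cfsg.conjFun χ ∉ S₁) (χ₁ : L → ℂ) (hχ₁S : χ₁ ∈ S₁) (hdvd : d χ₁ ∣ d χ) (hineq : (2 * d χ * d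 χ₁ : ℝ) < ∑ φ ∈ S₁, ((d φ : ℝ) ^ 2 / (n φ : ℝ))) : Cfsg.IsCoherent (↑S₁ ∪ {χ, Cfsg.conjFun χ} : Set (L → ℂ)) {1}ᶜ τ := by
  obtain ⟨⟨α₀, hα₀, hα₀ne⟩, τ₁, hτ₁, hag⟩ := hcoh
  obtain ⟨a, ha⟩ := hdvd
  obtain ⟨z, hsz, hsz2, hZeq⟩ :=
    s1516_key hS d n hd hn S₁ hS₁ hS₁c τ₁ hτ₁ hag χ hχ hχ₁ hχ₂ χ₁ hχ₁S a ha hineq
  have hRg := R_orth_tau1 hS S₁ hS₁ hS₁c τ₁ hτ₁ hag hχ hχ₁ hχ₂
  obtain ⟨hτadd, hτsmul, hτiso, hτgen⟩ := hS.isometry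
  obtain ⟨h1add, h1smul, h1iso, h1gen⟩ := hτ₁
  have hmemS : ∀ φ ∈ S₁, φ ∈ S := fun φ hφ => hS₁ (Finset.mem_coe.mpr hφ)
  have hχ₁mem : χ₁ ∈ S := hmemS χ₁ hχ₁S
  have hmem : ∀ φ ∈ S₁, φ ∈ zspan (↑S₁ : Set (L → ℂ)) :=
    fun φ hφ => zs_mem (Finset.mem_coe.mpr hφ)
  have hsub : ∀ {f : L → ℂ}, f ∈ zspan (↑S₁ : Set (L → ℂ)) → f ∈ zspan S :=
    fun hf => zs_mono hS₁ hf
  have hsubU : ∀ {f : L → ℂ}, f ∈ zspan (↑S₁ : Set (L → ℂ)) →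
      f ∈ zspan (↑S₁ ∪ {χ, conjFun χ} : Set (L → ℂ)) :=
    fun hf => zs_mono Set.subset_union_left hf
  have hcχ := hS.conj_mem χ hχ
  have hneχ : ∀ φ ∈ S₁, φ ≠ χ := fun φ hφ h => hχ₁ (h ▸ hφ)
  have hnecχ : ∀ φ ∈ S₁, φ ≠ conjFun χ := fun φ hφ h => hχ₂ (h ▸ hφ)
  have oφχ : ∀ φ ∈ (↑S₁ : Set (L → ℂ)), classInner φ χ = 0 := fun φ hφ =>
    hS.orthogonal φ (hS₁ hφ) χ hχ (hneχ φ (Finset.mem_coe.mp hφ))
  have oφcχ : ∀ φ ∈ (↑S₁ : Set (L → ℂ)), classInner φ (conjFun χ) = 0 := fun φ hφ =>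
    hS.orthogonal φ (hS₁ hφ) _ hcχ (hnecχ φ (Finset.mem_coe.mp hφ))
  have oχcχ : classInner χ (conjFun χ) = 0 := cs_conj_orth hS hχ
  have ocχχ : classInner (conjFun χ) χ = 0 := hS.orthogonal _ hcχ χ hχ (hS.conj_ne χ hχ)
  have hnχ : classInner χ χ = (n χ : ℂ) := hn χ hχ
  have hncχ : classInner (conjFun χ) (conjFun χ) = (n χ : ℂ) := by
    rw [classInner_conjFun, hnχ, map_natCast]
  have hgχ : ∀ g ∈ zspan (↑S₁ : Set (L → ℂ)), classInner g χ = 0 :=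
    fun g hg => zspan_inner_zero_left oφχ hg
  have hχg : ∀ g ∈ zspan (↑S₁ : Set (L → ℂ)), classInner χ g = 0 :=
    fun g hg => zspan_inner_zero_right oφχ hg
  have hgcχ : ∀ g ∈ zspan (↑S₁ : Set (L → ℂ)), classInner g (conjFun χ) = 0 :=
    fun g hg => zspan_inner_zero_left oφcχ hg
  have hcχg : ∀ g ∈ zspan (↑S₁ : Set (L → ℂ)), classInner (conjFun χ) g = 0 :=
    fun g hg => zspan_inner_zero_right oφcχ hg
  have hnχ0 : (n χ : ℂ) ≠ 0 := by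
    intro h0
    apply hS.conj_ne χ hχ
    have : χ = 0 := eq_zero_of_classInner_self_eq_zero (by rw [hnχ, h0])
    rw [this]; funext x; simp [conjFun]
  have hh1 := cs_h1 hS hχ
  have hh0 := cs_h0 hS hχ
  have hcardN : ((R χ).card : ℤ) = 2 * (n χ : ℤ) := by
    have := cs_card hS hχ
    rw [hnχ] at this
    exact_mod_cast this
  -- Z and Zb
  obtain ⟨Z, hZdef⟩ : ∃ Z : G → ℂ, Z = ∑ α ∈ R χ, (z α : ℂ) • α := ⟨_, rfl⟩
  obtain ⟨Zb, hZbdef⟩ : ∃ Zb : G → ℂ, Zb = ∑ α ∈ R χ, ((z α - 1 : ℤ) : ℂ) • α := ⟨_, rfl⟩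
  rw [← hZdef] at hZeq
  have hZgen : IsGeneralizedCharacter G Z := by
    rw [hZdef]
    exact IsGeneralizedCharacter.sum _ _ fun α hα =>
      IsGeneralizedCharacter.intCast_smul (hS.virtual χ hχ α hα) _
  have hZbgen : IsGeneralizedCharacter G Zb := by
    rw [hZbdef]
    exact IsGeneralizedCharacter.sum _ _ fun α hα =>
      IsGeneralizedCharacter.intCast_smul (hS.virtual χ hχ α hα) _
  have hZZ : classInner Z Z = (n χ : ℂ) := by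
    rw [hZdef, inner_int_expansion (R χ) hh1 hh0 z z]
    have : ∑ α ∈ R χ, z α * z α = (n χ : ℤ) := by
      rw [← hsz2]; exact Finset.sum_congr rfl fun α _ => (sq (z α)).symm
    rw [this]; push_cast; rfl
  have hZbZb : classInner Zb Zb = (n χ : ℂ) := by
    rw [hZbdef, inner_int_expansion (R χ) hh1 hh0 (fun α => z α - 1) (fun α => z α - 1)]
    have : ∑ α ∈ R χ, (z α - 1) * (z α - 1) = (n χ : ℤ) := by
      have e : ∀ α, (z α - 1) * (z α - 1) = z α ^ 2 - 2 * z α + 1 := fun α => by ring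
      simp only [e, Finset.sum_add_distrib, Finset.sum_sub_distrib, ← Finset.mul_sum,
        Finset.sum_const, nsmul_eq_mul, mul_one]
      rw [hsz2, hsz, hcardN]; ring
    rw [this]; push_cast; rfl
  have hZZb : classInner Z Zb = 0 := by
    rw [hZdef, hZbdef, inner_int_expansion (R χ) hh1 hh0 z (fun α => z α - 1)]
    have : ∑ α ∈ R χ, z α * (z α - 1) = 0 := by
      have e : ∀ α, z α * (z α - 1) = z α ^ 2 - z α := fun α => by ring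
      simp only [e, Finset.sum_sub_distrib]
      rw [hsz2, hsz]; ring
    rw [this, Int.cast_zero]
  have hZbZ : classInner Zb Z = 0 := by rw [← classInner_conj_symm, hZZb, map_zero]
  have hdiff : Z - Zb = ∑ α ∈ R χ, α := by
    rw [hZdef, hZbdef, ← Finset.sum_sub_distrib]
    refine Finset.sum_congr rfl fun α _ => ?_
    rw [← sub_smul]; push_cast; rw [sub_sub_cancel, one_smul]
  have hτδ : τ (χ - conjFun χ) = Z - Zb := by rw [hdiff]; exact hS.sum_eq χ hχ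
  have hZg : ∀ g ∈ zspan (↑S₁ : Set (L → ℂ)), classInner Z (τ₁ g) = 0 := fun g hg => by
    rw [hZdef]; exact expansion_orth (R χ) _ _ (fun α hα => hRg α hα g hg)
  have hgZ : ∀ g ∈ zspan (↑S₁ : Set (L → ℂ)), classInner (τ₁ g) Z = 0 := fun g hg => by
    rw [← classInner_conj_symm, hZg g hg, map_zero]
  have hZbg : ∀ g ∈ zspan (↑S₁ : Set (L → ℂ)), classInner Zb (τ₁ g) = 0 := fun g hg => by
    rw [hZbdef]; exact expansion_orth (R χ) _ _ (fun α hα => hRg α hα g hg)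
  have hgZb : ∀ g ∈ zspan (↑S₁ : Set (L → ℂ)), classInner (τ₁ g) Zb = 0 := fun g hg => by
    rw [← classInner_conj_symm, hZbg g hg, map_zero]
  -- the extension
  obtain ⟨τ₂, hτ₂⟩ : ∃ τ₂ : (L → ℂ) → (G → ℂ), ∀ f, τ₂ f =
      τ₁ (f - (classInner f χ / (n χ : ℂ)) • χ -
        (classInner f (conjFun χ) / (n χ : ℂ)) • conjFun χ) +
      (classInner f χ / (n χ : ℂ)) • Z + (classInner f (conjFun χ) / (n χ : ℂ)) • Zb :=
    ⟨_, fun _ => rfl⟩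
  have KF : ∀ g ∈ zspan (↑S₁ : Set (L → ℂ)), ∀ p q : ℤ,
      τ₂ (g + (p • χ + q • conjFun χ)) = τ₁ g + (p • Z + q • Zb) := by
    intro g hg p q
    have hp : classInner (g + (p • χ + q • conjFun χ)) χ / (n χ : ℂ) = (p : ℂ) := by
      rw [classInner_add_left, classInner_add_left, classInner_zsmul_left,
        classInner_zsmul_left, hgχ g hg, hnχ, ocχχ, mul_zero, add_zero, zero_add,
        mul_div_assoc, div_self hnχ0, mul_one]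
    have hq : classInner (g + (p • χ + q • conjFun χ)) (conjFun χ) / (n χ : ℂ) = (q : ℂ) := by
      rw [classInner_add_left, classInner_add_left, classInner_zsmul_left,
        classInner_zsmul_left, hgcχ g hg, oχcχ, hncχ, mul_zero, zero_add, zero_add,
        mul_div_assoc, div_self hnχ0, mul_one]
    rw [hτ₂, hp, hq]
    simp only [Int.cast_smul_eq_zsmul]
    have : g + (p • χ + q • conjFun χ) - p • χ - q • conjFun χ = g := by abel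
    rw [this, add_assoc]
  have hdec := mem_zspan_union_pair (↑S₁ : Set (L → ℂ)) χ (conjFun χ)
  refine ⟨⟨α₀, ?_, hα₀ne⟩, τ₂, ⟨?_, ?_, ?_, ?_⟩, ?_⟩
  · obtain ⟨h1, h2⟩ := mem_zspanOn_one.mp hα₀
    exact mem_zspanOn_one.mpr ⟨hsubU h1, h2⟩
  · intro f₁ hf₁ f₂ hf₂
    obtain ⟨g₁, hg₁, p₁, q₁, rfl⟩ := (hdec f₁).mp hf₁
    obtain ⟨g₂, hg₂, p₂, q₂, rfl⟩ := (hdec f₂).mp hf₂
    rw [show g₁ + (p₁ • χ + q₁ • conjFun χ) + (g₂ + (p₂ • χ + q₂ • conjFun χ)) =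
      (g₁ + g₂) + ((p₁ + p₂) • χ + (q₁ + q₂) • conjFun χ) by module,
      KF _ (zs_add hg₁ hg₂), KF _ hg₁, KF _ hg₂, h1add _ hg₁ _ hg₂]
    module
  · intro f hf k
    obtain ⟨g, hg, p, q, rfl⟩ := (hdec f).mp hf
    rw [show k • (g + (p • χ + q • conjFun χ)) =
      k • g + ((k * p) • χ + (k * q) • conjFun χ) by module,
      KF _ (zs_smul k hg), KF _ hg, h1smul _ hg]
    module
  · intro f₁ hf₁ f₂ hf₂
    obtain ⟨g₁, hg₁, p₁, q₁, rfl⟩ := (hdec f₁).mp hf₁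
    obtain ⟨g₂, hg₂, p₂, q₂, rfl⟩ := (hdec f₂).mp hf₂
    rw [KF _ hg₁, KF _ hg₂]
    simp only [classInner_add_left, classInner_add_right, classInner_zsmul_left,
      classInner_zsmul_right]
    rw [h1iso _ hg₁ _ hg₂, hgZ g₁ hg₁, hgZb g₁ hg₁, hZg g₂ hg₂, hZbg g₂ hg₂, hZZ, hZbZb, hZZb,
      hZbZ, hgχ g₁ hg₁, hgcχ g₁ hg₁, hχg g₂ hg₂, hcχg g₂ hg₂, hnχ, hncχ, oχcχ, ocχχ]
  · intro f hf
    obtain ⟨g, hg, p, q, rfl⟩ := (hdec f).mp hf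
    rw [KF _ hg, ← Int.cast_smul_eq_zsmul ℂ p Z, ← Int.cast_smul_eq_zsmul ℂ q Zb]
    exact IsGeneralizedCharacter.add (h1gen g hg) (IsGeneralizedCharacter.add
      (IsGeneralizedCharacter.intCast_smul hZgen p) (IsGeneralizedCharacter.intCast_smul hZbgen q))
  · intro f hf
    obtain ⟨hfs, hf1⟩ := mem_zspanOn_one.mp hf
    obtain ⟨g, hg, p, q, rfl⟩ := (hdec f).mp hfs
    rw [KF _ hg]
    -- the pieces
    obtain ⟨β, hβ⟩ : ∃ β : L → ℂ, β = χ + (-(a : ℤ)) • χ₁ := ⟨_, rfl⟩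
    have hβ1 : β 1 = 0 := by
      rw [hβ, Pi.add_apply, Pi.smul_apply, hd χ hχ, hd χ₁ hχ₁mem, ha, zsmul_eq_mul]
      push_cast; ring
    have hβZ : β ∈ zspanOn S {1}ᶜ := mem_zspanOn_one.mpr
      ⟨by rw [hβ]; exact zs_add (zs_mem hχ) (zs_smul _ (zs_mem hχ₁mem)), hβ1⟩
    rw [← hβ] at hZeq
    have hτβ : τ β = Z - (a : ℤ) • τ₁ χ₁ := eq_sub_of_add_eq hZeq
    have hδZ : χ - conjFun χ ∈ zspanOn S {1}ᶜ := cs_sub_conj_mem hS hχ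
    have hδ1 : (χ - conjFun χ) 1 = 0 := (mem_zspanOn_one.mp hδZ).2
    obtain ⟨h, hh⟩ : ∃ h : L → ℂ, h = g + ((p + q) * (a : ℤ)) • χ₁ := ⟨_, rfl⟩
    have hhs : h ∈ zspan (↑S₁ : Set (L → ℂ)) := by
      rw [hh]; exact zs_add hg (zs_smul _ (hmem χ₁ hχ₁S))
    have hdecomp : g + (p • χ + q • conjFun χ) =
        ((p + q) • β + (-q) • (χ - conjFun χ)) + h := by
      rw [hβ, hh]; module
    have hh1 : h 1 = 0 := by
      have := hf1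
      rw [hdecomp, Pi.add_apply, Pi.add_apply, Pi.smul_apply, Pi.smul_apply, hβ1, hδ1,
        smul_zero, smul_zero, add_zero, zero_add] at this
      exact this
    have hhZ₁ : h ∈ zspanOn (↑S₁ : Set (L → ℂ)) {1}ᶜ := mem_zspanOn_one.mpr ⟨hhs, hh1⟩
    have hhZ : h ∈ zspanOn S {1}ᶜ := mem_zspanOn_one.mpr ⟨hsub hhs, hh1⟩
    have m1 : (p + q) • β ∈ zspanOn S {1}ᶜ := zspanOn_one_smul _ hβZ
    have m2 : (-q) • (χ - conjFun χ) ∈ zspanOn S {1}ᶜ := zspanOn_one_smul _ hδZ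
    rw [hdecomp, hτadd _ (zspanOn_one_add m1 m2) _ hhZ, hτadd _ m1 _ m2, hτsmul _ hβZ,
      hτsmul _ hδZ, hτβ, hτδ, ← hag h hhZ₁, hh, h1add _ hg _ (zs_smul _ (hmem χ₁ hχ₁S)),
      h1smul _ (hmem χ₁ hχ₁S)]
    module

end s1516

end Cfsg.Agent.Lib.Lead.Coh
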