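import Mathlib
import Cfsg.Agent.Lib.Lead.Coh8
import Cfsg.Agent.Lib.Helper6.CenterIndex
import Cfsg.Agent.Lib.Helper6.Constituent
import Cfsg.Agent.Lib.Helper6.Clifford
import Cfsg.Agent.Lib.Helper6.CharMisc
import Cfsg.Agent.Lib.Helper6.CharOps
import Cfsg.Agent.Lib.Helper6.CharBasic
import Cfsg.Agent.Lib.Helper6.Schur
import Cfsg.Agent.S0146

set_option autoImplicit false
open Cfsg

namespace Cfsg.Agent.Lib.Lead.Coh

open Cfsg.Agent.Lib.Helper6
open scoped ComplexConjugate

section degbound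

theorem card_filter_mem' {C : Type*} [Group C] [Fintype C] (D : Subgroup C)
    [DecidablePred (· ∈ D)] :
    (Finset.univ.filter (fun g : C => g ∈ D)).card = Nat.card D := by
  rw [Nat.card_eq_fintype_card]
  exact (Fintype.card_of_subtype _ (fun x => by simp)).symm

/-- if `D / B` is central in `C / B` and `B ≤ ker η`, then `η(1)² |D| ≤ |C|` -/
theorem deg_sq_le {C : Type*} [Group C] [Fintype C] (D B : Subgroup C)
    (hcent : ∀ x ∈ D, ∀ y : C, x * y * x⁻¹ * y⁻¹ ∈ B) {η : C → ℂ} (hη : IsIrrCharacter C η)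
    (hker : ∀ b ∈ B, η b = η 1) :
    (charDegree η) ^ 2 * Nat.card D ≤ Nat.card C := by
  classical
  have hdeg := IsCharacter.apply_one_eq_charDegree (IsIrrCharacter.isCharacter hη)
  obtain ⟨n, ρ, hirr, rfl⟩ := hη
  haveI := hirr
  have hfin : (Module.finrank ℂ (Fin n → ℂ) : ℂ) = (charDegree ρ.character : ℂ) := by
    rw [← hdeg, Representation.char_one]
  have hfin' : Module.finrank ℂ (Fin n → ℂ) = charDegree ρ.character := by exact_mod_cast hfin
  have hB : ∀ b ∈ B, ρ b = LinearMap.id := by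
    intro b hb
    have h := hker b hb
    rw [Representation.char_one] at h
    exact (character_eq_finrank_iff ρ b).1 h
  have hD : ∀ x ∈ D, ‖ρ.character x‖ = (Module.finrank ℂ (Fin n → ℂ) : ℝ) := by
    intro x hx
    rw [norm_character_eq_iff]
    apply exists_smul_id_of_comm ρ (ρ x)
    intro y
    have h1 := hB _ (hcent x hx y)
    have h3 : ρ (x * y) = ρ (y * x) := by
      calc ρ (x * y) = ρ ((x * y * x⁻¹ * y⁻¹) * (y * x)) := by congr 1; group
        _ = ρ (x * y * x⁻¹ * y⁻¹) * ρ (y * x) := map_mul ρ _ _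
        _ = ρ (y * x) := by rw [h1]; exact LinearMap.id_comp _
    rw [map_mul, map_mul] at h3
    exact h3
  have hsum : ∑ g : C, ‖ρ.character g‖ ^ 2 = (Nat.card C : ℝ) := by
    have h1 := classInner_irr_self ρ
    unfold classInner at h1
    have hC : (Nat.card C : ℂ) ≠ 0 := card_ne_zero_complex C
    have h2 : ∑ g : C, ρ.character g * conj (ρ.character g) = (Nat.card C : ℂ) := by
      rw [inv_mul_eq_iff_eq_mul₀ hC, mul_one] at h1
      exact h1
    have h3 : ((∑ g : C, ‖ρ.character g‖ ^ 2 : ℝ) : ℂ) = (Nat.card C : ℂ) := by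
      rw [← h2]
      push_cast
      refine Finset.sum_congr rfl fun g _ => ?_
      rw [Complex.mul_conj']
    exact_mod_cast h3
  have key : ((charDegree ρ.character : ℝ)) ^ 2 * (Nat.card D : ℝ) ≤ (Nat.card C : ℝ) := by
    calc ((charDegree ρ.character : ℝ)) ^ 2 * (Nat.card D : ℝ)
        = ∑ g ∈ Finset.univ.filter (fun g : C => g ∈ D), ‖ρ.character g‖ ^ 2 := by
          rw [Finset.sum_congr rfl (fun g hg => by rw [hD g (Finset.mem_filter.1 hg).2])]
          rw [Finset.sum_const, nsmul_eq_mul, card_filter_mem' D, hfin', mul_comm]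
      _ ≤ ∑ g : C, ‖ρ.character g‖ ^ 2 :=
          Finset.sum_le_sum_of_subset_of_nonneg (Finset.filter_subset _ _)
            (fun _ _ _ => sq_nonneg _)
      _ = (Nat.card C : ℝ) := hsum
  exact_mod_cast key

/-- an irreducible constituent of a character has the kernel of the character in its kernel -/
theorem constituent_ker {C : Type*} [Group C] [Fintype C] {ψ η : C → ℂ} (hψ : IsCharacter C ψ)
    (hη : IsIrrCharacter C η) (hne : classInner ψ η ≠ 0) {b : C} (hb : ψ b = ψ 1) :
    η b = η 1 := by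
  obtain ⟨B, hB, hAB⟩ := IsCharacter.exists_eq_add_of_constituent hψ hη hne
  have e1 : η b + B b = η 1 + B 1 := by
    have h := hb
    rw [hAB] at h
    exact h
  obtain ⟨n, ρ, _, rfl⟩ := hη
  obtain ⟨m, σ, rfl⟩ := hB
  have n1 := norm_character_le ρ b
  have n2 := norm_character_le σ b
  rw [Representation.char_one, Representation.char_one] at e1
  have r1 : (ρ.character b).re ≤ ‖ρ.character b‖ := Complex.re_le_norm _
  have r2 : (σ.character b).re ≤ ‖σ.character b‖ := Complex.re_le_norm _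
  have e2 := congrArg Complex.re e1
  simp only [Complex.add_re, Complex.natCast_re] at e2
  have hre : (ρ.character b).re = (Module.finrank ℂ (Fin n → ℂ) : ℝ) := by linarith
  have hnorm : ‖ρ.character b‖ = (Module.finrank ℂ (Fin n → ℂ) : ℝ) :=
    le_antisymm n1 (by linarith)
  have him : (ρ.character b).im = 0 := by
    have h3 : ‖ρ.character b‖ ^ 2 = (ρ.character b).re ^ 2 + (ρ.character b).im ^ 2 := by
      rw [Complex.sq_norm, Complex.normSq_apply]; ring
    rw [hnorm, hre] at h3
    have h4 : (ρ.character b).im ^ 2 = 0 := by linarith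
    exact (pow_eq_zero_iff two_ne_zero).1 h4
  rw [Representation.char_one]
  apply Complex.ext
  · rw [hre, Complex.natCast_re]
  · rw [him, Complex.natCast_im]

/-- `θ(1)² ≤ |K:C|² |C:D|` when `D/B` is central in `C/B` and `B ≤ ker θ` -/
theorem deg_bound {K : Type*} [Group K] [Fintype K] (C D B : Subgroup K)
    (hDC : D ≤ C) (hcent : ∀ x ∈ D, ∀ y ∈ C, x * y * x⁻¹ * y⁻¹ ∈ B)
    {θ : K → ℂ} (hθ : IsIrrCharacter K θ) (hker : ∀ b ∈ B, θ b = θ 1) :
    (charDegree θ) ^ 2 * (Nat.card D * Nat.card C) ≤ (Nat.card K) ^ 2 := by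
  classical
  have hψ : IsCharacter C (fun c : C => θ c) :=
    IsCharacter.restrict C (IsIrrCharacter.isCharacter hθ)
  have hψ1 : (fun c : C => θ c) 1 ≠ 0 := by
    simpa using IsIrrCharacter.apply_one_ne_zero hθ
  obtain ⟨η, hη⟩ := IsCharacter.exists_constituent hψ hψ1
  have hηker : ∀ b ∈ B.subgroupOf C, (η : C → ℂ) b = (η : C → ℂ) 1 := by
    intro b hb
    apply constituent_ker hψ η.2 hη
    show θ (b : K) = θ ((1 : C) : K)
    rw [Subgroup.coe_one]
    exact hker _ (Subgroup.mem_subgroupOf.1 hb)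
  have hc' : ∀ x ∈ D.subgroupOf C, ∀ y : C, x * y * x⁻¹ * y⁻¹ ∈ B.subgroupOf C := by
    intro x hx y
    rw [Subgroup.mem_subgroupOf]
    have := hcent (x : K) (Subgroup.mem_subgroupOf.1 hx) (y : K) y.2
    simpa using this
  have h1 := deg_sq_le (D.subgroupOf C) (B.subgroupOf C) hc' η.2 hηker
  have hcardD : Nat.card (D.subgroupOf C) = Nat.card D :=
    Nat.card_congr (Subgroup.subgroupOfEquivOfLe hDC).toEquiv
  rw [hcardD] at h1
  have hfr : classInner (indFun C (η : C → ℂ)) θ = classInner (η : C → ℂ) (fun c : C => θ c) :=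
    Cfsg.Agent.S0146.result C (η : C → ℂ) θ (IsIrrCharacter.isClassFunction hθ)
  have hne : classInner (indFun C (η : C → ℂ)) θ ≠ 0 := by
    rw [hfr]
    intro h
    apply hη
    rw [← classInner_conj_symm, h, map_zero]
  have hle := IsCharacter.charDegree_le
    (IsCharacter.indFun C (IsIrrCharacter.isCharacter η.2)) hθ hne
  have hdeg : charDegree (indFun C (η : C → ℂ)) = C.index * charDegree (η : C → ℂ) := by
    have h2 := IsCharacter.apply_one_eq_charDegree
      (IsCharacter.indFun C (IsIrrCharacter.isCharacter η.2))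
    rw [indFun_one, IsCharacter.apply_one_eq_charDegree (IsIrrCharacter.isCharacter η.2)] at h2
    exact_mod_cast h2.symm
  rw [hdeg] at hle
  have hidx : C.index * Nat.card C = Nat.card K := C.index_mul_card
  calc (charDegree θ) ^ 2 * (Nat.card D * Nat.card C)
      ≤ (C.index * charDegree (η : C → ℂ)) ^ 2 * (Nat.card D * Nat.card C) :=
        Nat.mul_le_mul_right _ (Nat.pow_le_pow_left hle 2)
    _ = C.index ^ 2 * ((charDegree (η : C → ℂ)) ^ 2 * Nat.card D) * Nat.card C := by ring
    _ ≤ C.index ^ 2 * Nat.card C * Nat.card C := by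
        apply Nat.mul_le_mul_right
        exact Nat.mul_le_mul_left _ h1
    _ = (Nat.card K) ^ 2 := by rw [← hidx]; ring

end degbound

end Cfsg.Agent.Lib.Lead.Coh
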