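import Mathlib
import Cfsg.Agent.Lib.Lead.Coh9
import Cfsg.Agent.Lib.Helper6.QuotChar
import Cfsg.Agent.Lib.Helper6.Linear
import Cfsg.Agent.Lib.Helper6.IndLinear
import Cfsg.Agent.Lib.Helper6.IndFunTI
import Cfsg.Agent.Lib.Helper6.Gallagher
import Cfsg.Agent.Lib.Helper6.Norm

set_option autoImplicit false
open Cfsg

namespace Cfsg.Agent.Lib.Lead.Coh

open Cfsg.Agent.Lib.Helper6
open scoped ComplexConjugate

section generic
variable {G : Type*} [Group G] [Fintype G]

/-- expansion of a combination of members of an orthogonal family -/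
theorem span_expand (S₁ : Finset (G → ℂ)) (N : (G → ℂ) → ℂ) (hN : ∀ φ ∈ S₁, N φ ≠ 0)
    (h1 : ∀ φ ∈ S₁, classInner φ φ = N φ)
    (h0 : ∀ φ ∈ S₁, ∀ ψ ∈ S₁, φ ≠ ψ → classInner φ ψ = 0)
    {ι : Type*} (I : Finset ι) (v : ι → G → ℂ) (hv : ∀ i ∈ I, v i ∈ S₁) (a : ι → ℂ) :
    ∑ i ∈ I, a i • v i = ∑ φ ∈ S₁, (classInner (∑ i ∈ I, a i • v i) φ / N φ) • φ := by
  have hone : ∀ i ∈ I, v i = ∑ φ ∈ S₁, (classInner (v i) φ / N φ) • φ := by
    intro i hi
    rw [Finset.sum_eq_single (v i)]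
    · rw [h1 _ (hv i hi), div_self (hN _ (hv i hi)), one_smul]
    · intro φ hφ hne
      rw [h0 _ (hv i hi) φ hφ (Ne.symm hne), zero_div, zero_smul]
    · intro h; exact absurd (hv i hi) h
  have h2 : ∀ φ ∈ S₁, (classInner (∑ i ∈ I, a i • v i) φ / N φ) • φ
      = ∑ i ∈ I, a i • ((classInner (v i) φ / N φ) • φ) := by
    intro φ _
    rw [classInner_sum_left, Finset.sum_div, Finset.sum_smul]
    refine Finset.sum_congr rfl fun i _ => ?_
    rw [classInner_smul_left, smul_smul, mul_div_assoc]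
  rw [Finset.sum_congr rfl h2, Finset.sum_comm]
  refine Finset.sum_congr rfl fun i hi => ?_
  rw [← Finset.smul_sum, ← hone i hi]

open Classical in
/-- the squared norm of a character, as a natural number -/
noncomputable def nrm (φ : G → ℂ) : ℕ :=
  if h : ∃ n : ℕ, classInner φ φ = n then Classical.choose h else 0

theorem nrm_spec {φ : G → ℂ} (hφ : IsCharacter G φ) : classInner φ φ = ((nrm φ : ℕ) : ℂ) := by
  have h := IsCharacter.classInner_nat hφ hφ
  unfold nrm
  rw [dif_pos h]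
  exact Classical.choose_spec h

end generic

section coherent
variable {L : Type*} [Group L] [Fintype L] {G : Type*} [Group G] [Fintype G]

theorem coherent_mono {τ : (L → ℂ) → (G → ℂ)} {T T' : Set (L → ℂ)} (hsub : T ⊆ T')
    (hne : ∃ α ∈ zspanOn T {1}ᶜ, α ≠ 0)
    (h : IsCoherent T' {1}ᶜ τ) : IsCoherent T {1}ᶜ τ := by
  obtain ⟨_, τ₁, ⟨h1, h2, h3, h4⟩, hag⟩ := h
  have hz : zspan T ⊆ zspan T' := fun f hf => zs_mono hsub hf
  refine ⟨hne, τ₁, ⟨fun α hα β hβ => h1 α (hz hα) β (hz hβ), fun α hα m => h2 α (hz hα) m,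
    fun α hα β hβ => h3 α (hz hα) β (hz hβ), fun α hα => h4 α (hz hα)⟩, ?_⟩
  intro α hα
  exact hag α ⟨hz hα.1, hα.2⟩

theorem sub_conj_mem_zspanOn {T : Set (L → ℂ)} {φ : L → ℂ} (hφ : φ ∈ T)
    (hc : Cfsg.conjFun φ ∈ T) (hchar : IsCharacter L φ) :
    φ - Cfsg.conjFun φ ∈ zspanOn T {1}ᶜ := by
  rw [mem_zspanOn_one]
  refine ⟨Submodule.sub_mem _ (Submodule.subset_span hφ) (Submodule.subset_span hc), ?_⟩
  rw [Pi.sub_apply, conjFun_apply_one_of_char hchar, sub_self]

/-- adding conjugate pairs one at a time -/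
theorem add_pairs [DecidableEq (L → ℂ)] {S : Set (L → ℂ)} {τ : (L → ℂ) → (G → ℂ)}
    {R : (L → ℂ) → Finset (G → ℂ)} (hS : IsCoherenceSystem S τ R)
    (d n : (L → ℂ) → ℕ) (hd : ∀ φ ∈ S, φ 1 = (d φ : ℂ))
    (hn : ∀ φ ∈ S, classInner φ φ = (n φ : ℂ))
    (FA : Finset (L → ℂ)) (hFAS : (↑FA : Set (L → ℂ)) ⊆ S)
    (hFAc : ∀ φ ∈ FA, Cfsg.conjFun φ ∈ FA)
    (hA : IsCoherent (↑FA : Set (L → ℂ)) {1}ᶜ τ)
    (χ₁ : L → ℂ) (hχ₁ : χ₁ ∈ FA) (bound : ℝ)
    (hbound : ∀ S₁ : Finset (L → ℂ), (↑S₁ : Set (L → ℂ)) ⊆ S → FA ⊆ S₁ →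
      bound ≤ ∑ φ ∈ S₁, ((d φ : ℝ) ^ 2 / (n φ : ℝ)))
    (FB : Finset (L → ℂ)) (hFBS : (↑FB : Set (L → ℂ)) ⊆ S)
    (hFB : ∀ χ ∈ FB, d χ₁ ∣ d χ ∧ (2 * d χ * d χ₁ : ℝ) < bound) :
    ∀ m : ℕ, ∀ T : Finset (L → ℂ), T.card = m → T ⊆ FB → (∀ φ ∈ T, Cfsg.conjFun φ ∈ T) →
      IsCoherent (↑(FA ∪ T) : Set (L → ℂ)) {1}ᶜ τ := by
  intro m
  induction m using Nat.strong_induction_on with
  | _ m ih =>
    intro T hTm hTB hTc
    by_cases hsub : T ⊆ FA
    · rw [Finset.union_eq_left.2 hsub]; exact hA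
    · obtain ⟨χ, hχT, hχA⟩ := Finset.not_subset.1 hsub
      have hχS : χ ∈ S := hFBS (hTB hχT)
      have hcT : Cfsg.conjFun χ ∈ T := hTc χ hχT
      have hcA : Cfsg.conjFun χ ∉ FA := by
        intro h
        apply hχA
        have := hFAc _ h
        rwa [conjFun_conjFun'] at this
      set T' := (T.erase χ).erase (Cfsg.conjFun χ) with hT'
      have hT'T : T' ⊆ T := (Finset.erase_subset _ _).trans (Finset.erase_subset _ _)
      have hcard : T'.card < m := by
        rw [← hTm]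
        exact Finset.card_lt_card ⟨hT'T, fun h => by
          have := h hχT
          rw [hT', Finset.mem_erase, Finset.mem_erase] at this
          exact this.2.1 rfl⟩
      have hT'c : ∀ φ ∈ T', Cfsg.conjFun φ ∈ T' := by
        intro φ hφ
        rw [hT', Finset.mem_erase, Finset.mem_erase] at hφ ⊢
        obtain ⟨h1, h2, h3⟩ := hφ
        refine ⟨?_, ?_, hTc φ h3⟩
        · intro h
          apply h2
          have := congrArg Cfsg.conjFun h
          rwa [conjFun_conjFun', conjFun_conjFun'] at this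
        · intro h
          apply h1
          have := congrArg Cfsg.conjFun h
          rwa [conjFun_conjFun'] at this
      have ih' := ih T'.card hcard T' rfl (hT'T.trans hTB) hT'c
      have hχ1 : χ ∉ FA ∪ T' := by
        rw [Finset.mem_union]
        rintro (h | h)
        · exact hχA h
        · rw [hT', Finset.mem_erase, Finset.mem_erase] at h
          exact h.2.1 rfl
      have hχ2 : Cfsg.conjFun χ ∉ FA ∪ T' := by
        rw [Finset.mem_union]
        rintro (h | h)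
        · exact hcA h
        · rw [hT', Finset.mem_erase] at h
          exact h.1 rfl
      have hS₁S : (↑(FA ∪ T') : Set (L → ℂ)) ⊆ S := by
        intro φ hφ
        rw [Finset.mem_coe, Finset.mem_union] at hφ
        rcases hφ with h | h
        · exact hFAS h
        · exact hFBS (hTB (hT'T h))
      have hS₁c : ∀ φ ∈ FA ∪ T', Cfsg.conjFun φ ∈ FA ∪ T' := by
        intro φ hφ
        rw [Finset.mem_union] at hφ ⊢
        rcases hφ with h | h
        · exact Or.inl (hFAc φ h)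
        · exact Or.inr (hT'c φ h)
      obtain ⟨hdvd, hlt⟩ := hFB χ (hTB hχT)
      have hb := hbound (FA ∪ T') hS₁S Finset.subset_union_left
      have key := s1516 S τ R hS d n hd hn (FA ∪ T') hS₁S hS₁c ih' χ hχS hχ1 hχ2 χ₁
        (Finset.mem_union_left _ hχ₁) hdvd (lt_of_lt_of_le hlt hb)
      have hset : (↑(FA ∪ T') ∪ {χ, Cfsg.conjFun χ} : Set (L → ℂ)) = ↑(FA ∪ T) := by
        ext φ
        simp only [Set.mem_union, Finset.mem_coe, Finset.mem_union, Set.mem_insert_iff,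
          Set.mem_singleton_iff]
        constructor
        · rintro ((h | h) | h | h)
          · exact Or.inl h
          · exact Or.inr (hT'T h)
          · rw [h]; exact Or.inr hχT
          · rw [h]; exact Or.inr hcT
        · rintro (h | h)
          · exact Or.inl (Or.inl h)
          · by_cases h1 : φ = χ
            · exact Or.inr (Or.inl h1)
            · by_cases h2 : φ = Cfsg.conjFun χ
              · exact Or.inr (Or.inr h2)
              · left; right
                rw [hT', Finset.mem_erase, Finset.mem_erase]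
                exact ⟨h2, h1, h⟩
      rw [hset] at key
      exact key

end coherent

section iia
variable {L : Type*} [Group L] [Fintype L] (K : Subgroup L)

omit [Fintype L] in
theorem extendByZero_conj (θ : K → ℂ) (y : L) :
    extendByZero K (Cfsg.conjFun θ) y = (starRingEnd ℂ) (extendByZero K θ y) := by
  by_cases hy : y ∈ K
  · rw [extendByZero_of_mem K _ hy, extendByZero_of_mem K _ hy]; rfl
  · rw [extendByZero_of_not_mem K _ hy, extendByZero_of_not_mem K _ hy, map_zero]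

theorem conjFun_indFun (θ : K → ℂ) :
    Cfsg.conjFun (indFun K θ) = indFun K (Cfsg.conjFun θ) := by
  funext g
  show (starRingEnd ℂ) (indFun K θ g) = indFun K (Cfsg.conjFun θ) g
  unfold indFun
  rw [map_mul, map_inv₀, Complex.conj_natCast, map_sum]
  congr 1
  refine Finset.sum_congr rfl fun x _ => ?_
  rw [extendByZero_conj]

theorem iia_mono {A A' : Subgroup L} (h : A ≤ A') :
    inducedIrrAbove K A' ⊆ inducedIrrAbove K A := by
  rintro φ ⟨θ, hθ, hne, hk, rfl⟩
  exact ⟨θ, hθ, hne, fun a ha => hk a (h ha), rfl⟩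

theorem iia_conj (A : Subgroup L) {φ : L → ℂ} (h : φ ∈ inducedIrrAbove K A) :
    Cfsg.conjFun φ ∈ inducedIrrAbove K A := by
  haveI : Fintype K := Fintype.ofFinite K
  obtain ⟨θ, hθ, hne, hker, rfl⟩ := h
  refine ⟨Cfsg.conjFun θ, IsIrrCharacter.conj hθ, ?_, ?_, conjFun_indFun K θ⟩
  · intro h1
    apply hne
    funext k
    have h2 : (starRingEnd ℂ) (θ k) = 1 := congrFun h1 k
    have h3 := congrArg (starRingEnd ℂ) h2
    simpa using h3
  · intro a ha
    show (starRingEnd ℂ) (θ a) = (starRingEnd ℂ) (θ 1)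
    rw [hker a ha]

theorem iia_finite (A : Subgroup L) : (inducedIrrAbove K A).Finite := by
  apply Set.Finite.subset (Set.finite_range (fun θ : IrrCharacter K => indFun K (θ : K → ℂ)))
  rintro φ ⟨θ, hθ, _, _, rfl⟩
  exact ⟨⟨θ, hθ⟩, rfl⟩

theorem iia_isCharacter (A : Subgroup L) {φ : L → ℂ} (h : φ ∈ inducedIrrAbove K A) :
    IsCharacter L φ := by
  obtain ⟨θ, hθ, _, _, rfl⟩ := h
  exact IsCharacter.indFun K (IsIrrCharacter.isCharacter hθ)

open Classical in
/-- the function `|K:A|` on `A ∩ K` and `0` elsewhere -/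
noncomputable def regA (K A : Subgroup L) : K → ℂ :=
  fun k => if (k : L) ∈ A then (A.relIndex K : ℂ) else 0

variable [hK : K.Normal] (A : Subgroup L) [hA : A.Normal]

theorem mem_iia_of_quot [Fintype K] {β : K ⧸ A.subgroupOf K → ℂ}
    (hβ : IsIrrCharacter (K ⧸ A.subgroupOf K) β) (hne : β ≠ fun _ => 1) :
    indFun K (fun k : K => β (QuotientGroup.mk k)) ∈ inducedIrrAbove K A := by
  refine ⟨fun k : K => β (QuotientGroup.mk k), IsIrrCharacter.comp_mk (A.subgroupOf K) hβ,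
    ?_, ?_, rfl⟩
  · intro h
    apply hne
    funext q
    obtain ⟨k, rfl⟩ := QuotientGroup.mk_surjective q
    exact congrFun h k
  · intro a ha
    show β (QuotientGroup.mk a) = β (QuotientGroup.mk 1)
    have : (QuotientGroup.mk a : K ⧸ A.subgroupOf K) = QuotientGroup.mk 1 := by
      rw [QuotientGroup.mk_one]
      exact (QuotientGroup.eq_one_iff a).2 (Subgroup.mem_subgroupOf.2 ha)
    rw [this]

theorem regA_eq_sum [Fintype K] [Fintype (IrrCharacter (K ⧸ A.subgroupOf K))] :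
    regA K A = ∑ β : IrrCharacter (K ⧸ A.subgroupOf K),
      ((β : K ⧸ A.subgroupOf K → ℂ) 1) •
        (fun k : K => (β : K ⧸ A.subgroupOf K → ℂ) (QuotientGroup.mk k)) := by
  classical
  let f : K → ℂ := fun k => if k = 1 then (Nat.card K : ℂ) else 0
  have hf : IsClassFunction K f := by
    intro g h
    show (if h * g * h⁻¹ = 1 then _ else _) = (if g = 1 then _ else _)
    simp only [conj_eq_one_iff]
  have h1 := cosetAvg_eq_sum (A.subgroupOf K) hf
  have h3 : A.relIndex K * Nat.card (A.subgroupOf K) = Nat.card K :=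
    (A.subgroupOf K).index_mul_card
  have hA0 : (Nat.card (A.subgroupOf K) : ℂ) ≠ 0 := card_ne_zero_complex _
  have h2 : cosetAvg (A.subgroupOf K) f = regA K A := by
    funext k
    unfold cosetAvg regA
    by_cases hk : (k : L) ∈ A
    · rw [if_pos hk]
      have hk' : k⁻¹ ∈ A.subgroupOf K := by
        rw [Subgroup.mem_subgroupOf]
        simpa using A.inv_mem hk
      rw [Finset.sum_eq_single (⟨k⁻¹, hk'⟩ : A.subgroupOf K)]
      · simp only [f]
        rw [if_pos (by simp), ← h3]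
        push_cast
        field_simp
      · intro n _ hn
        simp only [f]
        rw [if_neg]
        intro e
        apply hn
        apply Subtype.ext
        exact eq_inv_of_mul_eq_one_left e
      · intro h; exact absurd (Finset.mem_univ _) h
    · rw [if_neg hk, Finset.sum_eq_zero, mul_zero]
      intro n _
      simp only [f]
      rw [if_neg]
      intro e
      apply hk
      have h5 : k = ((n : K))⁻¹ := eq_inv_of_mul_eq_one_right e
      rw [h5]
      have := A.inv_mem (Subgroup.mem_subgroupOf.1 n.2)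
      simpa using this
  have h4 : ∀ β : IrrCharacter (K ⧸ A.subgroupOf K),
      classInner f (fun g : K => (β : K ⧸ A.subgroupOf K → ℂ) (QuotientGroup.mk g))
        = (β : K ⧸ A.subgroupOf K → ℂ) 1 := by
    intro β
    unfold classInner
    rw [Finset.sum_eq_single (1 : K)]
    · simp only [f]
      rw [if_true, QuotientGroup.mk_one]
      obtain ⟨m, hm⟩ := IsCharacter.apply_one_eq_natCast (IsIrrCharacter.isCharacter β.2)
      rw [hm, Complex.conj_natCast]
      have hK0 : (Nat.card K : ℂ) ≠ 0 := card_ne_zero_complex K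
      field_simp
    · intro g _ hg
      simp only [f]
      rw [if_neg hg, zero_mul]
    · intro h; exact absurd (Finset.mem_univ _) h
  rw [← h2, h1]
  refine Finset.sum_congr rfl fun β _ => ?_
  rw [h4]

theorem regA_conj_invariant (x : L) :
    Cfsg.Agent.Lib.Helper6.conjFun K hK (regA K A - fun _ => 1) x = regA K A - fun _ => 1 := by
  funext k
  rw [Cfsg.Agent.Lib.Helper6.conjFun_apply]
  show regA K A ⟨x * k * x⁻¹, _⟩ - 1 = regA K A k - 1
  congr 1
  unfold regA
  have h : (x * (k : L) * x⁻¹ ∈ A) ↔ ((k : L) ∈ A) := by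
    constructor
    · intro h
      have := hA.conj_mem _ h x⁻¹
      simpa [mul_assoc] using this
    · intro h; exact hA.conj_mem _ h x
  by_cases hk : (k : L) ∈ A
  · rw [if_pos hk, if_pos (h.2 hk)]
  · rw [if_neg hk, if_neg (fun h' => hk (h.1 h'))]

theorem restrict_ind_regA :
    (fun k : K => indFun K (regA K A - fun _ => 1) k)
      = (K.index : ℂ) • (regA K A - fun _ => 1) := by
  funext k
  rw [indFun_apply_of_normal K hK]
  rw [Finset.sum_congr rfl (fun x _ => congrFun (regA_conj_invariant K A x) k)]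
  rw [Finset.sum_const, Finset.card_univ, nsmul_eq_mul, Pi.smul_apply, smul_eq_mul,
    ← Nat.card_eq_fintype_card, ← K.index_mul_card]
  have := card_ne_zero_complex K
  push_cast
  field_simp

theorem classInner_regA [Fintype K] {θ₀ : K → ℂ}
    (hker : ∀ a : K, (a : L) ∈ A → θ₀ a = θ₀ 1) :
    classInner θ₀ (regA K A) = θ₀ 1 := by
  classical
  unfold classInner
  have h1 : ∀ k : K, θ₀ k * conj (regA K A k)
      = if (k : L) ∈ A then θ₀ 1 * (A.relIndex K : ℂ) else 0 := by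
    intro k
    unfold regA
    by_cases hk : (k : L) ∈ A
    · rw [if_pos hk, if_pos hk, hker k hk, Complex.conj_natCast]
    · rw [if_neg hk, if_neg hk, map_zero, mul_zero]
  rw [Finset.sum_congr rfl (fun k _ => h1 k), Finset.sum_ite, Finset.sum_const_zero, add_zero,
    Finset.sum_const, nsmul_eq_mul]
  have h2 : (Finset.univ.filter (fun k : K => (k : L) ∈ A)).card
      = Nat.card (A.subgroupOf K) := by
    rw [Nat.card_eq_fintype_card]
    exact (Fintype.card_of_subtype _ (fun x => by simp [Subgroup.mem_subgroupOf])).symm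
  rw [h2]
  have h3 : A.relIndex K * Nat.card (A.subgroupOf K) = Nat.card K :=
    (A.subgroupOf K).index_mul_card
  have hA0 : (Nat.card (A.subgroupOf K) : ℂ) ≠ 0 := card_ne_zero_complex _
  have h4 : (A.relIndex K : ℂ) ≠ 0 := by
    intro h
    have h5 : (Nat.card K : ℂ) = 0 := by
      rw [← h3]; push_cast; rw [h, zero_mul]
    exact card_ne_zero_complex K h5
  rw [← h3]
  push_cast
  field_simp

theorem classInner_ind_regA [Fintype K] {θ₀ : K → ℂ} (hθ₀ : IsIrrCharacter K θ₀)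
    (hne : θ₀ ≠ fun _ => 1) (hker : ∀ a : K, (a : L) ∈ A → θ₀ a = θ₀ 1) :
    classInner (indFun K θ₀) (indFun K (regA K A - fun _ => 1)) = (K.index : ℂ) * θ₀ 1 := by
  rw [Cfsg.Agent.S0146.result K θ₀ _ (indFun_isClassFunction K _), restrict_ind_regA K A,
    classInner_smul_right, classInner_sub_right, classInner_regA K A hker,
    classInner_isIrrCharacter hθ₀ isIrrCharacter_one, if_neg hne, sub_zero, Complex.conj_natCast]

theorem sum_ge [Fintype K]
    (horth : ∀ χ ∈ inducedIrrAbove K ⊥, ∀ φ ∈ inducedIrrAbove K ⊥, χ ≠ φ → classInner χ φ = 0)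
    (S₁ : Finset (L → ℂ)) (hS₁ : (↑S₁ : Set (L → ℂ)) ⊆ inducedIrrAbove K ⊥)
    (hAS : inducedIrrAbove K A ⊆ ↑S₁)
    (d n : (L → ℂ) → ℕ) (hd : ∀ φ ∈ inducedIrrAbove K ⊥, φ 1 = (d φ : ℂ))
    (hn : ∀ φ ∈ inducedIrrAbove K ⊥, classInner φ φ = (n φ : ℂ)) :
    (K.index : ℝ) * ((A.relIndex K : ℝ) - 1) ≤ ∑ φ ∈ S₁, ((d φ : ℝ) ^ 2 / (n φ : ℝ)) := by
  classical
  haveI : Fintype (IrrCharacter (K ⧸ A.subgroupOf K)) := Fintype.ofFinite _
  set β₀ : IrrCharacter (K ⧸ A.subgroupOf K) := ⟨fun _ => 1, isIrrCharacter_one⟩ with hβ₀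
  set I : Finset (IrrCharacter (K ⧸ A.subgroupOf K)) := Finset.univ.erase β₀ with hI
  let v : IrrCharacter (K ⧸ A.subgroupOf K) → (L → ℂ) :=
    fun β => indFun K (fun k : K => (β : K ⧸ A.subgroupOf K → ℂ) (QuotientGroup.mk k))
  let a : IrrCharacter (K ⧸ A.subgroupOf K) → ℂ := fun β => (β : K ⧸ A.subgroupOf K → ℂ) 1
  have hvA : ∀ β ∈ I, v β ∈ inducedIrrAbove K A := by
    intro β hβ
    exact mem_iia_of_quot K A β.2 (fun h => (Finset.ne_of_mem_erase hβ) (Subtype.ext h))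
  have hΨ : ∑ β ∈ I, a β • v β = indFun K (regA K A - fun _ => 1) := by
    rw [regA_eq_sum K A]
    have h1 : (∑ β : IrrCharacter (K ⧸ A.subgroupOf K),
          ((β : K ⧸ A.subgroupOf K → ℂ) 1) •
            (fun k : K => (β : K ⧸ A.subgroupOf K → ℂ) (QuotientGroup.mk k)))
          - (fun _ => (1 : ℂ))
        = ∑ β ∈ I, ((β : K ⧸ A.subgroupOf K → ℂ) 1) •
            (fun k : K => (β : K ⧸ A.subgroupOf K → ℂ) (QuotientGroup.mk k)) := by
      rw [hI, Finset.sum_erase_eq_sub (Finset.mem_univ β₀)]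
      congr 1
      funext k
      simp [hβ₀]
    rw [h1, indFun_sum]
    refine Finset.sum_congr rfl fun β _ => ?_
    rw [indFun_smul]
  have hΨ1 : (∑ β ∈ I, a β • v β) 1 = (K.index : ℂ) * ((A.relIndex K : ℂ) - 1) := by
    rw [hΨ, indFun_one]
    congr 1
    show regA K A 1 - 1 = _
    unfold regA
    rw [if_pos (by simp)]
  have hNne : ∀ φ ∈ S₁, ((n φ : ℕ) : ℂ) ≠ 0 := by
    intro φ hφ h0
    have hφS := hS₁ hφ
    have h1 := hn φ hφS
    rw [h0] at h1
    have h2 := eq_zero_of_classInner_self_eq_zero h1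
    obtain ⟨θ, hθ, _, _, rfl⟩ := hφS
    have h3 := congrFun h2 1
    rw [indFun_one] at h3
    rcases mul_eq_zero.1 h3 with h | h
    · have h5 : K.index ≠ 0 := Subgroup.index_ne_zero_of_finite
      exact h5 (by exact_mod_cast h)
    · exact IsIrrCharacter.apply_one_ne_zero hθ h
  have hexp := span_expand S₁ (fun φ => ((n φ : ℕ) : ℂ)) hNne (fun φ hφ => hn φ (hS₁ hφ))
    (fun φ hφ ψ hψ hne => horth φ (hS₁ hφ) ψ (hS₁ hψ) hne) I v
    (fun β hβ => hAS (hvA β hβ)) a
  have hterm : ∀ φ ∈ S₁,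
      ((classInner (∑ β ∈ I, a β • v β) φ / ((n φ : ℕ) : ℂ)) • φ) 1
      = (((if φ ∈ inducedIrrAbove K A then (d φ : ℝ) ^ 2 / (n φ : ℝ) else 0 : ℝ)) : ℂ) := by
    intro φ hφ
    rw [Pi.smul_apply, smul_eq_mul, hd φ (hS₁ hφ)]
    by_cases hφA : φ ∈ inducedIrrAbove K A
    · rw [if_pos hφA]
      have hin : classInner (∑ β ∈ I, a β • v β) φ = ((d φ : ℕ) : ℂ) := by
        rw [hΨ, ← classInner_conj_symm]
        obtain ⟨θ₀, hθ₀, hne, hker, rfl⟩ := hφA
        rw [classInner_ind_regA K A hθ₀ hne hker, ← indFun_one, hd _ (hS₁ hφ),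
          Complex.conj_natCast]
      rw [hin]
      push_cast
      ring
    · rw [if_neg hφA]
      have hin : classInner (∑ β ∈ I, a β • v β) φ = 0 := by
        rw [classInner_sum_left]
        refine Finset.sum_eq_zero fun β hβ => ?_
        rw [classInner_smul_left, horth _ (iia_mono K bot_le (hvA β hβ)) φ (hS₁ hφ) ?_,
          mul_zero]
        intro h
        apply hφA
        rw [← h]
        exact hvA β hβ
      rw [hin]
      simp
  have h3 : (∑ φ ∈ S₁, ((classInner (∑ β ∈ I, a β • v β) φ / ((n φ : ℕ) : ℂ)) • φ)) 1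
      = ((∑ φ ∈ S₁, (if φ ∈ inducedIrrAbove K A then (d φ : ℝ) ^ 2 / (n φ : ℝ) else 0) : ℝ) : ℂ) := by
    rw [Finset.sum_apply, Complex.ofReal_sum]
    exact Finset.sum_congr rfl hterm
  have h1 := congrFun hexp 1
  rw [hΨ1] at h1
  have h4 : ((K.index : ℂ) * ((A.relIndex K : ℂ) - 1))
      = ((∑ φ ∈ S₁, (if φ ∈ inducedIrrAbove K A then (d φ : ℝ) ^ 2 / (n φ : ℝ) else 0) : ℝ) : ℂ) :=
    h1.trans h3
  have h2 : (K.index : ℝ) * ((A.relIndex K : ℝ) - 1)
      = ∑ φ ∈ S₁, (if φ ∈ inducedIrrAbove K A then (d φ : ℝ) ^ 2 / (n φ : ℝ) else 0) := by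
    exact_mod_cast h4
  rw [h2]
  refine Finset.sum_le_sum fun φ _ => ?_
  split_ifs
  · exact le_refl _
  · exact div_nonneg (sq_nonneg _) (Nat.cast_nonneg _)

theorem exists_linear_iia [Fintype K] (hsolv : Group.IsSolvable K) (hAK : A < K) :
    ∃ χ₁ ∈ inducedIrrAbove K A, χ₁ 1 = (K.index : ℂ) := by
  classical
  haveI := hsolv
  have hA'top : A.subgroupOf K ≠ ⊤ := by
    intro h
    rw [Subgroup.subgroupOf_eq_top] at h
    exact (not_le_of_gt hAK) h
  haveI : Nontrivial (K ⧸ A.subgroupOf K) := by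
    rw [← Finite.one_lt_card_iff_nontrivial, ← Subgroup.index_eq_card]
    have h1 : (A.subgroupOf K).index ≠ 1 := fun h => hA'top (Subgroup.index_eq_one.1 h)
    have h0 : (A.subgroupOf K).index ≠ 0 := Subgroup.index_ne_zero_of_finite
    omega
  have hlt := Group.IsSolvable.commutator_lt_top_of_nontrivial (G := K ⧸ A.subgroupOf K)
  have hidx : (commutator (K ⧸ A.subgroupOf K)).index ≠ 1 :=
    fun h => (ne_of_lt hlt) (Subgroup.index_eq_one.1 h)
  have hcard := card_linear_characters (G := K ⧸ A.subgroupOf K)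
  have h2 : 1 < Nat.card {χ : IrrCharacter (K ⧸ A.subgroupOf K) //
      (χ : K ⧸ A.subgroupOf K → ℂ) 1 = 1} := by
    rw [hcard]
    have h0 : (commutator (K ⧸ A.subgroupOf K)).index ≠ 0 := Subgroup.index_ne_zero_of_finite
    omega
  rw [Finite.one_lt_card_iff_nontrivial] at h2
  obtain ⟨β₁, β₂, hne⟩ := exists_pair_ne {χ : IrrCharacter (K ⧸ A.subgroupOf K) //
      (χ : K ⧸ A.subgroupOf K → ℂ) 1 = 1}
  obtain ⟨β, hβne⟩ : ∃ β : {χ : IrrCharacter (K ⧸ A.subgroupOf K) //
      (χ : K ⧸ A.subgroupOf K → ℂ) 1 = 1},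
      (β.1 : K ⧸ A.subgroupOf K → ℂ) ≠ fun _ => 1 := by
    by_contra hcon
    push Not at hcon
    apply hne
    apply Subtype.ext
    apply Subtype.ext
    rw [hcon β₁, hcon β₂]
  refine ⟨indFun K (fun k : K => (β.1 : K ⧸ A.subgroupOf K → ℂ) (QuotientGroup.mk k)),
    mem_iia_of_quot K A β.1.2 hβne, ?_⟩
  rw [indFun_one]
  show _ * (β.1 : K ⧸ A.subgroupOf K → ℂ) (QuotientGroup.mk 1) = _
  rw [QuotientGroup.mk_one, β.2, mul_one]

end iia

section final

theorem s1519_arith (t l a iC rD cK cC cD cL : ℕ) (hl : 0 < l) (hcD : 0 < cD) (hcC : 0 < cC)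
    (h1 : t ^ 2 * (cD * cC) ≤ cK ^ 2) (hK : l * cK = cL) (hC : iC * cC = cL)
    (hD : rD * cD = cC) (hlt : 4 * iC ^ 2 * rD < (a - 1) ^ 2) :
    (2 * ((l * t : ℕ) : ℝ) * (l : ℝ)) < (l : ℝ) * ((a : ℝ) - 1) := by
  have h2 : t ^ 2 * l ^ 2 * (cD * cC) ≤ iC ^ 2 * rD * (cD * cC) := by
    calc t ^ 2 * l ^ 2 * (cD * cC) = l ^ 2 * (t ^ 2 * (cD * cC)) := by ring
      _ ≤ l ^ 2 * cK ^ 2 := Nat.mul_le_mul_left _ h1
      _ = (l * cK) ^ 2 := by ring
      _ = (iC * cC) ^ 2 := by rw [hK, hC]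
      _ = iC ^ 2 * cC * (rD * cD) := by rw [hD]; ring
      _ = iC ^ 2 * rD * (cD * cC) := by ring
  have h3 : t ^ 2 * l ^ 2 ≤ iC ^ 2 * rD :=
    Nat.le_of_mul_le_mul_right h2 (Nat.mul_pos hcD hcC)
  have h4 : (2 * t * l) ^ 2 < (a - 1) ^ 2 := by
    calc (2 * t * l) ^ 2 = 4 * (t ^ 2 * l ^ 2) := by ring
      _ ≤ 4 * (iC ^ 2 * rD) := Nat.mul_le_mul_left _ h3
      _ = 4 * iC ^ 2 * rD := by ring
      _ < (a - 1) ^ 2 := hlt
  have h5 : 2 * t * l < a - 1 := (Nat.pow_lt_pow_iff_left (by norm_num)).1 h4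
  have ha : 1 ≤ a := by omega
  have h6 : ((2 * t * l : ℕ) : ℝ) < ((a - 1 : ℕ) : ℝ) := by exact_mod_cast h5
  rw [Nat.cast_sub ha] at h6
  push_cast at h6 ⊢
  have hl' : (0 : ℝ) < l := by exact_mod_cast hl
  calc 2 * ((l : ℝ) * t) * l = l * (2 * t * l) := by ring
    _ < l * (a - 1) := mul_lt_mul_of_pos_left h6 hl'

theorem s1519 {L : Type*} [Group L] [Fintype L] {G : Type*} [Group G] [Fintype G] (K : Subgroup L) [hK : K.Normal] (hsolv : Group.IsSolvable K) (τ : (L → ℂ) → (G → ℂ)) (R : (L → ℂ) → Finset (G → ℂ)) (hS : Cfsg.IsCoherenceSystem (Cfsg.inducedIrrAbove K ⊥) τ R) (A B C D : Subgroup L) [A.Normal] [B.Normal] [C.Normal] [D.Normal] (hAK : A < K) (hBK : B < K) (hDC : D ≤ C) (hCK : C ≤ K) (hcent : ∀ x ∈ D, ∀ y ∈ C, x * y * x⁻¹ * y⁻¹ ∈ B) (hA : Cfsg.IsCoherent (Cfsg.inducedIrrAbove K A) {1}ᶜ τ) (hlt : 4 * C.index ^ 2 * D.relIndex C < (A.relIndex K - 1) ^ 2) : Cfsg.IsCoherent (Cfsg.inducedIrrAbove K B) {1}ᶜ τ := by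
  classical
  haveI : Fintype K := Fintype.ofFinite K
  have hd : ∀ φ ∈ inducedIrrAbove K ⊥, φ 1 = (((charDegree : (L → ℂ) → ℕ) φ : ℕ) : ℂ) :=
    fun φ hφ => IsCharacter.apply_one_eq_charDegree (hS.isCharacter φ hφ)
  have hn : ∀ φ ∈ inducedIrrAbove K ⊥, classInner φ φ = (((nrm : (L → ℂ) → ℕ) φ : ℕ) : ℂ) :=
    fun φ hφ => nrm_spec (hS.isCharacter φ hφ)
  set FA := (iia_finite K A).toFinset with hFA
  set FB := (iia_finite K B).toFinset with hFB
  have hFAc : (↑FA : Set (L → ℂ)) = inducedIrrAbove K A := Set.Finite.coe_toFinset _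
  have hFBc : (↑FB : Set (L → ℂ)) = inducedIrrAbove K B := Set.Finite.coe_toFinset _
  have hFAmem : ∀ φ, φ ∈ FA ↔ φ ∈ inducedIrrAbove K A := fun φ => Set.Finite.mem_toFinset _
  have hFBmem : ∀ φ, φ ∈ FB ↔ φ ∈ inducedIrrAbove K B := fun φ => Set.Finite.mem_toFinset _
  obtain ⟨χ₁, hχ₁A, hχ₁1⟩ := exists_linear_iia K A hsolv hAK
  have hdχ₁ : charDegree χ₁ = K.index := by
    have := hd χ₁ (iia_mono K bot_le hχ₁A)
    rw [hχ₁1] at this
    exact_mod_cast this.symm
  have hFBbound : ∀ χ ∈ FB, (charDegree : (L → ℂ) → ℕ) χ₁ ∣ (charDegree : (L → ℂ) → ℕ) χ ∧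
      (2 * ((charDegree : (L → ℂ) → ℕ) χ) * ((charDegree : (L → ℂ) → ℕ) χ₁) : ℝ)
        < (K.index : ℝ) * ((A.relIndex K : ℝ) - 1) := by
    intro χ hχ
    rw [hFBmem] at hχ
    obtain ⟨θ, hθ, hne, hker, rfl⟩ := hχ
    have hdχ : charDegree (indFun K θ) = K.index * charDegree θ := by
      have h2 := IsCharacter.apply_one_eq_charDegree
        (IsCharacter.indFun K (IsIrrCharacter.isCharacter hθ))
      rw [indFun_one, IsCharacter.apply_one_eq_charDegree (IsIrrCharacter.isCharacter hθ)] at h2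
      exact_mod_cast h2.symm
    refine ⟨?_, ?_⟩
    · rw [hdχ₁, hdχ]; exact Dvd.intro _ rfl
    · rw [hdχ₁, hdχ]
      have hb := deg_bound (C.subgroupOf K) (D.subgroupOf K) (B.subgroupOf K)
        (fun x hx => hDC hx) (by
          intro x hx y hy
          have := hcent x hx y hy
          simpa [Subgroup.mem_subgroupOf] using this) hθ (fun b hb => hker b hb)
      have hcC : Nat.card (C.subgroupOf K) = Nat.card C :=
        Nat.card_congr (Subgroup.subgroupOfEquivOfLe hCK).toEquiv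
      have hcD : Nat.card (D.subgroupOf K) = Nat.card D :=
        Nat.card_congr (Subgroup.subgroupOfEquivOfLe (hDC.trans hCK)).toEquiv
      rw [hcC, hcD] at hb
      have hDrel : D.relIndex C * Nat.card D = Nat.card C := by
        have h1 : Nat.card (D.subgroupOf C) = Nat.card D :=
          Nat.card_congr (Subgroup.subgroupOfEquivOfLe hDC).toEquiv
        rw [← h1]
        exact (D.subgroupOf C).index_mul_card
      exact s1519_arith (charDegree θ) K.index (A.relIndex K) C.index (D.relIndex C)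
        (Nat.card K) (Nat.card C) (Nat.card D) (Nat.card L)
        (Nat.pos_of_ne_zero Subgroup.index_ne_zero_of_finite) Nat.card_pos Nat.card_pos hb
        K.index_mul_card C.index_mul_card hDrel hlt
  have hcoh := add_pairs hS (charDegree : (L → ℂ) → ℕ) (nrm : (L → ℂ) → ℕ) hd hn FA
    (by rw [hFAc]; exact iia_mono K bot_le)
    (fun φ hφ => (hFAmem _).2 (iia_conj K A ((hFAmem _).1 hφ)))
    (by rw [hFAc]; exact hA) χ₁ ((hFAmem _).2 hχ₁A)
    ((K.index : ℝ) * ((A.relIndex K : ℝ) - 1))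
    (fun S₁ hS₁ hsub => sum_ge K A hS.orthogonal S₁ hS₁
      (fun φ hφ => Finset.mem_coe.2 (hsub ((hFAmem φ).2 hφ))) _ _ hd hn)
    FB (by rw [hFBc]; exact iia_mono K bot_le) hFBbound FB.card FB rfl (Finset.Subset.refl _)
    (fun φ hφ => (hFBmem _).2 (iia_conj K B ((hFBmem _).1 hφ)))
  obtain ⟨χ, hχB, _⟩ := exists_linear_iia K B hsolv hBK
  refine coherent_mono (T' := (↑(FA ∪ FB) : Set (L → ℂ))) ?_ ?_ hcoh
  · intro φ hφ
    exact Finset.mem_coe.2 (Finset.mem_union_right _ ((hFBmem φ).2 hφ))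
  · refine ⟨χ - Cfsg.conjFun χ,
      sub_conj_mem_zspanOn hχB (iia_conj K B hχB) (iia_isCharacter K B hχB), ?_⟩
    intro h
    exact hS.conj_ne χ (iia_mono K bot_le hχB) (sub_eq_zero.1 h).symm

end final

end Cfsg.Agent.Lib.Lead.Coh
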