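import Mathlib
import Cfsg.Agent.Lib.Lead.Coh10

set_option autoImplicit false
open Cfsg

namespace Cfsg.Agent.Lib.Lead.Coh

open Cfsg.Agent.Lib.Helper6
open scoped ComplexConjugate
open scoped commutatorElement

section s1520

theorem not_le_of_mem_iia {L : Type*} [Group L] [Fintype L] (K : Subgroup L) {A : Subgroup L}
    {φ : L → ℂ} (h : φ ∈ inducedIrrAbove K A) : ¬ K ≤ A := by
  obtain ⟨θ, hθ, hne, hker, rfl⟩ := h
  intro hKA
  haveI : Fintype K := Fintype.ofFinite K
  have hconst : ∀ k : K, θ k = θ 1 := fun k => hker k (hKA k.2)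
  have h1 := classInner_isIrrCharacter hθ isIrrCharacter_one
  rw [if_neg hne] at h1
  have h2 : classInner θ (fun _ => (1 : ℂ)) = θ 1 := by
    unfold classInner
    simp only [map_one, mul_one]
    rw [Finset.sum_congr rfl (fun k _ => hconst k), Finset.sum_const, Finset.card_univ,
      nsmul_eq_mul, ← Nat.card_eq_fintype_card]
    have := card_ne_zero_complex K
    field_simp
  rw [h2] at h1
  exact IsIrrCharacter.apply_one_ne_zero hθ h1

theorem iia_nonempty_of_coherent {L : Type*} [Group L] [Fintype L] {G : Type*} [Group G]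
    [Fintype G] (K A : Subgroup L) {τ : (L → ℂ) → (G → ℂ)}
    (h : IsCoherent (inducedIrrAbove K A) {1}ᶜ τ) : (inducedIrrAbove K A).Nonempty := by
  obtain ⟨⟨α, hα, hα0⟩, _⟩ := h
  rcases Set.eq_empty_or_nonempty (inducedIrrAbove K A) with h | h
  · exfalso
    rw [h] at hα
    have h1 : α ∈ (Submodule.span ℤ (∅ : Set (L → ℂ))) := hα.1
    rw [Submodule.span_empty, Submodule.mem_bot] at h1
    exact hα0 h1
  · exact h

theorem eq_of_commutator_sup_eq {L : Type*} [Group L] (M B H : Subgroup L) (hMB : M ≤ B)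
    (hBH : B ≤ H) [(M.subgroupOf H).Normal]
    (hnil : Group.IsNilpotent (↥H ⧸ M.subgroupOf H))
    (heq : ⁅H, B⁆ ⊔ M = B) : B = M := by
  apply le_antisymm _ hMB
  obtain ⟨n, hn⟩ := Subgroup.nilpotent_iff_lowerCentralSeries.1 hnil
  have key : ∀ n : ℕ, ∀ b ∈ B, ∀ hb : b ∈ H,
      (QuotientGroup.mk' (M.subgroupOf H)) ⟨b, hb⟩
        ∈ (⊤ : Subgroup (↥H ⧸ M.subgroupOf H)).lowerCentralSeries n := by
    intro n
    induction n with
    | zero => intro b _ hb; exact Subgroup.mem_top _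
    | succ n ih =>
      have hle : ⁅H, B⁆ ⊔ M ≤
          (((⊤ : Subgroup (↥H ⧸ M.subgroupOf H)).lowerCentralSeries (n + 1)).comap
            (QuotientGroup.mk' (M.subgroupOf H))).map H.subtype := by
        apply sup_le
        · rw [Subgroup.commutator_le]
          intro h hh b hb
          have hbH : b ∈ H := hBH hb
          rw [Subgroup.mem_map]
          refine ⟨⁅(⟨h, hh⟩ : H), (⟨b, hbH⟩ : H)⁆, ?_, rfl⟩
          rw [Subgroup.mem_comap, map_commutatorElement, Subgroup.lowerCentralSeries_succ]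
          have hc := ih b hb hbH
          have h1 : ⁅(QuotientGroup.mk' (M.subgroupOf H)) ⟨b, hbH⟩,
              (QuotientGroup.mk' (M.subgroupOf H)) ⟨h, hh⟩⁆
              ∈ ⁅(⊤ : Subgroup (↥H ⧸ M.subgroupOf H)).lowerCentralSeries n, ⊤⁆ :=
            Subgroup.commutator_mem_commutator hc (Subgroup.mem_top _)
          have h2 := Subgroup.inv_mem _ h1
          rw [commutatorElement_inv] at h2
          exact h2
        · intro m hm
          have hmH : m ∈ H := hBH (hMB hm)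
          rw [Subgroup.mem_map]
          refine ⟨⟨m, hmH⟩, ?_, rfl⟩
          rw [Subgroup.mem_comap]
          have h3 : (QuotientGroup.mk' (M.subgroupOf H)) ⟨m, hmH⟩ = 1 := by
            rw [QuotientGroup.mk'_apply, QuotientGroup.eq_one_iff]
            exact Subgroup.mem_subgroupOf.2 hm
          rw [h3]
          exact Subgroup.one_mem _
      intro b hb hbH
      have hb' : b ∈ ⁅H, B⁆ ⊔ M := by rw [heq]; exact hb
      obtain ⟨y, hy, hyb⟩ := Subgroup.mem_map.1 (hle hb')
      have h4 : y = ⟨b, hbH⟩ := Subtype.ext hyb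
      rw [← h4]
      exact hy
  intro b hb
  have hbH := hBH hb
  have h1 := key n b hb hbH
  rw [hn, Subgroup.mem_bot, QuotientGroup.mk'_apply, QuotientGroup.eq_one_iff] at h1
  exact Subgroup.mem_subgroupOf.1 h1

theorem s1520_arith (l k x : ℕ) (hk : 1 ≤ k) (hx : 4 * l ^ 2 + 2 ≤ x) :
    4 * (k * l) ^ 2 * x < (x * k - 1) ^ 2 := by
  have hxk : 0 < x * k := Nat.mul_pos (by omega) hk
  obtain ⟨y, hy⟩ : ∃ y, x * k = y + 1 := ⟨x * k - 1, by omega⟩
  rw [hy, Nat.add_sub_cancel]
  zify at hy hk hx ⊢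
  have h1 : (0 : ℤ) ≤ (k : ℤ) ^ 2 * x * (x - 2 - 4 * l ^ 2) :=
    mul_nonneg (by positivity) (by linarith)
  have h2 : (0 : ℤ) ≤ (x : ℤ) * k * (k - 1) := mul_nonneg (by positivity) (by linarith)
  have hy' : (y : ℤ) = x * k - 1 := by linarith
  rw [hy']
  nlinarith [h1, h2]

theorem s1520 {L : Type*} [Group L] [Fintype L] {G : Type*} [Group G] [Fintype G] (K : Subgroup L) [hK : K.Normal] (hsolv : Group.IsSolvable K) (τ : (L → ℂ) → (G → ℂ)) (R : (L → ℂ) → Finset (G → ℂ)) (hS : Cfsg.IsCoherenceSystem (Cfsg.inducedIrrAbove K ⊥) τ R) (M H₁ H : Subgroup L) [M.Normal] [H₁.Normal] [H.Normal] (hMH₁ : M ≤ H₁) (hH₁H : H₁ ≤ H) (hHK : H ≤ K) [(M.subgroupOf H).Normal] (hnil : Group.IsNilpotent (↥H ⧸ M.subgroupOf H)) (hcoh : Cfsg.IsCoherent (Cfsg.inducedIrrAbove K H₁) {1}ᶜ τ) (hbig : 4 * K.index ^ 2 + 1 < H₁.relIndex H) : Cfsg.IsCoherent (Cfsg.inducedIrrAbove K M) {1}ᶜ τ := by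
  classical
  obtain ⟨φ, hφ⟩ := iia_nonempty_of_coherent K H₁ hcoh
  have hH₁K : H₁ < K :=
    lt_of_le_of_ne (hH₁H.trans hHK) (fun h => not_le_of_mem_iia K hφ h.ge)
  have key : ∀ m : ℕ, ∀ B : Subgroup L, B.Normal → Nat.card B = m → M ≤ B → B ≤ H₁ →
      IsCoherent (inducedIrrAbove K B) {1}ᶜ τ → IsCoherent (inducedIrrAbove K M) {1}ᶜ τ := by
    intro m
    induction m using Nat.strong_induction_on with
    | _ m ih =>
      intro B hBn hBm hMB hBH₁ hBcoh
      by_cases hBM : B = M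
      · rw [← hBM]; exact hBcoh
      · haveI := hBn
        have hB₀n : (⁅H, B⁆ ⊔ M).Normal := inferInstance
        have hB₀B : ⁅H, B⁆ ⊔ M ≤ B := sup_le (Subgroup.commutator_le_right H B) hMB
        have hB₀ne : ⁅H, B⁆ ⊔ M ≠ B :=
          fun h => hBM (eq_of_commutator_sup_eq M B H hMB (hBH₁.trans hH₁H) hnil h)
        have hcard : Nat.card ↥(⁅H, B⁆ ⊔ M) < m := by
          rw [← hBm]
          by_contra hc
          exact hB₀ne (Subgroup.eq_of_le_of_card_ge hB₀B (not_lt.1 hc))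
        have hBK : B < K := lt_of_le_of_lt hBH₁ hH₁K
        have hcoh₀ : IsCoherent (inducedIrrAbove K (⁅H, B⁆ ⊔ M)) {1}ᶜ τ := by
          apply s1519 K hsolv τ R hS B (⁅H, B⁆ ⊔ M) H B hBK (lt_of_le_of_lt hB₀B hBK)
            (hBH₁.trans hH₁H) hHK ?_ hBcoh ?_
          · intro x hx y hy
            have h1 : ⁅x, y⁆ ∈ ⁅B, H⁆ := Subgroup.commutator_mem_commutator hx hy
            rw [Subgroup.commutator_comm] at h1
            exact (le_sup_left : ⁅H, B⁆ ≤ ⁅H, B⁆ ⊔ M) h1
          · have e1 : H.relIndex K * K.index = H.index := Subgroup.relIndex_mul_index hHK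
            have e2 : B.relIndex H * H.relIndex K = B.relIndex K :=
              Subgroup.relIndex_mul_relIndex B H K (hBH₁.trans hH₁H) hHK
            have e3 : B.relIndex H₁ * H₁.relIndex H = B.relIndex H :=
              Subgroup.relIndex_mul_relIndex B H₁ H hBH₁ hH₁H
            have hpos1 : 0 < B.relIndex H₁ :=
              Nat.pos_of_ne_zero (Subgroup.index_ne_zero_of_finite (H := B.subgroupOf H₁))
            have hk : 1 ≤ H.relIndex K :=
              Nat.pos_of_ne_zero (Subgroup.index_ne_zero_of_finite (H := H.subgroupOf K))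
            have hx : 4 * K.index ^ 2 + 2 ≤ B.relIndex H := by
              rw [← e3]
              calc 4 * K.index ^ 2 + 2 ≤ H₁.relIndex H := hbig
                _ ≤ B.relIndex H₁ * H₁.relIndex H := Nat.le_mul_of_pos_left _ hpos1
            rw [← e1, ← e2]
            exact s1520_arith K.index (H.relIndex K) (B.relIndex H) hk hx
        exact ih (Nat.card ↥(⁅H, B⁆ ⊔ M)) hcard (⁅H, B⁆ ⊔ M) hB₀n rfl le_sup_right
          (hB₀B.trans hBH₁) hcoh₀
  exact key (Nat.card H₁) H₁ inferInstance rfl hMH₁ le_rfl hcoh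

end s1520

end Cfsg.Agent.Lib.Lead.Coh
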