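import Mathlib
import Cfsg.Agent.Lib.Lead.Coh11
import Cfsg.Agent.Lib.Helper3.CharQuot
import Cfsg.Agent.S0187

set_option autoImplicit false
open Cfsg

namespace Cfsg.Agent.Lib.Lead.Coh

open Cfsg.Agent.Lib.Helper6
open scoped ComplexConjugate
open scoped commutatorElement

section grp

/-- if every orbit off a fixed point has size divisible by `l` then `l ∣ |X| - 1` -/
theorem dvd_card_sub_one_of_orbits {Γ X : Type*} [Group Γ] [MulAction Γ X] [Finite X] (x₀ : X)
    (hfix : ∀ g : Γ, g • x₀ = x₀) (l : ℕ)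
    (h : ∀ x : X, x ≠ x₀ → l ∣ Nat.card (MulAction.orbit Γ x)) : l ∣ Nat.card X - 1 := by
  classical
  haveI : Fintype (MulAction.orbitRel.Quotient Γ X) := Fintype.ofFinite _
  have hcard : Nat.card X
      = ∑ ω : MulAction.orbitRel.Quotient Γ X, Nat.card (MulAction.orbit Γ ω.out) := by
    rw [Nat.card_congr (MulAction.selfEquivSigmaOrbits Γ X), Nat.card_sigma]
  let ω₀ : MulAction.orbitRel.Quotient Γ X := Quotient.mk'' x₀
  have hout : ω₀.out = x₀ := by
    have h1 : ω₀.out ∈ MulAction.orbit Γ x₀ :=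
      MulAction.orbitRel_apply.1 (Quotient.eq''.1 (Quotient.out_eq' ω₀))
    obtain ⟨g, hg⟩ := h1
    rw [← hg]
    exact hfix g
  have h0 : Nat.card (MulAction.orbit Γ ω₀.out) = 1 := by
    rw [hout]
    have h2 : MulAction.orbit Γ x₀ = {x₀} := by
      ext y
      constructor
      · rintro ⟨g, rfl⟩
        exact hfix g
      · intro hy
        rw [Set.mem_singleton_iff.1 hy]
        exact MulAction.mem_orbit_self _
    rw [h2, Nat.card_coe_set_eq, Set.ncard_singleton]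
  rw [hcard, ← Finset.add_sum_erase Finset.univ _ (Finset.mem_univ ω₀), h0,
    Nat.add_sub_cancel_left]
  apply Finset.dvd_sum
  intro ω hω
  apply h
  intro hx
  apply Finset.ne_of_mem_erase hω
  calc ω = Quotient.mk'' ω.out := (Quotient.out_eq' ω).symm
    _ = ω₀ := by rw [hx]

/-- conjugation action of `L` on the image of a normal subgroup in `L ⧸ H₁` -/
def conjActQ {L : Type*} [Group L] (H₁ N : Subgroup L) [H₁.Normal] [hN : N.Normal] :
    MulAction L ↥(N.map (QuotientGroup.mk' H₁)) where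
  smul x q := ⟨QuotientGroup.mk' H₁ x * q * (QuotientGroup.mk' H₁ x)⁻¹,
    (Subgroup.Normal.map hN (QuotientGroup.mk' H₁)
      (QuotientGroup.mk'_surjective H₁)).conj_mem q q.2 _⟩
  one_smul q := by
    apply Subtype.ext
    show QuotientGroup.mk' H₁ 1 * (q : L ⧸ H₁) * (QuotientGroup.mk' H₁ 1)⁻¹ = q
    rw [map_one, one_mul, inv_one, mul_one]
  mul_smul x y q := by
    apply Subtype.ext
    show QuotientGroup.mk' H₁ (x * y) * (q : L ⧸ H₁) * (QuotientGroup.mk' H₁ (x * y))⁻¹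
      = QuotientGroup.mk' H₁ x *
          (QuotientGroup.mk' H₁ y * (q : L ⧸ H₁) * (QuotientGroup.mk' H₁ y)⁻¹)
        * (QuotientGroup.mk' H₁ x)⁻¹
    rw [map_mul, mul_inv_rev]
    group

theorem frob_cong {L : Type*} [Group L] [Finite L] (K H₁ N : Subgroup L) [H₁.Normal] [N.Normal]
    (hH₁N : H₁ ≤ N) (hNK : N ≤ K)
    (hfrob : ∀ k ∈ K, k ∉ H₁ → ∀ x : L, x * k * x⁻¹ * k⁻¹ ∈ H₁ → x ∈ K) :
    K.index ∣ H₁.relIndex N - 1 := by
  classical
  letI := conjActQ H₁ N
  have hcard : Nat.card ↥(N.map (QuotientGroup.mk' H₁)) = H₁.relIndex N := by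
    have h1 : (N.map (QuotientGroup.mk' H₁)).index = N.index :=
      N.index_map_eq (QuotientGroup.mk'_surjective H₁)
        (by rw [QuotientGroup.ker_mk']; exact hH₁N)
    have h2 := (N.map (QuotientGroup.mk' H₁)).card_mul_index
    have h3 : Nat.card (L ⧸ H₁) = H₁.index := (Subgroup.index_eq_card H₁).symm
    have h4 := Subgroup.relIndex_mul_index hH₁N
    rw [h1, h3, ← h4] at h2
    exact Nat.eq_of_mul_eq_mul_right (Nat.pos_of_ne_zero Subgroup.index_ne_zero_of_finite) h2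
  rw [← hcard]
  apply dvd_card_sub_one_of_orbits (Γ := L) (1 : ↥(N.map (QuotientGroup.mk' H₁)))
  · intro x
    apply Subtype.ext
    show QuotientGroup.mk' H₁ x * ((1 : ↥(N.map (QuotientGroup.mk' H₁))) : L ⧸ H₁)
      * (QuotientGroup.mk' H₁ x)⁻¹ = ((1 : ↥(N.map (QuotientGroup.mk' H₁))) : L ⧸ H₁)
    rw [Subgroup.coe_one, mul_one, mul_inv_cancel]
  · intro q hq
    rw [Nat.card_coe_set_eq, ← MulAction.index_stabilizer]
    apply Subgroup.index_dvd_of_le
    intro x hx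
    rw [MulAction.mem_stabilizer_iff] at hx
    obtain ⟨k, hkN, hkq⟩ := Subgroup.mem_map.1 q.2
    have hkH : k ∉ H₁ := by
      intro h
      apply hq
      apply Subtype.ext
      rw [← hkq, Subgroup.coe_one]
      exact (QuotientGroup.eq_one_iff k).2 h
    apply hfrob k (hNK hkN) hkH x
    rw [← QuotientGroup.eq_one_iff]
    have h1 : QuotientGroup.mk' H₁ x * (q : L ⧸ H₁) * (QuotientGroup.mk' H₁ x)⁻¹ = q :=
      congrArg Subtype.val hx
    rw [← hkq] at h1
    show QuotientGroup.mk' H₁ (x * k * x⁻¹ * k⁻¹) = 1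
    rw [map_mul, map_mul, map_mul, map_inv, map_inv, h1, mul_inv_cancel]

/-- a finite nilpotent group whose abelianisation has exponent `p` is a `p`-group -/
theorem card_eq_pow_of_pow_mem_commutator {G : Type*} [Group G] [Finite G] [Group.IsNilpotent G]
    (p : ℕ) [hp : Fact p.Prime] (h : ∀ g : G, g ^ p ∈ commutator G) :
    ∃ m : ℕ, Nat.card G = p ^ m := by
  classical
  obtain ⟨P⟩ : Nonempty (Sylow p G) := inferInstance
  haveI hPn : (P : Subgroup G).Normal := inferInstance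
  have hidx : (P : Subgroup G).index = 1 := by
    by_contra hne
    haveI : Nontrivial (G ⧸ (P : Subgroup G)) := by
      rw [← Finite.one_lt_card_iff_nontrivial, ← Subgroup.index_eq_card]
      have h0 : (P : Subgroup G).index ≠ 0 := Subgroup.index_ne_zero_of_finite
      omega
    have hlt := Group.IsSolvable.commutator_lt_top_of_nontrivial (G := G ⧸ (P : Subgroup G))
    obtain ⟨r, hr⟩ : ∃ r : G ⧸ (P : Subgroup G), r ∉ commutator (G ⧸ (P : Subgroup G)) := by
      by_contra hcon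
      push Not at hcon
      exact (ne_of_lt hlt) (eq_top_iff.2 fun y _ => hcon y)
    obtain ⟨g, rfl⟩ := QuotientGroup.mk_surjective r
    have hrp : (QuotientGroup.mk' (P : Subgroup G) g) ^ p
        ∈ commutator (G ⧸ (P : Subgroup G)) := by
      rw [← map_pow]
      have h1 : (commutator G).map (QuotientGroup.mk' (P : Subgroup G))
          ≤ commutator (G ⧸ (P : Subgroup G)) := by
        rw [_root_.commutator_def G, _root_.commutator_def (G ⧸ (P : Subgroup G)),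
          Subgroup.map_commutator]
        exact Subgroup.commutator_mono le_top le_top
      exact h1 (Subgroup.mem_map_of_mem _ (h g))
    have ha1 : (QuotientGroup.mk (QuotientGroup.mk' (P : Subgroup G) g) :
        (G ⧸ (P : Subgroup G)) ⧸ commutator (G ⧸ (P : Subgroup G))) ≠ 1 := by
      intro h1
      exact hr ((QuotientGroup.eq_one_iff _).1 h1)
    have hap : (QuotientGroup.mk (QuotientGroup.mk' (P : Subgroup G) g) :
        (G ⧸ (P : Subgroup G)) ⧸ commutator (G ⧸ (P : Subgroup G))) ^ p = 1 := by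
      rw [← QuotientGroup.mk_pow]
      exact (QuotientGroup.eq_one_iff _).2 hrp
    have hord := orderOf_eq_prime hap ha1
    have hdvd1 : p ∣ Nat.card ((G ⧸ (P : Subgroup G)) ⧸ commutator (G ⧸ (P : Subgroup G))) := by
      have h5 := orderOf_dvd_natCard (QuotientGroup.mk (QuotientGroup.mk' (P : Subgroup G) g) :
        (G ⧸ (P : Subgroup G)) ⧸ commutator (G ⧸ (P : Subgroup G)))
      rwa [hord] at h5
    have hdvd2 : Nat.card ((G ⧸ (P : Subgroup G)) ⧸ commutator (G ⧸ (P : Subgroup G)))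
        ∣ Nat.card (G ⧸ (P : Subgroup G)) := by
      rw [← Subgroup.index_eq_card]
      exact Subgroup.index_dvd_card _
    have hdvd3 : p ∣ (P : Subgroup G).index := by
      rw [Subgroup.index_eq_card]
      exact hdvd1.trans hdvd2
    exact P.not_dvd_index hdvd3
  refine ⟨(Nat.card G).factorization p, ?_⟩
  rw [← P.card_eq_multiplicity, ← (P : Subgroup G).card_mul_index, hidx, mul_one]

/-- a finite nilpotent group whose commutator subgroup has prime index is abelian -/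
theorem commutator_eq_bot_of_index_prime {G : Type*} [Group G] [Finite G]
    [hnil : Group.IsNilpotent G] {p : ℕ} (hp : p.Prime) (h : (commutator G).index = p) :
    commutator G = ⊥ := by
  classical
  have hne : commutator G ≠ ⊤ := by
    intro ht
    rw [ht, Subgroup.index_top] at h
    exact hp.one_lt.ne h
  obtain ⟨x, hx⟩ : ∃ x, x ∉ commutator G := by
    by_contra hcon
    push Not at hcon
    exact hne (eq_top_iff.2 fun y _ => hcon y)
  have hsup : Subgroup.zpowers x ⊔ commutator G = ⊤ := by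
    have h1 : (Subgroup.zpowers x ⊔ commutator G).index ∣ p := by
      rw [← h]
      exact Subgroup.index_dvd_of_le le_sup_right
    rcases (Nat.dvd_prime hp).1 h1 with h2 | h2
    · exact Subgroup.index_eq_one.1 h2
    · exfalso
      have h3 := Subgroup.relIndex_mul_index
        (le_sup_right : commutator G ≤ Subgroup.zpowers x ⊔ commutator G)
      rw [h2, h] at h3
      have h4 : (commutator G).relIndex (Subgroup.zpowers x ⊔ commutator G) = 1 :=
        Nat.eq_of_mul_eq_mul_right hp.pos (h3.trans (one_mul p).symm)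
      have h5 := Subgroup.relIndex_eq_one.1 h4
      exact hx (h5 ((le_sup_left : Subgroup.zpowers x ≤ Subgroup.zpowers x ⊔ commutator G)
        (Subgroup.mem_zpowers x)))
  have hZ : Subgroup.zpowers x = ⊤ := by
    by_contra hZne
    obtain ⟨Mx, hMx, hZM⟩ :=
      (eq_top_or_exists_le_coatom (Subgroup.zpowers x)).resolve_left hZne
    haveI hMn : Mx.Normal :=
      Subgroup.NormalizerCondition.normal_of_coatom Mx Group.normalizerCondition_of_isNilpotent hMx
    haveI : Nontrivial (G ⧸ Mx) := by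
      rw [← Finite.one_lt_card_iff_nontrivial, ← Subgroup.index_eq_card]
      have h0 : Mx.index ≠ 0 := Subgroup.index_ne_zero_of_finite
      have h1 : Mx.index ≠ 1 := fun e => hMx.1 (Subgroup.index_eq_one.1 e)
      omega
    have hlt := Group.IsSolvable.commutator_lt_top_of_nontrivial (G := G ⧸ Mx)
    have hMC : Mx ≤ (commutator (G ⧸ Mx)).comap (QuotientGroup.mk' Mx) := by
      intro y hy
      rw [Subgroup.mem_comap]
      have h1 : QuotientGroup.mk' Mx y = 1 := (QuotientGroup.eq_one_iff y).2 hy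
      rw [h1]
      exact Subgroup.one_mem _
    have hCtop : (commutator (G ⧸ Mx)).comap (QuotientGroup.mk' Mx) ≠ ⊤ := by
      intro hC
      apply ne_of_lt hlt
      rw [eq_top_iff]
      intro r _
      obtain ⟨g, rfl⟩ := QuotientGroup.mk'_surjective Mx r
      have h1 : g ∈ (commutator (G ⧸ Mx)).comap (QuotientGroup.mk' Mx) := by
        rw [hC]; exact Subgroup.mem_top g
      exact h1
    have hCM : (commutator (G ⧸ Mx)).comap (QuotientGroup.mk' Mx) = Mx := by
      by_contra hne'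
      exact hCtop (hMx.2 _ (lt_of_le_of_ne hMC (Ne.symm hne')))
    have hG'C : commutator G ≤ (commutator (G ⧸ Mx)).comap (QuotientGroup.mk' Mx) := by
      rw [_root_.commutator_def G, Subgroup.commutator_le]
      intro a _ b _
      rw [Subgroup.mem_comap, map_commutatorElement, _root_.commutator_def (G ⧸ Mx)]
      exact Subgroup.commutator_mem_commutator (Subgroup.mem_top _) (Subgroup.mem_top _)
    have h6 : (⊤ : Subgroup G) ≤ Mx := by
      rw [← hsup]
      exact sup_le hZM (hG'C.trans hCM.le)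
    exact hMx.1 (eq_top_iff.2 h6)
  rw [eq_bot_iff, _root_.commutator_def G, Subgroup.commutator_le]
  intro a _ b _
  rw [Subgroup.mem_bot, commutatorElement_eq_one_iff_commute]
  have ha : a ∈ Subgroup.zpowers x := by rw [hZ]; exact Subgroup.mem_top a
  have hb : b ∈ Subgroup.zpowers x := by rw [hZ]; exact Subgroup.mem_top b
  obtain ⟨m, rfl⟩ := Subgroup.mem_zpowers_iff.1 ha
  obtain ⟨n, rfl⟩ := Subgroup.mem_zpowers_iff.1 hb
  exact (Commute.refl x).zpow_zpow m n

theorem commutator_le_self' {L : Type*} [Group L] (K : Subgroup L) : ⁅K, K⁆ ≤ K :=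
  Subgroup.commutator_le.2 (fun a ha b hb =>
    K.mul_mem (K.mul_mem (K.mul_mem ha hb) (K.inv_mem ha)) (K.inv_mem hb))

theorem comap_commutator_quot {L : Type*} [Group L] (K M : Subgroup L) (hMK : M ≤ K)
    [(M.subgroupOf K).Normal] :
    (commutator (↥K ⧸ M.subgroupOf K)).comap (QuotientGroup.mk' (M.subgroupOf K))
      = (⁅K, K⁆ ⊔ M).subgroupOf K := by
  have h1 : commutator (↥K ⧸ M.subgroupOf K)
      = (commutator ↥K).map (QuotientGroup.mk' (M.subgroupOf K)) := by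
    rw [_root_.commutator_def (↥K ⧸ M.subgroupOf K), _root_.commutator_def ↥K,
      Subgroup.map_commutator,
      Subgroup.map_top_of_surjective _ (QuotientGroup.mk'_surjective _)]
  rw [h1, Subgroup.comap_map_eq, QuotientGroup.ker_mk']
  apply Subgroup.map_injective (Subgroup.subtype_injective K)
  have hle : ⁅K, K⁆ ⊔ M ≤ K := sup_le (commutator_le_self' K) hMK
  rw [Subgroup.map_sup, _root_.commutator_def ↥K, Subgroup.map_commutator,
    ← MonoidHom.range_eq_map, Subgroup.range_subtype, Subgroup.subgroupOf_map_subtype,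
    Subgroup.subgroupOf_map_subtype, inf_eq_left.2 hMK, inf_eq_left.2 hle]

/-- `{k ∈ K | k ^ p ∈ H₁}` as a subgroup, when `K / H₁` is abelian -/
def powSub {L : Type*} [Group L] (K H₁ : Subgroup L) [H₁.Normal] (hKK : ⁅K, K⁆ ≤ H₁) (p : ℕ) :
    Subgroup L where
  carrier := {k | k ∈ K ∧ k ^ p ∈ H₁}
  one_mem' := ⟨K.one_mem, by rw [one_pow]; exact H₁.one_mem⟩
  mul_mem' := by
    rintro a b ⟨ha, hap⟩ ⟨hb, hbp⟩
    refine ⟨K.mul_mem ha hb, ?_⟩
    rw [← QuotientGroup.eq_one_iff (N := H₁)]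
    have hcomm : Commute (QuotientGroup.mk' H₁ a) (QuotientGroup.mk' H₁ b) := by
      rw [← commutatorElement_eq_one_iff_commute, ← map_commutatorElement]
      exact (QuotientGroup.eq_one_iff _).2 (hKK (Subgroup.commutator_mem_commutator ha hb))
    show QuotientGroup.mk' H₁ ((a * b) ^ p) = 1
    rw [map_pow, map_mul, hcomm.mul_pow, ← map_pow, ← map_pow]
    rw [show QuotientGroup.mk' H₁ (a ^ p) = 1 from (QuotientGroup.eq_one_iff _).2 hap,
      show QuotientGroup.mk' H₁ (b ^ p) = 1 from (QuotientGroup.eq_one_iff _).2 hbp, one_mul]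
  inv_mem' := by
    rintro a ⟨ha, hap⟩
    exact ⟨K.inv_mem ha, by rw [inv_pow]; exact H₁.inv_mem hap⟩

theorem mem_powSub {L : Type*} [Group L] (K H₁ : Subgroup L) [H₁.Normal] (hKK : ⁅K, K⁆ ≤ H₁)
    (p : ℕ) (x : L) : x ∈ powSub K H₁ hKK p ↔ x ∈ K ∧ x ^ p ∈ H₁ := Iff.rfl

theorem powSub_normal {L : Type*} [Group L] (K H₁ : Subgroup L) [hKn : K.Normal]
    [hHn : H₁.Normal] (hKK : ⁅K, K⁆ ≤ H₁) (p : ℕ) : (powSub K H₁ hKK p).Normal := by
  constructor
  intro k hk x
  rw [mem_powSub] at hk ⊢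
  refine ⟨hKn.conj_mem k hk.1 x, ?_⟩
  rw [conj_pow]
  exact hHn.conj_mem _ hk.2 x

theorem exists_pow_of_no_between {L : Type*} [Group L] [Finite L] (K M : Subgroup L)
    [hKn : K.Normal] [hMn : M.Normal] (hMK : M ≤ K) [(M.subgroupOf K).Normal]
    (hnil : Group.IsNilpotent (↥K ⧸ M.subgroupOf K)) (hH₁K : ⁅K, K⁆ ⊔ M < K)
    (hno : ¬ ∃ N : Subgroup L, N.Normal ∧ ⁅K, K⁆ ⊔ M < N ∧ N < K) :
    ∃ p m : ℕ, p.Prime ∧ M.relIndex K = p ^ m := by
  classical
  haveI hH₁n : (⁅K, K⁆ ⊔ M).Normal := inferInstance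
  have hrel : (⁅K, K⁆ ⊔ M).relIndex K ≠ 1 :=
    fun e => (not_le_of_gt hH₁K) (Subgroup.relIndex_eq_one.1 e)
  obtain ⟨p, hp, hpd⟩ := Nat.exists_prime_and_dvd hrel
  haveI : Fact p.Prime := ⟨hp⟩
  haveI hNn : (powSub K (⁅K, K⁆ ⊔ M) le_sup_left p).Normal :=
    powSub_normal K (⁅K, K⁆ ⊔ M) le_sup_left p
  have hH₁N : ⁅K, K⁆ ⊔ M ≤ powSub K (⁅K, K⁆ ⊔ M) le_sup_left p :=
    fun h hh => (mem_powSub _ _ _ _ _).2 ⟨hH₁K.le hh, Subgroup.pow_mem _ hh p⟩
  have hNK : powSub K (⁅K, K⁆ ⊔ M) le_sup_left p ≤ K :=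
    fun k hk => ((mem_powSub _ _ _ _ _).1 hk).1
  have hpd' : p ∣ Nat.card (↥K ⧸ (⁅K, K⁆ ⊔ M).subgroupOf K) := by
    rw [← Subgroup.index_eq_card]; exact hpd
  obtain ⟨q, hq⟩ := exists_prime_orderOf_dvd_card' p hpd'
  obtain ⟨k, rfl⟩ := QuotientGroup.mk_surjective q
  have hk1 : (k : L) ∉ ⁅K, K⁆ ⊔ M := by
    intro hk
    have h1 : (QuotientGroup.mk k : ↥K ⧸ (⁅K, K⁆ ⊔ M).subgroupOf K) = 1 :=
      (QuotientGroup.eq_one_iff k).2 (Subgroup.mem_subgroupOf.2 hk)
    rw [h1, orderOf_one] at hq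
    exact hp.one_lt.ne hq
  have hk2 : (k : L) ∈ powSub K (⁅K, K⁆ ⊔ M) le_sup_left p := by
    rw [mem_powSub]
    refine ⟨k.2, ?_⟩
    have h1 : (QuotientGroup.mk k : ↥K ⧸ (⁅K, K⁆ ⊔ M).subgroupOf K) ^ p = 1 := by
      rw [← hq]; exact pow_orderOf_eq_one _
    rw [← QuotientGroup.mk_pow, QuotientGroup.eq_one_iff, Subgroup.mem_subgroupOf] at h1
    simpa using h1
  have hlt : ⁅K, K⁆ ⊔ M < powSub K (⁅K, K⁆ ⊔ M) le_sup_left p :=
    lt_of_le_of_ne hH₁N (fun e => hk1 (by rw [e]; exact hk2))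
  have hNeq : powSub K (⁅K, K⁆ ⊔ M) le_sup_left p = K := by
    by_contra hne
    exact hno ⟨_, hNn, hlt, lt_of_le_of_ne hNK hne⟩
  have hpow : ∀ k ∈ K, k ^ p ∈ ⁅K, K⁆ ⊔ M := by
    intro k hk
    have h1 : k ∈ powSub K (⁅K, K⁆ ⊔ M) le_sup_left p := by rw [hNeq]; exact hk
    exact ((mem_powSub _ _ _ _ _).1 h1).2
  have hcomap := comap_commutator_quot K M hMK
  have hG : ∀ g : ↥K ⧸ M.subgroupOf K, g ^ p ∈ commutator (↥K ⧸ M.subgroupOf K) := by
    intro g
    obtain ⟨k, rfl⟩ := QuotientGroup.mk_surjective g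
    have h1 : k ^ p ∈ (⁅K, K⁆ ⊔ M).subgroupOf K := by
      rw [Subgroup.mem_subgroupOf]
      simpa using hpow k k.2
    rw [← hcomap, Subgroup.mem_comap] at h1
    simpa using h1
  haveI := hnil
  obtain ⟨m, hm⟩ := card_eq_pow_of_pow_mem_commutator p hG
  refine ⟨p, m, hp, ?_⟩
  rw [← hm]
  exact Subgroup.index_eq_card _

theorem commutator_le_of_relIndex_prime {L : Type*} [Group L] [Finite L] (K M : Subgroup L)
    (hMK : M ≤ K) [(M.subgroupOf K).Normal]
    (hnil : Group.IsNilpotent (↥K ⧸ M.subgroupOf K)) {p : ℕ} (hp : p.Prime)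
    (hr : (⁅K, K⁆ ⊔ M).relIndex K = p) : ⁅K, K⁆ ≤ M := by
  haveI := hnil
  have hcomap := comap_commutator_quot K M hMK
  have hidx : (commutator (↥K ⧸ M.subgroupOf K)).index = p := by
    rw [← Subgroup.index_comap_of_surjective _
      (QuotientGroup.mk'_surjective (M.subgroupOf K)), hcomap]
    exact hr
  have hbot := commutator_eq_bot_of_index_prime hp hidx
  rw [hbot, MonoidHom.comap_bot, QuotientGroup.ker_mk'] at hcomap
  intro x hx
  have hxK : x ∈ K := commutator_le_self' K hx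
  have h1 : (⟨x, hxK⟩ : K) ∈ (⁅K, K⁆ ⊔ M).subgroupOf K :=
    Subgroup.mem_subgroupOf.2 ((le_sup_left : ⁅K, K⁆ ≤ ⁅K, K⁆ ⊔ M) hx)
  rw [← hcomap] at h1
  exact Subgroup.mem_subgroupOf.1 h1

theorem ge_of_dvd_sub_one (l b : ℕ) (hl : Odd l) (hb : Odd b) (hb1 : 1 < b) (h : l ∣ b - 1) :
    2 * l + 1 ≤ b := by
  obtain ⟨c, hc⟩ := h
  have hc0 : c ≠ 0 := by
    rintro rfl
    omega
  have hce : Even c := by
    have h1 : Even (b - 1) := Nat.Odd.sub_odd hb odd_one
    rw [hc, Nat.even_mul] at h1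
    rcases h1 with h1 | h1
    · exact absurd h1 (Nat.not_even_iff_odd.2 hl)
    · exact h1
  obtain ⟨e, he⟩ := hce
  have h2 : l * 2 ≤ l * c := Nat.mul_le_mul_left _ (by omega)
  omega

theorem one_lt_relIndex {L : Type*} [Group L] [Finite L] {X Y : Subgroup L} (h : X < Y) :
    1 < X.relIndex Y := by
  have h0 : X.relIndex Y ≠ 0 := Subgroup.index_ne_zero_of_finite (H := X.subgroupOf Y)
  have h1 : X.relIndex Y ≠ 1 := fun e => (not_le_of_gt h) (Subgroup.relIndex_eq_one.1 e)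
  omega

theorem odd_relIndex {L : Type*} [Group L] [Finite L] (hodd : Odd (Nat.card L))
    (X Y : Subgroup L) : Odd (X.relIndex Y) := by
  have h1 : X.relIndex Y ∣ Nat.card Y := Subgroup.index_dvd_card (X.subgroupOf Y)
  have h2 : Nat.card Y ∣ Nat.card L := Subgroup.card_subgroup_dvd_card Y
  exact Odd.of_dvd_nat hodd (h1.trans h2)

end grp

section chars
variable {L : Type*} [Group L] [Fintype L] {G : Type*} [Group G] [Fintype G]

theorem cs_sub {S S' : Set (L → ℂ)} {τ : (L → ℂ) → (G → ℂ)} {R : (L → ℂ) → Finset (G → ℂ)}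
    (hS : IsCoherenceSystem S τ R) (hsub : S' ⊆ S) (hne : S'.Nonempty)
    (hconj : ∀ χ ∈ S', Cfsg.conjFun χ ∈ S') : IsCoherenceSystem S' τ R := by
  have hz : zspanOn S' {1}ᶜ ⊆ zspanOn S {1}ᶜ := fun f hf => ⟨zs_mono hsub hf.1, hf.2⟩
  obtain ⟨h1, h2, h3, h4⟩ := hS.isometry
  exact
    { nonempty := hne
      isCharacter := fun χ h => hS.isCharacter χ (hsub h)
      conj_mem := hconj
      conj_ne := fun χ h => hS.conj_ne χ (hsub h)
      isometry := ⟨fun α hα β hβ => h1 α (hz hα) β (hz hβ), fun α hα n => h2 α (hz hα) n,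
        fun α hα β hβ => h3 α (hz hα) β (hz hβ), fun α hα => h4 α (hz hα)⟩
      map_one := fun α hα => hS.map_one α (hz hα)
      orthogonal := fun χ hχ φ hφ hne => hS.orthogonal χ (hsub hχ) φ (hsub hφ) hne
      orthonormal := fun χ hχ => hS.orthonormal χ (hsub hχ)
      virtual := fun χ hχ => hS.virtual χ (hsub hχ)
      sum_eq := fun χ hχ => hS.sum_eq χ (hsub hχ)
      disjoint := fun χ hχ φ hφ => hS.disjoint χ (hsub hχ) φ (hsub hφ) }

theorem apply_one_of_commutator_le {K' : Type*} [Group K'] [Fintype K'] (N : Subgroup K')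
    [N.Normal] (hN : commutator K' ≤ N) {θ : K' → ℂ} (hθ : IsIrrCharacter K' θ)
    (hker : ∀ x ∈ N, θ x = θ 1) : θ 1 = 1 := by
  obtain ⟨β, hβ, rfl⟩ := Cfsg.Agent.Lib.Helper3.CharQuot.exists_irr_quot N hθ hker
  have hcomm : ∀ a b : K' ⧸ N, a * b = b * a := by
    intro a b
    obtain ⟨x, rfl⟩ := QuotientGroup.mk_surjective a
    obtain ⟨y, rfl⟩ := QuotientGroup.mk_surjective b
    rw [← QuotientGroup.mk_mul, ← QuotientGroup.mk_mul, QuotientGroup.eq]
    apply hN
    have h1 : (x * y)⁻¹ * (y * x) = ⁅y⁻¹, x⁻¹⁆ := by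
      rw [commutatorElement_def]; group
    rw [h1, _root_.commutator_def K']
    exact Subgroup.commutator_mem_commutator (Subgroup.mem_top _) (Subgroup.mem_top _)
  have h2 := (Cfsg.Agent.S0187.result (G := K' ⧸ N)).1 hcomm ⟨β, hβ⟩
  show β (QuotientGroup.mk 1) = 1
  rw [QuotientGroup.mk_one]
  exact h2

theorem s1521 (K : Subgroup L) [hK : K.Normal] (hsolv : Group.IsSolvable K) (τ : (L → ℂ) → (G → ℂ)) (R : (L → ℂ) → Finset (G → ℂ)) (hS : Cfsg.IsCoherenceSystem (Cfsg.inducedIrrAbove K ⊥) τ R) (hodd : Odd (Nat.card L)) (M : Subgroup L) [M.Normal] (hMK : M ≤ K) [(M.subgroupOf K).Normal] (hnil : Group.IsNilpotent (↥K ⧸ M.subgroupOf K)) (H₁ : Subgroup L) (hH₁ : H₁ = ⁅K, K⁆ ⊔ M) (hH₁K : H₁ < K) (hfrob : ∀ k ∈ K, k ∉ H₁ → ∀ x : L, x * k * x⁻¹ * k⁻¹ ∈ H₁ → x ∈ K) (hgood : (∃ N : Subgroup L, N.Normal ∧ H₁ < N ∧ N < K) ∨ 4 * K.index ^ 2 + 1 < H₁.relIndex K ∨ (¬ ∃ p m : ℕ, p.Prime ∧ M.relIndex K = p ^ m) ∨ ⁅K, K⁆ ≤ M ∨ (∃ p m : ℕ, p.Prime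 ∧ M.relIndex K = p ^ m ∧ K.index ∣ p - 1)) : Cfsg.IsCoherent (Cfsg.inducedIrrAbove K M) {1}ᶜ τ := by
  classical
  subst hH₁
  haveI : Fintype K := Fintype.ofFinite K
  haveI hH₁n : (⁅K, K⁆ ⊔ M).Normal := inferInstance
  have hMH₁ : M ≤ ⁅K, K⁆ ⊔ M := le_sup_right
  have hcoh1 : IsCoherent (inducedIrrAbove K (⁅K, K⁆ ⊔ M)) {1}ᶜ τ := by
    obtain ⟨χ, hχ, _⟩ := exists_linear_iia K (⁅K, K⁆ ⊔ M) hsolv hH₁K
    have hsys : IsCoherenceSystem (inducedIrrAbove K (⁅K, K⁆ ⊔ M)) τ R :=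
      cs_sub hS (iia_mono K bot_le) ⟨χ, hχ⟩ (fun φ hφ => iia_conj K _ hφ)
    have hdeg : ∀ φ ∈ inducedIrrAbove K (⁅K, K⁆ ⊔ M), φ 1 = (K.index : ℂ) := by
      rintro φ ⟨θ, hθ, hne, hker, rfl⟩
      have hcle : commutator ↥K ≤ (⁅K, K⁆ ⊔ M).subgroupOf K := by
        rw [_root_.commutator_def ↥K, Subgroup.commutator_le]
        intro a _ b _
        rw [Subgroup.mem_subgroupOf]
        exact (le_sup_left : ⁅K, K⁆ ≤ ⁅K, K⁆ ⊔ M)
          (Subgroup.commutator_mem_commutator a.2 b.2)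
      rw [indFun_one, apply_one_of_commutator_le ((⁅K, K⁆ ⊔ M).subgroupOf K) hcle hθ
        (fun x hx => hker x hx), mul_one]
    exact s1517 _ τ R hsys (fun φ hφ ψ hψ => by rw [hdeg φ hφ, hdeg ψ hψ])
  have hb_suff : 4 * K.index ^ 2 + 1 < (⁅K, K⁆ ⊔ M).relIndex K →
      IsCoherent (inducedIrrAbove K M) {1}ᶜ τ :=
    fun hb => s1520 K hsolv τ R hS M (⁅K, K⁆ ⊔ M) K hMH₁ hH₁K.le le_rfl hnil hcoh1 hb
  have hd_suff : ⁅K, K⁆ ≤ M → IsCoherent (inducedIrrAbove K M) {1}ᶜ τ := by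
    intro hd
    have h1 : ⁅K, K⁆ ⊔ M = M := sup_eq_right.2 hd
    rw [h1] at hcoh1
    exact hcoh1
  have hlodd : Odd K.index := Odd.of_dvd_nat hodd (Subgroup.index_dvd_card K)
  have ha_suff : (∃ N : Subgroup L, N.Normal ∧ ⁅K, K⁆ ⊔ M < N ∧ N < K) →
      4 * K.index ^ 2 + 1 < (⁅K, K⁆ ⊔ M).relIndex K := by
    rintro ⟨N, hNn, hH₁N, hNK⟩
    haveI := hNn
    have c1 : K.index ∣ (⁅K, K⁆ ⊔ M).relIndex N - 1 :=
      frob_cong K _ N hH₁N.le hNK.le hfrob
    have c2 : K.index ∣ (⁅K, K⁆ ⊔ M).relIndex K - 1 :=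
      frob_cong K _ K hH₁K.le le_rfl hfrob
    have e := Subgroup.relIndex_mul_relIndex (⁅K, K⁆ ⊔ M) N K hH₁N.le hNK.le
    have ha1 := one_lt_relIndex hH₁N
    have hb1 := one_lt_relIndex hNK
    have hab1 := one_lt_relIndex hH₁K
    have m1 : 1 ≡ (⁅K, K⁆ ⊔ M).relIndex N [MOD K.index] := (Nat.modEq_iff_dvd' ha1.le).2 c1
    have m2 : 1 ≡ (⁅K, K⁆ ⊔ M).relIndex K [MOD K.index] := (Nat.modEq_iff_dvd' hab1.le).2 c2
    have m3 : 1 ≡ N.relIndex K [MOD K.index] := by
      have h1 := m1.mul_right (N.relIndex K)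
      rw [one_mul, e] at h1
      exact m2.trans h1.symm
    have c3 : K.index ∣ N.relIndex K - 1 := (Nat.modEq_iff_dvd' hb1.le).1 m3
    have ga := ge_of_dvd_sub_one _ _ hlodd (odd_relIndex hodd _ _) ha1 c1
    have gb := ge_of_dvd_sub_one _ _ hlodd (odd_relIndex hodd _ _) hb1 c3
    rw [← e]
    have hlpos : 0 < K.index := hlodd.pos
    nlinarith [Nat.mul_le_mul ga gb]
  rcases hgood with ha | hb | hc | hd | he
  · exact hb_suff (ha_suff ha)
  · exact hb_suff hb
  · by_cases ha : ∃ N : Subgroup L, N.Normal ∧ ⁅K, K⁆ ⊔ M < N ∧ N < K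
    · exact hb_suff (ha_suff ha)
    · exact absurd (exists_pow_of_no_between K M hMK hnil hH₁K ha) hc
  · exact hd_suff hd
  · obtain ⟨p, m, hp, hpm, hdiv⟩ := he
    by_cases hb : 4 * K.index ^ 2 + 1 < (⁅K, K⁆ ⊔ M).relIndex K
    · exact hb_suff hb
    · apply hd_suff
      have hrdvd : (⁅K, K⁆ ⊔ M).relIndex K ∣ p ^ m := by
        rw [← hpm]
        exact Subgroup.relIndex_dvd_of_le_left K hMH₁
      obtain ⟨a, _, hra⟩ := (Nat.dvd_prime_pow hp).1 hrdvd
      have hr1 := one_lt_relIndex hH₁K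
      have ha0 : a ≠ 0 := by
        rintro rfl
        rw [pow_zero] at hra
        omega
      have hpodd : Odd p := by
        have h1 : p ∣ (⁅K, K⁆ ⊔ M).relIndex K := by
          rw [hra]; exact dvd_pow_self p ha0
        exact Odd.of_dvd_nat (odd_relIndex hodd _ _) h1
      have gp := ge_of_dvd_sub_one _ _ hlodd hpodd hp.one_lt hdiv
      have ha2 : a < 2 := by
        by_contra h2
        have h3 : p ^ 2 ≤ p ^ a := Nat.pow_le_pow_right hp.pos (not_lt.1 h2)
        have h4 : (2 * K.index + 1) ^ 2 ≤ p ^ 2 := Nat.pow_le_pow_left gp 2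
        rw [← hra] at h3
        have hlpos : 0 < K.index := hlodd.pos
        nlinarith [h3, h4, not_lt.1 hb, hlpos]
      have ha1 : a = 1 := by omega
      rw [ha1, pow_one] at hra
      exact commutator_le_of_relIndex_prime K M hMK hnil hp hra

end chars

end Cfsg.Agent.Lib.Lead.Coh
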