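import Mathlib
import Cfsg.Agent.S4445
import Cfsg.Agent.S0146
import Cfsg.Agent.Lib.Helper6.CliffordStab
import Cfsg.Agent.Lib.Helper6.Taketa
import Cfsg.Agent.Lib.Lead.Coh12

set_option autoImplicit false
open Cfsg

namespace Cfsg.Agent.Lib.Lead.Frob

open Cfsg.Agent.Lib.Helper6

section grp

/-- if `y` has no nontrivial fixed points on the finite group `N` it normalises, every element of the
coset `N y` is an `N`-conjugate of `y` -/
theorem exists_conj_of_fpf {M : Type*} [Group M] (N : Subgroup M) [Finite N] (y : M)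
    (hy : ∀ n ∈ N, y * n * y⁻¹ ∈ N)
    (hfix : ∀ n ∈ N, y * n = n * y → n = 1) (h : M) (hh : h ∈ N) :
    ∃ k ∈ N, h * y = k⁻¹ * y * k := by
  let f : N → N := fun k => ⟨(k : M)⁻¹ * (y * k * y⁻¹), N.mul_mem (N.inv_mem k.2) (hy k k.2)⟩
  have hinj : Function.Injective f := by
    intro k k' hkk
    have h1 : (k : M)⁻¹ * (y * k * y⁻¹) = (k' : M)⁻¹ * (y * k' * y⁻¹) := congrArg Subtype.val hkk
    have h3 : (k : M)⁻¹ * y * k = (k' : M)⁻¹ * y * k' := by
      calc (k : M)⁻¹ * y * k = ((k : M)⁻¹ * (y * k * y⁻¹)) * y := by group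
        _ = ((k' : M)⁻¹ * (y * k' * y⁻¹)) * y := by rw [h1]
        _ = (k' : M)⁻¹ * y * k' := by group
    have h2 : y * ((k' : M) * (k : M)⁻¹) = ((k' : M) * (k : M)⁻¹) * y := by
      calc y * ((k' : M) * (k : M)⁻¹) = (k' : M) * ((k' : M)⁻¹ * y * k') * (k : M)⁻¹ := by group
        _ = (k' : M) * ((k : M)⁻¹ * y * k) * (k : M)⁻¹ := by rw [h3]
        _ = ((k' : M) * (k : M)⁻¹) * y := by group
    have h4 := hfix _ (N.mul_mem k'.2 (N.inv_mem k.2)) h2
    have h5 : (k' : M) = k := by rwa [mul_inv_eq_one] at h4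
    exact Subtype.ext h5.symm
  have hsurj := Finite.surjective_of_injective hinj
  obtain ⟨k, hk⟩ := hsurj ⟨h, hh⟩
  refine ⟨k, k.2, ?_⟩
  have h1 : (k : M)⁻¹ * (y * k * y⁻¹) = h := congrArg Subtype.val hk
  rw [← h1]; group

theorem mem_of_coprime_orderOf_index {M : Type*} [Group M] [Finite M] (N : Subgroup M) [N.Normal]
    (x : M) (hcop : Nat.Coprime (orderOf x) N.index) : x ∈ N := by
  have h1 : orderOf (QuotientGroup.mk' N x) ∣ orderOf x := orderOf_map_dvd _ x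
  have h2 : orderOf (QuotientGroup.mk' N x) ∣ N.index := by
    rw [Subgroup.index_eq_card]; exact orderOf_dvd_natCard _
  have h3 := Nat.dvd_gcd h1 h2
  rw [Nat.Coprime.gcd_eq_one hcop] at h3
  have h4 : QuotientGroup.mk' N x = 1 := orderOf_eq_one_iff.1 (Nat.dvd_one.1 h3)
  exact (QuotientGroup.eq_one_iff x).1 h4

/-- the stabiliser of a function on a normal subgroup -/
def stabFun {M : Type*} [Group M] (H : Subgroup M) (hN : H.Normal) (θ : H → ℂ) : Subgroup M where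
  carrier := {s | Cfsg.Agent.Lib.Helper6.conjFun H hN θ s = θ}
  one_mem' := conjFun_one H hN θ
  mul_mem' := by
    intro a b ha hb
    have ha' : Cfsg.Agent.Lib.Helper6.conjFun H hN θ a = θ := ha
    have hb' : Cfsg.Agent.Lib.Helper6.conjFun H hN θ b = θ := hb
    show Cfsg.Agent.Lib.Helper6.conjFun H hN θ (a * b) = θ
    rw [← conjFun_conjFun, ha', hb']
  inv_mem' := by
    intro a ha
    have ha' : Cfsg.Agent.Lib.Helper6.conjFun H hN θ a = θ := ha
    show Cfsg.Agent.Lib.Helper6.conjFun H hN θ a⁻¹ = θ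
    have h1 := conjFun_conjFun H hN θ a a⁻¹
    rw [ha', mul_inv_cancel, conjFun_one] at h1
    exact h1

theorem inv_zpowers {M : Type*} [Group M] (H : Subgroup M) (hN : H.Normal) (θ : H → ℂ) (y : M)
    (hinv : Cfsg.Agent.Lib.Helper6.conjFun H hN θ y = θ) :
    ∀ s ∈ Subgroup.zpowers y, Cfsg.Agent.Lib.Helper6.conjFun H hN θ s = θ := by
  intro s hs
  have h0 : y ∈ stabFun H hN θ := hinv
  have h1 : Subgroup.zpowers y ≤ stabFun H hN θ := Subgroup.zpowers_le.2 h0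
  exact h1 hs

def InvCh {M : Type*} [Group M] (H : Subgroup M) (y : M) (χ : Cfsg.IrrCharacter H) : Prop :=
  ∀ s ∈ Subgroup.zpowers y, ∀ g g' : H, (g' : M) = s * g * s⁻¹ →
    (χ : H → ℂ) g' = (χ : H → ℂ) g

def InvCl {M : Type*} [Group M] (H : Subgroup M) (y : M) (C : ConjClasses H) : Prop :=
  ∀ s ∈ Subgroup.zpowers y, ∀ g g' : H, (g' : M) = s * g * s⁻¹ →
    ConjClasses.mk g = C → ConjClasses.mk g' = C

theorem count_eq {M : Type*} [Group M] [Finite M] (H : Subgroup M) [hN : H.Normal] (y : M)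
    (hcop : Nat.Coprime (Nat.card H) (orderOf y)) :
    Nat.card {χ : Cfsg.IrrCharacter H // InvCh H y χ} = Nat.card {C : ConjClasses H // InvCl H y C} := by
  classical
  haveI : Fintype M := Fintype.ofFinite M
  haveI : Fintype H := Fintype.ofFinite H
  have hsolv : IsSolvable (Subgroup.zpowers y) := by
    apply isSolvable_of_comm
    rintro ⟨a, ha⟩ ⟨b, hb⟩
    obtain ⟨i, rfl⟩ := Subgroup.mem_zpowers_iff.1 ha
    obtain ⟨j, rfl⟩ := Subgroup.mem_zpowers_iff.1 hb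
    apply Subtype.ext
    show y ^ i * y ^ j = y ^ j * y ^ i
    rw [← zpow_add, ← zpow_add, add_comm]
  exact Cfsg.Agent.S4445.result H (Subgroup.zpowers y) (fun s _ g hg => hN.conj_mem g hg s)
    (by rwa [Nat.card_zpowers]) hsolv

theorem inv_char_trivial {M : Type*} [Group M] [Finite M] (H : Subgroup M) [hN : H.Normal] (y : M)
    (hcop : Nat.Coprime (Nat.card H) (orderOf y))
    (hfix : ∀ h ∈ H, y * h = h * y → h = 1)
    (θ : H → ℂ) (hθ : IsIrrCharacter H θ)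
    (hinv : Cfsg.Agent.Lib.Helper6.conjFun H hN θ y = θ) : θ = fun _ => 1 := by
  classical
  have hcount := count_eq H y hcop
  have key : ∀ C : {C : ConjClasses H // InvCl H y C}, (C : ConjClasses H) = ConjClasses.mk 1 := by
    rintro ⟨C, hC⟩
    obtain ⟨g, rfl⟩ := ConjClasses.exists_rep C
    have h1 := hC y (Subgroup.mem_zpowers y) g ⟨y * g * y⁻¹, hN.conj_mem g g.2 y⟩ rfl rfl
    rw [ConjClasses.mk_eq_mk_iff_isConj, isConj_iff] at h1
    obtain ⟨c, hc⟩ := h1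
    have hc' : (c : M) * (y * g * y⁻¹) * (c : M)⁻¹ = g := congrArg Subtype.val hc
    obtain ⟨k, hk, hky⟩ := exists_conj_of_fpf H y (fun n hn => hN.conj_mem n hn y) hfix (c : M) c.2
    have h3 : (k⁻¹ * y * k) * (g : M) = g * (k⁻¹ * y * k) := by
      rw [← hky]
      calc (c : M) * y * g = ((c : M) * (y * g * y⁻¹) * (c : M)⁻¹) * ((c : M) * y) := by group
        _ = g * ((c : M) * y) := by rw [hc']
    have h2 : y * (k * g * k⁻¹) = (k * g * k⁻¹) * y := by
      calc y * (k * g * k⁻¹) = k * ((k⁻¹ * y * k) * g) * k⁻¹ := by group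
        _ = k * (g * (k⁻¹ * y * k)) * k⁻¹ := by rw [h3]
        _ = (k * g * k⁻¹) * y := by group
    have h4 := hfix _ (hN.conj_mem g g.2 k) h2
    have h5 : (g : M) = 1 := by
      have h6 : (g : M) = k⁻¹ * (k * g * k⁻¹) * k := by group
      rw [h6, h4]; group
    have h6 : g = 1 := Subtype.ext h5
    show ConjClasses.mk g = ConjClasses.mk 1
    rw [h6]
  have hsub : Subsingleton {C : ConjClasses H // InvCl H y C} :=
    ⟨fun a b => Subtype.ext ((key a).trans (key b).symm)⟩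
  have hle : Nat.card {χ : Cfsg.IrrCharacter H // InvCh H y χ} ≤ 1 := by
    rw [hcount]; exact Finite.card_le_one_iff_subsingleton.2 hsub
  have hsub2 : Subsingleton {χ : Cfsg.IrrCharacter H // InvCh H y χ} :=
    Finite.card_le_one_iff_subsingleton.1 hle
  have hinvs := inv_zpowers H hN θ y hinv
  have hθI : InvCh H y ⟨θ, hθ⟩ := by
    intro s hs g g' hg'
    have h1 : g' = ⟨s * g * s⁻¹, hN.conj_mem g g.2 s⟩ := Subtype.ext hg'
    rw [h1]
    exact congrFun (hinvs s hs) g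
  have h1I : InvCh H y ⟨fun _ => 1, isIrrCharacter_one⟩ := fun _ _ _ _ _ => rfl
  have e1 : (⟨⟨θ, hθ⟩, hθI⟩ : {χ : Cfsg.IrrCharacter H // InvCh H y χ})
      = ⟨⟨fun _ => 1, isIrrCharacter_one⟩, h1I⟩ := Subsingleton.elim _ _
  exact congrArg (fun t : {χ : Cfsg.IrrCharacter H // InvCh H y χ} => (t.1.1 : H → ℂ)) e1

theorem exists_inv_char {M : Type*} [Group M] [Finite M] (H : Subgroup M) [hN : H.Normal] (y : M)
    (hcop : Nat.Coprime (Nat.card H) (orderOf y))
    (h : M) (hh : h ∈ H) (h1 : h ≠ 1) (hc : y * h = h * y) :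
    ∃ θ : H → ℂ, IsIrrCharacter H θ ∧ θ ≠ (fun _ => 1) ∧
      Cfsg.Agent.Lib.Helper6.conjFun H hN θ y = θ := by
  classical
  have hcount := count_eq H y hcop
  have hcomm : ∀ s ∈ Subgroup.zpowers y, s * h = h * s := by
    intro s hs
    obtain ⟨i, rfl⟩ := Subgroup.mem_zpowers_iff.1 hs
    exact (Commute.zpow_left (show Commute y h from hc) i).eq
  have hC1 : InvCl H y (ConjClasses.mk 1) := by
    intro s hs g g' hg' hg
    rw [ConjClasses.mk_eq_mk_iff_isConj] at hg ⊢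
    have hg1 : g = 1 := isConj_one_left.1 hg
    have h2 : g' = 1 := by
      apply Subtype.ext
      rw [hg', hg1]
      simp
    rw [h2]
  have hCh : InvCl H y (ConjClasses.mk ⟨h, hh⟩) := by
    intro s hs g g' hg' hg
    rw [ConjClasses.mk_eq_mk_iff_isConj, isConj_iff] at hg ⊢
    obtain ⟨c, hcg⟩ := hg
    refine ⟨⟨s * c * s⁻¹, hN.conj_mem c c.2 s⟩, Subtype.ext ?_⟩
    show (s * c * s⁻¹) * (g' : M) * (s * c * s⁻¹)⁻¹ = h
    have hcg' : (c : M) * g * (c : M)⁻¹ = h := congrArg Subtype.val hcg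
    rw [hg']
    calc (s * c * s⁻¹) * (s * g * s⁻¹) * (s * c * s⁻¹)⁻¹
        = s * ((c : M) * g * (c : M)⁻¹) * s⁻¹ := by group
      _ = s * h * s⁻¹ := by rw [hcg']
      _ = h := by rw [hcomm s hs]; group
  have hne : (⟨ConjClasses.mk 1, hC1⟩ : {C : ConjClasses H // InvCl H y C})
      ≠ ⟨ConjClasses.mk ⟨h, hh⟩, hCh⟩ := by
    intro heq
    have h2 : ConjClasses.mk (1 : H) = ConjClasses.mk ⟨h, hh⟩ := congrArg Subtype.val heq
    rw [ConjClasses.mk_eq_mk_iff_isConj] at h2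
    have h3 : (⟨h, hh⟩ : H) = 1 := isConj_one_right.1 h2
    exact h1 (congrArg Subtype.val h3)
  have hnt : Nontrivial {C : ConjClasses H // InvCl H y C} := ⟨⟨_, _, hne⟩⟩
  have h2 : 1 < Nat.card {χ : Cfsg.IrrCharacter H // InvCh H y χ} := by
    rw [hcount]; exact Finite.one_lt_card_iff_nontrivial.2 hnt
  have hnt2 : Nontrivial {χ : Cfsg.IrrCharacter H // InvCh H y χ} :=
    Finite.one_lt_card_iff_nontrivial.1 h2
  obtain ⟨a, b, hab⟩ := hnt2
  have hex : ∃ χ : {χ : Cfsg.IrrCharacter H // InvCh H y χ},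
      ((χ : Cfsg.IrrCharacter H) : H → ℂ) ≠ fun _ => 1 := by
    by_contra hcon
    push Not at hcon
    apply hab
    apply Subtype.ext
    apply Subtype.ext
    rw [hcon a, hcon b]
  obtain ⟨χ, hχ⟩ := hex
  refine ⟨χ.1.1, χ.1.2, hχ, ?_⟩
  funext g
  exact χ.2 y (Subgroup.mem_zpowers y) g ⟨y * g * y⁻¹, hN.conj_mem g g.2 y⟩ rfl

theorem s1536 {M : Type*} [Group M] [Finite M] (H : Subgroup M) [hN : H.Normal]
    (hHall : Nat.Coprime (Nat.card H) H.index) (x : M) :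
    (∃ θ : H → ℂ, Cfsg.IsIrrCharacter H θ ∧ θ ≠ (fun _ => 1) ∧
      (fun h : H => θ ⟨x * h * x⁻¹, hN.conj_mem h h.2 x⟩) = θ) ↔
      ∃ h ∈ H, h ≠ 1 ∧ x * h = h * x := by
  constructor
  · rintro ⟨θ, hθ, hθ1, hinv⟩
    by_cases hcop : Nat.Coprime (Nat.card H) (orderOf x)
    · by_contra hcon
      push Not at hcon
      apply hθ1
      exact inv_char_trivial H x hcop (fun h hh hc => by
        by_contra h1; exact hcon h hh h1 hc) θ hθ hinv
    · obtain ⟨p, hp, hpn, hpo⟩ := Nat.Prime.not_coprime_iff_dvd.1 hcop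
      have ho : orderOf x ≠ 0 := (orderOf_pos x).ne'
      have hord : orderOf (x ^ (orderOf x / p)) = p := orderOf_pow_orderOf_div ho hpo
      have hmem : x ^ (orderOf x / p) ∈ H := by
        apply mem_of_coprime_orderOf_index H
        rw [hord]
        exact Nat.Coprime.coprime_dvd_left hpn hHall
      refine ⟨x ^ (orderOf x / p), hmem, ?_, ?_⟩
      · intro h1
        rw [h1, orderOf_one] at hord
        exact hp.one_lt.ne hord
      · exact (Commute.self_pow x _).eq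
  · rintro ⟨h, hh, h1, hc⟩
    classical
    obtain ⟨c, hcdef⟩ : ∃ c, c = orderOf (QuotientGroup.mk' H x) := ⟨_, rfl⟩
    have hxc : x ^ (c : ℤ) ∈ H := by
      rw [← QuotientGroup.eq_one_iff]
      show QuotientGroup.mk' H (x ^ (c : ℤ)) = 1
      rw [map_zpow, zpow_natCast, hcdef, pow_orderOf_eq_one]
    have hcm : c ∣ H.index := by
      rw [hcdef, Subgroup.index_eq_card]; exact orderOf_dvd_natCard _
    have hcop : Nat.Coprime (Nat.card H) c := Nat.Coprime.coprime_dvd_right hcm hHall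
    have hbez := Nat.gcd_eq_gcd_ab (Nat.card H) c
    rw [Nat.Coprime.gcd_eq_one hcop] at hbez
    obtain ⟨u, hu⟩ : ∃ u, u = Nat.gcdA (Nat.card H) c := ⟨_, rfl⟩
    obtain ⟨v, hv⟩ : ∃ v, v = Nat.gcdB (Nat.card H) c := ⟨_, rfl⟩
    rw [← hu, ← hv] at hbez
    obtain ⟨y, hy⟩ : ∃ y, y = x ^ ((Nat.card H : ℤ) * u) := ⟨_, rfl⟩
    obtain ⟨w, hw⟩ : ∃ w, w = x ^ ((c : ℤ) * v) := ⟨_, rfl⟩
    have hwH : w ∈ H := by
      rw [hw, zpow_mul]; exact H.zpow_mem hxc v
    have hxyw : x = y * w := by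
      rw [hy, hw, ← zpow_add, ← hbez]; simp
    have h2 : (x ^ (c : ℤ)) ^ ((Nat.card H : ℕ) : ℤ) = 1 := by
      rw [zpow_natCast (x ^ (c : ℤ))]
      have h3 := pow_card_eq_one' (G := H) (x := ⟨x ^ (c : ℤ), hxc⟩)
      have h4 : (((⟨x ^ (c : ℤ), hxc⟩ : H) ^ Nat.card H : H) : M) = ((1 : H) : M) :=
        congrArg Subtype.val h3
      rw [Subgroup.coe_pow, Subgroup.coe_one] at h4
      exact h4
    have hyc : y ^ (c : ℤ) = 1 := by
      rw [hy, ← zpow_mul]
      have h3 : (Nat.card H : ℤ) * u * c = (c : ℤ) * (Nat.card H : ℤ) * u := by ring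
      rw [h3, zpow_mul, zpow_mul, h2, one_zpow]
    have hdvd : orderOf y ∣ c := by
      apply orderOf_dvd_of_pow_eq_one
      rw [← zpow_natCast]; exact hyc
    have hcopy : Nat.Coprime (Nat.card H) (orderOf y) := Nat.Coprime.coprime_dvd_right hdvd hcop
    have hcy : y * h = h * y := by
      rw [hy]
      exact (Commute.zpow_left (show Commute x h from hc) _).eq
    obtain ⟨θ, hθ, hθ1, hθy⟩ := exists_inv_char H y hcopy h hh h1 hcy
    refine ⟨θ, hθ, hθ1, ?_⟩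
    show Cfsg.Agent.Lib.Helper6.conjFun H hN θ x = θ
    rw [hxyw, ← conjFun_conjFun, hθy]
    exact conjFun_of_mem H hN (IsIrrCharacter.isClassFunction hθ) hwH

theorem index_dvd_of_FK {M : Type*} [Group M] [Finite M] (K : Subgroup M) [hK : K.Normal]
    (hFK : ∀ k ∈ K, k ≠ 1 → ∀ x : M, x * k = k * x → x ∈ K) :
    K.index ∣ Nat.card K - 1 := by
  have h := Cfsg.Agent.Lib.Lead.Coh.frob_cong K ⊥ K bot_le le_rfl (fun k hk hk1 x hx => by
    apply hFK k hk (fun h => hk1 (by rw [h]; exact Subgroup.mem_bot.2 rfl)) x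
    have hx' : x * k * x⁻¹ * k⁻¹ = 1 := Subgroup.mem_bot.1 hx
    calc x * k = (x * k * x⁻¹ * k⁻¹) * (k * x) := by group
      _ = k * x := by rw [hx', one_mul])
  rwa [Subgroup.relIndex_bot_left] at h

theorem coprime_of_FK {M : Type*} [Group M] [Finite M] (K : Subgroup M) [hK : K.Normal]
    (hFK : ∀ k ∈ K, k ≠ 1 → ∀ x : M, x * k = k * x → x ∈ K) :
    Nat.Coprime (Nat.card K) K.index := by
  have h := index_dvd_of_FK K hFK
  have hpos : 0 < Nat.card K := Nat.card_pos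
  have h1 : Nat.gcd (Nat.card K) K.index ∣ 1 := by
    have h2 : Nat.gcd (Nat.card K) K.index ∣ Nat.card K := Nat.gcd_dvd_left _ _
    have h3 : Nat.gcd (Nat.card K) K.index ∣ Nat.card K - 1 := (Nat.gcd_dvd_right _ _).trans h
    have h4 := Nat.dvd_sub h2 h3
    have h5 : Nat.card K - (Nat.card K - 1) = 1 := by omega
    rwa [h5] at h4
  exact Nat.dvd_one.1 h1

theorem stab_le_of_FK {M : Type*} [Group M] [Finite M] (K : Subgroup M) [hK : K.Normal]
    (hFK : ∀ k ∈ K, k ≠ 1 → ∀ x : M, x * k = k * x → x ∈ K)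
    {θ : K → ℂ} (hθ : IsIrrCharacter K θ) (hθ1 : θ ≠ fun _ => 1) (g : M)
    (hg : Cfsg.Agent.Lib.Helper6.conjFun K hK θ g = θ) : g ∈ K := by
  obtain ⟨h, hh, h1, hc⟩ := (s1536 K (coprime_of_FK K hFK) g).1 ⟨θ, hθ, hθ1, hg⟩
  exact hFK h hh h1 g hc

theorem indFun_irr_of_FK {M : Type*} [Group M] [Fintype M] (K : Subgroup M) [hK : K.Normal]
    (hFK : ∀ k ∈ K, k ≠ 1 → ∀ x : M, x * k = k * x → x ∈ K)
    {θ : K → ℂ} (hθ : IsIrrCharacter K θ) (hθ1 : θ ≠ fun _ => 1) :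
    IsIrrCharacter M (indFun K θ) := by
  classical
  haveI : Fintype K := Fintype.ofFinite K
  have hc : classInner (fun n : K => θ ⟨n, (le_refl K) n.2⟩) θ ≠ 0 := by
    show classInner θ θ ≠ 0
    rw [Cfsg.Agent.Lib.Lead.Coh.irr_self hθ]; exact one_ne_zero
  exact indFun_isIrrCharacter_of_stab K hK K (le_refl K) ⟨θ, hθ⟩
    (fun g hg => stab_le_of_FK K hFK hθ hθ1 g hg) ⟨θ, hθ⟩ hc

theorem s1528 {G : Type*} [Group G] [Fintype G] (N : Subgroup G) [hNn : N.Normal]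
    (hC : ∀ n ∈ N, n ≠ 1 → Subgroup.centralizer ({n} : Set G) ≤ N) (χ : G → ℂ)
    (hχ : Cfsg.IsIrrCharacter G χ) (hker : ∃ n ∈ N, χ n ≠ χ 1) :
    ∃ φ : N → ℂ, Cfsg.IsIrrCharacter N φ ∧ χ = Cfsg.indFun N φ := by
  classical
  haveI : Fintype N := Fintype.ofFinite N
  have hFK : ∀ k ∈ N, k ≠ 1 → ∀ x : G, x * k = k * x → x ∈ N := by
    intro k hk hk1 x hx
    apply hC k hk hk1
    rw [Subgroup.mem_centralizer_iff]
    intro h hh
    rw [Set.mem_singleton_iff] at hh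
    rw [hh]; exact hx.symm
  obtain ⟨n, hn, hχn⟩ := hker
  have hres : IsCharacter N (fun k : N => χ k) :=
    IsCharacter.restrict N (IsIrrCharacter.isCharacter hχ)
  have hex : ∃ θ : IrrCharacter N, classInner (fun k : N => χ k) (θ : N → ℂ) ≠ 0 ∧
      (θ : N → ℂ) ⟨n, hn⟩ ≠ (θ : N → ℂ) 1 := by
    by_contra hcon
    push Not at hcon
    apply hχn
    exact IsCharacter.apply_eq_apply_one_of_constituents hres ⟨n, hn⟩ hcon
  obtain ⟨θ, hθc, hθn⟩ := hex
  have hθ1 : (θ : N → ℂ) ≠ fun _ => 1 := by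
    intro h; apply hθn; rw [h]
  have hirr := indFun_irr_of_FK N hFK θ.2 hθ1
  refine ⟨θ, θ.2, ?_⟩
  have h1 := Cfsg.Agent.S0146.result N (θ : N → ℂ) χ (IsIrrCharacter.isClassFunction hχ)
  have h2 : classInner (indFun N (θ : N → ℂ)) χ ≠ 0 := by
    rw [h1]
    intro h0
    apply hθc
    rw [← classInner_conj_symm, h0, map_zero]
  rw [classInner_isIrrCharacter hirr hχ] at h2
  by_contra hne
  apply h2
  rw [if_neg (fun h => hne h.symm)]

end grp

end Cfsg.Agent.Lib.Lead.Frob
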