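import Mathlib
import Cfsg.Agent.Lib.Lead.Coh12
import Cfsg.Agent.Lib.Helper6.Multiplicity
import Cfsg.Agent.Lib.Helper6.Taketa

set_option autoImplicit false
open Cfsg

namespace Cfsg.Agent.Lib.Lead.Coh

open Cfsg.Agent.Lib.Helper6
open scoped ComplexConjugate
open scoped commutatorElement

section arith13

theorem level_lemma {ι : Type*} (FT : Finset ι) (d : ι → ℕ) (e p N : ℕ) (hp : p.Prime)
    (hp3 : 3 ≤ p) (he : 0 < e) (hcop : Nat.Coprime e p)
    (hd : ∀ y ∈ FT, ∃ c, d y = e * p ^ c ∧ p ^ (2 * c) ∣ N)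
    (htot : N ∣ ∑ y ∈ FT, d y ^ 2)
    (x x₀ : ι) (hx : x ∈ FT) (hx₀ : x₀ ∈ FT) (hlt : d x₀ < d x) :
    d x₀ ∣ d x ∧ 2 * d x * d x₀ < ∑ y ∈ FT.filter (fun y => d y < d x), d y ^ 2 := by
  classical
  obtain ⟨b, hb, hbN⟩ := hd x hx
  obtain ⟨c₀, hc₀, _⟩ := hd x₀ hx₀
  have hp1 : 1 < p := hp.one_lt
  have hcb : c₀ < b := by
    rw [hb, hc₀] at hlt
    have h1 : p ^ c₀ < p ^ b := Nat.lt_of_mul_lt_mul_left hlt
    exact (Nat.pow_lt_pow_iff_right hp1).1 h1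
  have hR : p ^ b = p ^ c₀ * p ^ (b - c₀) := by
    rw [← pow_add]; congr 1; omega
  have hR3 : 3 ≤ p ^ (b - c₀) := by
    calc 3 ≤ p := hp3
      _ = p ^ 1 := (pow_one p).symm
      _ ≤ p ^ (b - c₀) := Nat.pow_le_pow_right hp.pos (by omega)
  have hQpos : 0 < p ^ c₀ := pow_pos hp.pos _
  refine ⟨?_, ?_⟩
  · rw [hb, hc₀, hR]
    exact ⟨p ^ (b - c₀), by ring⟩
  · obtain ⟨A, hA⟩ : ∃ A, A = ∑ y ∈ FT.filter (fun y => d y < d x), d y ^ 2 := ⟨_, rfl⟩
    obtain ⟨B, hB⟩ : ∃ B, B = ∑ y ∈ FT.filter (fun y => ¬ d y < d x), d y ^ 2 := ⟨_, rfl⟩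
    rw [← hA]
    have hAB : A + B = ∑ y ∈ FT, d y ^ 2 := by
      rw [hA, hB]
      exact Finset.sum_filter_add_sum_filter_not FT _ _
    have hpB : p ^ (2 * b) ∣ B := by
      rw [hB]
      apply Finset.dvd_sum
      intro y hy
      rw [Finset.mem_filter] at hy
      obtain ⟨c, hc, _⟩ := hd y hy.1
      have hbc : b ≤ c := by
        by_contra hcon
        push Not at hcon
        apply hy.2
        rw [hc, hb]
        exact mul_lt_mul_of_pos_left ((Nat.pow_lt_pow_iff_right hp1).2 hcon) he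
      rw [hc, mul_pow, ← pow_mul]
      exact Dvd.dvd.mul_left (pow_dvd_pow p (by omega)) _
    have hpAB : p ^ (2 * b) ∣ A + B := by rw [hAB]; exact hbN.trans htot
    have hpA : p ^ (2 * b) ∣ A := (Nat.dvd_add_left hpB).1 hpAB
    have heA : e ^ 2 ∣ A := by
      rw [hA]
      apply Finset.dvd_sum
      intro y hy
      rw [Finset.mem_filter] at hy
      obtain ⟨c, hc, _⟩ := hd y hy.1
      rw [hc, mul_pow]
      exact Dvd.intro _ rfl
    have hcop2 : Nat.Coprime (e ^ 2) (p ^ (2 * b)) := Nat.Coprime.pow _ _ hcop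
    have hdvd : e ^ 2 * p ^ (2 * b) ∣ A := Nat.Coprime.mul_dvd_of_dvd_of_dvd hcop2 heA hpA
    have hApos : 0 < A := by
      have hmem : x₀ ∈ FT.filter (fun y => d y < d x) := Finset.mem_filter.2 ⟨hx₀, hlt⟩
      have h1 : d x₀ ^ 2 ≤ A := by
        rw [hA]
        exact Finset.single_le_sum (f := fun y => d y ^ 2) (fun _ _ => Nat.zero_le _) hmem
      have h2 : 0 < d x₀ := by rw [hc₀]; exact Nat.mul_pos he hQpos
      have h3 : 0 < d x₀ ^ 2 := pow_pos h2 2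
      omega
    have hle : e ^ 2 * p ^ (2 * b) ≤ A := Nat.le_of_dvd hApos hdvd
    have hlt2 : 2 * d x * d x₀ < e ^ 2 * p ^ (2 * b) := by
      rw [hb, hc₀]
      obtain ⟨Q, hQ⟩ : ∃ Q, Q = p ^ c₀ := ⟨_, rfl⟩
      obtain ⟨Rr, hRr⟩ : ∃ Rr, Rr = p ^ (b - c₀) := ⟨_, rfl⟩
      rw [← hQ, ← hRr] at hR
      rw [← hRr] at hR3
      rw [← hQ] at hQpos
      have h2b : p ^ (2 * b) = (Q * Rr) ^ 2 := by rw [← hR, ← pow_mul, mul_comm]
      rw [h2b, hR, ← hQ]
      have e1 : 2 * (e * (Q * Rr)) * (e * Q) = (e ^ 2 * Q ^ 2) * (2 * Rr) := by ring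
      have e2 : e ^ 2 * (Q * Rr) ^ 2 = (e ^ 2 * Q ^ 2) * (Rr * Rr) := by ring
      rw [e1, e2]
      have h5 : 2 * Rr < Rr * Rr := by
        calc 2 * Rr < 3 * Rr := by omega
          _ ≤ Rr * Rr := Nat.mul_le_mul_right Rr hR3
      exact mul_lt_mul_of_pos_left h5 (Nat.mul_pos (pow_pos he 2) (pow_pos hQpos 2))
    omega

end arith13

section iia13
variable {L : Type*} [Group L] [Fintype L] (K : Subgroup L)
variable [hK : K.Normal] (A : Subgroup L) [hA : A.Normal]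

theorem sum_iia_eq [Fintype K] [∀ φ, Decidable (φ ∈ inducedIrrAbove K A)]
    (horth : ∀ χ ∈ inducedIrrAbove K ⊥, ∀ φ ∈ inducedIrrAbove K ⊥, χ ≠ φ → classInner χ φ = 0)
    (S₁ : Finset (L → ℂ)) (hS₁ : (↑S₁ : Set (L → ℂ)) ⊆ inducedIrrAbove K ⊥)
    (hAS : inducedIrrAbove K A ⊆ ↑S₁)
    (d n : (L → ℂ) → ℕ) (hd : ∀ φ ∈ inducedIrrAbove K ⊥, φ 1 = (d φ : ℂ))
    (hn : ∀ φ ∈ inducedIrrAbove K ⊥, classInner φ φ = (n φ : ℂ)) :
    (K.index : ℝ) * ((A.relIndex K : ℝ) - 1)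
      = ∑ φ ∈ S₁, (if φ ∈ inducedIrrAbove K A then (d φ : ℝ) ^ 2 / (n φ : ℝ) else 0) := by
  classical
  haveI : Fintype (IrrCharacter (K ⧸ A.subgroupOf K)) := Fintype.ofFinite _
  set β₀ : IrrCharacter (K ⧸ A.subgroupOf K) := ⟨fun _ => 1, isIrrCharacter_one⟩ with hβ₀
  set I : Finset (IrrCharacter (K ⧸ A.subgroupOf K)) := Finset.univ.erase β₀ with hI
  let v : IrrCharacter (K ⧸ A.subgroupOf K) → (L → ℂ) :=
    fun β => indFun K (fun k : K => (β : K ⧸ A.subgroupOf K → ℂ) (QuotientGroup.mk k))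
  let a : IrrCharacter (K ⧸ A.subgroupOf K) → ℂ := fun β => (β : K ⧸ A.subgroupOf K → ℂ) 1
  have hvA : ∀ β ∈ I, v β ∈ inducedIrrAbove K A := by
    intro β hβ
    exact mem_iia_of_quot K A β.2 (fun h => (Finset.ne_of_mem_erase hβ) (Subtype.ext h))
  have hΨ : ∑ β ∈ I, a β • v β = indFun K (regA K A - fun _ => 1) := by
    rw [regA_eq_sum K A]
    have h1 : (∑ β : IrrCharacter (K ⧸ A.subgroupOf K),
          ((β : K ⧸ A.subgroupOf K → ℂ) 1) •
            (fun k : K => (β : K ⧸ A.subgroupOf K → ℂ) (QuotientGroup.mk k)))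
          - (fun _ => (1 : ℂ))
        = ∑ β ∈ I, ((β : K ⧸ A.subgroupOf K → ℂ) 1) •
            (fun k : K => (β : K ⧸ A.subgroupOf K → ℂ) (QuotientGroup.mk k)) := by
      rw [hI, Finset.sum_erase_eq_sub (Finset.mem_univ β₀)]
      congr 1
      funext k
      simp [hβ₀]
    rw [h1, indFun_sum]
    refine Finset.sum_congr rfl fun β _ => ?_
    rw [indFun_smul]
  have hΨ1 : (∑ β ∈ I, a β • v β) 1 = (K.index : ℂ) * ((A.relIndex K : ℂ) - 1) := by
    rw [hΨ, indFun_one]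
    congr 1
    show regA K A 1 - 1 = _
    unfold regA
    rw [if_pos (by simp)]
  have hNne : ∀ φ ∈ S₁, ((n φ : ℕ) : ℂ) ≠ 0 := by
    intro φ hφ h0
    have hφS := hS₁ hφ
    have h1 := hn φ hφS
    rw [h0] at h1
    have h2 := eq_zero_of_classInner_self_eq_zero h1
    obtain ⟨θ, hθ, _, _, rfl⟩ := hφS
    have h3 := congrFun h2 1
    rw [indFun_one] at h3
    rcases mul_eq_zero.1 h3 with h | h
    · have h5 : K.index ≠ 0 := Subgroup.index_ne_zero_of_finite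
      exact h5 (by exact_mod_cast h)
    · exact IsIrrCharacter.apply_one_ne_zero hθ h
  have hexp := span_expand S₁ (fun φ => ((n φ : ℕ) : ℂ)) hNne (fun φ hφ => hn φ (hS₁ hφ))
    (fun φ hφ ψ hψ hne => horth φ (hS₁ hφ) ψ (hS₁ hψ) hne) I v
    (fun β hβ => hAS (hvA β hβ)) a
  have hterm : ∀ φ ∈ S₁,
      ((classInner (∑ β ∈ I, a β • v β) φ / ((n φ : ℕ) : ℂ)) • φ) 1
      = (((if φ ∈ inducedIrrAbove K A then (d φ : ℝ) ^ 2 / (n φ : ℝ) else 0 : ℝ)) : ℂ) := by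
    intro φ hφ
    rw [Pi.smul_apply, smul_eq_mul, hd φ (hS₁ hφ)]
    by_cases hφA : φ ∈ inducedIrrAbove K A
    · rw [if_pos hφA]
      have hin : classInner (∑ β ∈ I, a β • v β) φ = ((d φ : ℕ) : ℂ) := by
        rw [hΨ, ← classInner_conj_symm]
        obtain ⟨θ₀, hθ₀, hne, hker, rfl⟩ := hφA
        rw [classInner_ind_regA K A hθ₀ hne hker, ← indFun_one, hd _ (hS₁ hφ),
          Complex.conj_natCast]
      rw [hin]
      push_cast
      ring
    · rw [if_neg hφA]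
      have hin : classInner (∑ β ∈ I, a β • v β) φ = 0 := by
        rw [classInner_sum_left]
        refine Finset.sum_eq_zero fun β hβ => ?_
        rw [classInner_smul_left, horth _ (iia_mono K bot_le (hvA β hβ)) φ (hS₁ hφ) ?_,
          mul_zero]
        intro h
        apply hφA
        rw [← h]
        exact hvA β hβ
      rw [hin]
      simp
  have h3 : (∑ φ ∈ S₁, ((classInner (∑ β ∈ I, a β • v β) φ / ((n φ : ℕ) : ℂ)) • φ)) 1
      = ((∑ φ ∈ S₁, (if φ ∈ inducedIrrAbove K A then (d φ : ℝ) ^ 2 / (n φ : ℝ) else 0) : ℝ) : ℂ) := by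
    rw [Finset.sum_apply, Complex.ofReal_sum]
    exact Finset.sum_congr rfl hterm
  have h1 := congrFun hexp 1
  rw [hΨ1] at h1
  have h4 : ((K.index : ℂ) * ((A.relIndex K : ℂ) - 1))
      = ((∑ φ ∈ S₁, (if φ ∈ inducedIrrAbove K A then (d φ : ℝ) ^ 2 / (n φ : ℝ) else 0) : ℝ) : ℂ) :=
    h1.trans h3
  have h2 : (K.index : ℝ) * ((A.relIndex K : ℝ) - 1)
      = ∑ φ ∈ S₁, (if φ ∈ inducedIrrAbove K A then (d φ : ℝ) ^ 2 / (n φ : ℝ) else 0) := by
    exact_mod_cast h4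
  exact h2

end iia13

section ker13
variable {L : Type*} [Group L] [Fintype L] (K : Subgroup L) [hK : K.Normal]

theorem iia_apply_of_mem (Z : Subgroup L) [hZn : Z.Normal] (hZK : Z ≤ K) {φ : L → ℂ}
    (hφ : φ ∈ inducedIrrAbove K Z) {z : L} (hz : z ∈ Z) : φ z = φ 1 := by
  obtain ⟨θ, hθ, hne, hker, rfl⟩ := hφ
  have h1 : ∀ y : K, (y : L) ∈ Z →
      indFun K θ (y : L) = (Nat.card K : ℂ)⁻¹ * ∑ _x : L, θ 1 := by
    intro y hy
    rw [indFun_apply_of_normal K hK]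
    congr 1
    refine Finset.sum_congr rfl fun x _ => ?_
    rw [Cfsg.Agent.Lib.Helper6.conjFun_apply]
    exact hker _ (hZn.conj_mem _ hy x)
  have e1 := h1 ⟨z, hZK hz⟩ hz
  have e2 := h1 1 (by rw [Subgroup.coe_one]; exact Z.one_mem)
  rw [Subgroup.coe_one] at e2
  exact e1.trans e2.symm

omit hK in
theorem irr_ker_of_ind_ker [Fintype K] (Z : Subgroup L) {θ : K → ℂ} (hθ : IsIrrCharacter K θ)
    (h : ∀ z ∈ Z, indFun K θ z = indFun K θ 1) (a : K) (ha : (a : L) ∈ Z) : θ a = θ 1 := by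
  have hψ : IsCharacter K (fun k : K => indFun K θ k) :=
    IsCharacter.restrict K (IsCharacter.indFun K (IsIrrCharacter.isCharacter hθ))
  have hne : classInner (fun k : K => indFun K θ k) θ ≠ 0 := by
    intro h0
    have h1 : classInner θ (fun k : K => indFun K θ k) = 0 := by
      rw [← classInner_conj_symm, h0, map_zero]
    rw [← Cfsg.Agent.S0146.result K θ (indFun K θ) (indFun_isClassFunction K θ)] at h1
    have h2 := congrFun (eq_zero_of_classInner_self_eq_zero h1) 1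
    rw [indFun_one] at h2
    rcases mul_eq_zero.1 h2 with h3 | h3
    · have h5 : K.index ≠ 0 := Subgroup.index_ne_zero_of_finite
      exact h5 (by exact_mod_cast h3)
    · exact IsIrrCharacter.apply_one_ne_zero hθ h3
  have hb : (fun k : K => indFun K θ k) a = (fun k : K => indFun K θ k) 1 := by
    show indFun K θ (a : L) = indFun K θ ((1 : K) : L)
    rw [Subgroup.coe_one]
    exact h _ ha
  exact constituent_ker hψ hθ hne hb

omit hK in
theorem charDegree_indFun {θ : K → ℂ} (hθ : IsIrrCharacter K θ) :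
    charDegree (indFun K θ) = K.index * charDegree θ := by
  have h2 := IsCharacter.apply_one_eq_charDegree
    (IsCharacter.indFun K (IsIrrCharacter.isCharacter hθ))
  rw [indFun_one, IsCharacter.apply_one_eq_charDegree (IsIrrCharacter.isCharacter hθ)] at h2
  exact_mod_cast h2.symm

omit hK in
theorem deg_pow (Z : Subgroup L) (hZc : ∀ z ∈ Z, ∀ k ∈ K, z * k = k * z) {p m : ℕ}
    (hp : p.Prime) (hcard : Nat.card K = p ^ m) {θ : K → ℂ} (hθ : IsIrrCharacter K θ) :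
    ∃ c, charDegree θ = p ^ c ∧ p ^ (2 * c) ∣ Z.relIndex K := by
  classical
  haveI : Fintype K := Fintype.ofFinite K
  have h1 : charDegree θ ∣ p ^ m := by
    rw [← hcard]; exact IsIrrCharacter.charDegree_dvd_card hθ
  obtain ⟨c, _, hc⟩ := (Nat.dvd_prime_pow hp).1 h1
  refine ⟨c, hc, ?_⟩
  have hcent : ∀ x ∈ Z.subgroupOf K, ∀ y : K, x * y * x⁻¹ * y⁻¹ ∈ (⊥ : Subgroup K) := by
    intro x hx y
    rw [Subgroup.mem_bot]
    have hx' : (x : L) ∈ Z := Subgroup.mem_subgroupOf.1 hx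
    have h3 := hZc x hx' y y.2
    have hxy : x * y = y * x := Subtype.ext (by
      rw [Subgroup.coe_mul, Subgroup.coe_mul]; exact h3)
    calc x * y * x⁻¹ * y⁻¹ = y * x * x⁻¹ * y⁻¹ := by rw [hxy]
      _ = 1 := by group
  have h2 := deg_sq_le (Z.subgroupOf K) ⊥ hcent hθ (fun b hb => by rw [Subgroup.mem_bot.1 hb])
  have hz : 0 < Nat.card (Z.subgroupOf K) := Nat.card_pos
  have hidx : Z.relIndex K * Nat.card (Z.subgroupOf K) = Nat.card K :=
    (Z.subgroupOf K).index_mul_card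
  have hN : Z.relIndex K ∣ p ^ m := by rw [← hcard]; exact Dvd.intro _ hidx
  obtain ⟨j, _, hj⟩ := (Nat.dvd_prime_pow hp).1 hN
  rw [hc, ← hidx] at h2
  have h3 : (p ^ c) ^ 2 ≤ Z.relIndex K := Nat.le_of_mul_le_mul_right h2 hz
  rw [hj, ← pow_mul] at h3
  rw [hj]
  have h4 : c * 2 ≤ j := (Nat.pow_le_pow_iff_right hp.one_lt).1 h3
  exact pow_dvd_pow p (by omega)

theorem coprime_index (hH₁K : ⁅K, K⁆ < K)
    (hfrob : ∀ k ∈ K, k ∉ ⁅K, K⁆ → ∀ x : L, x * k * x⁻¹ * k⁻¹ ∈ ⁅K, K⁆ → x ∈ K)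
    {p m : ℕ} (hp : p.Prime) (hcard : Nat.card K = p ^ m) :
    Nat.Coprime K.index p ∧ p ∣ Nat.card K := by
  have h1 : K.index ∣ Subgroup.relIndex ⁅K, K⁆ K - 1 :=
    frob_cong K ⁅K, K⁆ K hH₁K.le le_rfl hfrob
  have hr1 : 1 < Subgroup.relIndex ⁅K, K⁆ K := one_lt_relIndex hH₁K
  have hrK : Subgroup.relIndex ⁅K, K⁆ K ∣ Nat.card K :=
    Subgroup.index_dvd_card (⁅K, K⁆.subgroupOf K)
  have hr2 : Subgroup.relIndex ⁅K, K⁆ K ∣ p ^ m := by rw [← hcard]; exact hrK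
  obtain ⟨j, _, hj⟩ := (Nat.dvd_prime_pow hp).1 hr2
  have hj0 : j ≠ 0 := by
    rintro rfl
    rw [pow_zero] at hj
    omega
  have hpr : p ∣ Subgroup.relIndex ⁅K, K⁆ K := by rw [hj]; exact dvd_pow_self p hj0
  refine ⟨?_, hpr.trans hrK⟩
  apply Nat.Coprime.symm
  rw [Nat.Prime.coprime_iff_not_dvd hp]
  intro hpe
  have h2 : p ∣ Subgroup.relIndex ⁅K, K⁆ K - 1 := hpe.trans h1
  have h3 : p ∣ Subgroup.relIndex ⁅K, K⁆ K - (Subgroup.relIndex ⁅K, K⁆ K - 1) :=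
    Nat.dvd_sub hpr h2
  have h4 : Subgroup.relIndex ⁅K, K⁆ K - (Subgroup.relIndex ⁅K, K⁆ K - 1) = 1 := by omega
  rw [h4] at h3
  exact hp.one_lt.ne' (Nat.dvd_one.1 h3)

theorem nrm_eq_one_of_irr {φ : L → ℂ} (hφ : IsIrrCharacter L φ) : nrm φ = 1 := by
  have h3 := nrm_spec (IsIrrCharacter.isCharacter hφ)
  rw [classInner_isIrrCharacter hφ hφ, if_pos rfl] at h3
  exact_mod_cast h3.symm

end ker13

section main13
variable {L : Type*} [Group L] [Fintype L] {G : Type*} [Group G] [Fintype G]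

theorem s1522_a (K : Subgroup L) [hK : K.Normal] (Z : Subgroup L) [hZn : Z.Normal] (hZK : Z ≤ K)
    (hirr : ∀ χ ∈ inducedIrrAbove K ⊥ \ inducedIrrAbove K Z, IsIrrCharacter L χ) :
    inducedIrrAbove K ⊥ \ inducedIrrAbove K Z
      = {χ | IsIrrCharacter L χ ∧ ∃ z ∈ Z, χ z ≠ χ 1} := by
  classical
  haveI : Fintype K := Fintype.ofFinite K
  ext χ
  constructor
  · rintro ⟨hχS, hχZ⟩
    refine ⟨hirr χ ⟨hχS, hχZ⟩, ?_⟩
    by_contra hcon
    push Not at hcon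
    obtain ⟨θ, hθ, hne, _, rfl⟩ := hχS
    exact hχZ ⟨θ, hθ, hne, irr_ker_of_ind_ker K Z hθ hcon, rfl⟩
  · rintro ⟨hχ, z₀, hz₀, hne⟩
    have hψ : IsCharacter K (fun k : K => χ k) :=
      IsCharacter.restrict K (IsIrrCharacter.isCharacter hχ)
    have hex : ∃ θ : IrrCharacter K, classInner (fun k : K => χ k) (θ : K → ℂ) ≠ 0 ∧
        (θ : K → ℂ) ⟨z₀, hZK hz₀⟩ ≠ (θ : K → ℂ) 1 := by
      by_contra hcon
      push Not at hcon
      apply hne
      have h1 := IsCharacter.apply_eq_apply_one_of_constituents hψ ⟨z₀, hZK hz₀⟩ hcon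
      have h2 : χ z₀ = χ ((1 : K) : L) := h1
      rwa [Subgroup.coe_one] at h2
    obtain ⟨θ, hθne, hθz⟩ := hex
    have hθ1 : (θ : K → ℂ) ≠ fun _ => 1 := by
      intro h; apply hθz; rw [h]
    have hmemS : indFun K (θ : K → ℂ) ∈ inducedIrrAbove K ⊥ :=
      ⟨θ, θ.2, hθ1, fun a ha => by
        have h1 : a = 1 :=
          Subtype.ext ((Subgroup.mem_bot.1 ha).trans (Subgroup.coe_one K).symm)
        rw [h1], rfl⟩
    have hnotZ : indFun K (θ : K → ℂ) ∉ inducedIrrAbove K Z := by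
      intro hmem
      apply hθz
      exact irr_ker_of_ind_ker K Z θ.2 (fun z hz => iia_apply_of_mem K Z hZK hmem hz)
        ⟨z₀, hZK hz₀⟩ hz₀
    have hirrI := hirr _ ⟨hmemS, hnotZ⟩
    have hinner : classInner (indFun K (θ : K → ℂ)) χ ≠ 0 := by
      rw [Cfsg.Agent.S0146.result K (θ : K → ℂ) χ (IsIrrCharacter.isClassFunction hχ)]
      intro h0
      apply hθne
      rw [← classInner_conj_symm, h0, map_zero]
    rw [classInner_isIrrCharacter hirrI hχ] at hinner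
    have heq : indFun K (θ : K → ℂ) = χ := by
      by_contra h
      rw [if_neg h] at hinner
      exact hinner rfl
    rw [← heq]
    exact ⟨hmemS, hnotZ⟩

theorem sum_T (K : Subgroup L) [hK : K.Normal] (Z : Subgroup L) [hZn : Z.Normal]
    {τ : (L → ℂ) → (G → ℂ)} {R : (L → ℂ) → Finset (G → ℂ)}
    (hS : IsCoherenceSystem (inducedIrrAbove K ⊥) τ R)
    (hirr : ∀ χ ∈ inducedIrrAbove K ⊥ \ inducedIrrAbove K Z, IsIrrCharacter L χ)
    (FT : Finset (L → ℂ))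
    (hFT : ∀ φ, φ ∈ FT ↔ φ ∈ inducedIrrAbove K ⊥ ∧ φ ∉ inducedIrrAbove K Z) :
    ∑ φ ∈ FT, (charDegree φ) ^ 2
      = K.index * (Z.relIndex K * (Nat.card (Z.subgroupOf K) - 1)) := by
  classical
  haveI : Fintype K := Fintype.ofFinite K
  have hd : ∀ φ ∈ inducedIrrAbove K ⊥, φ 1 = (((charDegree : (L → ℂ) → ℕ) φ : ℕ) : ℂ) :=
    fun φ hφ => IsCharacter.apply_one_eq_charDegree (hS.isCharacter φ hφ)
  have hn : ∀ φ ∈ inducedIrrAbove K ⊥, classInner φ φ = (((nrm : (L → ℂ) → ℕ) φ : ℕ) : ℂ) :=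
    fun φ hφ => nrm_spec (hS.isCharacter φ hφ)
  obtain ⟨FS, hFS⟩ : ∃ FS, FS = (iia_finite K ⊥).toFinset := ⟨_, rfl⟩
  have hFSmem : ∀ φ, φ ∈ FS ↔ φ ∈ inducedIrrAbove K ⊥ := fun φ => by
    rw [hFS]; exact Set.Finite.mem_toFinset _
  have hFSc : (↑FS : Set (L → ℂ)) = inducedIrrAbove K ⊥ := by
    rw [hFS]; exact Set.Finite.coe_toFinset _
  have e1 := sum_iia_eq K ⊥ hS.orthogonal FS (by rw [hFSc]) (by rw [hFSc])
    (charDegree : (L → ℂ) → ℕ) (nrm : (L → ℂ) → ℕ) hd hn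
  have e2 := sum_iia_eq K Z hS.orthogonal FS (by rw [hFSc])
    (by rw [hFSc]; exact iia_mono K bot_le)
    (charDegree : (L → ℂ) → ℕ) (nrm : (L → ℂ) → ℕ) hd hn
  have hFTeq : FT = FS.filter (fun φ => φ ∉ inducedIrrAbove K Z) := by
    ext φ; rw [hFT, Finset.mem_filter, hFSmem]
  have hn1 : ∀ φ, φ ∈ inducedIrrAbove K ⊥ → φ ∉ inducedIrrAbove K Z → nrm φ = 1 := by
    intro φ h1 h2
    exact nrm_eq_one_of_irr (hirr φ ⟨h1, h2⟩)
  have key : (∑ φ ∈ FT, ((charDegree φ : ℕ) : ℝ) ^ 2)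
      = (K.index : ℝ) * (((⊥ : Subgroup L).relIndex K : ℝ) - 1)
        - (K.index : ℝ) * ((Z.relIndex K : ℝ) - 1) := by
    rw [e1, e2, ← Finset.sum_sub_distrib, hFTeq, Finset.sum_filter]
    refine Finset.sum_congr rfl fun φ hφ => ?_
    have hφS := (hFSmem φ).1 hφ
    rw [if_pos hφS]
    by_cases h : φ ∈ inducedIrrAbove K Z
    · rw [if_pos h, if_neg (not_not.2 h), sub_self]
    · rw [if_neg h, if_pos h, sub_zero, hn1 φ hφS h, Nat.cast_one, div_one]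
  have hidx : Z.relIndex K * Nat.card (Z.subgroupOf K) = Nat.card K :=
    (Z.subgroupOf K).index_mul_card
  have hz : 1 ≤ Nat.card (Z.subgroupOf K) := Nat.card_pos
  have hK' : (Nat.card K : ℝ) = (Z.relIndex K : ℝ) * (Nat.card (Z.subgroupOf K) : ℝ) := by
    exact_mod_cast hidx.symm
  rw [Subgroup.relIndex_bot_left, hK'] at key
  have h5 : ((∑ φ ∈ FT, (charDegree φ) ^ 2 : ℕ) : ℝ)
      = ((K.index * (Z.relIndex K * (Nat.card (Z.subgroupOf K) - 1)) : ℕ) : ℝ) := by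
    rw [Nat.cast_sum, Nat.cast_mul, Nat.cast_mul, Nat.cast_sub hz, Nat.cast_one]
    simp only [Nat.cast_pow]
    rw [key]; ring
  exact_mod_cast h5

theorem s1522_b (K : Subgroup L) [hK : K.Normal] (hsolv : Group.IsSolvable K)
    (τ : (L → ℂ) → (G → ℂ)) (R : (L → ℂ) → Finset (G → ℂ))
    (hS : Cfsg.IsCoherenceSystem (Cfsg.inducedIrrAbove K ⊥) τ R) (hodd : Odd (Nat.card L))
    (hnil : Group.IsNilpotent K) (hH₁K : ⁅K, K⁆ < K)
    (hfrob : ∀ k ∈ K, k ∉ ⁅K, K⁆ → ∀ x : L, x * k * x⁻¹ * k⁻¹ ∈ ⁅K, K⁆ → x ∈ K)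
    (Z : Subgroup L) [hZn : Z.Normal] (hZ1 : Z ≠ ⊥) (hZK : Z ≤ K)
    (hZc : ∀ z ∈ Z, ∀ k ∈ K, z * k = k * z)
    (hirr : ∀ χ ∈ Cfsg.inducedIrrAbove K ⊥ \ Cfsg.inducedIrrAbove K Z, Cfsg.IsIrrCharacter L χ) :
    Cfsg.IsCoherent (Cfsg.inducedIrrAbove K ⊥ \ Cfsg.inducedIrrAbove K Z) {1}ᶜ τ := by
  classical
  haveI : Fintype K := Fintype.ofFinite K
  have hTS : inducedIrrAbove K ⊥ \ inducedIrrAbove K Z ⊆ inducedIrrAbove K ⊥ := Set.sdiff_subset
  have hTfin : (inducedIrrAbove K ⊥ \ inducedIrrAbove K Z).Finite := (iia_finite K ⊥).subset hTS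
  obtain ⟨FT, hFTdef⟩ : ∃ FT, FT = hTfin.toFinset := ⟨_, rfl⟩
  have hFTmem : ∀ φ, φ ∈ FT ↔ φ ∈ inducedIrrAbove K ⊥ ∧ φ ∉ inducedIrrAbove K Z := fun φ => by
    rw [hFTdef]; exact (Set.Finite.mem_toFinset _).trans (Set.mem_sdiff φ)
  have hFTc : (↑FT : Set (L → ℂ)) = inducedIrrAbove K ⊥ \ inducedIrrAbove K Z := by
    rw [hFTdef]; exact Set.Finite.coe_toFinset _
  have hTconj : ∀ φ, φ ∈ inducedIrrAbove K ⊥ → φ ∉ inducedIrrAbove K Z →
      Cfsg.conjFun φ ∈ inducedIrrAbove K ⊥ ∧ Cfsg.conjFun φ ∉ inducedIrrAbove K Z := by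
    intro φ h1 h2
    refine ⟨iia_conj K ⊥ h1, fun h3 => h2 ?_⟩
    have h4 := iia_conj K Z h3
    have h5 : Cfsg.conjFun (Cfsg.conjFun φ) = φ := by
      funext x
      show (starRingEnd ℂ) ((starRingEnd ℂ) (φ x)) = φ x
      exact Complex.conj_conj _
    rwa [h5] at h4
  have hsum := sum_T K Z hS hirr FT hFTmem
  have hcZ : 1 < Nat.card (Z.subgroupOf K) := by
    have h1 : Nat.card (Z.subgroupOf K) = Nat.card Z :=
      Nat.card_congr (Subgroup.subgroupOfEquivOfLe hZK).toEquiv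
    rw [h1]
    exact (Subgroup.one_lt_card_iff_ne_bot Z).2 hZ1
  have he : 0 < K.index := Nat.pos_of_ne_zero Subgroup.index_ne_zero_of_finite
  have hFTne : FT.Nonempty := by
    by_contra hcon
    rw [Finset.not_nonempty_iff_eq_empty] at hcon
    rw [hcon, Finset.sum_empty] at hsum
    have h2 : 0 < Z.relIndex K :=
      Nat.pos_of_ne_zero (Subgroup.index_ne_zero_of_finite (H := Z.subgroupOf K))
    have h3 : 0 < Nat.card (Z.subgroupOf K) - 1 := by omega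
    have h4 := Nat.mul_pos he (Nat.mul_pos h2 h3)
    omega
  obtain ⟨χ₀, hχ₀⟩ := hFTne
  have hχ₀T := (hFTmem χ₀).1 hχ₀
  have hTne : ∃ α ∈ zspanOn (inducedIrrAbove K ⊥ \ inducedIrrAbove K Z) {1}ᶜ, α ≠ 0 := by
    have hc := hTconj χ₀ hχ₀T.1 hχ₀T.2
    refine ⟨χ₀ - Cfsg.conjFun χ₀,
      sub_conj_mem_zspanOn ⟨hχ₀T.1, hχ₀T.2⟩ ⟨hc.1, hc.2⟩ (hS.isCharacter _ hχ₀T.1), ?_⟩
    intro h
    exact hS.conj_ne χ₀ hχ₀T.1 (sub_eq_zero.1 h).symm
  by_cases hpp : ∃ p m : ℕ, p.Prime ∧ Nat.card K = p ^ m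
  swap
  · haveI := hnil
    have hcoh := s1521 K hsolv τ R hS hodd ⊥ bot_le inferInstance ⁅K, K⁆ (sup_bot_eq _).symm
      hH₁K hfrob
      (Or.inr (Or.inr (Or.inl (by rw [Subgroup.relIndex_bot_left]; exact hpp))))
    exact coherent_mono hTS hTne hcoh
  · obtain ⟨p, m, hp, hcard⟩ := hpp
    obtain ⟨hcop, hpK⟩ := coprime_index K hH₁K hfrob hp hcard
    have hp3 : 3 ≤ p := by
      have h2 : p ≠ 2 := by
        rintro rfl
        have h3 : 2 ∣ Nat.card L := hpK.trans (Subgroup.card_subgroup_dvd_card K)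
        exact (Nat.not_even_iff_odd.2 hodd) (even_iff_two_dvd.2 h3)
      have := hp.two_le
      omega
    have hdeg : ∀ y ∈ FT, ∃ c, charDegree y = K.index * p ^ c ∧ p ^ (2 * c) ∣ Z.relIndex K := by
      intro y hy
      obtain ⟨⟨θ, hθ, _, _, rfl⟩, _⟩ := (hFTmem y).1 hy
      obtain ⟨c, hc, hcN⟩ := deg_pow K Z hZc hp hcard hθ
      exact ⟨c, by rw [charDegree_indFun K hθ, hc], hcN⟩
    have htot : Z.relIndex K ∣ ∑ y ∈ FT, charDegree y ^ 2 := by
      rw [hsum]; exact Dvd.dvd.mul_left (Dvd.intro _ rfl) _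
    have hd : ∀ φ ∈ inducedIrrAbove K ⊥, φ 1 = (((charDegree : (L → ℂ) → ℕ) φ : ℕ) : ℂ) :=
      fun φ hφ => IsCharacter.apply_one_eq_charDegree (hS.isCharacter φ hφ)
    have hn : ∀ φ ∈ inducedIrrAbove K ⊥, classInner φ φ = (((nrm : (L → ℂ) → ℕ) φ : ℕ) : ℂ) :=
      fun φ hφ => nrm_spec (hS.isCharacter φ hφ)
    have hn1 : ∀ φ ∈ FT, nrm φ = 1 := by
      intro φ hφ
      have h1 := (hFTmem φ).1 hφ
      exact nrm_eq_one_of_irr (hirr φ ⟨h1.1, h1.2⟩)
    have hdconj : ∀ φ ∈ inducedIrrAbove K ⊥, charDegree (Cfsg.conjFun φ) = charDegree φ := by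
      intro φ hφ
      have h1 := hd _ (iia_conj K ⊥ hφ)
      rw [conjFun_apply_one_of_char (hS.isCharacter φ hφ), hd φ hφ] at h1
      exact_mod_cast h1.symm
    have hind : ∀ D : ℕ, (FT.filter (fun y => charDegree y < D)).Nonempty →
        IsCoherent (↑(FT.filter (fun y => charDegree y < D)) : Set (L → ℂ)) {1}ᶜ τ := by
      intro D
      induction D with
      | zero =>
        rintro ⟨y, hy⟩
        rw [Finset.mem_filter] at hy
        exact absurd hy.2 (Nat.not_lt_zero _)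
      | succ D ih =>
        intro hne
        obtain ⟨FA, hFA⟩ : ∃ FA, FA = FT.filter (fun y => charDegree y < D) := ⟨_, rfl⟩
        obtain ⟨FB, hFB⟩ : ∃ FB, FB = FT.filter (fun y => charDegree y = D) := ⟨_, rfl⟩
        rw [← hFA] at ih
        have hFAmem : ∀ φ, φ ∈ FA ↔ φ ∈ FT ∧ charDegree φ < D := fun φ => by
          rw [hFA, Finset.mem_filter]
        have hFBmem : ∀ φ, φ ∈ FB ↔ φ ∈ FT ∧ charDegree φ = D := fun φ => by
          rw [hFB, Finset.mem_filter]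
        have hsplit : FT.filter (fun y => charDegree y < D + 1) = FA ∪ FB := by
          ext y
          rw [Finset.mem_union, hFAmem, hFBmem, Finset.mem_filter]
          constructor
          · rintro ⟨h1, h2⟩
            rcases Nat.lt_succ_iff_lt_or_eq.1 h2 with h | h
            · exact Or.inl ⟨h1, h⟩
            · exact Or.inr ⟨h1, h⟩
          · rintro (⟨h1, h2⟩ | ⟨h1, h2⟩)
            · exact ⟨h1, by omega⟩
            · exact ⟨h1, by omega⟩
        have hFAS : (↑FA : Set (L → ℂ)) ⊆ inducedIrrAbove K ⊥ := by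
          intro φ hφ
          have h1 := (hFAmem φ).1 (Finset.mem_coe.1 hφ)
          exact ((hFTmem φ).1 h1.1).1
        have hFBS : (↑FB : Set (L → ℂ)) ⊆ inducedIrrAbove K ⊥ := by
          intro φ hφ
          have h1 := (hFBmem φ).1 (Finset.mem_coe.1 hφ)
          exact ((hFTmem φ).1 h1.1).1
        have hFAconj : ∀ φ ∈ FA, Cfsg.conjFun φ ∈ FA := by
          intro φ hφ
          have h0 := (hFAmem φ).1 hφ
          have h1 := (hFTmem φ).1 h0.1
          have h2 := hTconj φ h1.1 h1.2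
          refine (hFAmem _).2 ⟨(hFTmem _).2 h2, ?_⟩
          rw [hdconj φ h1.1]; exact h0.2
        have hFBconj : ∀ φ ∈ FB, Cfsg.conjFun φ ∈ FB := by
          intro φ hφ
          have h0 := (hFBmem φ).1 hφ
          have h1 := (hFTmem φ).1 h0.1
          have h2 := hTconj φ h1.1 h1.2
          refine (hFBmem _).2 ⟨(hFTmem _).2 h2, ?_⟩
          rw [hdconj φ h1.1]; exact h0.2
        by_cases hFAne : FA.Nonempty
        · have hA := ih hFAne
          obtain ⟨χ₁, hχ₁⟩ := hFAne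
          have hχ₁' := (hFAmem χ₁).1 hχ₁
          have hFBbound : ∀ χ ∈ FB, (charDegree : (L → ℂ) → ℕ) χ₁ ∣ (charDegree : (L → ℂ) → ℕ) χ ∧
              (2 * ((charDegree : (L → ℂ) → ℕ) χ) * ((charDegree : (L → ℂ) → ℕ) χ₁) : ℝ)
                < ∑ φ ∈ FA, (((charDegree : (L → ℂ) → ℕ) φ : ℕ) : ℝ) ^ 2
                    / (((nrm : (L → ℂ) → ℕ) φ : ℕ) : ℝ) := by
            intro χ hχ
            have hχ' := (hFBmem χ).1 hχ
            have hlt : charDegree χ₁ < charDegree χ := by rw [hχ'.2]; exact hχ₁'.2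
            obtain ⟨h1, h2⟩ := level_lemma FT (charDegree : (L → ℂ) → ℕ) K.index p
              (Z.relIndex K) hp hp3 he hcop hdeg htot χ χ₁ hχ'.1 hχ₁'.1 hlt
            refine ⟨h1, ?_⟩
            have h3 : (∑ φ ∈ FA, (((charDegree : (L → ℂ) → ℕ) φ : ℕ) : ℝ) ^ 2
                    / (((nrm : (L → ℂ) → ℕ) φ : ℕ) : ℝ))
                = ((∑ y ∈ FT.filter (fun y => charDegree y < charDegree χ),
                    charDegree y ^ 2 : ℕ) : ℝ) := by
              rw [hχ'.2, ← hFA, Nat.cast_sum]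
              refine Finset.sum_congr rfl fun φ hφ => ?_
              rw [hn1 φ ((hFAmem φ).1 hφ).1, Nat.cast_one, div_one, Nat.cast_pow]
            rw [h3]
            exact_mod_cast h2
          have hcoh := add_pairs hS (charDegree : (L → ℂ) → ℕ) (nrm : (L → ℂ) → ℕ) hd hn FA
            hFAS hFAconj hA χ₁ hχ₁
            (∑ φ ∈ FA, (((charDegree : (L → ℂ) → ℕ) φ : ℕ) : ℝ) ^ 2
                    / (((nrm : (L → ℂ) → ℕ) φ : ℕ) : ℝ))
            (fun S₁ _ hsub => Finset.sum_le_sum_of_subset_of_nonneg hsub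
              (fun φ _ _ => div_nonneg (sq_nonneg _) (Nat.cast_nonneg _)))
            FB hFBS hFBbound FB.card FB rfl (Finset.Subset.refl _) hFBconj
          rw [hsplit]
          exact hcoh
        · rw [Finset.not_nonempty_iff_eq_empty] at hFAne
          rw [hsplit, hFAne, Finset.empty_union] at hne ⊢
          have hsys : IsCoherenceSystem (↑FB : Set (L → ℂ)) τ R :=
            cs_sub hS hFBS (Finset.coe_nonempty.2 hne)
              (fun φ hφ => Finset.mem_coe.2 (hFBconj φ (Finset.mem_coe.1 hφ)))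
          exact s1517 _ τ R hsys (fun φ hφ ψ hψ => by
            have h1 := (hFBmem φ).1 (Finset.mem_coe.1 hφ)
            have h2 := (hFBmem ψ).1 (Finset.mem_coe.1 hψ)
            rw [hd φ (hFBS hφ), hd ψ (hFBS hψ), h1.2, h2.2])
    have hall : FT.filter (fun y => charDegree y < FT.sup (charDegree : (L → ℂ) → ℕ) + 1)
        = FT := by
      apply Finset.filter_true_of_mem
      intro y hy
      exact Nat.lt_succ_of_le (Finset.le_sup (f := (charDegree : (L → ℂ) → ℕ)) hy)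
    have hfin := hind (FT.sup (charDegree : (L → ℂ) → ℕ) + 1) (by rw [hall]; exact ⟨χ₀, hχ₀⟩)
    rw [hall, hFTc] at hfin
    exact hfin

end main13

end Cfsg.Agent.Lib.Lead.Coh
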