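import Mathlib
import Cfsg.Agent.Lib.Lead.Coh13
import Cfsg.Agent.Lib.Helper6.IndLinear
import Cfsg.Agent.Lib.Helper6.GenCharOps

set_option autoImplicit false
open Cfsg

namespace Cfsg.Agent.Lib.Lead.Sib

open Cfsg.Agent.Lib.Helper6 Cfsg.Agent.Lib.Lead.Coh

section arith

theorem arith3 (Q F GB g : ℤ) (hQ : 1 ≤ Q) (hF : 1 ≤ F) (hGB : 1 ≤ GB) (hg : 0 ≤ g)
    (e : g = Q * (1 - F) + (1 - GB)) : g = 0 ∧ F = 1 ∧ GB = 1 := by
  have hp := mul_nonneg (sub_nonneg.2 hQ) (sub_nonneg.2 hF)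
  have h1 : F = 1 := by nlinarith
  have h2 : GB = 1 := by
    rw [h1] at e
    linarith
  refine ⟨?_, h1, h2⟩
  rw [e, h1, h2]; ring

theorem arithF_ge (m k : ℤ) (hk : 2 ≤ k) : 1 ≤ m ^ 2 + (k - 1) * (m - 1) ^ 2 := by
  rcases le_or_gt m 0 with h0 | h0
  · nlinarith [sq_nonneg m, mul_nonneg (show (0 : ℤ) ≤ k - 2 by linarith) (sq_nonneg (m - 1))]
  · nlinarith [mul_nonneg (show (0 : ℤ) ≤ m - 1 by linarith) (show (0 : ℤ) ≤ m + 1 by linarith),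
      mul_nonneg (show (0 : ℤ) ≤ k - 1 by linarith) (sq_nonneg (m - 1))]

theorem arithF_eq (m k : ℤ) (hk : 2 ≤ k) (h : m ^ 2 + (k - 1) * (m - 1) ^ 2 = 1) :
    m = 1 ∨ (m = 0 ∧ k = 2) := by
  rcases lt_trichotomy m 0 with h0 | h0 | h0
  · exfalso
    nlinarith [mul_nonneg (show (0 : ℤ) ≤ -m - 1 by linarith) (show (0 : ℤ) ≤ -m + 3 by linarith),
      mul_nonneg (show (0 : ℤ) ≤ k - 2 by linarith) (sq_nonneg (m - 1)), sq_nonneg m]
  · right
    refine ⟨h0, ?_⟩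
    rw [h0] at h
    norm_num at h
    linarith
  · rcases eq_or_lt_of_le (show (1 : ℤ) ≤ m by linarith) with h1 | h1
    · left; exact h1.symm
    · exfalso
      nlinarith [mul_nonneg (show (0 : ℤ) ≤ m - 2 by linarith) (show (0 : ℤ) ≤ m + 2 by linarith),
        mul_nonneg (show (0 : ℤ) ≤ k - 1 by linarith) (sq_nonneg (m - 1))]

theorem arithG_ge (b D : ℤ) (hD : 1 ≤ D) : 1 ≤ b ^ 2 + D * (b + 1) ^ 2 := by
  rcases le_or_gt b (-1) with h0 | h0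
  · nlinarith [mul_nonneg (show (0 : ℤ) ≤ -b - 1 by linarith) (show (0 : ℤ) ≤ -b + 1 by linarith),
      mul_nonneg (show (0 : ℤ) ≤ D by linarith) (sq_nonneg (b + 1))]
  · nlinarith [sq_nonneg b, mul_nonneg (show (0 : ℤ) ≤ D - 1 by linarith) (sq_nonneg (b + 1))]

theorem arithG_eq (b D : ℤ) (hD : 1 ≤ D) (h : b ^ 2 + D * (b + 1) ^ 2 = 1) :
    b = -1 ∨ (b = 0 ∧ D = 1) := by
  rcases lt_trichotomy b (-1) with h0 | h0 | h0
  · exfalso
    nlinarith [mul_nonneg (show (0 : ℤ) ≤ -b - 2 by linarith) (show (0 : ℤ) ≤ -b + 2 by linarith),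
      mul_nonneg (show (0 : ℤ) ≤ D by linarith) (sq_nonneg (b + 1))]
  · left; exact h0
  · rcases eq_or_lt_of_le (show (0 : ℤ) ≤ b by linarith) with h1 | h1
    · right
      refine ⟨h1.symm, ?_⟩
      rw [← h1] at h
      norm_num at h
      linarith
    · exfalso
      nlinarith [mul_nonneg (show (0 : ℤ) ≤ b - 1 by linarith) (show (0 : ℤ) ≤ b + 1 by linarith),
        mul_nonneg (show (0 : ℤ) ≤ D - 1 by linarith) (sq_nonneg (b + 1)),
        mul_nonneg (show (0 : ℤ) ≤ b - 1 by linarith) (show (0 : ℤ) ≤ b + 3 by linarith)]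

theorem arith_link (q m k D b g : ℤ) (hq : 1 ≤ q) (hk : 2 ≤ k) (hD : 1 ≤ D) (hg : 0 ≤ g)
    (h : g = q ^ 2 + 1 - ((q * m) ^ 2 + (k - 1) * (q * m - q) ^ 2 + (b ^ 2 + D * (b + 1) ^ 2))) :
    g = 0 ∧ (m = 1 ∨ (m = 0 ∧ k = 2)) ∧ (b = -1 ∨ (b = 0 ∧ D = 1)) := by
  have hQ : (1 : ℤ) ≤ q ^ 2 := by nlinarith
  have e : g = q ^ 2 * (1 - (m ^ 2 + (k - 1) * (m - 1) ^ 2)) + (1 - (b ^ 2 + D * (b + 1) ^ 2)) := by
    rw [h]; ring
  obtain ⟨h1, h2, h3⟩ := arith3 (q ^ 2) _ _ g hQ (arithF_ge m k hk) (arithG_ge b D hD) hg e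
  exact ⟨h1, arithF_eq m k hk h2, arithG_eq b D hD h3⟩

end arith

section iso
variable {L : Type*} [Group L] [Fintype L] {G : Type*} [Group G] [Fintype G]

theorem iso_sub_smul {E : Set (L → ℂ)} {ρ : (L → ℂ) → (G → ℂ)} (h : IsLinearIsometryOn E ρ)
    (hsm : ∀ a ∈ E, ∀ n : ℤ, n • a ∈ E) {a b : L → ℂ} (ha : a ∈ E) (hb : b ∈ E) (n : ℤ) :
    ρ (a - n • b) = ρ a - n • ρ b := by
  have h1 := h.1 a ha ((-n) • b) (hsm b hb (-n))
  have h2 := h.2.1 b hb (-n)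
  have e1 : a - n • b = a + (-n) • b := by rw [neg_smul, sub_eq_add_neg]
  rw [e1, h1, h2, neg_smul, sub_eq_add_neg]

theorem conjFun_add' (f g : L → ℂ) : conjFun (f + g) = conjFun f + conjFun g := by
  funext x
  show (starRingEnd ℂ) (f x + g x) = (starRingEnd ℂ) (f x) + (starRingEnd ℂ) (g x)
  rw [map_add]

theorem conjFun_zsmul (n : ℤ) (f : L → ℂ) : conjFun (n • f) = n • conjFun f := by
  funext x
  show (starRingEnd ℂ) (n • f x) = n • (starRingEnd ℂ) (f x)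
  rw [zsmul_eq_mul, zsmul_eq_mul, map_mul, map_intCast]

theorem conjFun_zero' : conjFun (0 : L → ℂ) = 0 := by
  funext x
  show (starRingEnd ℂ) (0 : ℂ) = 0
  rw [map_zero]

theorem conj_mem_zspan {W : Set (L → ℂ)} (hWc : ∀ w ∈ W, conjFun w ∈ W) {f : L → ℂ}
    (hf : f ∈ zspan W) : conjFun f ∈ zspan W := by
  change f ∈ Submodule.span ℤ W at hf
  induction hf using Submodule.span_induction with
  | mem x hx => exact zs_mem (hWc x hx)
  | zero => rw [conjFun_zero']; exact Submodule.zero_mem _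
  | add x y _ _ px py => rw [conjFun_add']; exact zs_add px py
  | smul a x _ px => rw [conjFun_zsmul]; exact zs_smul a px

theorem gen_of_mem_zspan {W : Set (L → ℂ)} (hW : ∀ w ∈ W, IsCharacter L w) {f : L → ℂ}
    (hf : f ∈ zspan W) : IsGeneralizedCharacter L f := by
  change f ∈ Submodule.span ℤ W at hf
  induction hf using Submodule.span_induction with
  | mem x hx => exact IsCharacter.isGeneralizedCharacter (hW x hx)
  | zero => exact IsGeneralizedCharacter.zero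
  | add x y _ _ px py => exact IsGeneralizedCharacter.add px py
  | smul a x _ px =>
    have h := IsGeneralizedCharacter.intCast_smul px a
    rwa [Int.cast_smul_eq_zsmul ℂ a x] at h

theorem flip_iso (W : Set (L → ℂ)) (hWchar : ∀ w ∈ W, IsCharacter L w)
    (hWc : ∀ w ∈ W, conjFun w ∈ W) (ρ : (L → ℂ) → (G → ℂ))
    (hρ : IsLinearIsometryOn (zspan W) ρ) :
    IsLinearIsometryOn (zspan W) (fun f => -ρ (conjFun f)) := by
  have hc : ∀ f ∈ zspan W, conjFun f ∈ zspan W := fun f hf => conj_mem_zspan hWc hf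
  refine ⟨?_, ?_, ?_, ?_⟩
  · intro a ha b hb
    show -ρ (conjFun (a + b)) = -ρ (conjFun a) + -ρ (conjFun b)
    rw [conjFun_add', hρ.1 _ (hc a ha) _ (hc b hb), neg_add]
  · intro a ha n
    show -ρ (conjFun (n • a)) = n • -ρ (conjFun a)
    rw [conjFun_zsmul, hρ.2.1 _ (hc a ha) n, smul_neg]
  · intro a ha b hb
    show classInner (-ρ (conjFun a)) (-ρ (conjFun b)) = classInner a b
    rw [classInner_neg_left, classInner_neg_right, neg_neg, hρ.2.2.1 _ (hc a ha) _ (hc b hb),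
      classInner_conjFun]
    obtain ⟨n, hn⟩ := classInner_gen_int (gen_of_mem_zspan hWchar ha) (gen_of_mem_zspan hWchar hb)
    rw [hn, map_intCast]
  · intro a ha
    exact IsGeneralizedCharacter.neg (hρ.2.2.2 _ (hc a ha))

theorem flip_agree (W : Set (L → ℂ)) (ξ : L → ℂ) (hξ : IsCharacter L ξ) (hξ1 : ξ 1 ≠ 0)
    (hW : ∀ w ∈ W, w = ξ ∨ w = conjFun ξ) (ρ τ : (L → ℂ) → (G → ℂ))
    (hρ : IsLinearIsometryOn (zspan W) ρ) (hρτ : ∀ θ ∈ zspanOn W {1}ᶜ, ρ θ = τ θ) :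
    ∀ θ ∈ zspanOn W {1}ᶜ, (fun f => -ρ (conjFun f)) θ = τ θ := by
  intro θ hθ
  obtain ⟨hθs, hθ1⟩ := mem_zspanOn_one.1 hθ
  have hsub : W ⊆ ({ξ, conjFun ξ} : Set (L → ℂ)) := by
    intro w hw
    rcases hW w hw with h | h
    · rw [h]; exact Set.mem_insert _ _
    · rw [h]; exact Set.mem_insert_of_mem _ rfl
  have h2 : θ ∈ Submodule.span ℤ ({ξ, conjFun ξ} : Set (L → ℂ)) := zs_mono hsub hθs
  obtain ⟨a, b, hab⟩ := Submodule.mem_span_pair.1 h2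
  have hval : ((a + b : ℤ) : ℂ) * ξ 1 = 0 := by
    have h3 := congrFun hab 1
    rw [hθ1, Pi.add_apply, Pi.smul_apply, Pi.smul_apply, conjFun_apply_one_of_char hξ,
      zsmul_eq_mul, zsmul_eq_mul] at h3
    push_cast
    rw [add_mul]; exact h3
  have hb : b = -a := by
    rcases mul_eq_zero.1 hval with h | h
    · have h4 : a + b = 0 := by exact_mod_cast h
      linarith
    · exact absurd h hξ1
  have hcj : conjFun θ = (-1 : ℤ) • θ := by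
    rw [← hab, conjFun_add', conjFun_zsmul, conjFun_zsmul, conjFun_conjFun', hb, smul_add,
      smul_smul, smul_smul]
    have e1 : (-1 : ℤ) * a = -a := by ring
    have e2 : (-1 : ℤ) * -a = a := by ring
    rw [e1, e2]
    exact add_comm _ _
  show -ρ (conjFun θ) = τ θ
  rw [hcj, hρ.2.1 θ hθs (-1), neg_one_smul, neg_neg]
  exact hρτ θ hθ

end iso

section core
variable {G : Type*} [Group G] [Fintype G]

theorem link_core (N : Subgroup G) [Fintype N]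
    (S X Y : Set (N → ℂ)) (hirr : ∀ ξ ∈ S, IsIrrCharacter N ξ) (hXS : X ⊆ S) (hYS : Y ⊆ S)
    (hXY : Disjoint X Y)
    (τ : (N → ℂ) → (G → ℂ)) (hτ : IsLinearIsometryOn (zspanOn S {1}ᶜ) τ)
    (σ τ₂ : (N → ℂ) → (G → ℂ)) (hσ : IsLinearIsometryOn (zspan X) σ)
    (hσα : ∀ θ ∈ zspanOn X {1}ᶜ, σ θ = τ θ) (hτ₂ : IsLinearIsometryOn (zspan Y) τ₂)
    (hτ₂α : ∀ θ ∈ zspanOn Y {1}ᶜ, τ₂ θ = τ θ)
    (horth : ∀ χ ∈ X, ∀ η ∈ Y, classInner (σ χ) (τ₂ η) = 0)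
    (FX FY : Finset (N → ℂ)) (hFX : ∀ φ, φ ∈ FX ↔ φ ∈ X) (hFY : ∀ φ, φ ∈ FY ↔ φ ∈ Y)
    (e q : ℕ) (hXdeg : ∀ χ ∈ X, χ 1 = (e : ℂ))
    (χ₀ χ₁ : N → ℂ) (hχ₀ : χ₀ ∈ X) (hχ₁ : χ₁ ∈ X) (hχ01 : χ₁ ≠ χ₀)
    (η₀ η₁ : N → ℂ) (hη₀ : η₀ ∈ Y) (hη₁ : η₁ ∈ Y) (hη01 : η₁ ≠ η₀)
    (hη₀deg : η₀ 1 = (q : ℂ) * (e : ℂ))
    (dY : (N → ℂ) → ℕ) (hdY : ∀ η ∈ Y, η 1 = (dY η : ℂ) * η₀ 1) (hdY1 : dY η₁ = 1)
    (hq : 0 < q)
    (A : ℤ) (hA : classInner (τ ((q : ℤ) • χ₀ - η₀)) (σ χ₀) = A) (hqA : (q : ℤ) ∣ A) :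
    ∃ Bz : ℤ, classInner (τ ((q : ℤ) • χ₀ - η₀)) (τ₂ η₀) = Bz ∧
    (A = q ∨ (A = 0 ∧ ∀ χ ∈ X, χ = χ₀ ∨ χ = χ₁)) ∧
    (Bz = -1 ∨ (Bz = 0 ∧ ∀ η ∈ Y, η = η₀ ∨ η = η₁)) ∧
    (A = q → Bz = -1 → τ ((q : ℤ) • χ₀ - η₀) = (q : ℤ) • σ χ₀ - τ₂ η₀) ∧
    (∀ χ ∈ X, χ ≠ χ₀ → classInner (τ ((q : ℤ) • χ₀ - η₀)) (σ χ) = (A : ℂ) - q) ∧
    (∀ η ∈ Y, η ≠ η₀ →
      classInner (τ ((q : ℤ) • χ₀ - η₀)) (τ₂ η) = (dY η : ℂ) * ((Bz : ℂ) + 1)) := by
  classical
  obtain ⟨hτadd, hτsmul, hτiso, hτgen⟩ := hτ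
  have hχ₀S := hXS hχ₀
  have hη₀S := hYS hη₀
  have hXYne : ∀ χ ∈ X, ∀ η ∈ Y, χ ≠ η := fun χ hχ η hη h =>
    (Set.disjoint_left.1 hXY hχ) (h ▸ hη)
  have hγ₀ : (q : ℤ) • χ₀ - η₀ ∈ zspanOn S {1}ᶜ := by
    rw [mem_zspanOn_one]
    refine ⟨Submodule.sub_mem _ (zs_smul _ (zs_mem hχ₀S)) (zs_mem hη₀S), ?_⟩
    rw [Pi.sub_apply, Pi.smul_apply, zsmul_eq_mul, hXdeg χ₀ hχ₀, hη₀deg]
    push_cast; ring
  obtain ⟨β, hβ⟩ : ∃ β, β = τ ((q : ℤ) • χ₀ - η₀) := ⟨_, rfl⟩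
  rw [← hβ] at hA ⊢
  have hβgen : IsGeneralizedCharacter G β := by rw [hβ]; exact hτgen _ hγ₀
  have j1 : classInner χ₀ χ₀ = 1 := irr_self (hirr _ hχ₀S)
  have j2 : classInner η₀ η₀ = 1 := irr_self (hirr _ hη₀S)
  have j3 : classInner χ₀ η₀ = 0 := irr_ne (hirr _ hχ₀S) (hirr _ hη₀S) (hXYne χ₀ hχ₀ η₀ hη₀)
  have j4 : classInner η₀ χ₀ = 0 :=
    irr_ne (hirr _ hη₀S) (hirr _ hχ₀S) (hXYne χ₀ hχ₀ η₀ hη₀).symm
  -- L1
  have hL1 : ∀ χ ∈ X, χ ≠ χ₀ → classInner β (σ χ) = (A : ℂ) - q := by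
    intro χ hχ hne
    have hχS := hXS hχ
    have hmemX : χ - (1 : ℤ) • χ₀ ∈ zspanOn X {1}ᶜ := by
      rw [mem_zspanOn_one]
      refine ⟨Submodule.sub_mem _ (zs_mem hχ) (zs_smul _ (zs_mem hχ₀)), ?_⟩
      rw [Pi.sub_apply, Pi.smul_apply, one_smul, hXdeg χ hχ, hXdeg χ₀ hχ₀, sub_self]
    have hmemS : χ - (1 : ℤ) • χ₀ ∈ zspanOn S {1}ᶜ := ⟨zs_mono hXS hmemX.1, hmemX.2⟩
    have e1 : σ (χ - (1 : ℤ) • χ₀) = σ χ - (1 : ℤ) • σ χ₀ :=
      iso_sub_smul hσ (fun a ha n => zs_smul n ha) (zs_mem hχ) (zs_mem hχ₀) 1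
    have i1 : classInner χ₀ χ = 0 := irr_ne (hirr _ hχ₀S) (hirr _ hχS) (Ne.symm hne)
    have i3 : classInner η₀ χ = 0 :=
      irr_ne (hirr _ hη₀S) (hirr _ hχS) (hXYne χ hχ η₀ hη₀).symm
    have e2 : classInner β (τ (χ - (1 : ℤ) • χ₀)) = -(q : ℂ) := by
      rw [hβ, hτiso _ hγ₀ _ hmemS]
      simp only [classInner_sub_left, classInner_sub_right, classInner_zsmul_left,
        classInner_zsmul_right, i1, j1, i3, j4]
      push_cast; ring
    rw [← hσα _ hmemX, e1, classInner_sub_right, classInner_zsmul_right, hA] at e2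
    push_cast at e2
    linear_combination e2
  obtain ⟨Bz, hBz⟩ := classInner_gen_int hβgen (hτ₂.2.2.2 _ (zs_mem hη₀))
  -- L2
  have hL2 : ∀ η ∈ Y, η ≠ η₀ → classInner β (τ₂ η) = (dY η : ℂ) * ((Bz : ℂ) + 1) := by
    intro η hη hne
    have hηS := hYS hη
    have hmemY : η - ((dY η : ℕ) : ℤ) • η₀ ∈ zspanOn Y {1}ᶜ := by
      rw [mem_zspanOn_one]
      refine ⟨Submodule.sub_mem _ (zs_mem hη) (zs_smul _ (zs_mem hη₀)), ?_⟩
      rw [Pi.sub_apply, Pi.smul_apply, zsmul_eq_mul, hdY η hη]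
      push_cast; ring
    have hmemS : η - ((dY η : ℕ) : ℤ) • η₀ ∈ zspanOn S {1}ᶜ := ⟨zs_mono hYS hmemY.1, hmemY.2⟩
    have e1 := iso_sub_smul hτ₂ (fun a ha n => zs_smul n ha) (zs_mem hη) (zs_mem hη₀)
      ((dY η : ℕ) : ℤ)
    have i1 : classInner χ₀ η = 0 := irr_ne (hirr _ hχ₀S) (hirr _ hηS) (hXYne χ₀ hχ₀ η hη)
    have i3 : classInner η₀ η = 0 := irr_ne (hirr _ hη₀S) (hirr _ hηS) (Ne.symm hne)
    have e2 : classInner β (τ (η - ((dY η : ℕ) : ℤ) • η₀)) = (dY η : ℂ) := by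
      rw [hβ, hτiso _ hγ₀ _ hmemS]
      simp only [classInner_sub_left, classInner_sub_right, classInner_zsmul_left,
        classInner_zsmul_right, i1, j3, i3, j2]
      push_cast; ring
    rw [← hτ₂α _ hmemY, e1, classInner_sub_right, classInner_zsmul_right, hBz] at e2
    push_cast at e2
    linear_combination e2
  -- the orthonormal family
  obtain ⟨v, hv⟩ : ∃ v : (N → ℂ) → (G → ℂ), v = fun ξ => if ξ ∈ X then σ ξ else τ₂ ξ :=
    ⟨_, rfl⟩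
  have hvX : ∀ ξ ∈ X, v ξ = σ ξ := fun ξ hξ => by rw [hv]; exact if_pos hξ
  have hvY : ∀ ξ ∈ Y, v ξ = τ₂ ξ := fun ξ hξ => by
    rw [hv]; exact if_neg (fun h => Set.disjoint_left.1 hXY h hξ)
  obtain ⟨s, hs⟩ : ∃ s, s = FX ∪ FY := ⟨_, rfl⟩
  have hdisj : Disjoint FX FY := Finset.disjoint_left.2 (fun a ha hb =>
    Set.disjoint_left.1 hXY ((hFX a).1 ha) ((hFY a).1 hb))
  have hσip : ∀ a ∈ X, ∀ b ∈ X, classInner (σ a) (σ b) = if a = b then 1 else 0 := by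
    intro a ha b hb
    rw [hσ.2.2.1 _ (zs_mem ha) _ (zs_mem hb)]
    exact classInner_isIrrCharacter (hirr a (hXS ha)) (hirr b (hXS hb))
  have hτ₂ip : ∀ a ∈ Y, ∀ b ∈ Y, classInner (τ₂ a) (τ₂ b) = if a = b then 1 else 0 := by
    intro a ha b hb
    rw [hτ₂.2.2.1 _ (zs_mem ha) _ (zs_mem hb)]
    exact classInner_isIrrCharacter (hirr a (hYS ha)) (hirr b (hYS hb))
  have hv1 : ∀ i ∈ s, classInner (v i) (v i) = 1 := by
    intro i hi
    rw [hs, Finset.mem_union] at hi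
    rcases hi with hi | hi
    · have h := (hFX i).1 hi
      rw [hvX i h, hσip i h i h, if_pos rfl]
    · have h := (hFY i).1 hi
      rw [hvY i h, hτ₂ip i h i h, if_pos rfl]
  have hv0 : ∀ i ∈ s, ∀ j ∈ s, i ≠ j → classInner (v i) (v j) = 0 := by
    intro i hi j hj hij
    rw [hs, Finset.mem_union] at hi hj
    rcases hi with hi | hi <;> rcases hj with hj | hj
    · have h := (hFX i).1 hi
      have h' := (hFX j).1 hj
      rw [hvX i h, hvX j h', hσip i h j h', if_neg hij]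
    · have h := (hFX i).1 hi
      have h' := (hFY j).1 hj
      rw [hvX i h, hvY j h']
      exact horth i h j h'
    · have h := (hFY i).1 hi
      have h' := (hFX j).1 hj
      rw [hvY i h, hvX j h', ← classInner_conj_symm, horth j h' i h, map_zero]
    · have h := (hFY i).1 hi
      have h' := (hFY j).1 hj
      rw [hvY i h, hvY j h', hτ₂ip i h j h', if_neg hij]
  have hpy := pythag_orth s v (fun _ => (1 : ℂ)) (fun _ _ => one_ne_zero) hv1 hv0 β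
  simp only [div_one] at hpy
  obtain ⟨Γ, hΓ⟩ : ∃ Γ, Γ = β - ∑ j ∈ s, classInner β (v j) • v j := ⟨_, rfl⟩
  rw [← hΓ] at hpy
  -- coefficients
  obtain ⟨c, hcdef⟩ : ∃ c : (N → ℂ) → ℤ, c = fun i => if i = χ₀ then A else if i ∈ X then A - q
      else if i = η₀ then Bz else (dY i : ℤ) * (Bz + 1) := ⟨_, rfl⟩
  have hcX0 : c χ₀ = A := by rw [hcdef]; exact if_pos rfl
  have hcX : ∀ i ∈ X, i ≠ χ₀ → c i = A - q := fun i hi hne => by
    rw [hcdef]; show (if i = χ₀ then A else if i ∈ X then A - q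
      else if i = η₀ then Bz else (dY i : ℤ) * (Bz + 1)) = A - q
    rw [if_neg hne, if_pos hi]
  have hYnX : ∀ i ∈ Y, i ∉ X := fun i hi h => Set.disjoint_left.1 hXY h hi
  have hcY0 : c η₀ = Bz := by
    rw [hcdef]; show (if η₀ = χ₀ then A else if η₀ ∈ X then A - q
      else if η₀ = η₀ then Bz else (dY η₀ : ℤ) * (Bz + 1)) = Bz
    rw [if_neg (hXYne χ₀ hχ₀ η₀ hη₀).symm, if_neg (hYnX η₀ hη₀), if_pos rfl]
  have hcY : ∀ i ∈ Y, i ≠ η₀ → c i = (dY i : ℤ) * (Bz + 1) := fun i hi hne => by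
    rw [hcdef]; show (if i = χ₀ then A else if i ∈ X then A - q
      else if i = η₀ then Bz else (dY i : ℤ) * (Bz + 1)) = (dY i : ℤ) * (Bz + 1)
    rw [if_neg (hXYne χ₀ hχ₀ i hi).symm, if_neg (hYnX i hi), if_neg hne]
  have hc : ∀ i ∈ s, classInner β (v i) = (c i : ℂ) := by
    intro i hi
    rw [hs, Finset.mem_union] at hi
    rcases hi with hi | hi
    · have h := (hFX i).1 hi
      rw [hvX i h]
      by_cases h0 : i = χ₀
      · rw [h0, hcX0, hA]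
      · rw [hcX i h h0, hL1 i h h0]; push_cast; ring
    · have h := (hFY i).1 hi
      rw [hvY i h]
      by_cases h0 : i = η₀
      · rw [h0, hcY0, hBz]
      · rw [hcY i h h0, hL2 i h h0]; push_cast; ring
  have hsum1 : ∑ i ∈ s, classInner β (v i) * (starRingEnd ℂ) (classInner β (v i))
      = ((∑ i ∈ s, (c i) ^ 2 : ℤ) : ℂ) := by
    rw [Int.cast_sum]
    refine Finset.sum_congr rfl fun i hi => ?_
    rw [hc i hi, map_intCast]; push_cast; ring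
  have hnorm : classInner β β = (((q : ℤ) ^ 2 + 1 : ℤ) : ℂ) := by
    rw [hβ, hτiso _ hγ₀ _ hγ₀]
    simp only [classInner_sub_left, classInner_sub_right, classInner_zsmul_left,
      classInner_zsmul_right, j1, j2, j3, j4]
    push_cast; ring
  have hgint : classInner Γ Γ = ((((q : ℤ) ^ 2 + 1) - ∑ i ∈ s, (c i) ^ 2 : ℤ) : ℂ) := by
    rw [hnorm, hsum1] at hpy
    rw [Int.cast_sub]
    linear_combination (-1 : ℂ) * hpy
  have hg0 : (0 : ℤ) ≤ ((q : ℤ) ^ 2 + 1) - ∑ i ∈ s, (c i) ^ 2 := by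
    have h := classInner_self_re_nonneg Γ
    rw [hgint, Complex.intCast_re] at h
    exact_mod_cast h
  -- the two sums
  have hχ₀F : χ₀ ∈ FX := (hFX _).2 hχ₀
  have hη₀F : η₀ ∈ FY := (hFY _).2 hη₀
  have hsumX : ∑ i ∈ FX, (c i) ^ 2 = A ^ 2 + ((FX.card : ℤ) - 1) * (A - q) ^ 2 := by
    rw [← Finset.add_sum_erase FX _ hχ₀F, hcX0]
    congr 1
    have h1 : ∀ i ∈ FX.erase χ₀, (c i) ^ 2 = (A - q) ^ 2 := by
      intro i hi
      rw [hcX i ((hFX i).1 (Finset.mem_of_mem_erase hi)) (Finset.ne_of_mem_erase hi)]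
    rw [Finset.sum_congr rfl h1, Finset.sum_const, Finset.card_erase_of_mem hχ₀F, nsmul_eq_mul,
      Nat.cast_sub (Finset.card_pos.2 ⟨χ₀, hχ₀F⟩), Nat.cast_one]
  obtain ⟨D, hD⟩ : ∃ D : ℤ, D = ∑ i ∈ FY.erase η₀, ((dY i : ℤ)) ^ 2 := ⟨_, rfl⟩
  have hsumY : ∑ i ∈ FY, (c i) ^ 2 = Bz ^ 2 + D * (Bz + 1) ^ 2 := by
    rw [← Finset.add_sum_erase FY _ hη₀F, hcY0, hD, Finset.sum_mul]
    congr 1
    refine Finset.sum_congr rfl fun i hi => ?_
    rw [hcY i ((hFY i).1 (Finset.mem_of_mem_erase hi)) (Finset.ne_of_mem_erase hi)]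
    ring
  have hsums : ∑ i ∈ s, (c i) ^ 2
      = A ^ 2 + ((FX.card : ℤ) - 1) * (A - q) ^ 2 + (Bz ^ 2 + D * (Bz + 1) ^ 2) := by
    rw [hs, Finset.sum_union hdisj, hsumX, hsumY]
  -- bounds on k and D
  have hχ₁F : χ₁ ∈ FX := (hFX _).2 hχ₁
  have hη₁F : η₁ ∈ FY.erase η₀ := Finset.mem_erase.2 ⟨hη01, (hFY _).2 hη₁⟩
  have hk2 : (2 : ℤ) ≤ (FX.card : ℤ) := by
    have h1 : ({χ₀, χ₁} : Finset (N → ℂ)) ⊆ FX := by
      intro a ha
      rw [Finset.mem_insert, Finset.mem_singleton] at ha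
      rcases ha with rfl | rfl
      · exact hχ₀F
      · exact hχ₁F
    have h2 := Finset.card_le_card h1
    rw [Finset.card_pair hχ01.symm] at h2
    exact_mod_cast h2
  have hD1 : (1 : ℤ) ≤ D := by
    rw [hD]
    have h1 : ((dY η₁ : ℤ)) ^ 2 ≤ ∑ i ∈ FY.erase η₀, ((dY i : ℤ)) ^ 2 :=
      Finset.single_le_sum (f := fun i => ((dY i : ℤ)) ^ 2) (fun i _ => sq_nonneg _) hη₁F
    rw [hdY1] at h1
    simpa using h1
  obtain ⟨m, hm⟩ := hqA
  have hq1 : (1 : ℤ) ≤ (q : ℤ) := by exact_mod_cast hq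
  have harith := arith_link (q : ℤ) m (FX.card : ℤ) D Bz _ hq1 hk2 hD1 hg0 (by
    rw [hsums, hm])
  obtain ⟨hg00, hmcase, hBcase⟩ := harith
  refine ⟨Bz, hBz, ?_, ?_, ?_, hL1, hL2⟩
  · rcases hmcase with h1 | ⟨h0, hk⟩
    · left; rw [hm, h1, mul_one]
    · right
      refine ⟨by rw [hm, h0, mul_zero], ?_⟩
      have hFXeq : ({χ₀, χ₁} : Finset (N → ℂ)) = FX := by
        apply Finset.eq_of_subset_of_card_le
        · intro a ha
          rw [Finset.mem_insert, Finset.mem_singleton] at ha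
          rcases ha with rfl | rfl
          · exact hχ₀F
          · exact hχ₁F
        · rw [Finset.card_pair hχ01.symm]
          exact_mod_cast hk.le
      intro χ hχ
      have h1 := (hFX χ).2 hχ
      rw [← hFXeq, Finset.mem_insert, Finset.mem_singleton] at h1
      exact h1
  · rcases hBcase with h1 | ⟨h0, hD1'⟩
    · left; exact h1
    · right
      refine ⟨h0, ?_⟩
      intro η hη
      by_contra hcon
      push Not at hcon
      obtain ⟨hne0, hne1⟩ := hcon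
      have hηF : η ∈ FY.erase η₀ := Finset.mem_erase.2 ⟨hne0, (hFY _).2 hη⟩
      have hsub : ({η₁, η} : Finset (N → ℂ)) ⊆ FY.erase η₀ := by
        intro a ha
        rw [Finset.mem_insert, Finset.mem_singleton] at ha
        rcases ha with rfl | rfl
        · exact hη₁F
        · exact hηF
      have h2 : ∑ i ∈ ({η₁, η} : Finset (N → ℂ)), ((dY i : ℤ)) ^ 2
          ≤ ∑ i ∈ FY.erase η₀, ((dY i : ℤ)) ^ 2 :=
        Finset.sum_le_sum_of_subset_of_nonneg hsub (fun i _ _ => sq_nonneg _)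
      rw [Finset.sum_pair (Ne.symm hne1), ← hD, hD1', hdY1] at h2
      have hpos : (1 : ℤ) ≤ (dY η : ℤ) := by
        have h3 := hdY η hη
        have h4 : dY η ≠ 0 := by
          intro h0'
          rw [h0', Nat.cast_zero, zero_mul] at h3
          exact IsIrrCharacter.apply_one_ne_zero (hirr η (hYS hη)) h3
        exact_mod_cast Nat.pos_of_ne_zero h4
      have h5 : (1 : ℤ) ≤ ((dY η : ℤ)) ^ 2 := by nlinarith
      push_cast at h2
      linarith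
  · intro hAq hB1
    have hΓ0 : Γ = 0 := by
      apply eq_zero_of_classInner_self_eq_zero
      rw [hgint, hg00, Int.cast_zero]
    have hβsum : β = ∑ j ∈ s, classInner β (v j) • v j := by
      rw [hΓ0] at hΓ
      exact (sub_eq_zero.1 hΓ.symm)
    rw [hβsum, hs, Finset.sum_union hdisj, Finset.sum_eq_single χ₀, Finset.sum_eq_single η₀]
    · have hs1 : χ₀ ∈ s := by rw [hs]; exact Finset.mem_union_left _ hχ₀F
      have hs2 : η₀ ∈ s := by rw [hs]; exact Finset.mem_union_right _ hη₀F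
      rw [hc χ₀ hs1, hc η₀ hs2, hcX0, hcY0, hvX χ₀ hχ₀, hvY η₀ hη₀, hAq, hB1,
        Int.cast_smul_eq_zsmul ℂ (q : ℤ), Int.cast_smul_eq_zsmul ℂ (-1 : ℤ), neg_one_smul,
        sub_eq_add_neg]
    · intro i hi hne
      have hs' : i ∈ s := by rw [hs]; exact Finset.mem_union_right _ hi
      rw [hc i hs', hcY i ((hFY i).1 hi) hne, hB1]
      simp
    · intro h; exact absurd hη₀F h
    · intro i hi hne
      have hs' : i ∈ s := by rw [hs]; exact Finset.mem_union_left _ hi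
      rw [hc i hs', hcX i ((hFX i).1 hi) hne, hAq]
      simp
    · intro h; exact absurd hχ₀F h

end core

end Cfsg.Agent.Lib.Lead.Sib
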