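import Mathlib
import Cfsg.Agent.Lib.Helper6.CliffordStab
import Cfsg.Agent.S0146

set_option autoImplicit false

/-! Peterfalvi section 1: Clifford correspondence. -/

namespace Cfsg.Agent.Lib.Lead.PF

open Cfsg.Agent.Lib.Helper6
open scoped ComplexConjugate

variable {G : Type*} [Group G] [Fintype G]

/-- restriction along an inclusion, from the induced-character form. -/
theorem res_ne_zero_of_ind (H T : Subgroup G) [Fintype H] [Fintype T] (hHT : H ≤ T) (θ : H → ℂ)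
    (ψ : T → ℂ) (hψ : Cfsg.IsClassFunction T ψ)
    (hc : Cfsg.classInner (Cfsg.indFun (H.subgroupOf T)
      (fun x => θ ⟨(x : T), Subgroup.mem_subgroupOf.mp x.2⟩)) ψ ≠ 0) :
    Cfsg.classInner (fun n : H => ψ ⟨n, hHT n.2⟩) θ ≠ 0 := by
  classical
  haveI : Fintype (H.subgroupOf T) := Fintype.ofFinite _
  rw [Cfsg.Agent.S0146.result (H.subgroupOf T) _ ψ hψ] at hc
  let e : (H.subgroupOf T) ≃* H := Subgroup.subgroupOfEquivOfLe hHT
  have h1 := classInner_comp_mulEquiv e θ (fun n : H => ψ ⟨n, hHT n.2⟩)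
  have h2 : Cfsg.classInner (fun x : H.subgroupOf T => θ ⟨(x : T), Subgroup.mem_subgroupOf.mp x.2⟩)
      (fun h : H.subgroupOf T => ψ h) = Cfsg.classInner θ (fun n : H => ψ ⟨n, hHT n.2⟩) := h1
  rw [h2] at hc
  intro h0
  apply hc
  rw [← classInner_conj_symm, h0, map_zero]

/-- the Clifford correspondence, restriction form. -/
theorem clifford_corr (H T : Subgroup G) [Fintype H] [Fintype T] (hN : H.Normal) (θ : H → ℂ)
    (hθ : Cfsg.IsIrrCharacter H θ) (hstab : ∀ g : G, conjFun H hN θ g = θ → g ∈ T) (hHT : H ≤ T)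
    (ψ ψ' : T → ℂ) (hψ : Cfsg.IsIrrCharacter T ψ) (hψ' : Cfsg.IsIrrCharacter T ψ')
    (hr : Cfsg.classInner (fun n : H => ψ ⟨n, hHT n.2⟩) θ ≠ 0)
    (hr' : Cfsg.classInner (fun n : H => ψ' ⟨n, hHT n.2⟩) θ ≠ 0) :
    Cfsg.IsIrrCharacter G (Cfsg.indFun T ψ) ∧ (Cfsg.indFun T ψ = Cfsg.indFun T ψ' → ψ = ψ') := by
  classical
  have hirr := indFun_isIrrCharacter_of_stab H hN T hHT ⟨θ, hθ⟩ hstab ⟨ψ, hψ⟩ hr
  refine ⟨hirr, ?_⟩
  intro heq
  by_contra hne
  set χ : G → ℂ := Cfsg.indFun T ψ with hχ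
  have hχcf : Cfsg.IsClassFunction G χ := IsIrrCharacter.isClassFunction hirr
  have hχχ : Cfsg.classInner χ χ = 1 := by
    rw [classInner_isIrrCharacter hirr hirr, if_pos rfl]
  -- multiplicities of ψ, ψ' in the restriction
  have hm : Cfsg.classInner (fun t : T => χ t) ψ = 1 := by
    rw [← classInner_conj_symm, ← Cfsg.Agent.S0146.result T ψ χ hχcf, ← hχ, hχχ, map_one]
  have hm' : Cfsg.classInner (fun t : T => χ t) ψ' = 1 := by
    rw [← classInner_conj_symm, ← Cfsg.Agent.S0146.result T ψ' χ hχcf, ← heq, hχχ, map_one]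
  have hχT : Cfsg.IsCharacter T (fun t : T => χ t) :=
    IsCharacter.restrict T (IsIrrCharacter.isCharacter hirr)
  obtain ⟨B, hB, hBe⟩ := IsCharacter.exists_eq_add_of_constituent hχT hψ (by rw [hm]; exact one_ne_zero)
  have hBψ' : Cfsg.classInner B ψ' = 1 := by
    have h1 : Cfsg.classInner (fun t : T => χ t) ψ' = Cfsg.classInner ψ ψ' + Cfsg.classInner B ψ' := by
      rw [hBe, classInner_add_left]
    rw [hm', classInner_isIrrCharacter hψ hψ', if_neg hne, zero_add] at h1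
    exact h1.symm
  obtain ⟨B', hB', hB'e⟩ := IsCharacter.exists_eq_add_of_constituent hB hψ' (by rw [hBψ']; exact one_ne_zero)
  -- restrict to H
  have hres : (fun n : H => χ n) = (fun n : H => ψ ⟨n, hHT n.2⟩) + ((fun n : H => ψ' ⟨n, hHT n.2⟩)
      + (fun n : H => B' ⟨n, hHT n.2⟩)) := by
    funext n
    have h1 := congrFun hBe ⟨n, hHT n.2⟩
    have h2 := congrFun hB'e ⟨n, hHT n.2⟩
    simp only [Pi.add_apply] at h1 h2 ⊢
    rw [← h2]
    exact h1
  have h3 := classInner_indFun_restrict_of_stab H hN T hHT ⟨θ, hθ⟩ hstab ⟨ψ, hψ⟩ hr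
  change Cfsg.classInner (fun n : H => χ n) θ = _ at h3
  rw [hres, classInner_add_left, classInner_add_left] at h3
  have hB'H : Cfsg.IsCharacter H (fun n : H => B' ⟨n, hHT n.2⟩) :=
    IsCharacter.comp (Subgroup.inclusion hHT) hB'
  have hψ'H : Cfsg.IsCharacter H (fun n : H => ψ' ⟨n, hHT n.2⟩) :=
    IsCharacter.comp (Subgroup.inclusion hHT) (IsIrrCharacter.isCharacter hψ')
  obtain ⟨b, hb⟩ := IsCharacter.classInner_irr_nat hB'H hθ
  obtain ⟨a, ha⟩ := IsCharacter.classInner_irr_nat hψ'H hθ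
  rw [hb, ha] at h3
  have h4 : ((a + b : ℕ) : ℂ) = 0 := by
    push_cast
    linear_combination h3
  have h5 : a + b = 0 := by exact_mod_cast h4
  have h6 : a = 0 := by omega
  apply hr'
  rw [ha, h6, Nat.cast_zero]

theorem s1489 (H T : Subgroup G) [hN : H.Normal] [Fintype T] (θ : H → ℂ)
    (hθ : Cfsg.IsIrrCharacter H θ)
    (hT : ∀ g : G, g ∈ T ↔ ∀ h : H, θ ⟨g * h * g⁻¹, hN.conj_mem h h.2 g⟩ = θ h) (hHT : H ≤ T)
    (ψ ψ' : T → ℂ) (hψ : Cfsg.IsIrrCharacter T ψ) (hψ' : Cfsg.IsIrrCharacter T ψ')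
    (hc : Cfsg.classInner (Cfsg.indFun (H.subgroupOf T)
      (fun x => θ ⟨(x : T), Subgroup.mem_subgroupOf.mp x.2⟩)) ψ ≠ 0)
    (hc' : Cfsg.classInner (Cfsg.indFun (H.subgroupOf T)
      (fun x => θ ⟨(x : T), Subgroup.mem_subgroupOf.mp x.2⟩)) ψ' ≠ 0) :
    Cfsg.IsIrrCharacter G (Cfsg.indFun T ψ) ∧ (Cfsg.indFun T ψ = Cfsg.indFun T ψ' → ψ = ψ') := by
  classical
  haveI : Fintype H := Fintype.ofFinite _
  have hstab : ∀ g : G, conjFun H hN θ g = θ → g ∈ T :=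
    fun g hg => (hT g).2 (fun h => congrFun hg h)
  have hr := res_ne_zero_of_ind H T hHT θ ψ (IsIrrCharacter.isClassFunction hψ) hc
  have hr' := res_ne_zero_of_ind H T hHT θ ψ' (IsIrrCharacter.isClassFunction hψ') hc'
  exact clifford_corr H T hN θ hθ hstab hHT ψ ψ' hψ hψ' hr hr'

end Cfsg.Agent.Lib.Lead.PF
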