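import Mathlib
import Cfsg.Agent.Lib.Lead.PF1
import Cfsg.Agent.Lib.Helper6.Ramified
import Cfsg.Agent.Lib.Helper6.QuotChar
import Cfsg.Agent.Lib.Helper6.Regular
import Cfsg.Agent.Lib.Helper6.Gallagher
import Cfsg.Agent.Lib.Helper6.Constituent
import Cfsg.Agent.Lib.Helper6.IndLinear
import Cfsg.Agent.S0187
import Cfsg.Agent.S0147

set_option autoImplicit false

/-! Peterfalvi section 1: induction from a normal subgroup with abelian inertia quotient. -/

namespace Cfsg.Agent.Lib.Lead.PF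

open Cfsg.Agent.Lib.Helper6
open scoped ComplexConjugate

section

variable {T : Type*} [Group T] [Fintype T]

/-- a linear character times an irreducible character is irreducible. -/
theorem isIrr_linear_mul {lam ψ : T → ℂ} (hlam : Cfsg.IsCharacter T lam) (h1 : lam 1 = 1)
    (hψ : Cfsg.IsIrrCharacter T ψ) : Cfsg.IsIrrCharacter T (fun t => lam t * ψ t) := by
  have hchar : Cfsg.IsCharacter T (lam * ψ) := IsCharacter.mul hlam (IsIrrCharacter.isCharacter hψ)
  apply isIrrCharacter_of_classInner_self_eq_one hchar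
  have hnorm : ∀ t, lam t * conj (lam t) = 1 := by
    intro t
    rw [← IsCharacter.apply_inv hlam, ← IsCharacter.mul_of_apply_one_eq_one hlam h1,
      mul_inv_cancel, h1]
  have h2 := classInner_isIrrCharacter hψ hψ
  rw [if_pos rfl] at h2
  rw [← h2]
  unfold Cfsg.classInner
  congr 1
  apply Finset.sum_congr rfl
  intro t _
  simp only [Pi.mul_apply, map_mul]
  calc lam t * ψ t * (conj (lam t) * conj (ψ t))
      = (lam t * conj (lam t)) * (ψ t * conj (ψ t)) := by ring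
    _ = ψ t * conj (ψ t) := by rw [hnorm, one_mul]

variable (K : Subgroup T) [hK : K.Normal]

open Classical in
/-- the sum of the inflated irreducible characters of an abelian quotient. -/
theorem sum_irr_abelian_quot [Fintype (T ⧸ K)] [Fintype (Cfsg.IrrCharacter (T ⧸ K))]
    (hab : ∀ x y : T, x * y * x⁻¹ * y⁻¹ ∈ K) (t : T) :
    ∑ β : Cfsg.IrrCharacter (T ⧸ K), (β : T ⧸ K → ℂ) (QuotientGroup.mk t)
      = if t ∈ K then (K.index : ℂ) else 0 := by
  classical
  have hcomm : ∀ a b : T ⧸ K, a * b = b * a := by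
    intro a b
    induction a using QuotientGroup.induction_on with
    | H x =>
    induction b using QuotientGroup.induction_on with
    | H y =>
    rw [← QuotientGroup.mk_mul, ← QuotientGroup.mk_mul, QuotientGroup.eq]
    have := hab y⁻¹ x⁻¹
    simpa [mul_assoc] using this
  have hlin := (Cfsg.Agent.S0187.result (G := T ⧸ K)).1 hcomm
  have h1 := congrFun (leftRegular_character_eq_sum (G := T ⧸ K)) (QuotientGroup.mk t)
  rw [leftRegular_character] at h1
  simp only [Finset.sum_apply, Pi.smul_apply, smul_eq_mul, hlin, one_mul] at h1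
  rw [← h1, Subgroup.index_eq_card]
  by_cases ht : t ∈ K
  · rw [if_pos ht, if_pos ((QuotientGroup.eq_one_iff t).2 ht)]
  · rw [if_neg ht, if_neg (fun h => ht ((QuotientGroup.eq_one_iff t).1 h))]

end

section inner

variable {T : Type*} [Group T] [Fintype T]

/-- induction of an invariant irreducible character with abelian quotient. -/
theorem ind_invariant_abelian_quot (K : Subgroup T) [Fintype K] (hK : K.Normal) (θ : K → ℂ)
    (hθ : Cfsg.IsIrrCharacter K θ) (hinv : ∀ t : T, conjFun K hK θ t = θ)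
    (hab : ∀ x y : T, x * y * x⁻¹ * y⁻¹ ∈ K) :
    ∃ (e : ℕ) (C : Finset (Cfsg.IrrCharacter T)), 0 < e ∧ e ^ 2 * C.card = K.index ∧
      Cfsg.indFun K θ = (e : ℂ) • ∑ ψ ∈ C, (ψ : T → ℂ) ∧
      ∀ ψ ∈ C, (fun k : K => (ψ : T → ℂ) k) = (e : ℂ) • θ := by
  classical
  haveI := hK
  haveI : Fintype (T ⧸ K) := Fintype.ofFinite _
  haveI : Fintype (Cfsg.IrrCharacter (T ⧸ K)) := Fintype.ofFinite _
  haveI : Fintype (Cfsg.IrrCharacter T) := Fintype.ofFinite _
  have hθc : Cfsg.IsCharacter K θ := IsIrrCharacter.isCharacter hθ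
  have hind : Cfsg.IsCharacter T (Cfsg.indFun K θ) := IsCharacter.indFun K hθc
  have hindcf : Cfsg.IsClassFunction T (Cfsg.indFun K θ) := indFun_isClassFunction K θ
  -- Frobenius reciprocity in the form we need
  have hfrob : ∀ ψ : Cfsg.IrrCharacter T, Cfsg.classInner (Cfsg.indFun K θ) (ψ : T → ℂ)
      = conj (Cfsg.classInner (fun k : K => (ψ : T → ℂ) k) θ) := by
    intro ψ
    rw [Cfsg.Agent.S0146.result K θ _ (IsIrrCharacter.isClassFunction ψ.2), classInner_conj_symm]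
  -- a first constituent
  have hind1 : Cfsg.indFun K θ 1 ≠ 0 := by
    rw [indFun_one]
    apply mul_ne_zero
    · exact_mod_cast (Subgroup.index_ne_zero_of_finite (H := K))
    · exact IsIrrCharacter.apply_one_ne_zero hθ
  obtain ⟨ψ0, hψ0⟩ := IsCharacter.exists_constituent hind hind1
  have hψ0r : Cfsg.classInner (fun k : K => (ψ0 : T → ℂ) k) θ ≠ 0 := by
    intro h0
    apply hψ0
    rw [hfrob, h0, map_zero]
  obtain ⟨e0, he0⟩ := IsCharacter.classInner_irr_nat
    (IsCharacter.restrict K (IsIrrCharacter.isCharacter ψ0.2)) hθ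
  have he0ne : e0 ≠ 0 := by
    intro h0
    apply hψ0r
    rw [he0, h0, Nat.cast_zero]
  have hres0 : (fun k : K => (ψ0 : T → ℂ) k) = (e0 : ℂ) • θ := by
    have := restrict_eq_smul_of_invariant K hK ψ0.2 hθ hinv hψ0r
    rw [he0] at this
    exact this
  -- the twists
  have hβ1 : ∀ β : Cfsg.IrrCharacter (T ⧸ K), (β : T ⧸ K → ℂ) 1 = 1 := by
    have hcomm : ∀ a b : T ⧸ K, a * b = b * a := by
      intro a b
      induction a using QuotientGroup.induction_on with
      | H x =>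
      induction b using QuotientGroup.induction_on with
      | H y =>
      rw [← QuotientGroup.mk_mul, ← QuotientGroup.mk_mul, QuotientGroup.eq]
      have := hab y⁻¹ x⁻¹
      simpa [mul_assoc] using this
    exact (Cfsg.Agent.S0187.result (G := T ⧸ K)).1 hcomm
  let μ : Cfsg.IrrCharacter (T ⧸ K) → Cfsg.IrrCharacter T := fun β =>
    ⟨fun t => (β : T ⧸ K → ℂ) (QuotientGroup.mk t) * (ψ0 : T → ℂ) t,
      isIrr_linear_mul (IsIrrCharacter.isCharacter (IsIrrCharacter.comp_mk K β.2))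
        (by rw [QuotientGroup.mk_one]; exact hβ1 β) ψ0.2⟩
  have hμK : ∀ (β : Cfsg.IrrCharacter (T ⧸ K)) (k : K), (μ β : T → ℂ) k = (ψ0 : T → ℂ) k := by
    intro β k
    change (β : T ⧸ K → ℂ) (QuotientGroup.mk (k : T)) * (ψ0 : T → ℂ) k = _
    rw [(QuotientGroup.eq_one_iff (k : T)).2 k.2, hβ1, one_mul]
  -- key identity
  have hkey : ∑ β : Cfsg.IrrCharacter (T ⧸ K), (μ β : T → ℂ) = (e0 : ℂ) • Cfsg.indFun K θ := by
    funext t
    rw [Finset.sum_apply, Pi.smul_apply, smul_eq_mul]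
    have h1 : ∑ β : Cfsg.IrrCharacter (T ⧸ K), (μ β : T → ℂ) t
        = (∑ β : Cfsg.IrrCharacter (T ⧸ K), (β : T ⧸ K → ℂ) (QuotientGroup.mk t))
          * (ψ0 : T → ℂ) t := by
      rw [Finset.sum_mul]
    rw [h1, sum_irr_abelian_quot K hab t]
    by_cases ht : t ∈ K
    · rw [if_pos ht]
      have h2 := indFun_apply_of_normal K hK θ ⟨t, ht⟩
      simp only [hinv] at h2
      rw [Finset.sum_const, Finset.card_univ, nsmul_eq_mul, ← Nat.card_eq_fintype_card] at h2
      change Cfsg.indFun K θ t = _ at h2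
      rw [h2]
      have h3 := congrFun hres0 ⟨t, ht⟩
      simp only [Pi.smul_apply, smul_eq_mul] at h3
      change (ψ0 : T → ℂ) t = _ at h3
      rw [h3]
      have hKc := card_ne_zero_complex K
      have h4 : (Nat.card T : ℂ) = (K.index : ℂ) * (Nat.card K : ℂ) := by
        rw [← Nat.cast_mul, Subgroup.index_mul_card]
      rw [h4]
      field_simp
    · rw [if_neg ht, indFun_apply_of_not_mem K hK θ ht, zero_mul, mul_zero]
  -- every constituent is a twist
  have htwist : ∀ ψ : Cfsg.IrrCharacter T, Cfsg.classInner (fun k : K => (ψ : T → ℂ) k) θ ≠ 0 →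
      ∃ β, μ β = ψ := by
    intro ψ hψ
    by_contra hno
    push Not at hno
    have h1 : Cfsg.classInner (∑ β : Cfsg.IrrCharacter (T ⧸ K), (μ β : T → ℂ)) (ψ : T → ℂ) = 0 := by
      rw [classInner_sum_left]
      apply Finset.sum_eq_zero
      intro β _
      rw [classInner_irrCharacter, if_neg (hno β)]
    rw [hkey, classInner_smul_left, hfrob] at h1
    rcases mul_eq_zero.1 h1 with h2 | h2
    · exact he0ne (by exact_mod_cast h2)
    · exact hψ ((map_eq_zero _).1 h2)
  have hres : ∀ ψ : Cfsg.IrrCharacter T, Cfsg.classInner (fun k : K => (ψ : T → ℂ) k) θ ≠ 0 →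
      (fun k : K => (ψ : T → ℂ) k) = (e0 : ℂ) • θ := by
    intro ψ hψ
    obtain ⟨β, rfl⟩ := htwist ψ hψ
    rw [← hres0]
    funext k
    exact hμK β k
  set C : Finset (Cfsg.IrrCharacter T) :=
    Finset.univ.filter (fun ψ => Cfsg.classInner (fun k : K => (ψ : T → ℂ) k) θ ≠ 0) with hC
  have hθθ : Cfsg.classInner θ θ = 1 := by
    rw [classInner_isIrrCharacter hθ hθ, if_pos rfl]
  have hcoef : ∀ ψ : Cfsg.IrrCharacter T, Cfsg.classInner (Cfsg.indFun K θ) (ψ : T → ℂ)
      = if ψ ∈ C then (e0 : ℂ) else 0 := by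
    intro ψ
    rw [hfrob]
    by_cases hψ : Cfsg.classInner (fun k : K => (ψ : T → ℂ) k) θ ≠ 0
    · rw [if_pos (by rw [hC]; simpa using hψ), hres ψ hψ, classInner_smul_left, hθθ, mul_one,
        Complex.conj_natCast]
    · rw [if_neg (by rw [hC]; simpa using hψ)]
      push Not at hψ
      rw [hψ, map_zero]
  have hdecomp : Cfsg.indFun K θ = (e0 : ℂ) • ∑ ψ ∈ C, (ψ : T → ℂ) := by
    rw [classFunction_eq_sum _ hindcf]
    simp only [hcoef]
    rw [Finset.smul_sum, ← Finset.sum_filter_add_sum_filter_not Finset.univ (fun ψ => ψ ∈ C)]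
    have h1 : ∑ ψ ∈ Finset.univ.filter (fun ψ => ψ ∉ C),
        (if ψ ∈ C then (e0 : ℂ) else 0) • (ψ : T → ℂ) = 0 := by
      apply Finset.sum_eq_zero
      intro ψ hψ
      rw [if_neg (Finset.mem_filter.1 hψ).2, zero_smul]
    rw [h1, add_zero]
    have h2 : Finset.univ.filter (fun ψ => ψ ∈ C) = C := by
      ext ψ; simp
    rw [h2]
    apply Finset.sum_congr rfl
    intro ψ hψ
    rw [if_pos hψ]
  refine ⟨e0, C, Nat.pos_of_ne_zero he0ne, ?_, hdecomp, ?_⟩
  · have h1 := classInner_indFun_self_of_invariant K hK hθ hinv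
    have h2 : Cfsg.classInner (Cfsg.indFun K θ) (Cfsg.indFun K θ) = ((e0 ^ 2 * C.card : ℕ) : ℂ) := by
      conv_lhs => rw [hdecomp]
      rw [classInner_smul_left, classInner_smul_right, classInner_sum_left]
      have h3 : ∀ ψ ∈ C, Cfsg.classInner (ψ : T → ℂ) (∑ ψ' ∈ C, (ψ' : T → ℂ)) = 1 := by
        intro ψ hψ
        rw [classInner_sum_right, Finset.sum_eq_single ψ]
        · rw [classInner_irrCharacter, if_pos rfl]
        · intro ψ' _ hne
          rw [classInner_irrCharacter, if_neg (Ne.symm hne)]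
        · intro h; exact absurd hψ h
      rw [Finset.sum_congr rfl h3, Finset.sum_const, nsmul_eq_mul, mul_one, Complex.conj_natCast]
      push_cast
      ring
    rw [h2] at h1
    exact_mod_cast h1
  · intro ψ hψ
    apply hres ψ
    have := (Finset.mem_filter.1 hψ).2
    exact this

end inner

section outer

variable {G : Type*} [Group G] [Fintype G]

/-- common set-up for inducing from a normal subgroup through the inertia group. -/
theorem ind_through_inertia (H T : Subgroup G) [hN : H.Normal] (θ : H → ℂ)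
    (hθ : Cfsg.IsIrrCharacter H θ)
    (hT : ∀ g : G, g ∈ T ↔ ∀ h : H, θ ⟨g * h * g⁻¹, hN.conj_mem h h.2 g⟩ = θ h)
    (hab : ∀ x ∈ T, ∀ y ∈ T, x * y * x⁻¹ * y⁻¹ ∈ H) :
    ∃ (e : ℕ) (C : Finset (G → ℂ)), 0 < e ∧ (∀ χ ∈ C, Cfsg.IsIrrCharacter G χ) ∧
      e ^ 2 * C.card * Nat.card H = Nat.card T ∧ Cfsg.indFun H θ = (e : ℂ) • ∑ χ ∈ C, χ ∧
      (∀ χ ∈ C, χ 1 = (T.index : ℂ) * e * θ 1) ∧
      (∀ ψ : T → ℂ, Cfsg.IsIrrCharacter T ψ → (∀ k : H, ψ ⟨k, (by
        rw [hT]; intro h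
        exact IsIrrCharacter.isClassFunction hθ h k)⟩ = θ k) → e = 1) := by
  classical
  haveI : Fintype H := Fintype.ofFinite _
  haveI : Fintype T := Fintype.ofFinite _
  have hHT : H ≤ T := by
    intro g hg
    rw [hT]
    intro h
    exact IsIrrCharacter.isClassFunction hθ h ⟨g, hg⟩
  set K : Subgroup T := H.subgroupOf T with hKdef
  haveI : Fintype K := Fintype.ofFinite _
  have hKn : K.Normal := hN.subgroupOf T
  let eq : K ≃* H := Subgroup.subgroupOfEquivOfLe hHT
  set θ' : K → ℂ := fun x => θ ⟨(x : T), Subgroup.mem_subgroupOf.mp x.2⟩ with hθ'def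
  have hθ' : Cfsg.IsIrrCharacter K θ' := IsIrrCharacter.comp_mulEquiv eq hθ
  have hinv' : ∀ t : T, conjFun K hKn θ' t = θ' := by
    intro t
    funext k
    rw [conjFun_apply]
    exact (hT t).1 t.2 ⟨(k : T), Subgroup.mem_subgroupOf.mp k.2⟩
  have hab' : ∀ x y : T, x * y * x⁻¹ * y⁻¹ ∈ K := by
    intro x y
    rw [hKdef, Subgroup.mem_subgroupOf]
    exact hab x x.2 y y.2
  obtain ⟨e0, C', he0, hcard, hdecomp, hres⟩ := ind_invariant_abelian_quot K hKn θ' hθ' hinv' hab'
  have hstab : ∀ g : G, conjFun H hN θ g = θ → g ∈ T :=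
    fun g hg => (hT g).2 (fun h => congrFun hg h)
  have hθθ : Cfsg.classInner θ θ = 1 := by
    rw [classInner_isIrrCharacter hθ hθ, if_pos rfl]
  have hresH : ∀ ψ ∈ C', (fun n : H => (ψ : T → ℂ) ⟨n, hHT n.2⟩) = (e0 : ℂ) • θ := by
    intro ψ hψ
    funext n
    have := congrFun (hres ψ hψ) ⟨⟨n, hHT n.2⟩, n.2⟩
    exact this
  have hr : ∀ ψ ∈ C', Cfsg.classInner (fun n : H => (ψ : T → ℂ) ⟨n, hHT n.2⟩) θ ≠ 0 := by
    intro ψ hψ
    rw [hresH ψ hψ, classInner_smul_left, hθθ, mul_one]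
    exact_mod_cast he0.ne'
  let F : Cfsg.IrrCharacter T → (G → ℂ) := fun ψ => Cfsg.indFun T (ψ : T → ℂ)
  have hFinj : Set.InjOn F (C' : Set (Cfsg.IrrCharacter T)) := by
    intro ψ hψ ψ' hψ' hF
    have := (clifford_corr H T hN θ hθ hstab hHT ψ ψ' ψ.2 ψ'.2 (hr ψ hψ) (hr ψ' hψ')).2 hF
    exact Subtype.ext this
  refine ⟨e0, C'.image F, he0, ?_, ?_, ?_, ?_, ?_⟩
  · intro χ hχ
    obtain ⟨ψ, hψ, rfl⟩ := Finset.mem_image.1 hχ
    exact (clifford_corr H T hN θ hθ hstab hHT ψ ψ ψ.2 ψ.2 (hr ψ hψ) (hr ψ hψ)).1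
  · rw [Finset.card_image_of_injOn hFinj, hcard, ← Nat.card_congr eq.toEquiv,
      Subgroup.index_mul_card]
  · rw [← Cfsg.Agent.S0147.result H T hHT θ]
    change Cfsg.indFun T (Cfsg.indFun K θ') = _
    rw [hdecomp, indFun_smul, indFun_sum, Finset.sum_image hFinj]
  · intro χ hχ
    obtain ⟨ψ, hψ, rfl⟩ := Finset.mem_image.1 hχ
    change Cfsg.indFun T (ψ : T → ℂ) 1 = _
    rw [indFun_one, mul_assoc]
    congr 1
    have := congrFun (hresH ψ hψ) 1
    exact this
  · intro ψ hψ hext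
    -- an extension forces e = 1
    have hψr : Cfsg.classInner (fun k : K => ψ k) θ' ≠ 0 := by
      have : (fun k : K => ψ k) = θ' := by
        funext k
        exact hext ⟨(k : T), Subgroup.mem_subgroupOf.mp k.2⟩
      rw [this, classInner_isIrrCharacter hθ' hθ', if_pos rfl]
      exact one_ne_zero
    have hmem : (⟨ψ, hψ⟩ : Cfsg.IrrCharacter T) ∈ C' := by
      by_contra hnot
      have h1 : Cfsg.classInner (Cfsg.indFun K θ') ψ = 0 := by
        rw [hdecomp, classInner_smul_left, classInner_sum_left]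
        rw [Finset.sum_eq_zero, mul_zero]
        intro ψ' hψ'
        rw [classInner_isIrrCharacter ψ'.2 hψ, if_neg]
        intro h
        apply hnot
        have : ψ' = ⟨ψ, hψ⟩ := Subtype.ext h
        rw [← this]
        exact hψ'
      rw [Cfsg.Agent.S0146.result K θ' ψ (IsIrrCharacter.isClassFunction hψ)] at h1
      apply hψr
      rw [← classInner_conj_symm, h1, map_zero]
    have h2 := congrFun (hres _ hmem) 1
    have h3 : ψ ((1 : K) : T) = θ' 1 := hext 1
    simp only [Pi.smul_apply, smul_eq_mul] at h2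
    change ψ ((1 : K) : T) = _ at h2
    rw [h3] at h2
    have h4 : θ' 1 ≠ 0 := IsIrrCharacter.apply_one_ne_zero hθ'
    have h5 : ((e0 : ℂ) - 1) * θ' 1 = 0 := by linear_combination -h2
    rcases mul_eq_zero.1 h5 with h6 | h6
    · have : (e0 : ℂ) = 1 := by linear_combination h6
      exact_mod_cast this
    · exact absurd h6 h4

theorem s1490 (H T : Subgroup G) [hN : H.Normal] (θ : H → ℂ)
    (hθ : Cfsg.IsIrrCharacter H θ)
    (hT : ∀ g : G, g ∈ T ↔ ∀ h : H, θ ⟨g * h * g⁻¹, hN.conj_mem h h.2 g⟩ = θ h)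
    (hab : ∀ x ∈ T, ∀ y ∈ T, x * y * x⁻¹ * y⁻¹ ∈ H) :
    ∃ (e : ℕ) (C : Finset (G → ℂ)), 0 < e ∧ (∀ χ ∈ C, Cfsg.IsIrrCharacter G χ) ∧
      e ^ 2 * C.card * Nat.card H = Nat.card T ∧ Cfsg.indFun H θ = (e : ℂ) • ∑ χ ∈ C, χ ∧
      ∀ χ ∈ C, χ 1 = (T.index : ℂ) * e * θ 1 := by
  obtain ⟨e, C, h1, h2, h3, h4, h5, -⟩ := ind_through_inertia H T θ hθ hT hab
  exact ⟨e, C, h1, h2, h3, h4, h5⟩

end outer

end Cfsg.Agent.Lib.Lead.PF
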