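import Mathlib
import Cfsg.Prelude.Def_Characters
import Cfsg.Prelude.Def_OddOrderChar
import Cfsg.Prelude.Def_OddOrderLocal
import Cfsg.Agent.Lib.Helper6.IrrBasis
import Cfsg.Agent.S0146
import Cfsg.Agent.S0150

set_option autoImplicit false
open Cfsg

namespace Cfsg.Agent.Lib.Lead.CycTI

open Cfsg.Agent.Lib.Helper6

section basic
variable {G : Type*} [Group G]

/-- the TI set `W ∖ (W₁ ∪ W₂)` -/
def Tset (W₁ W₂ : Subgroup G) : Set G := (↑(W₁ ⊔ W₂) : Set G) \ (↑W₁ ∪ ↑W₂)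

lemma mem_Tset {W₁ W₂ : Subgroup G} {x : G} :
    x ∈ Tset W₁ W₂ ↔ x ∈ W₁ ⊔ W₂ ∧ x ∉ W₁ ∧ x ∉ W₂ := by
  simp [Tset, not_or]

lemma Tset_nonempty {W₁ W₂ : Subgroup G} (hW : IsSelfNormalizingCyclic W₁ W₂) :
    (Tset W₁ W₂).Nonempty := by
  obtain ⟨h1, h2, hdisj, -, -, -⟩ := hW
  obtain ⟨a, ha1⟩ := Subgroup.ne_bot_iff_exists_ne_one.mp h1
  obtain ⟨b, hb1⟩ := Subgroup.ne_bot_iff_exists_ne_one.mp h2
  refine ⟨(a:G) * (b:G), mem_Tset.mpr ⟨?_, ?_, ?_⟩⟩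
  · exact mul_mem (Subgroup.mem_sup_left a.2) (Subgroup.mem_sup_right b.2)
  · intro h
    have hb : (b:G) ∈ W₁ := by
      have := W₁.mul_mem (W₁.inv_mem a.2) h
      simpa using this
    have hh : (b:G) ∈ W₁ ⊓ W₂ := ⟨hb, b.2⟩
    rw [hdisj, Subgroup.mem_bot] at hh
    exact hb1 (Subtype.ext hh)
  · intro h
    have ha : (a:G) ∈ W₂ := by
      have := W₂.mul_mem h (W₂.inv_mem b.2)
      simpa using this
    have hh : (a:G) ∈ W₁ ⊓ W₂ := ⟨a.2, ha⟩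
    rw [hdisj, Subgroup.mem_bot] at hh
    exact ha1 (Subtype.ext hh)

lemma normalizer_Tset {W₁ W₂ : Subgroup G} (hW : IsSelfNormalizingCyclic W₁ W₂) :
    Subgroup.normalizer (Tset W₁ W₂) = W₁ ⊔ W₂ :=
  hW.2.2.2.2.2 (Tset W₁ W₂) subset_rfl (Tset_nonempty hW)

lemma mem_norm_singleton {x g : G} :
    g ∈ Subgroup.normalizer ({x} : Set G) ↔ g * x * g⁻¹ = x := by
  rw [Subgroup.mem_set_normalizer_iff]
  constructor
  · intro h; exact ((h x).mp rfl)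
  · intro h y
    simp only [Set.mem_singleton_iff]
    constructor
    · rintro rfl; exact h
    · intro hy
      have : g * y * g⁻¹ = g * x * g⁻¹ := hy.trans h.symm
      simpa using this

lemma conj_mem_of_cyclic {W : Subgroup G} (hc : IsCyclic ↥W) {g : G}
    (hg : ∀ w ∈ W, g * w * g⁻¹ ∈ W) (K : Subgroup G) {w : G} (hw : w ∈ W) (hwK : w ∈ K) :
    g * w * g⁻¹ ∈ K := by
  obtain ⟨c, hc⟩ := hc.exists_generator
  obtain ⟨k, hk⟩ := Subgroup.mem_zpowers_iff.mp (hc ⟨g * c * g⁻¹, hg c c.2⟩)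
  obtain ⟨j, hj⟩ := Subgroup.mem_zpowers_iff.mp (hc ⟨w, hw⟩)
  have hk' : (c:G)^k = g * c * g⁻¹ := by
    have := congrArg Subtype.val hk; simpa using this
  have hj' : (c:G)^j = w := by
    have := congrArg Subtype.val hj; simpa using this
  have : g * w * g⁻¹ = w ^ k := by
    rw [← hj', ← zpow_mul, mul_comm j k, zpow_mul, hk', conj_zpow]
  rw [this]; exact K.zpow_mem hwK k

/-- the TI property, in strong form -/
lemma mem_of_conj_mem_Tset {W₁ W₂ : Subgroup G} (hW : IsSelfNormalizingCyclic W₁ W₂) {g t : G}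
    (ht : t ∈ Tset W₁ W₂) (hgt : g * t * g⁻¹ ∈ Tset W₁ W₂) : g ∈ W₁ ⊔ W₂ := by
  have hN := hW.2.2.2.2.2
  have h1 : Subgroup.normalizer ({t} : Set G) = W₁ ⊔ W₂ :=
    hN _ (Set.singleton_subset_iff.mpr ht) (Set.singleton_nonempty t)
  have h2 : Subgroup.normalizer ({g * t * g⁻¹} : Set G) = W₁ ⊔ W₂ :=
    hN _ (Set.singleton_subset_iff.mpr hgt) (Set.singleton_nonempty _)
  have hT := normalizer_Tset hW
  have hg1 : ∀ w ∈ W₁ ⊔ W₂, g * w * g⁻¹ ∈ W₁ ⊔ W₂ := by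
    intro w hw
    rw [← h1, mem_norm_singleton] at hw
    rw [← h2, mem_norm_singleton]
    calc g * w * g⁻¹ * (g * t * g⁻¹) * (g * w * g⁻¹)⁻¹ = g * (w * t * w⁻¹) * g⁻¹ := by group
      _ = g * t * g⁻¹ := by rw [hw]
  have hg2 : ∀ w ∈ W₁ ⊔ W₂, g⁻¹ * w * g⁻¹⁻¹ ∈ W₁ ⊔ W₂ := by
    intro w hw
    rw [← h2, mem_norm_singleton] at hw
    rw [← h1, mem_norm_singleton]
    calc g⁻¹ * w * g⁻¹⁻¹ * t * (g⁻¹ * w * g⁻¹⁻¹)⁻¹
        = g⁻¹ * (w * (g * t * g⁻¹) * w⁻¹) * g := by group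
      _ = t := by rw [hw]; group
  rw [← hT, Subgroup.mem_set_normalizer_iff]
  intro h
  have hc := hW.2.2.2.2.1
  constructor
  · intro hh
    obtain ⟨hhW, hh1, hh2⟩ := mem_Tset.mp hh
    refine mem_Tset.mpr ⟨hg1 h hhW, fun hx => hh1 ?_, fun hx => hh2 ?_⟩
    · have := conj_mem_of_cyclic hc hg2 W₁ (hg1 h hhW) hx
      simpa [mul_assoc] using this
    · have := conj_mem_of_cyclic hc hg2 W₂ (hg1 h hhW) hx
      simpa [mul_assoc] using this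
  · intro hh
    obtain ⟨hhW, hh1, hh2⟩ := mem_Tset.mp hh
    have hhW' : h ∈ W₁ ⊔ W₂ := by
      have := hg2 _ hhW; simpa [mul_assoc] using this
    refine mem_Tset.mpr ⟨hhW', fun hx => hh1 ?_, fun hx => hh2 ?_⟩
    · exact conj_mem_of_cyclic hc hg1 W₁ hhW' hx
    · exact conj_mem_of_cyclic hc hg1 W₂ hhW' hx

lemma Tset_TI {W₁ W₂ : Subgroup G} (hW : IsSelfNormalizingCyclic W₁ W₂) :
    ∀ g : G, g ∉ Subgroup.normalizer (Tset W₁ W₂) → ∀ t ∈ Tset W₁ W₂,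
      g * t * g⁻¹ ∈ Tset W₁ W₂ → t = 1 := by
  intro g hg t ht hgt
  exact absurd (by rw [normalizer_Tset hW]; exact mem_of_conj_mem_Tset hW ht hgt) hg

/-- a linear character of `W` trivial on both factors is trivial -/
lemma hom_eq_one {W₁ W₂ : Subgroup G} (l : ↥(W₁ ⊔ W₂) →* ℂˣ)
    (h1 : ∀ w : ↥(W₁ ⊔ W₂), (w:G) ∈ W₁ → l w = 1)
    (h2 : ∀ w : ↥(W₁ ⊔ W₂), (w:G) ∈ W₂ → l w = 1) : l = 1 := by
  have hle : W₁ ⊔ W₂ ≤ (l.ker).map (W₁ ⊔ W₂).subtype := by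
    refine sup_le ?_ ?_
    · intro x hx
      exact ⟨⟨x, Subgroup.mem_sup_left hx⟩, MonoidHom.mem_ker.mpr (h1 _ hx), rfl⟩
    · intro x hx
      exact ⟨⟨x, Subgroup.mem_sup_right hx⟩, MonoidHom.mem_ker.mpr (h2 _ hx), rfl⟩
  refine MonoidHom.ext fun w => ?_
  obtain ⟨w', hw', hww⟩ := hle w.2
  have : w' = w := Subtype.ext hww
  rw [← this, MonoidHom.mem_ker.mp hw', MonoidHom.one_apply]

/-- uniqueness of the decomposition `ω = φ ψ` -/
lemma split_eq {W₁ W₂ : Subgroup G} {φ φ' ψ ψ' : ↥(W₁ ⊔ W₂) →* ℂˣ}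
    (hφ : ∀ w : ↥(W₁ ⊔ W₂), (w:G) ∈ W₂ → φ w = 1)
    (hφ' : ∀ w : ↥(W₁ ⊔ W₂), (w:G) ∈ W₂ → φ' w = 1)
    (hψ : ∀ w : ↥(W₁ ⊔ W₂), (w:G) ∈ W₁ → ψ w = 1)
    (hψ' : ∀ w : ↥(W₁ ⊔ W₂), (w:G) ∈ W₁ → ψ' w = 1)
    (h : φ * ψ = φ' * ψ') : φ = φ' ∧ ψ = ψ' := by
  have hpt : ∀ w, φ w * ψ w = φ' w * ψ' w := fun w => by
    have := DFunLike.congr_fun h w
    simpa using this
  have h1 : φ * φ'⁻¹ = 1 := by
    apply hom_eq_one
    · intro w hw
      have := hpt w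
      rw [hψ w hw, hψ' w hw, mul_one, mul_one] at this
      simp [this]
    · intro w hw
      simp [hφ w hw, hφ' w hw]
  have h2 : φ = φ' := by
    refine MonoidHom.ext fun w => ?_
    have := DFunLike.congr_fun h1 w
    simpa [mul_inv_eq_one] using this
  refine ⟨h2, ?_⟩
  subst h2
  refine MonoidHom.ext fun w => ?_
  exact mul_left_cancel (hpt w)

end basic

section chars

variable {A : Type*} [Group A]

lemma unit_conj [Finite A] (m : A →* ℂˣ) (a : A) :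
    (starRingEnd ℂ) ((m a : ℂˣ) : ℂ) = (((m a)⁻¹ : ℂˣ) : ℂ) := by
  have hpow : ((m a : ℂˣ) : ℂ) ^ (Nat.card A) = 1 := by
    rw [← Units.val_pow_eq_pow_val, ← map_pow, pow_card_eq_one', map_one, Units.val_one]
  have hn : ‖((m a : ℂˣ) : ℂ)‖ = 1 :=
    Complex.norm_eq_one_of_pow_eq_one hpow Nat.card_pos.ne'
  have hne : ((m a : ℂˣ) : ℂ) ≠ 0 := Units.ne_zero _
  rw [Units.val_inv_eq_inv_val]
  refine eq_inv_of_mul_eq_one_left ?_
  rw [mul_comm, Complex.mul_conj, Complex.normSq_eq_norm_sq, hn]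
  norm_num

/-- the function attached to a linear character -/
def L (l : A →* ℂˣ) : A → ℂ := fun a => ((l a : ℂˣ) : ℂ)

open Classical in
lemma lin_inner [Fintype A] (l m : A →* ℂˣ) :
    classInner (L l) (L m) = if l = m then 1 else 0 := by
  unfold classInner L
  have h : ∀ a : A, ((l a : ℂˣ) : ℂ) * (starRingEnd ℂ) ((m a : ℂˣ) : ℂ)
      = ((Units.coeHom ℂ).comp (l * m⁻¹)) a := by
    intro a
    rw [unit_conj]
    simp
  rw [Finset.sum_congr rfl (fun a _ => h a), sum_hom_units]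
  have hiff : ((Units.coeHom ℂ).comp (l * m⁻¹) = 1) ↔ l = m := by
    constructor
    · intro hh
      refine MonoidHom.ext fun a => ?_
      have h1 : ((l * m⁻¹) a : ℂˣ) = 1 := by
        have := DFunLike.congr_fun hh a
        exact Units.ext (by simpa using this)
      rw [MonoidHom.mul_apply, MonoidHom.inv_apply, mul_inv_eq_one] at h1
      exact h1
    · rintro rfl
      refine MonoidHom.ext fun a => ?_
      simp
  have hcard : (Nat.card A : ℂ) ≠ 0 := by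
    have : Nat.card A ≠ 0 := Nat.card_pos.ne'
    exact_mod_cast this
  by_cases hlm : l = m
  · rw [if_pos hlm, if_pos (hiff.mpr hlm), ← Nat.card_eq_fintype_card, inv_mul_cancel₀ hcard]
  · rw [if_neg hlm, if_neg (fun h' => hlm (hiff.mp h'))]
    simp

end chars

end Cfsg.Agent.Lib.Lead.CycTI
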