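import Mathlib
import Cfsg.Agent.Lib.Lead.CycTI

set_option autoImplicit false
open Cfsg

namespace Cfsg.Agent.Lib.Lead.CycTI

open Cfsg.Agent.Lib.Helper6

section main
variable {G : Type*} [Group G] [Fintype G]

lemma hom_one_mul {A : Type*} [Group A] (ψ : A →* ℂˣ) : 1 * ψ = ψ :=
  MonoidHom.ext fun a => by simp

lemma hom_mul_one {A : Type*} [Group A] (φ : A →* ℂˣ) : φ * 1 = φ :=
  MonoidHom.ext fun a => by simp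

/-- `α = (1 - φ)(1 - ψ)` -/
def alpha {W : Subgroup G} (φ ψ : ↥W →* ℂˣ) : ↥W → ℂ :=
  fun w => 1 - (φ w : ℂ) - (ψ w : ℂ) + (φ w : ℂ) * (ψ w : ℂ)

lemma alpha_eq {W : Subgroup G} (φ ψ : ↥W →* ℂˣ) :
    alpha φ ψ = L 1 - L φ - L ψ + L (φ * ψ) := by
  funext w; simp [alpha, L]

lemma alpha_eq_zero {W₁ W₂ : Subgroup G} {φ ψ : ↥(W₁ ⊔ W₂) →* ℂˣ}
    (hφ : ∀ w : ↥(W₁ ⊔ W₂), (w:G) ∈ W₂ → φ w = 1)
    (hψ : ∀ w : ↥(W₁ ⊔ W₂), (w:G) ∈ W₁ → ψ w = 1) (w : ↥(W₁ ⊔ W₂))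
    (hw : (w:G) ∈ W₁ ∨ (w:G) ∈ W₂) : alpha φ ψ w = 0 := by
  rcases hw with h | h
  · rw [alpha]; simp only [hψ w h, Units.val_one]; ring
  · rw [alpha]; simp only [hφ w h, Units.val_one]; ring

lemma W_comm {W : Subgroup G} (hc : IsCyclic ↥W) (a b : ↥W) : a * b = b * a := by
  obtain ⟨c, hc⟩ := hc.exists_generator
  obtain ⟨i, rfl⟩ := Subgroup.mem_zpowers_iff.mp (hc a)
  obtain ⟨j, rfl⟩ := Subgroup.mem_zpowers_iff.mp (hc b)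
  rw [← zpow_add, ← zpow_add, add_comm]

lemma ti_inner_aux (T : Set G) (N : Subgroup G) (hN : Subgroup.normalizer T = N) [Fintype N]
    (hTI : ∀ g : G, g ∉ Subgroup.normalizer T → ∀ t ∈ T, g * t * g⁻¹ ∈ T → t = 1)
    (hTN : T ⊆ Subgroup.normalizer T) (ψ θ : N → ℂ)
    (hψ : IsClassFunction N ψ) (hθ : IsClassFunction N θ)
    (hψT : ∀ x : N, (x : G) ∉ T → ψ x = 0) (hθT : ∀ x : N, (x : G) ∉ T → θ x = 0)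
    (hψ1 : ψ 1 = 0) :
    classInner (indFun N ψ) (indFun N θ) = classInner ψ θ := by
  subst hN
  exact Cfsg.Agent.S0150.result T hTI hTN ψ θ hψ hθ hψT hθT hψ1

lemma isClassFunction_of_cyclic {W : Subgroup G} (hc : IsCyclic ↥W) (f : ↥W → ℂ) :
    IsClassFunction ↥W f := by
  intro g h
  rw [W_comm hc h g, mul_inv_cancel_right]

lemma alpha_vanish {W₁ W₂ : Subgroup G} {p q : ↥(W₁ ⊔ W₂) →* ℂˣ}
    (hp : ∀ w : ↥(W₁ ⊔ W₂), (w:G) ∈ W₂ → p w = 1)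
    (hq : ∀ w : ↥(W₁ ⊔ W₂), (w:G) ∈ W₁ → q w = 1) (x : ↥(W₁ ⊔ W₂))
    (hx : (x:G) ∉ Tset W₁ W₂) : alpha p q x = 0 := by
  apply alpha_eq_zero hp hq
  by_contra hcon
  push_neg at hcon
  exact hx (mem_Tset.mpr ⟨x.2, hcon.1, hcon.2⟩)

/-- the TI isometry for `W` -/
lemma ti_inner {W₁ W₂ : Subgroup G} (hW : IsSelfNormalizingCyclic W₁ W₂) [Fintype ↥(W₁ ⊔ W₂)]
    (ψ θ : ↥(W₁ ⊔ W₂) → ℂ)
    (hψT : ∀ x : ↥(W₁ ⊔ W₂), (x : G) ∉ Tset W₁ W₂ → ψ x = 0)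
    (hθT : ∀ x : ↥(W₁ ⊔ W₂), (x : G) ∉ Tset W₁ W₂ → θ x = 0) :
    classInner (indFun (W₁ ⊔ W₂) ψ) (indFun (W₁ ⊔ W₂) θ) = classInner ψ θ := by
  have hTN : Tset W₁ W₂ ⊆ Subgroup.normalizer (Tset W₁ W₂) := by
    rw [normalizer_Tset hW]
    exact fun x hx => (mem_Tset.mp hx).1
  have h1 : ψ 1 = 0 := by
    apply hψT
    intro h
    exact (mem_Tset.mp h).2.1 (by simp [one_mem])
  exact ti_inner_aux (Tset W₁ W₂) (W₁ ⊔ W₂) (normalizer_Tset hW) (Tset_TI hW) hTN ψ θ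
    (isClassFunction_of_cyclic hW.2.2.2.2.1 _) (isClassFunction_of_cyclic hW.2.2.2.2.1 _)
    hψT hθT h1

open Classical in
theorem s1505 (W₁ W₂ : Subgroup G) (hW : IsSelfNormalizingCyclic W₁ W₂)
    (φ φ' ψ ψ' : ↥(W₁ ⊔ W₂) →* ℂˣ) (hφ : φ ≠ 1) (hφ' : φ' ≠ 1) (hψ : ψ ≠ 1) (hψ' : ψ' ≠ 1)
    (hφ₂ : ∀ w : ↥(W₁ ⊔ W₂), (w : G) ∈ W₂ → φ w = 1 ∧ φ' w = 1)
    (hψ₁ : ∀ w : ↥(W₁ ⊔ W₂), (w : G) ∈ W₁ → ψ w = 1 ∧ ψ' w = 1) :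
    classInner (indFun (W₁ ⊔ W₂) (alpha φ ψ)) (fun _ => 1) = 1 ∧
    classInner (indFun (W₁ ⊔ W₂) (alpha φ ψ)) (indFun (W₁ ⊔ W₂) (alpha φ' ψ')) =
      1 + (if φ = φ' then 1 else 0) + (if ψ = ψ' then 1 else 0) +
        (if φ = φ' then 1 else 0) * (if ψ = ψ' then 1 else 0) := by
  letI : Fintype ↥(W₁ ⊔ W₂) := Fintype.ofFinite _
  have t1 : ∀ w : ↥(W₁ ⊔ W₂), (w:G) ∈ W₂ → (1 : ↥(W₁ ⊔ W₂) →* ℂˣ) w = 1 := fun _ _ => rfl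
  have t2 : ∀ w : ↥(W₁ ⊔ W₂), (w:G) ∈ W₁ → (1 : ↥(W₁ ⊔ W₂) →* ℂˣ) w = 1 := fun _ _ => rfl
  have a1 : ∀ w : ↥(W₁ ⊔ W₂), (w:G) ∈ W₂ → φ w = 1 := fun w h => (hφ₂ w h).1
  have a2 : ∀ w : ↥(W₁ ⊔ W₂), (w:G) ∈ W₂ → φ' w = 1 := fun w h => (hφ₂ w h).2
  have b1 : ∀ w : ↥(W₁ ⊔ W₂), (w:G) ∈ W₁ → ψ w = 1 := fun w h => (hψ₁ w h).1
  have b2 : ∀ w : ↥(W₁ ⊔ W₂), (w:G) ∈ W₁ → ψ' w = 1 := fun w h => (hψ₁ w h).2
  have n1 : ¬ ((1 : ↥(W₁ ⊔ W₂) →* ℂˣ) = φ') := fun h => hφ' h.symm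
  have n2 : ¬ ((1 : ↥(W₁ ⊔ W₂) →* ℂˣ) = ψ') := fun h => hψ' h.symm
  have n3 : ¬ ((1 : ↥(W₁ ⊔ W₂) →* ℂˣ) = φ' * ψ') := fun h =>
    hφ' (split_eq t1 a2 t2 b2 (by simpa only [hom_one_mul, hom_mul_one] using h)).1.symm
  have n5 : ¬ (φ = ψ') := fun h =>
    hφ (split_eq a1 t1 t2 b2 (by simpa only [hom_one_mul, hom_mul_one] using h)).1
  have n6 : ¬ (φ = φ' * ψ') := fun h =>
    hψ' (split_eq a1 a2 t2 b2 (by simpa only [hom_one_mul, hom_mul_one] using h)).2.symm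
  have n8 : ¬ (ψ = φ') := fun h =>
    hφ' (split_eq t1 a2 b1 t2 (by simpa only [hom_one_mul, hom_mul_one] using h)).1.symm
  have n9 : ¬ (ψ = φ' * ψ') := fun h =>
    hφ' (split_eq t1 a2 b1 b2 (by simpa only [hom_one_mul, hom_mul_one] using h)).1.symm
  have n10 : ¬ (φ * ψ = 1) := fun h =>
    hφ (split_eq a1 t1 b1 t2 (by simpa only [hom_one_mul, hom_mul_one] using h)).1
  have n11 : ¬ (φ * ψ = φ') := fun h =>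
    hψ (split_eq a1 a2 b1 t2 (by simpa only [hom_one_mul, hom_mul_one] using h)).2
  have n12 : ¬ (φ * ψ = ψ') := fun h =>
    hφ (split_eq a1 t1 b1 b2 (by simpa only [hom_one_mul, hom_mul_one] using h)).1
  constructor
  · rw [Cfsg.Agent.S0146.result (W₁ ⊔ W₂) (alpha φ ψ) (fun _ => 1) (fun _ _ => rfl)]
    change classInner (alpha φ ψ) (L 1) = 1
    rw [alpha_eq]
    simp only [classInner_add_left, classInner_sub_left, lin_inner]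
    simp only [hφ, hψ, n10, if_false, eq_self_iff_true, if_true]
    ring
  · rw [ti_inner hW _ _ (alpha_vanish a1 b1) (alpha_vanish a2 b2), alpha_eq, alpha_eq]
    simp only [classInner_add_left, classInner_sub_left, classInner_add_right,
      classInner_sub_right, lin_inner]
    simp only [n1, n2, n3, hφ, n5, n6, hψ, n8, n9, n10, n11, n12, if_false, eq_self_iff_true,
      if_true]
    by_cases h : φ = φ' <;> by_cases h' : ψ = ψ'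
    · subst h; subst h'; simp
    · have : ¬ (φ * ψ = φ' * ψ') := fun e => h' (split_eq a1 a2 b1 b2 e).2
      simp [h, h', this]
    · have : ¬ (φ * ψ = φ' * ψ') := fun e => h (split_eq a1 a2 b1 b2 e).1
      simp [h, h', this]
    · have : ¬ (φ * ψ = φ' * ψ') := fun e => h (split_eq a1 a2 b1 b2 e).1
      simp [h, h', this]

theorem a_split (W₁ W₂ : Subgroup G) (χ : (↥(W₁ ⊔ W₂) →* ℂˣ) → (G → ℂ))
    (hχ : IsCyclicTIFamily W₁ W₂ χ) (θ : G → ℂ) (hθ : IsClassFunction G θ)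
    (hθV : ∀ w : ↥(W₁ ⊔ W₂), (w : G) ∉ W₁ → (w : G) ∉ W₂ → θ w = 0)
    (φ ψ : ↥(W₁ ⊔ W₂) →* ℂˣ)
    (hφ : ∀ w : ↥(W₁ ⊔ W₂), (w : G) ∈ W₂ → φ w = 1)
    (hψ : ∀ w : ↥(W₁ ⊔ W₂), (w : G) ∈ W₁ → ψ w = 1) :
    classInner θ (χ (φ * ψ)) = classInner θ (χ φ) + classInner θ (χ ψ) - classInner θ (χ 1) := by
  by_cases h1 : φ = 1
  · subst h1; rw [hom_one_mul]; ring
  by_cases h2 : ψ = 1
  · subst h2; rw [hom_mul_one]; ring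
  letI : Fintype ↥(W₁ ⊔ W₂) := Fintype.ofFinite _
  have hind := hχ.induced_eq φ ψ h1 h2 hφ hψ
  have hzero : classInner (indFun (W₁ ⊔ W₂) (alpha φ ψ)) θ = 0 := by
    rw [Cfsg.Agent.S0146.result (W₁ ⊔ W₂) (alpha φ ψ) θ hθ]
    unfold classInner
    rw [Finset.sum_eq_zero, mul_zero]
    intro w _
    by_cases hw : (w:G) ∈ W₁ ∨ (w:G) ∈ W₂
    · rw [alpha_eq_zero hφ hψ w hw, zero_mul]
    · push_neg at hw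
      have := hθV w hw.1 hw.2
      simp [this]
  have hfun : indFun (W₁ ⊔ W₂) (alpha φ ψ) = χ 1 - χ φ - χ ψ + χ (φ * ψ) := by
    rw [show indFun (W₁ ⊔ W₂) (alpha φ ψ) = _ from hind, hχ.map_one]
    funext g; simp
  rw [hfun] at hzero
  have := congrArg (starRingEnd ℂ) hzero
  rw [classInner_conj_symm, map_zero] at this
  simp only [classInner_add_right, classInner_sub_right] at this
  linear_combination this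

theorem s1506 (W₁ W₂ : Subgroup G) (χ : (↥(W₁ ⊔ W₂) →* ℂˣ) → (G → ℂ))
    (hχ : IsCyclicTIFamily W₁ W₂ χ) (θ : G → ℂ) (hθ : IsClassFunction G θ)
    (hθV : ∀ w : ↥(W₁ ⊔ W₂), (w : G) ∉ W₁ → (w : G) ∉ W₂ → θ w = 0)
    (φ φ' ψ ψ' : ↥(W₁ ⊔ W₂) →* ℂˣ)
    (hφ₂ : ∀ w : ↥(W₁ ⊔ W₂), (w : G) ∈ W₂ → φ w = 1 ∧ φ' w = 1)
    (hψ₁ : ∀ w : ↥(W₁ ⊔ W₂), (w : G) ∈ W₁ → ψ w = 1 ∧ ψ' w = 1) :
    classInner θ (χ (φ * ψ)) + classInner θ (χ (φ' * ψ')) =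
      classInner θ (χ (φ * ψ')) + classInner θ (χ (φ' * ψ)) := by
  have a1 : ∀ w : ↥(W₁ ⊔ W₂), (w:G) ∈ W₂ → φ w = 1 := fun w h => (hφ₂ w h).1
  have a2 : ∀ w : ↥(W₁ ⊔ W₂), (w:G) ∈ W₂ → φ' w = 1 := fun w h => (hφ₂ w h).2
  have b1 : ∀ w : ↥(W₁ ⊔ W₂), (w:G) ∈ W₁ → ψ w = 1 := fun w h => (hψ₁ w h).1
  have b2 : ∀ w : ↥(W₁ ⊔ W₂), (w:G) ∈ W₁ → ψ' w = 1 := fun w h => (hψ₁ w h).2
  rw [a_split W₁ W₂ χ hχ θ hθ hθV φ ψ a1 b1, a_split W₁ W₂ χ hχ θ hθ hθV φ' ψ' a2 b2,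
    a_split W₁ W₂ χ hχ θ hθ hθV φ ψ' a1 b2, a_split W₁ W₂ χ hχ θ hθ hθV φ' ψ a2 b1]
  ring

end main

end Cfsg.Agent.Lib.Lead.CycTI
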