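import Mathlib
import Cfsg.Agent.Lib.Lead.CycTI2

set_option autoImplicit false
open Cfsg

namespace Cfsg.Agent.Lib.Lead.CycTI

open Cfsg.Agent.Lib.Helper6

section dual
variable {A : Type*} [Group A] [Finite A]

/-- annihilator of a subgroup in the dual group -/
def ann (H : Subgroup A) : Subgroup (A →* ℂˣ) where
  carrier := {φ | ∀ y ∈ H, φ y = 1}
  one_mem' := fun y _ => rfl
  mul_mem' := by
    intro a b ha hb y hy
    rw [MonoidHom.mul_apply, ha y hy, hb y hy, mul_one]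
  inv_mem' := by
    intro a ha y hy
    rw [MonoidHom.inv_apply, ha y hy, inv_one]

lemma mem_ann {H : Subgroup A} {φ : A →* ℂˣ} : φ ∈ ann H ↔ ∀ y ∈ H, φ y = 1 := Iff.rfl

lemma exists_ann_ne_one (hcomm : ∀ a b : A, a * b = b * a) (H : Subgroup A) {x : A}
    (hx : x ∉ H) : ∃ φ ∈ ann H, φ x ≠ 1 := by
  letI : CommGroup A := { ‹Group A› with mul_comm := hcomm }
  haveI : NeZero (Monoid.exponent A) := ⟨Monoid.exponent_ne_zero_of_finite⟩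
  have := (CommGroup.forall_monoidHom_apply_eq_one_iff ℂ H x).not.mpr hx
  push Not at this
  obtain ⟨φ, h1, h2⟩ := this
  exact ⟨φ, h1, h2⟩

lemma card_ann (hcomm : ∀ a b : A, a * b = b * a) (H : Subgroup A) :
    Nat.card ↥(ann H) = H.index := by
  letI : CommGroup A := { ‹Group A› with mul_comm := hcomm }
  haveI : NeZero (Monoid.exponent A) := ⟨Monoid.exponent_ne_zero_of_finite⟩
  have h := CommGroup.card_domRestrictHom_ker ℂ H
  rw [Subgroup.index, ← h]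
  refine Nat.card_congr (Equiv.subtypeEquivRight fun φ => ?_)
  rw [MonoidHom.mem_ker, MonoidHom.domRestrictHom_apply, MonoidHom.domRestrict_eq_one_iff]
  rfl

open Classical in
lemma sum_ann (hcomm : ∀ a b : A, a * b = b * a) (H : Subgroup A) [Fintype ↥(ann H)] (x : A) :
    ∑ φ : ↥(ann H), (((φ : A →* ℂˣ) x : ℂˣ) : ℂ) = if x ∈ H then (Nat.card ↥(ann H) : ℂ) else 0 := by
  let f : ↥(ann H) →* ℂ :=
    (Units.coeHom ℂ).comp ((MonoidHom.eval x).comp (ann H).subtype)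
  have hf : ∀ φ : ↥(ann H), f φ = (((φ : A →* ℂˣ) x : ℂˣ) : ℂ) := fun φ => rfl
  have hs := sum_hom_units f
  simp only [hf] at hs
  rw [hs]
  by_cases hx : x ∈ H
  · have : f = 1 := by
      refine MonoidHom.ext fun φ => ?_
      rw [hf, φ.2 x hx]; rfl
    rw [if_pos this, if_pos hx, Nat.card_eq_fintype_card]
  · have : f ≠ 1 := by
      intro h1
      obtain ⟨φ, hφ, hne⟩ := exists_ann_ne_one hcomm H hx
      have := DFunLike.congr_fun h1 ⟨φ, hφ⟩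
      rw [hf] at this
      apply hne
      exact Units.ext this
    rw [if_neg this, if_neg hx, Nat.cast_zero]

theorem vanish_of_orth (hcomm : ∀ a b : A, a * b = b * a) (A₁ A₂ : Subgroup A)
    (hdisj : A₁ ⊓ A₂ = ⊥) [Fintype A] (f : A → ℂ)
    (hB : ∀ φ ∈ ann A₂, ∀ ψ ∈ ann A₁,
      ∑ w, (1 - ((φ w : ℂˣ) : ℂ)) * (1 - ((ψ w : ℂˣ) : ℂ)) * f w = 0)
    (w₀ : A) (h1 : w₀ ∉ A₁) (h2 : w₀ ∉ A₂) : f w₀ = 0 := by
  classical
  letI : Fintype ↥(ann A₂) := Fintype.ofFinite _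
  letI : Fintype ↥(ann A₁) := Fintype.ofFinite _
  set P : A → ℂ := fun w => ∑ φ : ↥(ann A₂),
    (((φ : A →* ℂˣ) w₀⁻¹ : ℂˣ) : ℂ) * (1 - (((φ : A →* ℂˣ) w : ℂˣ) : ℂ)) with hP
  set Q : A → ℂ := fun w => ∑ ψ : ↥(ann A₁),
    (((ψ : A →* ℂˣ) w₀⁻¹ : ℂˣ) : ℂ) * (1 - (((ψ : A →* ℂˣ) w : ℂˣ) : ℂ)) with hQ
  have key : ∀ (H : Subgroup A) [Fintype ↥(ann H)], w₀ ∉ H → ∀ w,
      ∑ φ : ↥(ann H), (((φ : A →* ℂˣ) w₀⁻¹ : ℂˣ) : ℂ) * (1 - (((φ : A →* ℂˣ) w : ℂˣ) : ℂ))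
        = - (Nat.card ↥(ann H) : ℂ) * (if w₀⁻¹ * w ∈ H then 1 else 0) := by
    intro H _ hw₀ w
    simp only [mul_sub, mul_one, Finset.sum_sub_distrib]
    have e1 := sum_ann hcomm H w₀⁻¹
    have e2 := sum_ann hcomm H (w₀⁻¹ * w)
    rw [if_neg (by simpa using hw₀)] at e1
    have e3 : ∑ φ : ↥(ann H), (((φ : A →* ℂˣ) w₀⁻¹ : ℂˣ) : ℂ) * (((φ : A →* ℂˣ) w : ℂˣ) : ℂ)
        = ∑ φ : ↥(ann H), (((φ : A →* ℂˣ) (w₀⁻¹ * w) : ℂˣ) : ℂ) := by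
      refine Finset.sum_congr rfl fun φ _ => ?_
      rw [map_mul, Units.val_mul]
    rw [e1, e3, e2]
    split_ifs <;> simp
  have hPv : ∀ w, P w = - (Nat.card ↥(ann A₂) : ℂ) * (if w₀⁻¹ * w ∈ A₂ then 1 else 0) :=
    fun w => key A₂ h2 w
  have hQv : ∀ w, Q w = - (Nat.card ↥(ann A₁) : ℂ) * (if w₀⁻¹ * w ∈ A₁ then 1 else 0) :=
    fun w => key A₁ h1 w
  have hsum : ∑ w, f w * (P w * Q w) = 0 := by
    calc ∑ w, f w * (P w * Q w)
        = ∑ w, ∑ φ : ↥(ann A₂), ∑ ψ : ↥(ann A₁),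
            ((((φ : A →* ℂˣ) w₀⁻¹ : ℂˣ) : ℂ) * (((ψ : A →* ℂˣ) w₀⁻¹ : ℂˣ) : ℂ)) *
            ((1 - (((φ : A →* ℂˣ) w : ℂˣ) : ℂ)) * (1 - (((ψ : A →* ℂˣ) w : ℂˣ) : ℂ)) * f w) := by
          refine Finset.sum_congr rfl fun w _ => ?_
          simp only [hP, hQ]
          rw [Finset.sum_mul_sum, Finset.mul_sum]
          refine Finset.sum_congr rfl fun φ _ => ?_
          rw [Finset.mul_sum]
          refine Finset.sum_congr rfl fun ψ _ => ?_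
          ring
      _ = ∑ φ : ↥(ann A₂), ∑ ψ : ↥(ann A₁), ∑ w,
            ((((φ : A →* ℂˣ) w₀⁻¹ : ℂˣ) : ℂ) * (((ψ : A →* ℂˣ) w₀⁻¹ : ℂˣ) : ℂ)) *
            ((1 - (((φ : A →* ℂˣ) w : ℂˣ) : ℂ)) * (1 - (((ψ : A →* ℂˣ) w : ℂˣ) : ℂ)) * f w) := by
          rw [Finset.sum_comm]
          refine Finset.sum_congr rfl fun φ _ => ?_
          rw [Finset.sum_comm]
      _ = 0 := by
          refine Finset.sum_eq_zero fun φ _ => Finset.sum_eq_zero fun ψ _ => ?_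
          rw [← Finset.mul_sum, hB φ.1 φ.2 ψ.1 ψ.2, mul_zero]
  have hPQ : ∀ w, P w * Q w =
      (Nat.card ↥(ann A₂) : ℂ) * (Nat.card ↥(ann A₁) : ℂ) * (if w = w₀ then 1 else 0) := by
    intro w
    rw [hPv, hQv]
    by_cases hw : w = w₀
    · subst hw
      simp [one_mem]
    · rw [if_neg hw]
      have : ¬ (w₀⁻¹ * w ∈ A₂ ∧ w₀⁻¹ * w ∈ A₁) := by
        rintro ⟨ha, hb⟩
        have : w₀⁻¹ * w ∈ A₁ ⊓ A₂ := ⟨hb, ha⟩
        rw [hdisj, Subgroup.mem_bot, inv_mul_eq_one] at this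
        exact hw this.symm
      by_cases ha : w₀⁻¹ * w ∈ A₂
      · have hb : w₀⁻¹ * w ∉ A₁ := fun hb => this ⟨ha, hb⟩
        simp [hb]
      · simp [ha]
  simp only [hPQ] at hsum
  rw [Finset.sum_eq_single w₀ (fun b _ hb => by simp [hb]) (fun h => absurd (Finset.mem_univ _) h)]
    at hsum
  have c1 : (Nat.card ↥(ann A₂) : ℂ) ≠ 0 := by
    have : Nat.card ↥(ann A₂) ≠ 0 := Nat.card_pos.ne'
    exact_mod_cast this
  have c2 : (Nat.card ↥(ann A₁) : ℂ) ≠ 0 := by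
    have : Nat.card ↥(ann A₁) ≠ 0 := Nat.card_pos.ne'
    exact_mod_cast this
  simpa [c1, c2] using hsum

end dual

section s1503
variable {G : Type*} [Group G] [Fintype G]

lemma mem_ann_subgroupOf {W K : Subgroup G} {φ : ↥W →* ℂˣ} :
    φ ∈ ann (K.subgroupOf W) ↔ ∀ w : ↥W, (w:G) ∈ K → φ w = 1 := by
  rw [mem_ann]
  constructor
  · intro h w hw; exact h w (Subgroup.mem_subgroupOf.mpr hw)
  · intro h w hw; exact h w (Subgroup.mem_subgroupOf.mp hw)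

theorem s1503 (W₁ W₂ : Subgroup G) (hW : IsSelfNormalizingCyclic W₁ W₂)
    (χ : (↥(W₁ ⊔ W₂) →* ℂˣ) → (G → ℂ)) (hχ : IsCyclicTIFamily W₁ W₂ χ) (θ : G → ℂ)
    (hθ : IsClassFunction G θ) (horth : ∀ ω, classInner θ (χ ω) = 0)
    (w : ↥(W₁ ⊔ W₂)) (hw₁ : (w : G) ∉ W₁) (hw₂ : (w : G) ∉ W₂) : θ w = 0 := by
  letI : Fintype ↥(W₁ ⊔ W₂) := Fintype.ofFinite _
  have hcomm := W_comm hW.2.2.2.2.1
  have hdisj : (W₁.subgroupOf (W₁ ⊔ W₂)) ⊓ (W₂.subgroupOf (W₁ ⊔ W₂)) = ⊥ := by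
    rw [eq_bot_iff]
    intro x hx
    have h1 : (x:G) ∈ W₁ ⊓ W₂ :=
      ⟨Subgroup.mem_subgroupOf.mp hx.1, Subgroup.mem_subgroupOf.mp hx.2⟩
    rw [hW.2.2.1, Subgroup.mem_bot] at h1
    exact Subgroup.mem_bot.mpr (Subtype.ext h1)
  have hcard : (Nat.card ↥(W₁ ⊔ W₂) : ℂ) ≠ 0 := by
    have : Nat.card ↥(W₁ ⊔ W₂) ≠ 0 := Nat.card_pos.ne'
    exact_mod_cast this
  have key := vanish_of_orth hcomm (W₁.subgroupOf (W₁ ⊔ W₂)) (W₂.subgroupOf (W₁ ⊔ W₂)) hdisj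
    (fun x : ↥(W₁ ⊔ W₂) => (starRingEnd ℂ) (θ x)) ?_ w
    (fun h => hw₁ (Subgroup.mem_subgroupOf.mp h)) (fun h => hw₂ (Subgroup.mem_subgroupOf.mp h))
  · have := congrArg (starRingEnd ℂ) key
    simpa using this
  · intro φ hφ ψ hψ
    rw [mem_ann_subgroupOf] at hφ hψ
    have hsum : ∑ x : ↥(W₁ ⊔ W₂), (1 - ((φ x : ℂˣ) : ℂ)) * (1 - ((ψ x : ℂˣ) : ℂ)) *
        (starRingEnd ℂ) (θ x) = (Nat.card ↥(W₁ ⊔ W₂) : ℂ) *
          classInner (alpha φ ψ) (fun x : ↥(W₁ ⊔ W₂) => θ x) := by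
      unfold classInner
      rw [← mul_assoc, mul_inv_cancel₀ hcard, one_mul]
      refine Finset.sum_congr rfl fun x _ => ?_
      rw [alpha]; ring
    rw [hsum, ← Cfsg.Agent.S0146.result (W₁ ⊔ W₂) (alpha φ ψ) θ hθ]
    by_cases h1 : φ = 1
    · have : alpha φ ψ = 0 := by
        funext x; subst h1; simp [alpha]
      rw [this]
      have : indFun (W₁ ⊔ W₂) (0 : ↥(W₁ ⊔ W₂) → ℂ) = 0 := by
        funext g; simp [indFun, extendByZero, Function.extend]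
      rw [this, classInner_zero_left, mul_zero]
    by_cases h2 : ψ = 1
    · have : alpha φ ψ = 0 := by
        funext x; subst h2; simp [alpha]
      rw [this]
      have : indFun (W₁ ⊔ W₂) (0 : ↥(W₁ ⊔ W₂) → ℂ) = 0 := by
        funext g; simp [indFun, extendByZero, Function.extend]
      rw [this, classInner_zero_left, mul_zero]
    have hind := hχ.induced_eq φ ψ h1 h2 hφ hψ
    have hfun : indFun (W₁ ⊔ W₂) (alpha φ ψ) = χ 1 - χ φ - χ ψ + χ (φ * ψ) := by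
      rw [show indFun (W₁ ⊔ W₂) (alpha φ ψ) = _ from hind, hχ.map_one]
      funext g; simp
    rw [hfun, ← classInner_conj_symm]
    simp only [classInner_add_right, classInner_sub_right, horth]
    simp

end s1503

end Cfsg.Agent.Lib.Lead.CycTI
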