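import Mathlib
import Cfsg.Agent.Lib.Lead.CycTI3

set_option autoImplicit false
open Cfsg

namespace Cfsg.Agent.Lib.Lead.CycTI

open Cfsg.Agent.Lib.Helper6

section matrix

open Classical in
lemma card_filter_prod {X Y : Type*} [Fintype X] [Fintype Y] (x : X → ℂ) (y : Y → ℂ) :
    (Finset.univ.filter (fun p : X × Y => x p.1 + y p.2 ≠ 0)).card
      = ∑ i : X, (Finset.univ.filter (fun j : Y => x i + y j ≠ 0)).card := by
  rw [Finset.card_filter, ← Finset.univ_product_univ, Finset.sum_product]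
  refine Finset.sum_congr rfl fun i _ => ?_
  rw [Finset.card_filter]

open Classical in
lemma const_case {X Y : Type*} [Fintype X] [Fintype Y] (x : X → ℂ) (y : Y → ℂ)
    (hx : ∀ i i', x i = x i')
    (hN : (Finset.univ.filter (fun p : X × Y => x p.1 + y p.2 ≠ 0)).card < 2 * Fintype.card X) :
    (∀ i j, x i + y j = 0) ∨ (∃ j₀ c, ∀ i j, x i + y j = if j = j₀ then c else 0) := by
  rcases isEmpty_or_nonempty X with hX | ⟨⟨i₀⟩⟩
  · left; intro i; exact (hX.false i).elim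
  set J := Finset.univ.filter (fun j : Y => x i₀ + y j ≠ 0) with hJ
  have hr : ∀ i, (Finset.univ.filter (fun j : Y => x i + y j ≠ 0)).card = J.card :=
    fun i => by rw [hx i i₀]
  have hN' : (Finset.univ.filter (fun p : X × Y => x p.1 + y p.2 ≠ 0)).card
      = Fintype.card X * J.card := by
    rw [card_filter_prod]
    simp only [hr, Finset.sum_const, Finset.card_univ, smul_eq_mul]
  rw [hN'] at hN
  have hJ1 : J.card < 2 := by
    by_contra hcon
    push Not at hcon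
    nlinarith
  have hcases : J.card = 0 ∨ J.card = 1 := by omega
  rcases hcases with h0 | h1
  · left
    intro i j
    rw [hx i i₀]
    by_contra h
    have hj : j ∈ J := by simp [hJ, h]
    rw [Finset.card_eq_zero.mp h0] at hj
    simp at hj
  · right
    obtain ⟨j₀, hj₀⟩ := Finset.card_eq_one.mp h1
    refine ⟨j₀, x i₀ + y j₀, fun i j => ?_⟩
    rw [hx i i₀]
    by_cases hj : j = j₀
    · subst hj; simp
    · rw [if_neg hj]
      by_contra h
      have hjJ : j ∈ J := by simp [hJ, h]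
      rw [hj₀] at hjJ
      exact hj (Finset.mem_singleton.mp hjJ)

open Classical in
theorem matrix_lemma {X Y : Type*} [Fintype X] [Fintype Y] (x : X → ℂ) (y : Y → ℂ)
    (hXY : Fintype.card X + 2 ≤ Fintype.card Y)
    (hN : (Finset.univ.filter (fun p : X × Y => x p.1 + y p.2 ≠ 0)).card < 2 * Fintype.card X) :
    (∀ i j, x i + y j = 0) ∨ (∃ j₀ c, ∀ i j, x i + y j = if j = j₀ then c else 0) ∨
      (∃ i₀ c, ∀ i j, x i + y j = if i = i₀ then c else 0) := by
  by_cases hx : ∀ i i', x i = x i'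
  · rcases const_case x y hx hN with h | h
    · exact Or.inl h
    · exact Or.inr (Or.inl h)
  by_cases hy : ∀ j j', y j = y j'
  · have hswap : (Finset.univ.filter (fun p : Y × X => y p.1 + x p.2 ≠ 0)).card
        = (Finset.univ.filter (fun p : X × Y => x p.1 + y p.2 ≠ 0)).card := by
      refine Finset.card_bij (fun p _ => (p.2, p.1)) ?_ ?_ ?_
      · intro p hp
        simp only [Finset.mem_filter, Finset.mem_univ, true_and] at hp ⊢
        rwa [add_comm]
      · intro p _ q _ h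
        simp only [Prod.mk.injEq] at h
        exact Prod.ext h.2 h.1
      · intro q hq
        refine ⟨(q.2, q.1), ?_, rfl⟩
        simp only [Finset.mem_filter, Finset.mem_univ, true_and] at hq ⊢
        rwa [add_comm]
    have hN2 : (Finset.univ.filter (fun p : Y × X => y p.1 + x p.2 ≠ 0)).card
        < 2 * Fintype.card Y := by rw [hswap]; omega
    rcases const_case y x hy hN2 with h | ⟨i₀, c, h⟩
    · left; intro i j; rw [add_comm]; exact h j i
    · right; right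
      exact ⟨i₀, c, fun i j => by rw [add_comm]; exact h j i⟩
  exfalso
  push Not at hx hy
  obtain ⟨i₁, i₂, hi⟩ := hx
  obtain ⟨j₁, j₂, hj⟩ := hy
  set r : X → ℕ := fun i => (Finset.univ.filter (fun j : Y => x i + y j ≠ 0)).card with hr
  have h12 : Fintype.card Y ≤ r i₁ + r i₂ := by
    simp only [hr]
    rw [Finset.card_filter, Finset.card_filter, ← Finset.sum_add_distrib]
    calc Fintype.card Y = ∑ _j : Y, 1 := by simp
      _ ≤ _ := Finset.sum_le_sum fun j _ => by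
          by_cases h : x i₁ + y j = 0
          · have h2 : x i₂ + y j ≠ 0 := by
              intro h2
              apply hi
              have := h.trans h2.symm
              exact add_right_cancel this
            simp [h, h2]
          · simp [h]
  have hother : ∀ i, 1 ≤ r i := by
    intro i
    simp only [hr]
    apply Finset.card_pos.mpr
    by_cases h : x i + y j₁ = 0
    · refine ⟨j₂, ?_⟩
      simp only [Finset.mem_filter, Finset.mem_univ, true_and]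
      intro h2
      apply hj
      have := h.trans h2.symm
      exact add_left_cancel this
    · exact ⟨j₁, by simp [h]⟩
  have hne : i₁ ≠ i₂ := fun h => hi (by rw [h])
  have hsum : ∑ i, r i = r i₁ + (r i₂ + ∑ i ∈ (Finset.univ.erase i₁).erase i₂, r i) := by
    rw [Finset.add_sum_erase (Finset.univ.erase i₁) r
      (Finset.mem_erase.mpr ⟨Ne.symm hne, Finset.mem_univ i₂⟩),
      Finset.add_sum_erase Finset.univ r (Finset.mem_univ i₁)]
  have hrest : ((Finset.univ.erase i₁).erase i₂).card ≤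
      ∑ i ∈ (Finset.univ.erase i₁).erase i₂, r i := by
    rw [Finset.card_eq_sum_ones]
    exact Finset.sum_le_sum fun i _ => hother i
  have hc : ((Finset.univ.erase i₁).erase i₂).card = Fintype.card X - 2 := by
    rw [Finset.card_erase_of_mem (Finset.mem_erase.mpr ⟨Ne.symm hne, Finset.mem_univ i₂⟩),
      Finset.card_erase_of_mem (Finset.mem_univ i₁), Finset.card_univ]
    omega
  have h2 : 2 ≤ Fintype.card X := by
    have : ({i₁, i₂} : Finset X).card ≤ Fintype.card X := Finset.card_le_univ _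
    rwa [Finset.card_pair hne] at this
  rw [card_filter_prod] at hN
  change ∑ i, r i < _ at hN
  omega

end matrix

section dual2
variable {A : Type*} [Group A] [Finite A]

lemma ann_eq_one {A₁ A₂ : Subgroup A} (hsup : A₁ ⊔ A₂ = ⊤) {l : A →* ℂˣ}
    (h1 : l ∈ ann A₁) (h2 : l ∈ ann A₂) : l = 1 := by
  have : A₁ ⊔ A₂ ≤ l.ker :=
    sup_le (fun x hx => MonoidHom.mem_ker.mpr (h1 x hx)) (fun x hx => MonoidHom.mem_ker.mpr (h2 x hx))
  rw [hsup] at this
  exact MonoidHom.ext fun w => MonoidHom.mem_ker.mp (this (Subgroup.mem_top w))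

lemma split_eq' {A₁ A₂ : Subgroup A} (hsup : A₁ ⊔ A₂ = ⊤) {φ φ' ψ ψ' : A →* ℂˣ}
    (hφ : φ ∈ ann A₂) (hφ' : φ' ∈ ann A₂) (hψ : ψ ∈ ann A₁) (hψ' : ψ' ∈ ann A₁)
    (h : φ * ψ = φ' * ψ') : φ = φ' ∧ ψ = ψ' := by
  have hpt : ∀ w, φ w * ψ w = φ' w * ψ' w := fun w => by
    have := DFunLike.congr_fun h w
    simpa using this
  have h1 : φ * φ'⁻¹ = 1 := by
    apply ann_eq_one hsup
    · intro w hw
      have := hpt w
      rw [hψ w hw, hψ' w hw, mul_one, mul_one] at this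
      simp [this]
    · exact (ann A₂).mul_mem hφ ((ann A₂).inv_mem hφ')
  have h2 : φ = φ' := by
    refine MonoidHom.ext fun w => ?_
    have := DFunLike.congr_fun h1 w
    simpa [mul_inv_eq_one] using this
  refine ⟨h2, ?_⟩
  subst h2
  refine MonoidHom.ext fun w => ?_
  exact mul_left_cancel (hpt w)

lemma index_of_compl (hcomm : ∀ a b : A, a * b = b * a) (A₁ A₂ : Subgroup A)
    (hdisj : A₁ ⊓ A₂ = ⊥) (hsup : A₁ ⊔ A₂ = ⊤) : A₂.index = Nat.card A₁ := by
  haveI : A₂.Normal := ⟨fun n hn g => by rw [hcomm g n, mul_inv_cancel_right]; exact hn⟩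
  rw [← Subgroup.relIndex_top_right, ← hsup, Subgroup.relIndex_sup_right,
    ← Subgroup.inf_relIndex_right A₂ A₁, inf_comm, hdisj, Subgroup.relIndex_bot_left]

lemma card_dual (hcomm : ∀ a b : A, a * b = b * a) : Nat.card (A →* ℂˣ) = Nat.card A := by
  letI : CommGroup A := { ‹Group A› with mul_comm := hcomm }
  haveI : NeZero (Monoid.exponent A) := ⟨Monoid.exponent_ne_zero_of_finite⟩
  exact CommGroup.card_monoidHom_of_hasEnoughRootsOfUnity A ℂ

open Classical in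
theorem dual_matrix (hcomm : ∀ a b : A, a * b = b * a) (A₁ A₂ : Subgroup A)
    (hdisj : A₁ ⊓ A₂ = ⊥) (hsup : A₁ ⊔ A₂ = ⊤) (a : (A →* ℂˣ) → ℂ)
    (hsplit : ∀ φ ∈ ann A₂, ∀ ψ ∈ ann A₁, a (φ * ψ) = a φ + a ψ - a 1)
    (hcard : Nat.card A₁ + 2 ≤ Nat.card A₂)
    (hfew : Nat.card {ω : A →* ℂˣ // a ω ≠ 0} < 2 * Nat.card A₁) :
    (∀ ω, a ω = 0) ∨
    (∃ (ψ₀ : A →* ℂˣ) (c : ℂ), ∀ ω, a ω = if ω * ψ₀⁻¹ ∈ ann A₂ then c else 0) ∨
    (∃ (φ₀ : A →* ℂˣ) (c : ℂ), ∀ ω, a ω = if ω * φ₀⁻¹ ∈ ann A₁ then c else 0) := by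
  letI : Fintype ↥(ann A₂) := Fintype.ofFinite _
  letI : Fintype ↥(ann A₁) := Fintype.ofFinite _
  letI : Fintype (A →* ℂˣ) := Fintype.ofFinite _
  have hdisj' : A₂ ⊓ A₁ = ⊥ := by rw [inf_comm]; exact hdisj
  have hsup' : A₂ ⊔ A₁ = ⊤ := by rw [sup_comm]; exact hsup
  have cX : Fintype.card ↥(ann A₂) = Nat.card A₁ := by
    rw [← Nat.card_eq_fintype_card, card_ann hcomm, index_of_compl hcomm A₁ A₂ hdisj hsup]
  have cY : Fintype.card ↥(ann A₁) = Nat.card A₂ := by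
    rw [← Nat.card_eq_fintype_card, card_ann hcomm, index_of_compl hcomm A₂ A₁ hdisj' hsup']
  let e : ↥(ann A₂) × ↥(ann A₁) → (A →* ℂˣ) := fun p => (p.1 : A →* ℂˣ) * (p.2 : A →* ℂˣ)
  have he_inj : Function.Injective e := by
    intro p q h
    obtain ⟨h1, h2⟩ := split_eq' hsup p.1.2 q.1.2 p.2.2 q.2.2 h
    exact Prod.ext (Subtype.ext h1) (Subtype.ext h2)
  have he_bij : Function.Bijective e := by
    refine Function.Injective.bijective_of_nat_card_le he_inj ?_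
    rw [card_dual hcomm, Nat.card_prod, Nat.card_eq_fintype_card (α := ↥(ann A₂)),
      Nat.card_eq_fintype_card (α := ↥(ann A₁)), cX, cY, ← Subgroup.card_mul_index A₂, index_of_compl hcomm A₁ A₂ hdisj hsup, mul_comm]
  set x : ↥(ann A₂) → ℂ := fun φ => a φ.1 - a 1 with hx
  set y : ↥(ann A₁) → ℂ := fun ψ => a ψ.1 with hy
  have hM : ∀ p, a (e p) = x p.1 + y p.2 := by
    intro p
    simp only [hx, hy]
    rw [show e p = (p.1 : A →* ℂˣ) * (p.2 : A →* ℂˣ) from rfl, hsplit _ p.1.2 _ p.2.2]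
    ring
  have hcount : Nat.card {ω : A →* ℂˣ // a ω ≠ 0} =
      (Finset.univ.filter (fun p : ↥(ann A₂) × ↥(ann A₁) => x p.1 + y p.2 ≠ 0)).card := by
    rw [← Fintype.card_subtype, ← Nat.card_eq_fintype_card]
    refine (Nat.card_congr ?_).symm
    exact (Equiv.ofBijective e he_bij).subtypeEquiv (fun p => by
      rw [Equiv.ofBijective_apply, hM])
  rw [hcount, ← cX] at hfew
  rw [← cX, ← cY] at hcard
  rcases matrix_lemma x y hcard hfew with h | ⟨j₀, c, h⟩ | ⟨i₀, c, h⟩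
  · left
    intro ω
    obtain ⟨p, rfl⟩ := he_bij.2 ω
    rw [hM]; exact h _ _
  · right; left
    refine ⟨j₀.1, c, fun ω => ?_⟩
    obtain ⟨p, rfl⟩ := he_bij.2 ω
    rw [hM, h]
    have hiff : p.2 = j₀ ↔ e p * (j₀ : A →* ℂˣ)⁻¹ ∈ ann A₂ := by
      have hmu : (p.2 : A →* ℂˣ) * (j₀ : A →* ℂˣ)⁻¹ ∈ ann A₁ :=
        (ann A₁).mul_mem p.2.2 ((ann A₁).inv_mem j₀.2)
      have hrel : e p * (j₀ : A →* ℂˣ)⁻¹ ∈ ann A₂ ↔
          (p.2 : A →* ℂˣ) * (j₀ : A →* ℂˣ)⁻¹ ∈ ann A₂ := by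
        constructor
        · intro h' w hw
          have := h' w hw
          simp only [e, MonoidHom.mul_apply, MonoidHom.inv_apply] at this ⊢
          rwa [p.1.2 w hw, one_mul] at this
        · intro h' w hw
          have := h' w hw
          simp only [e, MonoidHom.mul_apply, MonoidHom.inv_apply] at this ⊢
          rwa [p.1.2 w hw, one_mul]
      rw [hrel]
      constructor
      · intro hp
        rw [hp]
        intro w _
        simp
      · intro h'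
        have h1 := ann_eq_one hsup hmu h'
        apply Subtype.ext
        refine MonoidHom.ext fun w => ?_
        have := DFunLike.congr_fun h1 w
        simpa [mul_inv_eq_one] using this
    by_cases hp : p.2 = j₀
    · rw [if_pos hp, if_pos (hiff.mp hp)]
    · rw [if_neg hp, if_neg (fun h' => hp (hiff.mpr h'))]
  · right; right
    refine ⟨i₀.1, c, fun ω => ?_⟩
    obtain ⟨p, rfl⟩ := he_bij.2 ω
    rw [hM, h]
    have hiff : p.1 = i₀ ↔ e p * (i₀ : A →* ℂˣ)⁻¹ ∈ ann A₁ := by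
      have hmu : (p.1 : A →* ℂˣ) * (i₀ : A →* ℂˣ)⁻¹ ∈ ann A₂ :=
        (ann A₂).mul_mem p.1.2 ((ann A₂).inv_mem i₀.2)
      have hrel : e p * (i₀ : A →* ℂˣ)⁻¹ ∈ ann A₁ ↔
          (p.1 : A →* ℂˣ) * (i₀ : A →* ℂˣ)⁻¹ ∈ ann A₁ := by
        constructor
        · intro h' w hw
          have := h' w hw
          simp only [e, MonoidHom.mul_apply, MonoidHom.inv_apply] at this ⊢
          rwa [p.2.2 w hw, mul_one] at this
        · intro h' w hw
          have := h' w hw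
          simp only [e, MonoidHom.mul_apply, MonoidHom.inv_apply] at this ⊢
          rwa [p.2.2 w hw, mul_one]
      rw [hrel]
      constructor
      · intro hp
        rw [hp]
        intro w _
        simp
      · intro h'
        have h1 := ann_eq_one hsup h' hmu
        apply Subtype.ext
        refine MonoidHom.ext fun w => ?_
        have := DFunLike.congr_fun h1 w
        simpa [mul_inv_eq_one] using this
    by_cases hp : p.1 = i₀
    · rw [if_pos hp, if_pos (hiff.mp hp)]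
    · rw [if_neg hp, if_neg (fun h' => hp (hiff.mpr h'))]

end dual2

section s1507
variable {G : Type*} [Group G] [Fintype G]

open Classical in
theorem s1507 (W₁ W₂ : Subgroup G) (hW : IsSelfNormalizingCyclic W₁ W₂)
    (hodd : Odd (Nat.card ↥(W₁ ⊔ W₂))) (χ : (↥(W₁ ⊔ W₂) →* ℂˣ) → (G → ℂ))
    (hχ : IsCyclicTIFamily W₁ W₂ χ) (hlt : Nat.card W₁ < Nat.card W₂) (θ : G → ℂ)
    (hθ : IsClassFunction G θ)
    (hθV : ∀ w : ↥(W₁ ⊔ W₂), (w : G) ∉ W₁ → (w : G) ∉ W₂ → θ w = 0)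
    (hfew : Nat.card {ω : ↥(W₁ ⊔ W₂) →* ℂˣ // classInner θ (χ ω) ≠ 0} < 2 * Nat.card W₁) :
    (∀ ω, classInner θ (χ ω) = 0) ∨
    (∃ (ψ₀ : ↥(W₁ ⊔ W₂) →* ℂˣ) (a : ℂ), ∀ ω, classInner θ (χ ω) =
      if (∀ w : ↥(W₁ ⊔ W₂), (w : G) ∈ W₂ → (ω * ψ₀⁻¹) w = 1) then a else 0) ∨
    (∃ (φ₀ : ↥(W₁ ⊔ W₂) →* ℂˣ) (a : ℂ), ∀ ω, classInner θ (χ ω) =
      if (∀ w : ↥(W₁ ⊔ W₂), (w : G) ∈ W₁ → (ω * φ₀⁻¹) w = 1) then a else 0) := by
  have hcomm := W_comm hW.2.2.2.2.1
  have hdisj : (W₁.subgroupOf (W₁ ⊔ W₂)) ⊓ (W₂.subgroupOf (W₁ ⊔ W₂)) = ⊥ := by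
    rw [eq_bot_iff]
    intro x hx
    have h1 : (x:G) ∈ W₁ ⊓ W₂ :=
      ⟨Subgroup.mem_subgroupOf.mp hx.1, Subgroup.mem_subgroupOf.mp hx.2⟩
    rw [hW.2.2.1, Subgroup.mem_bot] at h1
    exact Subgroup.mem_bot.mpr (Subtype.ext h1)
  have hsup : (W₁.subgroupOf (W₁ ⊔ W₂)) ⊔ (W₂.subgroupOf (W₁ ⊔ W₂)) = ⊤ := by
    rw [eq_top_iff]
    intro w _
    have h1 : ((W₁.subgroupOf (W₁ ⊔ W₂)) ⊔ (W₂.subgroupOf (W₁ ⊔ W₂))).map (W₁ ⊔ W₂).subtype
        = W₁ ⊔ W₂ := by
      rw [Subgroup.map_sup, Subgroup.subgroupOf_map_subtype, Subgroup.subgroupOf_map_subtype,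
        inf_of_le_left le_sup_left, inf_of_le_left le_sup_right]
    have : (w:G) ∈ ((W₁.subgroupOf (W₁ ⊔ W₂)) ⊔ (W₂.subgroupOf (W₁ ⊔ W₂))).map
        (W₁ ⊔ W₂).subtype := by rw [h1]; exact w.2
    obtain ⟨w', hw', hww⟩ := this
    have : w' = w := Subtype.ext hww
    rwa [← this]
  have c1 : Nat.card (W₁.subgroupOf (W₁ ⊔ W₂)) = Nat.card W₁ :=
    Nat.card_congr (Subgroup.subgroupOfEquivOfLe le_sup_left).toEquiv
  have c2 : Nat.card (W₂.subgroupOf (W₁ ⊔ W₂)) = Nat.card W₂ :=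
    Nat.card_congr (Subgroup.subgroupOfEquivOfLe le_sup_right).toEquiv
  have o1 : Odd (Nat.card W₁) := Odd.of_dvd_nat hodd (Subgroup.card_dvd_of_le le_sup_left)
  have o2 : Odd (Nat.card W₂) := Odd.of_dvd_nat hodd (Subgroup.card_dvd_of_le le_sup_right)
  have hcard : Nat.card (W₁.subgroupOf (W₁ ⊔ W₂)) + 2 ≤ Nat.card (W₂.subgroupOf (W₁ ⊔ W₂)) := by
    rw [c1, c2]; obtain ⟨k, hk⟩ := o1; obtain ⟨l, hl⟩ := o2; omega
  have hsplit : ∀ φ ∈ ann (W₂.subgroupOf (W₁ ⊔ W₂)), ∀ ψ ∈ ann (W₁.subgroupOf (W₁ ⊔ W₂)),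
      classInner θ (χ (φ * ψ)) = classInner θ (χ φ) + classInner θ (χ ψ) - classInner θ (χ 1) := by
    intro φ hφ ψ hψ
    exact a_split W₁ W₂ χ hχ θ hθ hθV φ ψ (mem_ann_subgroupOf.mp hφ) (mem_ann_subgroupOf.mp hψ)
  rw [← c1] at hfew
  rcases dual_matrix hcomm _ _ hdisj hsup (fun ω => classInner θ (χ ω)) hsplit hcard hfew
    with h | ⟨ψ₀, c, h⟩ | ⟨φ₀, c, h⟩
  · exact Or.inl h
  · right; left
    refine ⟨ψ₀, c, fun ω => ?_⟩
    rw [h ω]
    by_cases hp : ω * ψ₀⁻¹ ∈ ann (W₂.subgroupOf (W₁ ⊔ W₂))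
    · rw [if_pos hp, if_pos (mem_ann_subgroupOf.mp hp)]
    · rw [if_neg hp, if_neg (fun h' => hp (mem_ann_subgroupOf.mpr h'))]
  · right; right
    refine ⟨φ₀, c, fun ω => ?_⟩
    rw [h ω]
    by_cases hp : ω * φ₀⁻¹ ∈ ann (W₁.subgroupOf (W₁ ⊔ W₂))
    · rw [if_pos hp, if_pos (mem_ann_subgroupOf.mp hp)]
    · rw [if_neg hp, if_neg (fun h' => hp (mem_ann_subgroupOf.mpr h'))]

end s1507

end Cfsg.Agent.Lib.Lead.CycTI
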