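import Mathlib
import Cfsg.Agent.Lib.Lead.CycTI4
import Cfsg.Agent.Lib.Helper6.GaloisConj
import Cfsg.Agent.Lib.Helper3.GaloisRat
import Cfsg.Agent.Lib.Helper6.BlkDefect
import Cfsg.Agent.Lib.Helper6.DegreeDvd

set_option autoImplicit false
open Cfsg

/-! Galois equivariance of the family `χ_ω` attached to a self-normalising cyclic `W`, and
integrality of `χ_ω (g)` for `g` of order prime to the order of `ω`. -/

namespace Cfsg.Agent.Lib.Lead.CycTI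

open Cfsg.Agent.Lib.Helper6
open scoped ComplexConjugate

section dual3
variable {A : Type*} [Group A] [Finite A]

lemma exists_split (hcomm : ∀ a b : A, a * b = b * a) (A₁ A₂ : Subgroup A)
    (hdisj : A₁ ⊓ A₂ = ⊥) (hsup : A₁ ⊔ A₂ = ⊤) (ω : A →* ℂˣ) :
    ∃ φ ∈ ann A₂, ∃ ψ ∈ ann A₁, ω = φ * ψ := by
  classical
  letI : Fintype ↥(ann A₂) := Fintype.ofFinite _
  letI : Fintype ↥(ann A₁) := Fintype.ofFinite _
  have hdisj' : A₂ ⊓ A₁ = ⊥ := by rw [inf_comm]; exact hdisj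
  have hsup' : A₂ ⊔ A₁ = ⊤ := by rw [sup_comm]; exact hsup
  have cX : Fintype.card ↥(ann A₂) = Nat.card A₁ := by
    rw [← Nat.card_eq_fintype_card, card_ann hcomm, index_of_compl hcomm A₁ A₂ hdisj hsup]
  have cY : Fintype.card ↥(ann A₁) = Nat.card A₂ := by
    rw [← Nat.card_eq_fintype_card, card_ann hcomm, index_of_compl hcomm A₂ A₁ hdisj' hsup']
  let e : ↥(ann A₂) × ↥(ann A₁) → (A →* ℂˣ) := fun p => (p.1 : A →* ℂˣ) * (p.2 : A →* ℂˣ)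
  have he_inj : Function.Injective e := by
    intro p q h
    obtain ⟨h1, h2⟩ := split_eq' hsup p.1.2 q.1.2 p.2.2 q.2.2 h
    exact Prod.ext (Subtype.ext h1) (Subtype.ext h2)
  have he_bij : Function.Bijective e := by
    refine Function.Injective.bijective_of_nat_card_le he_inj ?_
    rw [card_dual hcomm, Nat.card_prod, Nat.card_eq_fintype_card (α := ↥(ann A₂)),
      Nat.card_eq_fintype_card (α := ↥(ann A₁)), cX, cY, ← Subgroup.card_mul_index A₂,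
      index_of_compl hcomm A₁ A₂ hdisj hsup, mul_comm]
  obtain ⟨p, hp⟩ := he_bij.2 ω
  exact ⟨p.1.1, p.1.2, p.2.1, p.2.2, hp.symm⟩

lemma hom_one_pow (k : ℕ) : (1 : A →* ℂˣ) ^ k = 1 :=
  MonoidHom.ext fun a => by simp

lemma hom_mul_pow (φ ψ : A →* ℂˣ) (k : ℕ) : (φ * ψ) ^ k = φ ^ k * ψ ^ k :=
  MonoidHom.ext fun a => by simp [mul_pow]

lemma two_nontrivial {H : Type*} [Group H] [Finite H] (h : 2 < Nat.card H) :
    ∃ a b : H, a ≠ 1 ∧ b ≠ 1 ∧ a ≠ b := by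
  classical
  haveI : Fintype H := Fintype.ofFinite _
  rw [Nat.card_eq_fintype_card] at h
  obtain ⟨a, b, c, hab, hac, hbc⟩ := Fintype.two_lt_card_iff.mp h
  by_cases ha : a = 1
  · exact ⟨b, c, fun h => hab (ha.trans h.symm), fun h => hac (ha.trans h.symm), hbc⟩
  by_cases hb : b = 1
  · exact ⟨a, c, ha, fun h => hbc (hb.trans h.symm), hac⟩
  · exact ⟨a, b, ha, hb, hab⟩

end dual3

section signed
variable {G : Type*} [Group G] [Fintype G]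

/-- plus or minus an irreducible character -/
def Sgn (θ : G → ℂ) : Prop := IsIrrCharacter G θ ∨ IsIrrCharacter G (-θ)

theorem sgn_inner {A X : G → ℂ} (hA : Sgn A) (hX : Sgn X) (h : classInner A X ≠ 0) :
    A = X ∨ A = -X := by
  rcases hA with hA | hA <;> rcases hX with hX | hX
  · left
    by_contra hne
    apply h
    rw [classInner_isIrrCharacter hA hX, if_neg hne]
  · right
    by_contra hne
    apply h
    have : classInner A X = - classInner A (-X) := by rw [classInner_neg_right, neg_neg]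
    rw [this, classInner_isIrrCharacter hA hX, if_neg hne, neg_zero]
  · right
    by_contra hne
    apply h
    have : classInner A X = - classInner (-A) X := by rw [classInner_neg_left, neg_neg]
    rw [this, classInner_isIrrCharacter hA hX,
      if_neg (fun e => hne (neg_eq_iff_eq_neg.mp e)), neg_zero]
  · left
    by_contra hne
    apply h
    have : classInner A X = classInner (-A) (-X) := by
      rw [classInner_neg_left, classInner_neg_right, neg_neg]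
    rw [this, classInner_isIrrCharacter hA hX, if_neg (fun e => hne (neg_injective e))]

theorem signed_unique {ι : Type*} (X : ι → G → ℂ) (hX : ∀ i, Sgn (X i))
    (hn : ∀ i, classInner (X i) (X i) = 1) (ho : ∀ i j, i ≠ j → classInner (X i) (X j) = 0)
    (A : G → ℂ) (hA : Sgn A) (i₀ i₁ i₂ i₃ i₄ : ι)
    (h01 : i₀ ≠ i₁) (h02 : i₀ ≠ i₂) (h13 : i₁ ≠ i₃) (h14 : i₁ ≠ i₄) (h23 : i₂ ≠ i₃)
    (h24 : i₂ ≠ i₄)
    (e1 : classInner A (X i₀) + classInner A (X i₁) - classInner A (X i₂) = 1)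
    (e2 : classInner A (X i₀) + classInner A (X i₃) - classInner A (X i₄) = 1) : A = X i₀ := by
  have h_orth : ∀ i j, i ≠ j → (A = X i ∨ A = -X i) → classInner A (X j) = 0 := by
    intro i j hij h
    rcases h with h | h
    · rw [h]; exact ho i j hij
    · rw [h, classInner_neg_left, ho i j hij, neg_zero]
  have hc0 : classInner A (X i₀) ≠ 0 := by
    intro h0
    rw [h0, zero_add] at e1 e2
    have ha : classInner A (X i₁) ≠ 0 ∨ classInner A (X i₂) ≠ 0 := by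
      by_contra hcon
      push_neg at hcon
      rw [hcon.1, hcon.2] at e1
      norm_num at e1
    have hb : classInner A (X i₃) ≠ 0 ∨ classInner A (X i₄) ≠ 0 := by
      by_contra hcon
      push_neg at hcon
      rw [hcon.1, hcon.2] at e2
      norm_num at e2
    rcases ha with ha | ha <;> rcases hb with hb | hb
    · exact hb (h_orth i₁ i₃ h13 (sgn_inner hA (hX i₁) ha))
    · exact hb (h_orth i₁ i₄ h14 (sgn_inner hA (hX i₁) ha))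
    · exact hb (h_orth i₂ i₃ h23 (sgn_inner hA (hX i₂) ha))
    · exact hb (h_orth i₂ i₄ h24 (sgn_inner hA (hX i₂) ha))
  have hs := sgn_inner hA (hX i₀) hc0
  have z1 := h_orth i₀ i₁ h01 hs
  have z2 := h_orth i₀ i₂ h02 hs
  rw [z1, z2, add_zero, sub_zero] at e1
  rcases hs with hs | hs
  · exact hs
  · exfalso
    rw [hs, classInner_neg_left, hn i₀] at e1
    norm_num at e1

theorem classInner_comp_pow {k : ℕ} (hk : Nat.Coprime k (Nat.card G)) (θ θ' : G → ℂ) :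
    classInner (fun g => θ (g ^ k)) (fun g => θ' (g ^ k)) = classInner θ θ' := by
  unfold classInner
  congr 1
  exact Equiv.sum_comp (powCoprime hk.symm) (fun g => θ g * conj (θ' g))

theorem sgn_comp_pow {k : ℕ} (hk : Nat.Coprime k (Nat.card G)) {θ : G → ℂ} (h : Sgn θ) :
    Sgn (fun g => θ (g ^ k)) := by
  rcases h with h | h
  · exact Or.inl (IsIrrCharacter.comp_pow h hk)
  · right
    have := IsIrrCharacter.comp_pow h hk
    exact this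

theorem int_of_pow_invariant {ξ : G → ℂ} (hξ : IsCharacter G ξ) (g : G)
    (h : ∀ k : ℕ, k.Coprime (Nat.card G) → ξ (g ^ k) = ξ g) : ∃ n : ℤ, ξ g = n := by
  obtain ⟨q, hq⟩ :=
    (Cfsg.Agent.Lib.Helper3.GaloisRat.character_rational_iff_coprime hξ g).mpr h
  have hint := IsCharacter.isIntegral_apply hξ g
  rw [hq] at hint
  obtain ⟨m, hm⟩ := int_of_isIntegral_ratCast hint
  refine ⟨m, ?_⟩
  rw [hq, ← hm]
  simp

end signed

theorem exists_lift (n N m k : ℕ) [NeZero n] (hN : N ∣ n) (hm : m ∣ n) (hco : N.Coprime m)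
    (hk : k.Coprime N) : ∃ k', k'.Coprime n ∧ k' ≡ k [MOD N] ∧ k' ≡ 1 [MOD m] := by
  obtain ⟨x, hx1, hx2⟩ := Nat.chineseRemainder hco k 1
  have hd : N * m ∣ n := Nat.Coprime.mul_dvd_of_dvd_of_dvd hco hN hm
  have hxN : x.Coprime N := by
    have := Nat.ModEq.gcd_eq hx1
    unfold Nat.Coprime
    rw [this]; exact hk
  have hxm : x.Coprime m := by
    have := Nat.ModEq.gcd_eq hx2
    unfold Nat.Coprime
    rw [this]; exact Nat.gcd_one_left m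
  have hxd : x.Coprime (N * m) := Nat.Coprime.mul_right hxN hxm
  obtain ⟨v, hv⟩ := ZMod.unitsMap_surjective hd (ZMod.unitOfCoprime x hxd)
  have h1 : (((v : ZMod n).val : ℕ) : ZMod (N * m)) = (x : ZMod (N * m)) := by
    rw [ZMod.natCast_val, ← ZMod.unitsMap_val hd v, hv, ZMod.coe_unitOfCoprime]
  have h2 : (v : ZMod n).val ≡ x [MOD N * m] := (ZMod.natCast_eq_natCast_iff _ _ _).mp h1
  exact ⟨(v : ZMod n).val, ZMod.val_coe_unit_coprime v, (Nat.ModEq.of_mul_right m h2).trans hx1,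
    (Nat.ModEq.of_mul_left N h2).trans hx2⟩

section powabs
variable {A : Type*} [Group A] [Finite A] {G : Type*} [Group G] [Fintype G]

theorem pow_family_abs (hcomm : ∀ a b : A, a * b = b * a) (A₁ A₂ : Subgroup A)
    (hdisj : A₁ ⊓ A₂ = ⊥) (hsup : A₁ ⊔ A₂ = ⊤) (h3₁ : 2 < Nat.card A₁) (h3₂ : 2 < Nat.card A₂)
    (χ : (A →* ℂˣ) → (G → ℂ)) (hs : ∀ ω, Sgn (χ ω))
    (hn : ∀ ω, classInner (χ ω) (χ ω) = 1) (ho : ∀ ω ω', ω ≠ ω' → classInner (χ ω) (χ ω') = 0)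
    (h1 : χ 1 = fun _ => 1) {k : ℕ} (hk : k.Coprime (Nat.card G))
    (hkA : (Nat.card (A →* ℂˣ)).Coprime k)
    (hE : ∀ φ ∈ ann A₂, ∀ ψ ∈ ann A₁, φ ≠ 1 → ψ ≠ 1 → ∀ g,
      χ φ (g ^ k) + χ ψ (g ^ k) - χ (φ * ψ) (g ^ k)
        = χ (φ ^ k) g + χ (ψ ^ k) g - χ (φ ^ k * ψ ^ k) g)
    (ω : A →* ℂˣ) : (fun g => χ ω (g ^ k)) = χ (ω ^ k) := by
  classical
  have hdisj' : A₂ ⊓ A₁ = ⊥ := by rw [inf_comm]; exact hdisj
  have hsup' : A₂ ⊔ A₁ = ⊤ := by rw [sup_comm]; exact hsup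
  have cB₁ : Nat.card ↥(ann A₂) = Nat.card A₁ := by
    rw [card_ann hcomm, index_of_compl hcomm A₁ A₂ hdisj hsup]
  have cB₂ : Nat.card ↥(ann A₁) = Nat.card A₂ := by
    rw [card_ann hcomm, index_of_compl hcomm A₂ A₁ hdisj' hsup']
  have hpinj : ∀ a b : A →* ℂˣ, a ^ k = b ^ k → a = b :=
    fun a b h => (powCoprime hkA).injective h
  have hpne : ∀ a : A →* ℂˣ, a ≠ 1 → a ^ k ≠ 1 :=
    fun a ha h => ha (hpinj a 1 (by rw [h, hom_one_pow]))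
  have neq : ∀ a ∈ ann A₂, ∀ a' ∈ ann A₂, ∀ b ∈ ann A₁, ∀ b' ∈ ann A₁,
      (a ≠ a' ∨ b ≠ b') → a * b ≠ a' * b' := by
    intro a ha a' ha' b hb b' hb' h e
    obtain ⟨e1, e2⟩ := split_eq' hsup ha ha' hb hb' e
    rcases h with h | h
    · exact h e1
    · exact h e2
  have o1 : (1 : A →* ℂˣ) ∈ ann A₂ := (ann A₂).one_mem
  have o2 : (1 : A →* ℂˣ) ∈ ann A₁ := (ann A₁).one_mem
  -- inner products of the key equation with an arbitrary `X`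
  have hEin : ∀ φ ∈ ann A₂, ∀ ψ ∈ ann A₁, φ ≠ 1 → ψ ≠ 1 → ∀ X : G → ℂ,
      classInner X (fun g => χ φ (g ^ k)) + classInner X (fun g => χ ψ (g ^ k))
        - classInner X (fun g => χ (φ * ψ) (g ^ k))
      = classInner X (χ (φ ^ k)) + classInner X (χ (ψ ^ k))
        - classInner X (χ (φ ^ k * ψ ^ k)) := by
    intro φ hφ ψ hψ hφ1 hψ1 X
    have hEf : (fun g => χ φ (g ^ k)) + (fun g => χ ψ (g ^ k)) - (fun g => χ (φ * ψ) (g ^ k))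
        = χ (φ ^ k) + χ (ψ ^ k) - χ (φ ^ k * ψ ^ k) := funext (hE φ hφ ψ hψ hφ1 hψ1)
    have := congrArg (classInner X) hEf
    rw [classInner_sub_right, classInner_add_right, classInner_sub_right,
      classInner_add_right] at this
    exact this
  have hA1 : ∀ φ ∈ ann A₂, φ ≠ 1 → (fun g => χ φ (g ^ k)) = χ (φ ^ k) := by
    intro φ hφ hφ1
    obtain ⟨ψ, ψ', hψ1, hψ'1, hψψ'⟩ := two_nontrivial (H := ↥(ann A₁)) (by rw [cB₂]; exact h3₂)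
    have hψ1' : ψ.1 ≠ 1 := fun h => hψ1 (Subtype.ext h)
    have hψ'1' : ψ'.1 ≠ 1 := fun h => hψ'1 (Subtype.ext h)
    have hψψ'' : ψ.1 ≠ ψ'.1 := fun h => hψψ' (Subtype.ext h)
    have hΦ := (ann A₂).pow_mem hφ k
    have hΨ := (ann A₁).pow_mem ψ.2 k
    have hΨ' := (ann A₁).pow_mem ψ'.2 k
    have hΦ1 := hpne φ hφ1
    have hΨ1 := hpne ψ.1 hψ1'
    have hΨ'1 := hpne ψ'.1 hψ'1'
    have hΨΨ' : ψ.1 ^ k ≠ ψ'.1 ^ k := fun h => hψψ'' (hpinj _ _ h)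
    have p1 : classInner (fun g => χ φ (g ^ k)) (fun g => χ φ (g ^ k)) = 1 :=
      (classInner_comp_pow hk (χ φ) (χ φ)).trans (hn φ)
    have q1 : ∀ ψ₀ ∈ ann A₁, ψ₀ ≠ 1 →
        classInner (fun g => χ φ (g ^ k)) (fun g => χ ψ₀ (g ^ k)) = 0 := by
      intro ψ₀ hψ₀ h
      refine (classInner_comp_pow hk (χ φ) (χ ψ₀)).trans (ho φ ψ₀ ?_)
      have := neq φ hφ 1 o1 1 o2 ψ₀ hψ₀ (Or.inl hφ1)
      rw [hom_mul_one, hom_one_mul] at this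
      exact this
    have q2 : ∀ ψ₀ ∈ ann A₁, ψ₀ ≠ 1 →
        classInner (fun g => χ φ (g ^ k)) (fun g => χ (φ * ψ₀) (g ^ k)) = 0 := by
      intro ψ₀ hψ₀ h
      refine (classInner_comp_pow hk (χ φ) (χ (φ * ψ₀))).trans (ho φ (φ * ψ₀) ?_)
      have := neq φ hφ φ hφ 1 o2 ψ₀ hψ₀ (Or.inr (Ne.symm h))
      rw [hom_mul_one] at this
      exact this
    have e1 := hEin φ hφ ψ.1 ψ.2 hφ1 hψ1' (fun g => χ φ (g ^ k))
    have e2 := hEin φ hφ ψ'.1 ψ'.2 hφ1 hψ'1' (fun g => χ φ (g ^ k))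
    rw [p1, q1 ψ.1 ψ.2 hψ1', q2 ψ.1 ψ.2 hψ1', add_zero, sub_zero] at e1
    rw [p1, q1 ψ'.1 ψ'.2 hψ'1', q2 ψ'.1 ψ'.2 hψ'1', add_zero, sub_zero] at e2
    refine signed_unique χ hs hn ho _ (sgn_comp_pow hk (hs φ)) (φ ^ k) (ψ.1 ^ k)
      (φ ^ k * ψ.1 ^ k) (ψ'.1 ^ k) (φ ^ k * ψ'.1 ^ k) ?_ ?_ ?_ ?_ ?_ ?_ e1.symm e2.symm
    · have := neq (φ ^ k) hΦ 1 o1 1 o2 (ψ.1 ^ k) hΨ (Or.inl hΦ1)
      rw [hom_mul_one, hom_one_mul] at this
      exact this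
    · have := neq (φ ^ k) hΦ (φ ^ k) hΦ 1 o2 (ψ.1 ^ k) hΨ (Or.inr (Ne.symm hΨ1))
      rw [hom_mul_one] at this
      exact this
    · exact hΨΨ'
    · have := neq 1 o1 (φ ^ k) hΦ (ψ.1 ^ k) hΨ (ψ'.1 ^ k) hΨ' (Or.inl (Ne.symm hΦ1))
      rw [hom_one_mul] at this
      exact this
    · have := neq (φ ^ k) hΦ 1 o1 (ψ.1 ^ k) hΨ (ψ'.1 ^ k) hΨ' (Or.inl hΦ1)
      rw [hom_one_mul] at this
      exact this
    · exact neq (φ ^ k) hΦ (φ ^ k) hΦ (ψ.1 ^ k) hΨ (ψ'.1 ^ k) hΨ' (Or.inr hΨΨ')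
  have hA2 : ∀ ψ ∈ ann A₁, ψ ≠ 1 → (fun g => χ ψ (g ^ k)) = χ (ψ ^ k) := by
    intro ψ hψ hψ1
    obtain ⟨φ, φ', hφ1, hφ'1, hφφ'⟩ := two_nontrivial (H := ↥(ann A₂)) (by rw [cB₁]; exact h3₁)
    have hφ1' : φ.1 ≠ 1 := fun h => hφ1 (Subtype.ext h)
    have hφ'1' : φ'.1 ≠ 1 := fun h => hφ'1 (Subtype.ext h)
    have hφφ'' : φ.1 ≠ φ'.1 := fun h => hφφ' (Subtype.ext h)
    have hΨ := (ann A₁).pow_mem hψ k
    have hΦ := (ann A₂).pow_mem φ.2 k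
    have hΦ' := (ann A₂).pow_mem φ'.2 k
    have hΨ1 := hpne ψ hψ1
    have hΦ1 := hpne φ.1 hφ1'
    have hΦ'1 := hpne φ'.1 hφ'1'
    have hΦΦ' : φ.1 ^ k ≠ φ'.1 ^ k := fun h => hφφ'' (hpinj _ _ h)
    have p1 : classInner (fun g => χ ψ (g ^ k)) (fun g => χ ψ (g ^ k)) = 1 :=
      (classInner_comp_pow hk (χ ψ) (χ ψ)).trans (hn ψ)
    have q1 : ∀ φ₀ ∈ ann A₂, φ₀ ≠ 1 →
        classInner (fun g => χ ψ (g ^ k)) (fun g => χ φ₀ (g ^ k)) = 0 := by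
      intro φ₀ hφ₀ h
      refine (classInner_comp_pow hk (χ ψ) (χ φ₀)).trans (ho ψ φ₀ ?_)
      have := neq 1 o1 φ₀ hφ₀ ψ hψ 1 o2 (Or.inl (Ne.symm h))
      rw [hom_mul_one, hom_one_mul] at this
      exact this
    have q2 : ∀ φ₀ ∈ ann A₂, φ₀ ≠ 1 →
        classInner (fun g => χ ψ (g ^ k)) (fun g => χ (φ₀ * ψ) (g ^ k)) = 0 := by
      intro φ₀ hφ₀ h
      refine (classInner_comp_pow hk (χ ψ) (χ (φ₀ * ψ))).trans (ho ψ (φ₀ * ψ) ?_)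
      have := neq 1 o1 φ₀ hφ₀ ψ hψ ψ hψ (Or.inl (Ne.symm h))
      rw [hom_one_mul] at this
      exact this
    have e1 := hEin φ.1 φ.2 ψ hψ hφ1' hψ1 (fun g => χ ψ (g ^ k))
    have e2 := hEin φ'.1 φ'.2 ψ hψ hφ'1' hψ1 (fun g => χ ψ (g ^ k))
    rw [p1, q1 φ.1 φ.2 hφ1', q2 φ.1 φ.2 hφ1', zero_add, sub_zero] at e1
    rw [p1, q1 φ'.1 φ'.2 hφ'1', q2 φ'.1 φ'.2 hφ'1', zero_add, sub_zero] at e2
    have e1' : classInner (fun g => χ ψ (g ^ k)) (χ (ψ ^ k))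
        + classInner (fun g => χ ψ (g ^ k)) (χ (φ.1 ^ k))
        - classInner (fun g => χ ψ (g ^ k)) (χ (φ.1 ^ k * ψ ^ k)) = 1 := by
      rw [add_comm]; exact e1.symm
    have e2' : classInner (fun g => χ ψ (g ^ k)) (χ (ψ ^ k))
        + classInner (fun g => χ ψ (g ^ k)) (χ (φ'.1 ^ k))
        - classInner (fun g => χ ψ (g ^ k)) (χ (φ'.1 ^ k * ψ ^ k)) = 1 := by
      rw [add_comm]; exact e2.symm
    refine signed_unique χ hs hn ho _ (sgn_comp_pow hk (hs ψ)) (ψ ^ k) (φ.1 ^ k)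
      (φ.1 ^ k * ψ ^ k) (φ'.1 ^ k) (φ'.1 ^ k * ψ ^ k) ?_ ?_ ?_ ?_ ?_ ?_ e1' e2'
    · have := neq 1 o1 (φ.1 ^ k) hΦ (ψ ^ k) hΨ 1 o2 (Or.inl (Ne.symm hΦ1))
      rw [hom_mul_one, hom_one_mul] at this
      exact this
    · have := neq 1 o1 (φ.1 ^ k) hΦ (ψ ^ k) hΨ (ψ ^ k) hΨ (Or.inl (Ne.symm hΦ1))
      rw [hom_one_mul] at this
      exact this
    · exact hΦΦ'
    · have := neq (φ.1 ^ k) hΦ (φ'.1 ^ k) hΦ' 1 o2 (ψ ^ k) hΨ (Or.inl hΦΦ')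
      rw [hom_mul_one] at this
      exact this
    · have := neq (φ.1 ^ k) hΦ (φ'.1 ^ k) hΦ' (ψ ^ k) hΨ 1 o2 (Or.inl hΦΦ')
      rw [hom_mul_one] at this
      exact this
    · exact neq (φ.1 ^ k) hΦ (φ'.1 ^ k) hΦ' (ψ ^ k) hΨ (ψ ^ k) hΨ (Or.inl hΦΦ')
  obtain ⟨φ, hφ, ψ, hψ, rfl⟩ := exists_split hcomm A₁ A₂ hdisj hsup ω
  by_cases hφ1 : φ = 1
  · by_cases hψ1 : ψ = 1
    · rw [hφ1, hψ1, hom_one_mul, hom_one_pow, h1]
    · rw [hφ1, hom_one_mul]; exact hA2 ψ hψ hψ1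
  · by_cases hψ1 : ψ = 1
    · rw [hψ1, hom_mul_one]; exact hA1 φ hφ hφ1
    · funext g
      have e := hE φ hφ ψ hψ hφ1 hψ1 g
      have a1 := congrFun (hA1 φ hφ hφ1) g
      have a2 := congrFun (hA2 ψ hψ hψ1) g
      rw [hom_mul_pow]
      linear_combination a1 + a2 - e

end powabs

section s1508
variable {G : Type*} [Group G] [Fintype G]

theorem pow_family (W₁ W₂ : Subgroup G) (hW : IsSelfNormalizingCyclic W₁ W₂)
    (hodd : Odd (Nat.card ↥(W₁ ⊔ W₂))) (χ : (↥(W₁ ⊔ W₂) →* ℂˣ) → (G → ℂ))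
    (hχ : IsCyclicTIFamily W₁ W₂ χ) {k : ℕ} (hk : Nat.Coprime k (Nat.card G))
    (ω : ↥(W₁ ⊔ W₂) →* ℂˣ) : (fun g => χ ω (g ^ k)) = χ (ω ^ k) := by
  classical
  have hcomm := W_comm hW.2.2.2.2.1
  have hdisj : (W₁.subgroupOf (W₁ ⊔ W₂)) ⊓ (W₂.subgroupOf (W₁ ⊔ W₂)) = ⊥ := by
    rw [eq_bot_iff]
    intro x hx
    have h1 : (x:G) ∈ W₁ ⊓ W₂ :=
      ⟨Subgroup.mem_subgroupOf.mp hx.1, Subgroup.mem_subgroupOf.mp hx.2⟩
    rw [hW.2.2.1, Subgroup.mem_bot] at h1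
    exact Subgroup.mem_bot.mpr (Subtype.ext h1)
  have hsup : (W₁.subgroupOf (W₁ ⊔ W₂)) ⊔ (W₂.subgroupOf (W₁ ⊔ W₂)) = ⊤ := by
    rw [eq_top_iff]
    intro w _
    have h1 : ((W₁.subgroupOf (W₁ ⊔ W₂)) ⊔ (W₂.subgroupOf (W₁ ⊔ W₂))).map (W₁ ⊔ W₂).subtype
        = W₁ ⊔ W₂ := by
      rw [Subgroup.map_sup, Subgroup.subgroupOf_map_subtype, Subgroup.subgroupOf_map_subtype,
        inf_of_le_left le_sup_left, inf_of_le_left le_sup_right]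
    have : (w:G) ∈ ((W₁.subgroupOf (W₁ ⊔ W₂)) ⊔ (W₂.subgroupOf (W₁ ⊔ W₂))).map
        (W₁ ⊔ W₂).subtype := by rw [h1]; exact w.2
    obtain ⟨w', hw', hww⟩ := this
    have : w' = w := Subtype.ext hww
    rwa [← this]
  have c1 : Nat.card (W₁.subgroupOf (W₁ ⊔ W₂)) = Nat.card W₁ :=
    Nat.card_congr (Subgroup.subgroupOfEquivOfLe le_sup_left).toEquiv
  have c2 : Nat.card (W₂.subgroupOf (W₁ ⊔ W₂)) = Nat.card W₂ :=
    Nat.card_congr (Subgroup.subgroupOfEquivOfLe le_sup_right).toEquiv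
  have o1 : Odd (Nat.card W₁) := Odd.of_dvd_nat hodd (Subgroup.card_dvd_of_le le_sup_left)
  have o2 : Odd (Nat.card W₂) := Odd.of_dvd_nat hodd (Subgroup.card_dvd_of_le le_sup_right)
  have n1 : Nat.card W₁ ≠ 1 := fun h => hW.1 (Subgroup.card_eq_one.mp h)
  have n2 : Nat.card W₂ ≠ 1 := fun h => hW.2.1 (Subgroup.card_eq_one.mp h)
  have h3₁ : 2 < Nat.card (W₁.subgroupOf (W₁ ⊔ W₂)) := by
    rw [c1]; obtain ⟨t, ht⟩ := o1; omega
  have h3₂ : 2 < Nat.card (W₂.subgroupOf (W₁ ⊔ W₂)) := by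
    rw [c2]; obtain ⟨t, ht⟩ := o2; omega
  have hkA : (Nat.card (↥(W₁ ⊔ W₂) →* ℂˣ)).Coprime k := by
    rw [card_dual hcomm]
    exact Nat.Coprime.coprime_dvd_left (Subgroup.card_subgroup_dvd_card _) hk.symm
  have hpinj : ∀ a b : ↥(W₁ ⊔ W₂) →* ℂˣ, a ^ k = b ^ k → a = b :=
    fun a b h => (powCoprime hkA).injective h
  have hpne : ∀ a : ↥(W₁ ⊔ W₂) →* ℂˣ, a ≠ 1 → a ^ k ≠ 1 :=
    fun a ha h => ha (hpinj a 1 (by rw [h, hom_one_pow]))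
  refine pow_family_abs hcomm _ _ hdisj hsup h3₁ h3₂ χ hχ.irr_or_neg
    (fun ω => by rw [hχ.orthonormal, if_pos rfl])
    (fun ω ω' h => by rw [hχ.orthonormal, if_neg h]) hχ.map_one hk hkA ?_ ω
  intro φ hφB ψ hψB hφ hψ g
  have i1 := hχ.induced_eq φ ψ hφ hψ (mem_ann_subgroupOf.mp hφB) (mem_ann_subgroupOf.mp hψB)
  have i2 := hχ.induced_eq (φ ^ k) (ψ ^ k) (hpne φ hφ) (hpne ψ hψ)
    (mem_ann_subgroupOf.mp ((ann _).pow_mem hφB k)) (mem_ann_subgroupOf.mp ((ann _).pow_mem hψB k))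
  have hfun : (fun h : ↥(W₁ ⊔ W₂) => 1 - ((φ (h ^ k) : ℂˣ) : ℂ) - ((ψ (h ^ k) : ℂˣ) : ℂ)
        + ((φ (h ^ k) : ℂˣ) : ℂ) * ((ψ (h ^ k) : ℂˣ) : ℂ))
      = (fun w => 1 - (((φ ^ k) w : ℂˣ) : ℂ) - (((ψ ^ k) w : ℂˣ) : ℂ)
        + (((φ ^ k) w : ℂˣ) : ℂ) * (((ψ ^ k) w : ℂˣ) : ℂ)) := by
    funext h
    simp only [map_pow, MonoidHom.pow_apply]
  have j1 : indFun (W₁ ⊔ W₂) (fun h : ↥(W₁ ⊔ W₂) => 1 - ((φ (h ^ k) : ℂˣ) : ℂ)
        - ((ψ (h ^ k) : ℂˣ) : ℂ) + ((φ (h ^ k) : ℂˣ) : ℂ) * ((ψ (h ^ k) : ℂˣ) : ℂ)) g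
      = 1 - χ φ (g ^ k) - χ ψ (g ^ k) + χ (φ * ψ) (g ^ k) :=
    (indFun_pow (W₁ ⊔ W₂) (fun w => 1 - (φ w : ℂ) - (ψ w : ℂ) + (φ w : ℂ) * (ψ w : ℂ)) hk g).symm.trans
      (congrFun i1 (g ^ k))
  have j2 : indFun (W₁ ⊔ W₂) (fun w => 1 - (((φ ^ k) w : ℂˣ) : ℂ) - (((ψ ^ k) w : ℂˣ) : ℂ)
        + (((φ ^ k) w : ℂˣ) : ℂ) * (((ψ ^ k) w : ℂˣ) : ℂ)) g
      = 1 - χ (φ ^ k) g - χ (ψ ^ k) g + χ (φ ^ k * ψ ^ k) g := congrFun i2 g
  rw [hfun, j2] at j1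
  linear_combination j1

theorem s1508 (W₁ W₂ : Subgroup G) (hW : IsSelfNormalizingCyclic W₁ W₂)
    (hodd : Odd (Nat.card ↥(W₁ ⊔ W₂))) (χ : (↥(W₁ ⊔ W₂) →* ℂˣ) → (G → ℂ))
    (hχ : IsCyclicTIFamily W₁ W₂ χ) (ω : ↥(W₁ ⊔ W₂) →* ℂˣ) (g : G)
    (hg : Nat.Coprime (orderOf g) (orderOf ω)) : ∃ n : ℤ, χ ω g = n := by
  classical
  have hcomm := W_comm hW.2.2.2.2.1
  haveI : NeZero (Nat.card G) := ⟨Nat.card_pos.ne'⟩
  have hinv : ∀ k : ℕ, k.Coprime (Nat.card G) → χ ω (g ^ k) = χ ω g := by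
    intro k hk
    have hN : orderOf g ∣ Nat.card G := orderOf_dvd_natCard g
    have hm : orderOf ω ∣ Nat.card G := by
      have h1 : orderOf ω ∣ Nat.card (↥(W₁ ⊔ W₂) →* ℂˣ) := orderOf_dvd_natCard ω
      rw [card_dual hcomm] at h1
      exact h1.trans (Subgroup.card_subgroup_dvd_card _)
    have hkN : k.Coprime (orderOf g) := Nat.Coprime.coprime_dvd_right hN hk
    obtain ⟨k', hk'1, hk'2, hk'3⟩ :=
      exists_lift (Nat.card G) (orderOf g) (orderOf ω) k hN hm hg hkN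
    have e1 : g ^ k = g ^ k' := (pow_eq_pow_iff_modEq.mpr hk'2).symm
    have e2 : ω ^ k' = ω := by
      have := (pow_eq_pow_iff_modEq (x := ω) (n := k') (m := 1)).mpr hk'3
      rw [pow_one] at this; exact this
    rw [e1]
    have := congrFun (pow_family W₁ W₂ hW hodd χ hχ hk'1 ω) g
    rw [e2] at this
    exact this
  rcases hχ.irr_or_neg ω with h | h
  · exact int_of_pow_invariant (IsIrrCharacter.isCharacter h) g hinv
  · obtain ⟨n, hn⟩ := int_of_pow_invariant (IsIrrCharacter.isCharacter h) g (fun k hk => by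
      simp only [Pi.neg_apply]; rw [hinv k hk])
    refine ⟨-n, ?_⟩
    have : χ ω g = -((-χ ω) g) := by simp
    rw [this, hn]; push_cast; ring

end s1508

end Cfsg.Agent.Lib.Lead.CycTI
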