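import Mathlib
import Cfsg.Agent.Lib.Lead.CycTI5
import Cfsg.Agent.Lib.Lead.Coh9
import Cfsg.Agent.Lib.Helper3.FullyRam1

set_option autoImplicit false
open Cfsg

namespace Cfsg.Agent.Lib.Lead.TISyl

open Cfsg.Agent.Lib.Helper6
open scoped ComplexConjugate

section generic

/-- summing an invariant integral-valued function over a free action -/
theorem sum_eq_card_mul_of_free {Γ X : Type*} [Group Γ] [Fintype Γ] [MulAction Γ X] [Fintype X]
    (f : X → ℂ) (hf : ∀ (γ : Γ) (x : X), f (γ • x) = f x)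
    (hfree : ∀ (γ : Γ) (x : X), γ • x = x → γ = 1) (hint : ∀ x, IsIntegral ℤ (f x)) :
    ∃ β : ℂ, IsIntegral ℤ β ∧ ∑ x, f x = (Fintype.card Γ : ℂ) * β := by
  classical
  letI s : Setoid X := MulAction.orbitRel Γ X
  haveI : Fintype (Quotient s) := Fintype.ofFinite _
  let Φ : Quotient s × Γ → X := fun q => q.2 • (Quotient.out q.1)
  have hΦ : Function.Bijective Φ := by
    constructor
    · rintro ⟨ω, γ⟩ ⟨ω', γ'⟩ h
      have h' : γ • (Quotient.out ω) = γ' • (Quotient.out ω') := h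
      have hω : ω = ω' := by
        rw [← Quotient.out_eq ω, ← Quotient.out_eq ω']
        apply Quotient.sound
        show (MulAction.orbitRel Γ X) (Quotient.out ω) (Quotient.out ω')
        rw [MulAction.orbitRel_apply]
        refine ⟨γ⁻¹ * γ', ?_⟩
        show (γ⁻¹ * γ') • Quotient.out ω' = Quotient.out ω
        rw [mul_smul, ← h', inv_smul_smul]
      subst hω
      have h2 : (γ'⁻¹ * γ) • Quotient.out ω = Quotient.out ω := by
        rw [mul_smul, h', inv_smul_smul]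
      have h3 := hfree _ _ h2
      have h4 : γ = γ' := by
        have := congrArg (fun t => γ' * t) h3
        simpa using this
      rw [h4]
    · intro x
      have h1 : (MulAction.orbitRel Γ X) (Quotient.out (Quotient.mk s x)) x := Quotient.mk_out x
      rw [MulAction.orbitRel_apply] at h1
      obtain ⟨γ, hγ⟩ := h1
      have hγ' : γ • x = Quotient.out (Quotient.mk s x) := hγ
      refine ⟨(Quotient.mk s x, γ⁻¹), ?_⟩
      show γ⁻¹ • Quotient.out (Quotient.mk s x) = x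
      rw [← hγ', inv_smul_smul]
  refine ⟨∑ ω : Quotient s, f (Quotient.out ω), IsIntegral.sum _ (fun ω _ => hint _), ?_⟩
  rw [← (Equiv.ofBijective Φ hΦ).sum_comp f, Fintype.sum_prod_type]
  have h1 : ∀ ω : Quotient s, ∑ γ : Γ, f ((Equiv.ofBijective Φ hΦ) (ω, γ)) =
      (Fintype.card Γ : ℂ) * f (Quotient.out ω) := by
    intro ω
    have h2 : ∀ γ : Γ, f ((Equiv.ofBijective Φ hΦ) (ω, γ)) = f (Quotient.out ω) := by
      intro γ
      show f (γ • Quotient.out ω) = _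
      exact hf _ _
    rw [Finset.sum_congr rfl (fun γ _ => h2 γ), Finset.sum_const, Finset.card_univ, nsmul_eq_mul]
  rw [Finset.sum_congr rfl (fun ω _ => h1 ω), Finset.mul_sum]

theorem orderOf_dvd_card_of_mem {G : Type*} [Group G] (L : Subgroup G) {g : G} (hg : g ∈ L) :
    orderOf g ∣ Nat.card L := by
  have h := orderOf_dvd_natCard (⟨g, hg⟩ : L)
  rw [← Subgroup.orderOf_coe] at h
  exact h

end generic

section main
variable {G : Type*} [Group G] [Fintype G]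

theorem xsum_dvd (P C L : Subgroup G) [Fintype {g : G // g ∉ L}] (hPL : P ≤ L) (hCL : C ≤ L)
    (hfree : ∀ g : G, g ∉ L → ∀ u ∈ P, u ≠ 1 → g⁻¹ * u * g ∉ L)
    (f : G → ℂ) (hint : ∀ g, IsIntegral ℤ (f g))
    (hinv : ∀ g : G, ∀ u ∈ P, ∀ h ∈ C, f (u * g * h⁻¹) = f g) :
    ∃ β : ℂ, IsIntegral ℤ β ∧
      ∑ g : {g : G // g ∉ L}, f g = ((Nat.card P * Nat.card C : ℕ) : ℂ) * β := by
  classical
  haveI : Fintype P := Fintype.ofFinite P
  haveI : Fintype C := Fintype.ofFinite C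
  letI act : MulAction (↥P × ↥C) {g : G // g ∉ L} :=
    { smul := fun γ x => ⟨(γ.1 : G) * x.1 * ((γ.2 : G))⁻¹, fun hmem => x.2 (by
        have h1 := L.mul_mem (L.mul_mem (L.inv_mem (hPL γ.1.2)) hmem) (hCL γ.2.2)
        simpa [mul_assoc] using h1)⟩
      one_smul := fun x => Subtype.ext (by
        show ((1 : ↥P × ↥C).1 : G) * x.1 * (((1 : ↥P × ↥C).2 : G))⁻¹ = x.1
        simp)
      mul_smul := fun γ γ' x => Subtype.ext (by
        show ((γ * γ').1 : G) * x.1 * (((γ * γ').2 : G))⁻¹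
          = (γ.1 : G) * ((γ'.1 : G) * x.1 * ((γ'.2 : G))⁻¹) * ((γ.2 : G))⁻¹
        simp [mul_assoc]) }
  have hsm : ∀ (γ : ↥P × ↥C) (x : {g : G // g ∉ L}),
      ((γ • x : {g : G // g ∉ L}) : G) = (γ.1 : G) * x.1 * ((γ.2 : G))⁻¹ := fun _ _ => rfl
  obtain ⟨β, hβ, hsum⟩ := sum_eq_card_mul_of_free (Γ := ↥P × ↥C) (X := {g : G // g ∉ L})
    (fun x => f x.1)
    (fun γ x => by
      show f ((γ • x : {g : G // g ∉ L}) : G) = f x.1
      rw [hsm]
      exact hinv x.1 _ γ.1.2 _ γ.2.2)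
    (fun γ x hfix => by
      have h1 : (γ.1 : G) * x.1 * ((γ.2 : G))⁻¹ = x.1 := by
        rw [← hsm, hfix]
      have h2 : (γ.2 : G) = (x.1)⁻¹ * (γ.1 : G) * x.1 := by
        calc (γ.2 : G) = ((γ.1 : G) * x.1 * ((γ.2 : G))⁻¹)⁻¹ * ((γ.1 : G) * x.1) := by group
          _ = (x.1)⁻¹ * ((γ.1 : G) * x.1) := by rw [h1]
          _ = (x.1)⁻¹ * (γ.1 : G) * x.1 := by group
      have hu : (γ.1 : G) = 1 := by
        by_contra hne
        exact hfree x.1 x.2 _ γ.1.2 hne (h2 ▸ hCL γ.2.2)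
      have hh : (γ.2 : G) = 1 := by
        rw [h2, hu]; group
      exact Prod.ext (Subtype.ext hu) (Subtype.ext hh))
    (fun x => hint _)
  refine ⟨β, hβ, ?_⟩
  rw [hsum]
  congr 1
  rw [← Nat.card_eq_fintype_card, Nat.card_prod]

theorem s1523_core {ψ : G → ℂ} (hψ : IsIrrCharacter G ψ)
    (P L Z : Subgroup G) (hPL : P ≤ L) (hZP : Z ≤ P)
    (hfree : ∀ g : G, g ∉ L → ∀ u ∈ P, u ≠ 1 → g⁻¹ * u * g ∉ L)
    (hodd : Odd (Nat.card L))
    (hZn : ∀ x ∈ L, ∀ w ∈ Z, x * w * x⁻¹ ∈ Z)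
    (hZc : ∀ w ∈ Z, ∀ y ∈ P, w * y = y * w)
    (z : G) (hz : z ∈ Z) (hz1 : z ≠ 1) (hCL : Subgroup.centralizer ({z} : Set G) ≤ L)
    (a : ℤ) (hconst : ∀ w ∈ Z, w ≠ 1 → ψ w = a) :
    ((Nat.card P : ℤ)) ∣ (charDegree ψ : ℤ) - a := by
  classical
  obtain ⟨C, hC⟩ : ∃ C, C = Subgroup.centralizer ({z} : Set G) := ⟨_, rfl⟩
  rw [← hC] at hCL
  have hd : ψ 1 = ((charDegree ψ : ℕ) : ℂ) :=
    IsCharacter.apply_one_eq_charDegree (IsIrrCharacter.isCharacter hψ)
  have hcf := IsIrrCharacter.isClassFunction hψ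
  have hzinv : z⁻¹ ∈ Z := Z.inv_mem hz
  have hzinv1 : z⁻¹ ≠ 1 := fun h => hz1 (inv_eq_one.1 h)
  have hψz : ψ z = a := hconst z hz hz1
  have hψz' : ψ z⁻¹ = a := hconst _ hzinv hzinv1
  have hzL : z ∈ L := hPL (hZP hz)
  -- no inversion in L
  have hnoinv : ∀ g ∈ L, g * z * g⁻¹ ≠ z⁻¹ := by
    intro g hg h
    have h3 : (g * g) * z * (g * g)⁻¹ = z := by
      calc (g * g) * z * (g * g)⁻¹ = g * (g * z * g⁻¹) * g⁻¹ := by group
        _ = g * z⁻¹ * g⁻¹ := by rw [h]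
        _ = (g * z * g⁻¹)⁻¹ := by group
        _ = z := by rw [h, inv_inv]
    have hc2 : Commute (g * g) z := mul_inv_eq_iff_eq_mul.1 h3
    obtain ⟨k, hk⟩ := (Odd.of_dvd_nat hodd (orderOf_dvd_card_of_mem L hg) : Odd (orderOf g))
    have hgk : (g * g) ^ (k + 1) = g := by
      rw [← pow_two, ← pow_mul]
      have h5 : 2 * (k + 1) = orderOf g + 1 := by omega
      rw [h5, pow_succ, pow_orderOf_eq_one, one_mul]
    have hcg : Commute g z := by rw [← hgk]; exact hc2.pow_left _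
    have hzz : z = z⁻¹ := by
      rw [← h, hcg.eq, mul_inv_cancel_right]
    have hz2 : z ^ 2 = 1 := by
      rw [pow_two]
      nth_rewrite 2 [hzz]
      exact mul_inv_cancel z
    have hzodd : Odd (orderOf z) := Odd.of_dvd_nat hodd (orderOf_dvd_card_of_mem L hzL)
    have hdvd : orderOf z ∣ 2 := orderOf_dvd_of_pow_eq_one hz2
    rcases (Nat.dvd_prime Nat.prime_two).1 hdvd with h1 | h2
    · exact hz1 (orderOf_eq_one_iff.1 h1)
    · rw [h2] at hzodd
      exact absurd hzodd (by decide)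
  -- commuting facts
  have hCz : ∀ h ∈ C, z * h = h * z := fun h hh => by
    rw [hC] at hh
    exact Subgroup.mem_centralizer_iff.1 hh z (Set.mem_singleton z)
  have hCz' : ∀ h ∈ C, z⁻¹ * h = h * z⁻¹ := fun h hh => by
    have h1 := hCz h hh
    rw [eq_mul_inv_iff_mul_eq, mul_assoc, ← h1, ← mul_assoc, inv_mul_cancel, one_mul]
  have hmemC : ∀ g : G, z⁻¹ * g = g * z⁻¹ → g ∈ C := by
    intro g hg
    rw [hC, Subgroup.mem_centralizer_iff]
    intro y hy
    rw [Set.mem_singleton_iff] at hy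
    rw [hy]
    have h1 : g = z * g * z⁻¹ := by
      rw [mul_assoc, ← hg, ← mul_assoc, mul_inv_cancel, one_mul]
    calc z * g = z * g * z⁻¹ * z := by group
      _ = g * z := by rw [← h1]
  have hPz : ∀ u ∈ P, u * z = z * u := fun u hu => (hZc z hz u hu).symm
  have hinv : ∀ y : G, (∀ h ∈ C, y * h = h * y) → ∀ g : G, ∀ u ∈ P, ∀ h ∈ C,
      ψ (z * ((u * g * h⁻¹) * y * (u * g * h⁻¹)⁻¹)) = ψ (z * (g * y * g⁻¹)) := by
    intro y hy g u hu h hh
    have e1 : h⁻¹ * y * h = y := by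
      rw [mul_assoc, hy h hh, ← mul_assoc, inv_mul_cancel, one_mul]
    have e2 := hPz u hu
    have e3 : z * ((u * g * h⁻¹) * y * (u * g * h⁻¹)⁻¹) = u * (z * (g * y * g⁻¹)) * u⁻¹ := by
      calc z * ((u * g * h⁻¹) * y * (u * g * h⁻¹)⁻¹)
          = z * (u * (g * (h⁻¹ * y * h) * g⁻¹) * u⁻¹) := by group
        _ = z * (u * (g * y * g⁻¹) * u⁻¹) := by rw [e1]
        _ = (z * u) * (g * y * g⁻¹) * u⁻¹ := by group
        _ = (u * z) * (g * y * g⁻¹) * u⁻¹ := by rw [e2]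
        _ = u * (z * (g * y * g⁻¹)) * u⁻¹ := by group
    rw [e3]
    exact hcf _ u
  have hintψ : ∀ g, IsIntegral ℤ (ψ g) :=
    fun g => IsCharacter.isIntegral_apply (IsIrrCharacter.isCharacter hψ) g
  obtain ⟨β₁, hβ₁, hX₁⟩ := xsum_dvd P C L hPL hCL hfree (fun g => ψ (z * (g * z * g⁻¹)))
    (fun g => hintψ _) (hinv z hCz)
  obtain ⟨β₂, hβ₂, hX₂⟩ := xsum_dvd P C L hPL hCL hfree (fun g => ψ (z * (g * z⁻¹ * g⁻¹)))
    (fun g => hintψ _) (hinv z⁻¹ hCz')
  have hT₁ := Cfsg.Agent.Lib.Helper3.FullyRam.sum_apply_mul_conj_twist hψ z z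
  have hT₂ := Cfsg.Agent.Lib.Helper3.FullyRam.sum_apply_mul_conj_twist hψ z z⁻¹
  rw [hψz'] at hT₂
  have hsplit : ∀ f : G → ℂ, ∑ g, f g
      = ∑ g ∈ Finset.univ.filter (fun g => g ∈ L), f g + ∑ g : {g : G // g ∉ L}, f g := by
    intro f
    rw [← Finset.sum_filter_add_sum_filter_not Finset.univ (fun g => g ∈ L) f]
    congr 1
    exact Finset.sum_subtype _ (fun x => by simp) f
  have hL₁ : ∑ g ∈ Finset.univ.filter (fun g => g ∈ L), ψ (z * (g * z * g⁻¹))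
      = (Nat.card L : ℂ) * a := by
    have hterm : ∀ g ∈ Finset.univ.filter (fun g => g ∈ L), ψ (z * (g * z * g⁻¹)) = (a : ℂ) := by
      intro g hg
      have hgL : g ∈ L := (Finset.mem_filter.1 hg).2
      apply hconst _ (Z.mul_mem hz (hZn g hgL z hz))
      intro h1
      exact hnoinv g hgL (eq_inv_of_mul_eq_one_right h1)
    rw [Finset.sum_congr rfl hterm, Finset.sum_const, nsmul_eq_mul,
      Cfsg.Agent.Lib.Lead.Coh.card_filter_mem' L]
  have hL₂ : ∑ g ∈ Finset.univ.filter (fun g => g ∈ L), ψ (z * (g * z⁻¹ * g⁻¹))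
      = (Nat.card L : ℂ) * a + (Nat.card C : ℂ) * (ψ 1 - a) := by
    have hterm : ∀ g ∈ Finset.univ.filter (fun g => g ∈ L), ψ (z * (g * z⁻¹ * g⁻¹))
        = (a : ℂ) + (if g ∈ C then ψ 1 - a else 0) := by
      intro g hg
      have hgL : g ∈ L := (Finset.mem_filter.1 hg).2
      by_cases hgC : g ∈ C
      · rw [if_pos hgC]
        have h1 : g * z⁻¹ * g⁻¹ = z⁻¹ := by
          rw [← hCz' g hgC, mul_inv_cancel_right]
        rw [h1, mul_inv_cancel]
        ring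
      · rw [if_neg hgC, add_zero]
        apply hconst _ (Z.mul_mem hz (hZn g hgL z⁻¹ hzinv))
        intro h1
        apply hgC
        apply hmemC
        have h2 : g * z⁻¹ * g⁻¹ = z⁻¹ := eq_inv_of_mul_eq_one_right h1
        calc z⁻¹ * g = (g * z⁻¹ * g⁻¹) * g := by rw [h2]
          _ = g * z⁻¹ := by group
    rw [Finset.sum_congr rfl hterm, Finset.sum_add_distrib, Finset.sum_const, nsmul_eq_mul,
      Cfsg.Agent.Lib.Lead.Coh.card_filter_mem' L, ← Finset.sum_filter, Finset.filter_filter,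
      Finset.sum_const, nsmul_eq_mul]
    congr 2
    have h1 : Finset.univ.filter (fun g => g ∈ L ∧ g ∈ C) = Finset.univ.filter (fun g => g ∈ C) := by
      ext g
      simp only [Finset.mem_filter, Finset.mem_univ, true_and]
      exact ⟨fun h => h.2, fun h => ⟨hCL h, h⟩⟩
    rw [h1, Cfsg.Agent.Lib.Lead.Coh.card_filter_mem' C]
  have e1 := hsplit (fun g => ψ (z * (g * z * g⁻¹)))
  have e2 := hsplit (fun g => ψ (z * (g * z⁻¹ * g⁻¹)))
  rw [hT₁, hL₁, hX₁, hψz] at e1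
  rw [hT₂, hL₂, hX₂, hψz] at e2
  have hCne : (Nat.card C : ℂ) ≠ 0 := by exact_mod_cast (Nat.card_pos (α := C)).ne'
  have hkey : ψ 1 - (a : ℂ) = (Nat.card P : ℂ) * (β₁ - β₂) := by
    apply mul_left_cancel₀ hCne
    push_cast at e1 e2
    linear_combination e1 - e2
  have hPne : (Nat.card P : ℚ) ≠ 0 := by exact_mod_cast (Nat.card_pos (α := P)).ne'
  have hPne' : (Nat.card P : ℂ) ≠ 0 := by exact_mod_cast (Nat.card_pos (α := P)).ne'
  have hq : (((((charDegree ψ : ℤ) - a : ℤ) : ℚ) / (Nat.card P : ℚ) : ℚ) : ℂ) = β₁ - β₂ := by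
    push_cast
    rw [div_eq_iff hPne', mul_comm, ← hkey, hd]
  have hint : IsIntegral ℤ (((((charDegree ψ : ℤ) - a : ℤ) : ℚ) / (Nat.card P : ℚ) : ℚ) : ℂ) := by
    rw [hq]; exact hβ₁.sub hβ₂
  obtain ⟨m, hm⟩ := int_of_isIntegral_ratCast hint
  refine ⟨m, ?_⟩
  have h2 : (m : ℚ) * (Nat.card P : ℚ) = ((((charDegree ψ : ℤ) - a : ℤ)) : ℚ) := by
    rw [hm]; field_simp
  have h3 : m * (Nat.card P : ℤ) = (charDegree ψ : ℤ) - a := by exact_mod_cast h2
  rw [← h3, mul_comm]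

theorem s1523 {G : Type*} [Group G] [Finite G] (p : ℕ) [Fact p.Prime] (P : Sylow p G)
    (hTI : Cfsg.IsTISubset ((P : Subgroup G) : Set G))
    (hodd : Odd (Nat.card (Subgroup.normalizer ((P : Subgroup G) : Set G))))
    (Z : Subgroup G) (hZP : Z ≤ P)
    (hZn : ∀ x ∈ Subgroup.normalizer ((P : Subgroup G) : Set G), ∀ z ∈ Z, x * z * x⁻¹ ∈ Z)
    (hZc : ∀ z ∈ Z, ∀ y ∈ (P : Subgroup G), z * y = y * z)
    (ψ : G → ℂ) (hψ : Cfsg.IsIrrCharacter G ψ)
    (hconst : ∀ z ∈ Z, ∀ z' ∈ Z, z ≠ 1 → z' ≠ 1 → ψ z = ψ z') (z : G) (hz : z ∈ Z) (hz1 : z ≠ 1) :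
    ∃ n d : ℤ, ψ z = n ∧ ψ 1 = d ∧ (Nat.card (P : Subgroup G) : ℤ) ∣ d - n := by
  classical
  haveI : Fintype G := Fintype.ofFinite G
  obtain ⟨L, hL⟩ : ∃ L, L = Subgroup.normalizer ((P : Subgroup G) : Set G) := ⟨_, rfl⟩
  rw [← hL] at hodd hZn
  have hPL : (P : Subgroup G) ≤ L := by rw [hL]; exact Subgroup.le_normalizer
  have hchar := IsIrrCharacter.isCharacter hψ
  obtain ⟨a, ha⟩ := Cfsg.Agent.Lib.Lead.CycTI.int_of_pow_invariant hchar z (fun k hk => by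
    apply hconst _ (Z.pow_mem hz k) z hz _ hz1
    intro h1
    have h2 : orderOf z ∣ k := orderOf_dvd_of_pow_eq_one h1
    have h3 : orderOf z ∣ Nat.card G := orderOf_dvd_natCard z
    have h4 := Nat.dvd_gcd h2 h3
    rw [Nat.Coprime.gcd_eq_one hk] at h4
    exact hz1 (orderOf_eq_one_iff.1 (Nat.dvd_one.1 h4)))
  have hconst' : ∀ w ∈ Z, w ≠ 1 → ψ w = a := fun w hw hw1 => (hconst w hw z hz hw1 hz1).trans ha
  have hfree : ∀ g : G, g ∉ L → ∀ u ∈ (P : Subgroup G), u ≠ 1 → g⁻¹ * u * g ∉ L := by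
    intro g hg u hu hu1 hmem
    have hpg : IsPGroup p (Subgroup.zpowers (g⁻¹ * u * g)) := by
      have h1 : IsPGroup p (Subgroup.zpowers u) := P.isPGroup'.to_le (Subgroup.zpowers_le.2 hu)
      have h2 := h1.map (MulAut.conj g⁻¹).toMonoidHom
      rw [MonoidHom.map_zpowers] at h2
      have e : (MulAut.conj g⁻¹).toMonoidHom u = g⁻¹ * u * g := by
        simp [MulAut.conj_apply]
      rw [e] at h2
      exact h2
    have hsup : IsPGroup p (Subgroup.zpowers (g⁻¹ * u * g) ⊔ (P : Subgroup G) : Subgroup G) :=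
      IsPGroup.to_sup_of_normal_right' hpg P.isPGroup' (Subgroup.zpowers_le.2 (hL ▸ hmem))
    have heq := P.is_maximal' hsup le_sup_right
    have hinP : g⁻¹ * u * g ∈ (P : Subgroup G) := by
      rw [← heq]
      exact (show Subgroup.zpowers (g⁻¹ * u * g) ≤
        Subgroup.zpowers (g⁻¹ * u * g) ⊔ (P : Subgroup G) from le_sup_left)
        (Subgroup.mem_zpowers _)
    have hginv : g⁻¹ ∉ Subgroup.normalizer ((P : Subgroup G) : Set G) := fun h => hg (by
      rw [hL]; simpa using (Subgroup.normalizer ((P : Subgroup G) : Set G)).inv_mem h)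
    have h5 := hTI g⁻¹ hginv u hu (by rw [inv_inv]; exact hinP)
    exact hu1 h5
  have hCL : Subgroup.centralizer ({z} : Set G) ≤ L := by
    intro h hh
    by_contra hn
    have hc := Subgroup.mem_centralizer_iff.1 hh z (Set.mem_singleton z)
    have h1 : h * z * h⁻¹ = z := by rw [← hc, mul_inv_cancel_right]
    have h2 := hTI h (hL ▸ hn) z (hZP hz) (by rw [h1]; exact hZP hz)
    exact hz1 h2
  refine ⟨a, (charDegree ψ : ℤ), ha, ?_, ?_⟩
  · rw [Int.cast_natCast]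
    exact IsCharacter.apply_one_eq_charDegree hchar
  · exact s1523_core hψ (P : Subgroup G) L Z hPL hZP hfree hodd hZn hZc z hz hz1 hCL a hconst'

end main

end Cfsg.Agent.Lib.Lead.TISyl
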