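import Mathlib
import Cfsg.Agent.Lib.Lead.Sib1
import Cfsg.Agent.Lib.Lead.TISyl
import Cfsg.Agent.Lib.Lead.Frob1
import Cfsg.Agent.Lib.Helper6.SecondOrth
import Cfsg.Agent.Lib.Helper6.Regular
import Cfsg.Agent.Lib.Helper6.Decomp
import Cfsg.Agent.Lib.Helper6.Norm

set_option autoImplicit false
open Cfsg

namespace Cfsg.Agent.Lib.Lead.Sib

open Cfsg.Agent.Lib.Helper6 Cfsg.Agent.Lib.Lead.Coh
open scoped ComplexConjugate

section chars

theorem sum_deg_mul {K : Type*} [Group K] [Fintype K] [Fintype (IrrCharacter K)] (z : K)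
    (hz : z ≠ 1) : ∑ θ : IrrCharacter K, (θ : K → ℂ) 1 * (θ : K → ℂ) z = 0 := by
  have h := (sum_irr_mul_conj z 1).2 (fun hc => hz (isConj_one_left.1 hc))
  rw [← h]
  refine Finset.sum_congr rfl fun θ _ => ?_
  rw [IsIrrCharacter.conj_apply_one θ.2, mul_comm]

theorem diff_formula {K : Type*} [Group K] [Fintype K] (Z : Subgroup K) (ψ : K → ℂ)
    (hψ : IsCharacter K ψ) (q t : ℂ)
    (hmult : ∀ θ : K → ℂ, IsIrrCharacter K θ → (∃ z ∈ Z, θ z ≠ θ 1) →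
      q * classInner ψ θ = t * θ 1)
    (z : K) (hz : z ∈ Z) (hz1 : z ≠ 1) : q * (ψ 1 - ψ z) = t * (Nat.card K : ℂ) := by
  classical
  haveI : Fintype (IrrCharacter K) := Fintype.ofFinite _
  obtain ⟨m, hm⟩ := IsCharacter.eq_sum_irr hψ
  have hmθ : ∀ θ : IrrCharacter K, classInner ψ (θ : K → ℂ) = m θ := by
    intro θ
    have h0 : (θ : K → ℂ) = ∑ θ' : IrrCharacter K,
        (if θ' = θ then 1 else 0) • (θ' : K → ℂ) := by
      simp [Finset.sum_ite_eq']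
    conv_lhs => rw [hm, h0]
    rw [classInner_sum_irr]
    simp [Finset.sum_ite_eq']
  have e1 : ∀ g, ψ g = ∑ θ : IrrCharacter K, (m θ : ℂ) * (θ : K → ℂ) g := by
    intro g
    conv_lhs => rw [hm]
    rw [Finset.sum_apply]
    refine Finset.sum_congr rfl fun θ _ => ?_
    rw [Pi.smul_apply, nsmul_eq_mul]
  have e2 : q * (ψ 1 - ψ z) = ∑ θ : IrrCharacter K,
      t * ((θ : K → ℂ) 1 * ((θ : K → ℂ) 1 - (θ : K → ℂ) z)) := by
    rw [e1 1, e1 z, ← Finset.sum_sub_distrib, Finset.mul_sum]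
    refine Finset.sum_congr rfl fun θ _ => ?_
    by_cases h : (θ : K → ℂ) z = (θ : K → ℂ) 1
    · rw [h]; ring
    · have h3 := hmult θ θ.2 ⟨z, hz, h⟩
      rw [hmθ θ] at h3
      linear_combination ((θ : K → ℂ) 1 - (θ : K → ℂ) z) * h3
  rw [e2, ← Finset.mul_sum]
  congr 1
  have e3 : ∑ θ : IrrCharacter K, ((θ : K → ℂ) 1 * ((θ : K → ℂ) 1 - (θ : K → ℂ) z))
      = ∑ θ : IrrCharacter K, (θ : K → ℂ) 1 ^ 2
        - ∑ θ : IrrCharacter K, (θ : K → ℂ) 1 * (θ : K → ℂ) z := by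
    rw [← Finset.sum_sub_distrib]
    refine Finset.sum_congr rfl fun θ _ => by ring
  rw [e3, sum_sq_degree, sum_deg_mul z hz1, sub_zero]

end chars

section ti
variable {G : Type*} [Group G] [Fintype G]

theorem classInner_ind_TI (L : Subgroup G) [Fintype L] (T : Set G)
    (hTI : ∀ g : G, g ∉ L → ∀ t ∈ T, g * t * g⁻¹ ∈ T → t = 1)
    (α β : L → ℂ) (hβ : IsClassFunction L β)
    (hα0 : ∀ x : L, (x : G) ∉ T → α x = 0) (hβ0 : ∀ x : L, (x : G) ∉ T → β x = 0)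
    (hα1 : α 1 = 0) :
    classInner (indFun L α) (indFun L β) = classInner α β := by
  rw [Cfsg.Agent.S0146.result L α _ (indFun_isClassFunction L β)]
  unfold classInner
  congr 1
  apply Finset.sum_congr rfl
  intro n _
  by_cases hn1 : n = 1
  · rw [hn1, hα1, zero_mul, zero_mul]
  by_cases hnT : (n : G) ∈ T
  · show α n * conj (indFun L β (n : G)) = α n * conj (β n)
    rw [indFun_eq_of_TI L T hTI β hβ hβ0 n hnT hn1]
  · rw [hα0 n hnT, zero_mul, zero_mul]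

theorem zspan_iia_props {𝓛 : Type*} [Group 𝓛] [Fintype 𝓛] (K : Subgroup 𝓛) [hK : K.Normal]
    {α : 𝓛 → ℂ} (hα : α ∈ zspan (inducedIrrAbove K ⊥)) :
    IsGeneralizedCharacter 𝓛 α ∧ ∀ x, x ∉ K → α x = 0 := by
  change α ∈ Submodule.span ℤ _ at hα
  induction hα using Submodule.span_induction with
  | mem x hx =>
    obtain ⟨θ, hθ, -, -, rfl⟩ := hx
    exact ⟨IsCharacter.isGeneralizedCharacter
      (IsCharacter.indFun K (IsIrrCharacter.isCharacter hθ)),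
      fun x hx => indFun_apply_of_not_mem K hK θ hx⟩
  | zero => exact ⟨IsGeneralizedCharacter.zero, fun _ _ => rfl⟩
  | add x y _ _ px py =>
    exact ⟨IsGeneralizedCharacter.add px.1 py.1, fun z hz => by
      rw [Pi.add_apply, px.2 z hz, py.2 z hz, add_zero]⟩
  | smul a x _ px =>
    refine ⟨?_, fun z hz => by rw [Pi.smul_apply, px.2 z hz, smul_zero]⟩
    have h := IsGeneralizedCharacter.intCast_smul px.1 a
    rwa [Int.cast_smul_eq_zsmul ℂ a x] at h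

theorem ind_isometry (H L : Subgroup G) [Fintype L]
    (K : Subgroup L) [hK : K.Normal] (hKH : ∀ x : L, x ∈ K ↔ (x : G) ∈ H)
    (hTI : ∀ g : G, g ∉ L → ∀ t ∈ H, g * t * g⁻¹ ∈ H → t = 1) :
    IsLinearIsometryOn (zspanOn (inducedIrrAbove K ⊥) {1}ᶜ) (fun α : L → ℂ => indFun L α) ∧
    ∀ α ∈ zspanOn (inducedIrrAbove K ⊥) {1}ᶜ, (fun α : L → ℂ => indFun L α) α 1 = 0 := by
  refine ⟨⟨?_, ?_, ?_, ?_⟩, ?_⟩
  · intro α _ β _
    exact indFun_add L α β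
  · intro α _ n
    show indFun L (n • α) = n • indFun L α
    rw [← Int.cast_smul_eq_zsmul ℂ n α, indFun_smul, Int.cast_smul_eq_zsmul]
  · intro α hα β hβ
    obtain ⟨hαs, hα1⟩ := mem_zspanOn_one.1 hα
    obtain ⟨hβs, hβ1⟩ := mem_zspanOn_one.1 hβ
    obtain ⟨hαg, hα0⟩ := zspan_iia_props K hαs
    obtain ⟨hβg, hβ0⟩ := zspan_iia_props K hβs
    exact classInner_ind_TI L (H : Set G) hTI α β (IsGeneralizedCharacter.isClassFunction hβg)
      (fun x hx => hα0 x (fun h => hx ((hKH x).1 h)))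
      (fun x hx => hβ0 x (fun h => hx ((hKH x).1 h))) hα1
  · intro α hα
    exact IsGeneralizedCharacter.indFun L (zspan_iia_props K hα.1).1
  · intro α hα
    show indFun L α 1 = 0
    rw [indFun_one, (mem_zspanOn_one.1 hα).2, mul_zero]

theorem card_eq_of_mem_iff (H L : Subgroup G) (hHL : H ≤ L) (K : Subgroup L)
    (hKH : ∀ x : L, x ∈ K ↔ (x : G) ∈ H) : Nat.card K = Nat.card H := by
  have hKeq : K = H.subgroupOf L := by
    ext x; rw [hKH, Subgroup.mem_subgroupOf]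
  rw [hKeq]
  exact Nat.card_congr (Subgroup.subgroupOfEquivOfLe hHL).toEquiv

theorem link_dvd (H L : Subgroup G) [Fintype L] (hHL : H ≤ L)
    (K : Subgroup L) [Fintype K] [hK : K.Normal] (hKH : ∀ x : L, x ∈ K ↔ (x : G) ∈ H)
    (hTI : ∀ g : G, g ∉ L → ∀ t ∈ H, g * t * g⁻¹ ∈ H → t = 1)
    (hfree : ∀ g : G, g ∉ L → ∀ u ∈ H, u ≠ 1 → g⁻¹ * u * g ∉ L)
    (hodd : Odd (Nat.card L))
    (Z : Subgroup L) [hZn : Z.Normal] (hZK : Z ≤ K) (hZ1 : Z ≠ ⊥)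
    (hZc : ∀ z ∈ Z, ∀ k ∈ K, z * k = k * z)
    (ψ : G → ℂ) (hψ : IsIrrCharacter G ψ) (q : ℕ) (hq : 0 < q) (t : ℤ)
    (hmult : ∀ θ : K → ℂ, IsIrrCharacter K θ → (∃ z : K, (z : L) ∈ Z ∧ θ z ≠ θ 1) →
       (q : ℂ) * classInner (fun k : K => ψ ((k : L) : G)) θ = (t : ℂ) * θ 1) :
    (q : ℤ) ∣ t := by
  classical
  have hcardK : Nat.card K = Nat.card H := card_eq_of_mem_iff H L hHL K hKH
  have hchar : IsCharacter K (fun k : K => ψ ((k : L) : G)) :=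
    IsCharacter.comp (L.subtype.comp K.subtype) (IsIrrCharacter.isCharacter hψ)
  have hdiff : ∀ z : K, (z : L) ∈ Z → z ≠ 1 →
      (q : ℂ) * (ψ 1 - ψ ((z : L) : G)) = (t : ℂ) * (Nat.card K : ℂ) := by
    intro z hz hz1
    have h := diff_formula (Z.subgroupOf K) (fun k : K => ψ ((k : L) : G)) hchar (q : ℂ) (t : ℂ)
      (fun θ hθ ⟨z', hz', hne⟩ => hmult θ hθ ⟨z', Subgroup.mem_subgroupOf.1 hz', hne⟩) z
      (Subgroup.mem_subgroupOf.2 hz) hz1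
    have h' : (q : ℂ) * (ψ (((1 : K) : L) : G) - ψ ((z : L) : G))
        = (t : ℂ) * (Nat.card K : ℂ) := h
    rw [Subgroup.coe_one, Subgroup.coe_one] at h'
    exact h'
  obtain ⟨ZG, hZG⟩ : ∃ ZG : Subgroup G, ZG = Z.map L.subtype := ⟨_, rfl⟩
  have hZGmem : ∀ w, w ∈ ZG ↔ ∃ z : L, z ∈ Z ∧ (z : G) = w := by
    intro w; rw [hZG, Subgroup.mem_map]; exact Iff.rfl
  have hconstq : ∀ w ∈ ZG, w ≠ 1 →
      (q : ℂ) * (ψ 1 - ψ w) = (t : ℂ) * (Nat.card K : ℂ) := by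
    intro w hw hw1
    obtain ⟨z, hz, rfl⟩ := (hZGmem w).1 hw
    apply hdiff ⟨z, hZK hz⟩ hz
    intro h
    apply hw1
    have h2 : (((⟨z, hZK hz⟩ : K) : L) : G) = (((1 : K) : L) : G) := by rw [h]
    rw [Subgroup.coe_one, Subgroup.coe_one] at h2
    exact h2
  obtain ⟨z₀, hz₀⟩ := (Subgroup.ne_bot_iff_exists_ne_one).1 hZ1
  obtain ⟨w₀, hw₀def⟩ : ∃ w₀ : G, w₀ = ((z₀ : L) : G) := ⟨_, rfl⟩
  have hw₀ : w₀ ∈ ZG := (hZGmem w₀).2 ⟨z₀, z₀.2, hw₀def.symm⟩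
  have hw₀1 : w₀ ≠ 1 := by
    intro h
    apply hz₀
    apply Subtype.ext
    apply Subtype.ext
    rw [← hw₀def, h]; rfl
  have hqne : (q : ℂ) ≠ 0 := by exact_mod_cast hq.ne'
  have hconst2 : ∀ w ∈ ZG, w ≠ 1 → ψ w = ψ w₀ := by
    intro w hw hw1
    have h1 := hconstq w hw hw1
    have h2 := hconstq w₀ hw₀ hw₀1
    have h3 : (q : ℂ) * (ψ w - ψ w₀) = 0 := by linear_combination h2 - h1
    rcases mul_eq_zero.1 h3 with h | h
    · exact absurd h hqne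
    · exact sub_eq_zero.1 h
  have hcharG := IsIrrCharacter.isCharacter hψ
  obtain ⟨a, ha⟩ := Cfsg.Agent.Lib.Lead.CycTI.int_of_pow_invariant hcharG w₀ (fun k hk => by
    apply hconst2 _ (ZG.pow_mem hw₀ k)
    intro h1
    have h2 : orderOf w₀ ∣ k := orderOf_dvd_of_pow_eq_one h1
    have h3 : orderOf w₀ ∣ Nat.card G := orderOf_dvd_natCard w₀
    have h4 := Nat.dvd_gcd h2 h3
    rw [Nat.Coprime.gcd_eq_one hk] at h4
    exact hw₀1 (orderOf_eq_one_iff.1 (Nat.dvd_one.1 h4)))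
  have hconst' : ∀ w ∈ ZG, w ≠ 1 → ψ w = a := fun w hw hw1 => (hconst2 w hw hw1).trans ha
  have hZP : ZG ≤ H := by
    intro w hw
    obtain ⟨z, hz, rfl⟩ := (hZGmem w).1 hw
    exact (hKH z).1 (hZK hz)
  have hZn' : ∀ x ∈ L, ∀ w ∈ ZG, x * w * x⁻¹ ∈ ZG := by
    intro x hx w hw
    obtain ⟨z, hz, rfl⟩ := (hZGmem w).1 hw
    exact (hZGmem _).2 ⟨⟨x, hx⟩ * z * ⟨x, hx⟩⁻¹, hZn.conj_mem z hz _, rfl⟩
  have hZc' : ∀ w ∈ ZG, ∀ y ∈ H, w * y = y * w := by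
    intro w hw y hy
    obtain ⟨z, hz, rfl⟩ := (hZGmem w).1 hw
    have h1 := hZc z hz ⟨y, hHL hy⟩ ((hKH _).2 hy)
    exact congrArg Subtype.val h1
  have hCL : Subgroup.centralizer ({w₀} : Set G) ≤ L := by
    intro h hh
    by_contra hn
    have hc := Subgroup.mem_centralizer_iff.1 hh w₀ (Set.mem_singleton w₀)
    have h1 : h * w₀ * h⁻¹ = w₀ := by rw [← hc, mul_inv_cancel_right]
    have h2 := hTI h hn w₀ (hZP hw₀) (by rw [h1]; exact hZP hw₀)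
    exact hw₀1 h2
  have hdvd := Cfsg.Agent.Lib.Lead.TISyl.s1523_core hψ H L ZG hHL hZP hfree hodd hZn' hZc' w₀
    hw₀ hw₀1 hCL a hconst'
  obtain ⟨m, hm⟩ := hdvd
  refine ⟨m, ?_⟩
  have h1 := hconstq w₀ hw₀ hw₀1
  rw [IsCharacter.apply_one_eq_charDegree hcharG, ha, hcardK] at h1
  have h2 : ((charDegree ψ : ℤ) : ℂ) - (a : ℂ) = ((Nat.card H : ℤ) : ℂ) * (m : ℂ) := by
    exact_mod_cast congrArg (Int.cast : ℤ → ℂ) hm
  have hHne : (Nat.card H : ℂ) ≠ 0 := by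
    have : Nat.card H ≠ 0 := (Nat.card_pos (α := H)).ne'
    exact_mod_cast this
  have h3 : (t : ℂ) = (q : ℂ) * (m : ℂ) := by
    have h4 : (Nat.card H : ℂ) * ((t : ℂ) - (q : ℂ) * (m : ℂ)) = 0 := by
      push_cast at h2
      linear_combination (q : ℂ) * h2 - h1
    rcases mul_eq_zero.1 h4 with h | h
    · exact absurd h hHne
    · exact sub_eq_zero.1 h
  exact_mod_cast h3

end ti

end Cfsg.Agent.Lib.Lead.Sib
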