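import Mathlib
import Cfsg.Agent.Lib.Lead.Sib2

set_option autoImplicit false
open Cfsg

namespace Cfsg.Agent.Lib.Lead.Sib

open Cfsg.Agent.Lib.Helper6 Cfsg.Agent.Lib.Lead.Coh
open scoped ComplexConjugate

section linkthm
variable {G : Type*} [Group G] [Fintype G]

theorem nonempty_of_coherent {L : Type*} [Group L] [Fintype L] {T : Set (L → ℂ)}
    {τ : (L → ℂ) → (G → ℂ)} (h : IsCoherent T {1}ᶜ τ) : T.Nonempty := by
  obtain ⟨⟨α, hα, hα0⟩, _⟩ := h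
  rcases Set.eq_empty_or_nonempty T with h | h
  · exfalso
    rw [h] at hα
    have h1 : α ∈ (Submodule.span ℤ (∅ : Set (L → ℂ))) := hα.1
    rw [Submodule.span_empty, Submodule.mem_bot] at h1
    exact hα0 h1
  · exact h

theorem link (H L : Subgroup G) [Fintype L] (hHL : H ≤ L)
    (K : Subgroup L) [hK : K.Normal] (hKH : ∀ x : L, x ∈ K ↔ (x : G) ∈ H)
    (hTI : ∀ g : G, g ∉ L → ∀ t ∈ H, g * t * g⁻¹ ∈ H → t = 1)
    (hfree : ∀ g : G, g ∉ L → ∀ u ∈ H, u ≠ 1 → g⁻¹ * u * g ∉ L)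
    (hodd : Odd (Nat.card L))
    (Z : Subgroup L) [hZn : Z.Normal] (hZK : Z ≤ K) (hZ1 : Z ≠ ⊥)
    (hZc : ∀ z ∈ Z, ∀ k ∈ K, z * k = k * z)
    (A' : Subgroup L) (hZA : Z ≤ A')
    (R : (L → ℂ) → Finset (G → ℂ))
    (hS : IsCoherenceSystem (inducedIrrAbove K ⊥) (fun α : L → ℂ => indFun L α) R)
    (hirr : ∀ ξ ∈ inducedIrrAbove K ⊥, IsIrrCharacter L ξ)
    (hXdeg : ∀ χ ∈ inducedIrrAbove K A', χ 1 = (K.index : ℂ))
    (hX : IsCoherent (inducedIrrAbove K A') {1}ᶜ (fun α : L → ℂ => indFun L α))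
    (hY : IsCoherent (inducedIrrAbove K ⊥ \ inducedIrrAbove K Z) {1}ᶜ
      (fun α : L → ℂ => indFun L α))
    (η₀ : L → ℂ) (hη₀ : η₀ ∈ inducedIrrAbove K ⊥ \ inducedIrrAbove K Z)
    (hdvdY : ∀ η ∈ inducedIrrAbove K ⊥ \ inducedIrrAbove K Z, charDegree η₀ ∣ charDegree η) :
    IsCoherent (inducedIrrAbove K A' ∪ (inducedIrrAbove K ⊥ \ inducedIrrAbove K Z)) {1}ᶜ
      (fun α : L → ℂ => indFun L α) := by
  classical
  haveI : Fintype K := Fintype.ofFinite K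
  have hXne := nonempty_of_coherent hX
  obtain ⟨τ, hτdef⟩ : ∃ τ : (L → ℂ) → (G → ℂ), τ = fun α => indFun L α := ⟨_, rfl⟩
  rw [← hτdef] at hS hX hY ⊢
  have hτapp : ∀ f, τ f = indFun L f := fun f => by rw [hτdef]
  obtain ⟨Y, hYdef⟩ : ∃ Y, Y = inducedIrrAbove K ⊥ \ inducedIrrAbove K Z := ⟨_, rfl⟩
  rw [← hYdef] at hY hη₀ hdvdY ⊢
  obtain ⟨X, hXdef⟩ : ∃ X, X = inducedIrrAbove K A' := ⟨_, rfl⟩
  rw [← hXdef] at hX hXdeg hXne ⊢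
  obtain ⟨S, hSdef⟩ : ∃ S, S = inducedIrrAbove K ⊥ := ⟨_, rfl⟩
  rw [← hSdef] at hS hirr
  have hXS : X ⊆ S := by rw [hXdef, hSdef]; exact iia_mono K bot_le
  have hYS : Y ⊆ S := by rw [hYdef, hSdef]; exact Set.sdiff_subset
  have hXZ : X ⊆ inducedIrrAbove K Z := by rw [hXdef]; exact iia_mono K hZA
  have hXY : Disjoint X Y := Set.disjoint_left.2 (fun a ha hb => by
    rw [hYdef] at hb; exact hb.2 (hXZ ha))
  have hXc : ∀ φ ∈ X, conjFun φ ∈ X := fun φ hφ => by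
    rw [hXdef] at hφ ⊢; exact iia_conj K A' hφ
  have hYc : ∀ φ ∈ Y, conjFun φ ∈ Y := by
    intro φ hφ
    rw [hYdef] at hφ ⊢
    refine ⟨iia_conj K ⊥ hφ.1, fun h3 => hφ.2 ?_⟩
    have h4 := iia_conj K Z h3
    rwa [conjFun_conjFun'] at h4
  have hcne : ∀ φ ∈ S, conjFun φ ≠ φ := hS.conj_ne
  obtain ⟨χ₀, hχ₀⟩ := hXne
  obtain ⟨χ₁, hχ₁def⟩ : ∃ χ₁, χ₁ = conjFun χ₀ := ⟨_, rfl⟩
  have hχ₁ : χ₁ ∈ X := by rw [hχ₁def]; exact hXc χ₀ hχ₀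
  have hχ01 : χ₁ ≠ χ₀ := by rw [hχ₁def]; exact hcne χ₀ (hXS hχ₀)
  obtain ⟨η₁, hη₁def⟩ : ∃ η₁, η₁ = conjFun η₀ := ⟨_, rfl⟩
  have hη₁ : η₁ ∈ Y := by rw [hη₁def]; exact hYc η₀ hη₀
  have hη01 : η₁ ≠ η₀ := by rw [hη₁def]; exact hcne η₀ (hYS hη₀)
  obtain ⟨hXne0, σ, hσ, hσα⟩ := hX
  obtain ⟨hYne0, τ₂, hτ₂, hτ₂α⟩ := hY
  have h31 := fun (σ' τ' : (L → ℂ) → (G → ℂ)) (h1 : IsLinearIsometryOn (zspan X) σ')
      (h2 : ∀ θ ∈ zspanOn X {1}ᶜ, σ' θ = τ θ) (h3 : IsLinearIsometryOn (zspan Y) τ')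
      (h4 : ∀ θ ∈ zspanOn Y {1}ᶜ, τ' θ = τ θ) =>
    s1531 L S X Y hirr hXS hYS hXY ⟨χ₀, hχ₀, χ₁, hχ₁, hχ01.symm⟩
      ⟨η₀, hη₀, η₁, hη₁, hη01.symm⟩ τ hS.isometry hS.map_one σ' τ' h1 h2 h3 h4
  have horth := (h31 σ τ₂ hσ hσα hτ₂ hτ₂α).1
  -- degrees
  obtain ⟨e, hedef⟩ : ∃ e : ℕ, e = K.index := ⟨_, rfl⟩
  have he0 : (e : ℂ) ≠ 0 := by
    rw [hedef]
    have : K.index ≠ 0 := Subgroup.index_ne_zero_of_finite
    exact_mod_cast this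
  have hXdeg' : ∀ χ ∈ X, χ 1 = (e : ℂ) := by
    intro χ hχ; rw [hedef]; exact hXdeg χ hχ
  have hη₀S : η₀ ∈ S := hYS hη₀
  have hη₀S' : η₀ ∈ inducedIrrAbove K ⊥ := by rw [← hSdef]; exact hη₀S
  obtain ⟨θ₀, hθ₀, hθ₀ne, -, hη₀eq⟩ := hη₀S'
  obtain ⟨q, hqdef⟩ : ∃ q : ℕ, q = charDegree θ₀ := ⟨_, rfl⟩
  have hq : 0 < q := by rw [hqdef]; exact IsIrrCharacter.charDegree_pos hθ₀
  have hη₀deg : η₀ 1 = (q : ℂ) * (e : ℂ) := by
    rw [hη₀eq, indFun_one, IsCharacter.apply_one_eq_charDegree (IsIrrCharacter.isCharacter hθ₀),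
      hqdef, hedef]
    ring
  have hcharS : ∀ η ∈ S, IsCharacter L η := fun η hη => IsIrrCharacter.isCharacter (hirr η hη)
  obtain ⟨dY, hdYdef⟩ : ∃ dY : (L → ℂ) → ℕ, dY = fun η => charDegree η / charDegree η₀ :=
    ⟨_, rfl⟩
  have hc₀pos : 0 < charDegree η₀ := IsIrrCharacter.charDegree_pos (hirr η₀ hη₀S)
  have hdYmul : ∀ η ∈ Y, dY η * charDegree η₀ = charDegree η := by
    intro η hη
    rw [hdYdef]
    exact Nat.div_mul_cancel (hdvdY η hη)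
  have hdY : ∀ η ∈ Y, η 1 = (dY η : ℂ) * η₀ 1 := by
    intro η hη
    rw [IsCharacter.apply_one_eq_charDegree (hcharS η (hYS hη)),
      IsCharacter.apply_one_eq_charDegree (hcharS η₀ hη₀S), ← hdYmul η hη]
    push_cast; ring
  have hdY1 : dY η₁ = 1 := by
    rw [hdYdef]
    show charDegree η₁ / charDegree η₀ = 1
    have h1 : charDegree η₁ = charDegree η₀ := by
      unfold charDegree
      rw [hη₁def, conjFun_apply_one_of_char (hcharS η₀ hη₀S)]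
    rw [h1]; exact Nat.div_self hc₀pos
  -- β and A
  obtain ⟨γ₀, hγ₀def⟩ : ∃ γ₀ : L → ℂ, γ₀ = (q : ℤ) • χ₀ - η₀ := ⟨_, rfl⟩
  have hγ₀ : γ₀ ∈ zspanOn S {1}ᶜ := by
    rw [hγ₀def, mem_zspanOn_one]
    refine ⟨Submodule.sub_mem _ (zs_smul _ (zs_mem (hXS hχ₀))) (zs_mem hη₀S), ?_⟩
    rw [Pi.sub_apply, Pi.smul_apply, zsmul_eq_mul, hXdeg' χ₀ hχ₀, hη₀deg]
    push_cast; ring
  obtain ⟨hτadd, hτsmul, hτiso, hτgen⟩ := hS.isometry
  have hβgen : IsGeneralizedCharacter G (τ γ₀) := hτgen _ hγ₀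
  have hψgen : IsGeneralizedCharacter G (σ χ₀) := hσ.2.2.2 _ (zs_mem hχ₀)
  obtain ⟨A, hA⟩ := classInner_gen_int hβgen hψgen
  have hψnorm : classInner (σ χ₀) (σ χ₀) = 1 := by
    rw [hσ.2.2.1 _ (zs_mem hχ₀) _ (zs_mem hχ₀)]; exact irr_self (hirr _ (hXS hχ₀))
  obtain ⟨ψ', hψ'⟩ := norm_one_cases hψgen hψnorm
  obtain ⟨ψL, hψLdef⟩ : ∃ ψL : L → ℂ, ψL = fun x : L => (ψ' : G → ℂ) x := ⟨_, rfl⟩
  have hψLgen : IsGeneralizedCharacter L ψL := by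
    rw [hψLdef]
    exact IsCharacter.isGeneralizedCharacter
      (IsCharacter.restrict L (IsIrrCharacter.isCharacter ψ'.2))
  have hψLcf : IsClassFunction L ψL := IsGeneralizedCharacter.isClassFunction hψLgen
  have hrecG : ∀ f : L → ℂ, classInner (indFun L f) (ψ' : G → ℂ) = classInner f ψL := by
    intro f; rw [hψLdef]
    exact Cfsg.Agent.S0146.result L f _ (IsIrrCharacter.isClassFunction ψ'.2)
  obtain ⟨t', ht'⟩ := classInner_gen_int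
    (IsCharacter.isGeneralizedCharacter (hcharS η₀ hη₀S)) hψLgen
  obtain ⟨c₀, hc₀⟩ := classInner_gen_int
    (IsCharacter.isGeneralizedCharacter (hcharS χ₀ (hXS hχ₀))) hψLgen
  have hsgn : ∀ f : G → ℂ, classInner f (σ χ₀) = 0 → classInner f (ψ' : G → ℂ) = 0 := by
    intro f hf
    rcases hψ' with h | h
    · rwa [h] at hf
    · rw [h, classInner_neg_right, neg_eq_zero] at hf; exact hf
  have hmultY : ∀ η ∈ Y, classInner η ψL = (dY η : ℂ) * (t' : ℂ) := by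
    intro η hη
    have hmemY : η - ((dY η : ℕ) : ℤ) • η₀ ∈ zspanOn Y {1}ᶜ := by
      rw [mem_zspanOn_one]
      refine ⟨Submodule.sub_mem _ (zs_mem hη) (zs_smul _ (zs_mem hη₀)), ?_⟩
      rw [Pi.sub_apply, Pi.smul_apply, zsmul_eq_mul, hdY η hη]
      push_cast; ring
    have e1 := iso_sub_smul hτ₂ (fun a ha n => zs_smul n ha) (zs_mem hη) (zs_mem hη₀)
      ((dY η : ℕ) : ℤ)
    have e2 : classInner (τ₂ (η - ((dY η : ℕ) : ℤ) • η₀)) (σ χ₀) = 0 := by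
      rw [e1, classInner_sub_left, classInner_zsmul_left,
        ← classInner_conj_symm (σ χ₀) (τ₂ η), ← classInner_conj_symm (σ χ₀) (τ₂ η₀),
        horth χ₀ hχ₀ η hη, horth χ₀ hχ₀ η₀ hη₀]
      simp
    rw [hτ₂α _ hmemY, hτapp] at e2
    have e3 := hsgn _ e2
    rw [hrecG, classInner_sub_left, classInner_zsmul_left, ht'] at e3
    push_cast at e3
    linear_combination e3
  have hmult : ∀ θ : K → ℂ, IsIrrCharacter K θ → (∃ z : K, (z : L) ∈ Z ∧ θ z ≠ θ 1) →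
      (q : ℂ) * classInner (fun k : K => (ψ' : G → ℂ) ((k : L) : G)) θ = (t' : ℂ) * θ 1 := by
    intro θ hθ ⟨z, hzZ, hne⟩
    have hθ1 : θ ≠ fun _ => 1 := by intro h; apply hne; rw [h]
    have hmemS : indFun K θ ∈ inducedIrrAbove K ⊥ := ⟨θ, hθ, hθ1, fun a ha => by
      have h1 : a = 1 := Subtype.ext ((Subgroup.mem_bot.1 ha).trans (Subgroup.coe_one K).symm)
      rw [h1], rfl⟩
    have hnotZ : indFun K θ ∉ inducedIrrAbove K Z := by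
      intro hmem
      apply hne
      exact irr_ker_of_ind_ker K Z hθ (fun z' hz' => iia_apply_of_mem K Z hZK hmem hz') z hzZ
    have hηY : indFun K θ ∈ Y := by rw [hYdef]; exact ⟨hmemS, hnotZ⟩
    have h1 := hmultY _ hηY
    have h2 := Cfsg.Agent.S0146.result K θ ψL hψLcf
    rw [h2] at h1
    have h3 : (fun k : K => ψL k) = fun k : K => (ψ' : G → ℂ) ((k : L) : G) := by rw [hψLdef]
    rw [h3] at h1
    have h4 : classInner (fun k : K => (ψ' : G → ℂ) ((k : L) : G)) θ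
        = (dY (indFun K θ) : ℂ) * (t' : ℂ) := by
      rw [← classInner_conj_symm, h1, map_mul, map_natCast, map_intCast]
    rw [h4]
    have h5 := hdY _ hηY
    rw [indFun_one, hη₀deg, ← hedef] at h5
    have h6 : θ 1 = (dY (indFun K θ) : ℂ) * (q : ℂ) := by
      have h7 : (e : ℂ) * (θ 1 - (dY (indFun K θ) : ℂ) * (q : ℂ)) = 0 := by
        linear_combination h5
      rcases mul_eq_zero.1 h7 with h | h
      · exact absurd h he0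
      · exact sub_eq_zero.1 h
    rw [h6]; ring
  have hqt : (q : ℤ) ∣ t' := link_dvd H L hHL K hKH hTI hfree hodd Z hZK hZ1 hZc
    (ψ' : G → ℂ) ψ'.2 q hq t' hmult
  have hqA : (q : ℤ) ∣ A := by
    have h1 : classInner (τ γ₀) (ψ' : G → ℂ) = (q : ℂ) * (c₀ : ℂ) - (t' : ℂ) := by
      rw [hτapp, hrecG, hγ₀def, classInner_sub_left, classInner_zsmul_left, hc₀, ht']
      push_cast; ring
    obtain ⟨m, hm⟩ := hqt
    rcases hψ' with h | h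
    · rw [h, h1] at hA
      refine ⟨c₀ - m, ?_⟩
      have h2 : (A : ℂ) = (((q : ℤ) * (c₀ - m) : ℤ) : ℂ) := by
        rw [← hA, hm]; push_cast; ring
      exact_mod_cast h2
    · rw [h, classInner_neg_right, h1] at hA
      refine ⟨m - c₀, ?_⟩
      have h2 : (A : ℂ) = (((q : ℤ) * (m - c₀) : ℤ) : ℂ) := by
        rw [← hA, hm]; push_cast; ring
      exact_mod_cast h2
  obtain ⟨FX, hFX⟩ : ∃ FX : Finset (L → ℂ), ∀ φ, φ ∈ FX ↔ φ ∈ X := by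
    have hfin : X.Finite := by rw [hXdef]; exact iia_finite K A'
    exact ⟨hfin.toFinset, fun φ => Set.Finite.mem_toFinset _⟩
  obtain ⟨FY, hFY⟩ : ∃ FY : Finset (L → ℂ), ∀ φ, φ ∈ FY ↔ φ ∈ Y := by
    have hfin : Y.Finite := by rw [hYdef]; exact (iia_finite K ⊥).subset Set.sdiff_subset
    exact ⟨hfin.toFinset, fun φ => Set.Finite.mem_toFinset _⟩
  rw [hγ₀def] at hA
  obtain ⟨Bz, hBz, hdA, hdB, -, hL1, hL2⟩ := link_core L S X Y hirr hXS hYS hXY τ hS.isometry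
    σ τ₂ hσ hσα hτ₂ hτ₂α horth FX FY hFX hFY e q hXdeg' χ₀ χ₁ hχ₀ hχ₁ hχ01 η₀ η₁ hη₀ hη₁ hη01
    hη₀deg dY hdY hdY1 hq A hA hqA
  have hXchar : ∀ w ∈ X, IsCharacter L w := fun w hw => hcharS w (hXS hw)
  have hYchar : ∀ w ∈ Y, IsCharacter L w := fun w hw => hcharS w (hYS hw)
  obtain ⟨σs, hσs, hσsα, hσsorth, hAs⟩ : ∃ σs : (L → ℂ) → (G → ℂ),
      IsLinearIsometryOn (zspan X) σs ∧
      (∀ θ ∈ zspanOn X {1}ᶜ, σs θ = τ θ) ∧
      (∀ χ ∈ X, ∀ η ∈ Y, classInner (σs χ) (τ₂ η) = 0) ∧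
      classInner (τ ((q : ℤ) • χ₀ - η₀)) (σs χ₀) = ((q : ℤ) : ℂ) := by
    rcases hdA with h | ⟨h0, hX2⟩
    · exact ⟨σ, hσ, hσα, horth, by rw [hA, h]⟩
    · refine ⟨fun f => -σ (conjFun f), flip_iso X hXchar hXc σ hσ,
        flip_agree X χ₀ (hXchar χ₀ hχ₀) ?_ ?_ σ τ hσ hσα, ?_, ?_⟩
      · rw [hXdeg' χ₀ hχ₀]; exact he0
      · intro w hw; rw [← hχ₁def]; exact hX2 w hw
      · intro χ hχ η hη
        show classInner (-σ (conjFun χ)) (τ₂ η) = 0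
        rw [classInner_neg_left, horth _ (hXc χ hχ) η hη, neg_zero]
      · show classInner (τ ((q : ℤ) • χ₀ - η₀)) (-σ (conjFun χ₀)) = ((q : ℤ) : ℂ)
        rw [classInner_neg_right, ← hχ₁def, hL1 χ₁ hχ₁ hχ01, h0]
        push_cast; ring
  obtain ⟨τs, hτs, hτsα, hτsorth, hBs⟩ : ∃ τs : (L → ℂ) → (G → ℂ),
      IsLinearIsometryOn (zspan Y) τs ∧
      (∀ θ ∈ zspanOn Y {1}ᶜ, τs θ = τ θ) ∧
      (∀ χ ∈ X, ∀ η ∈ Y, classInner (σs χ) (τs η) = 0) ∧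
      classInner (τ ((q : ℤ) • χ₀ - η₀)) (τs η₀) = ((-1 : ℤ) : ℂ) := by
    rcases hdB with h | ⟨h0, hY2⟩
    · exact ⟨τ₂, hτ₂, hτ₂α, hσsorth, by rw [hBz, h]⟩
    · refine ⟨fun f => -τ₂ (conjFun f), flip_iso Y hYchar hYc τ₂ hτ₂,
        flip_agree Y η₀ (hYchar η₀ hη₀) ?_ ?_ τ₂ τ hτ₂ hτ₂α, ?_, ?_⟩
      · exact IsIrrCharacter.apply_one_ne_zero (hirr η₀ hη₀S)
      · intro w hw; rw [← hη₁def]; exact hY2 w hw
      · intro χ hχ η hη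
        show classInner (σs χ) (-τ₂ (conjFun η)) = 0
        rw [classInner_neg_right, hσsorth χ hχ _ (hYc η hη), neg_zero]
      · show classInner (τ ((q : ℤ) • χ₀ - η₀)) (-τ₂ (conjFun η₀)) = ((-1 : ℤ) : ℂ)
        rw [classInner_neg_right, ← hη₁def, hL2 η₁ hη₁ hη01, hdY1, h0]
        push_cast; ring
  obtain ⟨Bz', hBz', -, -, hlink, -, -⟩ := link_core L S X Y hirr hXS hYS hXY τ hS.isometry
    σs τs hσs hσsα hτs hτsα hτsorth FX FY hFX hFY e q hXdeg' χ₀ χ₁ hχ₀ hχ₁ hχ01 η₀ η₁ hη₀ hη₁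
    hη01 hη₀deg dY hdY hdY1 hq (q : ℤ) hAs (dvd_refl _)
  have hB' : Bz' = -1 := by
    have h1 : (Bz' : ℂ) = ((-1 : ℤ) : ℂ) := hBz'.symm.trans hBs
    exact_mod_cast h1
  have hl := hlink rfl hB'
  refine (h31 σs τs hσs hσsα hτs hτsα).2 ⟨χ₀, hχ₀, η₀, hη₀, ?_⟩
  have e1 : χ₀ 1 • η₀ - η₀ 1 • χ₀ = (-(e : ℤ)) • ((q : ℤ) • χ₀ - η₀) := by
    rw [hXdeg' χ₀ hχ₀, hη₀deg]
    funext x
    simp only [Pi.sub_apply, Pi.smul_apply]
    simp only [smul_eq_mul, zsmul_eq_mul]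
    push_cast; ring
  have e2 : χ₀ 1 • τs η₀ - η₀ 1 • σs χ₀ = (-(e : ℤ)) • ((q : ℤ) • σs χ₀ - τs η₀) := by
    rw [hXdeg' χ₀ hχ₀, hη₀deg]
    funext x
    simp only [Pi.sub_apply, Pi.smul_apply]
    simp only [smul_eq_mul, zsmul_eq_mul]
    push_cast; ring
  rw [e1, e2, ← hl, ← hγ₀def]
  exact hτsmul _ hγ₀ _

end linkthm

end Cfsg.Agent.Lib.Lead.Sib
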