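import Mathlib
import Cfsg.Agent.Lib.Lead.Sib3
import Cfsg.Agent.Lib.Helper1.Nilpotent
import Cfsg.Agent.Lib.Helper6.OddOrder

set_option autoImplicit false
open Cfsg

namespace Cfsg.Agent.Lib.Lead.Sib

open Cfsg.Agent.Lib.Helper6 Cfsg.Agent.Lib.Lead.Coh
open scoped ComplexConjugate

section grp

/-- the set product `H W` when `W` normalises `H` -/
def prodSub {G : Type*} [Group G] (H W : Subgroup G)
    (hn : ∀ w ∈ W, ∀ h ∈ H, w * h * w⁻¹ ∈ H) : Subgroup G where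
  carrier := {x | ∃ h ∈ H, ∃ w ∈ W, x = h * w}
  one_mem' := ⟨1, H.one_mem, 1, W.one_mem, (mul_one 1).symm⟩
  mul_mem' := by
    rintro _ _ ⟨h, hh, w, hw, rfl⟩ ⟨h', hh', w', hw', rfl⟩
    exact ⟨h * (w * h' * w⁻¹), H.mul_mem hh (hn w hw h' hh'), w * w', W.mul_mem hw hw',
      by group⟩
  inv_mem' := by
    rintro _ ⟨h, hh, w, hw, rfl⟩
    exact ⟨w⁻¹ * h⁻¹ * w⁻¹⁻¹, hn w⁻¹ (W.inv_mem hw) h⁻¹ (H.inv_mem hh), w⁻¹, W.inv_mem hw,
      by group⟩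

theorem FK_of_compl {G : Type*} [Group G] (H L W₁ : Subgroup G) [Finite H] (hW₁L : W₁ ≤ L)
    (hHn : ∀ x ∈ L, ∀ h ∈ H, x * h * x⁻¹ ∈ H) (hsup : H ⊔ W₁ = L)
    (hfpf : ∀ w ∈ W₁, w ≠ 1 → ∀ h ∈ H, w * h = h * w → h = 1) :
    ∀ k ∈ H, k ≠ 1 → ∀ x ∈ L, x * k = k * x → x ∈ H := by
  intro k hk hk1 x hx hxk
  have hn : ∀ w ∈ W₁, ∀ h ∈ H, w * h * w⁻¹ ∈ H := fun w hw h hh => hHn w (hW₁L hw) h hh
  have hxP : x ∈ prodSub H W₁ hn := by
    have hle : H ⊔ W₁ ≤ prodSub H W₁ hn :=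
      sup_le (fun h hh => ⟨h, hh, 1, W₁.one_mem, (mul_one h).symm⟩)
        (fun w hw => ⟨1, H.one_mem, w, hw, (one_mul w).symm⟩)
    apply hle
    rw [hsup]; exact hx
  obtain ⟨h, hh, w, hw, rfl⟩ := hxP
  by_cases hw1 : w = 1
  · rw [hw1, mul_one]; exact hh
  · exfalso
    obtain ⟨k', hk', hky⟩ := Frob.exists_conj_of_fpf H w (hn w hw) (hfpf w hw hw1) h hh
    rw [hky] at hxk
    have h2 : w * (k' * k * k'⁻¹) = (k' * k * k'⁻¹) * w := by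
      calc w * (k' * k * k'⁻¹) = k' * ((k'⁻¹ * w * k') * k) * k'⁻¹ := by group
        _ = k' * (k * (k'⁻¹ * w * k')) * k'⁻¹ := by rw [hxk]
        _ = (k' * k * k'⁻¹) * w := by group
    have h3 := hfpf w hw hw1 _ (H.mul_mem (H.mul_mem hk' hk) (H.inv_mem hk')) h2
    have h4 : k = 1 := by
      have h5 : k = k'⁻¹ * (k' * k * k'⁻¹) * k' := by group
      rw [h5, h3]; group
    exact hk1 h4

theorem frob_of_FK {L : Type*} [Group L] [Finite L] (K : Subgroup L) [hK : K.Normal]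
    (hFK : ∀ k ∈ K, k ≠ 1 → ∀ x : L, x * k = k * x → x ∈ K)
    (H₁ : Subgroup L) [hH₁ : H₁.Normal] (hH₁K : H₁ ≤ K) :
    ∀ k ∈ K, k ∉ H₁ → ∀ x : L, x * k * x⁻¹ * k⁻¹ ∈ H₁ → x ∈ K := by
  intro k hk hkH x hx
  by_contra hxK
  apply hkH
  have hfix : ∀ n ∈ K, x * n = n * x → n = 1 := by
    intro n hn hc
    by_contra hn1
    exact hxK (hFK n hn hn1 x hc)
  let f : H₁ → H₁ := fun h => ⟨x * h * x⁻¹ * (h : L)⁻¹,
    H₁.mul_mem (hH₁.conj_mem h h.2 x) (H₁.inv_mem h.2)⟩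
  have hinj_gen : ∀ a ∈ K, ∀ b ∈ K, x * a * x⁻¹ * a⁻¹ = x * b * x⁻¹ * b⁻¹ → a = b := by
    intro a ha b hb hab
    have h2 : a * x⁻¹ * a⁻¹ = b * x⁻¹ * b⁻¹ := by
      calc a * x⁻¹ * a⁻¹ = x⁻¹ * (x * a * x⁻¹ * a⁻¹) := by group
        _ = x⁻¹ * (x * b * x⁻¹ * b⁻¹) := by rw [hab]
        _ = b * x⁻¹ * b⁻¹ := by group
    have h3 : (b⁻¹ * a) * x⁻¹ = x⁻¹ * (b⁻¹ * a) := by
      calc (b⁻¹ * a) * x⁻¹ = b⁻¹ * (a * x⁻¹ * a⁻¹) * a := by group
        _ = b⁻¹ * (b * x⁻¹ * b⁻¹) * a := by rw [h2]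
        _ = x⁻¹ * (b⁻¹ * a) := by group
    have h1 : x * (b⁻¹ * a) = (b⁻¹ * a) * x := by
      calc x * (b⁻¹ * a) = x * ((b⁻¹ * a) * x⁻¹) * x := by group
        _ = x * (x⁻¹ * (b⁻¹ * a)) * x := by rw [h3]
        _ = (b⁻¹ * a) * x := by group
    have h4 := hfix _ (K.mul_mem (K.inv_mem hb) ha) h1
    exact (inv_mul_eq_one.1 h4).symm
  have hinj : Function.Injective f := by
    intro a b hab
    have h1 : x * a * x⁻¹ * (a : L)⁻¹ = x * b * x⁻¹ * (b : L)⁻¹ := congrArg Subtype.val hab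
    exact Subtype.ext (hinj_gen a (hH₁K a.2) b (hH₁K b.2) h1)
  obtain ⟨h, hh⟩ := Finite.surjective_of_injective hinj ⟨x * k * x⁻¹ * k⁻¹, hx⟩
  have h1 : x * h * x⁻¹ * (h : L)⁻¹ = x * k * x⁻¹ * k⁻¹ := congrArg Subtype.val hh
  have h2 := hinj_gen h (hH₁K h.2) k hk h1
  rw [← h2]; exact h.2

theorem commutator_lt_self {L : Type*} [Group L] (K : Subgroup L) [Group.IsSolvable K] (hK1 : K ≠ ⊥) :
    ⁅K, K⁆ < K := by
  refine lt_of_le_of_ne (Subgroup.commutator_le_self K) (fun h => ?_)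
  haveI : Nontrivial K := (Subgroup.nontrivial_iff_ne_bot K).2 hK1
  have h1 := Group.IsSolvable.commutator_lt_top_of_nontrivial K
  have h2 : (commutator K).map K.subtype = (⊤ : Subgroup K).map K.subtype := by
    rw [Subgroup.map_subtype_commutator, h, ← MonoidHom.range_eq_map, Subgroup.range_subtype]
  have h3 := Subgroup.map_injective K.subtype_injective h2
  exact (ne_of_lt h1) h3

theorem free_of_TI {G : Type*} [Group G] [Finite G] (H L : Subgroup G) (hHL : H ≤ L)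
    (K : Subgroup L) [hK : K.Normal] (hKH : ∀ x : L, x ∈ K ↔ (x : G) ∈ H)
    (hcardK : Nat.card K = Nat.card H)
    (hcop : Nat.Coprime (Nat.card K) K.index)
    (hTI : ∀ g : G, g ∉ L → ∀ t ∈ H, g * t * g⁻¹ ∈ H → t = 1) :
    ∀ g : G, g ∉ L → ∀ u ∈ H, u ≠ 1 → g⁻¹ * u * g ∉ L := by
  intro g hg u hu hu1 hmem
  have hxK : (⟨g⁻¹ * u * g, hmem⟩ : L) ∈ K := by
    apply Frob.mem_of_coprime_orderOf_index K
    have h1 : orderOf (⟨g⁻¹ * u * g, hmem⟩ : L) = orderOf u := by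
      have h0 := Subgroup.orderOf_coe (⟨g⁻¹ * u * g, hmem⟩ : L)
      rw [← h0]
      show orderOf (g⁻¹ * u * g) = orderOf u
      have h2 := orderOf_injective (MulAut.conj g⁻¹).toMonoidHom (MulAut.conj g⁻¹).injective u
      have e : (MulAut.conj g⁻¹).toMonoidHom u = g⁻¹ * u * g := by
        simp
      rw [e] at h2
      exact h2
    rw [h1]
    have h3 : orderOf u ∣ Nat.card K := by
      rw [hcardK]; exact Cfsg.Agent.Lib.Lead.TISyl.orderOf_dvd_card_of_mem H hu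
    exact Nat.Coprime.coprime_dvd_left h3 hcop
  have hxH : g⁻¹ * u * g ∈ H := (hKH _).1 hxK
  have hginv : g⁻¹ ∉ L := fun h => hg (by simpa using L.inv_mem h)
  exact hu1 (hTI g⁻¹ hginv u hu (by rw [inv_inv]; exact hxH))

end grp

section final
variable {G : Type*} [Group G] [Fintype G]

theorem frob_cs (H L : Subgroup G) [Fintype L] (hodd : Odd (Nat.card L))
    (K : Subgroup L) [hKn : K.Normal] (hKH : ∀ x : L, x ∈ K ↔ (x : G) ∈ H) (hK1 : K ≠ ⊥)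
    (hsolv : Group.IsSolvable K)
    (hFK : ∀ k ∈ K, k ≠ 1 → ∀ x : L, x * k = k * x → x ∈ K)
    (hout : ∃ x : L, x ∉ K)
    (hTI' : ∀ g : G, g ∉ L → ∀ t ∈ H, g * t * g⁻¹ ∈ H → t = 1) :
    (∀ ξ ∈ inducedIrrAbove K ⊥, IsIrrCharacter L ξ) ∧
    ∃ R : (L → ℂ) → Finset (G → ℂ),
      IsCoherenceSystem (inducedIrrAbove K ⊥) (fun α : L → ℂ => indFun L α) R := by
  classical
  haveI : Fintype K := Fintype.ofFinite K
  obtain ⟨x₀, hw₀K⟩ := hout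
  haveI hsolv : Group.IsSolvable K := inferInstance
  have hirr : ∀ ξ ∈ inducedIrrAbove K ⊥, IsIrrCharacter L ξ := by
    rintro ξ ⟨θ, hθ, hθ1, -, rfl⟩
    exact Frob.indFun_irr_of_FK K hFK hθ hθ1
  have hconj : ∀ χ ∈ inducedIrrAbove K ⊥,
      conjFun χ ∈ inducedIrrAbove K ⊥ ∧ conjFun χ ≠ χ := by
    intro χ hχ
    refine ⟨iia_conj K ⊥ hχ, fun h => ?_⟩
    have hreal : ∀ g : L, (χ g).im = 0 := by
      intro g
      have h1 : (starRingEnd ℂ) (χ g) = χ g := congrFun h g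
      exact Complex.conj_eq_iff_im.1 h1
    have h1 := eq_one_of_real_of_odd hodd χ (hirr χ hχ) hreal
    obtain ⟨θ, -, -, -, rfl⟩ := hχ
    have h2 := indFun_apply_of_not_mem K hKn θ hw₀K
    rw [h1] at h2
    exact one_ne_zero h2
  have hSne : (inducedIrrAbove K ⊥).Nonempty := by
    obtain ⟨χ, hχ, -⟩ := exists_linear_iia K ⊥ hsolv (bot_lt_iff_ne_bot.2 hK1)
    exact ⟨χ, hχ⟩
  obtain ⟨hτ, hτ1⟩ := ind_isometry H L K hKH hTI'
  obtain ⟨R, hS⟩ := s1514 (inducedIrrAbove K ⊥) hSne hirr hconj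
    (fun α : L → ℂ => indFun L α) hτ hτ1
  exact ⟨hirr, R, hS⟩

theorem sibley_K (H L : Subgroup G) [Fintype L] (hodd : Odd (Nat.card L)) (hHL : H ≤ L)
    (K : Subgroup L) [hKn : K.Normal] (hKH : ∀ x : L, x ∈ K ↔ (x : G) ∈ H) (hK1 : K ≠ ⊥)
    (hKnil : Group.IsNilpotent K)
    (hFK : ∀ k ∈ K, k ≠ 1 → ∀ x : L, x * k = k * x → x ∈ K)
    (hout : ∃ x : L, x ∉ K)
    (hTI' : ∀ g : G, g ∉ L → ∀ t ∈ H, g * t * g⁻¹ ∈ H → t = 1) :
    Cfsg.IsCoherent (Cfsg.inducedIrrAbove K ⊥) {1}ᶜ (fun α : L → ℂ => Cfsg.indFun L α) := by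
  classical
  haveI : Fintype K := Fintype.ofFinite K
  haveI hsolv : Group.IsSolvable K := inferInstance
  obtain ⟨hirr, R, hS⟩ := frob_cs H L hodd K hKH hK1 hsolv hFK hout hTI'
  have hK'K : ⁅K, K⁆ < K := commutator_lt_self K hK1
  have hfrob := frob_of_FK K hFK ⁅K, K⁆ (Subgroup.commutator_le_self K)
  have hnilq : Group.IsNilpotent (↥K ⧸ (⊥ : Subgroup L).subgroupOf K) := inferInstance
  have h1521 := fun hgood => s1521 K hsolv (fun α : L → ℂ => indFun L α) R hS hodd ⊥ bot_le hnilq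
    ⁅K, K⁆ (sup_bot_eq _).symm hK'K hfrob hgood
  by_cases hpp : ∃ p m : ℕ, p.Prime ∧ Nat.card K = p ^ m
  swap
  · apply h1521
    right; right; left
    rintro ⟨p, m, hp, h⟩
    rw [Subgroup.relIndex_bot_left] at h
    exact hpp ⟨p, m, hp, h⟩
  by_cases hab : ⁅K, K⁆ ≤ ⊥
  · apply h1521
    right; right; right; left
    exact hab
  obtain ⟨p, m, hp, hcard⟩ := hpp
  -- the Sibley case
  obtain ⟨Z, hZdef⟩ : ∃ Z : Subgroup L, Z = ⁅K, K⁆ ⊓ Subgroup.centralizer (K : Set L) :=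
    ⟨_, rfl⟩
  haveI hZn : Z.Normal := by rw [hZdef]; infer_instance
  have hZK' : Z ≤ ⁅K, K⁆ := by rw [hZdef]; exact inf_le_left
  have hZK : Z ≤ K := hZK'.trans (Subgroup.commutator_le_self K)
  have hZc : ∀ z ∈ Z, ∀ k ∈ K, z * k = k * z := by
    intro z hz k hk
    rw [hZdef] at hz
    exact ((Subgroup.mem_centralizer_iff.1 hz.2) k hk).symm
  have hZ1 : Z ≠ ⊥ := by
    have hne : commutator K ≠ ⊥ := by
      intro h0
      apply hab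
      rw [← Subgroup.map_subtype_commutator, h0, Subgroup.map_bot]
    have h1 := Cfsg.Agent.Lib.Helper1.normal_inf_center_ne_bot (commutator K) hne
    obtain ⟨⟨c, hc⟩, hc1⟩ := (Subgroup.ne_bot_iff_exists_ne_one).1 h1
    intro hZ0
    apply hc1
    apply Subtype.ext
    have hcZ : (c : L) ∈ Z := by
      rw [hZdef, Subgroup.mem_inf]
      refine ⟨?_, ?_⟩
      · rw [← Subgroup.map_subtype_commutator]
        exact Subgroup.mem_map_of_mem K.subtype hc.1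
      · rw [Subgroup.mem_centralizer_iff]
        intro k hk
        have h2 := Subgroup.mem_center_iff.1 hc.2 ⟨k, hk⟩
        exact congrArg Subtype.val h2
    rw [hZ0, Subgroup.mem_bot] at hcZ
    exact Subtype.ext hcZ
  -- X
  have hXne : (inducedIrrAbove K ⁅K, K⁆).Nonempty := by
    obtain ⟨χ, hχ, -⟩ := exists_linear_iia K ⁅K, K⁆ hsolv hK'K
    exact ⟨χ, hχ⟩
  have hXdeg : ∀ φ ∈ inducedIrrAbove K ⁅K, K⁆, φ 1 = (K.index : ℂ) := by
    rintro φ ⟨θ, hθ, hne, hker, rfl⟩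
    have hcle : commutator ↥K ≤ (⁅K, K⁆).subgroupOf K := by
      rw [_root_.commutator_def ↥K, Subgroup.commutator_le]
      intro a _ b _
      rw [Subgroup.mem_subgroupOf]
      exact Subgroup.commutator_mem_commutator a.2 b.2
    rw [indFun_one, apply_one_of_commutator_le ((⁅K, K⁆).subgroupOf K) hcle hθ
      (fun x hx => hker x hx), mul_one]
  have hsysX := cs_sub hS (iia_mono K bot_le) hXne (fun φ hφ => iia_conj K _ hφ)
  have hX := s1517 _ _ R hsysX (fun φ hφ ψ hψ => by rw [hXdeg φ hφ, hXdeg ψ hψ])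
  -- Y
  have hirrY : ∀ χ ∈ inducedIrrAbove K ⊥ \ inducedIrrAbove K Z, IsIrrCharacter L χ :=
    fun χ hχ => hirr χ hχ.1
  have hY := s1522_b K hsolv _ R hS hodd hKnil hK'K hfrob Z hZ1 hZK hZc hirrY
  obtain ⟨FY, hFYmem⟩ : ∃ FY : Finset (L → ℂ),
      ∀ φ, φ ∈ FY ↔ φ ∈ inducedIrrAbove K ⊥ ∧ φ ∉ inducedIrrAbove K Z := by
    have hfin : (inducedIrrAbove K ⊥ \ inducedIrrAbove K Z).Finite :=
      (iia_finite K ⊥).subset Set.sdiff_subset
    exact ⟨hfin.toFinset, fun φ => (Set.Finite.mem_toFinset _).trans (Set.mem_sdiff φ)⟩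
  have hFYne : FY.Nonempty := by
    obtain ⟨η, hη⟩ := nonempty_of_coherent hY
    exact ⟨η, (hFYmem η).2 hη⟩
  obtain ⟨η₀, hη₀F, hmin⟩ := Finset.exists_min_image FY (fun φ => charDegree φ) hFYne
  have hη₀ : η₀ ∈ inducedIrrAbove K ⊥ \ inducedIrrAbove K Z := (hFYmem η₀).1 hη₀F
  have hepos : 0 < K.index := Nat.pos_of_ne_zero Subgroup.index_ne_zero_of_finite
  have hdegform : ∀ η ∈ inducedIrrAbove K ⊥, ∃ c, charDegree η = K.index * p ^ c ∧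
      p ^ (2 * c) ∣ Z.relIndex K := by
    rintro η ⟨θ, hθ, -, -, rfl⟩
    obtain ⟨c, hc, hc2⟩ := deg_pow K Z hZc hp hcard hθ
    exact ⟨c, by rw [charDegree_indFun K hθ, hc], hc2⟩
  have hdvdY : ∀ η ∈ inducedIrrAbove K ⊥ \ inducedIrrAbove K Z,
      charDegree η₀ ∣ charDegree η := by
    intro η hη
    obtain ⟨a, ha, -⟩ := hdegform η₀ hη₀.1
    obtain ⟨c, hc, -⟩ := hdegform η hη.1
    have hle : charDegree η₀ ≤ charDegree η := hmin η ((hFYmem η).2 hη)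
    rw [ha, hc] at hle ⊢
    have hac : a ≤ c := by
      by_contra hlt
      push Not at hlt
      have h1 : p ^ c < p ^ a := Nat.pow_lt_pow_right hp.one_lt hlt
      have h2 : K.index * p ^ c < K.index * p ^ a := mul_lt_mul_of_pos_left h1 hepos
      omega
    exact Nat.mul_dvd_mul_left _ (pow_dvd_pow p hac)
  have hcardKH : Nat.card K = Nat.card H := card_eq_of_mem_iff H L hHL K hKH
  have hfree := free_of_TI H L hHL K hKH hcardKH (Frob.coprime_of_FK K hFK) hTI'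
  have hXY := link H L hHL K hKH hTI' hfree hodd Z hZK hZ1 hZc ⁅K, K⁆ hZK' R hS hirr hXdeg hX hY
    η₀ hη₀ hdvdY
  -- add the remaining pairs
  obtain ⟨FS, hFSmem⟩ : ∃ FS : Finset (L → ℂ), ∀ φ, φ ∈ FS ↔ φ ∈ inducedIrrAbove K ⊥ :=
    ⟨(iia_finite K ⊥).toFinset, fun φ => Set.Finite.mem_toFinset _⟩
  obtain ⟨FX, hFXmem⟩ : ∃ FX : Finset (L → ℂ), ∀ φ, φ ∈ FX ↔ φ ∈ inducedIrrAbove K ⁅K, K⁆ :=
    ⟨(iia_finite K ⁅K, K⁆).toFinset, fun φ => Set.Finite.mem_toFinset _⟩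
  have hFAcoe : (↑(FX ∪ FY) : Set (L → ℂ))
      = inducedIrrAbove K ⁅K, K⁆ ∪ (inducedIrrAbove K ⊥ \ inducedIrrAbove K Z) := by
    ext φ
    rw [Finset.coe_union, Set.mem_union, Set.mem_union, Finset.mem_coe, Finset.mem_coe,
      hFXmem, hFYmem, Set.mem_sdiff]
  have hA : IsCoherent (↑(FX ∪ FY) : Set (L → ℂ)) {1}ᶜ (fun α : L → ℂ => indFun L α) := by
    rw [hFAcoe]; exact hXY
  have hFXS : ∀ φ ∈ FX, φ ∈ inducedIrrAbove K ⊥ := fun φ hφ =>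
    iia_mono K bot_le ((hFXmem φ).1 hφ)
  have hFYS : ∀ φ ∈ FY, φ ∈ inducedIrrAbove K ⊥ := fun φ hφ => ((hFYmem φ).1 hφ).1
  have hFAS : (↑(FX ∪ FY) : Set (L → ℂ)) ⊆ inducedIrrAbove K ⊥ := by
    intro φ hφ
    rw [Finset.mem_coe, Finset.mem_union] at hφ
    rcases hφ with h | h
    · exact hFXS φ h
    · exact hFYS φ h
  have hFAc : ∀ φ ∈ FX ∪ FY, conjFun φ ∈ FX ∪ FY := by
    intro φ hφ
    rw [Finset.mem_union] at hφ ⊢
    rcases hφ with h | h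
    · left; exact (hFXmem _).2 (iia_conj K _ ((hFXmem φ).1 h))
    · right
      obtain ⟨h1, h2⟩ := (hFYmem φ).1 h
      refine (hFYmem _).2 ⟨iia_conj K ⊥ h1, fun h3 => h2 ?_⟩
      have h4 := iia_conj K Z h3
      rwa [conjFun_conjFun'] at h4
  obtain ⟨χ₀, hχ₀⟩ := hXne
  have hχ₀FX : χ₀ ∈ FX := (hFXmem χ₀).2 hχ₀
  have hχ₀FA : χ₀ ∈ FX ∪ FY := Finset.mem_union_left _ hχ₀FX
  have hdχ₀ : charDegree χ₀ = K.index := by
    have h1 := hXdeg χ₀ hχ₀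
    rw [IsCharacter.apply_one_eq_charDegree (hS.isCharacter χ₀ (iia_mono K bot_le hχ₀))] at h1
    exact_mod_cast h1
  have hd : ∀ φ ∈ inducedIrrAbove K ⊥, φ 1 = (((charDegree : (L → ℂ) → ℕ) φ : ℕ) : ℂ) :=
    fun φ hφ => IsCharacter.apply_one_eq_charDegree (hS.isCharacter φ hφ)
  have hn : ∀ φ ∈ inducedIrrAbove K ⊥,
      classInner φ φ = ((((fun _ => 1) : (L → ℂ) → ℕ) φ : ℕ) : ℂ) := by
    intro φ hφ
    rw [irr_self (hirr φ hφ)]
    simp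
  obtain ⟨bound, hbdef⟩ : ∃ bound : ℝ, bound = ∑ φ ∈ FX ∪ FY,
      (((charDegree : (L → ℂ) → ℕ) φ : ℝ) ^ 2 / ((((fun _ => 1) : (L → ℂ) → ℕ) φ : ℕ) : ℝ)) :=
    ⟨_, rfl⟩
  have hbound : ∀ S₁ : Finset (L → ℂ), (↑S₁ : Set (L → ℂ)) ⊆ inducedIrrAbove K ⊥ →
      FX ∪ FY ⊆ S₁ → bound ≤ ∑ φ ∈ S₁,
        (((charDegree : (L → ℂ) → ℕ) φ : ℝ) ^ 2 / ((((fun _ => 1) : (L → ℂ) → ℕ) φ : ℕ) : ℝ)) := by
    intro S₁ _ hsub
    rw [hbdef]
    exact Finset.sum_le_sum_of_subset_of_nonneg hsub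
      (fun i _ _ => div_nonneg (sq_nonneg _) (Nat.cast_nonneg _))
  -- lower bound of `bound`
  have hdisjF : Disjoint FX FY := Finset.disjoint_left.2 (fun a ha hb =>
    ((hFYmem a).1 hb).2 (iia_mono K hZK' ((hFXmem a).1 ha)))
  have hsumT := sum_T K Z hS hirrY FY hFYmem
  have hlow : ((K.index ^ 2 + K.index * (Z.relIndex K * (Nat.card (Z.subgroupOf K) - 1)) : ℕ) : ℝ)
      ≤ bound := by
    have h1 : bound = ((∑ φ ∈ FX ∪ FY, (charDegree φ) ^ 2 : ℕ) : ℝ) := by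
      rw [hbdef, Nat.cast_sum]
      refine Finset.sum_congr rfl fun φ _ => ?_
      simp
    rw [h1, Finset.sum_union hdisjF, hsumT]
    have h2 : (charDegree χ₀) ^ 2 ≤ ∑ φ ∈ FX, (charDegree φ) ^ 2 :=
      Finset.single_le_sum (f := fun φ => (charDegree φ) ^ 2) (fun i _ => Nat.zero_le _) hχ₀FX
    rw [hdχ₀] at h2
    exact_mod_cast Nat.add_le_add_right h2 _
  -- |Z| - 1 ≥ 2e
  have hZcard : 2 * K.index + 1 ≤ Nat.card (Z.subgroupOf K) := by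
    have h1 : Nat.card (Z.subgroupOf K) = Nat.card Z :=
      Nat.card_congr (Subgroup.subgroupOfEquivOfLe hZK).toEquiv
    rw [h1]
    have hfrob0 := frob_of_FK K hFK ⊥ bot_le
    have c1 := frob_cong K ⊥ Z bot_le hZK hfrob0
    rw [Subgroup.relIndex_bot_left] at c1
    have hoddK : Odd K.index := Odd.of_dvd_nat hodd (Subgroup.index_dvd_card K)
    have hoddZ : Odd (Nat.card Z) := Odd.of_dvd_nat hodd (Subgroup.card_subgroup_dvd_card Z)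
    exact ge_of_dvd_sub_one _ _ hoddK hoddZ ((Subgroup.one_lt_card_iff_ne_bot Z).2 hZ1) c1
  have hFB : ∀ χ ∈ FS, charDegree χ₀ ∣ charDegree χ ∧
      (2 * (charDegree χ : ℝ) * (charDegree χ₀ : ℝ)) < bound := by
    intro χ hχ
    obtain ⟨c, hc, hc2⟩ := hdegform χ ((hFSmem χ).1 hχ)
    refine ⟨by rw [hdχ₀, hc]; exact Dvd.intro _ rfl, ?_⟩
    have hrpos : 0 < Z.relIndex K :=
      Nat.pos_of_ne_zero (Subgroup.index_ne_zero_of_finite (H := Z.subgroupOf K))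
    have h2 : p ^ c ≤ Z.relIndex K := by
      have h3 : p ^ c ≤ p ^ (2 * c) := Nat.pow_le_pow_right hp.pos (by omega)
      exact h3.trans (Nat.le_of_dvd hrpos hc2)
    have h1 : 2 * K.index ≤ Nat.card (Z.subgroupOf K) - 1 := by omega
    have h3 : p ^ c * (2 * K.index) ≤ Z.relIndex K * (Nat.card (Z.subgroupOf K) - 1) :=
      Nat.mul_le_mul h2 h1
    have h4 := Nat.mul_le_mul_left K.index h3
    have h5 : 2 * charDegree χ * charDegree χ₀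
        < K.index ^ 2 + K.index * (Z.relIndex K * (Nat.card (Z.subgroupOf K) - 1)) := by
      rw [hdχ₀, hc]
      have h6 : 0 < K.index ^ 2 := by positivity
      nlinarith
    calc (2 * (charDegree χ : ℝ) * (charDegree χ₀ : ℝ))
        = ((2 * charDegree χ * charDegree χ₀ : ℕ) : ℝ) := by push_cast; ring
      _ < ((K.index ^ 2 + K.index * (Z.relIndex K * (Nat.card (Z.subgroupOf K) - 1)) : ℕ) : ℝ) := by
          exact_mod_cast h5
      _ ≤ bound := hlow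
  have hFSS : (↑FS : Set (L → ℂ)) ⊆ inducedIrrAbove K ⊥ := fun φ hφ => (hFSmem φ).1 hφ
  have hFSc : ∀ φ ∈ FS, conjFun φ ∈ FS := fun φ hφ =>
    (hFSmem _).2 (iia_conj K ⊥ ((hFSmem φ).1 hφ))
  have hfinal := add_pairs hS (charDegree : (L → ℂ) → ℕ) ((fun _ => 1) : (L → ℂ) → ℕ) hd hn
    (FX ∪ FY) hFAS hFAc hA χ₀ hχ₀FA bound hbound FS hFSS hFB FS.card FS rfl
    (Finset.Subset.refl _) hFSc
  have hunion : (FX ∪ FY) ∪ FS = FS := by
    apply Finset.union_eq_right.2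
    intro φ hφ
    exact (hFSmem φ).2 (hFAS hφ)
  have hcoe : (↑FS : Set (L → ℂ)) = inducedIrrAbove K ⊥ := by
    ext φ; rw [Finset.mem_coe, hFSmem]
  rw [hunion, hcoe] at hfinal
  exact hfinal


theorem s1524 (H L W₁ : Subgroup G) [Fintype L]
    (hodd : Odd (Nat.card L)) (hHL : H ≤ L) (hW₁L : W₁ ≤ L) (hH1 : H ≠ ⊥) (hW1 : W₁ ≠ ⊥)
    (hnil : Group.IsNilpotent H) (hHn : ∀ x ∈ L, ∀ h ∈ H, x * h * x⁻¹ ∈ H) (hinf : H ⊓ W₁ = ⊥)
    (hsup : H ⊔ W₁ = L) (hfpf : ∀ w ∈ W₁, w ≠ 1 → ∀ h ∈ H, w * h = h * w → h = 1)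
    (hTI : Cfsg.IsTISubset (H : Set G)) (hN : Subgroup.normalizer (H : Set G) = L) :
    Cfsg.IsCoherent (Cfsg.inducedIrrAbove (H.subgroupOf L) ⊥) {1}ᶜ
      (fun α : L → ℂ => Cfsg.indFun L α) := by
  classical
  obtain ⟨K, hKdef⟩ : ∃ K : Subgroup L, K = H.subgroupOf L := ⟨_, rfl⟩
  rw [← hKdef]
  have hKH : ∀ x : L, x ∈ K ↔ (x : G) ∈ H := fun x => by rw [hKdef, Subgroup.mem_subgroupOf]
  haveI hKn : K.Normal := ⟨fun k hk x => by
    rw [hKH] at hk ⊢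
    exact hHn x x.2 k hk⟩
  haveI : Fintype K := Fintype.ofFinite K
  have hTI' : ∀ g : G, g ∉ L → ∀ t ∈ H, g * t * g⁻¹ ∈ H → t = 1 := by
    intro g hg t ht hgt
    exact hTI g (by rw [hN]; exact hg) t ht hgt
  have hFKG := FK_of_compl H L W₁ hW₁L hHn hsup hfpf
  have hFK : ∀ k ∈ K, k ≠ 1 → ∀ x : L, x * k = k * x → x ∈ K := by
    intro k hk hk1 x hxk
    rw [hKH] at hk ⊢
    exact hFKG (k : G) hk (fun h => hk1 (Subtype.ext h)) (x : G) x.2 (congrArg Subtype.val hxk)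
  have hK1 : K ≠ ⊥ := by
    intro h
    apply hH1
    rw [eq_bot_iff]
    intro x hx
    have h1 : (⟨x, hHL hx⟩ : L) ∈ K := (hKH _).2 hx
    rw [h, Subgroup.mem_bot] at h1
    rw [Subgroup.mem_bot]
    exact congrArg Subtype.val h1
  obtain ⟨w₀, hw₀, hw₀1⟩ : ∃ w ∈ W₁, w ≠ 1 := by
    by_contra hcon
    push Not at hcon
    exact hW1 ((Subgroup.eq_bot_iff_forall _).2 hcon)
  have hw₀K : (⟨w₀, hW₁L hw₀⟩ : L) ∉ K := by
    intro h
    rw [hKH] at h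
    have h1 : w₀ ∈ H ⊓ W₁ := ⟨h, hw₀⟩
    rw [hinf, Subgroup.mem_bot] at h1
    exact hw₀1 h1
  haveI hKnil : Group.IsNilpotent K := by
    haveI := hnil
    rw [hKdef]
    exact Group.nilpotent_of_mulEquiv (Subgroup.subgroupOfEquivOfLe hHL).symm
  exact sibley_K H L hodd hHL K hKH hK1 hKnil hFK ⟨_, hw₀K⟩ hTI'

end final

end Cfsg.Agent.Lib.Lead.Sib
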