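import Mathlib
import Cfsg.Agent.Lib.Helper1.BG7a
import Cfsg.Agent.Lib.Helper1.BG7e

/-!
# Generic counting lemmas for the B&G section 14 counting arguments

* `decomp_unique`: uniqueness of a commuting decomposition `u * v` with `u^A = 1`, `v^B = 1`.
* `ti_count`: exact count of the union of the conjugates of a TI-set.
* `s_count`: lower bound for the number of elements `x * c` where `x` runs over the nonidentity
  elements of the conjugates of `H ≤ M` and `c` over the elements of `C_G(x)` killed by the number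
  of conjugates of `M` containing `x`.
-/

set_option autoImplicit false

universe u

namespace Cfsg.Agent.Lib.Lead.BGN

open Cfsg.Agent.Lib.Helper1

variable {G : Type u} [Group G]

theorem eq_zpow_of_coprime {w : G} {A n : ℕ} (hw : w ^ A = 1) (hn : n.Coprime A) :
    w = (w ^ n) ^ (Nat.gcdA n A) := by
  have hb : (1 : ℤ) = n * Nat.gcdA n A + A * Nat.gcdB n A := by
    have := Nat.gcd_eq_gcd_ab n A
    rw [Nat.Coprime.gcd_eq_one hn] at this
    exact_mod_cast this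
  calc w = w ^ (1 : ℤ) := (zpow_one w).symm
    _ = w ^ ((n : ℤ) * Nat.gcdA n A + (A : ℤ) * Nat.gcdB n A) := by rw [← hb]
    _ = (w ^ n) ^ (Nat.gcdA n A) * (w ^ A) ^ (Nat.gcdB n A) := by
        rw [zpow_add, zpow_mul, zpow_mul, zpow_natCast, zpow_natCast]
    _ = (w ^ n) ^ (Nat.gcdA n A) := by rw [hw, one_zpow, mul_one]

/-- uniqueness of the decomposition of an element as a commuting product of an `A`-torsion element
and an element of order prime to `A` -/
theorem decomp_unique {u v u' v' : G} {A B B' : ℕ} (huv : Commute u v) (hu'v' : Commute u' v')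
    (hu : u ^ A = 1) (hu' : u' ^ A = 1) (hv : v ^ B = 1) (hv' : v' ^ B' = 1)
    (hAB : A.Coprime B) (hAB' : A.Coprime B') (h : u * v = u' * v') : u = u' ∧ v = v' := by
  have hn : (B * B').Coprime A := Nat.Coprime.mul_left hAB.symm hAB'.symm
  have h1 : (u * v) ^ (B * B') = u ^ (B * B') := by
    rw [huv.mul_pow, pow_mul v, hv, one_pow, mul_one]
  have h2 : (u' * v') ^ (B * B') = u' ^ (B * B') := by
    rw [hu'v'.mul_pow, mul_comm B B', pow_mul v', hv', one_pow, mul_one]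
  have h3 : u ^ (B * B') = u' ^ (B * B') := by rw [← h1, ← h2, h]
  have h4 : u = u' := by
    rw [eq_zpow_of_coprime hu hn, eq_zpow_of_coprime hu' hn, h3]
  refine ⟨h4, ?_⟩
  rw [h4] at h
  exact mul_left_cancel h

/-- exact count of the union of the conjugates of a TI-set `T` with normalizer `N` -/
theorem ti_count [Finite G] (T : Set G) (N : Subgroup G)
    (hTI : ∀ g : G, ∀ t ∈ T, g * t * g⁻¹ ∈ T → g ∈ N)
    (hN : ∀ g ∈ N, ∀ t ∈ T, g * t * g⁻¹ ∈ T) :
    Set.ncard {a : G | ∃ g : G, ∃ t ∈ T, a = g * t * g⁻¹} * Nat.card N =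
      Set.ncard T * Nat.card G := by
  classical
  obtain ⟨C, hC⟩ : ∃ C : Set G, C = {a : G | ∃ g : G, ∃ t ∈ T, a = g * t * g⁻¹} := ⟨_, rfl⟩
  rw [← hC]
  have hex : ∀ a : C, ∃ p : G × G, p.2 ∈ T ∧ (a : G) = p.1 * p.2 * p.1⁻¹ := fun a => by
    obtain ⟨g, t, ht, h⟩ := (Set.ext_iff.mp hC (a : G)).mp a.2
    exact ⟨(g, t), ht, h⟩
  choose f hf using hex
  have hmem : ∀ (a : C) (n : N), (n : G)⁻¹ * (f a).2 * (n : G) ∈ T := fun a n => by
    have := hN (n : G)⁻¹ (N.inv_mem n.2) _ (hf a).1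
    simpa using this
  let Φ : C × N → G × T := fun an =>
    ((f an.1).1 * (an.2 : G), ⟨(an.2 : G)⁻¹ * (f an.1).2 * (an.2 : G), hmem an.1 an.2⟩)
  have hΦ : Function.Bijective Φ := by
    constructor
    · rintro ⟨a, n⟩ ⟨a', n'⟩ h
      have h1 : (f a).1 * (n : G) = (f a').1 * (n' : G) := congrArg (fun p => p.1) h
      have h2 : (n : G)⁻¹ * (f a).2 * (n : G) = (n' : G)⁻¹ * (f a').2 * (n' : G) :=
        congrArg (fun p => (p.2 : G)) h
      have ha : (a : G) = (a' : G) := by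
        rw [(hf a).2, (hf a').2]
        have e1 : (f a).1 * (f a).2 * (f a).1⁻¹ =
            ((f a).1 * (n : G)) * ((n : G)⁻¹ * (f a).2 * (n : G)) * ((f a).1 * (n : G))⁻¹ := by
          group
        have e2 : (f a').1 * (f a').2 * (f a').1⁻¹ =
            ((f a').1 * (n' : G)) * ((n' : G)⁻¹ * (f a').2 * (n' : G)) *
              ((f a').1 * (n' : G))⁻¹ := by
          group
        rw [e1, e2, h1, h2]
      have ha' : a = a' := Subtype.ext ha
      subst ha'
      have h3 : (n : G) = (n' : G) := mul_left_cancel h1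
      exact Prod.ext rfl (Subtype.ext h3)
    · rintro ⟨g, ⟨t, ht⟩⟩
      have haC : g * t * g⁻¹ ∈ C := by rw [hC]; exact ⟨g, t, ht, rfl⟩
      obtain ⟨a, ha⟩ : ∃ a : C, (a : G) = g * t * g⁻¹ := ⟨⟨_, haC⟩, rfl⟩
      have h2 : g * t * g⁻¹ = (f a).1 * (f a).2 * (f a).1⁻¹ := by rw [← ha]; exact (hf a).2
      have h3 : (f a).2 = (f a).1⁻¹ * (g * t * g⁻¹) * (f a).1 := by rw [h2]; group
      have hn : (f a).1⁻¹ * g ∈ N := by
        apply hTI _ t ht
        have : (f a).1⁻¹ * g * t * ((f a).1⁻¹ * g)⁻¹ = (f a).2 := by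
          rw [h3]; group
        rw [this]; exact (hf a).1
      refine ⟨(a, ⟨_, hn⟩), ?_⟩
      refine Prod.ext ?_ (Subtype.ext ?_)
      · show (f a).1 * ((f a).1⁻¹ * g) = g
        group
      · show ((f a).1⁻¹ * g)⁻¹ * (f a).2 * ((f a).1⁻¹ * g) = t
        rw [h3]; group
  have hcard := Nat.card_eq_of_bijective Φ hΦ
  rw [Nat.card_prod, Nat.card_prod, Nat.card_coe_set_eq, Nat.card_coe_set_eq] at hcard
  rw [hcard, mul_comm]

/-- the conjugates of `M` containing `x` -/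
def conjs (M : Subgroup G) (x : G) : Set (Subgroup G) :=
  {L | (∃ g : G, L = BG7.cj g M) ∧ x ∈ L}

/-- the number of conjugates of `M` containing `x` -/
noncomputable def nconj (M : Subgroup G) (x : G) : ℕ := Set.ncard (conjs M x)

theorem cj_cj_inv (a : G) (Q : Subgroup G) : BG7.cj a (BG7.cj a⁻¹ Q) = Q := by
  have := BG7.cj_inv_cj a⁻¹ Q
  rwa [inv_inv] at this

theorem cj_injective (a : G) : Function.Injective (BG7.cj a : Subgroup G → Subgroup G) := by
  intro Q R h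
  have := congrArg (BG7.cj a⁻¹) h
  rwa [BG7.cj_inv_cj, BG7.cj_inv_cj] at this

theorem conjs_conj (M : Subgroup G) (a x : G) :
    conjs M (a * x * a⁻¹) = (BG7.cj a) '' (conjs M x) := by
  ext L
  constructor
  · rintro ⟨⟨g, rfl⟩, hx⟩
    refine ⟨BG7.cj a⁻¹ (BG7.cj g M), ⟨⟨a⁻¹ * g, (BG7.cj_mul _ _ _).symm⟩, ?_⟩, cj_cj_inv a _⟩
    rw [BG7.mem_cj, inv_inv]
    exact hx
  · rintro ⟨L', ⟨⟨g, rfl⟩, hx⟩, rfl⟩
    refine ⟨⟨a * g, (BG7.cj_mul _ _ _).symm⟩, ?_⟩
    exact BG7.conj_mem_cj hx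

theorem nconj_conj (M : Subgroup G) (a x : G) : nconj M (a * x * a⁻¹) = nconj M x := by
  unfold nconj
  rw [conjs_conj, Set.ncard_image_of_injective _ (cj_injective a)]

/-- the set counted by `s_count` -/
def Sset (M H : Subgroup G) : Set G :=
  {z | ∃ x c : G, x ≠ 1 ∧ (∃ a : G, x ∈ BG7.cj a H) ∧ Commute x c ∧ c ^ nconj M x = 1 ∧
    z = x * c}

theorem index_le_ncard_conj [Finite G] (M : Subgroup G)
    (hN : Subgroup.normalizer (M : Set G) ≤ M) :
    M.index ≤ Set.ncard {L : Subgroup G | ∃ g : G, L = BG7.cj g M} := by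
  classical
  rw [Subgroup.index_eq_card, ← Nat.card_coe_set_eq]
  let F : G ⧸ M → {L : Subgroup G | ∃ g : G, L = BG7.cj g M} :=
    fun q => ⟨BG7.cj q.out M, ⟨q.out, rfl⟩⟩
  apply Nat.card_le_card_of_injective F
  intro q q' h
  have h1 : BG7.cj q.out M = BG7.cj q'.out M := congrArg Subtype.val h
  have h2 : BG7.cj (q'.out⁻¹ * q.out) M = M := by
    rw [BG7.cj_mul, h1, BG7.cj_inv_cj]
  have h3 : q'.out⁻¹ * q.out ∈ M := hN (BG7.mem_normalizer_of_cj_eq h2)
  have h4 : ((q'.out : G) : G ⧸ M) = ((q.out : G) : G ⧸ M) := QuotientGroup.eq.mpr h3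
  rw [QuotientGroup.out_eq', QuotientGroup.out_eq'] at h4
  exact h4.symm

theorem s_count [Finite G] (M H : Subgroup G) (hHM : H ≤ M)
    (hA : ∀ x ∈ H, x ≠ 1 → ∃ R : Subgroup G, (∀ r ∈ R, Commute x r) ∧
      (Nat.card H).Coprime (Nat.card R) ∧ Nat.card R = nconj M x) :
    (Nat.card H - 1) * Set.ncard {L : Subgroup G | ∃ g : G, L = BG7.cj g M} ≤
      Set.ncard (Sset M H) := by
  classical
  obtain ⟨𝓛, h𝓛⟩ : ∃ 𝓛 : Set (Subgroup G), 𝓛 = {L : Subgroup G | ∃ g : G, L = BG7.cj g M} :=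
    ⟨_, rfl⟩
  rw [← h𝓛]
  obtain ⟨T, hT⟩ : ∃ T : Set G, T = (H : Set G) \ {1} := ⟨_, rfl⟩
  have hTcard : Set.ncard T = Nat.card H - 1 := by
    have h0 : Set.ncard (H : Set G) = Nat.card H := (Nat.card_coe_set_eq (H : Set G)).symm
    rw [hT, Set.ncard_sdiff_singleton_of_mem (Subgroup.one_mem H), h0]
  -- facts for `x` in a conjugate of `H`
  have key : ∀ x : G, x ≠ 1 → (∃ a : G, x ∈ BG7.cj a H) →
      (Nat.card H).Coprime (nconj M x) ∧ x ^ Nat.card H = 1 ∧
      ∃ f : Subgroup G → G, (∀ L ∈ conjs M x, Commute x (f L) ∧ (f L) ^ nconj M x = 1) ∧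
        Set.InjOn f (conjs M x) := by
    intro x hx1 ⟨a, hxa⟩
    have hx0 : a⁻¹ * x * a ∈ H := BG7.mem_cj.mp hxa
    have hx01 : a⁻¹ * x * a ≠ 1 := by
      intro h
      apply hx1
      have : x = a * (a⁻¹ * x * a) * a⁻¹ := by group
      rw [this, h]; group
    obtain ⟨R, hRc, hRcop, hRcard⟩ := hA _ hx0 hx01
    have hxe : x = a * (a⁻¹ * x * a) * a⁻¹ := by group
    have hn : nconj M x = nconj M (a⁻¹ * x * a) := by
      conv_lhs => rw [hxe]
      exact nconj_conj M a _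
    refine ⟨by rw [hn, ← hRcard]; exact hRcop, ?_, ?_⟩
    · have h1 : (a⁻¹ * x * a) ^ Nat.card H = 1 := by
        have := pow_card_eq_one' (G := H) (x := ⟨_, hx0⟩)
        exact congrArg Subtype.val this
      rw [hxe, conj_pow, h1]; group
    · -- the set ρ
      obtain ⟨ρ, hρ⟩ : ∃ ρ : Set G, ρ = {c : G | Commute x c ∧ c ^ nconj M x = 1} := ⟨_, rfl⟩
      have hle : Set.ncard (conjs M x) ≤ Set.ncard ρ := by
        have h1 : Set.ncard (conjs M x) = Nat.card R := by rw [hRcard, ← hn]; rfl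
        rw [h1, ← Nat.card_coe_set_eq]
        let F : R → ρ := fun r => ⟨a * (r : G) * a⁻¹, by
          rw [hρ]
          refine ⟨?_, ?_⟩
          · have h2 := hRc r r.2
            rw [hxe]
            have h3 : (a⁻¹ * x * a) * (r : G) = (r : G) * (a⁻¹ * x * a) := h2
            show a * (a⁻¹ * x * a) * a⁻¹ * (a * (r : G) * a⁻¹) =
              a * (r : G) * a⁻¹ * (a * (a⁻¹ * x * a) * a⁻¹)
            calc a * (a⁻¹ * x * a) * a⁻¹ * (a * (r : G) * a⁻¹)
                = a * ((a⁻¹ * x * a) * (r : G)) * a⁻¹ := by group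
              _ = a * ((r : G) * (a⁻¹ * x * a)) * a⁻¹ := by rw [h3]
              _ = a * (r : G) * a⁻¹ * (a * (a⁻¹ * x * a) * a⁻¹) := by group
          · rw [conj_pow, hn, ← hRcard]
            have := pow_card_eq_one' (G := R) (x := r)
            have h4 : (r : G) ^ Nat.card R = 1 := congrArg Subtype.val this
            rw [h4]; group⟩
        apply Nat.card_le_card_of_injective F
        intro r r' h
        have h5 : a * (r : G) * a⁻¹ = a * (r' : G) * a⁻¹ := congrArg Subtype.val h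
        have h6 : (r : G) = (r' : G) := by
          have := mul_right_cancel h5
          exact mul_left_cancel this
        exact Subtype.ext h6
      have hfin : (conjs M x).Finite := Set.toFinite _
      have hle' : (conjs M x).encard ≤ ρ.encard := by
        rw [← hfin.cast_ncard_eq, ← (Set.toFinite ρ).cast_ncard_eq]
        exact_mod_cast hle
      haveI : Nonempty G := ⟨1⟩
      obtain ⟨f, hf1, hf2⟩ := hfin.exists_injOn_of_encard_le hle'
      refine ⟨f, fun L hL => ?_, hf2⟩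
      have := hf1 hL
      rw [Set.mem_preimage, hρ] at this
      exact this
  -- choice of conjugating elements and injections
  have hex : ∀ L : Subgroup G, L ∈ 𝓛 → ∃ g : G, L = BG7.cj g M := fun L hL => by
    rw [h𝓛] at hL; exact hL
  choose! a ha using hex
  have key2 : ∀ x : G, ∃ f : Subgroup G → G, (x ≠ 1 → (∃ a : G, x ∈ BG7.cj a H) →
      (∀ L ∈ conjs M x, Commute x (f L) ∧ (f L) ^ nconj M x = 1) ∧ Set.InjOn f (conjs M x)) := by
    intro x
    by_cases h : x ≠ 1 ∧ ∃ a : G, x ∈ BG7.cj a H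
    · obtain ⟨-, -, f, hf⟩ := key x h.1 h.2
      exact ⟨f, fun _ _ => hf⟩
    · exact ⟨fun _ => 1, fun h1 h2 => absurd ⟨h1, h2⟩ h⟩
  choose ι hι using key2
  let Ψ : Subgroup G × G → G := fun p =>
    (a p.1 * p.2 * (a p.1)⁻¹) * ι (a p.1 * p.2 * (a p.1)⁻¹) p.1
  have hfacts : ∀ p ∈ 𝓛 ×ˢ T, (a p.1 * p.2 * (a p.1)⁻¹ ≠ 1) ∧
      (∃ b : G, a p.1 * p.2 * (a p.1)⁻¹ ∈ BG7.cj b H) ∧
      p.1 ∈ conjs M (a p.1 * p.2 * (a p.1)⁻¹) := by
    rintro ⟨L, h⟩ ⟨hL, hh⟩
    rw [hT] at hh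
    have hhH : h ∈ H := hh.1
    have hh1 : h ≠ 1 := hh.2
    refine ⟨?_, ⟨a L, BG7.conj_mem_cj hhH⟩, ⟨⟨a L, ha L hL⟩, ?_⟩⟩
    · intro h0
      apply hh1
      have : h = (a L)⁻¹ * (a L * h * (a L)⁻¹) * a L := by group
      rw [this, h0]; group
    · show a L * h * (a L)⁻¹ ∈ L
      have h9 := BG7.conj_mem_cj (k := a L) (hHM hhH)
      rwa [← ha L hL] at h9
  have hmaps : ∀ p ∈ 𝓛 ×ˢ T, Ψ p ∈ Sset M H := by
    intro p hp
    obtain ⟨h1, h2, h3⟩ := hfacts p hp
    obtain ⟨h4, -⟩ := hι _ h1 h2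
    exact ⟨_, _, h1, h2, (h4 _ h3).1, (h4 _ h3).2, rfl⟩
  have hinj : Set.InjOn Ψ (𝓛 ×ˢ T) := by
    intro p hp p' hp' hpp
    obtain ⟨h1, h2, h3⟩ := hfacts p hp
    obtain ⟨h1', h2', h3'⟩ := hfacts p' hp'
    obtain ⟨h4, h5⟩ := hι _ h1 h2
    obtain ⟨h4', -⟩ := hι _ h1' h2'
    obtain ⟨k1, k2, -⟩ := key _ h1 h2
    obtain ⟨k1', k2', -⟩ := key _ h1' h2'
    obtain ⟨e1, e2⟩ := decomp_unique (h4 _ h3).1 (h4' _ h3').1 k2 k2' (h4 _ h3).2 (h4' _ h3').2
      k1 k1' hpp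
    rw [← e1] at e2 h3'
    have e3 : p.1 = p'.1 := h5 h3 h3' e2
    have e4 : p.2 = p'.2 := by
      rw [← e3] at e1
      have := mul_right_cancel e1
      exact mul_left_cancel this
    exact Prod.ext e3 e4
  have := Set.ncard_le_ncard_of_injOn Ψ hmaps hinj (Set.toFinite _)
  rw [Set.ncard_prod, hTcard] at this
  rw [mul_comm]
  exact this

end Cfsg.Agent.Lib.Lead.BGN
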