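import Mathlib
import Cfsg.Agent.Lib.Lead.BGN1
import Cfsg.Agent.Lib.Lead.BGM1
import Cfsg.Agent.Lib.Helper1.BGG2
import Cfsg.Agent.Lib.Helper2.BGHRows

/-!
# B&G Theorem 14.4, the cheap part (Claim A)

For `x ∈ M_σ#` the conjugates of `M` containing `x` are in bijection with a `σ(M)'`-subgroup
`R ≤ C_G(x)`, provided the case `q ∈ σ(N)` (for `N ∈ 𝓜(N_G(X))`, `X ≤ ⟨x⟩` of prime order `q`
with `C_G(X) ≰ M`) is excluded.
-/

set_option autoImplicit false

universe u

namespace Cfsg.Agent.Lib.Lead.BGN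

open Cfsg Cfsg.Agent.Lib.Helper1 Cfsg.Agent.Lib.Helper2 Cfsg.Agent.Lib.Helper3
  Cfsg.Agent.Lib.Helper7 Cfsg.Agent.Lib.Helper7.BGRows

variable {G : Type u} [Group G] [Finite G]

theorem normalizer_coatom_le (hG : IsMinSimpleOddOrder G) {M : Subgroup G} (hM : IsCoatom M) :
    Subgroup.normalizer (M : Set G) ≤ M :=
  (BG8.normalizer_eq_of_coatom hG hM le_rfl (BG12.coatom_ne_bot hG hM)
    Subgroup.le_normalizer).le

theorem nconj_eq_one_of_centralizer_le (hG : IsMinSimpleOddOrder G) {M : Subgroup G}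
    (hM : IsCoatom M) {q : ℕ} [hq : Fact q.Prime] (hqσ : q ∈ sigma M) {X : Subgroup G}
    (hXq : IsPGroup q X) (hX1 : X ≠ ⊥) (hXM : X ≤ M)
    (hC : Subgroup.centralizer (X : Set G) ≤ M) {x : G} (hxM : x ∈ M)
    (hXx : ∀ L : Subgroup G, x ∈ L → X ≤ L) : nconj M x = 1 := by
  unfold nconj
  have : conjs M x = {M} := by
    ext L
    constructor
    · rintro ⟨⟨g, rfl⟩, hx⟩
      have hg : g ∈ M := BGH.mem_of_cj_le hG hM hqσ hXq hX1 hXM hC (hXx _ hx)
      exact Set.mem_singleton_iff.mpr (BGH.cj_self_of_mem hg)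
    · intro hL
      rw [Set.mem_singleton_iff] at hL
      rw [hL]
      exact ⟨⟨1, (BG7.cj_one _).symm⟩, hxM⟩
  rw [this, Set.ncard_singleton]

/-- **Claim A** (the cheap part of B&G Theorem 14.4) -/
theorem claimA (hG : IsMinSimpleOddOrder G) {M : Subgroup G} (hM : IsCoatom M)
    (hnd : ∀ (q : ℕ) [Fact q.Prime] (X N : Subgroup G), q ∈ sigma M → X ≤ sigmaCore M →
      Nat.card X = q → ¬ Subgroup.centralizer (X : Set G) ≤ M → IsCoatom N →
      Subgroup.normalizer (X : Set G) ≤ N → q ∉ sigma N)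
    {x : G} (hx : x ∈ sigmaCore M) (hx1 : x ≠ 1) :
    ∃ R : Subgroup G, (∀ r ∈ R, Commute x r) ∧
      (Nat.card (sigmaCore M)).Coprime (Nat.card R) ∧ Nat.card R = nconj M x := by
  classical
  obtain ⟨hHallM, -, -⟩ := BGA.s1350 hG M hM
  have hσM : sigmaCore M ≤ M := BG12.sigmaCore_le M
  have hxM : x ∈ M := hσM hx
  have hord : orderOf x ≠ 1 := fun h => hx1 (orderOf_eq_one_iff.mp h)
  obtain ⟨q, hqp, hqx⟩ := Nat.exists_prime_and_dvd hord
  haveI : Fact q.Prime := ⟨hqp⟩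
  obtain ⟨y, hy⟩ : ∃ y : G, y = x ^ (orderOf x / q) := ⟨_, rfl⟩
  have hyo : orderOf y = q := by
    rw [hy]; exact orderOf_pow_orderOf_div (orderOf_pos x).ne' hqx
  have hyσ : y ∈ sigmaCore M := by rw [hy]; exact Subgroup.pow_mem _ hx _
  obtain ⟨X, hX⟩ : ∃ X : Subgroup G, X = Subgroup.zpowers y := ⟨_, rfl⟩
  have hXcard : Nat.card X = q := by rw [hX, Nat.card_zpowers, hyo]
  have hXσ : X ≤ sigmaCore M := by rw [hX]; exact Subgroup.zpowers_le.mpr hyσ
  have hXM : X ≤ M := hXσ.trans hσM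
  have hXq : IsPGroup q X := IsPGroup.of_card (n := 1) (by rw [hXcard, pow_one])
  have hX1 : X ≠ ⊥ := by
    intro h
    rw [h, Subgroup.card_bot] at hXcard
    exact hqp.one_lt.ne' hXcard.symm
  have hqσ : q ∈ sigma M := hHallM.2.1 q hqp (hXcard ▸ Subgroup.card_dvd_of_le hXσ)
  have hXL : ∀ L : Subgroup G, x ∈ L → X ≤ L := fun L hL => by
    rw [hX]; exact Subgroup.zpowers_le.mpr (by rw [hy]; exact Subgroup.pow_mem _ hL _)
  have hxC : x ∈ Subgroup.centralizer (X : Set G) := by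
    rw [hX, Subgroup.mem_centralizer_iff]
    intro z hz
    obtain ⟨k, rfl⟩ := Subgroup.mem_zpowers_iff.mp hz
    rw [hy]
    exact (((Commute.refl x).pow_right _).zpow_right k).eq.symm
  by_cases hC : Subgroup.centralizer (X : Set G) ≤ M
  · refine ⟨⊥, ?_, ?_, ?_⟩
    · intro r hr; rw [Subgroup.mem_bot.mp hr]; exact Commute.one_right x
    · rw [Subgroup.card_bot]; exact Nat.coprime_one_right _
    · rw [Subgroup.card_bot, nconj_eq_one_of_centralizer_le hG hM hqσ hXq hX1 hXM hC hxM hXL]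
  · have hXtop : X ≠ ⊤ := BG7.pgroup_ne_top hG hXq
    have hNtop : Subgroup.normalizer (X : Set G) ≠ ⊤ := BG7.normalizer_ne_top hG hX1 hXtop
    obtain ⟨N, hN, hNX⟩ : ∃ N, IsCoatom N ∧ Subgroup.normalizer (X : Set G) ≤ N := by
      rcases eq_top_or_exists_le_coatom (Subgroup.normalizer (X : Set G)) with h | h
      · exact absurd h hNtop
      · exact h
    have hCN : Subgroup.centralizer (X : Set G) ≤ N :=
      (Subgroup.centralizer_le_normalizer _).trans hNX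
    have hneM : N ≠ M := fun h => hC (h ▸ hCN)
    have hXN : X ≤ N := Subgroup.le_normalizer.trans hNX
    have hxN : x ∈ N := hCN hxC
    obtain ⟨S, hXS⟩ := BGD.exists_sylow_ge (M := M ⊓ N) hXq (le_inf hXM hXN)
    obtain ⟨hnc, hNS, hidx⟩ := BGH.row1424 hG M hM q hqσ X hXq hX1 hXM N hN hneM hNX S hXS
    obtain ⟨S', hS'⟩ : ∃ S' : Subgroup G,
        S' = (S : Subgroup ↥(M ⊓ N)).map (M ⊓ N).subtype := ⟨_, rfl⟩
    rw [← hS'] at hNS hidx hXS
    have hS'I : BG8.IsMaxP q S' (M ⊓ N) := hS' ▸ BG8.isMaxP_of_sylow S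
    have hS'M : S' ≤ M := hS'I.1.trans inf_le_left
    have hS'N : S' ≤ N := hS'I.1.trans inf_le_right
    have hS'q : IsPGroup q S' := hS'I.2.1
    have hS'N' : BG8.IsMaxP q S' N := BGG.isMaxP_of_not_dvd_relIndex hS'N hS'q hidx
    have hS'1 : S' ≠ ⊥ := fun h => hX1 (le_bot_iff.mp (h ▸ hXS))
    have hqN : q ∉ sigma N := hnd q X N hqσ hXσ hXcard hC hN hNX
    have hS'nc : ¬ IsCyclic ↥S' := by
      intro hc
      apply hqN
      exact BG12.mem_sigma_of_isMaxP hS'N' hS'1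
        ((BGG.normalizer_le_of_isCyclic hc hXS).trans hNX)
    have hq2 : q ≠ 2 :=
      BG9.odd_prime_of_dvd hG (hqσ.2.1.trans (Subgroup.card_subgroup_dvd_card M))
    obtain ⟨A, hAS, -, hAe, hA2⟩ := BG9.exists_normal_elementary_sq hq2 hS'q hS'nc
    have hAM : A ≤ M := hAS.trans hS'M
    have hAN : A ≤ N := hAS.trans hS'N
    have hAq : IsPGroup q A := BG9.isPGroup_of_isElementaryAbelian hAe
    have hAnc : ¬ IsCyclic ↥A := BG9.not_isCyclic_of_elementary hqp le_rfl hAe (by rw [hA2])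
    have hNA : Subgroup.normalizer (A : Set G) ≤ M :=
      BGD.normalizer_le_of_noncyclic hG hM BGD.row1416 hqσ hAq hAM hAnc
    have hqτ : q ∈ tau2 N := by
      refine ⟨hqp, hqN, ?_, ?_⟩
      · by_contra h
        exact hqN (BT.alpha_subset_sigma hG hN ⟨hqp, h⟩)
      · exact BG9.not_pRankLE_of_elementary hqp hAN hAe (by rw [hA2])
    obtain ⟨E, hE, hAE⟩ := BGG.exists_compl_ge hG hN hAN (fun r hr hrd => by
      have h1 : r ∣ q ^ 2 := hA2 ▸ hrd
      have h2 : r = q := (Nat.prime_dvd_prime_iff_eq hr hqp).mp (hr.dvd_of_dvd_pow h1)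
      rw [h2]; exact hqN)
    obtain ⟨⟨hEA, -⟩, -, -⟩ := BGH.row1418 hG N hN E hE q hqτ A ⟨hAE, hAe, hA2⟩
    have hEM : E ≤ M := hEA.trans hNA
    obtain ⟨hnil, -, -, -, hσNM, -⟩ := BGD.row1417 hG N hN q hqτ A ⟨hAN, hAe, hA2⟩
    have hNσM : sigmaCore N ⊓ M = ⊥ := hσNM M hM (Ne.symm hneM) hAM
    have hNMn : Subgroup.normalizer (M : Set G) ≤ M := normalizer_coatom_le hG hM
    have hσNn : N ≤ Subgroup.normalizer (sigmaCore N : Set G) := BG12.le_normalizer_sigmaCore N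
    obtain ⟨R, hR⟩ : ∃ R : Subgroup G,
        R = sigmaCore N ⊓ Subgroup.centralizer ({x} : Set G) := ⟨_, rfl⟩
    have hRle : R ≤ sigmaCore N ⊓ Subgroup.centralizer ({x} : Set G) := hR.le
    have hRσ : ∀ r : R, (r : G) ∈ sigmaCore N := fun r => (hRle r.2).1
    have hRc : ∀ r : R, x * (r : G) = (r : G) * x := fun r =>
      Subgroup.mem_centralizer_iff.mp (hRle r.2).2 x (Set.mem_singleton x)
    refine ⟨R, ?_, ?_, ?_⟩
    · intro r hr
      exact hRc ⟨r, hr⟩
    · apply Nat.Coprime.coprime_dvd_right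
        (Subgroup.card_dvd_of_le (hRle.trans inf_le_left))
      by_contra hc
      obtain ⟨s, hs, hs1, hs2⟩ := Nat.Prime.not_coprime_iff_dvd.mp hc
      haveI : Fact s.Prime := ⟨hs⟩
      obtain ⟨hHallN, -, -⟩ := BGA.s1350 hG N hN
      have hsM : s ∈ sigma M := hHallM.2.1 s hs hs1
      have hsN : s ∈ sigma N := hHallN.2.1 s hs hs2
      obtain ⟨g, hg⟩ := BGM.exists_cj_le_of_common_sigma hG hM hN hsM hsN hnil
      have h1 : M = BG7.cj g N := BG8.eq_of_coatom_le (BG9.isCoatom_cj hN g) hg hM.1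
      have h2 : N = BG7.cj g⁻¹ M := by rw [h1, BG7.cj_inv_cj]
      exact hnc g⁻¹ h2
    · unfold nconj
      rw [← Nat.card_coe_set_eq]
      let F : R → conjs M x := fun r => ⟨BG7.cj (r : G) M, ⟨⟨r, rfl⟩, by
        rw [BG7.mem_cj]
        have h1 := hRc r
        have : (r : G)⁻¹ * x * (r : G) = x := by
          rw [mul_assoc, h1, ← mul_assoc, inv_mul_cancel, one_mul]
        rw [this]; exact hxM⟩⟩
      apply Nat.card_eq_of_bijective F
      constructor
      · intro r r' h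
        have h1 : BG7.cj (r : G) M = BG7.cj (r' : G) M := congrArg Subtype.val h
        have h2 : BG7.cj ((r' : G)⁻¹ * (r : G)) M = M := by
          rw [BG7.cj_mul, h1, BG7.cj_inv_cj]
        have h3 : (r' : G)⁻¹ * (r : G) ∈ M := hNMn (BG7.mem_normalizer_of_cj_eq h2)
        have h4 : (r' : G)⁻¹ * (r : G) ∈ sigmaCore N :=
          mul_mem (inv_mem (hRσ r')) (hRσ r)
        have h5 : (r' : G)⁻¹ * (r : G) ∈ sigmaCore N ⊓ M := ⟨h4, h3⟩
        rw [hNσM, Subgroup.mem_bot] at h5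
        apply Subtype.ext
        have : (r : G) = (r' : G) * ((r' : G)⁻¹ * (r : G)) := by group
        rw [this, h5, mul_one]
      · rintro ⟨L, ⟨g, hgL⟩, hxL⟩
        have hXg : X ≤ BG7.cj g M := hgL ▸ hXL L hxL
        have h1 : BG7.cj g⁻¹ X ≤ M := by
          have := BG7.cj_mono (k := g⁻¹) hXg
          rwa [BG7.cj_inv_cj] at this
        obtain ⟨m, hm, c, hc, hgmc⟩ := (BT.sigma_trans hG hM hqσ _ X hXq hX1 hXM rfl).1 g⁻¹ h1
        have hgc : g = c⁻¹ * m⁻¹ := by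
          have : g = (g⁻¹)⁻¹ := (inv_inv g).symm
          rw [this, hgmc]; group
        have hL1 : L = BG7.cj c⁻¹ M := by
          rw [hgL, hgc, BG7.cj_mul, BGH.cj_self_of_mem (M.inv_mem hm)]
        have hcN : c⁻¹ ∈ N := hCN (Subgroup.inv_mem _ hc)
        obtain ⟨e, he, n, hn, hcen⟩ := hE.2.2.2 c⁻¹ hcN
        have heN : e ∈ N := hE.1 he
        have hn' : e * n * e⁻¹ ∈ sigmaCore N :=
          (Subgroup.mem_normalizer_iff.mp (hσNn heN) n).mp hn
        have hc2 : c⁻¹ = (e * n * e⁻¹) * e := by rw [hcen]; group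
        have hL2 : L = BG7.cj (e * n * e⁻¹) M := by
          rw [hL1, hc2, BG7.cj_mul, BGH.cj_self_of_mem (hEM he)]
        have hx2 : (e * n * e⁻¹)⁻¹ * x * (e * n * e⁻¹) ∈ M := by
          rw [hL2] at hxL
          exact BG7.mem_cj.mp hxL
        obtain ⟨n', hn'def⟩ : ∃ n' : G, n' = e * n * e⁻¹ := ⟨_, rfl⟩
        rw [← hn'def] at hn' hL2 hx2
        have hw1 : n'⁻¹ * x * n' * x⁻¹ ∈ M := mul_mem hx2 (M.inv_mem hxM)
        have hw2 : n'⁻¹ * x * n' * x⁻¹ ∈ sigmaCore N := by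
          have h3 : x * n' * x⁻¹ ∈ sigmaCore N :=
            (Subgroup.mem_normalizer_iff.mp (hσNn hxN) n').mp hn'
          have : n'⁻¹ * x * n' * x⁻¹ = n'⁻¹ * (x * n' * x⁻¹) := by group
          rw [this]
          exact mul_mem (inv_mem hn') h3
        have hw : n'⁻¹ * x * n' * x⁻¹ ∈ sigmaCore N ⊓ M := ⟨hw2, hw1⟩
        rw [hNσM, Subgroup.mem_bot] at hw
        have hcomm : x * n' = n' * x := by
          have h4 : n'⁻¹ * x * n' = x := by
            have : n'⁻¹ * x * n' = (n'⁻¹ * x * n' * x⁻¹) * x := by group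
            rw [this, hw, one_mul]
          calc x * n' = n' * (n'⁻¹ * x * n') := by group
            _ = n' * x := by rw [h4]
        have hn'R : n' ∈ R := by
          rw [hR]
          refine ⟨hn', Subgroup.mem_centralizer_iff.mpr ?_⟩
          intro h hh
          rw [Set.mem_singleton_iff.mp hh]
          exact hcomm
        refine ⟨⟨n', hn'R⟩, ?_⟩
        exact Subtype.ext hL2.symm

end Cfsg.Agent.Lib.Lead.BGN
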