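import Mathlib
import Cfsg.Agent.Lib.Lead.BGN2
import Cfsg.Agent.Lib.Lead.ComplIn
import Cfsg.Agent.Lib.Helper7.BGK2

/-!
# Pairs of maximal subgroups of type `𝒫` (B&G Theorem 14.7): basic facts

`PPair M Ms K Ks`: `K` is a nontrivial Hall `κ(M)`-subgroup of `M`, `Ks = C_{M_σ}(K)` is a Hall
`κ(Ms)`-subgroup of `Ms` and `K = C_{Ms_σ}(Ks)`.
-/

set_option autoImplicit false
set_option linter.unusedSectionVars false

universe u

namespace Cfsg.Agent.Lib.Lead.BGN

open Cfsg Cfsg.Agent.Lib.Helper1 Cfsg.Agent.Lib.Helper2 Cfsg.Agent.Lib.Helper3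
  Cfsg.Agent.Lib.Helper7 Cfsg.Agent.Lib.Helper7.BGRows

variable {G : Type u} [Group G] [Finite G]

/-- `σ` is invariant under conjugation (one direction) -/
theorem sigma_cj_mem {M : Subgroup G} {p : ℕ} (hp : p ∈ sigma M) (g : G) :
    p ∈ sigma (BG7.cj g M) := by
  obtain ⟨hpp, hpM, P, hNP⟩ := hp
  haveI : Fact p.Prime := ⟨hpp⟩
  obtain ⟨S, hS⟩ : ∃ S : Subgroup G, S = (P : Subgroup ↥M).map M.subtype := ⟨_, rfl⟩
  rw [← hS] at hNP
  have hSmax : BG8.IsMaxP p S M := hS ▸ BG8.isMaxP_of_sylow P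
  have hS1 : S ≠ ⊥ := by
    intro h
    have h1 := hSmax.2.2
    obtain ⟨x, hx⟩ := exists_prime_orderOf_dvd_card' (G := ↥M) p hpM
    have h2 : IsPGroup p (Subgroup.zpowers (x : G)) :=
      IsPGroup.of_card (n := 1) (by rw [Nat.card_zpowers, Subgroup.orderOf_coe, hx, pow_one])
    have h3 := h1 _ h2 (h ▸ bot_le) (Subgroup.zpowers_le.mpr x.2)
    rw [h] at h3
    have h4 : Nat.card (Subgroup.zpowers (x : G)) = 1 := by rw [h3, Subgroup.card_bot]
    rw [Nat.card_zpowers, Subgroup.orderOf_coe, hx] at h4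
    exact hpp.one_lt.ne' h4
  have h1 : BG8.IsMaxP p (BG7.cj g S) (BG7.cj g M) := BT.isMaxP_cj hSmax g
  refine BG12.mem_sigma_of_isMaxP h1 (fun h => hS1 (BG7.cj_eq_bot_iff.mp h)) ?_
  rw [← BT.cj_normalizer]
  exact BG7.cj_mono hNP

omit [Finite G] in
theorem commute_of_mem_centralizer {A B : Subgroup G} (hB : B ≤ Subgroup.centralizer (A : Set G))
    {a b : G} (ha : a ∈ A) (hb : b ∈ B) : Commute a b :=
  Subgroup.mem_centralizer_iff.mp (hB hb) a ha

/-- a product structure on the join of two commuting subgroups of coprime orders -/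
theorem card_sup_of_commute {A B : Subgroup G} (hc : ∀ a ∈ A, ∀ b ∈ B, a * b = b * a)
    (hcop : (Nat.card A).Coprime (Nat.card B)) :
    Nat.card ↥(A ⊔ B) = Nat.card A * Nat.card B := by
  have hBA : B ≤ Subgroup.normalizer (A : Set G) := by
    intro b hb
    apply (Subgroup.centralizer_le_normalizer _)
    rw [Subgroup.mem_centralizer_iff]
    intro a ha
    exact hc a ha b hb
  have hdisj : Disjoint A B := by
    rw [disjoint_iff]
    exact Subgroup.inf_eq_bot_of_coprime hcop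
  exact BGF.card_sup_eq_mul hBA hdisj

/-- the two components of an element of `A ⊔ B` (commuting, coprime orders) are powers of it -/
theorem exists_components {A B : Subgroup G} (hc : ∀ a ∈ A, ∀ b ∈ B, a * b = b * a)
    (hcop : (Nat.card A).Coprime (Nat.card B)) {z : G} (hz : z ∈ A ⊔ B) :
    ∃ a ∈ A, ∃ b ∈ B, z = a * b ∧ a ∈ Subgroup.zpowers z ∧ b ∈ Subgroup.zpowers z := by
  obtain ⟨a, ha, b, hb, rfl⟩ := ComplIn.mem_sup_of_commute hc hz
  refine ⟨a, ha, b, hb, rfl, ?_, ?_⟩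
  · -- a = ((a b)^|B|)^t
    have hab : Commute a b := hc a ha b hb
    have hbB : b ^ Nat.card B = 1 := by
      have := pow_card_eq_one' (G := ↥B) (x := ⟨b, hb⟩)
      exact congrArg Subtype.val this
    have haA : a ^ Nat.card A = 1 := by
      have := pow_card_eq_one' (G := ↥A) (x := ⟨a, ha⟩)
      exact congrArg Subtype.val this
    have h1 : (a * b) ^ Nat.card B = a ^ Nat.card B := by
      rw [hab.mul_pow, hbB, mul_one]
    have hmem : ((a * b) ^ Nat.card B) ^ (Nat.gcdA (Nat.card B) (Nat.card A)) ∈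
        Subgroup.zpowers (a * b) :=
      Subgroup.zpow_mem _ (Subgroup.pow_mem _ (Subgroup.mem_zpowers _) _) _
    rw [h1, ← eq_zpow_of_coprime haA hcop.symm] at hmem
    exact hmem
  · have hab : Commute a b := hc a ha b hb
    have hbB : b ^ Nat.card B = 1 := by
      have := pow_card_eq_one' (G := ↥B) (x := ⟨b, hb⟩)
      exact congrArg Subtype.val this
    have haA : a ^ Nat.card A = 1 := by
      have := pow_card_eq_one' (G := ↥A) (x := ⟨a, ha⟩)
      exact congrArg Subtype.val this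
    have h1 : (a * b) ^ Nat.card A = b ^ Nat.card A := by
      rw [hab.mul_pow, haA, one_mul]
    have hmem : ((a * b) ^ Nat.card A) ^ (Nat.gcdA (Nat.card A) (Nat.card B)) ∈
        Subgroup.zpowers (a * b) :=
      Subgroup.zpow_mem _ (Subgroup.pow_mem _ (Subgroup.mem_zpowers _) _) _
    rw [h1, ← eq_zpow_of_coprime hbB hcop] at hmem
    exact hmem

/-- `C_{M_σ}(K) ≠ 1` for a nontrivial Hall `κ(M)`-subgroup `K` -/
theorem hall_cent_ne_bot (hG : IsMinSimpleOddOrder G) (h1430 : Row1430 G) {M K : Subgroup G}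
    (hM : IsCoatom M) (hK : IsPiHallOf (kappa M) K M) (hK1 : K ≠ ⊥) :
    sigmaCore M ⊓ Subgroup.centralizer (K : Set G) ≠ ⊥ := by
  classical
  obtain ⟨p, hp, hpK⟩ := Nat.exists_prime_and_dvd (n := Nat.card K) (by
    intro h1
    exact hK1 (Subgroup.card_eq_one.mp h1))
  haveI : Fact p.Prime := ⟨hp⟩
  have hpκ : p ∈ kappa M := hK.2.1 p hp hpK
  obtain ⟨k, hk⟩ := exists_prime_orderOf_dvd_card' (G := ↥K) p hpK
  have hkK : (k : G) ∈ K := k.2
  have hko : orderOf (k : G) = p := by rw [Subgroup.orderOf_coe]; exact hk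
  have hkM : (k : G) ∈ M := hK.1 hkK
  have hk1 : (k : G) ≠ 1 := by
    intro h1
    rw [h1, orderOf_one] at hko
    exact hp.one_lt.ne hko
  have hYp : IsPGroup p (Subgroup.zpowers (k : G)) :=
    IsPGroup.of_card (n := 1) (by rw [Nat.card_zpowers, hko, pow_one])
  obtain ⟨P, hP⟩ := BGD.exists_sylow_ge (M := M) hYp (Subgroup.zpowers_le.mpr hkM)
  obtain ⟨hPc, x, hxP, hx1, y, hy, hy1, hxy⟩ := hpκ.2.2.2 P
  have hkP : (⟨(k : G), hkM⟩ : ↥M) ∈ (P : Subgroup ↥M) := by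
    obtain ⟨z, hz, hzk⟩ := hP (Subgroup.mem_zpowers (k : G))
    have : z = ⟨(k : G), hkM⟩ := Subtype.ext hzk
    rw [← this]; exact hz
  have hko' : orderOf (⟨(k : G), hkM⟩ : ↥M) = p := by
    rw [← Subgroup.orderOf_coe]; exact hko
  have hkx : (⟨(k : G), hkM⟩ : ↥M) ∈ Subgroup.zpowers x :=
    BGK.mem_zpowers_of_cyclic (P : Subgroup ↥M) hPc P.isPGroup' hkP hxP hko' hx1
  obtain ⟨n, hn⟩ := Subgroup.mem_zpowers_iff.mp hkx
  have hkx' : (k : G) = (x : G) ^ n := by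
    have := congrArg (fun t : ↥M => (t : G)) hn
    simpa using this.symm
  have hcomm : (k : G) * y = y * (k : G) := by
    rw [hkx']
    exact (Commute.zpow_left hxy n)
  have hyC : y ∈ sigmaCore M ⊓ Subgroup.centralizer ({(k : G)} : Set G) := by
    refine ⟨hy, Subgroup.mem_centralizer_iff.mpr ?_⟩
    intro t ht
    rw [Set.mem_singleton_iff.mp ht]
    exact hcomm
  rw [(h1430 hG M hM K hK hK1).1 (k : G) hkK hk1] at hyC
  intro hbot
  rw [hbot, Subgroup.mem_bot] at hyC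
  exact hy1 hyC


/-- the setting of B&G Theorem 14.7 -/
structure PPair (M Ms K Ks : Subgroup G) : Prop where
  hM : IsCoatom M
  hMs : IsCoatom Ms
  hK : IsPiHallOf (kappa M) K M
  hK1 : K ≠ ⊥
  hKs : Ks = sigmaCore M ⊓ Subgroup.centralizer (K : Set G)
  hKsH : IsPiHallOf (kappa Ms) Ks Ms
  hKst : K = sigmaCore Ms ⊓ Subgroup.centralizer (Ks : Set G)

namespace PPair

variable {M Ms K Ks : Subgroup G}

theorem K_le (h : PPair M Ms K Ks) : K ≤ M := h.hK.1

theorem Ks_le_sigma (h : PPair M Ms K Ks) : Ks ≤ sigmaCore M := h.hKs ▸ inf_le_left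

theorem Ks_le (h : PPair M Ms K Ks) : Ks ≤ M := h.Ks_le_sigma.trans (BG12.sigmaCore_le M)

theorem K_le_sigma (h : PPair M Ms K Ks) : K ≤ sigmaCore Ms := by
  have := h.hKst
  exact this ▸ inf_le_left

theorem K_le' (h : PPair M Ms K Ks) : K ≤ Ms := h.K_le_sigma.trans (BG12.sigmaCore_le Ms)

theorem Ks_le' (h : PPair M Ms K Ks) : Ks ≤ Ms := h.hKsH.1

theorem comm (h : PPair M Ms K Ks) : ∀ x ∈ K, ∀ y ∈ Ks, x * y = y * x := by
  intro x hx y hy
  have hy2 : y ∈ Subgroup.centralizer (K : Set G) := by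
    have := h.hKs ▸ hy
    exact this.2
  exact Subgroup.mem_centralizer_iff.mp hy2 x hx

theorem kappa_not_sigma {M : Subgroup G} {p : ℕ} (hp : p ∈ kappa M) : p ∉ sigma M := hp.2.2.1

theorem coprime_K_sigma (hG : IsMinSimpleOddOrder G) (h : PPair M Ms K Ks) :
    (Nat.card K).Coprime (Nat.card (sigmaCore M)) := by
  obtain ⟨hHall, -, -⟩ := BGA.s1350 hG M h.hM
  by_contra hc
  obtain ⟨r, hr, hr1, hr2⟩ := Nat.Prime.not_coprime_iff_dvd.mp hc
  exact kappa_not_sigma (h.hK.2.1 r hr hr1) (hHall.2.1 r hr hr2)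

theorem coprime_K_Ks (hG : IsMinSimpleOddOrder G) (h : PPair M Ms K Ks) :
    (Nat.card K).Coprime (Nat.card Ks) :=
  Nat.Coprime.coprime_dvd_right (Subgroup.card_dvd_of_le h.Ks_le_sigma) (h.coprime_K_sigma hG)

theorem K_inf_sigma (hG : IsMinSimpleOddOrder G) (h : PPair M Ms K Ks) :
    K ⊓ sigmaCore M = ⊥ := Subgroup.inf_eq_bot_of_coprime (h.coprime_K_sigma hG)

/-- `K* ≠ 1` -/
theorem Ks_ne_bot (hG : IsMinSimpleOddOrder G) (h1430 : Row1430 G) (h : PPair M Ms K Ks) :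
    Ks ≠ ⊥ := by
  rw [h.hKs]
  exact hall_cent_ne_bot hG h1430 h.hM h.hK h.hK1

theorem symm (hG : IsMinSimpleOddOrder G) (h1430 : Row1430 G) (h : PPair M Ms K Ks) :
    PPair Ms M Ks K :=
  ⟨h.hMs, h.hM, h.hKsH, h.Ks_ne_bot hG h1430, h.hKst, h.hK, h.hKs⟩

/-- `K* ∩ M^g = 1` for `g ∉ M` -/
theorem Ks_ti (hG : IsMinSimpleOddOrder G) (h1431 : Row1431 G) (h : PPair M Ms K Ks) {g : G}
    (hg : g ∉ M) : Ks ⊓ BG7.cj g M = ⊥ := by
  have := (h1431 hG M h.hM K h.hK h.hK1).1 g hg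
  rw [← h.hKs] at this
  exact this

/-- `C_G(y) ≤ M` for `y ∈ K*#` -/
theorem cent_le (hG : IsMinSimpleOddOrder G) (h1431 : Row1431 G) (h : PPair M Ms K Ks) {y : G}
    (hy : y ∈ Ks) (hy1 : y ≠ 1) : Subgroup.centralizer ({y} : Set G) ≤ M := by
  intro c hc
  by_contra hcM
  have h1 := h.Ks_ti hG h1431 hcM
  have h2 : y ∈ Ks ⊓ BG7.cj c M := by
    refine ⟨hy, BG7.mem_cj.mpr ?_⟩
    have h3 : y * c = c * y := Subgroup.mem_centralizer_iff.mp hc y (Set.mem_singleton y)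
    have : c⁻¹ * y * c = y := by rw [mul_assoc, h3, ← mul_assoc, inv_mul_cancel, one_mul]
    rw [this]; exact h.Ks_le hy
  rw [h1, Subgroup.mem_bot] at h2
  exact hy1 h2

/-- `M*` is not conjugate to `M` -/
theorem not_conj (hG : IsMinSimpleOddOrder G) (h : PPair M Ms K Ks) :
    ∀ g : G, Ms ≠ BG7.cj g M := by
  intro g hg
  obtain ⟨p, hp, hpK⟩ := Nat.exists_prime_and_dvd (n := Nat.card K) (by
    intro h1
    exact h.hK1 (Subgroup.card_eq_one.mp h1))
  have hpκ : p ∈ kappa M := h.hK.2.1 p hp hpK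
  obtain ⟨hHall, -, -⟩ := BGA.s1350 hG Ms h.hMs
  have hpσ : p ∈ sigma Ms :=
    hHall.2.1 p hp (hpK.trans (Subgroup.card_dvd_of_le h.K_le_sigma))
  have h1 : p ∈ sigma (BG7.cj g⁻¹ Ms) := sigma_cj_mem hpσ g⁻¹
  rw [hg, BG7.cj_inv_cj] at h1
  exact kappa_not_sigma hpκ h1

end PPair

end Cfsg.Agent.Lib.Lead.BGN
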