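import Mathlib
import Cfsg.Agent.Lib.Lead.BGN3
import Cfsg.Agent.Lib.Helper1.BGG3
import Cfsg.Agent.Lib.Helper1.CoprimeSylow
import Cfsg.Agent.Lib.Helper7.BGK5

/-!
# Pairs of maximal subgroups of type `𝒫`: intersection, orders, exclusion of case (d)
-/

set_option autoImplicit false
set_option linter.unusedSectionVars false

universe u

namespace Cfsg.Agent.Lib.Lead.BGN

open Cfsg Cfsg.Agent.Lib.Helper1 Cfsg.Agent.Lib.Helper2 Cfsg.Agent.Lib.Helper3
  Cfsg.Agent.Lib.Helper7 Cfsg.Agent.Lib.Helper7.BGRows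

variable {G : Type u} [Group G] [Finite G]

/-- `C_G(y) ≤ M` for `1 ≠ y ∈ C_{M_σ}(K)`, `K` a nontrivial Hall `κ(M)`-subgroup -/
theorem hall_cent_le (hG : IsMinSimpleOddOrder G) (h1431 : Row1431 G) {M K : Subgroup G}
    (hM : IsCoatom M) (hK : IsPiHallOf (kappa M) K M) (hK1 : K ≠ ⊥) {y : G}
    (hy : y ∈ sigmaCore M ⊓ Subgroup.centralizer (K : Set G)) (hy1 : y ≠ 1) :
    Subgroup.centralizer ({y} : Set G) ≤ M := by
  intro c hc
  by_contra hcM
  have h1 := (h1431 hG M hM K hK hK1).1 c hcM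
  have h2 : y ∈ (sigmaCore M ⊓ Subgroup.centralizer (K : Set G)) ⊓ BG7.cj c M := by
    refine ⟨hy, BG7.mem_cj.mpr ?_⟩
    have h3 : y * c = c * y := Subgroup.mem_centralizer_iff.mp hc y (Set.mem_singleton y)
    have : c⁻¹ * y * c = y := by rw [mul_assoc, h3, ← mul_assoc, inv_mul_cancel, one_mul]
    rw [this]; exact (BG12.sigmaCore_le M) hy.1
  have h3 : y ∈ (⊥ : Subgroup G) := h1.le h2
  exact hy1 (Subgroup.mem_bot.mp h3)

theorem exists_prime_card (H : Subgroup G) (hH : H ≠ ⊥) :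
    ∃ p : ℕ, p.Prime ∧ p ∣ Nat.card H :=
  Nat.exists_prime_and_dvd (n := Nat.card H) (fun h1 => hH (Subgroup.card_eq_one.mp h1))

theorem centralizer_zpowers_eq (y : G) :
    Subgroup.centralizer ((Subgroup.zpowers y : Subgroup G) : Set G) =
      Subgroup.centralizer ({y} : Set G) := by
  apply le_antisymm
  · apply Subgroup.centralizer_le
    intro z hz
    rw [Set.mem_singleton_iff.mp hz]
    exact Subgroup.mem_zpowers y
  · intro c hc
    rw [Subgroup.mem_centralizer_iff]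
    intro z hz
    obtain ⟨n, rfl⟩ := Subgroup.mem_zpowers_iff.mp hz
    have h1 : Commute y c := Subgroup.mem_centralizer_iff.mp hc y (Set.mem_singleton y)
    exact (h1.zpow_left n)

namespace PPair

variable {M Ms K Ks : Subgroup G}

/-- `M ∩ M* = K K*` -/
theorem inter (hG : IsMinSimpleOddOrder G) (h1430 : Row1430 G) (h : PPair M Ms K Ks) :
    M ⊓ Ms = K ⊔ Ks := by
  have hKs1 := h.Ks_ne_bot hG h1430
  apply le_antisymm
  · obtain ⟨q, hq, hqKs⟩ := exists_prime_card Ks hKs1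
    haveI : Fact q.Prime := ⟨hq⟩
    obtain ⟨y0, hy0⟩ := exists_prime_orderOf_dvd_card' (G := ↥Ks) q hqKs
    have hy0Ks : (y0 : G) ∈ Ks := y0.2
    have hy0o : orderOf (y0 : G) = q := by rw [Subgroup.orderOf_coe]; exact hy0
    have hy01 : (y0 : G) ≠ 1 := by
      intro h1
      rw [h1, orderOf_one] at hy0o
      exact hq.one_lt.ne hy0o
    obtain ⟨Y, hY⟩ : ∃ Y : Subgroup G, Y = Subgroup.zpowers (y0 : G) := ⟨_, rfl⟩
    have hYKs : Y ≤ Ks := by rw [hY]; exact Subgroup.zpowers_le.mpr hy0Ks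
    have hYq : IsPGroup q Y :=
      IsPGroup.of_card (n := 1) (by rw [hY, Nat.card_zpowers, hy0o, pow_one])
    have hqκ : q ∈ kappa Ms := h.hKsH.2.1 q hq hqKs
    obtain ⟨hHallM, -, -⟩ := BGA.s1350 hG M h.hM
    have hqσM : q ∈ sigma M :=
      hHallM.2.1 q hq (hqKs.trans (Subgroup.card_dvd_of_le h.Ks_le_sigma))
    have hcomm := BGG.comm_eq_bot hG BGH.row1424 h.hMs h.hM (kappa_not_sigma hqκ)
      (BGK.pRankLE_one_of_kappa hqκ) (hYKs.trans h.Ks_le') (hYKs.trans h.Ks_le) hYq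
      (Or.inl hqσM)
    have hJc : sigmaCore Ms ⊓ M ≤ Subgroup.centralizer (Y : Set G) :=
      Subgroup.commutator_eq_bot_iff_le_centralizer.mp hcomm
    have hJ : sigmaCore Ms ⊓ M ≤ K := by
      intro j hj
      have h1 : j ∈ Subgroup.centralizer ({(y0 : G)} : Set G) := by
        have := hJc hj
        rw [hY, centralizer_zpowers_eq] at this
        exact this
      have h2 : j ∈ sigmaCore Ms ⊓ Subgroup.centralizer ({(y0 : G)} : Set G) := ⟨hj.1, h1⟩
      rw [(h1430 hG Ms h.hMs Ks h.hKsH hKs1).1 (y0 : G) hy0Ks hy01, ← h.hKst] at h2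
      exact h2
    have hKJ : K = sigmaCore Ms ⊓ M := le_antisymm (le_inf h.K_le_sigma h.K_le) hJ
    have hIK : M ⊓ Ms ≤ M ⊓ Subgroup.normalizer (K : Set G) := by
      intro g hg
      refine ⟨hg.1, ?_⟩
      apply BG7.mem_normalizer_of_cj_eq
      rw [hKJ, BG7.cj_inf,
        BG7.cj_eq_of_mem_normalizer (BG12.le_normalizer_sigmaCore Ms hg.2),
        BGH.cj_self_of_mem hg.1]
    obtain ⟨p, hp, hpK⟩ := exists_prime_card K h.hK1
    haveI : Fact p.Prime := ⟨hp⟩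
    obtain ⟨X, hXK, hXcard⟩ := BGH.exists_prime_card_le hpK
    have h3 := ((h1430 hG M h.hM K h.hK h.hK1).2.2 X hXK (hXcard ▸ hp)).2.1
    rw [← h.hKs] at h3
    exact hIK.trans h3.le
  · exact sup_le (le_inf h.K_le h.K_le') (le_inf h.Ks_le h.Ks_le')

/-- `|M| = |M_σ| |K|` for `M` of type `𝒫₁` -/
theorem card_M (hG : IsMinSimpleOddOrder G) (h : PPair M Ms K Ks)
    (hP1 : ∀ q : ℕ, q.Prime → q ∣ Nat.card M → q ∈ sigma M ∨ q ∈ kappa M) :
    Nat.card M = Nat.card (sigmaCore M) * Nat.card K := by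
  obtain ⟨hHallM, -, -⟩ := BGA.s1350 hG M h.hM
  have hσM : sigmaCore M ≤ M := BG12.sigmaCore_le M
  have h1 := Helper2.card_mul_relIndex' hσM
  have h2 := Helper2.card_mul_relIndex' h.K_le
  have hdvd : Nat.card (sigmaCore M) * Nat.card K ∣ Nat.card M :=
    Nat.Coprime.mul_dvd_of_dvd_of_dvd (h.coprime_K_sigma hG).symm
      (Subgroup.card_dvd_of_le hσM) (Subgroup.card_dvd_of_le h.K_le)
  obtain ⟨t, ht⟩ := hdvd
  by_cases ht1 : t = 1
  · rw [ht, ht1, mul_one]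
  · exfalso
    obtain ⟨r, hr, hrt⟩ := Nat.exists_prime_and_dvd ht1
    have hrM : r ∣ Nat.card M := by rw [ht]; exact hrt.mul_left _
    have hσpos : 0 < Nat.card (sigmaCore M) := Nat.card_pos
    have hKpos : 0 < Nat.card K := Nat.card_pos
    have hrσ : r ∣ (sigmaCore M).relIndex M := by
      have h3 : (sigmaCore M).relIndex M = Nat.card K * t := by
        apply Nat.eq_of_mul_eq_mul_left hσpos
        rw [h1, ht, mul_assoc]
      rw [h3]; exact hrt.mul_left _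
    have hrκ : r ∣ K.relIndex M := by
      have h3 : K.relIndex M = Nat.card (sigmaCore M) * t := by
        apply Nat.eq_of_mul_eq_mul_left hKpos
        rw [h2, ht]; ring
      rw [h3]; exact hrt.mul_left _
    rcases hP1 r hr hrM with h5 | h5
    · exact hHallM.2.2 r hr h5 hrσ
    · exact h.hK.2.2 r hr h5 hrκ

/-- `K` is a complement of `M_σ` in `M` for `M` of type `𝒫₁` -/
theorem K_compl (hG : IsMinSimpleOddOrder G) (h : PPair M Ms K Ks)
    (hP1 : ∀ q : ℕ, q.Prime → q ∣ Nat.card M → q ∈ sigma M ∨ q ∈ kappa M) :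
    IsComplIn K (sigmaCore M) M :=
  BGK.complIn_of_card_le h.K_le (BG12.sigmaCore_le M) (h.K_inf_sigma hG)
    (by rw [h.card_M hG hP1, mul_comm])

/-- `|M_σ| ≥ 2 |K*|` -/
theorem two_mul_le (hG : IsMinSimpleOddOrder G) (h1430 : Row1430 G) (h1431 : Row1431 G)
    (h : PPair M Ms K Ks) : 2 * Nat.card Ks ≤ Nat.card (sigmaCore M) := by
  have hKs1 := h.Ks_ne_bot hG h1430
  have hne : Ks ≠ sigmaCore M := by
    intro heq
    obtain ⟨p, hp, hpKs⟩ := exists_prime_card Ks hKs1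
    haveI : Fact p.Prime := ⟨hp⟩
    have h3 := (h1431 hG M h.hM K h.hK h.hK1).2.2.1 p hp (h.hKs ▸ hpKs)
      (default : Sylow p ↥(sigmaCore M))
    apply h3.2.2
    rw [← h.hKs, heq]
    exact Subgroup.map_subtype_le _
  obtain ⟨j, hj⟩ := Subgroup.card_dvd_of_le h.Ks_le_sigma
  have hpos : 0 < Nat.card (sigmaCore M) := Nat.card_pos
  have hj0 : j ≠ 0 := by
    rintro rfl
    rw [mul_zero] at hj
    omega
  have hj1 : j ≠ 1 := by
    rintro rfl
    rw [mul_one] at hj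
    exact hne (Subgroup.eq_of_le_of_card_ge h.Ks_le_sigma hj.le)
  rw [hj, mul_comm]
  exact Nat.mul_le_mul_left _ (by omega)

/-- for `M` of type `𝒫₁`, `M` is the only maximal subgroup containing `C_G(y)`, `y ∈ K*` of prime
order -/
theorem Ks_unique (hG : IsMinSimpleOddOrder G) (h : PPair M Ms K Ks)
    (hP1 : ∀ q : ℕ, q.Prime → q ∣ Nat.card M → q ∈ sigma M ∨ q ∈ kappa M) {y : G}
    (hy : y ∈ Ks) (hyo : (orderOf y).Prime) :
    ∀ L : Subgroup G, IsCoatom L → Subgroup.centralizer ({y} : Set G) ≤ L → L = M := by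
  obtain ⟨hHallM, -, -⟩ := BGA.s1350 hG M h.hM
  obtain ⟨s, hs⟩ : ∃ s : ℕ, s = orderOf y := ⟨_, rfl⟩
  haveI : Fact s.Prime := ⟨hs ▸ hyo⟩
  obtain ⟨X, hX⟩ : ∃ X : Subgroup G, X = Subgroup.zpowers y := ⟨_, rfl⟩
  have hXcard : Nat.card X = s := by rw [hX, Nat.card_zpowers, hs]
  have hXKs : X ≤ Ks := by rw [hX]; exact Subgroup.zpowers_le.mpr hy
  have hsσ : s ∈ sigma M :=
    hHallM.2.1 s (hs ▸ hyo) (hXcard ▸ Subgroup.card_dvd_of_le (hXKs.trans h.Ks_le_sigma))
  have hKsder : Ks ≤ ⁅sigmaCore M, sigmaCore M⁆ := by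
    have h1 := (BGH.row1426 hG M h.hM K (h.K_compl hG hP1)).1
    rw [← h.hKs] at h1
    exact h1
  have h2 := (BGH.row1423 hG M h.hM s hsσ X (hXKs.trans h.Ks_le) hXcard
    (default : Sylow s ↥(sigmaCore M)) (Or.inr (hXKs.trans hKsder))).1.2
  intro L hL hCL
  apply h2 L hL
  rw [hX, centralizer_zpowers_eq]
  exact hCL

end PPair

end Cfsg.Agent.Lib.Lead.BGN
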