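import Mathlib
import Cfsg.Agent.Lib.Lead.BGN4

/-!
# Exclusion of the case `q ∈ σ(N)` for a pair of maximal subgroups of type `𝒫₁`
-/

set_option autoImplicit false
set_option linter.unusedSectionVars false
set_option linter.unusedVariables false

universe u

namespace Cfsg.Agent.Lib.Lead.BGN

open Cfsg Cfsg.Agent.Lib.Helper1 Cfsg.Agent.Lib.Helper2 Cfsg.Agent.Lib.Helper3
  Cfsg.Agent.Lib.Helper7 Cfsg.Agent.Lib.Helper7.BGRows

variable {G : Type u} [Group G] [Finite G]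

theorem orderOf_conj' (g x : G) : orderOf (g * x * g⁻¹) = orderOf x := by
  rw [← MulAut.conj_apply, MulEquiv.orderOf_eq]

namespace PPair

variable {M Ms K Ks : Subgroup G}

/-- `σ(M) ∩ σ(M*) = ∅` when `σ(M*) ⊆ β(M*)` -/
theorem sigma_disj (hG : IsMinSimpleOddOrder G) (h : PPair M Ms K Ks)
    (hβ : ∀ r : ℕ, r ∈ sigma Ms → r ∈ beta Ms) {q : ℕ} (hq : q ∈ sigma M) : q ∉ sigma Ms := by
  intro hqs
  exact BGH.sigma_alpha_disjoint hG h.hM h.hMs (h.not_conj hG) hq (hβ q hqs).1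

theorem sigma_disj' (hG : IsMinSimpleOddOrder G) (h : PPair M Ms K Ks)
    (hβ : ∀ r : ℕ, r ∈ sigma Ms → r ∈ beta Ms) {N : Subgroup G} (hN : IsCoatom N)
    {q : ℕ} (hqM : q ∈ sigma M) (hqN : q ∈ sigma N) {r : ℕ} (hrN : r ∈ sigma N)
    (hrs : r ∈ sigma Ms) : False := by
  by_cases hc : ∀ g : G, Ms ≠ BG7.cj g N
  · exact BGH.sigma_alpha_disjoint hG hN h.hMs hc hrN (hβ r hrs).1
  · push Not at hc
    obtain ⟨g, hg⟩ := hc
    have : q ∈ sigma Ms := by rw [hg]; exact sigma_cj_mem hqN g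
    exact h.sigma_disj hG hβ hqM this

/-- the case "(d)" of B&G 14.4 does not occur for a pair of type `𝒫₁` -/
theorem no_d (hG : IsMinSimpleOddOrder G) (h1430 : Row1430 G) (h1431 : Row1431 G)
    (h : PPair M Ms K Ks)
    (hP1 : ∀ q : ℕ, q.Prime → q ∣ Nat.card M → q ∈ sigma M ∨ q ∈ kappa M)
    (hP1s : ∀ q : ℕ, q.Prime → q ∣ Nat.card Ms → q ∈ sigma Ms ∨ q ∈ kappa Ms)
    (hβ : ∀ r : ℕ, r ∈ sigma Ms → r ∈ beta Ms)
    (q : ℕ) [hq : Fact q.Prime] (X N : Subgroup G) (hqσ : q ∈ sigma M)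
    (hXσ : X ≤ sigmaCore M) (hXc : Nat.card X = q)
    (hC : ¬ Subgroup.centralizer (X : Set G) ≤ M) (hN : IsCoatom N)
    (hNX : Subgroup.normalizer (X : Set G) ≤ N) : q ∉ sigma N := by
  classical
  intro hqN
  have hM := h.hM
  have hσM : sigmaCore M ≤ M := BG12.sigmaCore_le M
  have hXM : X ≤ M := hXσ.trans hσM
  have hXN : X ≤ N := Subgroup.le_normalizer.trans hNX
  have hXq : IsPGroup q X := IsPGroup.of_card (n := 1) (by rw [hXc, pow_one])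
  have hX1 : X ≠ ⊥ := by
    intro hb
    rw [hb, Subgroup.card_bot] at hXc
    exact hq.out.one_lt.ne hXc
  have hNM : N ≠ M := by
    rintro rfl
    exact hC ((Subgroup.centralizer_le_normalizer _).trans hNX)
  obtain ⟨S, hXS⟩ := BGD.exists_sylow_ge (M := M ⊓ N) hXq (le_inf hXM hXN)
  obtain ⟨hnc, hNS, hidx⟩ := BGH.row1424 hG M hM q hqσ X hXq hX1 hXM N hN hNM hNX S hXS
  obtain ⟨S', hS'⟩ : ∃ S' : Subgroup G,
      S' = (S : Subgroup ↥(M ⊓ N)).map (M ⊓ N).subtype := ⟨_, rfl⟩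
  rw [← hS'] at hXS hNS hidx
  have hS'le : S' ≤ M ⊓ N := by rw [hS']; exact Subgroup.map_subtype_le _
  have hS'q : IsPGroup q S' := by rw [hS']; exact S.isPGroup'.map _
  have hS'max : BG8.IsMaxP q S' N :=
    BGG.isMaxP_of_not_dvd_relIndex (hS'le.trans inf_le_right) hS'q hidx
  obtain ⟨-, hS'top, hNS'N⟩ := BT.sigma_sylow_le_commutator hG hN hqN hS'max
  have hS'σ : S' ≤ sigmaCore M :=
    BGE.qsub_le_sigmaCore hG hM hqσ hS'q (hS'le.trans inf_le_left)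
  -- a `K`-invariant Sylow `q`-subgroup of `M_σ`
  have hKn : K ≤ Subgroup.normalizer (sigmaCore M : Set G) :=
    h.K_le.trans (BG12.le_normalizer_sigmaCore M)
  have hsolv : Group.IsSolvable ↥(sigmaCore M) :=
    BG7.isSolvable_of_ne_top hG (fun ht => hM.1 (top_le_iff.mp (by rw [← ht]; exact hσM)))
  have hbotn : K ≤ Subgroup.normalizer (((⊥ : Subgroup G)) : Set G) := by
    intro k _
    rw [Subgroup.mem_normalizer_iff]
    intro x
    rw [Subgroup.mem_bot, Subgroup.mem_bot, conj_eq_one_iff]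
  obtain ⟨P, -, hKP⟩ := coprime_invariant_le_sylow K (sigmaCore M) hKn (h.coprime_K_sigma hG)
    (Or.inr hsolv) q ⊥ bot_le IsPGroup.of_bot hbotn
  obtain ⟨P', hP'⟩ : ∃ P' : Subgroup G,
      P' = (P : Subgroup ↥(sigmaCore M)).map (sigmaCore M).subtype := ⟨_, rfl⟩
  rw [← hP'] at hKP
  have hP'max : BG8.IsMaxP q P' (sigmaCore M) := by rw [hP']; exact BG8.isMaxP_of_sylow P
  obtain ⟨n, hnσ, hS'n⟩ := BT.exists_cj_ge hP'max hS'q hS'σ
  have hcjq : IsPGroup q (BG7.cj n P') := hP'max.2.1.map _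
  have hS'eq : BG7.cj n P' = S' := hS'top.2.2 _ hcjq hS'n le_top
  have hcjK_N : BG7.cj n K ≤ N := by
    have h1 : BG7.cj n K ≤ BG7.cj n (Subgroup.normalizer (P' : Set G)) := BG7.cj_mono hKP
    rw [BT.cj_normalizer, hS'eq] at h1
    exact h1.trans hNS'N
  -- an element of prime order `p` of `K`
  obtain ⟨p, hp, hpK⟩ := exists_prime_card K h.hK1
  haveI : Fact p.Prime := ⟨hp⟩
  obtain ⟨k0', hk0'⟩ := exists_prime_orderOf_dvd_card' (G := ↥K) p hpK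
  obtain ⟨k0, hk0⟩ : ∃ k0 : G, k0 = (k0' : G) := ⟨_, rfl⟩
  have hk0K : k0 ∈ K := by rw [hk0]; exact k0'.2
  have hk0o : orderOf k0 = p := by rw [hk0, Subgroup.orderOf_coe]; exact hk0'
  have hk01 : k0 ≠ 1 := by
    intro h1
    rw [h1, orderOf_one] at hk0o
    exact hp.one_lt.ne hk0o
  have hpσMs : p ∈ sigma Ms := by
    obtain ⟨hHallMs, -, -⟩ := BGA.s1350 hG Ms h.hMs
    exact hHallMs.2.1 p hp (hpK.trans (Subgroup.card_dvd_of_le h.K_le_sigma))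
  obtain ⟨Y1, hY1⟩ : ∃ Y1 : Subgroup G, Y1 = BG7.cj n (Subgroup.zpowers k0) := ⟨_, rfl⟩
  have hY1c : Nat.card Y1 = p := by rw [hY1, BG7.card_cj, Nat.card_zpowers, hk0o]
  have hY1N : Y1 ≤ N := by
    rw [hY1]
    exact (BG7.cj_mono (Subgroup.zpowers_le.mpr hk0K)).trans hcjK_N
  have hY11 : Y1 ≠ ⊥ := by
    intro hb
    rw [hb, Subgroup.card_bot] at hY1c
    exact hp.one_lt.ne hY1c
  have hpN : p ∣ Nat.card N := hY1c ▸ Subgroup.card_dvd_of_le hY1N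
  obtain ⟨k1, hk1⟩ : ∃ k1 : G, k1 = n * k0 * n⁻¹ := ⟨_, rfl⟩
  have hk1Y : k1 ∈ Y1 := by
    rw [hk1, hY1]
    exact BG7.conj_mem_cj (Subgroup.mem_zpowers k0)
  -- `C(k1) ≤ cj n Ms`
  have hCk1 : Subgroup.centralizer ({k1} : Set G) ≤ BG7.cj n Ms := by
    intro c hc
    rw [BG7.mem_cj]
    apply (h.symm hG h1430).cent_le hG h1431 hk0K hk01
    rw [Subgroup.mem_centralizer_iff]
    intro z hz
    rw [Set.mem_singleton_iff.mp hz]
    have h1 : k1 * c = c * k1 := Subgroup.mem_centralizer_iff.mp hc k1 (Set.mem_singleton k1)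
    have e1 : k0 = n⁻¹ * k1 * n := by rw [hk1]; group
    rw [e1]
    calc n⁻¹ * k1 * n * (n⁻¹ * c * n) = n⁻¹ * (k1 * c) * n := by group
      _ = n⁻¹ * (c * k1) * n := by rw [h1]
      _ = n⁻¹ * c * n * (n⁻¹ * k1 * n) := by group
  have hkey : ∀ r : ℕ, r ∈ sigma N → r ∈ sigma Ms → False := fun r hrN hrs =>
    h.sigma_disj' hG hβ hN hqσ hqN hrN hrs
  by_cases hpσN : p ∈ sigma N
  · exact hkey p hpσN hpσMs
  have hpκN : p ∈ kappa N := by
    by_contra hpκN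
    have hpσκ : p ∉ sigma N ∪ kappa N := by
      intro hu
      rcases hu with hu | hu
      · exact hpσN hu
      · exact hpκN hu
    obtain ⟨-, -, hnil⟩ := BGG.s1429 hG N hN p hpN hpσκ (default : Sylow p ↥N)
    obtain ⟨g, hg⟩ := BGM.exists_cj_le_of_common_sigma hG hM hN hqσ hqN hnil
    have h1 : M = BG7.cj g N := BG8.eq_of_coatom_le (BG9.isCoatom_cj hN g) hg hM.1
    apply hnc g⁻¹
    show N = BG7.cj g⁻¹ M
    rw [h1, BG7.cj_inv_cj]
  -- a Hall `κ(N)`-subgroup containing `k1`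
  have hNsolv : Group.IsSolvable ↥N := BG7.isSolvable_of_ne_top hG hN.1
  obtain ⟨H0, hH0⟩ := BGK.exists_isPiHallOf N hNsolv (kappa N)
  have hY1π : ∀ r : ℕ, r.Prime → r ∣ Nat.card Y1 → r ∈ kappa N := by
    intro r hr hrd
    rw [hY1c] at hrd
    rw [(Nat.prime_dvd_prime_iff_eq hr hp).mp hrd]
    exact hpκN
  obtain ⟨a, haN, hY1a⟩ := BGK.exists_cj_le_of_hall hNsolv hH0 hY1N hY1π
  have hKN0 : IsPiHallOf (kappa N) (BG7.cj a H0) N := BGK.isPiHallOf_cj hH0 haN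
  obtain ⟨KN, hKNdef⟩ : ∃ KN : Subgroup G, KN = BG7.cj a H0 := ⟨_, rfl⟩
  rw [← hKNdef] at hKN0 hY1a
  have hKN1 : KN ≠ ⊥ := fun hb => hY11 (le_bot_iff.mp (by rw [← hb]; exact hY1a))
  have hcent := hall_cent_ne_bot hG h1430 hN hKN0 hKN1
  obtain ⟨s, hs, hsd⟩ := exists_prime_card _ hcent
  haveI : Fact s.Prime := ⟨hs⟩
  obtain ⟨y', hy'⟩ := exists_prime_orderOf_dvd_card'
    (G := ↥(sigmaCore N ⊓ Subgroup.centralizer (KN : Set G))) s hsd
  obtain ⟨y, hy⟩ : ∃ y : G, y = (y' : G) := ⟨_, rfl⟩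
  have hymem : y ∈ sigmaCore N ⊓ Subgroup.centralizer (KN : Set G) := by rw [hy]; exact y'.2
  have hyo : orderOf y = s := by rw [hy, Subgroup.orderOf_coe]; exact hy'
  have hy1 : y ≠ 1 := by
    intro h1
    rw [h1, orderOf_one] at hyo
    exact hs.one_lt.ne hyo
  have hsσN : s ∈ sigma N := by
    obtain ⟨hHallN, -, -⟩ := BGA.s1350 hG N hN
    exact hHallN.2.1 s hs (hsd.trans (Subgroup.card_dvd_of_le inf_le_left))
  have hCy : Subgroup.centralizer ({y} : Set G) ≤ N :=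
    hall_cent_le hG h1431 hN hKN0 hKN1 hymem hy1
  have hyk1 : y ∈ Subgroup.centralizer ({k1} : Set G) := by
    rw [Subgroup.mem_centralizer_iff]
    intro z hz
    rw [Set.mem_singleton_iff.mp hz]
    exact Subgroup.mem_centralizer_iff.mp hymem.2 k1 (hY1a hk1Y)
  have hyMs : y ∈ BG7.cj n Ms := hCk1 hyk1
  obtain ⟨Y2, hY2⟩ : ∃ Y2 : Subgroup G, Y2 = BG7.cj n⁻¹ (Subgroup.zpowers y) := ⟨_, rfl⟩
  have hY2c : Nat.card Y2 = s := by rw [hY2, BG7.card_cj, Nat.card_zpowers, hyo]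
  have hY2Ms : Y2 ≤ Ms := by
    rw [hY2]
    have h1 : Subgroup.zpowers y ≤ BG7.cj n Ms := Subgroup.zpowers_le.mpr hyMs
    have h2 := BG7.cj_mono (k := n⁻¹) h1
    rwa [BG7.cj_inv_cj] at h2
  have hsMs : s ∣ Nat.card Ms := hY2c ▸ Subgroup.card_dvd_of_le hY2Ms
  rcases hP1s s hs hsMs with hsσ | hsκ
  · exact hkey s hsσN hsσ
  -- `s ∈ κ(M*)`
  have hMssolv : Group.IsSolvable ↥Ms := BG7.isSolvable_of_ne_top hG h.hMs.1
  have hY2π : ∀ r : ℕ, r.Prime → r ∣ Nat.card Y2 → r ∈ kappa Ms := by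
    intro r hr hrd
    rw [hY2c] at hrd
    rw [(Nat.prime_dvd_prime_iff_eq hr hs).mp hrd]
    exact hsκ
  obtain ⟨l, hlMs, hY2l⟩ := BGK.exists_cj_le_of_hall hMssolv h.hKsH hY2Ms hY2π
  obtain ⟨y1, hy1def⟩ : ∃ y1 : G, y1 = (n * l)⁻¹ * y * (n * l) := ⟨_, rfl⟩
  have hy1Ks : y1 ∈ Ks := by
    have h1 : n⁻¹ * y * (n⁻¹)⁻¹ ∈ Y2 := by
      rw [hY2]
      exact BG7.conj_mem_cj (Subgroup.mem_zpowers y)
    have h2 := BG7.mem_cj.mp (hY2l h1)
    have e : y1 = l⁻¹ * (n⁻¹ * y * (n⁻¹)⁻¹) * l := by rw [hy1def]; group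
    rw [e]
    exact h2
  have hy1o : (orderOf y1).Prime := by
    have h1 : orderOf y1 = orderOf y := by
      have e : y1 = (n * l)⁻¹ * y * ((n * l)⁻¹)⁻¹ := by rw [hy1def, inv_inv]
      rw [e, orderOf_conj']
    rw [h1, hyo]
    exact hs
  have hcent2 : Subgroup.centralizer ({y1} : Set G) ≤ BG7.cj (n * l)⁻¹ N := by
    intro c hc
    rw [BG7.mem_cj, inv_inv]
    apply hCy
    rw [Subgroup.mem_centralizer_iff]
    intro z hz
    rw [Set.mem_singleton_iff.mp hz]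
    have h1 : y1 * c = c * y1 := Subgroup.mem_centralizer_iff.mp hc y1 (Set.mem_singleton y1)
    have e1 : y = (n * l) * y1 * (n * l)⁻¹ := by rw [hy1def]; group
    rw [e1]
    calc (n * l) * y1 * (n * l)⁻¹ * ((n * l) * c * (n * l)⁻¹)
        = (n * l) * (y1 * c) * (n * l)⁻¹ := by group
      _ = (n * l) * (c * y1) * (n * l)⁻¹ := by rw [h1]
      _ = (n * l) * c * (n * l)⁻¹ * ((n * l) * y1 * (n * l)⁻¹) := by group
  have huniq := h.Ks_unique hG hP1 hy1Ks hy1o _ (BG9.isCoatom_cj hN _) hcent2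
  apply hnc (n * l)
  show N = BG7.cj (n * l) M
  rw [← huniq, BG9.cj_cj_inv]

end PPair

end Cfsg.Agent.Lib.Lead.BGN
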