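import Mathlib
import Cfsg.Agent.Lib.Lead.BGN5

/-!
# The counting argument for a pair of maximal subgroups of type `𝒫₁`
-/

set_option autoImplicit false
set_option linter.unusedSectionVars false
set_option linter.unusedVariables false

universe u

namespace Cfsg.Agent.Lib.Lead.BGN

open Cfsg Cfsg.Agent.Lib.Helper1 Cfsg.Agent.Lib.Helper2 Cfsg.Agent.Lib.Helper3
  Cfsg.Agent.Lib.Helper7 Cfsg.Agent.Lib.Helper7.BGRows

variable {G : Type u} [Group G] [Finite G]

theorem pow_card_of_mem {H : Subgroup G} {x : G} (hx : x ∈ H) : x ^ Nat.card H = 1 := by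
  have h1 : (⟨x, hx⟩ : ↥H) ^ Nat.card H = 1 := pow_card_eq_one'
  have h2 : (((⟨x, hx⟩ : ↥H) ^ Nat.card H : ↥H) : G) = ((1 : ↥H) : G) := by rw [h1]
  rwa [Subgroup.coe_pow, Subgroup.coe_one] at h2

theorem eq_one_of_pow_coprime {y : G} {a b : ℕ} (h1 : y ^ a = 1) (h2 : y ^ b = 1)
    (hab : a.Coprime b) : y = 1 := by
  have h3 := Nat.dvd_gcd (orderOf_dvd_of_pow_eq_one h1) (orderOf_dvd_of_pow_eq_one h2)
  rw [hab.gcd_eq_one] at h3
  exact orderOf_eq_one_iff.mp (Nat.dvd_one.mp h3)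

theorem ncard_coe_subgroup (H : Subgroup G) : (H : Set G).ncard = Nat.card H :=
  (Nat.card_coe_set_eq (H : Set G)).symm

/-- the elements of `Sset` -/
theorem sset_elim {M H : Subgroup G}
    (hcop : ∀ x : G, x ≠ 1 → (∃ a : G, x ∈ BG7.cj a H) → (Nat.card H).Coprime (nconj M x))
    {w : G} (hw : w ∈ Sset M H) :
    ∃ x : G, x ≠ 1 ∧ (∃ a : G, x ∈ BG7.cj a H) ∧ x ∈ Subgroup.zpowers w ∧
      (nconj M x = 1 → w = x) := by
  obtain ⟨x, c, hx1, ⟨a, hxa⟩, hxc, hcn, rfl⟩ := hw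
  refine ⟨x, hx1, ⟨a, hxa⟩, ?_, ?_⟩
  · have hxm : x ^ Nat.card H = 1 := by
      have := pow_card_of_mem hxa
      rwa [BG7.card_cj] at this
    have hcp := (hcop x hx1 ⟨a, hxa⟩).symm
    have h1 : (x * c) ^ nconj M x = x ^ nconj M x := by rw [hxc.mul_pow, hcn, mul_one]
    have h2 := eq_zpow_of_coprime hxm hcp
    have hmem : ((x * c) ^ nconj M x) ^ (Nat.gcdA (nconj M x) (Nat.card H)) ∈
        Subgroup.zpowers (x * c) :=
      Subgroup.zpow_mem _ (Subgroup.pow_mem _ (Subgroup.mem_zpowers _) _) _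
    rw [h1, ← h2] at hmem
    exact hmem
  · intro hn1
    rw [hn1, pow_one] at hcn
    rw [hcn, mul_one]

theorem lemmaP_arith {k ks m ms g W I J a b s z T nL : ℕ} (hk : 0 < k) (hks : 0 < ks)
    (hm : 0 < m) (hms : 0 < ms)
    (hW : W * (k * ks) = g) (hI : I * (m * k) = g) (hJ : J * (ms * ks) = g)
    (hA : a * (k * ks) = z * g) (hz : z + k + ks = k * ks + 1)
    (hB : b * (ms * ks) = T * g) (hT : T + 1 = ms)
    (hS : (m - 1) * nL ≤ s) (hnL : I ≤ nL)
    (h2 : 2 * ks ≤ m) (h2' : 2 * k ≤ ms) : g ≤ a + b + s := by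
  obtain ⟨m', rfl⟩ : ∃ m', m = m' + 1 := ⟨m - 1, by omega⟩
  rw [Nat.add_sub_cancel] at hS
  have hkks : 0 < k * ks := Nat.mul_pos hk hks
  have ha : a = z * W := by
    apply Nat.eq_of_mul_eq_mul_right hkks
    rw [hA, ← hW]; ring
  have hb : b = T * J := by
    apply Nat.eq_of_mul_eq_mul_right (Nat.mul_pos hms hks)
    rw [hB, ← hJ]; ring
  have e1 : W * ks = I * (m' + 1) := by
    apply Nat.eq_of_mul_eq_mul_right hk
    calc W * ks * k = W * (k * ks) := by ring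
      _ = I * ((m' + 1) * k) := by rw [hW, hI]
      _ = I * (m' + 1) * k := by ring
  have e2 : W * k = J * ms := by
    apply Nat.eq_of_mul_eq_mul_right hks
    calc W * k * ks = W * (k * ks) := by ring
      _ = J * (ms * ks) := by rw [hW, hJ]
      _ = J * ms * ks := by ring
  have i1 : 2 * I ≤ W := by
    apply Nat.le_of_mul_le_mul_right _ hks
    calc 2 * I * ks = I * (2 * ks) := by ring
      _ ≤ I * (m' + 1) := Nat.mul_le_mul_left _ h2
      _ = W * ks := e1.symm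
  have i2 : 2 * J ≤ W := by
    apply Nat.le_of_mul_le_mul_right _ hk
    calc 2 * J * k = J * (2 * k) := by ring
      _ ≤ J * ms := Nat.mul_le_mul_left _ h2'
      _ = W * k := e2.symm
  have s1 : a + W * k + W * ks = g + W := by
    calc a + W * k + W * ks = (z + k + ks) * W := by rw [ha]; ring
      _ = (k * ks + 1) * W := by rw [hz]
      _ = g + W := by rw [← hW]; ring
  have s2 : b + J = W * k := by
    rw [e2, hb, ← hT]; ring
  have s3 : W * ks ≤ s + I := by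
    rw [e1]
    have h3 : m' * I ≤ s := (Nat.mul_le_mul_left _ hnL).trans hS
    calc I * (m' + 1) = m' * I + I := by ring
      _ ≤ s + I := by omega
  obtain ⟨P1, hP1⟩ : ∃ P1, P1 = W * k := ⟨_, rfl⟩
  obtain ⟨P2, hP2⟩ : ∃ P2, P2 = W * ks := ⟨_, rfl⟩
  rw [← hP1, ← hP2] at s1
  rw [← hP1] at s2
  rw [← hP2] at s3
  omega

namespace PPair

variable {M Ms K Ks : Subgroup G}

/-- the set `Ẑ = K K* ∖ (K ∪ K*)` -/
def Zhat (K Ks : Subgroup G) : Set G := (↑(K ⊔ Ks) : Set G) \ ((K : Set G) ∪ (Ks : Set G))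

theorem K_inf_Ks (hG : IsMinSimpleOddOrder G) (h : PPair M Ms K Ks) : K ⊓ Ks = ⊥ :=
  Subgroup.inf_eq_bot_of_coprime (h.coprime_K_Ks hG)

theorem card_Z (hG : IsMinSimpleOddOrder G) (h : PPair M Ms K Ks) :
    Nat.card ↥(K ⊔ Ks) = Nat.card K * Nat.card Ks :=
  card_sup_of_commute h.comm (h.coprime_K_Ks hG)

theorem ncard_Zhat (hG : IsMinSimpleOddOrder G) (h : PPair M Ms K Ks) :
    (Zhat K Ks).ncard + Nat.card K + Nat.card Ks = Nat.card K * Nat.card Ks + 1 := by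
  have hsub : (K : Set G) ∪ (Ks : Set G) ⊆ (↑(K ⊔ Ks) : Set G) := by
    intro x hx
    rcases hx with hx | hx
    · exact (le_sup_left : K ≤ K ⊔ Ks) hx
    · exact (le_sup_right : Ks ≤ K ⊔ Ks) hx
  have h1 := Set.ncard_sdiff_add_ncard_of_subset hsub (Set.toFinite _)
  have h2 := Set.ncard_union_add_ncard_inter (K : Set G) (Ks : Set G) (Set.toFinite _)
    (Set.toFinite _)
  have h3 : ((K : Set G) ∩ (Ks : Set G)) = {1} := by
    ext x
    constructor
    · rintro ⟨hxK, hxKs⟩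
      have h4 : x ∈ K ⊓ Ks := ⟨hxK, hxKs⟩
      rw [h.K_inf_Ks hG] at h4
      exact Set.mem_singleton_iff.mpr (Subgroup.mem_bot.mp h4)
    · intro hx
      rw [Set.mem_singleton_iff.mp hx]
      exact ⟨K.one_mem, Ks.one_mem⟩
  rw [h3, Set.ncard_singleton, ncard_coe_subgroup, ncard_coe_subgroup] at h2
  rw [ncard_coe_subgroup, h.card_Z hG] at h1
  unfold Zhat
  omega

theorem Ks_le_cent (h : PPair M Ms K Ks) : Ks ≤ Subgroup.centralizer (K : Set G) := by
  rw [h.hKs]; exact inf_le_right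

theorem K_le_cent (h : PPair M Ms K Ks) : K ≤ Subgroup.centralizer (Ks : Set G) := by
  have := h.hKst
  intro x hx
  rw [this] at hx
  exact hx.2

theorem Zhat_ti (hG : IsMinSimpleOddOrder G) (h1430 : Row1430 G) (h1431 : Row1431 G)
    (h : PPair M Ms K Ks) :
    ∀ g : G, ∀ t ∈ Zhat K Ks, g * t * g⁻¹ ∈ Zhat K Ks → g ∈ K ⊔ Ks := by
  intro g t ht hgt
  obtain ⟨htZ, htn⟩ := ht
  have hcop := h.coprime_K_Ks hG
  obtain ⟨x, hx, y, hy, hxy, -, -⟩ := exists_components h.comm hcop htZ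
  obtain ⟨x', hx', y', hy', hxy', -, -⟩ := exists_components h.comm hcop hgt.1
  have hx1 : x ≠ 1 := by
    rintro rfl
    apply htn
    right
    rw [hxy, one_mul]
    exact hy
  have hy1 : y ≠ 1 := by
    rintro rfl
    apply htn
    left
    rw [hxy, mul_one]
    exact hx
  have e : (g * x * g⁻¹) * (g * y * g⁻¹) = x' * y' := by
    rw [← hxy', hxy]; group
  have hc : x * y = y * x := h.comm x hx y hy
  have hcomm : Commute (g * x * g⁻¹) (g * y * g⁻¹) := by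
    show g * x * g⁻¹ * (g * y * g⁻¹) = g * y * g⁻¹ * (g * x * g⁻¹)
    calc g * x * g⁻¹ * (g * y * g⁻¹) = g * (x * y) * g⁻¹ := by group
      _ = g * (y * x) * g⁻¹ := by rw [hc]
      _ = g * y * g⁻¹ * (g * x * g⁻¹) := by group
  have hcomm' : Commute x' y' := h.comm x' hx' y' hy'
  have hu : (g * x * g⁻¹) ^ Nat.card K = 1 := by
    rw [conj_pow, pow_card_of_mem hx, mul_one, mul_inv_cancel]
  have hv : (g * y * g⁻¹) ^ Nat.card Ks = 1 := by
    rw [conj_pow, pow_card_of_mem hy, mul_one, mul_inv_cancel]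
  obtain ⟨hgx, hgy⟩ := decomp_unique hcomm hcomm' hu (pow_card_of_mem hx') hv
    (pow_card_of_mem hy') hcop hcop e
  have hgM : g ∈ M := by
    by_contra hgM
    have h1 := h.Ks_ti hG h1431 hgM
    have h2 : g * y * g⁻¹ ∈ Ks ⊓ BG7.cj g M :=
      ⟨hgy ▸ hy', BG7.conj_mem_cj (h.Ks_le hy)⟩
    rw [h1, Subgroup.mem_bot, conj_eq_one_iff] at h2
    exact hy1 h2
  have hgMs : g ∈ Ms := by
    by_contra hgMs
    have h1 := (h.symm hG h1430).Ks_ti hG h1431 hgMs
    have h2 : g * x * g⁻¹ ∈ K ⊓ BG7.cj g Ms :=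
      ⟨hgx ▸ hx', BG7.conj_mem_cj (h.K_le' hx)⟩
    rw [h1, Subgroup.mem_bot, conj_eq_one_iff] at h2
    exact hx1 h2
  rw [← h.inter hG h1430]
  exact ⟨hgM, hgMs⟩

theorem Zhat_norm (h : PPair M Ms K Ks) :
    ∀ g ∈ K ⊔ Ks, ∀ t ∈ Zhat K Ks, g * t * g⁻¹ ∈ Zhat K Ks := by
  intro g hg t ht
  have hZK : K ⊔ Ks ≤ Subgroup.normalizer (K : Set G) :=
    sup_le Subgroup.le_normalizer (h.Ks_le_cent.trans (Subgroup.centralizer_le_normalizer _))
  have hZKs : K ⊔ Ks ≤ Subgroup.normalizer (Ks : Set G) :=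
    sup_le (h.K_le_cent.trans (Subgroup.centralizer_le_normalizer _)) Subgroup.le_normalizer
  refine ⟨(K ⊔ Ks).mul_mem ((K ⊔ Ks).mul_mem hg ht.1) ((K ⊔ Ks).inv_mem hg), ?_⟩
  intro hmem
  rcases hmem with hmem | hmem
  · exact ht.2 (Or.inl ((Subgroup.mem_normalizer_iff.mp (hZK hg) t).mpr hmem))
  · exact ht.2 (Or.inr ((Subgroup.mem_normalizer_iff.mp (hZKs hg) t).mpr hmem))

/-- the conjugates of `Ẑ` -/
def Aset (K Ks : Subgroup G) : Set G := {a : G | ∃ g : G, ∃ t ∈ Zhat K Ks, a = g * t * g⁻¹}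

theorem ncard_Aset (hG : IsMinSimpleOddOrder G) (h1430 : Row1430 G) (h1431 : Row1431 G)
    (h : PPair M Ms K Ks) :
    (Aset K Ks).ncard * Nat.card ↥(K ⊔ Ks) = (Zhat K Ks).ncard * Nat.card G :=
  ti_count (Zhat K Ks) (K ⊔ Ks) (h.Zhat_ti hG h1430 h1431) h.Zhat_norm

/-- `M*_σ` is a TI-subgroup when `σ(M*) ⊆ β(M*)` -/
theorem sigma_ti (hG : IsMinSimpleOddOrder G) (h1430 : Row1430 G) (h : PPair M Ms K Ks)
    (hP1s : ∀ q : ℕ, q.Prime → q ∣ Nat.card Ms → q ∈ sigma Ms ∨ q ∈ kappa Ms)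
    (hβ : ∀ r : ℕ, r ∈ sigma Ms → r ∈ beta Ms) {g : G} (hg : g ∉ Ms) :
    sigmaCore Ms ⊓ BG7.cj g Ms = ⊥ := by
  by_contra hne
  obtain ⟨p, hp, hpd⟩ := exists_prime_card _ hne
  have hE := (h.symm hG h1430).K_compl hG hP1s
  have h3 := ((BGH.row1426 hG Ms h.hMs Ks hE).2.2 g hg).2.1 p hp hpd
  obtain ⟨hHall, -, -⟩ := BGA.s1350 hG Ms h.hMs
  exact h3 (hβ p (hHall.2.1 p hp (hpd.trans (Subgroup.card_dvd_of_le inf_le_left))))

/-- the conjugates of `(M*_σ)#` -/
def Bset (Ms : Subgroup G) : Set G :=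
  {a : G | ∃ g : G, ∃ t ∈ ((↑(sigmaCore Ms) : Set G) \ {1}), a = g * t * g⁻¹}

theorem ncard_Bset (hG : IsMinSimpleOddOrder G) (h1430 : Row1430 G) (h : PPair M Ms K Ks)
    (hP1s : ∀ q : ℕ, q.Prime → q ∣ Nat.card Ms → q ∈ sigma Ms ∨ q ∈ kappa Ms)
    (hβ : ∀ r : ℕ, r ∈ sigma Ms → r ∈ beta Ms) :
    (Bset Ms).ncard * Nat.card Ms =
      ((↑(sigmaCore Ms) : Set G) \ {1}).ncard * Nat.card G := by
  apply ti_count
  · intro g t ht hgt
    by_contra hg
    have hg' : g⁻¹ ∉ Ms := fun h' => hg (by simpa using Ms.inv_mem h')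
    have h1 := h.sigma_ti hG h1430 hP1s hβ hg'
    have h2 : t ∈ sigmaCore Ms ⊓ BG7.cj g⁻¹ Ms :=
      Subgroup.mem_inf.mpr ⟨ht.1, BG7.mem_cj.mpr (by
        rw [inv_inv]
        exact BG12.sigmaCore_le Ms hgt.1)⟩
    rw [h1, Subgroup.mem_bot] at h2
    exact ht.2 (Set.mem_singleton_iff.mpr h2)
  · intro g hg t ht
    refine ⟨(Subgroup.mem_normalizer_iff.mp (BG12.le_normalizer_sigmaCore Ms hg) t).mp ht.1, ?_⟩
    intro h1
    rw [Set.mem_singleton_iff, conj_eq_one_iff] at h1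
    exact ht.2 (Set.mem_singleton_iff.mpr h1)

/-- the counting contradiction for a pair of maximal subgroups of type `𝒫₁`, one of which has
`σ(M*) ⊆ β(M*)` -/
theorem lemmaP (hG : IsMinSimpleOddOrder G) (h1430 : Row1430 G) (h1431 : Row1431 G)
    (h : PPair M Ms K Ks)
    (hP1 : ∀ q : ℕ, q.Prime → q ∣ Nat.card M → q ∈ sigma M ∨ q ∈ kappa M)
    (hP1s : ∀ q : ℕ, q.Prime → q ∣ Nat.card Ms → q ∈ sigma Ms ∨ q ∈ kappa Ms)
    (hβ : ∀ r : ℕ, r ∈ sigma Ms → r ∈ beta Ms) : False := by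
  classical
  have hM := h.hM
  have hs := h.symm hG h1430
  obtain ⟨hHallM, -, -⟩ := BGA.s1350 hG M hM
  obtain ⟨hHallMs, -, -⟩ := BGA.s1350 hG Ms h.hMs
  have hcopKKs := h.coprime_K_Ks hG
  -- claim A
  have hA : ∀ x ∈ sigmaCore M, x ≠ 1 → ∃ R : Subgroup G, (∀ r ∈ R, Commute x r) ∧
      (Nat.card (sigmaCore M)).Coprime (Nat.card R) ∧ Nat.card R = nconj M x :=
    fun x hx hx1 => claimA hG hM
      (fun q _ X N => h.no_d hG h1430 h1431 hP1 hP1s hβ q X N) hx hx1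
  have hcop : ∀ x : G, x ≠ 1 → (∃ a : G, x ∈ BG7.cj a (sigmaCore M)) →
      (Nat.card (sigmaCore M)).Coprime (nconj M x) := by
    rintro x hx1 ⟨a, hxa⟩
    have hx0 := BG7.mem_cj.mp hxa
    have hx01 : a⁻¹ * x * a ≠ 1 := by
      intro h1
      apply hx1
      have e : x = a * (a⁻¹ * x * a) * a⁻¹ := by group
      rw [e, h1]; group
    obtain ⟨R, -, hRc, hRn⟩ := hA _ hx0 hx01
    have e : x = a * (a⁻¹ * x * a) * a⁻¹ := by group
    rw [e, nconj_conj, ← hRn]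
    exact hRc
  have hSc := s_count M (sigmaCore M) (BG12.sigmaCore_le M) hA
  have hnL := index_le_ncard_conj M (normalizer_coatom_le hG hM)
  -- disjointness
  have hAB : Disjoint (Aset K Ks) (Bset Ms) := by
    rw [Set.disjoint_left]
    rintro a ⟨g, t, ht, rfl⟩ ⟨g', t', ht', heq⟩
    have h1 : (g * t * g⁻¹) ^ Nat.card (sigmaCore Ms) = 1 := by
      rw [heq, conj_pow, pow_card_of_mem ht'.1, mul_one, mul_inv_cancel]
    rw [conj_pow, conj_eq_one_iff] at h1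
    obtain ⟨x, hx, y, hy, hxy, -, -⟩ := exists_components h.comm hcopKKs ht.1
    have hc : Commute x y := h.comm x hx y hy
    rw [hxy, hc.mul_pow, pow_card_of_mem (h.K_le_sigma hx), one_mul] at h1
    have hy1 : y = 1 :=
      eq_one_of_pow_coprime h1 (pow_card_of_mem hy) (hs.coprime_K_sigma hG).symm
    apply ht.2
    left
    rw [hxy, hy1, mul_one]
    exact hx
  have hAS : Disjoint (Aset K Ks) (Sset M (sigmaCore M)) := by
    rw [Set.disjoint_left]
    rintro a ⟨g, t, ht, rfl⟩ hS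
    obtain ⟨x, hx1, ⟨b, hxb⟩, hxz, hxn⟩ := sset_elim hcop hS
    obtain ⟨x', hx'⟩ : ∃ x' : G, x' = g⁻¹ * x * (g⁻¹)⁻¹ := ⟨_, rfl⟩
    have hx'Z : x' ∈ K ⊔ Ks := by
      have h1 : g * t * g⁻¹ ∈ BG7.cj g (K ⊔ Ks) := BG7.conj_mem_cj ht.1
      have h2 : x ∈ BG7.cj g (K ⊔ Ks) := (Subgroup.zpowers_le.mpr h1) hxz
      have h3 : x' ∈ BG7.cj g⁻¹ (BG7.cj g (K ⊔ Ks)) := by
        rw [hx']; exact BG7.conj_mem_cj h2
      rwa [BG7.cj_inv_cj] at h3
    have hx'1 : x' ≠ 1 := by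
      intro h1
      rw [hx', conj_eq_one_iff] at h1
      exact hx1 h1
    have hx'm : x' ^ Nat.card (sigmaCore M) = 1 := by
      have h3 : x' ∈ BG7.cj g⁻¹ (BG7.cj b (sigmaCore M)) := by
        rw [hx']; exact BG7.conj_mem_cj hxb
      have := pow_card_of_mem h3
      rwa [BG7.card_cj, BG7.card_cj] at this
    obtain ⟨x1, hx1K, y1, hy1Ks, hxy, -, -⟩ := exists_components h.comm hcopKKs hx'Z
    have hc : Commute x1 y1 := h.comm x1 hx1K y1 hy1Ks
    rw [hxy, hc.mul_pow, pow_card_of_mem (h.Ks_le_sigma hy1Ks), mul_one] at hx'm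
    have hx11 : x1 = 1 :=
      eq_one_of_pow_coprime hx'm (pow_card_of_mem hx1K) (h.coprime_K_sigma hG).symm
    have hx'Ks : x' ∈ Ks := by rw [hxy, hx11, one_mul]; exact hy1Ks
    have hconjs : conjs M x' = {M} := by
      ext L
      constructor
      · rintro ⟨⟨b', rfl⟩, hxL⟩
        have hb' : b' ∈ M := by
          by_contra hb'
          have h1 := h.Ks_ti hG h1431 hb'
          have h2 : x' ∈ Ks ⊓ BG7.cj b' M := ⟨hx'Ks, hxL⟩
          rw [h1, Subgroup.mem_bot] at h2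
          exact hx'1 h2
        exact Set.mem_singleton_iff.mpr (BGH.cj_self_of_mem hb')
      · intro hL
        rw [Set.mem_singleton_iff.mp hL]
        exact ⟨⟨1, (BG7.cj_one M).symm⟩, h.Ks_le hx'Ks⟩
    have hn1 : nconj M x = 1 := by
      have h1 : nconj M x' = 1 := by
        unfold nconj
        rw [hconjs, Set.ncard_singleton]
      rw [hx', nconj_conj] at h1
      exact h1
    have hax := hxn hn1
    have hxt : x' = t := by
      rw [hx', ← hax]; group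
    apply ht.2
    right
    rw [← hxt]
    exact hx'Ks
  have hBS : Disjoint (Bset Ms) (Sset M (sigmaCore M)) := by
    rw [Set.disjoint_left]
    rintro a ⟨g', t', ht', rfl⟩ hS
    obtain ⟨x, hx1, ⟨b, hxb⟩, hxz, hxn⟩ := sset_elim hcop hS
    have h1 : g' * t' * g'⁻¹ ∈ BG7.cj g' (sigmaCore Ms) := BG7.conj_mem_cj ht'.1
    have h2 : x ∈ BG7.cj g' (sigmaCore Ms) := (Subgroup.zpowers_le.mpr h1) hxz
    have hord : orderOf x ≠ 1 := fun h' => hx1 (orderOf_eq_one_iff.mp h')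
    obtain ⟨p, hp, hpx⟩ := Nat.exists_prime_and_dvd hord
    have hpMs : p ∈ sigma Ms := by
      apply hHallMs.2.1 p hp
      have := pow_card_of_mem h2
      rw [BG7.card_cj] at this
      exact hpx.trans (orderOf_dvd_of_pow_eq_one this)
    have hpM : p ∈ sigma M := by
      apply hHallM.2.1 p hp
      have := pow_card_of_mem hxb
      rw [BG7.card_cj] at this
      exact hpx.trans (orderOf_dvd_of_pow_eq_one this)
    exact h.sigma_disj hG hβ hpM hpMs
  have h1A : (1 : G) ∉ Aset K Ks := by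
    rintro ⟨g, t, ht, heq⟩
    have : t = 1 := by
      have := heq.symm
      rwa [conj_eq_one_iff] at this
    apply ht.2
    left
    rw [this]
    exact K.one_mem
  have h1B : (1 : G) ∉ Bset Ms := by
    rintro ⟨g, t, ht, heq⟩
    have : t = 1 := by
      have := heq.symm
      rwa [conj_eq_one_iff] at this
    exact ht.2 (Set.mem_singleton_iff.mpr this)
  have h1S : (1 : G) ∉ Sset M (sigmaCore M) := by
    intro hS
    obtain ⟨x, hx1, -, hxz, -⟩ := sset_elim hcop hS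
    rw [Subgroup.zpowers_one_eq_bot, Subgroup.mem_bot] at hxz
    exact hx1 hxz
  -- the union
  have hU1 : (1 : G) ∉ (Aset K Ks ∪ Bset Ms) ∪ Sset M (sigmaCore M) := by
    rintro ((h' | h') | h')
    · exact h1A h'
    · exact h1B h'
    · exact h1S h'
  have hU : (insert (1 : G) ((Aset K Ks ∪ Bset Ms) ∪ Sset M (sigmaCore M))).ncard =
      (Aset K Ks).ncard + (Bset Ms).ncard + (Sset M (sigmaCore M)).ncard + 1 := by
    rw [Set.ncard_insert_of_notMem hU1 (Set.toFinite _),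
      Set.ncard_union_eq (Set.disjoint_union_left.mpr ⟨hAS, hBS⟩) (Set.toFinite _)
        (Set.toFinite _),
      Set.ncard_union_eq hAB (Set.toFinite _) (Set.toFinite _)]
  have hUle := Set.ncard_le_card (insert (1 : G) ((Aset K Ks ∪ Bset Ms) ∪ Sset M (sigmaCore M)))
  rw [hU] at hUle
  -- the arithmetic
  have hcA := h.ncard_Aset hG h1430 h1431
  rw [h.card_Z hG] at hcA
  have hcB := h.ncard_Bset hG h1430 hP1s hβ
  rw [hs.card_M hG hP1s] at hcB
  have hT : ((↑(sigmaCore Ms) : Set G) \ {1}).ncard + 1 = Nat.card (sigmaCore Ms) := by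
    rw [Set.ncard_sdiff_singleton_add_one (Subgroup.one_mem _) (Set.toFinite _),
      ncard_coe_subgroup]
  have hW : (K ⊔ Ks).index * (Nat.card K * Nat.card Ks) = Nat.card G := by
    rw [← h.card_Z hG]; exact Subgroup.index_mul_card _
  have hI : M.index * (Nat.card (sigmaCore M) * Nat.card K) = Nat.card G := by
    rw [← h.card_M hG hP1]; exact Subgroup.index_mul_card _
  have hJ : Ms.index * (Nat.card (sigmaCore Ms) * Nat.card Ks) = Nat.card G := by
    rw [← hs.card_M hG hP1s]; exact Subgroup.index_mul_card _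
  have hfin := lemmaP_arith (k := Nat.card K) (ks := Nat.card Ks) (m := Nat.card (sigmaCore M))
    (ms := Nat.card (sigmaCore Ms)) Nat.card_pos Nat.card_pos Nat.card_pos Nat.card_pos
    hW hI hJ hcA (h.ncard_Zhat hG) hcB hT hSc hnL (h.two_mul_le hG h1430 h1431)
    (hs.two_mul_le hG h1430 h1431)
  omega

end PPair

end Cfsg.Agent.Lib.Lead.BGN
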