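import Mathlib
import Cfsg.Agent.Lib.Lead.BGN6
import Cfsg.Agent.Lib.Lead.NilpotentCoprime
import Cfsg.Agent.Lib.Helper1.BGF3
import Cfsg.Agent.Lib.Helper7.BGB1
import Cfsg.Agent.S1414

/-!
# Hall `κ(M)`-subgroups are abelian (B&G Theorem 14.7 setting)
-/

set_option autoImplicit false
set_option linter.unusedSectionVars false
set_option linter.unusedVariables false

universe u

namespace Cfsg.Agent.Lib.Lead.BGN

open Cfsg Cfsg.Agent.Lib.Helper1 Cfsg.Agent.Lib.Helper2 Cfsg.Agent.Lib.Helper3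
  Cfsg.Agent.Lib.Helper7 Cfsg.Agent.Lib.Helper7.BGRows

/-- a finite nilpotent group with cyclic Sylow subgroups is commutative -/
theorem comm_of_nilpotent_cyclic_sylow {N : Type*} [Group N] [Finite N]
    [hN : Group.IsNilpotent N]
    (hcyc : ∀ (p : ℕ) [Fact p.Prime] (P : Sylow p N), IsCyclic ↥(P : Subgroup N)) :
    ∀ x y : N, x * y = y * x := by
  obtain ⟨e⟩ := ((Group.isNilpotent_of_finite_tfae (G := N)).out 0 4).mp hN
  intro x y
  have hx := e.apply_symm_apply x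
  have hy := e.apply_symm_apply y
  have hcomm : e.symm x * e.symm y = e.symm y * e.symm x := by
    funext p P
    haveI : Fact (p : ℕ).Prime := ⟨Nat.prime_of_mem_primeFactors p.2⟩
    haveI := hcyc p P
    haveI : IsMulCommutative ↥(P : Subgroup N) := IsCyclic.isMulCommutative
    simp only [Pi.mul_apply]
    exact mul_comm' _ _
  calc x * y = e (e.symm x) * e (e.symm y) := by rw [hx, hy]
    _ = e (e.symm x * e.symm y) := (map_mul e _ _).symm
    _ = e (e.symm y * e.symm x) := by rw [hcomm]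
    _ = y * x := by rw [map_mul, hx, hy]

variable {G : Type u} [Group G] [Finite G]

namespace PPair

variable {M Ms K Ks : Subgroup G}

/-- the Sylow subgroups of a Hall `κ(M)`-subgroup are cyclic -/
theorem sylow_cyclic {M K : Subgroup G} (hK : IsPiHallOf (kappa M) K M) (p : ℕ)
    [hp : Fact p.Prime] (P : Sylow p ↥K) : IsCyclic ↥(P : Subgroup ↥K) := by
  by_cases hpK : p ∣ Nat.card K
  · have hκ := hK.2.1 p hp.out hpK
    obtain ⟨Q, hQ⟩ : ∃ Q : Subgroup G, Q = (P : Subgroup ↥K).map K.subtype := ⟨_, rfl⟩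
    have hQM : Q ≤ M := by rw [hQ]; exact (Subgroup.map_subtype_le _).trans hK.1
    have hQp : IsPGroup p Q := by rw [hQ]; exact P.isPGroup'.map _
    obtain ⟨S, hQS⟩ := BGD.exists_sylow_ge hQp hQM
    haveI : IsCyclic ↥(S : Subgroup ↥M) := (hκ.2.2.2 S).1
    haveI : IsCyclic ↥((S : Subgroup ↥M).map M.subtype) :=
      isCyclic_of_surjective
        (Subgroup.equivMapOfInjective (S : Subgroup ↥M) M.subtype M.subtype_injective)
        (Subgroup.equivMapOfInjective (S : Subgroup ↥M) M.subtype M.subtype_injective).surjective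
    haveI : IsCyclic ↥Q := Subgroup.isCyclic_of_le hQS
    have e := Subgroup.equivMapOfInjective (P : Subgroup ↥K) K.subtype K.subtype_injective
    rw [← hQ] at e
    exact isCyclic_of_injective e.toMonoidHom e.injective
  · obtain ⟨n, hn⟩ := IsPGroup.iff_card.mp P.isPGroup'
    have hn0 : n = 0 := by
      by_contra hn0
      apply hpK
      have h1 : p ∣ Nat.card ↥(P : Subgroup ↥K) := by
        rw [hn]; exact dvd_pow_self p hn0
      exact h1.trans (Subgroup.card_subgroup_dvd_card _)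
    rw [hn0, pow_zero] at hn
    haveI : Subsingleton ↥(P : Subgroup ↥K) := (Nat.card_eq_one_iff_unique.mp hn).1
    exact isCyclic_of_subsingleton

/-- `M` is of type `𝒫₁` if `K' ≠ 1` -/
theorem isP1_of_comm_ne (hG : IsMinSimpleOddOrder G) (h1430 : Row1430 G)
    (h : PPair M Ms K Ks) {a : G} (haK' : a ∈ ⁅K, K⁆) (ha1 : a ≠ 1) :
    ∀ q : ℕ, q.Prime → q ∣ Nat.card M → q ∈ sigma M ∨ q ∈ kappa M := by
  classical
  have hM := h.hM
  have haK : a ∈ K := Subgroup.commutator_le_self K haK'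
  obtain ⟨-, ⟨U, hUc, hUH, hKU, hfpf⟩, -⟩ := h1430 hG M hM K h.hK h.hK1
  have hcopUK : (Nat.card U).Coprime (Nat.card K) := by
    by_contra hc
    obtain ⟨r, hr, hr1, hr2⟩ := Nat.Prime.not_coprime_iff_dvd.mp hc
    exact (hUH.2.1 r hr hr1).2.1 (h.hK.2.1 r hr hr2)
  have hcard : Nat.card ↥(U ⊔ K) = Nat.card U * Nat.card K :=
    BGF.card_sup_eq_mul hKU (Subgroup.disjoint_of_coprime_natCard hcopUK)
  have hprimes : ∀ r : ℕ, r.Prime → r ∣ Nat.card ↥(U ⊔ K) → r ∉ sigma M := by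
    intro r hr hrd
    rw [hcard] at hrd
    rcases (Nat.Prime.dvd_mul hr).mp hrd with hd | hd
    · exact (hUH.2.1 r hr hd).2.2
    · exact kappa_not_sigma (h.hK.2.1 r hr hd)
  obtain ⟨E, hE, hUKE⟩ := BGM.exists_compl_ge hG hM (sup_le hUH.1 h.K_le) hprimes
  have hUE : U ≤ E := le_sup_left.trans hUKE
  have hKE : K ≤ E := le_sup_right.trans hUKE
  have hnil := (BGB.s1415 hG M hM E hE).1
  have haE' : a ∈ ⁅E, E⁆ := Subgroup.commutator_mono hKE hKE haK'
  have haN : a ∈ Subgroup.normalizer (U : Set G) := hKU haK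
  have hfa := hfpf a haK ha1
  -- `u ↦ [a, u]` is a bijection of `U`
  let f : ↥U → ↥U := fun u => ⟨a * u * a⁻¹ * (u : G)⁻¹,
    U.mul_mem ((Subgroup.mem_normalizer_iff.mp haN u).mp u.2) (U.inv_mem u.2)⟩
  have hinj : Function.Injective f := by
    intro u v huv
    have h1 : a * (u : G) * a⁻¹ * (u : G)⁻¹ = a * (v : G) * a⁻¹ * (v : G)⁻¹ :=
      congrArg Subtype.val huv
    have hw : a * ((v : G)⁻¹ * u) * a⁻¹ = (v : G)⁻¹ * u := by
      have e1 : a * ((v : G)⁻¹ * u) * a⁻¹ =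
          (a * v * a⁻¹)⁻¹ * (a * u * a⁻¹ * (u : G)⁻¹) * u := by group
      rw [e1, h1]; group
    have hwU : (v : G)⁻¹ * u ∈ U ⊓ Subgroup.centralizer ({a} : Set G) := by
      refine Subgroup.mem_inf.mpr ⟨U.mul_mem (U.inv_mem v.2) u.2, ?_⟩
      rw [Subgroup.mem_centralizer_iff]
      intro z hz
      rw [Set.mem_singleton_iff.mp hz]
      calc a * ((v : G)⁻¹ * u) = (a * ((v : G)⁻¹ * u) * a⁻¹) * a := by group
        _ = ((v : G)⁻¹ * u) * a := by rw [hw]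
    rw [hfa, Subgroup.mem_bot] at hwU
    exact Subtype.ext (inv_mul_eq_one.mp hwU).symm
  have hsurj := Finite.injective_iff_surjective.mp hinj
  have hUE' : U ≤ ⁅E, E⁆ := by
    intro u hu
    obtain ⟨u', hu'⟩ := hsurj ⟨u, hu⟩
    have h1 : a * (u' : G) * a⁻¹ * (u' : G)⁻¹ = u := congrArg Subtype.val hu'
    rw [← h1, ← commutatorElement_def]
    exact Subgroup.commutator_mem_commutator (hKE haK) (hUE u'.2)
  have hU : U = ⊥ := by
    rw [Subgroup.eq_bot_iff_forall]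
    intro u hu
    have hcop : (orderOf u).Coprime (orderOf a) :=
      Nat.Coprime.coprime_dvd_left (Subgroup.orderOf_dvd_natCard U hu)
        (Nat.Coprime.coprime_dvd_right (Subgroup.orderOf_dvd_natCard K haK) hcopUK)
    have h1 := NilpotentCoprime.commute_of_coprime_of_mem ⁅E, E⁆ hnil (hUE' hu) haE' hcop
    have h2 : u ∈ U ⊓ Subgroup.centralizer ({a} : Set G) := by
      refine Subgroup.mem_inf.mpr ⟨hu, ?_⟩
      rw [Subgroup.mem_centralizer_iff]
      intro z hz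
      rw [Set.mem_singleton_iff.mp hz]
      exact h1.symm
    rw [hfa, Subgroup.mem_bot] at h2
    exact h2
  intro q hq hqM
  by_contra hn
  rw [not_or] at hn
  have h3 := hUH.2.2 q hq ⟨hq, hn.2, hn.1⟩
  rw [hU, Subgroup.relIndex_bot_left] at h3
  exact h3 hqM

/-- `M*` is of type `𝒫₁` if `K` is not abelian -/
theorem isP1s_of_not_comm (hG : IsMinSimpleOddOrder G) (h : PPair M Ms K Ks) {x y : G}
    (hx : x ∈ K) (hy : y ∈ K) (hxy : x * y ≠ y * x) :
    ∀ q : ℕ, q.Prime → q ∣ Nat.card Ms → q ∈ sigma Ms ∨ q ∈ kappa Ms := by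
  intro q hq hqMs
  by_contra hn
  haveI : Fact q.Prime := ⟨hq⟩
  have hqσκ : q ∉ sigma Ms ∪ kappa Ms := fun hu => hn hu
  obtain ⟨-, -, hnilσ⟩ := BGG.s1429 hG Ms h.hMs q hqMs hqσκ (default : Sylow q ↥Ms)
  haveI := hnilσ
  haveI h1 : Group.IsNilpotent ↥(K.subgroupOf (sigmaCore Ms)) := Subgroup.isNilpotent _
  haveI hKnil : Group.IsNilpotent ↥K :=
    Group.nilpotent_of_mulEquiv (Subgroup.subgroupOfEquivOfLe h.K_le_sigma)
  have h2 := comm_of_nilpotent_cyclic_sylow (N := ↥K) (fun p _ P => sylow_cyclic h.hK p P)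
    ⟨x, hx⟩ ⟨y, hy⟩
  exact hxy (congrArg Subtype.val h2)

/-- `σ(M) ⊆ β(M)` if `K' ≠ 1` -/
theorem beta_of_comm_ne (hG : IsMinSimpleOddOrder G) (h1430 : Row1430 G) (h1431 : Row1431 G)
    (h : PPair M Ms K Ks) {a : G} (haK' : a ∈ ⁅K, K⁆) (ha1 : a ≠ 1) :
    ∀ r : ℕ, r ∈ sigma M → r ∈ beta M := by
  classical
  intro r hrσ
  by_contra hrβ
  have hM := h.hM
  have hr : r.Prime := hrσ.1
  haveI : Fact r.Prime := ⟨hr⟩
  have haK : a ∈ K := Subgroup.commutator_le_self K haK'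
  obtain ⟨-, -, ⟨H0, hH0, hH0nil⟩, -, -⟩ := Cfsg.Agent.S1414.result hG M hM
  have hM'M : ⁅M, M⁆ ≤ M := BGB.comm_le_self M
  have hM'solv : Group.IsSolvable ↥⁅M, M⁆ :=
    BG7.isSolvable_of_ne_top hG (ne_top_of_le_ne_top hM.1 hM'M)
  have hK'M' : ⁅K, K⁆ ≤ ⁅M, M⁆ := Subgroup.commutator_mono h.K_le h.K_le
  have hβσ : ∀ q : ℕ, q ∈ beta M → q ∈ sigma M := fun q hq => BT.alpha_subset_sigma hG hM hq.1
  have hK'π : ∀ q : ℕ, q.Prime → q ∣ Nat.card ↥⁅K, K⁆ → q ∈ {q : ℕ | q.Prime ∧ q ∉ beta M} :=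
    fun q hq hd => ⟨hq, fun hb => kappa_not_sigma
      (h.hK.2.1 q hq (hd.trans (Subgroup.card_dvd_of_le (Subgroup.commutator_le_self K))))
      (hβσ q hb)⟩
  obtain ⟨m, hmM', hK'm⟩ := BGK.exists_cj_le_of_hall hM'solv hH0 hK'M' hK'π
  have hH1 : IsPiHallOf {q : ℕ | q.Prime ∧ q ∉ beta M} (BG7.cj m H0) ⁅M, M⁆ :=
    BGK.isPiHallOf_cj hH0 hmM'
  have hHnil1 : Group.IsNilpotent ↥(BG7.cj m H0) := by
    haveI := hH0nil
    exact Group.nilpotent_of_mulEquiv
      (Subgroup.equivMapOfInjective H0 (MulAut.conj m).toMonoidHom (MulAut.conj m).injective)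
  obtain ⟨H, hHdef⟩ : ∃ H : Subgroup G, H = BG7.cj m H0 := ⟨_, rfl⟩
  rw [← hHdef] at hK'm hH1 hHnil1
  -- a Sylow `r`-subgroup of `M` inside `H`
  obtain ⟨S1, hS1, -⟩ := BT.exists_isMaxP_ge (p := r) (Y := ⊥) (H := M) IsPGroup.of_bot bot_le
  obtain ⟨hS1M', -, -⟩ := BT.sigma_sylow_le_commutator hG hM hrσ hS1
  have hS1π : ∀ q : ℕ, q.Prime → q ∣ Nat.card S1 → q ∈ {q : ℕ | q.Prime ∧ q ∉ beta M} := by
    intro q hq hd
    obtain ⟨n, hn⟩ := IsPGroup.iff_card.mp hS1.2.1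
    rw [hn] at hd
    have hqr : q = r := (Nat.prime_dvd_prime_iff_eq hq hr).mp (hq.dvd_of_dvd_pow hd)
    rw [hqr]
    exact ⟨hr, hrβ⟩
  obtain ⟨m', hm'M', hS1m'⟩ := BGK.exists_cj_le_of_hall hM'solv hH1 hS1M' hS1π
  obtain ⟨S2, hS2def⟩ : ∃ S2 : Subgroup G, S2 = BG7.cj m'⁻¹ S1 := ⟨_, rfl⟩
  have hS2H : S2 ≤ H := by
    rw [hS2def]
    have h2 := BG7.cj_mono (k := m'⁻¹) hS1m'
    rwa [BG7.cj_inv_cj] at h2
  have hS2 : BG8.IsMaxP r S2 M := by
    rw [hS2def]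
    exact BT.isMaxP_cj_of_mem hS1 (M.inv_mem (hM'M hm'M'))
  have hS2σ : S2 ≤ sigmaCore M := BGE.qsub_le_sigmaCore hG hM hrσ hS2.2.1 hS2.1
  have hS2Ks : S2 ≤ sigmaCore M ⊓ Subgroup.centralizer (K : Set G) := by
    rw [← (h1430 hG M hM K h.hK h.hK1).1 a haK ha1]
    refine le_inf hS2σ ?_
    intro s hs
    rw [Subgroup.mem_centralizer_iff]
    intro z hz
    rw [Set.mem_singleton_iff.mp hz]
    have hcop : (orderOf s).Coprime (orderOf a) :=
      Nat.Coprime.coprime_dvd_left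
        ((Subgroup.orderOf_dvd_natCard S2 hs).trans (Subgroup.card_dvd_of_le hS2σ))
        (Nat.Coprime.coprime_dvd_right (Subgroup.orderOf_dvd_natCard K haK)
          (h.coprime_K_sigma hG).symm)
    exact (NilpotentCoprime.commute_of_coprime_of_mem H hHnil1 (hS2H hs) (hK'm haK') hcop).symm
  have hS2σmax : BG8.IsMaxP r S2 (sigmaCore M) := hS2.mono hS2σ (BG12.sigmaCore_le M)
  obtain ⟨R, hR⟩ := hS2σmax.exists_sylow
  have hS2ne : S2 ≠ ⊥ := by
    obtain ⟨R', hR'⟩ := hS2.exists_sylow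
    intro hb
    rw [hb] at hR'
    exact Sylow.ne_bot_of_dvd_card R' hrσ.2.1
      ((Subgroup.map_eq_bot_iff_of_injective _ M.subtype_injective).mp hR')
  have hrKs : r ∣ Nat.card ↥(sigmaCore M ⊓ Subgroup.centralizer (K : Set G)) :=
    (BG8.dvd_card_of_isPGroup_ne_bot hS2.2.1 hS2ne).trans (Subgroup.card_dvd_of_le hS2Ks)
  have h3 := (h1431 hG M hM K h.hK h.hK1).2.2.1 r hr hrKs R
  apply h3.2.2
  rw [hR]
  exact hS2Ks

/-- **Theorem Q**: in the setting of B&G Theorem 14.7, `K` is abelian -/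
theorem K_comm (hG : IsMinSimpleOddOrder G) (h1430 : Row1430 G) (h1431 : Row1431 G)
    (h : PPair M Ms K Ks) : ∀ x ∈ K, ∀ y ∈ K, x * y = y * x := by
  by_contra hnc
  push Not at hnc
  obtain ⟨x, hx, y, hy, hxy⟩ := hnc
  have haK' : x * y * x⁻¹ * y⁻¹ ∈ ⁅K, K⁆ := by
    rw [← commutatorElement_def]
    exact Subgroup.commutator_mem_commutator hx hy
  have ha1 : x * y * x⁻¹ * y⁻¹ ≠ 1 := by
    intro h1
    apply hxy
    calc x * y = (x * y * x⁻¹ * y⁻¹) * (y * x) := by group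
      _ = y * x := by rw [h1, one_mul]
  have hP1 := h.isP1_of_comm_ne hG h1430 haK' ha1
  have hP1s := h.isP1s_of_not_comm hG hx hy hxy
  have hβ := h.beta_of_comm_ne hG h1430 h1431 haK' ha1
  exact (h.symm hG h1430).lemmaP hG h1430 h1431 hP1s hP1 hβ

theorem Ks_comm (hG : IsMinSimpleOddOrder G) (h1430 : Row1430 G) (h1431 : Row1431 G)
    (h : PPair M Ms K Ks) : ∀ x ∈ Ks, ∀ y ∈ Ks, x * y = y * x :=
  (h.symm hG h1430).K_comm hG h1430 h1431

theorem K_isMulCommutative (hG : IsMinSimpleOddOrder G) (h1430 : Row1430 G) (h1431 : Row1431 G)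
    (h : PPair M Ms K Ks) : IsMulCommutative K :=
  ⟨⟨fun a b => Subtype.ext (h.K_comm hG h1430 h1431 a a.2 b b.2)⟩⟩

theorem Ks_isMulCommutative (hG : IsMinSimpleOddOrder G) (h1430 : Row1430 G) (h1431 : Row1431 G)
    (h : PPair M Ms K Ks) : IsMulCommutative Ks :=
  (h.symm hG h1430).K_isMulCommutative hG h1430 h1431

end PPair

end Cfsg.Agent.Lib.Lead.BGN
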