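import Mathlib
import Cfsg.Prelude.Def_Transfer
import Cfsg.Prelude.Def_TwoFusion
import Cfsg.Agent.Lib.Lead.CjMore

set_option autoImplicit false

namespace Cfsg.Agent.Lib.Lead
namespace Closed

open BaerSuzuki
open scoped Pointwise

variable {G : Type*} [Group G]

theorem mem_sylow_smul {p : ℕ} (P : Sylow p G) (g x : G) :
    x ∈ (g • P : Sylow p G) ↔ g⁻¹ * x * g ∈ P := by
  have : ((g • P : Sylow p G) : Subgroup G) = MulAut.conj g • (P : Subgroup G) := rfl
  change x ∈ ((g • P : Sylow p G) : Subgroup G) ↔ _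
  rw [this, Subgroup.mem_pointwise_smul_iff_inv_smul_mem]
  simp [MulAut.smul_def]
  rfl

theorem coe_sylow_smul {p : ℕ} (P : Sylow p G) (g : G) :
    ((g • P : Sylow p G) : Subgroup G) = cj (P : Subgroup G) g := by
  ext x
  rw [mem_cj]
  exact mem_sylow_smul P g x

variable [Finite G] {p : ℕ} [Fact p.Prime]

theorem sylow_eq_cj (T Q : Sylow p G) : ∃ k : G, (Q : Subgroup G) = cj (T : Subgroup G) k := by
  obtain ⟨k, hk⟩ := MulAction.exists_smul_eq G T Q
  exact ⟨k, by rw [← hk, coe_sylow_smul]⟩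

/-- a weakly closed subgroup of a Sylow subgroup is the only conjugate of itself in any
`p`-subgroup containing it -/
theorem weaklyClosed_of_pgroup (T : Sylow p G) (W : Subgroup G)
    (hW : Cfsg.IsWeaklyClosed W (T : Subgroup G)) (R : Subgroup G) (hR : IsPGroup p R)
    (hWR : W ≤ R) (u : G) (hu : cj W u ≤ R) : cj W u = W := by
  obtain ⟨Q, hQ⟩ := hR.exists_le_sylow
  obtain ⟨k, hk⟩ := sylow_eq_cj T Q
  have hQ' : R ≤ cj (T : Subgroup G) k := by rw [← hk]; exact hQ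
  have h1 : cj W k⁻¹ ≤ T := by
    rw [cj_le_iff_le_cj_inv, inv_inv]; exact hWR.trans hQ'
  have e1 : cj W k⁻¹ = W := hW.2 k⁻¹ h1
  have h2 : cj W (k⁻¹ * u) ≤ T := by
    rw [← cj_cj, cj_le_iff_le_cj_inv, inv_inv]; exact hu.trans hQ'
  have e2 : cj W (k⁻¹ * u) = W := hW.2 (k⁻¹ * u) h2
  have e3 : cj W k = W := by
    rw [cj_eq_iff]; exact e1.symm
  calc cj W u = cj (cj W (k⁻¹ * u)) k := by rw [cj_cj]; congr 1; group
    _ = W := by rw [e2, e3]

end Closed
end Cfsg.Agent.Lib.Lead
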