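import Mathlib
import Cfsg.Agent.S0219
import Cfsg.Agent.S0991
import Cfsg.Agent.Lib.Lead.StronglyEmbedded

set_option autoImplicit false

namespace Cfsg.Agent.Lib.Lead
namespace SmallSimple

variable {G : Type*} [Group G] [Finite G]

/-- a simple group of even order greater than 2 is not commutative -/
theorem not_comm_of_even [IsSimpleGroup G] (heven : Even (Nat.card G)) (hgt : 2 < Nat.card G) :
    ¬ IsMulCommutative G := by
  intro hc
  obtain ⟨z, -, hz⟩ := exists_invol_of_even (⊤ : Subgroup G) (by
    rw [Subgroup.card_top]; exact heven)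
  have hn : (Subgroup.zpowers z).Normal := by
    constructor
    intro x hx g
    have : g * x * g⁻¹ = x := by
      rw [hc.is_comm.comm g x]; group
    rw [this]; exact hx
  rcases hn.eq_bot_or_eq_top with h | h
  · have : z ∈ Subgroup.zpowers z := Subgroup.mem_zpowers z
    rw [h, Subgroup.mem_bot] at this
    rw [this, orderOf_one] at hz
    omega
  · have h2 : Nat.card (Subgroup.zpowers z) = 2 := by rw [Nat.card_zpowers, hz]
    rw [h, Subgroup.card_top] at h2
    omega

/-- a simple group of order greater than 2 has no subgroup of index 2 -/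
theorem no_index_two [IsSimpleGroup G] (hgt : 2 < Nat.card G) (H : Subgroup G) :
    H.index ≠ 2 := by
  intro h
  have hn : H.Normal := Subgroup.normal_of_index_eq_two h
  rcases hn.eq_bot_or_eq_top with h' | h'
  · rw [h', Subgroup.index_bot] at h
    omega
  · rw [h', Subgroup.index_top] at h
    omega

/-- the Sylow 2-subgroup of a group of order `2 * odd` has order 2 -/
theorem sylow_two_card_two (heven : Even (Nat.card G)) (h4 : ¬ 4 ∣ Nat.card G) (P : Sylow 2 G) :
    Nat.card (P : Subgroup G) = 2 := by
  haveI : Fact (Nat.Prime 2) := ⟨Nat.prime_two⟩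
  obtain ⟨k, hk⟩ := P.2.exists_card_eq
  have hdvd : 2 ^ k ∣ Nat.card G := by
    rw [← hk]; exact Subgroup.card_subgroup_dvd_card _
  have hk1 : k ≠ 0 := by
    rintro rfl
    rw [pow_zero] at hk
    have := P.dvd_card_of_dvd_card (even_iff_two_dvd.mp heven)
    rw [hk] at this
    omega
  have hk2 : k < 2 := by
    by_contra hk2
    push Not at hk2
    exact h4 ((pow_dvd_pow 2 hk2).trans hdvd)
  have : k = 1 := by omega
  rw [hk, this]; norm_num

/-- no simple group has order `2 * odd` other than 2 -/
theorem not_simple_two_odd [IsSimpleGroup G] (heven : Even (Nat.card G))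
    (h4 : ¬ 4 ∣ Nat.card G) (hgt : 2 < Nat.card G) : False := by
  haveI : Fact (Nat.Prime 2) := ⟨Nat.prime_two⟩
  obtain P : Sylow 2 G := default
  have hP2 := sylow_two_card_two heven h4 P
  have hcyc : IsCyclic (P : Subgroup G) := isCyclic_of_prime_card hP2
  obtain ⟨H, hH⟩ := Cfsg.Agent.S0219.index_two_of_cyclic_sylow heven P hcyc
  exact no_index_two hgt H hH

/-- In a simple group, a proper nontrivial subgroup is not normal; a Sylow subgroup that is
proper and nontrivial therefore is not unique. -/
theorem card_sylow_ne_one [IsSimpleGroup G] (p : ℕ) [Fact p.Prime] (hp : p ∣ Nat.card G)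
    (hnp : ¬ IsPGroup p G) : Nat.card (Sylow p G) ≠ 1 := by
  intro h1
  obtain P : Sylow p G := default
  haveI : Subsingleton (Sylow p G) := (Nat.card_eq_one_iff_unique.mp h1).1
  have hn : (P : Subgroup G).Normal := P.normal_of_subsingleton
  rcases hn.eq_bot_or_eq_top with h | h
  · exact P.ne_bot_of_dvd_card hp h
  · apply hnp
    have := P.2
    rw [h] at this
    exact IsPGroup.of_equiv this Subgroup.topEquiv

/-- a nontrivial `p`-group that is simple has trivial... in fact a simple `p`-group has a
nontrivial centre, so it is commutative. -/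
theorem comm_of_simple_pGroup [IsSimpleGroup G] (p : ℕ) [Fact p.Prime] (hG : IsPGroup p G) :
    IsMulCommutative G := by
  haveI : Nontrivial G := IsSimpleGroup.toNontrivial
  have hc : Nontrivial (Subgroup.center G) := hG.center_nontrivial
  rcases (inferInstance : (Subgroup.center G).Normal).eq_bot_or_eq_top with h | h
  · exfalso
    exact (Subgroup.nontrivial_iff_ne_bot _).mp hc h
  · constructor
    constructor
    intro a b
    have : a ∈ Subgroup.center G := by rw [h]; trivial
    exact ((Subgroup.mem_center_iff.mp this) b).symm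

end SmallSimple
end Cfsg.Agent.Lib.Lead
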