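import Mathlib
import Cfsg.Agent.Lib.Lead.SmallSimple
import Cfsg.Agent.Lib.Lead.SylowCount
import Cfsg.Agent.S0991

set_option autoImplicit false

namespace Cfsg.Agent.Lib.Lead.SmallSimple2

open Cfsg.Agent.Lib.Lead Cfsg.Agent.Lib.Lead.SmallSimple Cfsg.Agent.Lib.Lead.SylowCount

variable {G : Type*} [Group G] [Finite G]

/-- a simple `p`-group has prime order -/
theorem prime_card_of_pGroup [IsSimpleGroup G] (p : ℕ) [Fact p.Prime] (hG : IsPGroup p G) :
    (Nat.card G).Prime := by
  haveI := comm_of_simple_pGroup p hG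
  exact (Group.is_simple_iff_prime_card (α := G)).mp inferInstance

/-- a simple commutative group has prime order -/
theorem prime_card_of_comm [IsSimpleGroup G] (hc : IsMulCommutative G) :
    (Nat.card G).Prime := by
  exact (Group.is_simple_iff_prime_card (α := G)).mp inferInstance

/-- In a simple group, the Sylow subgroup for the smallest prime is not of prime order,
unless the group has prime order. -/
theorem sq_dvd_of_min [IsSimpleGroup G] {l : ℕ} (hl : l.Prime) (hdvd : l ∣ Nat.card G)
    (hmin : ∀ t : ℕ, t.Prime → t ∣ Nat.card G → l ≤ t) (hne : Nat.card G ≠ l) :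
    l ^ 2 ∣ Nat.card G := by
  haveI : Fact l.Prime := ⟨hl⟩
  have hmf : (Nat.card G).minFac = l := by
    have h1 : Nat.card G ≠ 1 := by
      intro h; rw [h] at hdvd; exact hl.one_lt.ne' (Nat.dvd_one.mp hdvd)
    apply le_antisymm
    · exact Nat.minFac_le_of_dvd hl.two_le hdvd
    · exact hmin _ (Nat.minFac_prime h1) (Nat.minFac_dvd _)
  by_contra hsq
  obtain P : Sylow l G := default
  have hPcard : Nat.card P = l := by
    obtain ⟨m, hm⟩ := hdvd
    apply card_sylow_of_card_eq l m hm _ P
    intro hlm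
    apply hsq
    rw [hm, pow_two]
    exact mul_dvd_mul_left l hlm
  have hcyc : IsCyclic P := isCyclic_of_prime_card hPcard
  have hc := IsCyclic.isComplement' hmf hcyc
  have hcard := hc.card_mul_card
  rw [hPcard] at hcard
  rcases Subgroup.Normal.eq_bot_or_eq_top
    (inferInstance : (MonoidHom.transferSylow P (hcyc.normalizer_le_centralizer hmf)).ker.Normal)
    with h | h
  · rw [h, Subgroup.card_bot, one_mul] at hcard
    exact hne hcard.symm
  · rw [h, Subgroup.card_top] at hcard
    have : l = 1 := by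
      have h2 : Nat.card G * l = Nat.card G * 1 := by rw [hcard, mul_one]
      exact Nat.eq_of_mul_eq_mul_left Nat.card_pos h2
    exact hl.one_lt.ne' this

/-- embedding into the alternating group on the Sylow subgroups -/
theorem two_mul_card_dvd_factorial [IsSimpleGroup G] (hnc : ¬ IsMulCommutative G) (x : ℕ)
    [Fact x.Prime] (hm : Nat.card (Sylow x G) ≠ 1) :
    2 * Nat.card G ∣ (Nat.card (Sylow x G)).factorial := by
  obtain P : Sylow x G := default
  have hidx : Nat.card (Sylow x G) = (Subgroup.normalizer ((P : Subgroup G) : Set G)).index :=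
    Sylow.card_eq_index_normalizer P
  have hH : Subgroup.normalizer ((P : Subgroup G) : Set G) ≠ ⊤ := by
    intro h
    apply hm
    rw [hidx]
    exact Subgroup.index_eq_one.mpr h
  obtain ⟨f, hf⟩ := Cfsg.Agent.S0991.result hnc _ hH
  have h1 := Subgroup.card_dvd_of_injective f hf
  rw [← hidx] at h1
  set m := Nat.card (Sylow x G) with hmdef
  have hm2 : 2 ≤ m := by
    have : m ≠ 0 := Nat.card_pos.ne'
    omega
  haveI : Nontrivial (Fin m) := Fin.nontrivial_iff_two_le.mpr hm2
  have h2 := two_mul_nat_card_alternatingGroup (α := Fin m)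
  rw [Nat.card_perm, Nat.card_eq_fintype_card (α := Fin m), Fintype.card_fin] at h2
  rw [← h2]
  exact mul_dvd_mul_left 2 h1

/-- Burnside's transfer theorem in a simple group -/
theorem burnside_simple [IsSimpleGroup G] {p : ℕ} [Fact p.Prime] (P : Sylow p G)
    (h : Subgroup.normalizer ((P : Subgroup G) : Set G) ≤ Subgroup.centralizer ((P : Subgroup G) : Set G)) :
    Nat.card G = Nat.card P ∨ Nat.card P = 1 := by
  have hc := MonoidHom.ker_transferSylow_isComplement' P h
  have hcard := hc.card_mul_card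
  rcases Subgroup.Normal.eq_bot_or_eq_top
    (inferInstance : (MonoidHom.transferSylow P h).ker.Normal) with h1 | h1
  · left
    rw [h1, Subgroup.card_bot, one_mul] at hcard
    exact hcard.symm
  · right
    rw [h1, Subgroup.card_top] at hcard
    have h2 : Nat.card G * Nat.card P = Nat.card G * 1 := by rw [hcard, mul_one]
    exact Nat.eq_of_mul_eq_mul_left Nat.card_pos h2

/-- an element of prime order `s > p` normalising but not centralising a group of order `p^2`
has `s ∣ p + 1` -/
theorem dvd_succ_of_act {p s : ℕ} (hp : p.Prime) [hs : Fact s.Prime] (hps : p < s)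
    (L : Subgroup G) (hL : Nat.card L = p ^ 2) (x : G)
    (hx : x ∈ Subgroup.normalizer (L : Set G)) (hxs : x ^ s = 1)
    (hnc : x ∉ Subgroup.centralizer (L : Set G)) : s ∣ p + 1 := by
  classical
  haveI : Fintype L := Fintype.ofFinite L
  have hx' : x⁻¹ ∈ Subgroup.normalizer (L : Set G) := inv_mem hx
  let c : Equiv.Perm L :=
    { toFun := fun l => ⟨x * l.1 * x⁻¹, (Subgroup.mem_normalizer_iff.mp hx l.1).mp l.2⟩
      invFun := fun l => ⟨x⁻¹ * l.1 * x, by
        have := (Subgroup.mem_normalizer_iff.mp hx' l.1).mp l.2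
        rwa [inv_inv] at this⟩
      left_inv := fun l => by apply Subtype.ext; simp; group
      right_inv := fun l => by apply Subtype.ext; simp; group }
  have hck : ∀ (k : ℕ) (l : L), (((c ^ k) l : L) : G) = x ^ k * l.1 * (x ^ k)⁻¹ := by
    intro k
    induction k with
    | zero => intro l; simp
    | succ k ih =>
      intro l
      rw [pow_succ', Equiv.Perm.mul_apply]
      change x * (((c ^ k) l : L) : G) * x⁻¹ = _
      rw [ih l, pow_succ']
      group
  have hcs : c ^ s ^ 1 = 1 := by
    rw [pow_one]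
    ext l
    rw [hck s l, hxs]
    simp
  have hmod := Equiv.Perm.card_compl_support_modEq hcs
  -- fixed points form a subgroup
  have hfix : c.supportᶜ.card = Nat.card (L ⊓ Subgroup.centralizer ({x} : Set G) : Subgroup G) := by
    rw [← Nat.card_eq_finsetCard]
    apply Nat.card_congr
    refine
      { toFun := fun l => ⟨l.1.1, Subgroup.mem_inf.mpr ⟨l.1.2, ?_⟩⟩
        invFun := fun l => ⟨⟨l.1, (Subgroup.mem_inf.mp l.2).1⟩, ?_⟩
        left_inv := fun l => rfl
        right_inv := fun l => rfl }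
    · have h1 := l.2
      rw [Finset.mem_compl, Equiv.Perm.mem_support, not_not] at h1
      have h2 : x * l.1.1 * x⁻¹ = l.1.1 := congrArg Subtype.val h1
      rw [Subgroup.mem_centralizer_singleton_iff]
      first
        | exact (mul_inv_eq_iff_eq_mul.mp h2).symm
        | exact (mul_inv_eq_iff_eq_mul.mp h2)
    · rw [Finset.mem_compl, Equiv.Perm.mem_support, not_not]
      have h1 := Subgroup.mem_centralizer_singleton_iff.mp (Subgroup.mem_inf.mp l.2).2
      apply Subtype.ext
      change x * l.1 * x⁻¹ = l.1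
      first
        | exact mul_inv_eq_iff_eq_mul.mpr h1
        | exact mul_inv_eq_iff_eq_mul.mpr h1.symm
  rw [hfix, ← Nat.card_eq_fintype_card, hL] at hmod
  set F : Subgroup G := L ⊓ Subgroup.centralizer ({x} : Set G) with hF
  have hFdvd : Nat.card F ∣ p ^ 2 := by
    rw [← hL]; exact Subgroup.card_dvd_of_le inf_le_left
  obtain ⟨i, hi, hFi⟩ := (Nat.dvd_prime_pow hp).mp hFdvd
  have hs := hs.out
  have hp1 : 1 ≤ p - 1 := by have := hp.two_le; omega
  have hnd1 : ¬ s ∣ p - 1 := fun h => by
    have := Nat.le_of_dvd (by omega) h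
    omega
  have hnd2 : ¬ s ∣ p := fun h => by
    have := Nat.le_of_dvd hp.pos h
    omega
  interval_cases i
  · -- 1 ≡ p^2
    rw [hFi, pow_zero] at hmod
    have h1 : s ∣ p ^ 2 - 1 := (Nat.modEq_iff_dvd' (by nlinarith [hp.two_le])).mp hmod
    have h2 : p ^ 2 - 1 = (p - 1) * (p + 1) := by
      obtain ⟨k, rfl⟩ : ∃ k, p = k + 1 := ⟨p - 1, by omega⟩
      simp only [Nat.add_sub_cancel]
      have : (k + 1) ^ 2 = k * (k + 1 + 1) + 1 := by ring
      rw [this, Nat.add_sub_cancel]
    rw [h2] at h1
    rcases (Nat.Prime.dvd_mul hs).mp h1 with h | h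
    · exact absurd h hnd1
    · exact h
  · rw [hFi, pow_one] at hmod
    have h1 : s ∣ p ^ 2 - p := (Nat.modEq_iff_dvd' (by nlinarith [hp.two_le])).mp hmod
    have h2 : p ^ 2 - p = p * (p - 1) := by
      obtain ⟨k, rfl⟩ : ∃ k, p = k + 1 := ⟨p - 1, by omega⟩
      simp only [Nat.add_sub_cancel]
      have : (k + 1) ^ 2 = (k + 1) * k + (k + 1) := by ring
      rw [this, Nat.add_sub_cancel]
    rw [h2] at h1
    rcases (Nat.Prime.dvd_mul hs).mp h1 with h | h
    · exact absurd h hnd2
    · exact absurd h hnd1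
  · exfalso
    apply hnc
    have hFL : F = L := by
      apply Subgroup.eq_of_le_of_card_ge inf_le_left
      rw [hFi, hL]
    rw [Subgroup.mem_centralizer_iff]
    intro l hl
    have hlF : l ∈ F := by rw [hFL]; exact hl
    have := Subgroup.mem_centralizer_singleton_iff.mp (Subgroup.mem_inf.mp hlF).2
    first
      | exact this
      | exact this.symm

theorem succ_of_sq_modEq {a b : ℕ} (ha : 1 < a) (hab : a < b) (hb : b.Prime)
    (h : a ^ 2 ≡ 1 [MOD b]) : b = a + 1 := by
  have h1 : b ∣ a ^ 2 - 1 := (Nat.modEq_iff_dvd' (by nlinarith)).mp h.symm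
  have h2 : a ^ 2 - 1 = (a - 1) * (a + 1) := by
    obtain ⟨k, rfl⟩ : ∃ k, a = k + 1 := ⟨a - 1, by omega⟩
    simp only [Nat.add_sub_cancel]
    have : (k + 1) ^ 2 = k * (k + 1 + 1) + 1 := by ring
    rw [this, Nat.add_sub_cancel]
  rw [h2] at h1
  rcases (Nat.Prime.dvd_mul hb).mp h1 with h | h
  · have := Nat.le_of_dvd (by omega) h
    omega
  · have := Nat.le_of_dvd (by omega) h
    omega

theorem eq_two_of_prime_succ {a : ℕ} (ha : a.Prime) (hb : (a + 1).Prime) : a = 2 := by
  by_contra h2
  have hodd : Odd a := ha.odd_of_ne_two h2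
  have heven : Even (a + 1) := hodd.add_one
  have := (Nat.Prime.even_iff hb).mp heven
  have := ha.two_le
  omega

theorem not_modEq_one {a b : ℕ} (ha : 1 < a) (hab : a < b) : ¬ a ≡ 1 [MOD b] := by
  intro h
  unfold Nat.ModEq at h
  rw [Nat.mod_eq_of_lt hab, Nat.mod_eq_of_lt (by omega)] at h
  omega

theorem not_comm_of_not_prime [IsSimpleGroup G] (h : ¬ (Nat.card G).Prime) : ¬ IsMulCommutative G :=
  fun hc => h (prime_card_of_comm hc)

theorem case_a3b [IsSimpleGroup G] {a b : ℕ} (ha : a.Prime) (hb : b.Prime) (hab : a < b)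
    (hG : Nat.card G = a ^ 3 * b) : False := by
  haveI : Fact b.Prime := ⟨hb⟩
  have hnp : ¬ (Nat.card G).Prime := by
    rw [hG]
    exact Nat.not_prime_mul (by have := ha.two_le; intro h; nlinarith [pow_pos ha.pos 3, Nat.one_lt_pow (n := 3) (by norm_num) ha.one_lt]) hb.one_lt.ne'
  have hnc := not_comm_of_not_prime hnp
  have hG' : Nat.card G = b * a ^ 3 := by rw [hG, mul_comm]
  have hba : ¬ b ∣ a ^ 3 := by
    intro h
    have := (Nat.prime_dvd_prime_iff_eq hb ha).mp (hb.dvd_of_dvd_pow h)
    omega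
  obtain B : Sylow b G := default
  have hB : Nat.card B = b := card_sylow_of_card_eq b (a ^ 3) hG' hba B
  have hdvd : Nat.card (Sylow b G) ∣ a ^ 3 := card_sylow_dvd_of_card B hB hG' hb.pos
  have hmod : Nat.card (Sylow b G) ≡ 1 [MOD b] := card_sylow_modEq_one b G
  have hGb : Nat.card G ≠ b := by
    intro h; rw [h] at hnp; exact hnp hb
  have hne1 : Nat.card (Sylow b G) ≠ 1 := card_sylow_ne_one_of_card B hB hb.one_lt.ne' hGb
  obtain ⟨i, hi, hni⟩ := (Nat.dvd_prime_pow ha).mp hdvd
  interval_cases i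
  · exact hne1 (by rw [hni, pow_zero])
  · rw [hni, pow_one] at hmod
    exact not_modEq_one ha.one_lt hab hmod
  · rw [hni] at hmod
    have hb1 := succ_of_sq_modEq ha.one_lt hab hb hmod
    have ha2 : a = 2 := eq_two_of_prime_succ ha (hb1 ▸ hb)
    subst ha2
    have hb3 : b = 3 := hb1
    subst hb3
    have h48 := two_mul_card_dvd_factorial hnc 3 hne1
    rw [hni, hG] at h48
    norm_num [Nat.factorial] at h48
  · -- normalizer equals the Sylow subgroup
    have h1 := card_sylow_mul_card_normalizer b B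
    rw [hni, hG] at h1
    have hN : Nat.card (Subgroup.normalizer ((B : Subgroup G) : Set G)) = b * 1 := by
      rw [mul_one]
      exact Nat.eq_of_mul_eq_mul_left (pow_pos ha.pos 3) h1
    exact false_of_simple_of_coprime B hB hN (Nat.coprime_one_left _) hGb

theorem case_a2b2 [IsSimpleGroup G] {a b : ℕ} (ha : a.Prime) (hb : b.Prime) (hab : a < b)
    (hG : Nat.card G = a ^ 2 * b ^ 2) : False := by
  haveI : Fact b.Prime := ⟨hb⟩
  have hnp : ¬ (Nat.card G).Prime := by
    rw [hG]
    exact Nat.not_prime_mul (Nat.one_lt_pow (n := 2) (by norm_num) ha.one_lt).ne'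
      (Nat.one_lt_pow (n := 2) (by norm_num) hb.one_lt).ne'
  have hnc := not_comm_of_not_prime hnp
  have hG' : Nat.card G = b ^ 2 * a ^ 2 := by rw [hG, mul_comm]
  have hba : ¬ b ∣ a ^ 2 := by
    intro h
    have := (Nat.prime_dvd_prime_iff_eq hb ha).mp (hb.dvd_of_dvd_pow h)
    omega
  obtain B : Sylow b G := default
  have hB : Nat.card B = b ^ 2 := card_sylow_of_card_eq_pow b 2 (a ^ 2) hG' hba B
  have hdvd : Nat.card (Sylow b G) ∣ a ^ 2 := card_sylow_dvd_of_card B hB hG' (pow_pos hb.pos 2)
  have hmod : Nat.card (Sylow b G) ≡ 1 [MOD b] := card_sylow_modEq_one b G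
  have hGb : Nat.card G ≠ b ^ 2 := by
    intro h
    rw [hG] at h
    have : a ^ 2 = 1 := by
      have h3 : a ^ 2 * b ^ 2 = 1 * b ^ 2 := by rw [h, one_mul]
      exact Nat.eq_of_mul_eq_mul_right (pow_pos hb.pos 2) h3
    have := Nat.one_lt_pow (n := 2) (by norm_num) ha.one_lt
    omega
  have hne1 : Nat.card (Sylow b G) ≠ 1 :=
    card_sylow_ne_one_of_card B hB (Nat.one_lt_pow (n := 2) (by norm_num) hb.one_lt).ne' hGb
  obtain ⟨i, hi, hni⟩ := (Nat.dvd_prime_pow ha).mp hdvd
  interval_cases i
  · exact hne1 (by rw [hni, pow_zero])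
  · rw [hni, pow_one] at hmod
    exact not_modEq_one ha.one_lt hab hmod
  · rw [hni] at hmod
    have hb1 := succ_of_sq_modEq ha.one_lt hab hb hmod
    have ha2 : a = 2 := eq_two_of_prime_succ ha (hb1 ▸ hb)
    subst ha2
    have hb3 : b = 3 := hb1
    subst hb3
    have h48 := two_mul_card_dvd_factorial hnc 3 hne1
    rw [hni, hG] at h48
    norm_num [Nat.factorial] at h48

theorem case_pqr [IsSimpleGroup G] {p q r : ℕ} (hp : p.Prime) (hq : q.Prime) (hr : r.Prime)
    (hpq : p < q) (hqr : q < r) (hG : Nat.card G = p ^ 2 * q * r) : Nat.card G = 60 := by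
  haveI : Fact r.Prime := ⟨hr⟩
  haveI : Fact p.Prime := ⟨hp⟩
  have hp2 := hp.two_le
  have hnp : ¬ (Nat.card G).Prime := by
    rw [hG]
    refine Nat.not_prime_mul ?_ hr.one_lt.ne'
    have : 1 < p ^ 2 * q := by nlinarith [hq.two_le]
    omega
  have hnc := not_comm_of_not_prime hnp
  -- Sylow r
  have hG' : Nat.card G = r * (p ^ 2 * q) := by rw [hG, mul_comm]
  have hrd : ¬ r ∣ p ^ 2 * q := by
    intro h
    rcases (Nat.Prime.dvd_mul hr).mp h with h | h
    · have := (Nat.prime_dvd_prime_iff_eq hr hp).mp (hr.dvd_of_dvd_pow h); omega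
    · have := (Nat.prime_dvd_prime_iff_eq hr hq).mp h; omega
  obtain R : Sylow r G := default
  have hR : Nat.card R = r := card_sylow_of_card_eq r _ hG' hrd R
  have hdvd : Nat.card (Sylow r G) ∣ p ^ 2 * q := card_sylow_dvd_of_card R hR hG' hr.pos
  have hmod : Nat.card (Sylow r G) ≡ 1 [MOD r] := card_sylow_modEq_one r G
  have hGr : Nat.card G ≠ r := by
    intro h; rw [h] at hnp; exact hnp hr
  have hne1 : Nat.card (Sylow r G) ≠ 1 := card_sylow_ne_one_of_card R hR hr.one_lt.ne' hGr
  have hnr : Nat.card (Sylow r G) = p * q := by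
    obtain ⟨d1, d2, hd1, hd2, hd⟩ := (Nat.dvd_mul).mp hdvd
    obtain ⟨i, hi, rfl⟩ := (Nat.dvd_prime_pow hp).mp hd1
    rcases (Nat.dvd_prime hq).mp hd2 with rfl | rfl
    · rw [mul_one] at hd
      interval_cases i
      · exact absurd (by rw [← hd, pow_zero]) hne1
      · rw [← hd, pow_one] at hmod
        exact absurd hmod (not_modEq_one hp.one_lt (by omega))
      · rw [← hd] at hmod
        have := succ_of_sq_modEq hp.one_lt (by omega) hr hmod
        omega
    · interval_cases i
      · rw [← hd, pow_zero, one_mul] at hmod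
        exact absurd hmod (not_modEq_one hq.one_lt hqr)
      · rw [← hd, pow_one]
      · exfalso
        have h1 := card_sylow_mul_card_normalizer r R
        rw [← hd, hG] at h1
        have hN : Nat.card (Subgroup.normalizer ((R : Subgroup G) : Set G)) = r * 1 := by
          rw [mul_one]
          exact Nat.eq_of_mul_eq_mul_left (Nat.mul_pos (pow_pos hp.pos 2) hq.pos) h1
        exact false_of_simple_of_coprime R hR hN (Nat.coprime_one_left _) hGr
  -- Sylow p
  have hG'' : Nat.card G = p ^ 2 * (q * r) := by rw [hG, mul_assoc]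
  have hpd : ¬ p ∣ q * r := by
    intro h
    rcases (Nat.Prime.dvd_mul hp).mp h with h | h
    · have := (Nat.prime_dvd_prime_iff_eq hp hq).mp h; omega
    · have := (Nat.prime_dvd_prime_iff_eq hp hr).mp h; omega
  obtain L : Sylow p G := default
  have hL : Nat.card L = p ^ 2 := card_sylow_of_card_eq_pow p 2 _ hG'' hpd L
  set N := Subgroup.normalizer ((L : Subgroup G) : Set G) with hN
  set C := Subgroup.centralizer ((L : Subgroup G) : Set G) with hC
  have hLcomm : ∀ a b : (L : Subgroup G), a * b = b * a :=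
    (IsPGroup.isMulCommutative_of_card_eq_prime_sq hL).is_comm.comm
  have hLC : (L : Subgroup G) ≤ C := by
    intro x hx
    rw [hC, Subgroup.mem_centralizer_iff]
    intro y hy
    have := hLcomm ⟨y, hy⟩ ⟨x, hx⟩
    exact congrArg Subtype.val this
  have hCN : C ≤ N := Subgroup.centralizer_le_normalizer _
  have hnle : ¬ N ≤ C := by
    intro h
    rcases burnside_simple L h with h1 | h1
    · rw [hL] at h1
      rw [hG''] at h1
      have : q * r = 1 := by
        have h3 : p ^ 2 * (q * r) = p ^ 2 * 1 := by rw [h1, mul_one]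
        exact Nat.eq_of_mul_eq_mul_left (pow_pos hp.pos 2) h3
      nlinarith [hq.two_le, hr.two_le]
    · rw [hL] at h1
      have := Nat.one_lt_pow (n := 2) (by norm_num) hp.one_lt
      omega
  -- index of C in N
  have hidx := card_mul_relIndex hCN
  have hCdvd : p ^ 2 ∣ Nat.card C := by
    rw [← hL]; exact Subgroup.card_dvd_of_le hLC
  obtain ⟨c', hc'⟩ := hCdvd
  have hNdvd : Nat.card N ∣ Nat.card G := Subgroup.card_subgroup_dvd_card N
  have hqr' : c' * C.relIndex N ∣ q * r := by
    rw [← hidx, hc', hG'', mul_assoc] at hNdvd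
    exact Nat.dvd_of_mul_dvd_mul_left (pow_pos hp.pos 2) hNdvd
  have hidx1 : C.relIndex N ≠ 1 := by
    intro h
    exact hnle (Subgroup.relIndex_eq_one.mp h)
  obtain ⟨s, hs, hsdvd⟩ := Nat.exists_prime_and_dvd hidx1
  haveI : Fact s.Prime := ⟨hs⟩
  have hsqr : s ∣ q * r := (hsdvd.trans (Dvd.intro_left c' rfl)).trans hqr'
  have hsN : s ∣ Nat.card N := by
    rw [← hidx]; exact hsdvd.trans (Dvd.intro_left _ rfl)
  obtain ⟨y, hy⟩ := exists_prime_orderOf_dvd_card' s hsN
  have hyo : orderOf (y : G) = s := by rw [Subgroup.orderOf_coe]; exact hy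
  have hs_cases : s = q ∨ s = r := by
    rcases (Nat.Prime.dvd_mul hs).mp hsqr with h | h
    · left; exact (Nat.prime_dvd_prime_iff_eq hs hq).mp h
    · right; exact (Nat.prime_dvd_prime_iff_eq hs hr).mp h
  have hps : p < s := by rcases hs_cases with h | h <;> omega
  have hyC : (y : G) ∉ C := by
    intro hyC
    have h1 : s ∣ Nat.card C := by
      rw [← hyo]
      have := Subgroup.orderOf_dvd_natCard C hyC
      exact this
    rw [hc'] at h1
    have h2 : s ∣ c' := by
      rcases (Nat.Prime.dvd_mul hs).mp h1 with h | h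
      · have := (Nat.prime_dvd_prime_iff_eq hs hp).mp (hs.dvd_of_dvd_pow h); omega
      · exact h
    have h3 : s * s ∣ q * r := (mul_dvd_mul h2 hsdvd).trans hqr'
    -- s^2 does not divide q r
    rcases hs_cases with rfl | rfl
    · have : s ∣ r := Nat.dvd_of_mul_dvd_mul_left hs.pos h3
      have := (Nat.prime_dvd_prime_iff_eq hs hr).mp this; omega
    · have h4 : s * s ∣ s * q := by rwa [mul_comm q s] at h3
      have : s ∣ q := Nat.dvd_of_mul_dvd_mul_left hs.pos h4
      have := (Nat.prime_dvd_prime_iff_eq hs hq).mp this; omega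
  have hys : (y : G) ^ s = 1 := by rw [← hyo]; exact pow_orderOf_eq_one _
  have hsucc := dvd_succ_of_act hp hps (L : Subgroup G) hL (y : G) y.2 hys hyC
  have hsp1 : s = p + 1 := by
    have := Nat.le_of_dvd (by omega) hsucc
    omega
  have hp2' : p = 2 := eq_two_of_prime_succ hp (hsp1 ▸ hs)
  subst hp2'
  have hq3 : q = 3 := by
    rcases hs_cases with h | h
    · omega
    · omega
  subst hq3
  rw [hnr] at hmod
  have h5 : r ∣ 5 := by
    have := (Nat.modEq_iff_dvd' (by norm_num)).mp hmod.symm
    simpa using this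
  have hr5 : r = 5 := (Nat.prime_dvd_prime_iff_eq hr (by norm_num)).mp h5
  rw [hG, hr5]
  norm_num

end Cfsg.Agent.Lib.Lead.SmallSimple2
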