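import Mathlib
import Cfsg.Agent.Lib.Lead.Coh7
import Cfsg.Agent.Lib.Helper6.GenChar

set_option autoImplicit false
open Cfsg

namespace Cfsg.Agent.Lib.Lead.Eq

open Cfsg.Agent.Lib.Helper6 Cfsg.Agent.Lib.Lead.Coh

section eq
variable {L : Type*} [Group L] [Fintype L] {G : Type*} [Group G] [Fintype G]

/-- generic extension of an isometry on the degree-zero part of the span of a set of
characters of equal degree, given a suitable image `T₀` of a base point -/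
theorem coherent_of_T0 (S : Set (L → ℂ)) (τ : (L → ℂ) → (G → ℂ))
    (hτ : IsLinearIsometryOn (zspanOn S {1}ᶜ) τ)
    (d : ℂ) (hd0 : d ≠ 0) (hdS : ∀ ψ ∈ S, ψ 1 = d)
    (χ₀ : L → ℂ) (hχ₀ : χ₀ ∈ S)
    (horth : ∀ ψ ∈ S, ψ ≠ χ₀ → classInner ψ χ₀ = 0)
    (T₀ : G → ℂ) (hT₀gen : IsGeneralizedCharacter G T₀)
    (hT₀n : classInner T₀ T₀ = classInner χ₀ χ₀)
    (hT₀ : ∀ ψ ∈ S, ψ ≠ χ₀ → classInner (τ (χ₀ - ψ)) T₀ = classInner χ₀ χ₀)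
    (hne : ∃ ψ ∈ S, ψ ≠ χ₀) : IsCoherent S {1}ᶜ τ := by
  obtain ⟨hτadd, hτsmul, hτiso, hτgen⟩ := hτ
  have hsub : ∀ χ ∈ S, ∀ ψ ∈ S, χ - ψ ∈ zspanOn S {1}ᶜ := fun χ hχ ψ hψ =>
    mem_zspanOn_one.mpr ⟨Submodule.sub_mem _ (zs_mem hχ) (zs_mem hψ),
      by rw [Pi.sub_apply, hdS χ hχ, hdS ψ hψ, sub_self]⟩
  have hχ₀s : χ₀ ∈ zspan S := zs_mem hχ₀
  obtain ⟨ψ₁, hψ₁, hne₁⟩ := hne
  refine ⟨⟨χ₀ - ψ₁, hsub χ₀ hχ₀ ψ₁ hψ₁, fun h => hne₁ (sub_eq_zero.mp h).symm⟩, ?_⟩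
  have hτ0 : τ 0 = 0 := by
    have h0 : (0 : L → ℂ) ∈ zspanOn S {1}ᶜ := mem_zspanOn_one.mpr ⟨Submodule.zero_mem _, rfl⟩
    have := hτsmul 0 h0 0
    rwa [zero_smul, zero_smul] at this
  have hprim : ∀ f ∈ zspan S, ∀ k : ℤ, f 1 = k * d → f + (-k) • χ₀ ∈ zspanOn S {1}ᶜ := by
    intro f hf k hk
    refine mem_zspanOn_one.mpr ⟨zs_add hf (zs_smul _ hχ₀s), ?_⟩
    rw [Pi.add_apply, Pi.smul_apply, hk, hdS χ₀ hχ₀, zsmul_eq_mul]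
    push_cast; ring
  have hstar : ∀ f ∈ zspan S, ∃ k : ℤ, f 1 = k * d ∧
      classInner (τ (f + (-k) • χ₀)) T₀ = classInner (f + (-k) • χ₀) χ₀ := by
    intro f hf
    have hf' := hf
    change f ∈ Submodule.span ℤ S at hf
    induction hf using Submodule.span_induction with
    | mem ψ hψ =>
      refine ⟨1, by rw [hdS ψ hψ]; simp, ?_⟩
      by_cases hne : ψ = χ₀
      · have : ψ + (-(1 : ℤ)) • χ₀ = 0 := by rw [hne]; simp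
        rw [this, hτ0, classInner_zero_left, classInner_zero_left]
      · have e1 : ψ + (-(1 : ℤ)) • χ₀ = (-1 : ℤ) • (χ₀ - ψ) := by module
        rw [e1, hτsmul _ (hsub χ₀ hχ₀ ψ hψ), classInner_zsmul_left, classInner_zsmul_left,
          hT₀ ψ hψ hne, classInner_sub_left, horth ψ hψ hne]
        ring
    | zero =>
      refine ⟨0, by simp, ?_⟩
      have : (0 : L → ℂ) + (-(0 : ℤ)) • χ₀ = 0 := by simp
      rw [this, hτ0, classInner_zero_left, classInner_zero_left]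
    | add x y hx hy px py =>
      obtain ⟨kx, hkx, ex⟩ := px hx
      obtain ⟨ky, hky, ey⟩ := py hy
      refine ⟨kx + ky, by rw [Pi.add_apply, hkx, hky]; push_cast; ring, ?_⟩
      have e1 : x + y + (-(kx + ky)) • χ₀ = (x + (-kx) • χ₀) + (y + (-ky) • χ₀) := by module
      rw [e1, hτadd _ (hprim x hx kx hkx) _ (hprim y hy ky hky), classInner_add_left,
        classInner_add_left, ex, ey]
    | smul n x hx px =>
      obtain ⟨kx, hkx, ex⟩ := px hx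
      refine ⟨n * kx, by rw [Pi.smul_apply, hkx, zsmul_eq_mul]; push_cast; ring, ?_⟩
      have e1 : n • x + (-(n * kx)) • χ₀ = n • (x + (-kx) • χ₀) := by module
      rw [e1, hτsmul _ (hprim x hx kx hkx), classInner_zsmul_left, classInner_zsmul_left, ex]
  have hkuniq : ∀ {f : L → ℂ} {k k' : ℤ}, f 1 = k * d → f 1 = k' * d → k = k' := by
    intro f k k' h h'
    have : (k : ℂ) = k' := mul_right_cancel₀ hd0 (h.symm.trans h')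
    exact_mod_cast this
  obtain ⟨τ₁, hτ₁⟩ : ∃ τ₁ : (L → ℂ) → (G → ℂ),
      ∀ f, τ₁ f = τ (f - (f 1 / d) • χ₀) + (f 1 / d) • T₀ := ⟨_, fun _ => rfl⟩
  have KF : ∀ f : L → ℂ, ∀ k : ℤ, f 1 = k * d → τ₁ f = τ (f + (-k) • χ₀) + k • T₀ := by
    intro f k hk
    have hq : f 1 / d = (k : ℂ) := by rw [hk, mul_div_assoc, div_self hd0, mul_one]
    rw [hτ₁, hq, Int.cast_smul_eq_zsmul, Int.cast_smul_eq_zsmul, sub_eq_add_neg, neg_smul]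
  have hstar' : ∀ f ∈ zspan S, ∀ k : ℤ, f 1 = k * d →
      classInner T₀ (τ (f + (-k) • χ₀)) = classInner χ₀ (f + (-k) • χ₀) := by
    intro f hf k hk
    obtain ⟨k', hk', e⟩ := hstar f hf
    have := hkuniq hk hk'
    subst this
    rw [← classInner_conj_symm, e, classInner_conj_symm]
  have hstar'' : ∀ f ∈ zspan S, ∀ k : ℤ, f 1 = k * d →
      classInner (τ (f + (-k) • χ₀)) T₀ = classInner (f + (-k) • χ₀) χ₀ := by
    intro f hf k hk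
    obtain ⟨k', hk', e⟩ := hstar f hf
    have := hkuniq hk hk'
    subst this
    exact e
  refine ⟨τ₁, ⟨?_, ?_, ?_, ?_⟩, ?_⟩
  · intro f hf g hg
    obtain ⟨kf, hkf, -⟩ := hstar f hf
    obtain ⟨kg, hkg, -⟩ := hstar g hg
    have hfg : (f + g) 1 = ((kf + kg : ℤ) : ℂ) * d := by
      rw [Pi.add_apply, hkf, hkg]; push_cast; ring
    rw [KF _ _ hfg, KF _ _ hkf, KF _ _ hkg]
    have e1 : f + g + (-(kf + kg)) • χ₀ = (f + (-kf) • χ₀) + (g + (-kg) • χ₀) := by module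
    rw [e1, hτadd _ (hprim f hf kf hkf) _ (hprim g hg kg hkg)]
    module
  · intro f hf n
    obtain ⟨kf, hkf, -⟩ := hstar f hf
    have hnf : (n • f) 1 = ((n * kf : ℤ) : ℂ) * d := by
      rw [Pi.smul_apply, hkf, zsmul_eq_mul]; push_cast; ring
    rw [KF _ _ hnf, KF _ _ hkf]
    have e1 : n • f + (-(n * kf)) • χ₀ = n • (f + (-kf) • χ₀) := by module
    rw [e1, hτsmul _ (hprim f hf kf hkf)]
    module
  · intro f hf g hg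
    obtain ⟨kf, hkf, -⟩ := hstar f hf
    obtain ⟨kg, hkg, -⟩ := hstar g hg
    rw [KF _ _ hkf, KF _ _ hkg]
    obtain ⟨f', hf'⟩ : ∃ f', f' = f + (-kf) • χ₀ := ⟨_, rfl⟩
    obtain ⟨g', hg'⟩ : ∃ g', g' = g + (-kg) • χ₀ := ⟨_, rfl⟩
    have ef : f = f' + kf • χ₀ := by rw [hf']; module
    have eg : g = g' + kg • χ₀ := by rw [hg']; module
    have mf : f' ∈ zspanOn S {1}ᶜ := by rw [hf']; exact hprim f hf kf hkf
    have mg : g' ∈ zspanOn S {1}ᶜ := by rw [hg']; exact hprim g hg kg hkg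
    have s1 : classInner (τ f') T₀ = classInner f' χ₀ := by rw [hf']; exact hstar'' f hf kf hkf
    have s2 : classInner T₀ (τ g') = classInner χ₀ g' := by rw [hg']; exact hstar' g hg kg hkg
    rw [← hf', ← hg']
    conv_rhs => rw [ef, eg]
    simp only [classInner_add_left, classInner_add_right, classInner_zsmul_left,
      classInner_zsmul_right]
    rw [hτiso f' mf g' mg, s1, s2, hT₀n]
  · intro f hf
    obtain ⟨kf, hkf, -⟩ := hstar f hf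
    rw [KF _ _ hkf, ← Int.cast_smul_eq_zsmul ℂ kf T₀]
    exact IsGeneralizedCharacter.add (hτgen _ (hprim f hf kf hkf))
      (IsGeneralizedCharacter.intCast_smul hT₀gen kf)
  · intro f hf
    obtain ⟨hfs, hf1⟩ := mem_zspanOn_one.mp hf
    have h0 : f 1 = ((0 : ℤ) : ℂ) * d := by rw [hf1]; simp
    rw [KF f 0 h0]
    simp

theorem irr_inner_cases {x y : G → ℂ} (hx : IsIrrCharacter G x) (hy : IsIrrCharacter G y) :
    (x = y ∧ classInner x y = 1) ∨ (x ≠ y ∧ classInner x y = 0) := by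
  rw [classInner_isIrrCharacter hx hy]
  by_cases h : x = y
  · left; exact ⟨h, if_pos h⟩
  · right; exact ⟨h, if_neg h⟩

theorem pair_cases {a b a' b' : G → ℂ} (ha : IsIrrCharacter G a) (hb : IsIrrCharacter G b)
    (ha' : IsIrrCharacter G a') (hb' : IsIrrCharacter G b') (hab : a ≠ b)
    (h : classInner (a - b) (a' - b') = 1) :
    (a = a' ∧ b ≠ b' ∧ a ≠ b' ∧ b ≠ a') ∨ (a ≠ a' ∧ b = b' ∧ a ≠ b' ∧ b ≠ a') := by
  rw [classInner_sub_left, classInner_sub_right, classInner_sub_right] at h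
  rcases irr_inner_cases ha ha' with ⟨h1, e1⟩ | ⟨h1, e1⟩ <;>
  rcases irr_inner_cases ha hb' with ⟨h3, e3⟩ | ⟨h3, e3⟩ <;>
  rcases irr_inner_cases hb ha' with ⟨h4, e4⟩ | ⟨h4, e4⟩ <;>
  rcases irr_inner_cases hb hb' with ⟨h2, e2⟩ | ⟨h2, e2⟩ <;>
  rw [e1, e3, e4, e2] at h <;>
  first
  | (exfalso; norm_num at h; done)
  | exact Or.inl ⟨h1, h2, h3, h4⟩
  | exact Or.inr ⟨h1, h2, h3, h4⟩
  | exact absurd (h3.trans h2.symm) hab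
  | exact absurd (h1.trans h4.symm) hab

/-- A set of at least two irreducible characters of the same degree is coherent. -/
theorem eq_coherent (S : Set (L → ℂ)) (hirr : ∀ χ ∈ S, IsIrrCharacter L χ)
    (τ : (L → ℂ) → (G → ℂ)) (hτ : IsLinearIsometryOn (zspanOn S {1}ᶜ) τ)
    (hτ1 : ∀ α ∈ zspanOn S {1}ᶜ, τ α 1 = 0)
    (hdeg : ∀ φ ∈ S, ∀ ψ ∈ S, φ 1 = ψ 1)
    (h2 : ∃ χ ∈ S, ∃ ψ ∈ S, χ ≠ ψ) : IsCoherent S {1}ᶜ τ := by
  classical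
  obtain ⟨χ₀, hχ₀, ψ₁, hψ₁, hne₁⟩ := h2
  have hτ' := hτ
  obtain ⟨hτadd, hτsmul, hτiso, hτgen⟩ := hτ
  have horth : ∀ ψ ∈ S, ∀ φ ∈ S, ψ ≠ φ → classInner ψ φ = 0 := fun ψ hψ φ hφ h => by
    rw [classInner_isIrrCharacter (hirr ψ hψ) (hirr φ hφ), if_neg h]
  have hnorm : ∀ ψ ∈ S, classInner ψ ψ = 1 := fun ψ hψ => irr_self (hirr ψ hψ)
  have hsub : ∀ χ ∈ S, ∀ ψ ∈ S, χ - ψ ∈ zspanOn S {1}ᶜ := fun χ hχ ψ hψ =>
    mem_zspanOn_one.mpr ⟨Submodule.sub_mem _ (zs_mem hχ) (zs_mem hψ),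
      by rw [Pi.sub_apply, hdeg χ hχ ψ hψ, sub_self]⟩
  have key : ∀ ψ ∈ S, ψ ≠ χ₀ → ∃ x y : G → ℂ, IsIrrCharacter G x ∧ IsIrrCharacter G y ∧ x ≠ y ∧
      τ (χ₀ - ψ) = x - y := by
    intro ψ hψ hne
    have m := hsub χ₀ hχ₀ ψ hψ
    have hn2 : classInner (τ (χ₀ - ψ)) (τ (χ₀ - ψ)) = 2 := by
      rw [hτiso _ m _ m, classInner_sub_left, classInner_sub_right, classInner_sub_right,
        hnorm χ₀ hχ₀, hnorm ψ hψ, horth χ₀ hχ₀ ψ hψ (Ne.symm hne), horth ψ hψ χ₀ hχ₀ hne]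
      norm_num
    obtain ⟨x, y, hxy, e⟩ := IsGeneralizedCharacter.eq_sub_of_norm_two (hτgen _ m) hn2 (hτ1 _ m)
    exact ⟨x, y, x.2, y.2, fun h => hxy (Subtype.ext h), e⟩
  choose! a b hab using key
  have hinner : ∀ ψ ∈ S, ψ ≠ χ₀ → ∀ ψ' ∈ S, ψ' ≠ χ₀ → ψ ≠ ψ' →
      classInner (a ψ - b ψ) (a ψ' - b ψ') = 1 := by
    intro ψ hψ hne ψ' hψ' hne' hd
    rw [← (hab ψ hψ hne).2.2.2, ← (hab ψ' hψ' hne').2.2.2,
      hτiso _ (hsub χ₀ hχ₀ ψ hψ) _ (hsub χ₀ hχ₀ ψ' hψ'),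
      classInner_sub_left, classInner_sub_right, classInner_sub_right, hnorm χ₀ hχ₀,
      horth χ₀ hχ₀ ψ' hψ' (Ne.symm hne'), horth ψ hψ χ₀ hχ₀ hne, horth ψ hψ ψ' hψ' hd]
    norm_num
  have hψ₁' : ψ₁ ≠ χ₀ := Ne.symm hne₁
  have hpc : ∀ ψ ∈ S, ψ ≠ χ₀ → ∀ ψ' ∈ S, ψ' ≠ χ₀ → ψ ≠ ψ' →
      (a ψ = a ψ' ∧ b ψ ≠ b ψ' ∧ a ψ ≠ b ψ' ∧ b ψ ≠ a ψ') ∨
      (a ψ ≠ a ψ' ∧ b ψ = b ψ' ∧ a ψ ≠ b ψ' ∧ b ψ ≠ a ψ') :=
    fun ψ hψ hne ψ' hψ' hne' hd => pair_cases (hab ψ hψ hne).1 (hab ψ hψ hne).2.1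
      (hab ψ' hψ' hne').1 (hab ψ' hψ' hne').2.1 (hab ψ hψ hne).2.2.1
      (hinner ψ hψ hne ψ' hψ' hne' hd)
  have hd0 : χ₀ 1 ≠ 0 := IsIrrCharacter.apply_one_ne_zero (hirr χ₀ hχ₀)
  by_cases hP : ∀ ψ ∈ S, ψ ≠ χ₀ → a ψ = a ψ₁
  · refine coherent_of_T0 S τ hτ' (χ₀ 1) hd0 (fun ψ hψ => hdeg ψ hψ χ₀ hχ₀) χ₀ hχ₀
      (fun ψ hψ h => horth ψ hψ χ₀ hχ₀ h) (a ψ₁)
      (IsCharacter.isGeneralizedCharacter (IsIrrCharacter.isCharacter (hab ψ₁ hψ₁ hψ₁').1))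
      (by rw [hnorm χ₀ hχ₀]; exact irr_self (hab ψ₁ hψ₁ hψ₁').1) ?_ ⟨ψ₁, hψ₁, hψ₁'⟩
    intro ψ hψ hne
    obtain ⟨ia, ib, hne', e⟩ := hab ψ hψ hne
    rw [e, hnorm χ₀ hχ₀, ← hP ψ hψ hne, classInner_sub_left, irr_self ia,
      classInner_isIrrCharacter ib ia, if_neg (Ne.symm hne')]
    ring
  · push Not at hP
    obtain ⟨ψ₂, hψ₂, hne₂, ha₂⟩ := hP
    have h21 : ψ₂ ≠ ψ₁ := fun h => ha₂ (by rw [h])
    have hb₂ : b ψ₂ = b ψ₁ := by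
      rcases hpc ψ₂ hψ₂ hne₂ ψ₁ hψ₁ hψ₁' h21 with ⟨h, -⟩ | ⟨-, h, -⟩
      · exact absurd h ha₂
      · exact h
    have hQ : ∀ ψ ∈ S, ψ ≠ χ₀ → b ψ = b ψ₁ := by
      intro ψ hψ hne
      by_cases h1 : ψ = ψ₁
      · rw [h1]
      by_contra hb
      have ha : a ψ = a ψ₁ := by
        rcases hpc ψ hψ hne ψ₁ hψ₁ hψ₁' h1 with ⟨h, -⟩ | ⟨-, h, -⟩
        · exact h
        · exact absurd h hb
      have h2 : ψ₂ ≠ ψ := fun h => ha₂ (by rw [h, ha])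
      rcases hpc ψ₂ hψ₂ hne₂ ψ hψ hne h2 with ⟨h, -⟩ | ⟨-, h, -⟩
      · exact ha₂ (h.trans ha)
      · exact hb (h.symm.trans hb₂)
    refine coherent_of_T0 S τ hτ' (χ₀ 1) hd0 (fun ψ hψ => hdeg ψ hψ χ₀ hχ₀) χ₀ hχ₀
      (fun ψ hψ h => horth ψ hψ χ₀ hχ₀ h) (-(b ψ₁))
      (IsGeneralizedCharacter.neg
        (IsCharacter.isGeneralizedCharacter (IsIrrCharacter.isCharacter (hab ψ₁ hψ₁ hψ₁').2.1)))
      (by rw [hnorm χ₀ hχ₀, classInner_neg_left, classInner_neg_right,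
        irr_self (hab ψ₁ hψ₁ hψ₁').2.1, neg_neg]) ?_ ⟨ψ₁, hψ₁, hψ₁'⟩
    intro ψ hψ hne
    obtain ⟨ia, ib, hne', e⟩ := hab ψ hψ hne
    rw [e, hnorm χ₀ hχ₀, ← hQ ψ hψ hne, classInner_neg_right, classInner_sub_left, irr_self ib,
      classInner_isIrrCharacter ia ib, if_neg hne']
    ring

end eq

end Cfsg.Agent.Lib.Lead.Eq
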