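import Mathlib
import Cfsg.Agent.Lib.Lead.Eq1
import Cfsg.Agent.Lib.Lead.Coh10

set_option autoImplicit false
open Cfsg

namespace Cfsg.Agent.Lib.Lead.Se

open Cfsg.Agent.Lib.Helper6 Cfsg.Agent.Lib.Lead.Coh

section se
variable {L : Type*} [Group L] [Fintype L] {G : Type*} [Group G] [Fintype G]

theorem inner_zspan_eq_zero {T : Set (L → ℂ)} {χ : L → ℂ} (h : ∀ φ ∈ T, classInner φ χ = 0)
    {f : L → ℂ} (hf : f ∈ zspan T) : classInner f χ = 0 := by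
  change f ∈ Submodule.span ℤ T at hf
  induction hf using Submodule.span_induction with
  | mem ψ hψ => exact h ψ hψ
  | zero => exact classInner_zero_left _
  | add x y _ _ px py => rw [classInner_add_left, px, py, add_zero]
  | smul n x _ px => rw [classInner_zsmul_left, px, mul_zero]

theorem zspan_union_singleton {T : Set (L → ℂ)} {χ f : L → ℂ} (hf : f ∈ zspan (T ∪ {χ})) :
    ∃ f₁ ∈ zspan T, ∃ k : ℤ, f = f₁ + k • χ := by
  change f ∈ Submodule.span ℤ (T ∪ {χ}) at hf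
  rw [Submodule.span_union, Submodule.mem_sup] at hf
  obtain ⟨f₁, hf₁, g, hg, rfl⟩ := hf
  obtain ⟨k, rfl⟩ := Submodule.mem_span_singleton.1 hg
  exact ⟨f₁, hf₁, k, rfl⟩

/-- extension of a coherent set of irreducible characters by a single irreducible character -/
theorem single_ext [DecidableEq (L → ℂ)] (S : Set (L → ℂ))
    (hirr : ∀ χ ∈ S, IsIrrCharacter L χ)
    (τ : (L → ℂ) → (G → ℂ)) (hτ : IsLinearIsometryOn (zspanOn S {1}ᶜ) τ)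
    (hτ1 : ∀ α ∈ zspanOn S {1}ᶜ, τ α 1 = 0)
    (d : (L → ℂ) → ℕ) (hd : ∀ φ ∈ S, φ 1 = (d φ : ℂ))
    (S₁ : Finset (L → ℂ)) (hS₁ : (↑S₁ : Set (L → ℂ)) ⊆ S)
    (hcoh : IsCoherent (↑S₁ : Set (L → ℂ)) {1}ᶜ τ)
    (χ₁ : L → ℂ) (hχ₁ : χ₁ ∈ S₁) (hdvd : ∀ φ ∈ S₁, d χ₁ ∣ d φ)
    (χ : L → ℂ) (hχ : χ ∈ S) (hχS₁ : χ ∉ S₁) (hdvdχ : d χ₁ ∣ d χ)
    (hineq : 2 * d χ * d χ₁ < ∑ φ ∈ S₁, d φ ^ 2) :
    IsCoherent (↑S₁ ∪ {χ} : Set (L → ℂ)) {1}ᶜ τ := by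
  obtain ⟨⟨α₀, hα₀, hα₀ne⟩, τ₁, hτ₁, hag⟩ := hcoh
  obtain ⟨hτadd, hτsmul, hτiso, hτgen⟩ := hτ
  obtain ⟨h1add, h1smul, h1iso, h1gen⟩ := hτ₁
  have hmemS : ∀ φ ∈ S₁, φ ∈ S := fun φ hφ => hS₁ (Finset.mem_coe.mpr hφ)
  have hχ₁S : χ₁ ∈ S := hmemS χ₁ hχ₁
  have hmem : ∀ φ ∈ S₁, φ ∈ zspan (↑S₁ : Set (L → ℂ)) :=
    fun φ hφ => zs_mem (Finset.mem_coe.mpr hφ)
  have hsubS : ∀ {f : L → ℂ}, f ∈ zspan (↑S₁ : Set (L → ℂ)) → f ∈ zspan S :=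
    fun hf => zs_mono hS₁ hf
  have horth : ∀ ψ ∈ S, ∀ φ ∈ S, ψ ≠ φ → classInner ψ φ = 0 := fun ψ hψ φ hφ h => by
    rw [classInner_isIrrCharacter (hirr ψ hψ) (hirr φ hφ), if_neg h]
  have hnorm : ∀ ψ ∈ S, classInner ψ ψ = 1 := fun ψ hψ => irr_self (hirr ψ hψ)
  have hχne : ∀ φ ∈ S₁, φ ≠ χ := fun φ hφ h => hχS₁ (h ▸ hφ)
  have hdpos : ∀ φ ∈ S, 0 < d φ := by
    intro φ hφ
    rcases Nat.eq_zero_or_pos (d φ) with h | h
    · exfalso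
      apply IsIrrCharacter.apply_one_ne_zero (hirr φ hφ)
      rw [hd φ hφ, h, Nat.cast_zero]
    · exact h
  have he0 : 0 < d χ₁ := hdpos χ₁ hχ₁S
  choose! m hm using hdvd
  obtain ⟨a, ha⟩ := hdvdχ
  have hmχ₁ : m χ₁ = 1 := by
    have h := hm χ₁ hχ₁
    have h' : d χ₁ * m χ₁ = d χ₁ * 1 := by rw [← h, mul_one]
    exact Nat.eq_of_mul_eq_mul_left he0 h'
  have ha0 : 0 < a := by
    rcases Nat.eq_zero_or_pos a with h | h
    · exfalso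
      have h' := hdpos χ hχ
      rw [ha, h, mul_zero] at h'
      exact lt_irrefl 0 h'
    · exact h
  have hSig : 2 * a < ∑ φ ∈ S₁, m φ ^ 2 := by
    have h1 : ∑ φ ∈ S₁, d φ ^ 2 = d χ₁ ^ 2 * ∑ φ ∈ S₁, m φ ^ 2 := by
      rw [Finset.mul_sum]
      refine Finset.sum_congr rfl fun φ hφ => ?_
      rw [hm φ hφ]; ring
    rw [h1, ha] at hineq
    have h2 : d χ₁ ^ 2 * (2 * a) < d χ₁ ^ 2 * ∑ φ ∈ S₁, m φ ^ 2 := by
      calc d χ₁ ^ 2 * (2 * a) = 2 * (d χ₁ * a) * d χ₁ := by ring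
        _ < _ := hineq
    exact Nat.lt_of_mul_lt_mul_left h2
  have hχ1 : χ 1 = (d χ₁ : ℂ) * a := by rw [hd χ hχ, ha]; push_cast; ring
  have hφ1 : ∀ φ ∈ S₁, φ 1 = (d χ₁ : ℂ) * m φ := fun φ hφ => by
    rw [hd φ (hmemS φ hφ), hm φ hφ]; push_cast; ring
  have hχ₁1 : χ₁ 1 = (d χ₁ : ℂ) := hd χ₁ hχ₁S
  obtain ⟨β, hβ⟩ : ∃ β : L → ℂ, β = χ + (-(a : ℤ)) • χ₁ := ⟨_, rfl⟩
  have hβmem : β ∈ zspanOn S {1}ᶜ := by
    rw [hβ]
    refine mem_zspanOn_one.mpr ⟨zs_add (zs_mem hχ) (zs_smul _ (zs_mem hχ₁S)), ?_⟩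
    rw [Pi.add_apply, Pi.smul_apply, hχ1, hχ₁1, zsmul_eq_mul]
    push_cast; ring
  have hγmem₁ : ∀ φ ∈ S₁, φ + (-(m φ : ℤ)) • χ₁ ∈ zspanOn (↑S₁ : Set (L → ℂ)) {1}ᶜ := by
    intro φ hφ
    refine mem_zspanOn_one.mpr ⟨zs_add (hmem φ hφ) (zs_smul _ (hmem χ₁ hχ₁)), ?_⟩
    rw [Pi.add_apply, Pi.smul_apply, hφ1 φ hφ, hχ₁1, zsmul_eq_mul]
    push_cast; ring
  have hon : ∀ {f : L → ℂ}, f ∈ zspanOn (↑S₁ : Set (L → ℂ)) {1}ᶜ → f ∈ zspanOn S {1}ᶜ :=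
    fun hf => ⟨hsubS hf.1, hf.2⟩
  obtain ⟨Y, hY⟩ : ∃ Y, Y = τ β := ⟨_, rfl⟩
  have hYgen : IsGeneralizedCharacter G Y := by rw [hY]; exact hτgen _ hβmem
  have hY1 : Y 1 = 0 := by rw [hY]; exact hτ1 _ hβmem
  have hYY : classInner Y Y = 1 + (a : ℂ) ^ 2 := by
    rw [hY, hτiso _ hβmem _ hβmem, hβ]
    simp only [classInner_add_left, classInner_add_right, classInner_zsmul_left,
      classInner_zsmul_right]
    rw [hnorm χ hχ, hnorm χ₁ hχ₁S, horth χ hχ χ₁ hχ₁S (Ne.symm (hχne χ₁ hχ₁)),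
      horth χ₁ hχ₁S χ hχ (hχne χ₁ hχ₁)]
    push_cast; ring
  have hcint : ∀ φ ∈ S₁, ∃ k : ℤ, classInner Y (τ₁ φ) = k := fun φ hφ =>
    classInner_gen_int hYgen (h1gen φ (hmem φ hφ))
  choose! c hc using hcint
  have hτ₁γ : ∀ φ ∈ S₁, τ₁ (φ + (-(m φ : ℤ)) • χ₁) = τ₁ φ + (-(m φ : ℤ)) • τ₁ χ₁ := by
    intro φ hφ
    rw [h1add _ (hmem φ hφ) _ (zs_smul _ (hmem χ₁ hχ₁)), h1smul _ (hmem χ₁ hχ₁)]
  obtain ⟨y, hy⟩ : ∃ y : ℤ, y = c χ₁ + a := ⟨_, rfl⟩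
  have hcφ : ∀ φ ∈ S₁, φ ≠ χ₁ → c φ = m φ * y := by
    intro φ hφ hne
    have h1 : classInner Y (τ₁ (φ + (-(m φ : ℤ)) • χ₁)) =
        classInner β (φ + (-(m φ : ℤ)) • χ₁) := by
      rw [hag _ (hγmem₁ φ hφ), hY, hτiso _ hβmem _ (hon (hγmem₁ φ hφ))]
    rw [hτ₁γ φ hφ, hβ] at h1
    simp only [classInner_add_left, classInner_add_right, classInner_zsmul_left,
      classInner_zsmul_right] at h1
    rw [hc φ hφ, hc χ₁ hχ₁, horth χ hχ φ (hmemS φ hφ) (Ne.symm (hχne φ hφ)),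
      horth χ hχ χ₁ hχ₁S (Ne.symm (hχne χ₁ hχ₁)), hnorm χ₁ hχ₁S,
      horth χ₁ hχ₁S φ (hmemS φ hφ) (Ne.symm hne)] at h1
    have h2 : (c φ : ℂ) = ((m φ * y : ℤ) : ℂ) := by
      rw [hy]; push_cast; push_cast at h1; linear_combination h1
    exact_mod_cast h2
  have hv : ∀ i ∈ S₁, ∀ j ∈ S₁, classInner (τ₁ i) (τ₁ j) = if i = j then 1 else 0 := by
    intro i hi j hj
    rw [h1iso _ (hmem i hi) _ (hmem j hj),
      classInner_isIrrCharacter (hirr i (hmemS i hi)) (hirr j (hmemS j hj))]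
    by_cases h : i = j
    · rw [if_pos h, if_pos h]
    · rw [if_neg h, if_neg h]
  obtain ⟨hXorth, hpy⟩ := pythag S₁ τ₁ hv Y
  obtain ⟨X, hX⟩ : ∃ X, X = Y - ∑ j ∈ S₁, classInner Y (τ₁ j) • τ₁ j := ⟨_, rfl⟩
  rw [← hX] at hXorth hpy
  have hXgen : IsGeneralizedCharacter G X := by
    rw [hX]
    refine IsGeneralizedCharacter.sub hYgen (IsGeneralizedCharacter.sum _ _ fun j hj => ?_)
    rw [hc j hj]
    exact IsGeneralizedCharacter.intCast_smul (h1gen j (hmem j hj)) _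
  obtain ⟨n, hn⟩ := classInner_gen_int hXgen hXgen
  have hn0 : 0 ≤ n := by
    have := classInner_self_re_nonneg X
    rw [hn, Complex.intCast_re] at this
    exact_mod_cast this
  have hcχ₁' : c χ₁ = y - a := by rw [hy]; ring
  have hsumc : ∑ i ∈ S₁, classInner Y (τ₁ i) * (starRingEnd ℂ) (classInner Y (τ₁ i)) =
      (((y - a) ^ 2 + y ^ 2 * ((∑ φ ∈ S₁, (m φ : ℤ) ^ 2) - 1) : ℤ) : ℂ) := by
    rw [← Finset.add_sum_erase S₁ _ hχ₁,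
      ← Finset.add_sum_erase S₁ (fun φ => (m φ : ℤ) ^ 2) hχ₁]
    have h2 : ∑ i ∈ S₁.erase χ₁, classInner Y (τ₁ i) * (starRingEnd ℂ) (classInner Y (τ₁ i)) =
        ((y ^ 2 * ∑ φ ∈ S₁.erase χ₁, (m φ : ℤ) ^ 2 : ℤ) : ℂ) := by
      rw [Finset.mul_sum, Int.cast_sum]
      refine Finset.sum_congr rfl fun i hi => ?_
      have hi' := Finset.mem_of_mem_erase hi
      rw [hc i hi', hcφ i hi' (Finset.ne_of_mem_erase hi), map_intCast]
      push_cast; ring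
    rw [h2, hc χ₁ hχ₁, map_intCast, hcχ₁', hmχ₁]
    push_cast; ring
  rw [hYY, hsumc, hn] at hpy
  obtain ⟨s, hs⟩ : ∃ s : ℤ, s = ∑ φ ∈ S₁, (m φ : ℤ) ^ 2 := ⟨_, rfl⟩
  rw [← hs] at hpy
  have hmain : (1 : ℤ) + (a : ℤ) ^ 2 = (y - a) ^ 2 + y ^ 2 * (s - 1) + n := by
    exact_mod_cast hpy
  have hs2 : 2 * (a : ℤ) + 1 ≤ s := by
    have h : ((2 * a : ℕ) : ℤ) < ((∑ φ ∈ S₁, m φ ^ 2 : ℕ) : ℤ) := by exact_mod_cast hSig
    push_cast at h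
    rw [← hs] at h
    omega
  have haZ : (1 : ℤ) ≤ a := by exact_mod_cast ha0
  have hid : n + y ^ 2 * (s - 2 * a - 1) + 2 * a * (y * (y - 1)) + y ^ 2 = 1 := by
    linear_combination (-1 : ℤ) * hmain
  have hyy : 0 ≤ y * (y - 1) := by
    rcases le_or_gt y 0 with h | h
    · nlinarith
    · nlinarith
  have hy2 : 0 ≤ y ^ 2 := sq_nonneg y
  have hterm2 : 0 ≤ y ^ 2 * (s - 2 * a - 1) := mul_nonneg hy2 (by linarith)
  have hterm3 : 0 ≤ 2 * (a : ℤ) * (y * (y - 1)) := mul_nonneg (by linarith) hyy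
  have hsC : (s : ℂ) = 1 + ∑ φ ∈ S₁.erase χ₁, (m φ : ℂ) ^ 2 := by
    rw [hs, ← Finset.add_sum_erase S₁ _ hχ₁, hmχ₁]
    push_cast; ring
  have hnτ : classInner (τ₁ χ₁) (τ₁ χ₁) = 1 := by
    rw [h1iso _ (hmem χ₁ hχ₁) _ (hmem χ₁ hχ₁), hnorm χ₁ hχ₁S]
  have hy0 : y = 0 := by
    by_contra hyne
    have hy2' : 1 ≤ y ^ 2 := by
      have h : 0 < y ^ 2 := lt_of_le_of_ne (sq_nonneg y) (Ne.symm (pow_ne_zero 2 hyne))
      omega
    have hn' : n = 0 := by linarith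
    have hy2'' : y ^ 2 = 1 := by linarith
    have h3 : 2 * (a : ℤ) * (y * (y - 1)) = 0 := by linarith
    have h2 : y ^ 2 * (s - 2 * a - 1) = 0 := by linarith
    have hy1 : y = 1 := by
      have h4 : y * (y - 1) = 0 := by
        rcases mul_eq_zero.1 h3 with h | h
        · omega
        · exact h
      rcases mul_eq_zero.1 h4 with h | h
      · exact absurd h hyne
      · omega
    have hs' : s = 2 * a + 1 := by
      rw [hy2'', one_mul] at h2; omega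
    have hX0 : X = 0 := eq_zero_of_classInner_self_eq_zero (by rw [hn, hn', Int.cast_zero])
    have hYsum : Y = ∑ j ∈ S₁, classInner Y (τ₁ j) • τ₁ j := by
      rw [hX0] at hX; exact sub_eq_zero.mp hX.symm
    obtain ⟨t, ht⟩ : ∃ t : ℂ, t = τ₁ χ₁ 1 := ⟨_, rfl⟩
    have hτ₁1 : ∀ φ ∈ S₁, τ₁ φ 1 = (m φ : ℂ) * t := by
      intro φ hφ
      have h1 := hτ1 _ (hon (hγmem₁ φ hφ))
      rw [← hag _ (hγmem₁ φ hφ), hτ₁γ φ hφ, Pi.add_apply, Pi.smul_apply, zsmul_eq_mul] at h1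
      rw [ht]; push_cast at h1; linear_combination h1
    have h0 : t * ((a : ℂ) + 1) = 0 := by
      have h1 := congrFun hYsum 1
      rw [hY1, Finset.sum_apply, ← Finset.add_sum_erase S₁ _ hχ₁] at h1
      simp only [Pi.smul_apply, smul_eq_mul] at h1
      have h2 : ∑ j ∈ S₁.erase χ₁, classInner Y (τ₁ j) * τ₁ j 1 =
          t * ∑ j ∈ S₁.erase χ₁, (m j : ℂ) ^ 2 := by
        rw [Finset.mul_sum]
        refine Finset.sum_congr rfl fun j hj => ?_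
        have hj' := Finset.mem_of_mem_erase hj
        rw [hc j hj', hcφ j hj' (Finset.ne_of_mem_erase hj), hτ₁1 j hj', hy1]
        push_cast; ring
      rw [h2, hc χ₁ hχ₁, hτ₁1 χ₁ hχ₁, hmχ₁, hcχ₁', hy1] at h1
      have h5 : ∑ j ∈ S₁.erase χ₁, (m j : ℂ) ^ 2 = (s : ℂ) - 1 := by rw [hsC]; ring
      rw [h5, hs'] at h1
      push_cast at h1
      linear_combination -h1
    obtain ⟨β', hβ'⟩ := norm_one_cases (h1gen χ₁ (hmem χ₁ hχ₁)) hnτ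
    have ht0 : t ≠ 0 := by
      rw [ht]
      rcases hβ' with h | h
      · rw [h]; exact IsIrrCharacter.apply_one_ne_zero β'.2
      · rw [h, Pi.neg_apply, neg_ne_zero]; exact IsIrrCharacter.apply_one_ne_zero β'.2
    have h6 : (a : ℂ) + 1 = 0 := by
      rcases mul_eq_zero.1 h0 with h | h
      · exact absurd h ht0
      · exact h
    have h7 : ((a + 1 : ℕ) : ℂ) = 0 := by push_cast; exact h6
    exact absurd (Nat.cast_eq_zero.1 h7) (Nat.succ_ne_zero a)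
  have hn1 : n = 1 := by
    rw [hy0] at hid
    simpa using hid
  have hXX : classInner X X = 1 := by rw [hn, hn1, Int.cast_one]
  have hcχ₁ : c χ₁ = -a := by rw [hcχ₁', hy0]; ring
  have hcφ0 : ∀ φ ∈ S₁, φ ≠ χ₁ → c φ = 0 := fun φ hφ hne => by
    rw [hcφ φ hφ hne, hy0, mul_zero]
  have hYX : Y = X + (-(a : ℤ)) • τ₁ χ₁ := by
    have h1 : ∑ j ∈ S₁, classInner Y (τ₁ j) • τ₁ j = (-(a : ℤ)) • τ₁ χ₁ := by
      rw [Finset.sum_eq_single χ₁]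
      · rw [hc χ₁ hχ₁, hcχ₁, Int.cast_smul_eq_zsmul]
      · intro j hj hne
        rw [hc j hj, hcφ0 j hj hne, Int.cast_zero, zero_smul]
      · intro h; exact absurd hχ₁ h
    rw [h1] at hX
    rw [hX]; abel
  obtain ⟨τ₂, hτ₂⟩ : ∃ τ₂ : (L → ℂ) → (G → ℂ),
      ∀ f, τ₂ f = τ₁ (f - classInner f χ • χ) + classInner f χ • X := ⟨_, fun _ => rfl⟩
  have o1 : ∀ f₁ ∈ zspan (↑S₁ : Set (L → ℂ)), classInner f₁ χ = 0 := fun f₁ hf₁ =>
    inner_zspan_eq_zero (fun φ hφ => horth φ (hS₁ hφ) χ hχ (hχne φ (Finset.mem_coe.1 hφ))) hf₁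
  have o1' : ∀ f₁ ∈ zspan (↑S₁ : Set (L → ℂ)), classInner χ f₁ = 0 := fun f₁ hf₁ => by
    rw [← classInner_conj_symm, o1 f₁ hf₁, map_zero]
  have o2 : ∀ f₁ ∈ zspan (↑S₁ : Set (L → ℂ)), classInner X (τ₁ f₁) = 0 := by
    intro f₁ hf₁
    change f₁ ∈ Submodule.span ℤ (↑S₁ : Set (L → ℂ)) at hf₁
    induction hf₁ using Submodule.span_induction with
    | mem ψ hψ => exact hXorth ψ (Finset.mem_coe.1 hψ)
    | zero =>
      have h0 : τ₁ 0 = 0 := by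
        have := h1smul 0 (Submodule.zero_mem _) 0
        rwa [zero_smul, zero_smul] at this
      rw [h0, classInner_zero_right]
    | add x y hx hy px py =>
      rw [h1add x hx y hy, classInner_add_right, px, py, add_zero]
    | smul k x hx px =>
      rw [h1smul x hx k, classInner_zsmul_right, px, mul_zero]
  have o2' : ∀ f₁ ∈ zspan (↑S₁ : Set (L → ℂ)), classInner (τ₁ f₁) X = 0 := fun f₁ hf₁ => by
    rw [← classInner_conj_symm, o2 f₁ hf₁, map_zero]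
  have KF : ∀ f₁ ∈ zspan (↑S₁ : Set (L → ℂ)), ∀ k : ℤ, τ₂ (f₁ + k • χ) = τ₁ f₁ + k • X := by
    intro f₁ hf₁ k
    have hκ : classInner (f₁ + k • χ) χ = (k : ℂ) := by
      rw [classInner_add_left, classInner_zsmul_left, o1 f₁ hf₁, hnorm χ hχ]; ring
    rw [hτ₂, hκ, Int.cast_smul_eq_zsmul, Int.cast_smul_eq_zsmul, add_sub_cancel_right]
  have hdec : ∀ f ∈ zspan (↑S₁ ∪ {χ} : Set (L → ℂ)),
      ∃ f₁ ∈ zspan (↑S₁ : Set (L → ℂ)), ∃ k : ℤ, f = f₁ + k • χ :=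
    fun f hf => zspan_union_singleton hf
  refine ⟨⟨α₀, ⟨zs_mono Set.subset_union_left hα₀.1, hα₀.2⟩, hα₀ne⟩, τ₂, ⟨?_, ?_, ?_, ?_⟩, ?_⟩
  · intro f hf g hg
    obtain ⟨f₁, hf₁, k, rfl⟩ := hdec f hf
    obtain ⟨g₁, hg₁, l, rfl⟩ := hdec g hg
    have e1 : f₁ + k • χ + (g₁ + l • χ) = (f₁ + g₁) + (k + l) • χ := by module
    rw [e1, KF _ (zs_add hf₁ hg₁), KF _ hf₁, KF _ hg₁, h1add _ hf₁ _ hg₁]
    module
  · intro f hf n'
    obtain ⟨f₁, hf₁, k, rfl⟩ := hdec f hf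
    have e1 : n' • (f₁ + k • χ) = n' • f₁ + (n' * k) • χ := by module
    rw [e1, KF _ (zs_smul n' hf₁), KF _ hf₁, h1smul _ hf₁]
    module
  · intro f hf g hg
    obtain ⟨f₁, hf₁, k, rfl⟩ := hdec f hf
    obtain ⟨g₁, hg₁, l, rfl⟩ := hdec g hg
    rw [KF _ hf₁, KF _ hg₁]
    simp only [classInner_add_left, classInner_add_right, classInner_zsmul_left,
      classInner_zsmul_right]
    rw [h1iso _ hf₁ _ hg₁, o2 g₁ hg₁, o2' f₁ hf₁, hXX, o1 f₁ hf₁, o1' g₁ hg₁, hnorm χ hχ]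
  · intro f hf
    obtain ⟨f₁, hf₁, k, rfl⟩ := hdec f hf
    rw [KF _ hf₁, ← Int.cast_smul_eq_zsmul ℂ k X]
    exact IsGeneralizedCharacter.add (h1gen _ hf₁) (IsGeneralizedCharacter.intCast_smul hXgen k)
  · intro f hf
    obtain ⟨hfs, hf1⟩ := mem_zspanOn_one.mp hf
    obtain ⟨f₁, hf₁, k, rfl⟩ := hdec f hfs
    rw [KF _ hf₁]
    have hf₁1 : f₁ 1 = -((k : ℂ) * ((d χ₁ : ℂ) * a)) := by
      rw [Pi.add_apply, Pi.smul_apply, hχ1, zsmul_eq_mul] at hf1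
      linear_combination hf1
    have hm1 : f₁ + (k * a) • χ₁ ∈ zspanOn (↑S₁ : Set (L → ℂ)) {1}ᶜ := by
      refine mem_zspanOn_one.mpr ⟨zs_add hf₁ (zs_smul _ (hmem χ₁ hχ₁)), ?_⟩
      rw [Pi.add_apply, Pi.smul_apply, hf₁1, hχ₁1, zsmul_eq_mul]
      push_cast; ring
    have e1 : f₁ + k • χ = (f₁ + (k * a) • χ₁) + k • β := by rw [hβ]; module
    have hkβ : k • β ∈ zspanOn S {1}ᶜ := by
      refine mem_zspanOn_one.mpr ⟨zs_smul _ hβmem.1, ?_⟩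
      rw [Pi.smul_apply, (mem_zspanOn_one.mp hβmem).2, smul_zero]
    rw [e1, hτadd _ (hon hm1) _ hkβ, hτsmul _ hβmem, ← hag _ hm1, ← hY, hYX,
      h1add _ hf₁ _ (zs_smul _ (hmem χ₁ hχ₁)), h1smul _ (hmem χ₁ hχ₁)]
    module

/-- adding single characters one at a time -/
theorem add_singles [DecidableEq (L → ℂ)] (S : Set (L → ℂ))
    (hirr : ∀ χ ∈ S, IsIrrCharacter L χ)
    (τ : (L → ℂ) → (G → ℂ)) (hτ : IsLinearIsometryOn (zspanOn S {1}ᶜ) τ)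
    (hτ1 : ∀ α ∈ zspanOn S {1}ᶜ, τ α 1 = 0)
    (d : (L → ℂ) → ℕ) (hd : ∀ φ ∈ S, φ 1 = (d φ : ℂ))
    (FA : Finset (L → ℂ)) (hFAS : (↑FA : Set (L → ℂ)) ⊆ S)
    (hA : IsCoherent (↑FA : Set (L → ℂ)) {1}ᶜ τ)
    (χ₁ : L → ℂ) (hχ₁ : χ₁ ∈ FA) (hdvdall : ∀ φ ∈ S, d χ₁ ∣ d φ)
    (bound : ℕ) (hbound : bound ≤ ∑ φ ∈ FA, d φ ^ 2)
    (FB : Finset (L → ℂ)) (hFBS : (↑FB : Set (L → ℂ)) ⊆ S)
    (hFB : ∀ χ ∈ FB, 2 * d χ * d χ₁ < bound) :
    ∀ T : Finset (L → ℂ), T ⊆ FB → IsCoherent (↑(FA ∪ T) : Set (L → ℂ)) {1}ᶜ τ := by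
  intro T
  induction T using Finset.induction_on with
  | empty =>
    intro _
    rw [Finset.union_empty]; exact hA
  | insert χ T hχT ih =>
    intro hsub
    have hTB : T ⊆ FB := fun x hx => hsub (Finset.mem_insert_of_mem hx)
    have ih' := ih hTB
    by_cases hmemχ : χ ∈ FA ∪ T
    · have hEq : FA ∪ insert χ T = FA ∪ T := by
        ext x
        simp only [Finset.mem_union, Finset.mem_insert]
        constructor
        · rintro (h | h | h)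
          · exact Or.inl h
          · rw [h]; exact Finset.mem_union.1 hmemχ
          · exact Or.inr h
        · rintro (h | h)
          · exact Or.inl h
          · exact Or.inr (Or.inr h)
      rw [hEq]; exact ih'
    · have hχB : χ ∈ FB := hsub (Finset.mem_insert_self χ T)
      have hS₁S : (↑(FA ∪ T) : Set (L → ℂ)) ⊆ S := by
        intro φ hφ
        rw [Finset.mem_coe, Finset.mem_union] at hφ
        rcases hφ with h | h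
        · exact hFAS (Finset.mem_coe.2 h)
        · exact hFBS (Finset.mem_coe.2 (hTB h))
      have hsum : ∑ φ ∈ FA, d φ ^ 2 ≤ ∑ φ ∈ FA ∪ T, d φ ^ 2 :=
        Finset.sum_le_sum_of_subset Finset.subset_union_left
      have hχS : χ ∈ S := hFBS (Finset.mem_coe.2 hχB)
      have key := single_ext S hirr τ hτ hτ1 d hd (FA ∪ T) hS₁S ih' χ₁
        (Finset.mem_union_left _ hχ₁)
        (fun φ hφ => hdvdall φ (hS₁S (Finset.mem_coe.2 hφ))) χ hχS hmemχ (hdvdall χ hχS)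
        (lt_of_lt_of_le (hFB χ hχB) (hbound.trans hsum))
      have hset : (↑(FA ∪ T) ∪ {χ} : Set (L → ℂ)) = ↑(FA ∪ insert χ T) := by
        ext x
        simp only [Set.mem_union, Finset.mem_coe, Finset.mem_union, Set.mem_singleton_iff,
          Finset.mem_insert]
        tauto
      rw [hset] at key; exact key

end se

end Cfsg.Agent.Lib.Lead.Se
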