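import Mathlib
import Cfsg.Agent.Lib.Lead.Se1
import Cfsg.Agent.Lib.Lead.Coh11

set_option autoImplicit false
open Cfsg

namespace Cfsg.Agent.Lib.Lead.Se

open Cfsg.Agent.Lib.Helper6 Cfsg.Agent.Lib.Lead.Coh
open scoped commutatorElement

theorem s1519_arithN (t l a iC rD cK cC cD cL : ℕ) (hl : 0 < l) (hcD : 0 < cD) (hcC : 0 < cC)
    (h1 : t ^ 2 * (cD * cC) ≤ cK ^ 2) (hK : l * cK = cL) (hC : iC * cC = cL)
    (hD : rD * cD = cC) (hlt : 4 * iC ^ 2 * rD < (a - 1) ^ 2) :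
    2 * (l * t) * l < l * (a - 1) := by
  have h2 : t ^ 2 * l ^ 2 * (cD * cC) ≤ iC ^ 2 * rD * (cD * cC) := by
    calc t ^ 2 * l ^ 2 * (cD * cC) = l ^ 2 * (t ^ 2 * (cD * cC)) := by ring
      _ ≤ l ^ 2 * cK ^ 2 := Nat.mul_le_mul_left _ h1
      _ = (l * cK) ^ 2 := by ring
      _ = (iC * cC) ^ 2 := by rw [hK, hC]
      _ = iC ^ 2 * cC * (rD * cD) := by rw [hD]; ring
      _ = iC ^ 2 * rD * (cD * cC) := by ring
  have h3 : t ^ 2 * l ^ 2 ≤ iC ^ 2 * rD :=
    Nat.le_of_mul_le_mul_right h2 (Nat.mul_pos hcD hcC)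
  have h4 : (2 * t * l) ^ 2 < (a - 1) ^ 2 := by
    calc (2 * t * l) ^ 2 = 4 * (t ^ 2 * l ^ 2) := by ring
      _ ≤ 4 * (iC ^ 2 * rD) := Nat.mul_le_mul_left _ h3
      _ = 4 * iC ^ 2 * rD := by ring
      _ < (a - 1) ^ 2 := hlt
  have h5 : 2 * t * l < a - 1 := (Nat.pow_lt_pow_iff_left (by norm_num)).1 h4
  calc 2 * (l * t) * l = l * (2 * t * l) := by ring
    _ < l * (a - 1) := mul_lt_mul_of_pos_left h5 hl

section chain
variable {L : Type*} [Group L] [Fintype L] {G : Type*} [Group G] [Fintype G]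

theorem isoOn_mono {T T' : Set (L → ℂ)} (h : T ⊆ T') {τ : (L → ℂ) → (G → ℂ)}
    (hτ : IsLinearIsometryOn (zspanOn T' {1}ᶜ) τ) : IsLinearIsometryOn (zspanOn T {1}ᶜ) τ := by
  obtain ⟨h1, h2, h3, h4⟩ := hτ
  have up : ∀ {α : L → ℂ}, α ∈ zspanOn T {1}ᶜ → α ∈ zspanOn T' {1}ᶜ :=
    fun hα => ⟨zs_mono h hα.1, hα.2⟩
  exact ⟨fun α hα β hβ => h1 α (up hα) β (up hβ), fun α hα n => h2 α (up hα) n,
    fun α hα β hβ => h3 α (up hα) β (up hβ), fun α hα => h4 α (up hα)⟩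

theorem s1519F (K : Subgroup L) [hK : K.Normal] (hsolv : Group.IsSolvable K)
    (τ : (L → ℂ) → (G → ℂ))
    (hirr : ∀ φ ∈ inducedIrrAbove K ⊥, IsIrrCharacter L φ)
    (hτ : IsLinearIsometryOn (zspanOn (inducedIrrAbove K ⊥) {1}ᶜ) τ)
    (hτ1 : ∀ α ∈ zspanOn (inducedIrrAbove K ⊥) {1}ᶜ, τ α 1 = 0)
    (A B C D : Subgroup L) [A.Normal] [B.Normal] [C.Normal] [D.Normal] (hAK : A < K)
    (hBA : B ≤ A) (hDC : D ≤ C) (hCK : C ≤ K)
    (hcent : ∀ x ∈ D, ∀ y ∈ C, x * y * x⁻¹ * y⁻¹ ∈ B)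
    (hA : IsCoherent (inducedIrrAbove K A) {1}ᶜ τ)
    (hlt : 4 * C.index ^ 2 * D.relIndex C < (A.relIndex K - 1) ^ 2) :
    IsCoherent (inducedIrrAbove K B) {1}ᶜ τ := by
  classical
  haveI : Fintype K := Fintype.ofFinite K
  have hd : ∀ φ ∈ inducedIrrAbove K ⊥, φ 1 = (((charDegree : (L → ℂ) → ℕ) φ : ℕ) : ℂ) :=
    fun φ hφ => IsCharacter.apply_one_eq_charDegree (iia_isCharacter K ⊥ hφ)
  set FA := (iia_finite K A).toFinset with hFA
  set FB := (iia_finite K B).toFinset with hFB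
  have hFAc : (↑FA : Set (L → ℂ)) = inducedIrrAbove K A := Set.Finite.coe_toFinset _
  have hFBc : (↑FB : Set (L → ℂ)) = inducedIrrAbove K B := Set.Finite.coe_toFinset _
  have hFAmem : ∀ φ, φ ∈ FA ↔ φ ∈ inducedIrrAbove K A := fun φ => Set.Finite.mem_toFinset _
  have hFBmem : ∀ φ, φ ∈ FB ↔ φ ∈ inducedIrrAbove K B := fun φ => Set.Finite.mem_toFinset _
  obtain ⟨χ₁, hχ₁A, hχ₁1⟩ := exists_linear_iia K A hsolv hAK
  have hdχ₁ : charDegree χ₁ = K.index := by
    have := hd χ₁ (iia_mono K bot_le hχ₁A)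
    rw [hχ₁1] at this
    exact_mod_cast this.symm
  have hdind : ∀ θ : K → ℂ, IsIrrCharacter K θ →
      charDegree (indFun K θ) = K.index * charDegree θ := by
    intro θ hθ
    have h2 := IsCharacter.apply_one_eq_charDegree
      (IsCharacter.indFun K (IsIrrCharacter.isCharacter hθ))
    rw [indFun_one, IsCharacter.apply_one_eq_charDegree (IsIrrCharacter.isCharacter hθ)] at h2
    exact_mod_cast h2.symm
  have hdvdall : ∀ φ ∈ inducedIrrAbove K ⊥,
      (charDegree : (L → ℂ) → ℕ) χ₁ ∣ (charDegree : (L → ℂ) → ℕ) φ := by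
    rintro φ ⟨θ, hθ, -, -, rfl⟩
    rw [hdχ₁, hdind θ hθ]; exact Dvd.intro _ rfl
  have hApos : 1 ≤ A.relIndex K :=
    Nat.pos_of_ne_zero (Subgroup.index_ne_zero_of_finite (H := A.subgroupOf K))
  have hFBbound : ∀ χ ∈ FB, 2 * (charDegree : (L → ℂ) → ℕ) χ * (charDegree : (L → ℂ) → ℕ) χ₁
      < K.index * (A.relIndex K - 1) := by
    intro χ hχ
    rw [hFBmem] at hχ
    obtain ⟨θ, hθ, hne, hker, rfl⟩ := hχ
    rw [hdχ₁, hdind θ hθ]
    have hb := deg_bound (C.subgroupOf K) (D.subgroupOf K) (B.subgroupOf K)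
      (fun x hx => hDC hx) (by
        intro x hx y hy
        have := hcent x hx y hy
        simpa [Subgroup.mem_subgroupOf] using this) hθ (fun b hb => hker b hb)
    have hcC : Nat.card (C.subgroupOf K) = Nat.card C :=
      Nat.card_congr (Subgroup.subgroupOfEquivOfLe hCK).toEquiv
    have hcD : Nat.card (D.subgroupOf K) = Nat.card D :=
      Nat.card_congr (Subgroup.subgroupOfEquivOfLe (hDC.trans hCK)).toEquiv
    rw [hcC, hcD] at hb
    have hDrel : D.relIndex C * Nat.card D = Nat.card C := by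
      have h1 : Nat.card (D.subgroupOf C) = Nat.card D :=
        Nat.card_congr (Subgroup.subgroupOfEquivOfLe hDC).toEquiv
      rw [← h1]
      exact (D.subgroupOf C).index_mul_card
    exact s1519_arithN (charDegree θ) K.index (A.relIndex K) C.index (D.relIndex C)
      (Nat.card K) (Nat.card C) (Nat.card D) (Nat.card L)
      (Nat.pos_of_ne_zero Subgroup.index_ne_zero_of_finite) Nat.card_pos Nat.card_pos hb
      K.index_mul_card C.index_mul_card hDrel hlt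
  have horth : ∀ χ ∈ inducedIrrAbove K ⊥, ∀ φ ∈ inducedIrrAbove K ⊥, χ ≠ φ →
      classInner χ φ = 0 := fun χ hχ φ hφ h => by
    rw [classInner_isIrrCharacter (hirr χ hχ) (hirr φ hφ), if_neg h]
  have hbound : K.index * (A.relIndex K - 1) ≤ ∑ φ ∈ FA, (charDegree : (L → ℂ) → ℕ) φ ^ 2 := by
    have h1 := sum_ge K A horth FA (by rw [hFAc]; exact iia_mono K bot_le)
      (fun φ hφ => by rw [hFAc]; exact hφ) (charDegree : (L → ℂ) → ℕ) (fun _ => 1) hd
      (fun φ hφ => by rw [irr_self (hirr φ hφ)]; simp)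
    simp only [Nat.cast_one, div_one] at h1
    have h2 : ((K.index * (A.relIndex K - 1) : ℕ) : ℝ)
        ≤ ((∑ φ ∈ FA, (charDegree : (L → ℂ) → ℕ) φ ^ 2 : ℕ) : ℝ) := by
      rw [Nat.cast_mul, Nat.cast_sub hApos, Nat.cast_one, Nat.cast_sum]
      simp only [Nat.cast_pow]
      exact h1
    exact_mod_cast h2
  have hcoh := add_singles (inducedIrrAbove K ⊥) hirr τ hτ hτ1 (charDegree : (L → ℂ) → ℕ) hd FA
    (by rw [hFAc]; exact iia_mono K bot_le) (by rw [hFAc]; exact hA) χ₁ ((hFAmem _).2 hχ₁A)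
    hdvdall (K.index * (A.relIndex K - 1)) hbound FB (by rw [hFBc]; exact iia_mono K bot_le)
    hFBbound FB (Finset.Subset.refl _)
  have hU : FA ∪ FB = FB := Finset.union_eq_right.2
    (fun φ hφ => (hFBmem φ).2 (iia_mono K hBA ((hFAmem φ).1 hφ)))
  rw [hU, hFBc] at hcoh
  exact hcoh

theorem s1520F (K : Subgroup L) [hK : K.Normal] (hsolv : Group.IsSolvable K)
    (τ : (L → ℂ) → (G → ℂ))
    (hirr : ∀ φ ∈ inducedIrrAbove K ⊥, IsIrrCharacter L φ)
    (hτ : IsLinearIsometryOn (zspanOn (inducedIrrAbove K ⊥) {1}ᶜ) τ)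
    (hτ1 : ∀ α ∈ zspanOn (inducedIrrAbove K ⊥) {1}ᶜ, τ α 1 = 0)
    (M H₁ H : Subgroup L) [M.Normal] [H₁.Normal] [H.Normal] (hMH₁ : M ≤ H₁) (hH₁H : H₁ ≤ H)
    (hHK : H ≤ K) [(M.subgroupOf H).Normal] (hnil : Group.IsNilpotent (↥H ⧸ M.subgroupOf H))
    (hcoh : IsCoherent (inducedIrrAbove K H₁) {1}ᶜ τ)
    (hbig : 4 * K.index ^ 2 + 1 < H₁.relIndex H) :
    IsCoherent (inducedIrrAbove K M) {1}ᶜ τ := by
  classical
  obtain ⟨φ, hφ⟩ := iia_nonempty_of_coherent K H₁ hcoh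
  have hH₁K : H₁ < K :=
    lt_of_le_of_ne (hH₁H.trans hHK) (fun h => not_le_of_mem_iia K hφ h.ge)
  have key : ∀ m : ℕ, ∀ B : Subgroup L, B.Normal → Nat.card B = m → M ≤ B → B ≤ H₁ →
      IsCoherent (inducedIrrAbove K B) {1}ᶜ τ → IsCoherent (inducedIrrAbove K M) {1}ᶜ τ := by
    intro m
    induction m using Nat.strong_induction_on with
    | _ m ih =>
      intro B hBn hBm hMB hBH₁ hBcoh
      by_cases hBM : B = M
      · rw [← hBM]; exact hBcoh
      · haveI := hBn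
        have hB₀n : (⁅H, B⁆ ⊔ M).Normal := inferInstance
        have hB₀B : ⁅H, B⁆ ⊔ M ≤ B := sup_le (Subgroup.commutator_le_right H B) hMB
        have hB₀ne : ⁅H, B⁆ ⊔ M ≠ B :=
          fun h => hBM (eq_of_commutator_sup_eq M B H hMB (hBH₁.trans hH₁H) hnil h)
        have hcard : Nat.card ↥(⁅H, B⁆ ⊔ M) < m := by
          rw [← hBm]
          by_contra hc
          exact hB₀ne (Subgroup.eq_of_le_of_card_ge hB₀B (not_lt.1 hc))
        have hBK : B < K := lt_of_le_of_lt hBH₁ hH₁K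
        have hcoh₀ : IsCoherent (inducedIrrAbove K (⁅H, B⁆ ⊔ M)) {1}ᶜ τ := by
          apply s1519F K hsolv τ hirr hτ hτ1 B (⁅H, B⁆ ⊔ M) H B hBK hB₀B
            (hBH₁.trans hH₁H) hHK ?_ hBcoh ?_
          · intro x hx y hy
            have h1 : ⁅x, y⁆ ∈ ⁅B, H⁆ := Subgroup.commutator_mem_commutator hx hy
            rw [Subgroup.commutator_comm] at h1
            exact (le_sup_left : ⁅H, B⁆ ≤ ⁅H, B⁆ ⊔ M) h1
          · have e1 : H.relIndex K * K.index = H.index := Subgroup.relIndex_mul_index hHK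
            have e2 : B.relIndex H * H.relIndex K = B.relIndex K :=
              Subgroup.relIndex_mul_relIndex B H K (hBH₁.trans hH₁H) hHK
            have e3 : B.relIndex H₁ * H₁.relIndex H = B.relIndex H :=
              Subgroup.relIndex_mul_relIndex B H₁ H hBH₁ hH₁H
            have hpos1 : 0 < B.relIndex H₁ :=
              Nat.pos_of_ne_zero (Subgroup.index_ne_zero_of_finite (H := B.subgroupOf H₁))
            have hk : 1 ≤ H.relIndex K :=
              Nat.pos_of_ne_zero (Subgroup.index_ne_zero_of_finite (H := H.subgroupOf K))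
            have hx : 4 * K.index ^ 2 + 2 ≤ B.relIndex H := by
              rw [← e3]
              calc 4 * K.index ^ 2 + 2 ≤ H₁.relIndex H := hbig
                _ ≤ B.relIndex H₁ * H₁.relIndex H := Nat.le_mul_of_pos_left _ hpos1
            rw [← e1, ← e2]
            exact s1520_arith K.index (H.relIndex K) (B.relIndex H) hk hx
        exact ih (Nat.card ↥(⁅H, B⁆ ⊔ M)) hcard (⁅H, B⁆ ⊔ M) hB₀n rfl le_sup_right
          (hB₀B.trans hBH₁) hcoh₀
  exact key (Nat.card H₁) H₁ inferInstance rfl hMH₁ le_rfl hcoh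

end chain

end Cfsg.Agent.Lib.Lead.Se
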