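import Mathlib
import Cfsg.Agent.Lib.Lead.Se2
import Cfsg.Agent.Lib.Lead.Coh13
import Cfsg.Agent.Lib.Lead.Sib4
import Cfsg.Agent.Lib.Lead.Frob1

set_option autoImplicit false
open Cfsg

namespace Cfsg.Agent.Lib.Lead.Se

open Cfsg.Agent.Lib.Helper6 Cfsg.Agent.Lib.Lead.Coh
open scoped commutatorElement

/-- a finite nilpotent group whose abelianisation has `p`-power exponent is a `p`-group -/
theorem card_eq_pow_of_pow_pow_mem_commutator {G : Type*} [Group G] [Finite G]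
    [Group.IsNilpotent G] (p : ℕ) [hp : Fact p.Prime] (a : ℕ)
    (h : ∀ g : G, g ^ (p ^ a) ∈ commutator G) :
    ∃ m : ℕ, Nat.card G = p ^ m := by
  classical
  obtain ⟨P⟩ : Nonempty (Sylow p G) := inferInstance
  haveI hPn : (P : Subgroup G).Normal := inferInstance
  have hidx : (P : Subgroup G).index = 1 := by
    by_contra hne
    haveI : Nontrivial (G ⧸ (P : Subgroup G)) := by
      rw [← Finite.one_lt_card_iff_nontrivial, ← Subgroup.index_eq_card]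
      have h0 : (P : Subgroup G).index ≠ 0 := Subgroup.index_ne_zero_of_finite
      omega
    have hlt := Group.IsSolvable.commutator_lt_top_of_nontrivial (G := G ⧸ (P : Subgroup G))
    obtain ⟨r, hr⟩ : ∃ r : G ⧸ (P : Subgroup G), r ∉ commutator (G ⧸ (P : Subgroup G)) := by
      by_contra hcon
      push Not at hcon
      exact (ne_of_lt hlt) (eq_top_iff.2 fun y _ => hcon y)
    obtain ⟨g, rfl⟩ := QuotientGroup.mk_surjective r
    have hrp : (QuotientGroup.mk' (P : Subgroup G) g) ^ (p ^ a)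
        ∈ commutator (G ⧸ (P : Subgroup G)) := by
      rw [← map_pow]
      have h1 : (commutator G).map (QuotientGroup.mk' (P : Subgroup G))
          ≤ commutator (G ⧸ (P : Subgroup G)) := by
        rw [_root_.commutator_def G, _root_.commutator_def (G ⧸ (P : Subgroup G)),
          Subgroup.map_commutator]
        exact Subgroup.commutator_mono le_top le_top
      exact h1 (Subgroup.mem_map_of_mem _ (h g))
    have ha1 : (QuotientGroup.mk (QuotientGroup.mk' (P : Subgroup G) g) :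
        (G ⧸ (P : Subgroup G)) ⧸ commutator (G ⧸ (P : Subgroup G))) ≠ 1 := by
      intro h1
      exact hr ((QuotientGroup.eq_one_iff _).1 h1)
    have hap : (QuotientGroup.mk (QuotientGroup.mk' (P : Subgroup G) g) :
        (G ⧸ (P : Subgroup G)) ⧸ commutator (G ⧸ (P : Subgroup G))) ^ (p ^ a) = 1 := by
      rw [← QuotientGroup.mk_pow]
      exact (QuotientGroup.eq_one_iff _).2 hrp
    have hdvd0 := orderOf_dvd_of_pow_eq_one hap
    obtain ⟨j, _, hoj⟩ := (Nat.dvd_prime_pow hp.out).1 hdvd0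
    have hj0 : j ≠ 0 := by
      rintro rfl
      rw [pow_zero, orderOf_eq_one_iff] at hoj
      exact ha1 hoj
    have hdvd1 : p ∣ Nat.card ((G ⧸ (P : Subgroup G)) ⧸ commutator (G ⧸ (P : Subgroup G))) := by
      have h5 := orderOf_dvd_natCard (QuotientGroup.mk (QuotientGroup.mk' (P : Subgroup G) g) :
        (G ⧸ (P : Subgroup G)) ⧸ commutator (G ⧸ (P : Subgroup G)))
      rw [hoj] at h5
      exact (dvd_pow_self p hj0).trans h5
    have hdvd2 : Nat.card ((G ⧸ (P : Subgroup G)) ⧸ commutator (G ⧸ (P : Subgroup G)))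
        ∣ Nat.card (G ⧸ (P : Subgroup G)) := by
      rw [← Subgroup.index_eq_card]
      exact Subgroup.index_dvd_card _
    have hdvd3 : p ∣ (P : Subgroup G).index := by
      rw [Subgroup.index_eq_card]
      exact hdvd1.trans hdvd2
    exact P.not_dvd_index hdvd3
  refine ⟨(Nat.card G).factorization p, ?_⟩
  rw [← P.card_eq_multiplicity, ← (P : Subgroup G).card_mul_index, hidx, mul_one]

section grp
variable {L : Type*} [Group L]

theorem map_commutator_subtype (K : Subgroup L) : (commutator K).map K.subtype = ⁅K, K⁆ := by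
  rw [_root_.commutator_def ↥K, Subgroup.map_commutator, ← MonoidHom.range_eq_map,
    Subgroup.range_subtype]

theorem prime_pow_of_pow_mem [Finite L] (K : Subgroup L) (hnil : Group.IsNilpotent K) (p : ℕ)
    (hp : p.Prime) (a : ℕ) (hpow : ∀ k ∈ K, k ^ (p ^ a) ∈ ⁅K, K⁆) :
    ∃ m : ℕ, Nat.card K = p ^ m := by
  haveI : Fact p.Prime := ⟨hp⟩
  haveI := hnil
  apply card_eq_pow_of_pow_pow_mem_commutator p a
  intro g
  have h1 := hpow g g.2
  rw [← map_commutator_subtype] at h1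
  obtain ⟨g', hg', e⟩ := Subgroup.mem_map.1 h1
  have e' : g' = g ^ (p ^ a) := by
    apply Subtype.ext
    rw [Subgroup.coe_pow]
    exact e
  rw [← e']
  exact hg'

theorem pow_relIndex_mem [Finite L] (K H : Subgroup L) [H.Normal] {k : L} (hk : k ∈ K) :
    k ^ (H.relIndex K) ∈ H := by
  have h1 : (QuotientGroup.mk (⟨k, hk⟩ : K) : ↥K ⧸ H.subgroupOf K) ^ (H.relIndex K) = 1 := by
    rw [Subgroup.relIndex, Subgroup.index_eq_card]
    exact pow_card_eq_one'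
  rw [← QuotientGroup.mk_pow, QuotientGroup.eq_one_iff, Subgroup.mem_subgroupOf] at h1
  simpa using h1

theorem lt_powSub [Finite L] (K H₁ : Subgroup L) [H₁.Normal] (hKK : ⁅K, K⁆ ≤ H₁) (hH₁K : H₁ ≤ K)
    (p : ℕ) (hp : p.Prime) (hpd : p ∣ H₁.relIndex K) : H₁ < powSub K H₁ hKK p := by
  haveI : Fact p.Prime := ⟨hp⟩
  have hH₁N : H₁ ≤ powSub K H₁ hKK p :=
    fun h hh => (mem_powSub _ _ _ _ _).2 ⟨hH₁K hh, Subgroup.pow_mem _ hh p⟩
  have hpd' : p ∣ Nat.card (↥K ⧸ H₁.subgroupOf K) := by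
    rw [← Subgroup.index_eq_card]; exact hpd
  obtain ⟨q, hq⟩ := exists_prime_orderOf_dvd_card' p hpd'
  obtain ⟨k, rfl⟩ := QuotientGroup.mk_surjective q
  have hk1 : (k : L) ∉ H₁ := by
    intro hk
    have h1 : (QuotientGroup.mk k : ↥K ⧸ H₁.subgroupOf K) = 1 :=
      (QuotientGroup.eq_one_iff k).2 (Subgroup.mem_subgroupOf.2 hk)
    rw [h1, orderOf_one] at hq
    exact hp.one_lt.ne hq
  have hk2 : (k : L) ∈ powSub K H₁ hKK p := by
    rw [mem_powSub]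
    refine ⟨k.2, ?_⟩
    have h1 : (QuotientGroup.mk k : ↥K ⧸ H₁.subgroupOf K) ^ p = 1 := by
      rw [← hq]; exact pow_orderOf_eq_one _
    rw [← QuotientGroup.mk_pow, QuotientGroup.eq_one_iff, Subgroup.mem_subgroupOf] at h1
    simpa using h1
  exact lt_of_le_of_ne hH₁N (fun e => hk1 (by rw [e]; exact hk2))

theorem comm_pow_mod (K : Subgroup L) [K.Normal] (x y : L) (hx : x ∈ K) (hy : y ∈ K) (n : ℕ) :
    (QuotientGroup.mk' ⁅⁅K, K⁆, K⁆) ⁅x ^ n, y⁆ = ((QuotientGroup.mk' ⁅⁅K, K⁆, K⁆) ⁅x, y⁆) ^ n := by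
  induction n with
  | zero => simp
  | succ n ih =>
    have hw : ⁅x ^ n, y⁆ ∈ ⁅K, K⁆ := Subgroup.commutator_mem_commutator (K.pow_mem hx n) hy
    have hc : ⁅x, ⁅x ^ n, y⁆⁆ ∈ ⁅⁅K, K⁆, K⁆ := by
      rw [Subgroup.commutator_comm ⁅K, K⁆ K]
      exact Subgroup.commutator_mem_commutator hx hw
    have hid : ⁅x ^ (n + 1), y⁆ = ⁅x, ⁅x ^ n, y⁆⁆ * ⁅x ^ n, y⁆ * ⁅x, y⁆ := by
      rw [pow_succ']
      simp only [commutatorElement_def]
      group
    have h1 : (QuotientGroup.mk' ⁅⁅K, K⁆, K⁆) ⁅x, ⁅x ^ n, y⁆⁆ = 1 :=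
      (QuotientGroup.eq_one_iff _).2 hc
    rw [hid, map_mul, map_mul, h1, one_mul, ih, pow_succ]

end grp

theorem arithA (e u v : ℕ) (he : 1 ≤ e) (hu : e + 1 ≤ u) (hv : e + 1 ≤ v) :
    4 * e ^ 2 * v < (u * v - 1) ^ 2 := by
  have h0 : (e + 1) * v ≤ u * v := Nat.mul_le_mul_right v hu
  have h0' : (e + 1) * v = e * v + v := by ring
  obtain ⟨w, hw⟩ : ∃ w, u * v = w + 1 := ⟨u * v - 1, by omega⟩
  rw [hw, Nat.add_sub_cancel]
  have h2 : e * v + e ≤ w := by omega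
  have h3 : (e * v + e) ^ 2 ≤ w ^ 2 := Nat.pow_le_pow_left h2 2
  have h4 : 4 * e ^ 2 * v < (e * v + e) ^ 2 := by
    obtain ⟨v', rfl⟩ : ∃ v', v = v' + 2 := ⟨v - 2, by omega⟩
    have h5 : (e * (v' + 2) + e) ^ 2 = 4 * e ^ 2 * (v' + 2) + e ^ 2 * (v' + 1) ^ 2 := by ring
    rw [h5]
    have he' : 0 < e := he
    exact Nat.lt_add_of_pos_right (by positivity)
  exact lt_of_lt_of_le h4 h3

theorem arithB (e u v w : ℕ) (he : 1 ≤ e) (hu : e + 1 ≤ u) (hv : e + 1 ≤ v) (hw : e + 1 ≤ w) :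
    4 * e ^ 2 + 1 < w * (u * v) := by
  have h1 : (e + 1) * ((e + 1) * (e + 1)) ≤ w * (u * v) :=
    Nat.mul_le_mul hw (Nat.mul_le_mul hu hv)
  obtain ⟨e', rfl⟩ : ∃ e', e = e' + 1 := ⟨e - 1, by omega⟩
  have h2 : (e' + 1 + 1) * ((e' + 1 + 1) * (e' + 1 + 1))
      = 4 * (e' + 1) ^ 2 + 1 + (e' ^ 3 + 2 * e' ^ 2 + 4 * e' + 3) := by ring
  omega

section feit
variable {L : Type*} [Group L] [Fintype L] {G : Type*} [Group G] [Fintype G]

/-- Feit's coherence theorem for Frobenius groups -/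
theorem feit (K : Subgroup L) [hKn : K.Normal] (hK1 : K ≠ ⊥) (hKnil : Group.IsNilpotent K)
    (hFK : ∀ k ∈ K, k ≠ 1 → ∀ x : L, x * k = k * x → x ∈ K) (hout : ∃ x : L, x ∉ K)
    (τ : (L → ℂ) → (G → ℂ))
    (hτ : IsLinearIsometryOn (zspanOn (inducedIrrAbove K ⊥) {1}ᶜ) τ)
    (hτ1 : ∀ α ∈ zspanOn (inducedIrrAbove K ⊥) {1}ᶜ, τ α 1 = 0)
    (he : Nat.card K ≠ K.index + 1) :
    IsCoherent (inducedIrrAbove K ⊥) {1}ᶜ τ ∨
    ∃ p : ℕ, p.Prime ∧ (∃ m : ℕ, Nat.card K = p ^ m) ∧ ¬ (⁅K, K⁆ ≤ (⊥ : Subgroup L)) ∧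
      (⁅K, K⁆).relIndex K ≤ 4 * K.index ^ 2 + 1 := by
  classical
  haveI : Fintype K := Fintype.ofFinite K
  haveI := hKnil
  haveI hsolv : Group.IsSolvable K := inferInstance
  have hirr : ∀ ξ ∈ inducedIrrAbove K ⊥, IsIrrCharacter L ξ := by
    rintro ξ ⟨θ, hθ, hθ1, -, rfl⟩
    exact Frob.indFun_irr_of_FK K hFK hθ hθ1
  have hK'K : ⁅K, K⁆ < K := Sib.commutator_lt_self K hK1
  have hnilq : Group.IsNilpotent (↥K ⧸ (⊥ : Subgroup L).subgroupOf K) := inferInstance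
  have he2 : 2 ≤ K.index := by
    have h1 : K.index ≠ 1 := fun h => by
      obtain ⟨x, hx⟩ := hout
      apply hx
      rw [Subgroup.index_eq_one.1 h]
      exact Subgroup.mem_top x
    have h0 : K.index ≠ 0 := Subgroup.index_ne_zero_of_finite
    omega
  obtain ⟨n, hndef⟩ : ∃ n, n = (⁅K, K⁆).relIndex K := ⟨_, rfl⟩
  have hn1 : 1 < n := hndef ▸ one_lt_relIndex hK'K
  have hge : ∀ (X Y : Subgroup L) [X.Normal] [Y.Normal], X < Y → Y ≤ K →
      K.index + 1 ≤ X.relIndex Y := by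
    intro X Y _ _ hXY hYK
    have h1 := frob_cong K X Y hXY.le hYK (Sib.frob_of_FK K hFK X (hXY.le.trans hYK))
    have h2 := one_lt_relIndex hXY
    obtain ⟨c, hc⟩ := h1
    have hc0 : c ≠ 0 := by
      rintro rfl
      omega
    have : K.index ≤ K.index * c := Nat.le_mul_of_pos_right _ (Nat.pos_of_ne_zero hc0)
    omega
  have hd : ∀ φ ∈ inducedIrrAbove K ⊥, φ 1 = (((charDegree : (L → ℂ) → ℕ) φ : ℕ) : ℂ) :=
    fun φ hφ => IsCharacter.apply_one_eq_charDegree (iia_isCharacter K ⊥ hφ)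
  have horth : ∀ χ ∈ inducedIrrAbove K ⊥, ∀ φ ∈ inducedIrrAbove K ⊥, χ ≠ φ →
      classInner χ φ = 0 := fun χ hχ φ hφ h => by
    rw [classInner_isIrrCharacter (hirr χ hχ) (hirr φ hφ), if_neg h]
  have hdegK' : ∀ φ ∈ inducedIrrAbove K ⁅K, K⁆, φ 1 = (K.index : ℂ) := by
    rintro φ ⟨θ, hθ, hne, hker, rfl⟩
    have hcle : commutator ↥K ≤ (⁅K, K⁆).subgroupOf K := by
      rw [_root_.commutator_def ↥K, Subgroup.commutator_le]
      intro a _ b _
      rw [Subgroup.mem_subgroupOf]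
      exact Subgroup.commutator_mem_commutator a.2 b.2
    rw [indFun_one, apply_one_of_commutator_le ((⁅K, K⁆).subgroupOf K) hcle hθ
      (fun x hx => hker x hx), mul_one]
  have hdegN : ∀ φ ∈ inducedIrrAbove K ⁅K, K⁆, (charDegree : (L → ℂ) → ℕ) φ = K.index := by
    intro φ hφ
    have h1 := hd φ (iia_mono K bot_le hφ)
    rw [hdegK' φ hφ] at h1
    exact_mod_cast h1.symm
  -- counting the characters of degree e
  obtain ⟨FA, hFA⟩ : ∃ FA : Finset (L → ℂ), FA = (iia_finite K ⁅K, K⁆).toFinset := ⟨_, rfl⟩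
  have hFAc : (↑FA : Set (L → ℂ)) = inducedIrrAbove K ⁅K, K⁆ := by
    rw [hFA]; exact Set.Finite.coe_toFinset _
  have hFAmem : ∀ φ, φ ∈ FA ↔ φ ∈ inducedIrrAbove K ⁅K, K⁆ := fun φ => by
    rw [hFA]; exact Set.Finite.mem_toFinset _
  have hcount : n = FA.card * K.index + 1 := by
    have h3 := sum_iia_eq K ⁅K, K⁆ horth FA (by rw [hFAc]; exact iia_mono K bot_le)
      (fun φ hφ => by rw [hFAc]; exact hφ) (charDegree : (L → ℂ) → ℕ) (fun _ => 1) hd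
      (fun φ hφ => by rw [irr_self (hirr φ hφ)]; simp)
    have h5 : (K.index : ℝ) * (((⁅K, K⁆).relIndex K : ℝ) - 1)
        = (FA.card : ℝ) * (K.index : ℝ) ^ 2 := by
      rw [h3]
      calc _ = ∑ φ ∈ FA, (K.index : ℝ) ^ 2 := Finset.sum_congr rfl (fun φ hφ => by
              rw [if_pos ((hFAmem φ).1 hφ), hdegN φ ((hFAmem φ).1 hφ)]; simp)
        _ = (FA.card : ℝ) * (K.index : ℝ) ^ 2 := by rw [Finset.sum_const, nsmul_eq_mul]
    have he0 : (K.index : ℝ) ≠ 0 := by exact_mod_cast Subgroup.index_ne_zero_of_finite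
    have h6 : (((⁅K, K⁆).relIndex K : ℝ)) - 1 = (FA.card : ℝ) * (K.index : ℝ) := by
      have h' : (K.index : ℝ) * (((⁅K, K⁆).relIndex K : ℝ) - 1)
          = (K.index : ℝ) * ((FA.card : ℝ) * K.index) := by rw [h5]; ring
      exact mul_left_cancel₀ he0 h'
    have h7 : (((⁅K, K⁆).relIndex K : ℕ) : ℝ) = ((FA.card * K.index + 1 : ℕ) : ℝ) := by
      push_cast; linarith
    rw [hndef]
    exact_mod_cast h7
  by_cases hn_e : n = K.index + 1
  · right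
    by_cases hab : ⁅K, K⁆ ≤ (⊥ : Subgroup L)
    · exfalso
      apply he
      have h1 : ⁅K, K⁆ = ⊥ := le_bot_iff.1 hab
      rw [hndef, h1, Subgroup.relIndex_bot_left] at hn_e
      exact hn_e
    · have hpp : ∃ p m : ℕ, p.Prime ∧ Nat.card K = p ^ m := by
        by_contra hnpp
        have hex : ∃ N : Subgroup L, N.Normal ∧ ⁅K, K⁆ ⊔ ⊥ < N ∧ N < K := by
          by_contra hno
          obtain ⟨p, m, hp, hpm⟩ := exists_pow_of_no_between K ⊥ bot_le hnilq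
            (by rw [sup_bot_eq]; exact hK'K) hno
          rw [Subgroup.relIndex_bot_left] at hpm
          exact hnpp ⟨p, m, hp, hpm⟩
        obtain ⟨N, hNn, hN1, hN2⟩ := hex
        rw [sup_bot_eq] at hN1
        haveI := hNn
        have g1 := hge ⁅K, K⁆ N hN1 hN2.le
        have g2 := hge N K hN2 le_rfl
        have e3 := Subgroup.relIndex_mul_relIndex ⁅K, K⁆ N K hN1.le hN2.le
        rw [← hndef, hn_e] at e3
        nlinarith
      obtain ⟨p, m, hp, hpm⟩ := hpp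
      refine ⟨p, hp, ⟨m, hpm⟩, hab, ?_⟩
      rw [← hndef, hn_e]
      nlinarith
  -- the characters of degree e form a coherent set
  have hcard2 : 1 < FA.card := by
    rcases Nat.lt_or_ge 1 FA.card with h | h
    · exact h
    · exfalso
      interval_cases hc : FA.card
      · rw [zero_mul] at hcount; omega
      · rw [one_mul] at hcount; exact hn_e hcount
  obtain ⟨χa, hχa, χb, hχb, hχab⟩ := Finset.one_lt_card.1 hcard2
  have hcohK' : IsCoherent (inducedIrrAbove K ⁅K, K⁆) {1}ᶜ τ := by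
    refine Cfsg.Agent.Lib.Lead.Eq.eq_coherent (inducedIrrAbove K ⁅K, K⁆)
      (fun χ hχ => hirr χ (iia_mono K bot_le hχ)) τ (isoOn_mono (iia_mono K bot_le) hτ)
      (fun α hα => hτ1 α ⟨zs_mono (iia_mono K bot_le) hα.1, hα.2⟩)
      (fun φ hφ ψ hψ => by rw [hdegK' φ hφ, hdegK' ψ hψ])
      ⟨χa, (hFAmem χa).1 hχa, χb, (hFAmem χb).1 hχb, hχab⟩
  by_cases hab : ⁅K, K⁆ ≤ (⊥ : Subgroup L)
  · left
    have h1 : ⁅K, K⁆ = ⊥ := le_bot_iff.1 hab
    rw [h1] at hcohK'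
    exact hcohK'
  by_cases hbig : 4 * K.index ^ 2 + 1 < n
  · left
    exact s1520F K hsolv τ hirr hτ hτ1 ⊥ ⁅K, K⁆ K bot_le hK'K.le le_rfl hnilq hcohK'
      (hndef ▸ hbig)
  by_cases hpp : ∃ p m : ℕ, p.Prime ∧ Nat.card K = p ^ m
  · right
    obtain ⟨p, m, hp, hpm⟩ := hpp
    refine ⟨p, hp, ⟨m, hpm⟩, hab, ?_⟩
    rw [← hndef]; omega
  left
  -- `K` is not of prime power order
  obtain ⟨p, hp, hpn⟩ := Nat.exists_prime_and_dvd (ne_of_gt hn1)
  have hpowK : ∀ r a : ℕ, r.Prime → (∀ k ∈ K, k ^ (r ^ a) ∈ ⁅K, K⁆) → False :=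
    fun r a hr h => by
      obtain ⟨m, hm⟩ := prime_pow_of_pow_mem K hKnil r hr a h
      exact hpp ⟨r, m, hr, hm⟩
  obtain ⟨q, hq, hqn, hqp⟩ : ∃ q, q.Prime ∧ q ∣ n ∧ q ≠ p := by
    by_contra hcon
    push Not at hcon
    have hn' : n = p ^ n.primeFactorsList.length :=
      Nat.eq_prime_pow_of_unique_prime_dvd (by omega) (fun {d} hd hdn => hcon d hd hdn)
    apply hpowK p n.primeFactorsList.length hp
    intro k hk
    rw [← hn', hndef]
    exact pow_relIndex_mem K ⁅K, K⁆ hk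
  have hKK₁ : ⁅K, K⁆ ≤ ⁅K, K⁆ := le_rfl
  have hKK₂ : ⁅⁅K, K⁆, ⁅K, K⁆⁆ ≤ ⁅⁅K, K⁆, K⁆ := Subgroup.commutator_mono le_rfl hK'K.le
  have hstep : ∀ r : ℕ, r.Prime → r ∣ n → powSub ⁅K, K⁆ ⁅⁅K, K⁆, K⁆ hKK₂ r ≠ ⁅K, K⁆ →
      IsCoherent (inducedIrrAbove K ⊥) {1}ᶜ τ := by
    intro r hr hrn hEne
    haveI hDn : (powSub K ⁅K, K⁆ hKK₁ r).Normal := powSub_normal K ⁅K, K⁆ hKK₁ r
    haveI hEn : (powSub ⁅K, K⁆ ⁅⁅K, K⁆, K⁆ hKK₂ r).Normal :=
      powSub_normal ⁅K, K⁆ ⁅⁅K, K⁆, K⁆ hKK₂ r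
    obtain ⟨Dr, hDr⟩ : ∃ Dr, Dr = powSub K ⁅K, K⁆ hKK₁ r := ⟨_, rfl⟩
    obtain ⟨Er, hEr⟩ : ∃ Er, Er = powSub ⁅K, K⁆ ⁅⁅K, K⁆, K⁆ hKK₂ r := ⟨_, rfl⟩
    haveI : Dr.Normal := hDr ▸ hDn
    haveI : Er.Normal := hEr ▸ hEn
    have hD1 : ⁅K, K⁆ < Dr := by
      rw [hDr]; exact lt_powSub K ⁅K, K⁆ hKK₁ hK'K.le r hr (hndef ▸ hrn)
    have hDK : Dr ≤ K := by
      rw [hDr]; exact fun k hk => ((mem_powSub _ _ _ _ _).1 hk).1
    have hD2 : Dr < K := by
      refine lt_of_le_of_ne hDK (fun h => hpowK r 1 hr (fun k hk => ?_))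
      rw [pow_one]
      have h' : k ∈ Dr := by rw [h]; exact hk
      rw [hDr] at h'
      exact ((mem_powSub _ _ _ _ _).1 h').2
    have hEK' : Er ≤ ⁅K, K⁆ := by
      rw [hEr]; exact fun k hk => ((mem_powSub _ _ _ _ _).1 hk).1
    have hE1 : Er < ⁅K, K⁆ := lt_of_le_of_ne hEK' (by rw [hEr]; exact hEne)
    have hu := hge ⁅K, K⁆ Dr hD1 hDK
    have hv := hge Dr K hD2 le_rfl
    have hw := hge Er ⁅K, K⁆ hE1 hK'K.le
    have e1 := Subgroup.relIndex_mul_relIndex ⁅K, K⁆ Dr K hD1.le hDK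
    have e2 := Subgroup.relIndex_mul_relIndex Er ⁅K, K⁆ K hEK' hK'K.le
    have hcent : ∀ x ∈ Dr, ∀ y ∈ K, x * y * x⁻¹ * y⁻¹ ∈ Er := by
      intro x hx y hy
      rw [hDr] at hx
      obtain ⟨hxK, hxr⟩ := (mem_powSub _ _ _ _ _).1 hx
      rw [← commutatorElement_def, hEr, mem_powSub]
      refine ⟨Subgroup.commutator_mem_commutator hxK hy, ?_⟩
      have h1 := comm_pow_mod K x y hxK hy r
      have h2 : (QuotientGroup.mk' ⁅⁅K, K⁆, K⁆) ⁅x ^ r, y⁆ = 1 :=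
        (QuotientGroup.eq_one_iff _).2 (Subgroup.commutator_mem_commutator hxr hy)
      rw [h2] at h1
      apply (QuotientGroup.eq_one_iff _).1
      show (QuotientGroup.mk' ⁅⁅K, K⁆, K⁆) (⁅x, y⁆ ^ r) = 1
      rw [map_pow, ← h1]
    have hcohE : IsCoherent (inducedIrrAbove K Er) {1}ᶜ τ := by
      apply s1519F K hsolv τ hirr hτ hτ1 ⁅K, K⁆ Er K Dr hK'K hEK' hDK le_rfl hcent hcohK' ?_
      rw [← e1]
      exact arithA K.index _ _ (by omega) hu hv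
    apply s1520F K hsolv τ hirr hτ hτ1 ⊥ Er K bot_le (hEK'.trans hK'K.le) le_rfl hnilq hcohE ?_
    rw [← e2, ← e1]
    exact arithB K.index _ _ _ (by omega) hu hv hw
  by_cases h1 : powSub ⁅K, K⁆ ⁅⁅K, K⁆, K⁆ hKK₂ p = ⁅K, K⁆
  · by_cases h2 : powSub ⁅K, K⁆ ⁅⁅K, K⁆, K⁆ hKK₂ q = ⁅K, K⁆
    · exfalso
      have hle : ⁅K, K⁆ ≤ ⁅⁅K, K⁆, K⁆ := by
        intro z hz
        have hz1 : z ∈ powSub ⁅K, K⁆ ⁅⁅K, K⁆, K⁆ hKK₂ p := by rw [h1]; exact hz
        have hz2 : z ∈ powSub ⁅K, K⁆ ⁅⁅K, K⁆, K⁆ hKK₂ q := by rw [h2]; exact hz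
        have hp' := ((mem_powSub _ _ _ _ _).1 hz1).2
        have hq' := ((mem_powSub _ _ _ _ _).1 hz2).2
        apply (QuotientGroup.eq_one_iff _).1
        have e1 : ((z : L ⧸ ⁅⁅K, K⁆, K⁆)) ^ p = 1 := by
          rw [← QuotientGroup.mk_pow]; exact (QuotientGroup.eq_one_iff _).2 hp'
        have e2 : ((z : L ⧸ ⁅⁅K, K⁆, K⁆)) ^ q = 1 := by
          rw [← QuotientGroup.mk_pow]; exact (QuotientGroup.eq_one_iff _).2 hq'
        have d1 := orderOf_dvd_of_pow_eq_one e1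
        have d2 := orderOf_dvd_of_pow_eq_one e2
        have d3 : orderOf (z : L ⧸ ⁅⁅K, K⁆, K⁆) ∣ 1 := by
          have h3 := Nat.dvd_gcd d1 d2
          have h4 : Nat.gcd p q = 1 := (Nat.coprime_primes hp hq).2 hqp.symm
          rwa [h4] at h3
        exact orderOf_eq_one_iff.1 (Nat.dvd_one.1 d3)
      have heq : ⁅K, ⁅K, K⁆⁆ ⊔ ⊥ = ⁅K, K⁆ := by
        rw [sup_bot_eq, Subgroup.commutator_comm K ⁅K, K⁆]
        exact le_antisymm (Subgroup.commutator_le_left _ _) hle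
      exact hab (le_of_eq (eq_of_commutator_sup_eq ⊥ ⁅K, K⁆ K bot_le hK'K.le hnilq heq))
    · exact hstep q hq hqn h2
  · exact hstep p hp hpn h1

end feit

end Cfsg.Agent.Lib.Lead.Se
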