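import Mathlib
import Cfsg.Agent.Lib.Lead.Se3
import Cfsg.Agent.Lib.Helper1.ThompsonFPF5

set_option autoImplicit false
open Cfsg

namespace Cfsg.Agent.Lib.Lead.Se

open Cfsg.Agent.Lib.Helper6 Cfsg.Agent.Lib.Lead.Coh
open scoped commutatorElement

/-- Thompson: a Frobenius kernel is nilpotent (normal subgroup form) -/
theorem nilpotent_of_FK {M : Type*} [Group M] [Finite M] (K : Subgroup M) [hK : K.Normal]
    (hFK : ∀ k ∈ K, k ≠ 1 → ∀ x : M, x * k = k * x → x ∈ K) (hKtop : K ≠ ⊤) :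
    Group.IsNilpotent K := by
  have hidx : K.index ≠ 1 := fun h => hKtop (Subgroup.index_eq_one.1 h)
  obtain ⟨r, hr, hrd⟩ := Nat.exists_prime_and_dvd hidx
  haveI : Fact r.Prime := ⟨hr⟩
  have hrM : r ∣ Nat.card M := hrd.trans (Subgroup.index_dvd_card K)
  obtain ⟨x, hx⟩ := exists_prime_orderOf_dvd_card' r hrM
  have hcop := Frob.coprime_of_FK K hFK
  have hxK : x ∉ K := by
    intro h
    have h1 : orderOf (⟨x, h⟩ : K) = orderOf x := Subgroup.orderOf_mk x h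
    have h2 : r ∣ Nat.card K := by
      rw [← hx, ← h1]; exact orderOf_dvd_natCard _
    have h3 : r ∣ Nat.gcd (Nat.card K) K.index := Nat.dvd_gcd h2 hrd
    rw [Nat.Coprime.gcd_eq_one hcop] at h3
    exact hr.one_lt.ne' (Nat.dvd_one.1 h3)
  have hxr : x ^ r = 1 := by rw [← hx]; exact pow_orderOf_eq_one x
  obtain ⟨φ, hφdef⟩ : ∃ φ : K ≃* K, φ = MulAut.conjNormal (H := K) x := ⟨_, rfl⟩
  have hφapp : ∀ n : K, ((φ n : K) : M) = x * n * x⁻¹ := by
    intro n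
    rw [hφdef]
    exact MulAut.conjNormal_apply _ _
  have hpow : φ ^ r = 1 := by
    rw [hφdef, ← map_pow, hxr, map_one]
  have hfpf : MonoidHom.FixedPointFree (φ : K →* K) := by
    intro n hn
    by_contra hn1
    have hn' : x * n * x⁻¹ = n := by
      have := congrArg Subtype.val hn
      rw [← hφapp]
      exact this
    apply hxK
    apply hFK n n.2 (fun h => hn1 (Subtype.ext h)) x
    calc x * (n : M) = (x * n * x⁻¹) * x := by group
      _ = n * x := by rw [hn']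
  exact Cfsg.Agent.Lib.Helper1.ThompsonFPF.isNilpotent_of_fpf hr _ K rfl φ hfpf hpow

theorem s1535 {N : Type*} [Group N] [Fintype N] {G : Type*} [Group G] [Fintype G]
    (H : Subgroup N) [hHn : H.Normal] (hH1 : H ≠ ⊥) (hH2 : H ≠ ⊤)
    (hC : ∀ h ∈ H, h ≠ 1 → Subgroup.centralizer ({h} : Set N) ≤ H)
    (he : Nat.card H ≠ H.index + 1) (τ : (N → ℂ) → (G → ℂ))
    (hτ : IsLinearIsometryOn
      (zspanOn {χ : N → ℂ | IsIrrCharacter N χ ∧ ∃ h ∈ H, χ h ≠ χ 1} {1}ᶜ) τ)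
    (hτ1 : ∀ α ∈ zspanOn {χ : N → ℂ | IsIrrCharacter N χ ∧ ∃ h ∈ H, χ h ≠ χ 1} {1}ᶜ,
      τ α 1 = 0) :
    IsCoherent {χ : N → ℂ | IsIrrCharacter N χ ∧ ∃ h ∈ H, χ h ≠ χ 1} {1}ᶜ τ ∨
    ∃ p : ℕ, p.Prime ∧ (∃ m : ℕ, Nat.card H = p ^ m) ∧ ¬ IsMulCommutative H ∧
      (⁅H, H⁆.subgroupOf H).index ≤ 4 * H.index ^ 2 + 1 := by
  classical
  haveI : Fintype H := Fintype.ofFinite H
  have hFK : ∀ k ∈ H, k ≠ 1 → ∀ x : N, x * k = k * x → x ∈ H := by
    intro k hk hk1 x hxk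
    apply hC k hk hk1
    rw [Subgroup.mem_centralizer_iff]
    intro y hy
    rw [Set.mem_singleton_iff] at hy
    rw [hy]
    exact hxk.symm
  have hout : ∃ x : N, x ∉ H := by
    by_contra h
    push Not at h
    exact hH2 (eq_top_iff.2 fun x _ => h x)
  have hnil := nilpotent_of_FK H hFK hH2
  have hirr : ∀ ξ ∈ inducedIrrAbove H ⊥, IsIrrCharacter N ξ := by
    rintro ξ ⟨θ, hθ, hθ1, -, rfl⟩
    exact Frob.indFun_irr_of_FK H hFK hθ hθ1
  have hHH_empty : inducedIrrAbove H H = ∅ :=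
    Set.ext fun φ => ⟨fun hφ => absurd le_rfl (not_le_of_mem_iia H hφ), fun h => h.elim⟩
  have hset : {χ : N → ℂ | IsIrrCharacter N χ ∧ ∃ h ∈ H, χ h ≠ χ 1} = inducedIrrAbove H ⊥ := by
    have h1 := s1522_a H H le_rfl (fun χ hχ => hirr χ hχ.1)
    rw [hHH_empty, Set.diff_empty] at h1
    exact h1.symm
  rw [hset] at hτ hτ1 ⊢
  rcases feit H hH1 hnil hFK hout τ hτ hτ1 he with h | ⟨p, hp, hpm, hna, hle⟩
  · left; exact h
  · right
    refine ⟨p, hp, hpm, ?_, hle⟩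
    intro hcomm
    apply hna
    rw [Subgroup.commutator_le]
    intro a ha b hb
    rw [Subgroup.mem_bot, commutatorElement_eq_one_iff_commute]
    exact congrArg Subtype.val (hcomm.is_comm.comm (⟨a, ha⟩ : H) ⟨b, hb⟩)

end Cfsg.Agent.Lib.Lead.Se
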