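import Mathlib
import Cfsg.Agent.Lib.Lead.Sib4
import Cfsg.Agent.Lib.Helper2.FixedPointFree

set_option autoImplicit false
open Cfsg

namespace Cfsg.Agent.Lib.Lead.Sib

open Cfsg.Agent.Lib.Helper6 Cfsg.Agent.Lib.Lead.Coh

section s1532
variable {G : Type*} [Group G] [Fintype G]

/-- if the index of a Frobenius kernel is even, the kernel is abelian -/
theorem comm_of_even {L : Type*} [Group L] [Finite L] (K : Subgroup L) [hKn : K.Normal]
    (hFK : ∀ k ∈ K, k ≠ 1 → ∀ x : L, x * k = k * x → x ∈ K)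
    (t : L) (ht : t * t = 1) (htK : t ∉ K) : ∀ a b : K, a * b = b * a := by
  have hσ2 : ∀ x : K, (MulAut.conjNormal t : K ≃* K) ((MulAut.conjNormal t : K ≃* K) x) = x := by
    intro x
    apply Subtype.ext
    rw [MulAut.conjNormal_apply, MulAut.conjNormal_apply]
    have h1 : t⁻¹ = t := inv_eq_of_mul_eq_one_left ht
    rw [h1]
    calc t * (t * (x : L) * t) * t = (t * t) * x * (t * t) := by group
      _ = x := by rw [ht, one_mul, mul_one]
  have hfpf : ∀ x : K, (MulAut.conjNormal t : K ≃* K) x = x → x = 1 := by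
    intro x hx
    by_contra hx1
    apply htK
    have h1 : t * (x : L) * t⁻¹ = x := by
      have h2 := congrArg Subtype.val hx
      rwa [MulAut.conjNormal_apply] at h2
    apply hFK x x.2 (fun h => hx1 (Subtype.ext h)) t
    calc t * (x : L) = (t * x * t⁻¹) * t := by group
      _ = x * t := by rw [h1]
  exact Cfsg.Agent.Lib.Helper2.fpf_involution_comm _ hσ2 hfpf

theorem s1532_aux (p : ℕ) [Fact p.Prime] (hp : p ≠ 2) (H : Subgroup G) (hpH : IsPGroup p H)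
    (hna : ¬ IsMulCommutative H) (L : Subgroup G) [Fintype L] (hHL : H ≤ L)
    (hHn : ∀ x ∈ L, ∀ h ∈ H, x * h * x⁻¹ ∈ H) (hlt : ∃ x ∈ L, x ∉ H)
    (hTI' : ∀ g : G, g ∉ L → ∀ t ∈ H, g * t * g⁻¹ ∈ H → t = 1)
    (hC : ∀ k ∈ H, k ≠ 1 → Subgroup.centralizer ({k} : Set G) ≤ H)
    (Z : Subgroup G) (hZ1 : Z ≠ ⊥)
    (hZP : ∀ z ∈ Z, z ∈ H ∧ ∀ y ∈ H, z * y = y * z)
    (hZn : ∀ x ∈ L, ∀ z ∈ Z, x * z * x⁻¹ ∈ Z) :
    Cfsg.IsCoherent {χ : L → ℂ | Cfsg.IsIrrCharacter L χ ∧ ∃ z : L, (z : G) ∈ Z ∧ χ z ≠ χ 1}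
      {1}ᶜ (fun α : L → ℂ => Cfsg.indFun L α) := by
  classical
  obtain ⟨K, hKdef⟩ : ∃ K : Subgroup L, K = H.subgroupOf L := ⟨_, rfl⟩
  have hKH : ∀ x : L, x ∈ K ↔ (x : G) ∈ H := fun x => by rw [hKdef, Subgroup.mem_subgroupOf]
  haveI hKn : K.Normal := ⟨fun k hk x => by
    rw [hKH] at hk ⊢
    exact hHn x x.2 k hk⟩
  haveI : Fintype K := Fintype.ofFinite K
  have hFK : ∀ k ∈ K, k ≠ 1 → ∀ x : L, x * k = k * x → x ∈ K := by
    intro k hk hk1 x hxk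
    rw [hKH] at hk ⊢
    apply hC (k : G) hk (fun h => hk1 (Subtype.ext h))
    rw [Subgroup.mem_centralizer_iff]
    intro y hy
    rw [Set.mem_singleton_iff] at hy
    rw [hy]
    exact (congrArg Subtype.val hxk).symm
  have hZH : Z ≤ H := fun z hz => (hZP z hz).1
  have hK1 : K ≠ ⊥ := by
    intro h
    apply hZ1
    rw [eq_bot_iff]
    intro x hx
    have h1 : (⟨x, hHL (hZH hx)⟩ : L) ∈ K := (hKH _).2 (hZH hx)
    rw [h, Subgroup.mem_bot] at h1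
    rw [Subgroup.mem_bot]
    exact congrArg Subtype.val h1
  have hKpg : IsPGroup p K := by rw [hKdef]; exact hpH.comap_subtype
  haveI hKnil : Group.IsNilpotent K := hKpg.isNilpotent
  haveI hsolv : Group.IsSolvable K := inferInstance
  obtain ⟨x₀, hx₀L, hx₀H⟩ := hlt
  have hout : ∃ x : L, x ∉ K := ⟨⟨x₀, hx₀L⟩, fun h => hx₀H ((hKH _).1 h)⟩
  have hodd : Odd (Nat.card L) := by
    by_contra hcon
    rw [Nat.not_odd_iff_even] at hcon
    have h2 : 2 ∣ Nat.card L := hcon.two_dvd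
    haveI : Fact (Nat.Prime 2) := ⟨Nat.prime_two⟩
    obtain ⟨t, ht⟩ := exists_prime_orderOf_dvd_card' 2 h2
    have ht2 : t * t = 1 := by
      have := pow_orderOf_eq_one t
      rwa [ht, pow_two] at this
    have htK : t ∉ K := by
      intro h
      obtain ⟨k, hk⟩ := (IsPGroup.iff_orderOf.1 hKpg) ⟨t, h⟩
      have h3 : orderOf (⟨t, h⟩ : K) = orderOf t := Subgroup.orderOf_mk t h
      rw [h3, ht] at hk
      have hk0 : k ≠ 0 := by
        rintro rfl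
        simp at hk
      have h4 : p ∣ 2 := by rw [hk]; exact dvd_pow_self p hk0
      exact hp ((Nat.prime_dvd_prime_iff_eq (Fact.out : p.Prime) Nat.prime_two).1 h4)
    have hcomm := comm_of_even K hFK t ht2 htK
    apply hna
    refine ⟨⟨fun a b => ?_⟩⟩
    have h5 := hcomm ⟨⟨a, hHL a.2⟩, (hKH _).2 a.2⟩ ⟨⟨b, hHL b.2⟩, (hKH _).2 b.2⟩
    apply Subtype.ext
    exact congrArg (fun k : K => ((k : L) : G)) h5
  obtain ⟨hirr, R, hS⟩ := frob_cs H L hodd K hKH hK1 hsolv hFK hout hTI'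
  -- Z inside L
  obtain ⟨Z', hZ'def⟩ : ∃ Z' : Subgroup L, Z' = Z.subgroupOf L := ⟨_, rfl⟩
  have hZ'mem : ∀ x : L, x ∈ Z' ↔ (x : G) ∈ Z := fun x => by
    rw [hZ'def, Subgroup.mem_subgroupOf]
  haveI hZ'n : Z'.Normal := ⟨fun z hz x => by
    rw [hZ'mem] at hz ⊢
    exact hZn x x.2 z hz⟩
  have hZ'K : Z' ≤ K := fun z hz => (hKH z).2 (hZH ((hZ'mem z).1 hz))
  have hZ'1 : Z' ≠ ⊥ := by
    intro h
    apply hZ1
    rw [eq_bot_iff]
    intro x hx
    have h1 : (⟨x, hHL (hZH hx)⟩ : L) ∈ Z' := (hZ'mem _).2 hx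
    rw [h, Subgroup.mem_bot] at h1
    rw [Subgroup.mem_bot]
    exact congrArg Subtype.val h1
  have hZ'c : ∀ z ∈ Z', ∀ k ∈ K, z * k = k * z := by
    intro z hz k hk
    apply Subtype.ext
    exact (hZP (z : G) ((hZ'mem z).1 hz)).2 (k : G) ((hKH k).1 hk)
  have hK'K : ⁅K, K⁆ < K := commutator_lt_self K hK1
  have hfrob := frob_of_FK K hFK ⁅K, K⁆ (Subgroup.commutator_le_self K)
  have hirrY : ∀ χ ∈ inducedIrrAbove K ⊥ \ inducedIrrAbove K Z', IsIrrCharacter L χ :=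
    fun χ hχ => hirr χ hχ.1
  have hY := s1522_b K hsolv _ R hS hodd hKnil hK'K hfrob Z' hZ'1 hZ'K hZ'c hirrY
  have hset := s1522_a K Z' hZ'K hirrY
  have hset2 : {χ : L → ℂ | Cfsg.IsIrrCharacter L χ ∧ ∃ z : L, (z : G) ∈ Z ∧ χ z ≠ χ 1}
      = inducedIrrAbove K ⊥ \ inducedIrrAbove K Z' := by
    rw [hset]
    ext χ
    constructor
    · rintro ⟨h1, z, hz, h2⟩
      exact ⟨h1, z, (hZ'mem z).2 hz, h2⟩
    · rintro ⟨h1, z, hz, h2⟩
      exact ⟨h1, z, (hZ'mem z).1 hz, h2⟩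
  rw [hset2]
  exact hY

end s1532

end Cfsg.Agent.Lib.Lead.Sib
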