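import Mathlib
import Cfsg.Agent.Lib.Lead.Sib5
import Cfsg.Agent.Lib.Lead.Eq1

set_option autoImplicit false
open Cfsg

namespace Cfsg.Agent.Lib.Lead.Sib

open Cfsg.Agent.Lib.Helper6 Cfsg.Agent.Lib.Lead.Coh

section s1533
variable {G : Type*} [Group G] [Fintype G]

theorem s1533_aux (p : ℕ) [Fact p.Prime] (hp : p ≠ 2) (H : Subgroup G) (hpH : IsPGroup p H)
    (hH1 : H ≠ ⊥) (L : Subgroup G) [Fintype L] (hHL : H ≤ L)
    (hHn : ∀ x ∈ L, ∀ h ∈ H, x * h * x⁻¹ ∈ H) (hlt : ∃ x ∈ L, x ∉ H)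
    (hTI' : ∀ g : G, g ∉ L → ∀ t ∈ H, g * t * g⁻¹ ∈ H → t = 1)
    (hC : ∀ k ∈ H, k ≠ 1 → Subgroup.centralizer ({k} : Set G) ≤ H) :
    (Nat.card {χ : L → ℂ // IsIrrCharacter L χ ∧ ∃ x : L, (x : G) ∈ H ∧ χ x ≠ χ 1} = 1 ∧
      Cfsg.IsElementaryAbelian p H ∧ Nat.card H = (H.subgroupOf L).index + 1) ∨
    IsCoherent {χ : L → ℂ | IsIrrCharacter L χ ∧ ∃ x : L, (x : G) ∈ H ∧ χ x ≠ χ 1} {1}ᶜ
      (fun α : L → ℂ => indFun L α) := by
  classical
  obtain ⟨K, hKdef⟩ : ∃ K : Subgroup L, K = H.subgroupOf L := ⟨_, rfl⟩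
  have hKH : ∀ x : L, x ∈ K ↔ (x : G) ∈ H := fun x => by rw [hKdef, Subgroup.mem_subgroupOf]
  haveI hKn : K.Normal := ⟨fun k hk x => by
    rw [hKH] at hk ⊢
    exact hHn x x.2 k hk⟩
  haveI : Fintype K := Fintype.ofFinite K
  have hFK : ∀ k ∈ K, k ≠ 1 → ∀ x : L, x * k = k * x → x ∈ K := by
    intro k hk hk1 x hxk
    rw [hKH] at hk ⊢
    apply hC (k : G) hk (fun h => hk1 (Subtype.ext h))
    rw [Subgroup.mem_centralizer_iff]
    intro y hy
    rw [Set.mem_singleton_iff] at hy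
    rw [hy]
    exact (congrArg Subtype.val hxk).symm
  have hK1 : K ≠ ⊥ := by
    intro h
    apply hH1
    rw [eq_bot_iff]
    intro x hx
    have h1 : (⟨x, hHL hx⟩ : L) ∈ K := (hKH _).2 hx
    rw [h, Subgroup.mem_bot] at h1
    rw [Subgroup.mem_bot]
    exact congrArg Subtype.val h1
  have hKpg : IsPGroup p K := by rw [hKdef]; exact hpH.comap_subtype
  haveI hKnil : Group.IsNilpotent K := hKpg.isNilpotent
  haveI hsolv : Group.IsSolvable K := inferInstance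
  obtain ⟨x₀, hx₀L, hx₀H⟩ := hlt
  have hout : ∃ x : L, x ∉ K := ⟨⟨x₀, hx₀L⟩, fun h => hx₀H ((hKH _).1 h)⟩
  have hirr : ∀ ξ ∈ inducedIrrAbove K ⊥, IsIrrCharacter L ξ := by
    rintro ξ ⟨θ, hθ, hθ1, -, rfl⟩
    exact Frob.indFun_irr_of_FK K hFK hθ hθ1
  have hKK_empty : inducedIrrAbove K K = ∅ :=
    Set.ext fun φ => ⟨fun hφ => absurd le_rfl (not_le_of_mem_iia K hφ), fun h => h.elim⟩
  obtain ⟨T, hT⟩ : ∃ T : Set (L → ℂ),
      T = {χ : L → ℂ | IsIrrCharacter L χ ∧ ∃ x : L, (x : G) ∈ H ∧ χ x ≠ χ 1} := ⟨_, rfl⟩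
  have hset : T = inducedIrrAbove K ⊥ := by
    have h1 := s1522_a K K le_rfl (fun χ hχ => hirr χ hχ.1)
    rw [hKK_empty, Set.diff_empty] at h1
    rw [h1, hT]
    ext χ
    constructor
    · rintro ⟨h1, z, hz, h2⟩
      exact ⟨h1, z, (hKH z).2 hz, h2⟩
    · rintro ⟨h1, z, hz, h2⟩
      exact ⟨h1, z, (hKH z).1 hz, h2⟩
  rw [← hT]
  by_cases hodd : Odd (Nat.card L)
  · right
    rw [hset]
    exact sibley_K H L hodd hHL K hKH hK1 hKnil hFK hout hTI'
  rw [Nat.not_odd_iff_even] at hodd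
  have h2 : 2 ∣ Nat.card L := hodd.two_dvd
  haveI : Fact (Nat.Prime 2) := ⟨Nat.prime_two⟩
  obtain ⟨t, ht⟩ := exists_prime_orderOf_dvd_card' 2 h2
  have ht2 : t * t = 1 := by
    have := pow_orderOf_eq_one t
    rwa [ht, pow_two] at this
  have htK : t ∉ K := by
    intro h
    obtain ⟨k, hk⟩ := (IsPGroup.iff_orderOf.1 hKpg) ⟨t, h⟩
    have h3 : orderOf (⟨t, h⟩ : K) = orderOf t := Subgroup.orderOf_mk t h
    rw [h3, ht] at hk
    have hk0 : k ≠ 0 := by
      rintro rfl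
      simp at hk
    have h4 : p ∣ 2 := by rw [hk]; exact dvd_pow_self p hk0
    exact hp ((Nat.prime_dvd_prime_iff_eq (Fact.out : p.Prime) Nat.prime_two).1 h4)
  have hcomm := comm_of_even K hFK t ht2 htK
  have hKK : ⁅K, K⁆ ≤ (⊥ : Subgroup L) := by
    rw [Subgroup.commutator_le]
    intro a ha b hb
    rw [Subgroup.mem_bot, commutatorElement_eq_one_iff_commute]
    exact congrArg Subtype.val (hcomm ⟨a, ha⟩ ⟨b, hb⟩)
  have hcomK : commutator K ≤ (⊥ : Subgroup K) := by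
    rw [_root_.commutator_def, Subgroup.commutator_le]
    intro a _ b _
    rw [Subgroup.mem_bot, commutatorElement_eq_one_iff_commute]
    exact hcomm a b
  have hdeg : ∀ φ ∈ inducedIrrAbove K ⊥, φ 1 = (K.index : ℂ) := by
    rintro φ ⟨θ, hθ, hne, hker, rfl⟩
    rw [indFun_one, apply_one_of_commutator_le (⊥ : Subgroup K) hcomK hθ (fun x hx => by
      rw [Subgroup.mem_bot] at hx; rw [hx]), mul_one]
  obtain ⟨hiso, hiso1⟩ := ind_isometry H L K hKH hTI'
  by_cases h2 : ∃ χ ∈ inducedIrrAbove K ⊥, ∃ ψ ∈ inducedIrrAbove K ⊥, χ ≠ ψ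
  · right
    rw [hset]
    exact Cfsg.Agent.Lib.Lead.Eq.eq_coherent (inducedIrrAbove K ⊥) hirr _ hiso hiso1
      (fun φ hφ ψ hψ => by rw [hdeg φ hφ, hdeg ψ hψ]) h2
  left
  push Not at h2
  obtain ⟨χ₁, hχ₁, hχ₁1⟩ := exists_linear_iia K ⊥ hsolv (bot_lt_iff_ne_bot.2 hK1)
  have huniq : ∀ φ ∈ inducedIrrAbove K ⊥, φ = χ₁ := fun φ hφ => h2 φ hφ χ₁ hχ₁
  have hcard : Nat.card K = K.index + 1 := by
    have horth : ∀ χ ∈ inducedIrrAbove K ⊥, ∀ φ ∈ inducedIrrAbove K ⊥, χ ≠ φ →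
        classInner χ φ = 0 := fun χ hχ φ hφ h => by
      rw [classInner_isIrrCharacter (hirr χ hχ) (hirr φ hφ), if_neg h]
    have h3 := sum_iia_eq K ⊥ horth {χ₁}
      (by
        intro φ hφ
        rw [Finset.coe_singleton, Set.mem_singleton_iff] at hφ
        rw [hφ]; exact hχ₁)
      (by
        intro φ hφ
        rw [Finset.coe_singleton, Set.mem_singleton_iff]
        exact huniq φ hφ)
      (fun _ => K.index) (fun _ => 1) (fun φ hφ => by rw [hdeg φ hφ])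
      (fun φ hφ => by rw [irr_self (hirr φ hφ)]; simp)
    rw [Finset.sum_singleton, if_pos hχ₁, Subgroup.relIndex_bot_left] at h3
    simp only [Nat.cast_one, div_one] at h3
    have he0 : (K.index : ℝ) ≠ 0 := by exact_mod_cast Subgroup.index_ne_zero_of_finite
    have h4 : (Nat.card K : ℝ) - 1 = K.index := by
      have h5 : (K.index : ℝ) * ((Nat.card K : ℝ) - 1) = K.index * K.index := by rw [h3, sq]
      exact mul_left_cancel₀ he0 h5
    have h5 : (Nat.card K : ℝ) = K.index + 1 := by linarith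
    exact_mod_cast h5
  refine ⟨?_, ?_, ?_⟩
  · rw [Nat.card_eq_one_iff_unique]
    refine ⟨⟨fun a b => ?_⟩, ⟨⟨χ₁, ?_⟩⟩⟩
    · apply Subtype.ext
      have ha : a.1 ∈ T := by rw [hT]; exact a.2
      have hb : b.1 ∈ T := by rw [hT]; exact b.2
      rw [hset] at ha hb
      rw [huniq _ ha, huniq _ hb]
    · have : χ₁ ∈ T := by rw [hset]; exact hχ₁
      rw [hT] at this
      exact this
  · refine ⟨⟨⟨fun a b => ?_⟩⟩, ?_⟩
    · have h5 := hcomm ⟨⟨a, hHL a.2⟩, (hKH _).2 a.2⟩ ⟨⟨b, hHL b.2⟩, (hKH _).2 b.2⟩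
      apply Subtype.ext
      exact congrArg (fun k : K => ((k : L) : G)) h5
    · intro a ha
      haveI hΩn : (powSub K ⊥ hKK p).Normal := powSub_normal K ⊥ hKK p
      have hΩK : powSub K ⊥ hKK p ≤ K := fun k hk => ((mem_powSub _ _ _ _ _).1 hk).1
      have hpK : p ∣ Nat.card K := by
        obtain ⟨n, hn⟩ := IsPGroup.iff_card.1 hKpg
        have hn0 : n ≠ 0 := by
          rintro rfl
          rw [pow_zero] at hn
          exact hK1 (Subgroup.eq_bot_of_card_eq K hn)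
        rw [hn]; exact dvd_pow_self p hn0
      obtain ⟨k, hk⟩ := exists_prime_orderOf_dvd_card' p hpK
      have hkΩ : (k : L) ∈ powSub K ⊥ hKK p := by
        rw [mem_powSub]
        refine ⟨k.2, ?_⟩
        rw [Subgroup.mem_bot, ← Subgroup.coe_pow, ← hk, pow_orderOf_eq_one, Subgroup.coe_one]
      have hk1 : (k : L) ≠ 1 := by
        intro h
        have h' : k = 1 := Subtype.ext h
        rw [h', orderOf_one] at hk
        exact (Fact.out : p.Prime).one_lt.ne hk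
      have hΩcard : 1 < Nat.card (powSub K ⊥ hKK p) := by
        rw [Finite.one_lt_card_iff_nontrivial]
        exact ⟨⟨⟨k, hkΩ⟩, 1, fun h => hk1 (congrArg Subtype.val h)⟩⟩
      have hfrob0 := frob_of_FK K hFK ⊥ bot_le
      have hdvd := frob_cong K ⊥ (powSub K ⊥ hKK p) bot_le hΩK hfrob0
      rw [Subgroup.relIndex_bot_left] at hdvd
      have hge : K.index + 1 ≤ Nat.card (powSub K ⊥ hKK p) := by
        obtain ⟨c, hc⟩ := hdvd
        have hc0 : c ≠ 0 := by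
          rintro rfl
          omega
        have : K.index ≤ K.index * c := Nat.le_mul_of_pos_right _ (Nat.pos_of_ne_zero hc0)
        omega
      have hΩeq : powSub K ⊥ hKK p = K :=
        Subgroup.eq_of_le_of_card_ge hΩK (by rw [hcard]; exact hge)
      have haK : (⟨a, hHL ha⟩ : L) ∈ powSub K ⊥ hKK p := by rw [hΩeq]; exact (hKH _).2 ha
      have h6 := ((mem_powSub _ _ _ _ _).1 haK).2
      rw [Subgroup.mem_bot] at h6
      have h7 := congrArg Subtype.val h6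
      simpa using h7
  · have h1 : Nat.card K = Nat.card H := by
      rw [hKdef]
      exact Nat.card_congr (Subgroup.subgroupOfEquivOfLe hHL).toEquiv
    rw [← h1, ← hKdef]
    exact hcard

end s1533

end Cfsg.Agent.Lib.Lead.Sib
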