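import Mathlib
import Cfsg.Agent.Lib.Lead.Se4
import Cfsg.Agent.Lib.Lead.Sib6

set_option autoImplicit false
open Cfsg

namespace Cfsg.Agent.Lib.Lead.Se

open Cfsg.Agent.Lib.Helper6 Cfsg.Agent.Lib.Lead.Coh
open scoped commutatorElement

theorem frob_ge {L : Type*} [Group L] [Finite L] (K : Subgroup L) [K.Normal]
    (hFK : ∀ k ∈ K, k ≠ 1 → ∀ x : L, x * k = k * x → x ∈ K)
    (X Y : Subgroup L) [X.Normal] [Y.Normal] (hXY : X < Y) (hYK : Y ≤ K) :
    K.index + 1 ≤ X.relIndex Y := by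
  have h1 := frob_cong K X Y hXY.le hYK (Sib.frob_of_FK K hFK X (hXY.le.trans hYK))
  have h2 := one_lt_relIndex hXY
  obtain ⟨c, hc⟩ := h1
  have hc0 : c ≠ 0 := by
    rintro rfl
    omega
  have : K.index ≤ K.index * c := Nat.le_mul_of_pos_right _ (Nat.pos_of_ne_zero hc0)
  omega

/-- a nontrivial `p`-subgroup containing the centralisers of its nonidentity elements is Sylow -/
theorem sylow_of_centralizers {G : Type*} [Group G] [Finite G] (p : ℕ) [hp : Fact p.Prime]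
    (H : Subgroup G) (hH1 : H ≠ ⊥) (hpH : IsPGroup p H)
    (hC : ∀ k ∈ H, k ≠ 1 → Subgroup.centralizer ({k} : Set G) ≤ H) :
    Nat.card H = p ^ (Nat.card G).factorization p := by
  obtain ⟨P, hHP⟩ := hpH.exists_le_sylow
  obtain ⟨Q, hQ⟩ : ∃ Q : Subgroup G, Q = (P : Subgroup G) := ⟨_, rfl⟩
  have hQp : IsPGroup p Q := by rw [hQ]; exact P.isPGroup'
  have hHQ : H ≤ Q := by rw [hQ]; exact hHP
  obtain ⟨k, hk1⟩ := (Subgroup.ne_bot_iff_exists_ne_one).1 hH1
  haveI : Nontrivial ↥Q := by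
    refine ⟨⟨⟨k, hHQ k.2⟩, 1, fun h => hk1 (Subtype.ext ?_)⟩⟩
    have h' := congrArg (fun q : ↥Q => (q : G)) h
    exact h'
  haveI : Nontrivial (Subgroup.center ↥Q) := hQp.center_nontrivial
  obtain ⟨z, hz1⟩ := exists_ne (1 : Subgroup.center ↥Q)
  have hzc : ∀ y : ↥Q, y * (z : ↥Q) = (z : ↥Q) * y := fun y => Subgroup.mem_center_iff.1 z.2 y
  have hz1' : ((z : ↥Q) : G) ≠ 1 := fun h => hz1 (Subtype.ext (Subtype.ext h))
  have hzH : ((z : ↥Q) : G) ∈ H := by
    apply hC k k.2 (fun h => hk1 (Subtype.ext h))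
    rw [Subgroup.mem_centralizer_iff]
    intro y hy
    rw [Set.mem_singleton_iff] at hy
    rw [hy]
    exact congrArg Subtype.val (hzc ⟨k, hHQ k.2⟩)
  have hQH : Q ≤ H := by
    intro y hy
    apply hC _ hzH hz1'
    rw [Subgroup.mem_centralizer_iff]
    intro w hw
    rw [Set.mem_singleton_iff] at hw
    rw [hw]
    exact (congrArg Subtype.val (hzc ⟨y, hy⟩)).symm
  have hHeq : H = Q := le_antisymm hHQ hQH
  rw [hHeq, hQ]
  exact P.card_eq_multiplicity

section s1534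
variable {G : Type*} [Group G] [Fintype G]

theorem s1534_aux (H : Subgroup G) (hH1 : H ≠ ⊥) (hnil : Group.IsNilpotent H)
    (L : Subgroup G) [Fintype L] (hHL : H ≤ L)
    (hHn : ∀ x ∈ L, ∀ h ∈ H, x * h * x⁻¹ ∈ H) (hlt : ∃ x ∈ L, x ∉ H)
    (hTI' : ∀ g : G, g ∉ L → ∀ t ∈ H, g * t * g⁻¹ ∈ H → t = 1)
    (hC : ∀ k ∈ H, k ≠ 1 → Subgroup.centralizer ({k} : Set G) ≤ H) :
    (Nat.card {χ : L → ℂ // IsIrrCharacter L χ ∧ ∃ k : L, (k : G) ∈ H ∧ χ k ≠ χ 1} = 1 ∧
      Nat.card H = (H.subgroupOf L).index + 1 ∧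
      ∃ p : ℕ, p.Prime ∧ Cfsg.IsElementaryAbelian p H) ∨
    (Nat.card H = 2 ^ (Nat.card G).factorization 2 ∧
      (⁅H, H⁆.subgroupOf H).index < 4 * (H.subgroupOf L).index ^ 2) ∨
    IsCoherent {χ : L → ℂ | IsIrrCharacter L χ ∧ ∃ k : L, (k : G) ∈ H ∧ χ k ≠ χ 1} {1}ᶜ
      (fun α : L → ℂ => indFun L α) := by
  classical
  obtain ⟨K, hKdef⟩ : ∃ K : Subgroup L, K = H.subgroupOf L := ⟨_, rfl⟩
  have hKH : ∀ x : L, x ∈ K ↔ (x : G) ∈ H := fun x => by rw [hKdef, Subgroup.mem_subgroupOf]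
  haveI hKn : K.Normal := ⟨fun k hk x => by
    rw [hKH] at hk ⊢
    exact hHn x x.2 k hk⟩
  haveI : Fintype K := Fintype.ofFinite K
  have hFK : ∀ k ∈ K, k ≠ 1 → ∀ x : L, x * k = k * x → x ∈ K := by
    intro k hk hk1 x hxk
    rw [hKH] at hk ⊢
    apply hC (k : G) hk (fun h => hk1 (Subtype.ext h))
    rw [Subgroup.mem_centralizer_iff]
    intro y hy
    rw [Set.mem_singleton_iff] at hy
    rw [hy]
    exact (congrArg Subtype.val hxk).symm
  have hK1 : K ≠ ⊥ := by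
    intro h
    apply hH1
    rw [eq_bot_iff]
    intro x hx
    have h1 : (⟨x, hHL hx⟩ : L) ∈ K := (hKH _).2 hx
    rw [h, Subgroup.mem_bot] at h1
    rw [Subgroup.mem_bot]
    exact congrArg Subtype.val h1
  have hKnil : Group.IsNilpotent K := by
    rw [hKdef]
    haveI := hnil
    exact Group.nilpotent_of_mulEquiv (Subgroup.subgroupOfEquivOfLe hHL).symm
  haveI := hKnil
  haveI hsolv : Group.IsSolvable K := inferInstance
  obtain ⟨x₀, hx₀L, hx₀H⟩ := hlt
  have hout : ∃ x : L, x ∉ K := ⟨⟨x₀, hx₀L⟩, fun h => hx₀H ((hKH _).1 h)⟩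
  have hirr : ∀ ξ ∈ inducedIrrAbove K ⊥, IsIrrCharacter L ξ := by
    rintro ξ ⟨θ, hθ, hθ1, -, rfl⟩
    exact Frob.indFun_irr_of_FK K hFK hθ hθ1
  have hKK_empty : inducedIrrAbove K K = ∅ :=
    Set.ext fun φ => ⟨fun hφ => absurd le_rfl (not_le_of_mem_iia K hφ), fun h => h.elim⟩
  obtain ⟨T, hT⟩ : ∃ T : Set (L → ℂ),
      T = {χ : L → ℂ | IsIrrCharacter L χ ∧ ∃ k : L, (k : G) ∈ H ∧ χ k ≠ χ 1} := ⟨_, rfl⟩
  have hset : T = inducedIrrAbove K ⊥ := by
    have h1 := s1522_a K K le_rfl (fun χ hχ => hirr χ hχ.1)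
    rw [hKK_empty, Set.sdiff_empty] at h1
    rw [h1, hT]
    ext χ
    constructor
    · rintro ⟨h1, z, hz, h2⟩
      exact ⟨h1, z, (hKH z).2 hz, h2⟩
    · rintro ⟨h1, z, hz, h2⟩
      exact ⟨h1, z, (hKH z).1 hz, h2⟩
  rw [← hT]
  have hcardKH : Nat.card K = Nat.card H := by
    rw [hKdef]
    exact Nat.card_congr (Subgroup.subgroupOfEquivOfLe hHL).toEquiv
  have hidx : (H.subgroupOf L).index = K.index := by rw [hKdef]
  obtain ⟨hiso, hiso1⟩ := Sib.ind_isometry H L K hKH hTI'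
  have he2 : 2 ≤ K.index := by
    have h1 : K.index ≠ 1 := fun h => by
      obtain ⟨x, hx⟩ := hout
      apply hx
      rw [Subgroup.index_eq_one.1 h]
      exact Subgroup.mem_top x
    have h0 : K.index ≠ 0 := Subgroup.index_ne_zero_of_finite
    omega
  have hK'K : ⁅K, K⁆ < K := Sib.commutator_lt_self K hK1
  by_cases hcard : Nat.card K = K.index + 1
  · -- `K` is a minimal normal subgroup, hence elementary abelian
    have hKK : ⁅K, K⁆ ≤ (⊥ : Subgroup L) := by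
      by_contra hne
      have hbot : (⊥ : Subgroup L) < ⁅K, K⁆ := bot_lt_iff_ne_bot.2 (fun h => hne (le_of_eq h))
      have g1 := frob_ge K hFK ⊥ ⁅K, K⁆ hbot hK'K.le
      have g2 := frob_ge K hFK ⁅K, K⁆ K hK'K le_rfl
      have e3 := Subgroup.relIndex_mul_relIndex ⊥ ⁅K, K⁆ K bot_le hK'K.le
      rw [Subgroup.relIndex_bot_left] at g1
      simp only [Subgroup.relIndex_bot_left] at e3
      have h5 : (K.index + 1) * (K.index + 1) ≤ K.index + 1 := by
        calc (K.index + 1) * (K.index + 1)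
            ≤ Nat.card ↥⁅K, K⁆ * (⁅K, K⁆).relIndex K := Nat.mul_le_mul g1 g2
          _ = K.index + 1 := by rw [e3, hcard]
      have h6 : (K.index + 1) * (K.index + 1) = K.index * K.index + 2 * K.index + 1 := by ring
      rw [h6] at h5
      omega
    have hcomm : ∀ a b : K, a * b = b * a := by
      intro a b
      have h1 : ⁅(a : L), (b : L)⁆ ∈ ⁅K, K⁆ := Subgroup.commutator_mem_commutator a.2 b.2
      have h2 := hKK h1
      rw [Subgroup.mem_bot, commutatorElement_eq_one_iff_commute] at h2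
      exact Subtype.ext h2.eq
    have hcomK : commutator K ≤ (⊥ : Subgroup K) := by
      rw [_root_.commutator_def, Subgroup.commutator_le]
      intro a _ b _
      rw [Subgroup.mem_bot, commutatorElement_eq_one_iff_commute]
      exact hcomm a b
    have hdeg : ∀ φ ∈ inducedIrrAbove K ⊥, φ 1 = (K.index : ℂ) := by
      rintro φ ⟨θ, hθ, hne, hker, rfl⟩
      rw [indFun_one, apply_one_of_commutator_le (⊥ : Subgroup K) hcomK hθ (fun x hx => by
        rw [Subgroup.mem_bot] at hx; rw [hx]), mul_one]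
    by_cases h2 : ∃ χ ∈ inducedIrrAbove K ⊥, ∃ ψ ∈ inducedIrrAbove K ⊥, χ ≠ ψ
    · right; right
      rw [hset]
      exact Cfsg.Agent.Lib.Lead.Eq.eq_coherent (inducedIrrAbove K ⊥) hirr _ hiso hiso1
        (fun φ hφ ψ hψ => by rw [hdeg φ hφ, hdeg ψ hψ]) h2
    left
    push Not at h2
    obtain ⟨χ₁, hχ₁, hχ₁1⟩ := exists_linear_iia K ⊥ hsolv (bot_lt_iff_ne_bot.2 hK1)
    have huniq : ∀ φ ∈ inducedIrrAbove K ⊥, φ = χ₁ := fun φ hφ => h2 φ hφ χ₁ hχ₁
    refine ⟨?_, ?_, ?_⟩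
    · rw [Nat.card_eq_one_iff_unique]
      refine ⟨⟨fun a b => ?_⟩, ⟨⟨χ₁, ?_⟩⟩⟩
      · apply Subtype.ext
        have ha : a.1 ∈ T := by rw [hT]; exact a.2
        have hb : b.1 ∈ T := by rw [hT]; exact b.2
        rw [hset] at ha hb
        rw [huniq _ ha, huniq _ hb]
      · have : χ₁ ∈ T := by rw [hset]; exact hχ₁
        rw [hT] at this
        exact this
    · rw [← hcardKH, hidx]
      exact hcard
    · have hKne1 : Nat.card K ≠ 1 := by rw [hcard]; omega
      obtain ⟨p, hp, hpK⟩ := Nat.exists_prime_and_dvd hKne1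
      haveI : Fact p.Prime := ⟨hp⟩
      refine ⟨p, hp, ⟨⟨fun a b => ?_⟩⟩, ?_⟩
      · have h5 := hcomm ⟨⟨a, hHL a.2⟩, (hKH _).2 a.2⟩ ⟨⟨b, hHL b.2⟩, (hKH _).2 b.2⟩
        apply Subtype.ext
        exact congrArg (fun k : K => ((k : L) : G)) h5
      · intro a ha
        haveI hΩn : (powSub K ⊥ hKK p).Normal := powSub_normal K ⊥ hKK p
        have hΩK : powSub K ⊥ hKK p ≤ K := fun k hk => ((mem_powSub _ _ _ _ _).1 hk).1
        obtain ⟨k, hk⟩ := exists_prime_orderOf_dvd_card' p hpK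
        have hkΩ : (k : L) ∈ powSub K ⊥ hKK p := by
          rw [mem_powSub]
          refine ⟨k.2, ?_⟩
          rw [Subgroup.mem_bot, ← Subgroup.coe_pow, ← hk, pow_orderOf_eq_one, Subgroup.coe_one]
        have hk1 : (k : L) ≠ 1 := by
          intro h
          have h' : k = 1 := Subtype.ext h
          rw [h', orderOf_one] at hk
          exact hp.one_lt.ne hk
        have hbotΩ : (⊥ : Subgroup L) < powSub K ⊥ hKK p := by
          rw [bot_lt_iff_ne_bot]
          intro h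
          rw [h, Subgroup.mem_bot] at hkΩ
          exact hk1 hkΩ
        have hge := frob_ge K hFK ⊥ (powSub K ⊥ hKK p) hbotΩ hΩK
        rw [Subgroup.relIndex_bot_left] at hge
        have hΩeq : powSub K ⊥ hKK p = K :=
          Subgroup.eq_of_le_of_card_ge hΩK (by rw [hcard]; exact hge)
        have haK : (⟨a, hHL ha⟩ : L) ∈ powSub K ⊥ hKK p := by rw [hΩeq]; exact (hKH _).2 ha
        have h6 := ((mem_powSub _ _ _ _ _).1 haK).2
        rw [Subgroup.mem_bot] at h6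
        have h7 := congrArg Subtype.val h6
        simpa using h7
  -- now `|K| ≠ e + 1`
  rcases feit K hK1 hKnil hFK hout (fun α : L → ℂ => indFun L α) hiso hiso1 hcard with
    hcoh | ⟨p, hp, ⟨m, hpm⟩, hna, hle⟩
  · right; right
    rw [hset]
    exact hcoh
  by_cases hodd : Odd (Nat.card L)
  · right; right
    rw [hset]
    exact Sib.sibley_K H L hodd hHL K hKH hK1 hKnil hFK hout hTI'
  rw [Nat.not_odd_iff_even] at hodd
  have h2 : 2 ∣ Nat.card L := hodd.two_dvd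
  haveI : Fact (Nat.Prime 2) := ⟨Nat.prime_two⟩
  obtain ⟨t, ht⟩ := exists_prime_orderOf_dvd_card' 2 h2
  have ht2 : t * t = 1 := by
    have := pow_orderOf_eq_one t
    rwa [ht, pow_two] at this
  by_cases htK : t ∈ K
  swap
  · exfalso
    have hcomm := Sib.comm_of_even K hFK t ht2 htK
    apply hna
    rw [Subgroup.commutator_le]
    intro a ha b hb
    rw [Subgroup.mem_bot, commutatorElement_eq_one_iff_commute]
    exact congrArg Subtype.val (hcomm ⟨a, ha⟩ ⟨b, hb⟩)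
  have hp2 : p = 2 := by
    have h3 : orderOf (⟨t, htK⟩ : K) = orderOf t := Subgroup.orderOf_mk t htK
    have h4 : 2 ∣ Nat.card K := by
      rw [← ht, ← h3]; exact orderOf_dvd_natCard _
    rw [hpm] at h4
    have h5 := Nat.Prime.dvd_of_dvd_pow Nat.prime_two h4
    exact ((Nat.prime_dvd_prime_iff_eq Nat.prime_two hp).1 h5).symm
  subst hp2
  right; left
  refine ⟨?_, ?_⟩
  · have hpH : IsPGroup 2 H := IsPGroup.of_card (n := m) (by rw [← hcardKH]; exact hpm)
    exact sylow_of_centralizers 2 H hH1 hpH hC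
  · obtain ⟨n, hndef⟩ : ∃ n, n = (⁅K, K⁆).relIndex K := ⟨_, rfl⟩
    have hn1 : 1 < n := hndef ▸ one_lt_relIndex hK'K
    have hndvd : n ∣ 2 ^ m := by
      rw [hndef, ← hpm]
      exact Subgroup.index_dvd_card ((⁅K, K⁆).subgroupOf K)
    obtain ⟨i, _, hi⟩ := (Nat.dvd_prime_pow Nat.prime_two).1 hndvd
    have hi0 : i ≠ 0 := by
      rintro rfl
      rw [pow_zero] at hi
      omega
    have hneven : 2 ∣ n := by rw [hi]; exact dvd_pow_self 2 hi0
    have hmod := frob_cong K ⁅K, K⁆ K hK'K.le le_rfl (Sib.frob_of_FK K hFK ⁅K, K⁆ hK'K.le)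
    rw [← hndef] at hmod hle
    have hn4 : n ≠ 4 * K.index ^ 2 := by
      intro h4
      have h2 : K.index ∣ n := ⟨4 * K.index, by rw [h4]; ring⟩
      have h2' : K.index ∣ (n - 1) + 1 := by
        rw [Nat.sub_add_cancel (by omega)]; exact h2
      have h5 : K.index ∣ 1 := (Nat.dvd_add_right hmod).1 h2'
      have := Nat.dvd_one.1 h5
      omega
    have hnlt : n < 4 * K.index ^ 2 := by
      obtain ⟨E, hE⟩ : ∃ E, E = K.index ^ 2 := ⟨_, rfl⟩
      rw [← hE] at hle hn4 ⊢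
      obtain ⟨c, hc⟩ := hneven
      omega
    have hmapK : K.map L.subtype = H := by
      rw [hKdef, Subgroup.subgroupOf_map_subtype, inf_eq_left]
      exact hHL
    have e1 : (⁅H, H⁆).relIndex H = (⁅K, K⁆).relIndex K := by
      rw [← Subgroup.relIndex_map_map_of_injective ⁅K, K⁆ K L.subtype_injective,
        Subgroup.map_commutator, hmapK]
    show (⁅H, H⁆).relIndex H < _
    rw [e1, hidx, ← hndef]
    exact hnlt

end s1534

end Cfsg.Agent.Lib.Lead.Se
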