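import Mathlib
import Cfsg.Agent.Lib.Helper3.QuatLift

set_option autoImplicit false

namespace Cfsg.Agent.Lib.Lead.QuatRecog

open Cfsg.Agent.Lib.Helper3

/-- Recognition of generalized quaternion groups. -/
theorem nonempty_mulEquiv_quaternionGroup {Y : Type*} [Group Y] [Finite Y] (k : ℕ) [NeZero k]
    (a b : Y) (ha : orderOf a = 2 * k) (hb : b ∉ Subgroup.zpowers a) (hb2 : b * b = a ^ k)
    (hconj : b * a * b⁻¹ = a⁻¹) (hcard : Nat.card Y = 4 * k) :
    Nonempty (Y ≃* QuaternionGroup k) := by
  have hA : a ^ (2 * k) = 1 := by rw [← ha]; exact pow_orderOf_eq_one a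
  let f := quatLift k a b hA hb2 hconj
  have ha_range : a ∈ f.range := by
    refine ⟨QuaternionGroup.a ((1 : ℕ) : ZMod (2 * k)), ?_⟩
    rw [quatLift_a_natCast, pow_one]
  have hb_range : b ∈ f.range := by
    refine ⟨QuaternionGroup.xa 0, ?_⟩
    rw [quatLift_xa, zmodPw_zero, mul_one]
  have hk : 0 < k := Nat.pos_of_ne_zero (NeZero.ne k)
  have hidx : (Subgroup.zpowers a).index = 2 := by
    have h1 := (Subgroup.zpowers a).card_mul_index
    rw [Nat.card_zpowers, ha, hcard] at h1
    have : 2 * k * (Subgroup.zpowers a).index = 2 * k * 2 := by rw [h1]; ring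
    exact Nat.eq_of_mul_eq_mul_left (by positivity) this
  have hsurj : Function.Surjective f := by
    intro g
    rw [← MonoidHom.mem_range]
    by_cases hg : g ∈ Subgroup.zpowers a
    · exact (Subgroup.zpowers_le.mpr ha_range) hg
    · have hbinv : b⁻¹ ∉ Subgroup.zpowers a := fun h => hb (by simpa using Subgroup.inv_mem _ h)
      have h2 := Subgroup.mul_mem_iff_of_index_two hidx (a := g) (b := b⁻¹)
      have h3 : g * b⁻¹ ∈ Subgroup.zpowers a :=
        h2.2 ⟨fun h => absurd h hg, fun h => absurd h hbinv⟩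
      have h1 : g * b⁻¹ ∈ f.range := (Subgroup.zpowers_le.mpr ha_range) h3
      have : g = (g * b⁻¹) * b := by group
      rw [this]
      exact Subgroup.mul_mem _ h1 hb_range
  have hcard' : Nat.card (QuaternionGroup k) = Nat.card Y := by
    rw [Nat.card_eq_fintype_card, QuaternionGroup.card, hcard]
  have hbij : Function.Bijective f := (Nat.bijective_iff_surjective_and_card f).mpr ⟨hsurj, hcard'⟩
  exact ⟨(MulEquiv.ofBijective f hbij).symm⟩

end Cfsg.Agent.Lib.Lead.QuatRecog
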