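import Mathlib
import Cfsg.Agent.S0989
import Cfsg.Agent.S0990
import Cfsg.Agent.S0991
import Cfsg.Agent.Lib.Lead.SylowCount

namespace Cfsg.Agent.Lib.Lead.PrimeDegree

open Cfsg.Agent.Lib.Lead.SylowCount

/-- If `G` embeds into `Alt(α)` with `|α| ∈ {p, p+1}`, `p` odd, and a Sylow `p`-subgroup `P` of `G`
has order `p`, then `2 * |N_G(P)|` divides `p * (p - 1)`. -/
theorem two_mul_card_normalizer_dvd_of_embedding {G : Type*} [Group G] [Finite G]
    {α : Type*} [Fintype α] [DecidableEq α] {p : ℕ} [hp : Fact p.Prime] (hp2 : p ≠ 2)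
    (hα : Fintype.card α = p ∨ Fintype.card α = p + 1)
    (ψ : G →* Equiv.Perm α) (hψ : Function.Injective ψ)
    (hsign : ∀ g, Equiv.Perm.sign (ψ g) = 1)
    (P : Sylow p G) (hP : Nat.card P = p) :
    2 * Nat.card (Subgroup.normalizer ((P : Subgroup G) : Set G)) ∣ p * (p - 1) := by
  have hα2 : 2 ≤ Fintype.card α := by
    have := hp.out.two_le
    rcases hα with h | h <;> omega
  set P' : Subgroup (Equiv.Perm α) := (P : Subgroup G).map ψ with hP'
  have hP'p : IsPGroup p P' := P.2.map ψ
  have hP'card : Nat.card P' = p := by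
    rw [hP', Subgroup.card_map_of_injective hψ]; exact hP
  obtain ⟨Pt, hle⟩ := hP'p.exists_le_sylow
  have hPtcard : Nat.card (Pt : Subgroup (Equiv.Perm α)) = p := Cfsg.Agent.S0989.card_sylow p hα Pt
  have hPeq : P' = (Pt : Subgroup (Equiv.Perm α)) :=
    Subgroup.eq_of_le_of_card_ge hle (by rw [hPtcard, hP'card])
  obtain ⟨hPA, h2⟩ := Cfsg.Agent.S0990.result hα2 p hp2 Pt
  rw [Cfsg.Agent.S0989.result p hα Pt, ← Subgroup.subgroupOf_normalizer_eq hPA,
    Cfsg.Agent.S0990.card_subgroupOf] at h2
  set N' : Subgroup (Equiv.Perm α) :=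
    (Subgroup.normalizer ((P : Subgroup G) : Set G)).map ψ with hN'
  have hN'le : N' ≤ Subgroup.normalizer ((Pt : Subgroup (Equiv.Perm α)) : Set (Equiv.Perm α)) ⊓
      alternatingGroup α := by
    apply le_inf
    · rw [← hPeq]; exact Subgroup.le_normalizer_map ψ
    · rintro x ⟨g, _, rfl⟩
      rw [Equiv.Perm.mem_alternatingGroup]
      exact hsign g
  have hdvd := Subgroup.card_dvd_of_le hN'le
  rw [hN', Subgroup.card_map_of_injective hψ] at hdvd
  rw [← h2]
  exact Nat.mul_dvd_mul_left 2 hdvd

/-- If `G` embeds into `Sym(α)` with `|α| ∈ {p, p+1}` and a Sylow `p`-subgroup `P` of `G`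
has order `p`, then `|N_G(P)|` divides `p * (p - 1)`. -/
theorem card_normalizer_dvd_of_embedding {G : Type*} [Group G] [Finite G]
    {α : Type*} [Fintype α] [DecidableEq α] {p : ℕ} [hp : Fact p.Prime]
    (hα : Fintype.card α = p ∨ Fintype.card α = p + 1)
    (ψ : G →* Equiv.Perm α) (hψ : Function.Injective ψ)
    (P : Sylow p G) (hP : Nat.card P = p) :
    Nat.card (Subgroup.normalizer ((P : Subgroup G) : Set G)) ∣ p * (p - 1) := by
  set P' : Subgroup (Equiv.Perm α) := (P : Subgroup G).map ψ with hP'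
  have hP'p : IsPGroup p P' := P.2.map ψ
  have hP'card : Nat.card P' = p := by
    rw [hP', Subgroup.card_map_of_injective hψ]; exact hP
  obtain ⟨Pt, hle⟩ := hP'p.exists_le_sylow
  have hPtcard : Nat.card (Pt : Subgroup (Equiv.Perm α)) = p := Cfsg.Agent.S0989.card_sylow p hα Pt
  have hPeq : P' = (Pt : Subgroup (Equiv.Perm α)) :=
    Subgroup.eq_of_le_of_card_ge hle (by rw [hPtcard, hP'card])
  have hN'le : (Subgroup.normalizer ((P : Subgroup G) : Set G)).map ψ ≤
      Subgroup.normalizer ((Pt : Subgroup (Equiv.Perm α)) : Set (Equiv.Perm α)) := by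
    rw [← hPeq]; exact Subgroup.le_normalizer_map ψ
  have hdvd := Subgroup.card_dvd_of_le hN'le
  rwa [Subgroup.card_map_of_injective hψ, Cfsg.Agent.S0989.result p hα Pt] at hdvd

/-- For a nonabelian simple group with `n_p = p + 1` and Sylow `p`-subgroups of order `p` odd,
`2 * |N_G(P)|` divides `p * (p - 1)`. -/
theorem two_mul_card_normalizer_dvd {G : Type*} [Group G] [Finite G] [IsSimpleGroup G]
    (hG : ¬ IsMulCommutative G) {p : ℕ} [hp : Fact p.Prime] (hp2 : p ≠ 2)
    (P : Sylow p G) (hP : Nat.card P = p) (hn : Nat.card (Sylow p G) = p + 1) :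
    2 * Nat.card (Subgroup.normalizer ((P : Subgroup G) : Set G)) ∣ p * (p - 1) := by
  classical
  set H := Subgroup.normalizer ((P : Subgroup G) : Set G) with hH
  have hidx : H.index = p + 1 := by
    rw [← hn]; exact (Sylow.card_eq_index_normalizer P).symm
  have hHtop : H ≠ ⊤ := by
    intro h
    rw [h, Subgroup.index_top] at hidx
    have := hp.out.pos
    omega
  haveI : Fintype (G ⧸ H) := Fintype.ofFinite _
  have hcard : Fintype.card (G ⧸ H) = p + 1 := by
    rw [← Nat.card_eq_fintype_card]; exact hidx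
  exact two_mul_card_normalizer_dvd_of_embedding hp2 (Or.inr hcard)
    (MulAction.toPermHom G (G ⧸ H)) (Cfsg.Agent.S0991.toPermHom_injective H hHtop)
    (fun g => Cfsg.Agent.S0991.sign_eq_one_of_injective hG _ g) P hP

/-- A simple group with a proper subgroup of index `k` has order dividing `k!`. -/
theorem card_dvd_factorial_index {G : Type*} [Group G] [Finite G] [IsSimpleGroup G]
    (H : Subgroup G) (hH : H ≠ ⊤) : Nat.card G ∣ H.index.factorial := by
  classical
  haveI : Fintype (G ⧸ H) := Fintype.ofFinite _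
  have h := Subgroup.card_dvd_of_injective _ (Cfsg.Agent.S0991.toPermHom_injective H hH)
  rwa [Nat.card_perm] at h

/-- A nonabelian simple group with a proper subgroup of index `k` has `2 * |G| ∣ k!`. -/
theorem two_mul_card_dvd_factorial_index {G : Type*} [Group G] [Finite G] [IsSimpleGroup G]
    (hG : ¬ IsMulCommutative G) (H : Subgroup G) (hH : H ≠ ⊤) :
    2 * Nat.card G ∣ H.index.factorial := by
  classical
  obtain ⟨f, hf⟩ := Cfsg.Agent.S0991.result hG H hH
  have h := Subgroup.card_dvd_of_injective f hf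
  have h1 : 1 < H.index := by
    rcases Nat.lt_or_ge 1 H.index with h | h
    · exact h
    · exfalso
      have h0 : H.index ≠ 0 := Subgroup.index_ne_zero_of_finite
      have : H.index = 1 := by omega
      exact hH (Subgroup.index_eq_one.mp this)
  haveI : Nontrivial (Fin H.index) := Fin.nontrivial_iff_two_le.mpr h1
  have h2 := two_mul_nat_card_alternatingGroup (α := Fin H.index)
  rw [Nat.card_perm, Nat.card_eq_fintype_card (α := Fin H.index), Fintype.card_fin] at h2
  rw [← h2]
  exact Nat.mul_dvd_mul_left 2 h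

end Cfsg.Agent.Lib.Lead.PrimeDegree
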