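import Mathlib
import Cfsg.Agent.Lib.Helper5.TvGL

set_option autoImplicit false

/-!
Landazuri–Seitz type bound for `SL_n(q)`: a representation with central kernel in
cross characteristic has degree at least `q^(n-1) - 1`.
-/

namespace Cfsg.Agent.Lib.Lead.LS1

open Matrix
open Cfsg.Agent.Lib.Helper5.TvGL

section Trans

variable {F : Type*} [Field F] {m : ℕ}

theorem core (w : Fin m → F) (k : Fin m) (φ : Fin m → F) (h1 : φ k = 1) (h2 : φ ⬝ᵥ w = 1) :
    ∃ A : Matrix.SpecialLinearGroup (Fin m) F,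
      (A : Matrix (Fin m) (Fin m) F) *ᵥ w = Pi.single k 1 := by
  have hdet : (tvMat φ (Pi.single k 1 - w)).det = 1 := by
    apply det_tvMat
    rw [dotProduct_sub, dotProduct_single, h1, h2]
    simp
  refine ⟨⟨_, hdet⟩, ?_⟩
  show tvMat φ (Pi.single k 1 - w) *ᵥ w = _
  rw [tvMat_mulVec, h2, one_smul]
  abel

theorem to_single_of_exists (w : Fin m → F) (k j : Fin m) (hjk : j ≠ k) (hwj : w j ≠ 0) :
    ∃ A : Matrix.SpecialLinearGroup (Fin m) F,
      (A : Matrix (Fin m) (Fin m) F) *ᵥ w = Pi.single k 1 := by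
  refine core w k (Pi.single k 1 + Pi.single j ((1 - w k) / w j)) ?_ ?_
  · simp [hjk.symm]
  · rw [add_dotProduct, single_dotProduct, single_dotProduct, one_mul]
    field_simp
    ring

theorem to_single (hm : 2 ≤ m) (w : Fin m → F) (hw : w ≠ 0) (k : Fin m) :
    ∃ A : Matrix.SpecialLinearGroup (Fin m) F,
      (A : Matrix (Fin m) (Fin m) F) *ᵥ w = Pi.single k 1 := by
  by_cases hj : ∃ j, j ≠ k ∧ w j ≠ 0
  · obtain ⟨j, hjk, hwj⟩ := hj
    exact to_single_of_exists w k j hjk hwj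
  · push Not at hj
    have hwk : w k ≠ 0 := by
      intro h0
      apply hw
      ext j
      by_cases h : j = k
      · rw [h, h0]; rfl
      · exact hj j h
    obtain ⟨l, hl⟩ : ∃ l : Fin m, l ≠ k := by
      by_cases h0 : k = ⟨0, by omega⟩
      · refine ⟨⟨1, by omega⟩, ?_⟩
        rw [h0]
        intro h
        simp [Fin.ext_iff] at h
      · exact ⟨⟨0, by omega⟩, fun h => h0 h.symm⟩
    have hdet : (tvMat ((w k)⁻¹ • Pi.single k 1) (Pi.single l (1 : F))).det = 1 := by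
      apply det_tvMat
      rw [smul_dotProduct, single_dotProduct]
      simp [hl.symm]
    have hstep : tvMat ((w k)⁻¹ • Pi.single k 1) (Pi.single l (1 : F)) *ᵥ w
        = w + Pi.single l 1 := by
      rw [tvMat_mulVec, smul_dotProduct, single_dotProduct, one_mul, smul_eq_mul,
        inv_mul_cancel₀ hwk, one_smul]
    have hl1 : (w + (Pi.single l (1 : F) : Fin m → F) : Fin m → F) l ≠ 0 := by
      rw [Pi.add_apply, hj l hl, zero_add, Pi.single_eq_same]
      exact one_ne_zero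
    obtain ⟨A₁, hA₁⟩ := to_single_of_exists (w + (Pi.single l (1 : F) : Fin m → F)) k l hl hl1
    obtain ⟨T, hT⟩ : ∃ T : Matrix.SpecialLinearGroup (Fin m) F,
        (T : Matrix (Fin m) (Fin m) F) = tvMat ((w k)⁻¹ • Pi.single k 1) (Pi.single l (1 : F)) :=
      ⟨⟨_, hdet⟩, rfl⟩
    refine ⟨A₁ * T, ?_⟩
    rw [Matrix.SpecialLinearGroup.coe_mul, ← mulVec_mulVec, hT, hstep, hA₁]

theorem trans_vec (hm : 2 ≤ m) (w w' : Fin m → F) (hw : w ≠ 0) (hw' : w' ≠ 0) :
    ∃ A : Matrix.SpecialLinearGroup (Fin m) F,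
      (A : Matrix (Fin m) (Fin m) F) *ᵥ w = w' := by
  obtain ⟨A, hA⟩ := to_single hm w hw ⟨0, by omega⟩
  obtain ⟨B, hB⟩ := to_single hm w' hw' ⟨0, by omega⟩
  refine ⟨B⁻¹ * A, ?_⟩
  rw [Matrix.SpecialLinearGroup.coe_mul, ← mulVec_mulVec, hA, ← hB, mulVec_mulVec,
    ← Matrix.SpecialLinearGroup.coe_mul, inv_mul_cancel, Matrix.SpecialLinearGroup.coe_one,
    one_mulVec]

end Trans

section Blocks

variable {F : Type*} [Field F] {m : ℕ}

/-- the unipotent element with first row `(1, v)`. -/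
def xm (v : Fin m → F) : Matrix.SpecialLinearGroup (Unit ⊕ Fin m) F :=
  ⟨fromBlocks 1 (replicateRow Unit v) 0 1, by rw [det_fromBlocks_zero₂₁]; simp⟩

/-- the block diagonal element `diag(1, A)`. -/
def gm (A : Matrix.SpecialLinearGroup (Fin m) F) : Matrix.SpecialLinearGroup (Unit ⊕ Fin m) F :=
  ⟨fromBlocks 1 0 0 A.1, by rw [det_fromBlocks_zero₂₁]; simp [A.2]⟩

theorem xm_add (v v' : Fin m → F) : xm (v + v') = xm v * xm v' := by
  apply Subtype.ext
  show fromBlocks 1 (replicateRow Unit (v + v')) 0 1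
    = fromBlocks 1 (replicateRow Unit v) 0 1 * fromBlocks 1 (replicateRow Unit v') 0 1
  rw [fromBlocks_multiply, replicateRow_add]
  simp [add_comm]

theorem xm_zero : xm (0 : Fin m → F) = 1 := by
  apply Subtype.ext
  show fromBlocks 1 (replicateRow Unit (0 : Fin m → F)) 0 1 = 1
  rw [← fromBlocks_one]
  congr 1

theorem xm_mul_gm (u : Fin m → F) (A : Matrix.SpecialLinearGroup (Fin m) F) :
    xm u * gm A = gm A * xm (u ᵥ* A.1) := by
  apply Subtype.ext
  show fromBlocks 1 (replicateRow Unit u) 0 1 * fromBlocks 1 0 0 A.1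
    = fromBlocks 1 0 0 A.1 * fromBlocks 1 (replicateRow Unit (u ᵥ* A.1)) 0 1
  rw [fromBlocks_multiply, fromBlocks_multiply, replicateRow_vecMul]
  simp

theorem xm_apply (v : Fin m → F) (j : Fin m) :
    (xm v).1 (Sum.inl ()) (Sum.inr j) = v j := by
  show fromBlocks 1 (replicateRow Unit v) 0 1 (Sum.inl ()) (Sum.inr j) = v j
  rw [fromBlocks_apply₁₂, replicateRow_apply]

end Blocks

section Count

variable {F : Type*} [Field F] [Fintype F] {K' : Type*} [Field K'] {m d : ℕ}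
  (ψ : AddChar F K')
  (M : Matrix.SpecialLinearGroup (Unit ⊕ Fin m) F →* Matrix (Fin d) (Fin d) K')

theorem orth (hψ : ∃ a, ψ a ≠ 1) (u : Fin m → F) (hu : u ≠ 0) :
    ∑ v : Fin m → F, ψ (u ⬝ᵥ v) = 0 := by
  classical
  obtain ⟨a, ha⟩ := hψ
  obtain ⟨j, hj⟩ : ∃ j, u j ≠ 0 := by
    by_contra h
    push Not at h
    exact hu (funext h)
  set v₀ : Fin m → F := Pi.single j (a / u j) with hv₀
  have h0 : u ⬝ᵥ v₀ = a := by
    rw [hv₀, dotProduct_single]
    field_simp
  have key : ∑ v : Fin m → F, ψ (u ⬝ᵥ v) = ψ a * ∑ v : Fin m → F, ψ (u ⬝ᵥ v) := by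
    calc ∑ v : Fin m → F, ψ (u ⬝ᵥ v)
        = ∑ v : Fin m → F, ψ (u ⬝ᵥ (Equiv.addRight v₀ v)) :=
          (Equiv.sum_comp (Equiv.addRight v₀) (fun v => ψ (u ⬝ᵥ v))).symm
      _ = ∑ v : Fin m → F, ψ a * ψ (u ⬝ᵥ v) := by
          refine Finset.sum_congr rfl fun v _ => ?_
          simp only [Equiv.coe_addRight, dotProduct_add, h0, AddChar.map_add_eq_mul]
          ring
      _ = ψ a * ∑ v : Fin m → F, ψ (u ⬝ᵥ v) := by rw [Finset.mul_sum]
  have h1 : (1 - ψ a) * ∑ v : Fin m → F, ψ (u ⬝ᵥ v) = 0 := by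
    rw [sub_mul, one_mul, ← key, sub_self]
  rcases mul_eq_zero.mp h1 with h | h
  · exact absurd (sub_eq_zero.mp h).symm ha
  · exact h

/-- the (unnormalised) projector onto the `w`-eigenspace. -/
noncomputable def emat (w : Fin m → F) : Matrix (Fin d) (Fin d) K' :=
  ∑ v : Fin m → F, ψ (-(w ⬝ᵥ v)) • M (xm v)

theorem mul_emat (u w : Fin m → F) : M (xm u) * emat ψ M w = ψ (w ⬝ᵥ u) • emat ψ M w := by
  unfold emat
  rw [Finset.mul_sum, Finset.smul_sum]
  calc ∑ v : Fin m → F, M (xm u) * (ψ (-(w ⬝ᵥ v)) • M (xm v))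
      = ∑ v : Fin m → F, ψ (w ⬝ᵥ u) • (ψ (-(w ⬝ᵥ (u + v))) • M (xm (u + v))) := by
        refine Finset.sum_congr rfl fun v _ => ?_
        have h : ψ (-(w ⬝ᵥ v)) = ψ (w ⬝ᵥ u) * ψ (-(w ⬝ᵥ (u + v))) := by
          rw [← AddChar.map_add_eq_mul]
          congr 1
          rw [dotProduct_add]
          ring
        rw [Matrix.mul_smul, ← map_mul, ← xm_add, smul_smul, h]
    _ = ∑ v : Fin m → F, ψ (w ⬝ᵥ u) • (ψ (-(w ⬝ᵥ v)) • M (xm v)) :=
        Equiv.sum_comp (Equiv.addLeft u)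
          (fun v => ψ (w ⬝ᵥ u) • (ψ (-(w ⬝ᵥ v)) • M (xm v)))

theorem emat_mulVec (w w' : Fin m → F) (y : Fin d → K')
    (hy : ∀ v, M (xm v) *ᵥ y = ψ (w' ⬝ᵥ v) • y) :
    emat ψ M w *ᵥ y = (∑ v : Fin m → F, ψ ((w' - w) ⬝ᵥ v)) • y := by
  unfold emat
  rw [Matrix.sum_mulVec, Finset.sum_smul]
  refine Finset.sum_congr rfl fun v _ => ?_
  rw [Matrix.smul_mulVec, hy v, smul_smul, ← AddChar.map_add_eq_mul]
  congr 2
  rw [sub_dotProduct]
  ring

theorem sum_emat (hψ : ∃ a, ψ a ≠ 1) :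
    ∑ w : Fin m → F, emat ψ M w = (Fintype.card (Fin m → F) : K') • (1 : Matrix (Fin d) (Fin d) K') := by
  classical
  unfold emat
  rw [Finset.sum_comm]
  have inner : ∀ v : Fin m → F, ∑ w : Fin m → F, ψ (-(w ⬝ᵥ v)) • M (xm v)
      = (if v = 0 then (Fintype.card (Fin m → F) : K') else 0) • M (xm v) := by
    intro v
    rw [← Finset.sum_smul]
    congr 1
    have hh : ∀ w : Fin m → F, -(w ⬝ᵥ v) = (-v) ⬝ᵥ w := fun w => by
      rw [neg_dotProduct, dotProduct_comm]
    simp only [hh]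
    split_ifs with h
    · subst h
      simp only [neg_zero, zero_dotProduct, AddChar.map_zero_eq_one, Finset.sum_const,
        Finset.card_univ, nsmul_eq_mul, mul_one]
    · exact orth ψ hψ (-v) (neg_ne_zero.mpr h)
  rw [Finset.sum_congr rfl (fun v _ => inner v), Finset.sum_eq_single (0 : Fin m → F)]
  · simp [xm_zero]
  · intro v _ hv
    simp [hv]
  · intro h
    exact absurd (Finset.mem_univ _) h

theorem main_count (hm : 2 ≤ m) (hψ : ∃ a, ψ a ≠ 1) (hN : (Fintype.card F : K') ≠ 0)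
    (hM : ∀ v : Fin m → F, M (xm v) = 1 → v = 0) :
    Fintype.card F ^ m - 1 ≤ d := by
  classical
  have hN' : (Fintype.card (Fin m → F) : K') ≠ 0 := by
    rw [Fintype.card_pi_const, Nat.cast_pow]
    exact pow_ne_zero _ hN
  let S : (Fin m → F) → Prop := fun w =>
    ∃ y : Fin d → K', y ≠ 0 ∧ ∀ v, M (xm v) *ᵥ y = ψ (w ⬝ᵥ v) • y
  have hinv : ∀ (A : Matrix.SpecialLinearGroup (Fin m) F) (w : Fin m → F),
      S w → S (A.1 *ᵥ w) := by
    rintro A w ⟨y, hy0, hy⟩
    refine ⟨M (gm A) *ᵥ y, ?_, ?_⟩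
    · intro h0
      apply hy0
      have hh : M ((gm A)⁻¹) *ᵥ (M (gm A) *ᵥ y) = y := by
        rw [mulVec_mulVec, ← map_mul, inv_mul_cancel, map_one, one_mulVec]
      rw [← hh, h0, mulVec_zero]
    · intro u
      rw [mulVec_mulVec, ← map_mul, xm_mul_gm, map_mul, ← mulVec_mulVec, hy, mulVec_smul]
      congr 2
      rw [dotProduct_comm, ← dotProduct_mulVec, dotProduct_comm]
  have hex : ∃ w : Fin m → F, w ≠ 0 ∧ S w := by
    by_contra hcon
    push Not at hcon
    have hE0 : ∀ w : Fin m → F, w ≠ 0 → emat ψ M w = 0 := by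
      intro w hw
      apply Matrix.mulVec_injective
      funext z
      rw [zero_mulVec]
      by_contra hz
      apply hcon w hw
      refine ⟨emat ψ M w *ᵥ z, hz, fun v => ?_⟩
      rw [mulVec_mulVec, mul_emat, smul_mulVec]
    have h1 : emat ψ M 0
        = (Fintype.card (Fin m → F) : K') • (1 : Matrix (Fin d) (Fin d) K') := by
      rw [← sum_emat ψ M hψ, Finset.sum_eq_single (0 : Fin m → F)]
      · intro w _ hw
        exact hE0 w hw
      · intro h
        exact absurd (Finset.mem_univ _) h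
    have h2 : ∀ u : Fin m → F, M (xm u) = 1 := by
      intro u
      have h3 := mul_emat ψ M u 0
      rw [zero_dotProduct, AddChar.map_zero_eq_one, one_smul, h1, Matrix.mul_smul, mul_one] at h3
      have h4 := congrArg (fun B => (Fintype.card (Fin m → F) : K')⁻¹ • B) h3
      simp only [smul_smul, inv_mul_cancel₀ hN', one_smul] at h4
      exact h4
    have h3 := hM (Pi.single ⟨0, by omega⟩ 1) (h2 _)
    have h4 := congrFun h3 ⟨0, by omega⟩
    simp at h4
  have hall' : ∀ w : Fin m → F, w ≠ 0 → S w := by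
    obtain ⟨w₀, hw₀, hS⟩ := hex
    intro w hw
    obtain ⟨A, hA⟩ := trans_vec hm w₀ w hw₀ hw
    rw [← hA]
    exact hinv A w₀ hS
  let T : Finset (Fin m → F) := (Finset.univ : Finset (Fin m → F)).erase 0
  have hall : ∀ w : ↥T, S w.1 := fun w => hall' w.1 (Finset.ne_of_mem_erase w.2)
  choose y hy0 hy using hall
  have hli : LinearIndependent K' y := by
    rw [linearIndependent_iff']
    intro s g hg i hi
    have h1 : emat ψ M i.1 *ᵥ (∑ j ∈ s, g j • y j) = 0 := by rw [hg, mulVec_zero]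
    rw [mulVec_sum] at h1
    have h2 : ∀ j ∈ s, emat ψ M i.1 *ᵥ (g j • y j)
        = if j = i then (g j * (Fintype.card (Fin m → F) : K')) • y j else 0 := by
      intro j _
      rw [mulVec_smul, emat_mulVec ψ M i.1 j.1 (y j) (hy j)]
      split_ifs with h
      · subst h
        rw [sub_self]
        simp only [zero_dotProduct, AddChar.map_zero_eq_one, Finset.sum_const, Finset.card_univ,
          nsmul_eq_mul, mul_one, smul_smul]
      · rw [orth ψ hψ (j.1 - i.1) (sub_ne_zero.mpr (fun h' => h (Subtype.ext h'))), zero_smul,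
          smul_zero]
    rw [Finset.sum_congr rfl h2, Finset.sum_ite_eq' s i, if_pos hi] at h1
    rcases smul_eq_zero.mp h1 with h | h
    · rcases mul_eq_zero.mp h with h | h
      · exact h
      · exact absurd h hN'
    · exact absurd h (hy0 i)
  have hcard := hli.fintype_card_le_finrank
  rw [Module.finrank_fin_fun, Fintype.card_coe, Finset.card_erase_of_mem (Finset.mem_univ _),
    Finset.card_univ, Fintype.card_pi_const] at hcard
  exact hcard

end Count

end Cfsg.Agent.Lib.Lead.LS1
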