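import Mathlib

set_option autoImplicit false

namespace Cfsg.Agent.Lib.Lead.MinNormalPower

open scoped Pointwise

/-- a fresh copy of `Fin n` carrying no algebraic instances -/
structure Carrier (n : ℕ) : Type where
  val : Fin n

def Carrier.equivFin (n : ℕ) : Carrier n ≃ Fin n where
  toFun := Carrier.val
  invFun := Carrier.mk
  left_inv := fun _ => rfl
  right_inv := fun _ => rfl

/-- `(Fin m → T) × T ≃* (Fin (m+1) → T)` -/
def consMulEquiv (T : Type*) [Group T] (m : ℕ) : ((Fin m → T) × T) ≃* (Fin (m + 1) → T) where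
  toFun := fun p => Fin.cons (α := fun _ => T) p.2 p.1
  invFun := fun f => (fun i => f i.succ, f 0)
  left_inv := by
    intro p
    simp
  right_inv := by
    intro f
    funext i
    refine Fin.cases ?_ ?_ i
    · simp
    · intro j; simp
  map_mul' := by
    intro p q
    funext i
    refine Fin.cases ?_ ?_ i
    · simp
    · intro j; simp

variable {H : Type*} [Group H]

theorem sup_equiv_prod (A B : Subgroup H) (hcomm : ∀ a ∈ A, ∀ b ∈ B, a * b = b * a)
    (hdisj : A ⊓ B = ⊥) : Nonempty ((A ⊔ B : Subgroup H) ≃* A × B) := by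
  have comm : ∀ (a : A) (b : B), Commute (A.subtype a) (B.subtype b) :=
    fun a b => hcomm a.1 a.2 b.1 b.2
  have hinj : Function.Injective (MonoidHom.noncommCoprod A.subtype B.subtype comm) := by
    rw [MonoidHom.noncommCoprod_injective]
    refine ⟨Subgroup.subtype_injective _, Subgroup.subtype_injective _, ?_⟩
    rw [Subgroup.range_subtype, Subgroup.range_subtype, disjoint_iff, hdisj]
  have hrange : (MonoidHom.noncommCoprod A.subtype B.subtype comm).range = A ⊔ B := by
    rw [MonoidHom.noncommCoprod_range, Subgroup.range_subtype, Subgroup.range_subtype]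
  exact ⟨(MulEquiv.subgroupCongr hrange.symm).trans (MonoidHom.ofInjective hinj).symm⟩

/-- invariant under conjugation by `N` -/
def Inv (N M : Subgroup H) : Prop := M ≤ N ∧ ∀ n ∈ N, ∀ x ∈ M, n * x * n⁻¹ ∈ M

theorem Inv.inf {N A B : Subgroup H} (hA : Inv N A) (hB : Inv N B) : Inv N (A ⊓ B) :=
  ⟨inf_le_left.trans hA.1, fun n hn x hx =>
    Subgroup.mem_inf.mpr ⟨hA.2 n hn x (Subgroup.mem_inf.mp hx).1, hB.2 n hn x (Subgroup.mem_inf.mp hx).2⟩⟩

theorem Inv.sup {N A B : Subgroup H} (hA : Inv N A) (hB : Inv N B) : Inv N (A ⊔ B) := by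
  refine ⟨sup_le hA.1 hB.1, fun n hn x hx => ?_⟩
  have h1 : A ⊔ B ≤ (A ⊔ B).comap (MulAut.conj n).toMonoidHom := by
    apply sup_le
    · intro a ha
      rw [Subgroup.mem_comap]
      exact Subgroup.mem_sup_left (hA.2 n hn a ha)
    · intro b hb
      rw [Subgroup.mem_comap]
      exact Subgroup.mem_sup_right (hB.2 n hn b hb)
  exact h1 hx

theorem Inv.commute {N A B : Subgroup H} (hA : Inv N A) (hB : Inv N B) (hdisj : A ⊓ B = ⊥) :
    ∀ a ∈ A, ∀ b ∈ B, a * b = b * a := by
  intro a ha b hb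
  have h1 : a * b * a⁻¹ * b⁻¹ ∈ A := by
    have := hA.2 b (hB.1 hb) a⁻¹ (A.inv_mem ha)
    have h2 : a * b * a⁻¹ * b⁻¹ = a * (b * a⁻¹ * b⁻¹) := by group
    rw [h2]
    exact A.mul_mem ha this
  have h2 : a * b * a⁻¹ * b⁻¹ ∈ B := by
    have := hB.2 a (hA.1 ha) b hb
    exact B.mul_mem this (B.inv_mem hb)
  have h3 : a * b * a⁻¹ * b⁻¹ ∈ A ⊓ B := Subgroup.mem_inf.mpr ⟨h1, h2⟩
  rw [hdisj, Subgroup.mem_bot] at h3
  have : a * b = (a * b * a⁻¹ * b⁻¹) * (b * a) := by group
  rw [this, h3, one_mul]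

theorem mem_conj_iff (T : Subgroup H) (g x : H) :
    x ∈ MulAut.conj g • T ↔ g⁻¹ * x * g ∈ T := by
  rw [Subgroup.mem_pointwise_smul_iff_inv_smul_mem, MulAut.smul_def, ← map_inv,
    MulAut.conj_apply, inv_inv]

theorem inv_conj {N : Subgroup H} [hNn : N.Normal] {T : Subgroup H} (hT : Inv N T) (g : H) :
    Inv N (MulAut.conj g • T) := by
  constructor
  · intro x hx
    rw [mem_conj_iff] at hx
    have h1 := hT.1 hx
    have h2 := hNn.conj_mem _ h1 g
    have : g * (g⁻¹ * x * g) * g⁻¹ = x := by group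
    rwa [this] at h2
  · intro n hn x hx
    rw [mem_conj_iff] at hx ⊢
    have h1 : g⁻¹ * n * g ∈ N := by
      have := hNn.conj_mem n hn g⁻¹
      rwa [inv_inv] at this
    have h2 := hT.2 _ h1 _ hx
    have : g⁻¹ * n * g * (g⁻¹ * x * g) * (g⁻¹ * n * g)⁻¹ = g⁻¹ * (n * x * n⁻¹) * g := by group
    rwa [this] at h2

section Main

variable [Finite H] (N : Subgroup H) [hNn : N.Normal]
  (hmin : ∀ M : Subgroup H, M.Normal → M ≤ N → M = ⊥ ∨ M = N)
  (T : Subgroup H) (hTinv : Inv N T) (hT1 : T ≠ ⊥)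
  (hTmin : ∀ T₁ : Subgroup H, Inv N T₁ → T₁ ≠ ⊥ → Nat.card T ≤ Nat.card T₁)

include hTmin in
theorem conj_min (g : H) (T₁ : Subgroup H) (h1 : Inv N T₁) (h2 : T₁ ≠ ⊥)
    (h3 : T₁ ≤ MulAut.conj g • T) : T₁ = MulAut.conj g • T := by
  apply Subgroup.eq_of_le_of_card_ge h3
  rw [← Nat.card_congr (Subgroup.equivSMul (MulAut.conj g) T).toEquiv]
  exact hTmin T₁ h1 h2

theorem conj_ne_bot (hT1 : T ≠ ⊥) (g : H) : MulAut.conj g • T ≠ ⊥ := by
  intro h
  apply hT1
  rw [eq_bot_iff]
  intro x hx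
  have : g * x * g⁻¹ ∈ MulAut.conj g • T := by
    rw [mem_conj_iff]
    have : g⁻¹ * (g * x * g⁻¹) * g = x := by group
    rwa [this]
  rw [h, Subgroup.mem_bot] at this
  rw [Subgroup.mem_bot]
  have h2 : x = g⁻¹ * (g * x * g⁻¹) * g := by group
  rw [h2, this]; group

include hmin hTinv hT1 in
/-- the conjugates of `T` generate `N` -/
theorem iSup_conj_eq : (⨆ g : H, MulAut.conj g • T) = N := by
  have hnorm : (⨆ g : H, MulAut.conj g • T).Normal := by
    constructor
    intro x hx k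
    have h1 : (⨆ g : H, MulAut.conj g • T) ≤
        (⨆ g : H, MulAut.conj g • T).comap (MulAut.conj k).toMonoidHom := by
      apply iSup_le
      intro g y hy
      rw [Subgroup.mem_comap]
      have : (MulAut.conj k).toMonoidHom y ∈ MulAut.conj (k * g) • T := by
        rw [mem_conj_iff] at hy ⊢
        show (k * g)⁻¹ * (k * y * k⁻¹) * (k * g) ∈ T
        have : (k * g)⁻¹ * (k * y * k⁻¹) * (k * g) = g⁻¹ * y * g := by group
        rwa [this]
      exact (le_iSup (fun g : H => MulAut.conj g • T) (k * g)) this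
    exact h1 hx
  have hle : (⨆ g : H, MulAut.conj g • T) ≤ N := by
    apply iSup_le
    intro g
    exact (inv_conj hTinv g).1
  rcases hmin _ hnorm hle with h | h
  · exfalso
    apply hT1
    rw [eq_bot_iff, ← h]
    have := le_iSup (fun g : H => MulAut.conj g • T) 1
    simpa using this
  · exact h

include hmin hTinv hT1 hTmin in
/-- `T` is simple -/
theorem simple_T : IsSimpleGroup T := by
  haveI : Nontrivial T := by
    rw [Subgroup.nontrivial_iff_ne_bot]; exact hT1
  constructor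
  intro K hK
  -- the normaliser of the image of `K` contains every conjugate of `T`
  set K' : Subgroup H := K.map T.subtype with hK'
  have hK'le : K' ≤ T := by
    rw [hK']; exact Subgroup.map_subtype_le K
  have hnorm : N ≤ Subgroup.normalizer (K' : Set H) := by
    rw [← iSup_conj_eq N hmin T hTinv hT1]
    apply iSup_le
    intro g
    by_cases hg : MulAut.conj g • T = T
    · rw [hg]
      intro t ht
      rw [Subgroup.mem_normalizer_iff]
      intro x
      constructor
      · intro hx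
        rw [hK', Subgroup.mem_map] at hx ⊢
        obtain ⟨k, hk, rfl⟩ := hx
        exact ⟨⟨t, ht⟩ * k * ⟨t, ht⟩⁻¹, hK.conj_mem k hk ⟨t, ht⟩, rfl⟩
      · intro hx
        rw [hK', Subgroup.mem_map] at hx ⊢
        obtain ⟨k, hk, hkx⟩ := hx
        refine ⟨⟨t, ht⟩⁻¹ * k * ⟨t, ht⟩, ?_, ?_⟩
        · have := hK.conj_mem k hk ⟨t, ht⟩⁻¹
          rwa [inv_inv] at this
        · show t⁻¹ * (k : H) * t = x
          have hk' : (k : H) = t * x * t⁻¹ := hkx
          rw [hk']; group
    · -- distinct conjugate commutes with `T`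
      have hdisj : (MulAut.conj g • T) ⊓ T = ⊥ := by
        by_contra hne
        have h1 : Inv N ((MulAut.conj g • T) ⊓ T) := (inv_conj hTinv g).inf hTinv
        have h2 := conj_min N T hTmin g _ h1 hne inf_le_left
        have h3 : Nat.card T ≤ Nat.card ((MulAut.conj g • T) ⊓ T : Subgroup H) := hTmin _ h1 hne
        have h4 : ((MulAut.conj g • T) ⊓ T : Subgroup H) = T :=
          Subgroup.eq_of_le_of_card_ge inf_le_right h3
        exact hg (h2.symm.trans h4)
      have hcomm := (inv_conj hTinv g).commute hTinv hdisj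
      intro c hc
      rw [Subgroup.mem_normalizer_iff]
      intro x
      have hcx : ∀ y ∈ K', c * y * c⁻¹ = y := by
        intro y hy
        have := hcomm c hc y (hK'le hy)
        rw [this]; group
      constructor
      · intro hx
        rw [hcx x hx]; exact hx
      · intro hx
        have h1 := hcx _ hx
        have h3 : c * (c * x * c⁻¹) * c⁻¹ = c * x * c⁻¹ := h1
        have h4 : c * x * c⁻¹ = x := by
          calc c * x * c⁻¹ = c⁻¹ * (c * (c * x * c⁻¹) * c⁻¹) * c := by group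
            _ = c⁻¹ * (c * x * c⁻¹) * c := by rw [h3]
            _ = x := by group
        rw [← h4]; exact hx
  have hK'inv : Inv N K' := by
    refine ⟨hK'le.trans hTinv.1, fun n hn x hx => ?_⟩
    have := hnorm hn
    rw [Subgroup.mem_normalizer_iff] at this
    exact (this x).mp hx
  by_cases hKb : K' = ⊥
  · left
    rw [eq_bot_iff]
    intro k hk
    have : (k : H) ∈ K' := by
      rw [hK']; exact Subgroup.mem_map_of_mem _ hk
    rw [hKb, Subgroup.mem_bot] at this
    rw [Subgroup.mem_bot]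
    exact Subtype.ext this
  · right
    have h1 : K' = T := Subgroup.eq_of_le_of_card_ge hK'le (hTmin K' hK'inv hKb)
    rw [eq_top_iff]
    intro t _
    have : (t : H) ∈ K' := by rw [h1]; exact t.2
    rw [hK', Subgroup.mem_map] at this
    obtain ⟨k, hk, hkt⟩ := this
    have : k = t := Subtype.ext hkt
    rwa [← this]

include hmin hTinv hT1 hTmin in
theorem power (T₀ : Type) [Group T₀] (e₀ : T ≃* T₀) (hN : N ≠ ⊥) :
    ∃ m : ℕ, 0 < m ∧ Nonempty (N ≃* (Fin m → T₀)) := by
  classical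
  let P : Subgroup H → Prop := fun M => Inv N M ∧ ∃ m : ℕ, Nonempty (M ≃* (Fin m → T₀))
  have hne : Nonempty {M : Subgroup H // P M} :=
    ⟨⟨⊥, ⟨bot_le, fun n _ x hx => by
      rw [Subgroup.mem_bot] at hx ⊢; rw [hx]; group⟩, 0, ⟨MulEquiv.ofUnique⟩⟩⟩
  obtain ⟨⟨M, hMinv, m, ⟨eM⟩⟩, hMmax⟩ :=
    Finite.exists_max (fun M : {M : Subgroup H // P M} => Nat.card M.1)
  have hall : ∀ g : H, MulAut.conj g • T ≤ M := by
    intro g
    by_contra hg
    have hdisj : (MulAut.conj g • T) ⊓ M = ⊥ := by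
      by_contra hne'
      have h1 : Inv N ((MulAut.conj g • T) ⊓ M) := (inv_conj hTinv g).inf hMinv
      have h2 := conj_min N T hTmin g _ h1 hne' inf_le_left
      apply hg
      rw [← h2]; exact inf_le_right
    have hdisj' : M ⊓ (MulAut.conj g • T) = ⊥ := by rw [inf_comm]; exact hdisj
    have hcomm := hMinv.commute (inv_conj hTinv g) hdisj'
    obtain ⟨e1⟩ := sup_equiv_prod M (MulAut.conj g • T) hcomm hdisj'
    have e2 : (M ⊔ MulAut.conj g • T : Subgroup H) ≃* (Fin (m + 1) → T₀) :=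
      e1.trans ((MulEquiv.prodCongr eM
        ((Subgroup.equivSMul (MulAut.conj g) T).symm.trans e₀)).trans (consMulEquiv T₀ m))
    have hP : P (M ⊔ MulAut.conj g • T) := ⟨hMinv.sup (inv_conj hTinv g), m + 1, ⟨e2⟩⟩
    have h3 := hMmax ⟨_, hP⟩
    have h4 : Nat.card (M ⊔ MulAut.conj g • T : Subgroup H) =
        Nat.card M * Nat.card (MulAut.conj g • T : Subgroup H) := by
      rw [Nat.card_congr e1.toEquiv, Nat.card_prod]
    have h5 : 1 < Nat.card (MulAut.conj g • T : Subgroup H) :=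
      (Subgroup.one_lt_card_iff_ne_bot _).mpr (conj_ne_bot T hT1 g)
    simp only at h3
    rw [h4] at h3
    have : 0 < Nat.card M := Nat.card_pos
    nlinarith
  have hMN : M = N := by
    apply le_antisymm hMinv.1
    rw [← iSup_conj_eq N hmin T hTinv hT1]
    exact iSup_le hall
  subst hMN
  refine ⟨m, ?_, ⟨eM⟩⟩
  by_contra hm
  have hm0 : m = 0 := by omega
  subst hm0
  apply hN
  rw [Subgroup.eq_bot_iff_card, Nat.card_congr eM.toEquiv]
  exact Nat.card_unique

end Main

/-- A minimal normal subgroup of a finite group is a direct power of a simple group. -/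
theorem min_normal_power [Finite H] (N : Subgroup H) [hNn : N.Normal] (hN : N ≠ ⊥)
    (hmin : ∀ M : Subgroup H, M.Normal → M ≤ N → M = ⊥ ∨ M = N) :
    ∃ (T : Type) (_ : Group T) (m : ℕ), IsSimpleGroup T ∧ 0 < m ∧ Nonempty (N ≃* (Fin m → T)) := by
  classical
  have hne : Nonempty {T : Subgroup H // Inv N T ∧ T ≠ ⊥} :=
    ⟨⟨N, ⟨le_rfl, fun n hn x hx => N.mul_mem (N.mul_mem hn hx) (N.inv_mem hn)⟩, hN⟩⟩
  obtain ⟨⟨T, hTinv, hT1⟩, hTmin0⟩ :=
    Finite.exists_min (fun T : {T : Subgroup H // Inv N T ∧ T ≠ ⊥} => Nat.card T.1)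
  have hTmin : ∀ T₁ : Subgroup H, Inv N T₁ → T₁ ≠ ⊥ → Nat.card T ≤ Nat.card T₁ :=
    fun T₁ h1 h2 => hTmin0 ⟨T₁, h1, h2⟩
  have hsimple := simple_T N hmin T hTinv hT1 hTmin
  -- a copy of `T` in `Type`
  let e : Carrier (Nat.card T) ≃ T := (Carrier.equivFin _).trans (Finite.equivFin T).symm
  letI : Group (Carrier (Nat.card T)) := e.group
  let e₀ : T ≃* Carrier (Nat.card T) := e.mulEquiv.symm
  obtain ⟨m, hm, hiso⟩ := power N hmin T hTinv hT1 hTmin (Carrier (Nat.card T)) e₀ hN
  refine ⟨Carrier (Nat.card T), inferInstance, m, ?_, hm, hiso⟩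
  haveI : Nontrivial (Carrier (Nat.card T)) := e₀.symm.toEquiv.nontrivial
  exact IsSimpleGroup.isSimpleGroup_of_surjective e₀.toMonoidHom e₀.surjective

end Cfsg.Agent.Lib.Lead.MinNormalPower
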