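import Mathlib

set_option autoImplicit false

namespace Cfsg.Agent.Lib.Lead.FrobNorm

open Finset

variable {G : Type*} [Group G]

section
variable (V : Subgroup G) [hVn : V.Normal]

/-- conjugation by `g` on the normal subgroup `V` -/
noncomputable def cj (g : G) : V ≃* V := MulAut.conjNormal g

theorem cj_coe (g : G) (v : V) : ((cj V g v : V) : G) = g * v * g⁻¹ := by
  simp [cj, MulAut.conjNormal_apply]

theorem cj_mul (g h : G) (v : V) : cj V (g * h) v = cj V g (cj V h v) := by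
  apply Subtype.ext
  rw [cj_coe, cj_coe, cj_coe]; group

theorem cj_one (v : V) : cj V 1 v = v := by
  apply Subtype.ext
  rw [cj_coe]; group

end

/-- **Norm argument for Frobenius groups.**  Let `V` be an abelian normal subgroup, `Q` a
nontrivial finite abelian subgroup and `y` an element of prime order `t` normalising `Q`, such
that nonidentity elements of `Q`, the elements `x * y` (`x ∈ Q`) all act fixed-point-freely on
`V`, and `y` acts fixed-point-freely on `Q`.  Then `V` is killed by `|Q|`. -/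
theorem pow_card_eq_one (V : Subgroup G) [hVn : V.Normal] (hVc : IsMulCommutative V)
    (Q : Subgroup G) [Finite Q] (hQc : ∀ a ∈ Q, ∀ b ∈ Q, a * b = b * a) (hQ1 : Q ≠ ⊥)
    (y : G) (t : ℕ) (ht : t.Prime) (hyt : y ^ t = 1) (hy1 : y ≠ 1)
    (hyQ : ∀ x ∈ Q, y * x * y⁻¹ ∈ Q)
    (ha : ∀ x ∈ Q, x ≠ 1 → ∀ v ∈ V, x * v = v * x → v = 1)
    (hb : ∀ x ∈ Q, y * x = x * y → x = 1)
    (hc : ∀ x ∈ Q, ∀ v ∈ V, (x * y) * v = v * (x * y) → v = 1) :
    ∀ v ∈ V, v ^ Nat.card Q = 1 := by
  classical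
  letI : CommGroup V := { (inferInstance : Group V) with mul_comm := fun a b => mul_comm' a b }
  haveI : Fintype Q := Fintype.ofFinite Q
  -- fixed points of conjugation are trivial
  have fpf : ∀ g : G, (∀ v ∈ V, g * v = v * g → v = 1) → ∀ w : V, cj V g w = w → w = 1 := by
    intro g hg w hw
    apply Subtype.ext
    apply hg w w.2
    have := congrArg Subtype.val hw
    rw [cj_coe] at this
    calc g * (w : G) = (g * w * g⁻¹) * g := by group
      _ = w * g := by rw [this]
  -- norm of an element of order dividing t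
  have normg : ∀ g : G, g ^ t = 1 → (∀ v ∈ V, g * v = v * g → v = 1) →
      ∀ v : V, ∏ j ∈ range t, cj V (g ^ j) v = 1 := by
    intro g hgt hg v
    apply fpf g hg
    rw [map_prod]
    have e : ∀ j ∈ range t, cj V g (cj V (g ^ j) v) = cj V (g ^ (j + 1)) v := by
      intro j _
      rw [pow_succ', cj_mul]
    rw [prod_congr rfl e]
    have h1 := prod_range_succ' (fun j => cj V (g ^ j) v) t
    have h2 := prod_range_succ (fun j => cj V (g ^ j) v) t
    rw [h1] at h2
    simp only [hgt, pow_zero] at h2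
    exact mul_right_cancel h2
  -- norm over Q
  obtain ⟨⟨x₀, hx₀⟩, hx₀1⟩ := (Subgroup.ne_bot_iff_exists_ne_one).mp hQ1
  have hx₀1' : x₀ ≠ 1 := fun e => hx₀1 (Subtype.ext e)
  have normQ : ∀ w : V, ∏ x : Q, cj V (x : G) w = 1 := by
    intro w
    apply fpf x₀ (ha x₀ hx₀ hx₀1')
    rw [map_prod]
    have e : ∀ x : Q, cj V x₀ (cj V (x : G) w) = cj V (((⟨x₀, hx₀⟩ : Q) * x : Q) : G) w := by
      intro x
      rw [Subgroup.coe_mul, cj_mul]
    rw [Fintype.prod_congr _ _ e]
    exact Fintype.prod_equiv (Equiv.mulLeft (⟨x₀, hx₀⟩ : Q)) _ _ (fun x => rfl)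
  -- θ
  have hypow : ∀ j : ℕ, ∀ x ∈ Q, y ^ j * x * (y ^ j)⁻¹ ∈ Q := by
    intro j
    induction j with
    | zero => intro x hx; simpa using hx
    | succ j ih =>
      intro x hx
      have e : y ^ (j + 1) * x * (y ^ (j + 1))⁻¹ = y * (y ^ j * x * (y ^ j)⁻¹) * y⁻¹ := by
        rw [pow_succ']; group
      rw [e]
      exact hyQ _ (ih x hx)
  have hθ : ∀ j : ℕ, ∀ x ∈ Q, (x * y) ^ j * (y ^ j)⁻¹ ∈ Q := by
    intro j
    induction j with
    | zero => intro x _; simp
    | succ j ih =>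
      intro x hx
      have e : (x * y) ^ (j + 1) * (y ^ (j + 1))⁻¹ =
          ((x * y) ^ j * (y ^ j)⁻¹) * (y ^ j * x * (y ^ j)⁻¹) := by
        rw [pow_succ, pow_succ]; group
      rw [e]
      exact Q.mul_mem (ih x hx) (hypow j x hx)
  -- (x y)^t = 1
  have hxyt : ∀ x ∈ Q, (x * y) ^ t = 1 := by
    intro x hx
    have h1 : (x * y) ^ t ∈ Q := by
      have := hθ t x hx
      rwa [hyt, inv_one, mul_one] at this
    apply hb _ h1
    -- y (xy)^t y⁻¹ = (yx)^t = x⁻¹ (xy)^t x = (xy)^t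
    have h2 : y * (x * y) ^ t * y⁻¹ = x⁻¹ * (x * y) ^ t * x := by
      have e1 : y * (x * y) ^ t * y⁻¹ = (y * (x * y) * y⁻¹) ^ t := (conj_pow).symm
      have e2 : x⁻¹ * (x * y) ^ t * x = (x⁻¹ * (x * y) * x⁻¹⁻¹) ^ t := by
        rw [conj_pow]; group
      rw [e1, e2]
      congr 1
      group
    have h3 : x⁻¹ * (x * y) ^ t * x = (x * y) ^ t := by
      have := hQc x hx _ h1
      calc x⁻¹ * (x * y) ^ t * x = x⁻¹ * ((x * y) ^ t * x) := by group
        _ = x⁻¹ * (x * (x * y) ^ t) := by rw [this]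
        _ = (x * y) ^ t := by group
    rw [h3] at h2
    calc y * (x * y) ^ t = (y * (x * y) ^ t * y⁻¹) * y := by group
      _ = (x * y) ^ t * y := by rw [h2]
  -- roots
  have hpowinj : ∀ j, 0 < j → j < t → ∀ a b : G, a ^ t = 1 → b ^ t = 1 → a ^ j = b ^ j →
      a = b := by
    intro j hj0 hjt a b hat hbt hab
    have hcop : Nat.Coprime j t := by
      rw [Nat.coprime_comm]
      exact (Nat.Prime.coprime_iff_not_dvd ht).mpr (Nat.not_dvd_of_pos_of_lt hj0 hjt)
    obtain ⟨m, -, hm⟩ := Nat.exists_mul_mod_eq_one_of_coprime hcop ht.one_lt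
    calc a = a ^ (j * m % t) := by rw [hm, pow_one]
      _ = a ^ (j * m) := (pow_eq_pow_mod _ hat).symm
      _ = (a ^ j) ^ m := pow_mul _ _ _
      _ = (b ^ j) ^ m := by rw [hab]
      _ = b ^ (j * m) := (pow_mul _ _ _).symm
      _ = b ^ (j * m % t) := pow_eq_pow_mod _ hbt
      _ = b := by rw [hm, pow_one]
  let θ : ℕ → Q → Q := fun j x => ⟨((x : G) * y) ^ j * (y ^ j)⁻¹, hθ j x x.2⟩
  have hθbij : ∀ j, 0 < j → j < t → Function.Bijective (θ j) := by
    intro j hj0 hjt
    apply Finite.injective_iff_bijective.mp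
    intro x x' hxx
    have h1 : ((x : G) * y) ^ j * (y ^ j)⁻¹ = ((x' : G) * y) ^ j * (y ^ j)⁻¹ :=
      congrArg Subtype.val hxx
    have h2 : ((x : G) * y) ^ j = ((x' : G) * y) ^ j := mul_right_cancel h1
    have h3 := hpowinj j hj0 hjt _ _ (hxyt x x.2) (hxyt x' x'.2) h2
    exact Subtype.ext (mul_right_cancel h3)
  intro v hv
  have key : ∏ x : Q, ∏ j ∈ range t, cj V (((x : G) * y) ^ j) (⟨v, hv⟩ : V) = 1 := by
    apply Finset.prod_eq_one
    intro x _
    exact normg _ (hxyt x x.2) (hc x x.2) _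
  rw [Finset.prod_comm] at key
  rw [Finset.prod_eq_single 0] at key
  · simp only [pow_zero, cj_one, Finset.prod_const, Finset.card_univ] at key
    have := congrArg Subtype.val key
    rw [Subgroup.coe_pow] at this
    rw [Nat.card_eq_fintype_card]
    simpa using this
  · intro j hj hj0
    have hjt : j < t := Finset.mem_range.mp hj
    have hj0' : 0 < j := Nat.pos_of_ne_zero hj0
    have e : ∀ x : Q, cj V (((x : G) * y) ^ j) (⟨v, hv⟩ : V) =
        cj V ((θ j x : Q) : G) (cj V (y ^ j) ⟨v, hv⟩) := by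
      intro x
      rw [← cj_mul]
      have e' : ((x : G) * y) ^ j = ((θ j x : Q) : G) * y ^ j := by
        show ((x : G) * y) ^ j = ((x : G) * y) ^ j * (y ^ j)⁻¹ * y ^ j
        group
      rw [← e']
    rw [Fintype.prod_congr _ _ e]
    rw [Fintype.prod_bijective (θ j) (hθbij j hj0' hjt) _
      (fun x : Q => cj V (x : G) (cj V (y ^ j) ⟨v, hv⟩)) (fun x => rfl)]
    exact normQ _
  · intro h0
    exact absurd (Finset.mem_range.mpr ht.pos) h0

end Cfsg.Agent.Lib.Lead.FrobNorm
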