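import Mathlib
import Cfsg.Agent.Lib.Helper1.Nilpotent
import Cfsg.Agent.Lib.Lead.NilpotentCoprime

set_option autoImplicit false

namespace Cfsg.Agent.Lib.Lead.NilpotentSub

open Cfsg.Agent.Lib.Helper1

variable {G : Type*} [Group G]

/-- The Sylow `r`-subgroup of a (nilpotent) subgroup `M`, as a subgroup of `G`. -/
noncomputable def sylowOf (M : Subgroup G) (r : ℕ) [Fact r.Prime] : Subgroup G :=
  ((default : Sylow r M) : Subgroup M).map M.subtype

theorem sylowOf_le (M : Subgroup G) (r : ℕ) [Fact r.Prime] : sylowOf M r ≤ M :=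
  Subgroup.map_subtype_le _

theorem sylowOf_isPGroup (M : Subgroup G) (r : ℕ) [Fact r.Prime] : IsPGroup r (sylowOf M r) :=
  (default : Sylow r M).2.map _

theorem card_sylowOf [Finite G] (M : Subgroup G) (r : ℕ) [Fact r.Prime] :
    Nat.card (sylowOf M r) = r ^ (Nat.card M).factorization r := by
  unfold sylowOf
  rw [Subgroup.card_map_of_injective M.subtype_injective]
  exact Sylow.card_eq_multiplicity _

theorem sylow_normal_of_nilpotent [Finite G] (M : Subgroup G) (hM : Group.IsNilpotent M) (r : ℕ)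
    [Fact r.Prime] (Q : Sylow r M) : (Q : Subgroup M).Normal := by
  have h := (Group.isNilpotent_of_finite_tfae (G := M)).out 0 3
  exact (h.mp hM) r inferInstance Q

/-- In a nilpotent subgroup, the Sylow `r`-subgroup contains every `r`-element. -/
theorem mem_sylowOf [Finite G] (M : Subgroup G) (hM : Group.IsNilpotent M) (r : ℕ) [Fact r.Prime]
    {y : G} (hy : y ∈ M) {k : ℕ} (hk : y ^ r ^ k = 1) : y ∈ sylowOf M r := by
  have hZ : IsPGroup r (Subgroup.zpowers (⟨y, hy⟩ : M)) := by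
    rintro ⟨g, hg⟩
    obtain ⟨i, rfl⟩ := Subgroup.mem_zpowers_iff.mp hg
    refine ⟨k, ?_⟩
    apply Subtype.ext
    simp only [Subgroup.coe_pow, Subgroup.coe_one]
    rw [← zpow_natCast, ← zpow_mul, mul_comm, zpow_mul, zpow_natCast]
    have : (⟨y, hy⟩ : M) ^ r ^ k = 1 := Subtype.ext hk
    rw [this, one_zpow]
  obtain ⟨Q, hQ⟩ := hZ.exists_le_sylow
  haveI : Unique (Sylow r M) :=
    Sylow.unique_of_normal Q (sylow_normal_of_nilpotent M hM r Q)
  have hQd : Q = default := Subsingleton.elim _ _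
  refine ⟨⟨y, hy⟩, ?_, rfl⟩
  rw [← hQd]
  exact hQ (Subgroup.mem_zpowers _)

theorem le_sylowOf [Finite G] (M : Subgroup G) (hM : Group.IsNilpotent M) (r : ℕ) [Fact r.Prime]
    {R : Subgroup G} (hR : R ≤ M) (hRr : IsPGroup r R) : R ≤ sylowOf M r := by
  intro y hy
  obtain ⟨k, hk⟩ := hRr ⟨y, hy⟩
  exact mem_sylowOf M hM r (hR hy) (k := k) (congrArg Subtype.val hk)

theorem le_normalizer_sylowOf [Finite G] (M : Subgroup G) (hM : Group.IsNilpotent M) (r : ℕ)
    [Fact r.Prime] : M ≤ Subgroup.normalizer ((sylowOf M r : Subgroup G) : Set G) := by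
  haveI := sylow_normal_of_nilpotent M hM r default
  have h1 : (⊤ : Subgroup M).map M.subtype ≤
      Subgroup.normalizer ((sylowOf M r : Subgroup G) : Set G) := by
    have h2 : (⊤ : Subgroup M) ≤ Subgroup.normalizer
        ((((default : Sylow r M) : Subgroup M)) : Set M) := by
      rw [Subgroup.normalizer_eq_top_iff.mpr inferInstance]
    exact (Subgroup.map_mono h2).trans (Subgroup.le_normalizer_map _)
  rwa [← MonoidHom.range_eq_map, Subgroup.range_subtype] at h1

/-- A nontrivial Sylow subgroup of a nilpotent subgroup contains a nontrivial element central in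
the whole subgroup. -/
theorem exists_central_of_dvd [Finite G] (M : Subgroup G) (hM : Group.IsNilpotent M) (r : ℕ)
    [Fact r.Prime] (hr : r ∣ Nat.card M) :
    ∃ w ∈ sylowOf M r, w ≠ 1 ∧ ∀ m ∈ M, m * w = w * m := by
  haveI := hM
  haveI := sylow_normal_of_nilpotent M hM r default
  have hne : ((default : Sylow r M) : Subgroup M) ≠ ⊥ := Sylow.ne_bot_of_dvd_card _ hr
  have h := normal_inf_center_ne_bot ((default : Sylow r M) : Subgroup M) hne
  obtain ⟨⟨w, hw⟩, hw1⟩ := (Subgroup.ne_bot_iff_exists_ne_one).mp h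
  refine ⟨(w : G), ⟨w, hw.1, rfl⟩, ?_, ?_⟩
  · intro e
    apply hw1
    apply Subtype.ext
    exact Subtype.ext e
  · intro m hm
    have := Subgroup.mem_center_iff.mp hw.2 ⟨m, hm⟩
    exact congrArg Subtype.val this


/-- Decomposition of an element of finite order into its `r`-part and `r'`-part. -/
theorem exists_decomp (r : ℕ) [Fact r.Prime] (h : G) (hfin : 0 < orderOf h) :
    ∃ s t : G, s ∈ Subgroup.zpowers h ∧ t ∈ Subgroup.zpowers h ∧ h = s * t ∧
      (∃ k : ℕ, s ^ r ^ k = 1) ∧ (orderOf t).Coprime r := by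
  obtain ⟨k, m, hm, ho⟩ := Nat.exists_eq_pow_mul_and_not_dvd hfin.ne' r (Fact.out : r.Prime).ne_one
  have hcop : Nat.Coprime (r ^ k) m :=
    Nat.Coprime.pow_left k ((Nat.Prime.coprime_iff_not_dvd Fact.out).mpr hm)
  have hbez : ((r ^ k : ℕ) : ℤ) * Nat.gcdA (r ^ k) m + (m : ℤ) * Nat.gcdB (r ^ k) m = 1 := by
    have := Nat.gcd_eq_gcd_ab (r ^ k) m
    rw [hcop] at this
    exact_mod_cast this.symm
  set x := Nat.gcdA (r ^ k) m
  set y := Nat.gcdB (r ^ k) m
  refine ⟨h ^ ((m : ℤ) * y), h ^ (((r ^ k : ℕ) : ℤ) * x), ⟨_, rfl⟩, ⟨_, rfl⟩, ?_, ⟨k, ?_⟩, ?_⟩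
  · rw [← zpow_add, add_comm, hbez, zpow_one]
  · rw [← zpow_natCast, ← zpow_mul]
    have : (m : ℤ) * y * ((r ^ k : ℕ) : ℤ) = ((orderOf h : ℕ) : ℤ) * y := by
      rw [ho]; push_cast; ring
    rw [this, zpow_mul, zpow_natCast, pow_orderOf_eq_one, one_zpow]
  · have h1 : (h ^ (((r ^ k : ℕ) : ℤ) * x)) ^ m = 1 := by
      rw [← zpow_natCast, ← zpow_mul]
      have : ((r ^ k : ℕ) : ℤ) * x * (m : ℤ) = ((orderOf h : ℕ) : ℤ) * x := by
        rw [ho]; push_cast; ring
      rw [this, zpow_mul, zpow_natCast, pow_orderOf_eq_one, one_zpow]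
    have h2 := orderOf_dvd_of_pow_eq_one h1
    exact Nat.Coprime.coprime_dvd_left h2 ((Nat.Prime.coprime_iff_not_dvd Fact.out).mpr hm).symm

end Cfsg.Agent.Lib.Lead.NilpotentSub
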