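import Mathlib
import Cfsg.Prelude.Def_LieExceptional
import Cfsg.Prelude.Def_OddOrderLocal
import Cfsg.Prelude.Def_SolvableStructure
import Cfsg.Agent.Lib.Lead.FrobNorm
import Cfsg.Agent.Lib.Lead.NilpotentCoprime
import Cfsg.Agent.Lib.Lead.NilpotentSub
import Cfsg.Agent.Lib.Lead.FittingHall
import Cfsg.Agent.Lib.Helper1.SchmidtStructure

set_option autoImplicit false

namespace Cfsg.Agent.Lib.Lead.CNFrob

open Cfsg Cfsg.Agent.Lib.Lead.NilpotentSub Cfsg.Agent.Lib.Lead.NilpotentCoprime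
  Cfsg.Agent.Lib.Lead.FittingHall

universe u

variable {G : Type u} [Group G]

theorem mem_cent_single {w m : G} : m ∈ Subgroup.centralizer ({w} : Set G) ↔ w * m = m * w := by
  rw [Subgroup.mem_centralizer_iff]
  simp

/-- In a CN-group, a complement of the largest normal nilpotent Hall subgroup acts on it without
nontrivial fixed points. -/
theorem fittingHall_fpf [Finite G] (hCN : IsCNGroup G)
    (E : Subgroup G) (hE : Subgroup.IsComplement' (fittingHall G) E) :
    ∀ e ∈ E, e ≠ 1 → fittingHall G ⊓ Subgroup.centralizer ({e} : Set G) = ⊥ := by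
  intro e heE he1
  have Hnil : Group.IsNilpotent (fittingHall G) := fittingHall_isNilpotent G
  have Hcop : (Nat.card (fittingHall G)).Coprime (fittingHall G).index := fittingHall_coprime G
  have hidx : (fittingHall G).index = Nat.card E := hE.symm.index_eq_card
  rw [eq_bot_iff]
  intro h hh
  rw [Subgroup.mem_bot]
  by_contra hh1
  obtain ⟨hhH, hhC⟩ := Subgroup.mem_inf.mp hh
  rw [mem_cent_single] at hhC
  -- prime q
  have hoe : orderOf e ≠ 1 := fun h => he1 (orderOf_eq_one_iff.mp h)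
  set q := (orderOf e).minFac with hq
  have hqP : q.Prime := Nat.minFac_prime hoe
  haveI : Fact q.Prime := ⟨hqP⟩
  have hqd : q ∣ orderOf e := Nat.minFac_dvd _
  set e' := e ^ (orderOf e / q) with he'
  have hoe' : orderOf e' = q := orderOf_pow_orderOf_div (orderOf_pos e).ne' hqd
  have he'E : e' ∈ E := E.pow_mem heE _
  have he'1 : e' ≠ 1 := by
    intro h; rw [h, orderOf_one] at hoe'; exact hqP.one_lt.ne hoe'
  have he'h : e' * h = h * e' := (Commute.pow_left (hhC : Commute e h) _).eq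
  have hqE : q ∣ Nat.card E := by rw [← hoe']; exact Subgroup.orderOf_dvd_natCard E he'E
  have hqH : q.Coprime (Nat.card (fittingHall G)) := by
    have : q ∣ (fittingHall G).index := hidx ▸ hqE
    exact (Nat.Coprime.coprime_dvd_right this Hcop).symm
  have hcopH : ∀ x ∈ fittingHall G, ∀ y : G, (∃ k, orderOf y ∣ q ^ k) →
      (orderOf y).Coprime (orderOf x) := by
    intro x hx y ⟨k, hk⟩
    have h1 : orderOf x ∣ Nat.card (fittingHall G) := Subgroup.orderOf_dvd_natCard _ hx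
    exact Nat.Coprime.coprime_dvd_left hk
      (Nat.Coprime.coprime_dvd_right h1 (Nat.Coprime.pow_left k hqH))
  have he'ord : ∃ k, orderOf e' ∣ q ^ k := ⟨1, by rw [hoe', pow_one]⟩
  -- central element of H
  have hHcard : Nat.card (fittingHall G) ≠ 1 := by
    intro h1
    have := Subgroup.card_eq_one.mp h1
    rw [this] at hhH
    exact hh1 (Subgroup.mem_bot.mp hhH)
  set r := (Nat.card (fittingHall G)).minFac with hr
  have hrP : r.Prime := Nat.minFac_prime hHcard
  haveI : Fact r.Prime := ⟨hrP⟩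
  obtain ⟨w, hwR, hw1, hwc⟩ := exists_central_of_dvd (fittingHall G) Hnil r (Nat.minFac_dvd _)
  have hwH : w ∈ fittingHall G := sylowOf_le _ r hwR
  have h1 : e' * w = w * e' := by
    apply commute_of_coprime_of_mem _ (hCN h hh1) (a := e') (b := w)
    · rw [mem_cent_single]; exact he'h.symm
    · rw [mem_cent_single]; exact hwc h hhH
    · exact hcopH w hwH e' he'ord
  have h2 : ∀ x ∈ fittingHall G, e' * x = x * e' := by
    intro x hx
    apply commute_of_coprime_of_mem _ (hCN w hw1)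
    · rw [mem_cent_single]; exact h1.symm
    · rw [mem_cent_single]; exact (hwc x hx).symm
    · exact hcopH x hx e' he'ord
  -- Sylow q-subgroup containing e'
  have hzp : IsPGroup q (Subgroup.zpowers e') :=
    IsPGroup.of_card (n := 1) (by rw [Nat.card_zpowers, hoe', pow_one])
  obtain ⟨Q, hQ⟩ := hzp.exists_le_sylow
  have he'Q : e' ∈ Q := hQ (Subgroup.mem_zpowers e')
  haveI : Nontrivial Q := ⟨⟨⟨e', he'Q⟩, 1, fun h => he'1 (congrArg Subtype.val h)⟩⟩
  haveI := Q.2.center_nontrivial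
  obtain ⟨⟨z0, hz0c⟩, hz01⟩ := exists_ne (1 : Subgroup.center Q)
  have hz'Q : (z0 : G) ∈ Q := z0.2
  have hz'1 : (z0 : G) ≠ 1 := by
    intro h
    apply hz01
    apply Subtype.ext
    apply Subtype.ext
    exact h
  have hz'c : ∀ y ∈ Q, y * (z0 : G) = z0 * y := by
    intro y hy
    have := Subgroup.mem_center_iff.mp hz0c ⟨y, hy⟩
    exact congrArg Subtype.val this
  have hQord : ∀ y ∈ Q, ∃ k, orderOf y ∣ q ^ k := by
    intro y hy
    obtain ⟨k, hk⟩ := Q.2 ⟨y, hy⟩
    exact ⟨k, orderOf_dvd_of_pow_eq_one (congrArg Subtype.val hk)⟩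
  have h3 : ∀ x ∈ fittingHall G, (z0 : G) * x = x * z0 := by
    intro x hx
    apply commute_of_coprime_of_mem _ (hCN e' he'1)
    · rw [mem_cent_single]; exact hz'c e' he'Q
    · rw [mem_cent_single]; exact h2 x hx
    · exact hcopH x hx _ (hQord _ hz'Q)
  have h4 : ∀ y ∈ Q, ∀ x ∈ fittingHall G, y * x = x * y := by
    intro y hy x hx
    apply commute_of_coprime_of_mem _ (hCN (z0 : G) hz'1)
    · rw [mem_cent_single]; exact (hz'c y hy).symm
    · rw [mem_cent_single]; exact h3 x hx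
    · exact hcopH x hx y (hQord y hy)
  -- C := C_G(H)
  have hCn : (Subgroup.centralizer (fittingHall G : Set G)).Normal := inferInstance
  have hCnil : Group.IsNilpotent (Subgroup.centralizer (fittingHall G : Set G)) :=
    isNilpotent_of_le (Subgroup.centralizer_le (Set.singleton_subset_iff.mpr hwH)) (hCN w hw1)
  have hQC : (Q : Subgroup G) ≤ Subgroup.centralizer (fittingHall G : Set G) := fun y hy =>
    Subgroup.mem_centralizer_iff.mpr (fun x hx => (h4 y hy x hx).symm)
  have hQeq : (Q : Subgroup G) = sylowOf (Subgroup.centralizer (fittingHall G : Set G)) q := by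
    have hle : (Q : Subgroup G) ≤ sylowOf (Subgroup.centralizer (fittingHall G : Set G)) q :=
      le_sylowOf _ hCnil q hQC Q.2
    exact (Q.is_maximal' (sylowOf_isPGroup _ q) hle).symm
  have hQn : (Q : Subgroup G).Normal := by
    refine ⟨fun x hx g => ?_⟩
    rw [hQeq]
    obtain ⟨k, hk⟩ := Q.2 ⟨x, hx⟩
    have hk' : x ^ q ^ k = 1 := congrArg Subtype.val hk
    apply mem_sylowOf _ hCnil q (hCn.conj_mem x (hQC hx) g) (k := k)
    rw [conj_pow, hk']; group
  have hQH : (Q : Subgroup G) ≤ fittingHall G :=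
    le_fittingHall hQn Q.2.isNilpotent Q.card_coprime_index
  have hmem : e' ∈ fittingHall G ⊓ E := ⟨hQH he'Q, he'E⟩
  rw [hE.disjoint.eq_bot] at hmem
  exact he'1 (Subgroup.mem_bot.mp hmem)

/-- A subgroup `E` of a CN-group acting without nontrivial fixed points on a nontrivial normal
abelian `p`-subgroup `V`, `p ∤ |E|`, is nilpotent. -/
theorem nilpotent_of_fpf [Finite G] (hCN : IsCNGroup G)
    (V : Subgroup G) [hVn : V.Normal] (hVc : ∀ a ∈ V, ∀ b ∈ V, a * b = b * a) (hV1 : V ≠ ⊥)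
    (p : ℕ) (hp : p.Prime) (hVp : IsPGroup p V)
    (E : Subgroup G) (hpE : ¬ p ∣ Nat.card E)
    (hfpf : ∀ e ∈ E, e ≠ 1 → ∀ v ∈ V, e * v = v * e → v = 1) : Group.IsNilpotent E := by
  classical
  by_contra hnil
  obtain ⟨E₀, ⟨hE₀E, hE₀n⟩, hmin⟩ := wellFounded_lt.has_min
    {K : Subgroup G | K ≤ E ∧ ¬ Group.IsNilpotent K} ⟨E, le_rfl, hnil⟩
  have hE₀min : ∀ K : Subgroup G, K < E₀ → Group.IsNilpotent K := by
    intro K hK
    by_contra hKn
    exact hmin K ⟨hK.le.trans hE₀E, hKn⟩ hK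
  have hMNN : IsMinimalNonNilpotent E₀ := by
    refine ⟨hE₀n, fun K hK => ?_⟩
    have hlt : K.map E₀.subtype < E₀ := by
      refine lt_of_le_of_ne (Subgroup.map_subtype_le K) ?_
      intro heq
      apply hK
      rw [eq_top_iff]
      intro x _
      have hx : (x : G) ∈ K.map E₀.subtype := by rw [heq]; exact x.2
      obtain ⟨k, hk, hkx⟩ := hx
      have : k = x := Subtype.ext hkx
      rwa [← this]
    haveI := hE₀min _ hlt
    exact Group.nilpotent_of_mulEquiv (K.equivMapOfInjective E₀.subtype E₀.subtype_injective).symm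
  obtain ⟨r, q, hr, hq, hrq, P, Q, hPc, hQn, hPQ⟩ :=
    Cfsg.Agent.Lib.Helper1.minimal_non_nilpotent_structure hMNN
  haveI : Fact r.Prime := ⟨hr⟩
  haveI : Fact q.Prime := ⟨hq⟩
  -- P and Q nontrivial
  have hpg : ∀ (t : ℕ) [Fact t.Prime] (T : Sylow t E₀), (T : Subgroup E₀) = ⊤ → False := by
    intro t _ T hT
    apply hE₀n
    have : IsPGroup t E₀ := by
      intro g
      obtain ⟨k, hk⟩ := T.2 ⟨g, by rw [hT]; trivial⟩
      exact ⟨k, congrArg Subtype.val hk⟩
    exact this.isNilpotent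
  have hP1 : (P : Subgroup E₀) ≠ ⊥ := by
    intro h
    rw [h, bot_sup_eq] at hPQ
    exact hpg q Q hPQ
  have hQ1 : (Q : Subgroup E₀) ≠ ⊥ := by
    intro h
    rw [h, sup_bot_eq] at hPQ
    exact hpg r P hPQ
  -- y of order r in P
  have hrP : r ∣ Nat.card (P : Subgroup E₀) := by
    obtain ⟨n, hn⟩ := P.2.exists_card_eq
    have hn0 : n ≠ 0 := by
      intro h0
      rw [h0, pow_zero] at hn
      exact hP1 (Subgroup.card_eq_one.mp hn)
    rw [hn]; exact dvd_pow_self r hn0
  obtain ⟨y', hy'⟩ := exists_prime_orderOf_dvd_card' (G := (P : Subgroup E₀)) r hrP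
  set y : G := ((y' : E₀) : G) with hy
  have hyo : orderOf y = r := by rw [hy, Subgroup.orderOf_coe, Subgroup.orderOf_coe, hy']
  have hyE₀ : y ∈ E₀ := (y' : E₀).2
  have hyr : y ^ r = 1 := by rw [← hyo]; exact pow_orderOf_eq_one y
  have hy1 : y ≠ 1 := by
    intro e
    rw [e, orderOf_one] at hyo
    exact hr.one_lt.ne hyo
  set Qg : Subgroup G := (Q : Subgroup E₀).map E₀.subtype with hQg
  set Pg : Subgroup G := (P : Subgroup E₀).map E₀.subtype with hPg
  have hQgE₀ : Qg ≤ E₀ := Subgroup.map_subtype_le _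
  have hQgp : IsPGroup q Qg := Q.2.map _
  have hQg1 : Qg ≠ ⊥ := by
    intro e
    apply hQ1
    exact (Subgroup.map_eq_bot_iff_of_injective _ E₀.subtype_injective).mp e
  have hQgn : ∀ g ∈ E₀, ∀ x ∈ Qg, g * x * g⁻¹ ∈ Qg := by
    rintro g hg x ⟨x', hx', rfl⟩
    exact ⟨⟨g, hg⟩ * x' * ⟨g, hg⟩⁻¹, hQn.conj_mem x' hx' _, by simp⟩
  have hyP : ∀ x ∈ Pg, y * x = x * y := by
    rintro x ⟨x', hx', rfl⟩
    haveI := hPc
    have hcomm : ∀ a b : (P : Subgroup E₀), a * b = b * a := by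
      intro a b
      obtain ⟨g, hg⟩ := IsCyclic.exists_generator (α := (P : Subgroup E₀))
      obtain ⟨m, rfl⟩ := Subgroup.mem_zpowers_iff.mp (hg a)
      obtain ⟨n, rfl⟩ := Subgroup.mem_zpowers_iff.mp (hg b)
      exact (Commute.zpow_zpow_self g m n).eq
    have := hcomm y' ⟨x', hx'⟩
    have h2 := congrArg (fun t : (P : Subgroup E₀) => ((t : E₀) : G)) this
    simpa using h2
  have hsup : Pg ⊔ Qg = E₀ := by
    rw [hPg, hQg, ← Subgroup.map_sup, hPQ, ← MonoidHom.range_eq_map, Subgroup.range_subtype]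
  -- y does not centralise Q
  have hnc : ¬ ∀ x ∈ Qg, y * x = x * y := by
    intro hall
    apply hE₀n
    refine isNilpotent_of_le ?_ (hCN y hy1)
    rw [← hsup]
    apply sup_le
    · intro x hx; rw [mem_cent_single]; exact hyP x hx
    · intro x hx; rw [mem_cent_single]; exact hall x hx
  -- orders
  have hQord : ∀ x ∈ Qg, ∃ k, orderOf x ∣ q ^ k := by
    intro x hx
    obtain ⟨k, hk⟩ := hQgp ⟨x, hx⟩
    exact ⟨k, orderOf_dvd_of_pow_eq_one (congrArg Subtype.val hk)⟩
  have crq : ∀ k : ℕ, r.Coprime (q ^ k) := fun k =>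
    Nat.Coprime.pow_right _ ((Nat.coprime_primes hr hq).mpr hrq)
  have hycop : ∀ x ∈ Qg, (orderOf y).Coprime (orderOf x) := by
    intro x hx
    obtain ⟨k, hk⟩ := hQord x hx
    rw [hyo]
    exact Nat.Coprime.coprime_dvd_right hk (crq k)
  -- central element of Qg
  haveI : Nontrivial Qg := (Subgroup.nontrivial_iff_ne_bot Qg).mpr hQg1
  haveI := hQgp.center_nontrivial
  obtain ⟨⟨z0, hz0c⟩, hz01⟩ := exists_ne (1 : Subgroup.center Qg)
  have hzQ : (z0 : G) ∈ Qg := z0.2
  have hz1 : (z0 : G) ≠ 1 := by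
    intro h
    apply hz01
    apply Subtype.ext
    apply Subtype.ext
    exact h
  have hzc : ∀ x ∈ Qg, x * (z0 : G) = z0 * x := by
    intro x hx
    have := Subgroup.mem_center_iff.mp hz0c ⟨x, hx⟩
    exact congrArg Subtype.val this
  -- y acts fixed-point-freely on Qg
  have hyfpf : ∀ x ∈ Qg, y * x = x * y → x = 1 := by
    intro x hx hyx
    by_contra hx1
    apply hnc
    have h1 : y * (z0 : G) = z0 * y := by
      apply commute_of_coprime_of_mem _ (hCN x hx1)
      · rw [mem_cent_single]; exact hyx.symm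
      · rw [mem_cent_single]; exact hzc x hx
      · exact hycop _ hzQ
    intro x' hx'
    apply commute_of_coprime_of_mem _ (hCN (z0 : G) hz1)
    · rw [mem_cent_single]; exact h1.symm
    · rw [mem_cent_single]; exact (hzc x' hx').symm
    · exact hycop _ hx'
  -- the abelian subgroup A = Z(Qg)
  set A : Subgroup G := Qg ⊓ Subgroup.centralizer (Qg : Set G) with hA
  have hAQ : A ≤ Qg := inf_le_left
  have hAc : ∀ a ∈ A, ∀ b ∈ A, a * b = b * a := by
    intro a ha b hb
    exact (Subgroup.mem_centralizer_iff.mp ha.2 b hb.1).symm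
  have hA1 : A ≠ ⊥ := by
    intro e
    have : (z0 : G) ∈ A := ⟨hzQ, Subgroup.mem_centralizer_iff.mpr (fun x hx => hzc x hx)⟩
    rw [e] at this
    exact hz1 (Subgroup.mem_bot.mp this)
  have hyA : ∀ x ∈ A, y * x * y⁻¹ ∈ A := by
    intro a ha
    refine ⟨hQgn y hyE₀ a ha.1, ?_⟩
    show y * a * y⁻¹ ∈ Subgroup.centralizer (Qg : Set G)
    rw [Subgroup.mem_centralizer_iff]
    intro x hx
    have hx' : y⁻¹ * x * y⁻¹⁻¹ ∈ Qg := hQgn y⁻¹ (E₀.inv_mem hyE₀) x hx
    have := Subgroup.mem_centralizer_iff.mp ha.2 _ hx'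
    calc x * (y * a * y⁻¹) = y * ((y⁻¹ * x * y⁻¹⁻¹) * a) * y⁻¹ := by group
      _ = y * (a * (y⁻¹ * x * y⁻¹⁻¹)) * y⁻¹ := by rw [this]
      _ = y * a * y⁻¹ * x := by group
  have hAE : A ≤ E := hAQ.trans (hQgE₀.trans hE₀E)
  have key := Cfsg.Agent.Lib.Lead.FrobNorm.pow_card_eq_one V
    ⟨⟨fun a b => Subtype.ext (hVc a a.2 b b.2)⟩⟩ A hAc hA1 y r hr hyr hy1 hyA
    (fun x hx hx1 v hv hxv => hfpf x (hAE hx) hx1 v hv hxv)
    (fun x hx hyx => hyfpf x (hAQ hx) hyx)
    (by
      intro x hx v hv hxv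
      refine hfpf (x * y) (E.mul_mem (hAE hx) (hE₀E hyE₀)) ?_ v hv hxv
      intro hxy
      have hyQ : y ∈ Qg := by
        have : y = x⁻¹ := eq_inv_of_mul_eq_one_right hxy
        rw [this]; exact Qg.inv_mem (hAQ hx)
      have := hycop y hyQ
      rw [Nat.coprime_self] at this
      exact hy1 (orderOf_eq_one_iff.mp this))
  -- conclusion
  obtain ⟨⟨v, hv⟩, hv1⟩ := (Subgroup.ne_bot_iff_exists_ne_one).mp hV1
  have hv1' : v ≠ 1 := fun e => hv1 (Subtype.ext e)
  obtain ⟨n, hn⟩ := (hQgp.to_le hAQ).exists_card_eq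
  obtain ⟨j, hj⟩ := hVp ⟨v, hv⟩
  have hj' : orderOf v ∣ p ^ j := orderOf_dvd_of_pow_eq_one (congrArg Subtype.val hj)
  have h1 : orderOf v ∣ q ^ n := by
    rw [← hn]; exact orderOf_dvd_of_pow_eq_one (key v hv)
  have hqp : q ≠ p := by
    intro e
    apply hpE
    rw [← e]
    have h2 : q ∣ Nat.card Qg := by
      obtain ⟨m, hm⟩ := hQgp.exists_card_eq
      have hm0 : m ≠ 0 := by
        intro h0
        rw [h0, pow_zero] at hm
        exact hQg1 (Subgroup.card_eq_one.mp hm)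
      rw [hm]; exact dvd_pow_self q hm0
    exact h2.trans (Subgroup.card_dvd_of_le (hQgE₀.trans hE₀E))
  have h2 : orderOf v ∣ 1 := by
    have := Nat.dvd_gcd h1 hj'
    have hc : (q ^ n).Coprime (p ^ j) := Nat.Coprime.pow _ _ ((Nat.coprime_primes hq hp).mpr hqp)
    rwa [hc] at this
  exact hv1' (orderOf_eq_one_iff.mp (Nat.dvd_one.mp h2))

end Cfsg.Agent.Lib.Lead.CNFrob
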