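import Mathlib
import Cfsg.Prelude.Def_LieExceptional
import Cfsg.Prelude.Def_OddOrderLocal
import Cfsg.Agent.Lib.Lead.CNFrob
import Cfsg.Agent.Lib.Lead.UniqueP
import Cfsg.Agent.Lib.Helper1.FpfCyclic
import Cfsg.Agent.Lib.Helper1.Hall
import Cfsg.Agent.Lib.Helper1.PLengthOne
import Cfsg.Agent.Lib.Helper1.PCore
import Cfsg.Agent.Lib.Helper1.SubnormalPCore
import Cfsg.Agent.Lib.Helper1.FrobeniusBasic
import Cfsg.Agent.Lib.Helper2.Commutator
import Cfsg.Agent.Lib.Helper3.PGroupFix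
import Cfsg.Agent.Lib.Helper3.SZRel
import Cfsg.Agent.Lib.Helper3.SolvableMin
import Cfsg.Agent.Lib.Helper7.UniqueOrderP

set_option autoImplicit false

/-!
# Solvable CN-groups

Building blocks for the classification of solvable CN-groups (nilpotent / Frobenius / three-step).
-/

namespace Cfsg.Agent.Lib.Lead.CNSolv

open Cfsg Cfsg.Agent.Lib.Lead.NilpotentSub Cfsg.Agent.Lib.Lead.NilpotentCoprime
  Cfsg.Agent.Lib.Lead.FittingHall Cfsg.Agent.Lib.Lead.CNFrob Cfsg.Agent.Lib.Lead.UniqueP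

universe u

variable {G : Type u} [Group G] [Finite G]

/-- A nontrivial `p`-subgroup has a nontrivial central element. -/
theorem exists_central (p : ℕ) [Fact p.Prime] (F : Subgroup G) (hFp : IsPGroup p F) (hF1 : F ≠ ⊥) :
    ∃ w ∈ F, w ≠ 1 ∧ ∀ f ∈ F, f * w = w * f := by
  haveI : Nontrivial F := (Subgroup.nontrivial_iff_ne_bot F).mpr hF1
  haveI := hFp.center_nontrivial
  obtain ⟨⟨z0, hz0c⟩, hz01⟩ := exists_ne (1 : Subgroup.center F)
  refine ⟨(z0 : G), z0.2, ?_, ?_⟩
  · intro h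
    apply hz01
    apply Subtype.ext
    apply Subtype.ext
    exact h
  · intro f hf
    have := Subgroup.mem_center_iff.mp hz0c ⟨f, hf⟩
    exact congrArg Subtype.val this

omit [Finite G] in
theorem orderOf_dvd_of_mem_pgroup (p : ℕ) (F : Subgroup G) (hFp : IsPGroup p F) {f : G} (hf : f ∈ F) :
    ∃ k, orderOf f ∣ p ^ k := by
  obtain ⟨k, hk⟩ := hFp ⟨f, hf⟩
  exact ⟨k, orderOf_dvd_of_pow_eq_one (congrArg Subtype.val hk)⟩

/-- In a CN-group, `p'`-elements act without fixed points on a nontrivial self-centralising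
`p`-subgroup. -/
theorem fpfF (hCN : IsCNGroup G) (p : ℕ) [hp : Fact p.Prime] (F : Subgroup G) (hFp : IsPGroup p F)
    (hF1 : F ≠ ⊥) (hCF : Subgroup.centralizer (F : Set G) ≤ F) (e : G) (he1 : e ≠ 1)
    (hep : (orderOf e).Coprime p) : F ⊓ Subgroup.centralizer ({e} : Set G) = ⊥ := by
  rw [eq_bot_iff]
  intro h hh
  rw [Subgroup.mem_bot]
  by_contra hh1
  obtain ⟨hhF, hhC⟩ := Subgroup.mem_inf.mp hh
  rw [mem_cent_single] at hhC
  obtain ⟨w, hwF, hw1, hwc⟩ := exists_central p F hFp hF1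
  have hcop : ∀ f ∈ F, (orderOf e).Coprime (orderOf f) := by
    intro f hf
    obtain ⟨k, hk⟩ := orderOf_dvd_of_mem_pgroup p F hFp hf
    exact Nat.Coprime.coprime_dvd_right hk (Nat.Coprime.pow_right k hep)
  have h1 : e * w = w * e := by
    apply commute_of_coprime_of_mem _ (hCN h hh1) (a := e) (b := w)
    · rw [mem_cent_single]; exact hhC.symm
    · rw [mem_cent_single]; exact hwc h hhF
    · exact hcop w hwF
  have h2 : ∀ f ∈ F, e * f = f * e := by
    intro f hf
    apply commute_of_coprime_of_mem _ (hCN w hw1)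
    · rw [mem_cent_single]; exact h1.symm
    · rw [mem_cent_single]; exact (hwc f hf).symm
    · exact hcop f hf
  have heF : e ∈ F := hCF (Subgroup.mem_centralizer_iff.mpr (fun f hf => (h2 f hf).symm))
  have := hcop e heF
  rw [Nat.coprime_self] at this
  exact he1 (orderOf_eq_one_iff.mp this)

/-- In a CN-group with a nontrivial normal self-centralising `p`-subgroup, a nontrivial
`p`-element never commutes with a nontrivial `p'`-element. -/
theorem PQ (hCN : IsCNGroup G) (p : ℕ) [hp : Fact p.Prime] (F : Subgroup G) [hFn : F.Normal]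
    (hFp : IsPGroup p F) (hF1 : F ≠ ⊥) (hCF : Subgroup.centralizer (F : Set G) ≤ F)
    (x a : G) (hx1 : x ≠ 1) (hxp : ∃ k, x ^ p ^ k = 1) (ha1 : a ≠ 1)
    (hap : (orderOf a).Coprime p) : x * a ≠ a * x := by
  intro hxa
  have hS : IsPGroup p (Subgroup.zpowers x) := by
    obtain ⟨k, hk⟩ := hxp
    rintro ⟨g, hg⟩
    obtain ⟨i, rfl⟩ := Subgroup.mem_zpowers_iff.mp hg
    refine ⟨k, ?_⟩
    apply Subtype.ext
    simp only [Subgroup.coe_pow, Subgroup.coe_one]
    rw [← zpow_natCast, ← zpow_mul, mul_comm, zpow_mul, zpow_natCast, hk, one_zpow]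
  have hne := Cfsg.Agent.Lib.Helper3.inf_centralizer_ne_bot_of_isPGroup p hFp hS
    (by rw [Subgroup.normalizer_eq_top]; exact le_top) hF1
  obtain ⟨⟨y, hy⟩, hy1⟩ := (Subgroup.ne_bot_iff_exists_ne_one).mp hne
  have hy1' : y ≠ 1 := fun e => hy1 (Subtype.ext e)
  have hxy : x * y = y * x :=
    (Subgroup.mem_centralizer_iff.mp hy.2 x (Subgroup.mem_zpowers x))
  have hay : a * y = y * a := by
    apply commute_of_coprime_of_mem _ (hCN x hx1)
    · rw [mem_cent_single]; exact hxa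
    · rw [mem_cent_single]; exact hxy
    · obtain ⟨k, hk⟩ := orderOf_dvd_of_mem_pgroup p F hFp hy.1
      exact Nat.Coprime.coprime_dvd_right hk (Nat.Coprime.pow_right k hap)
  have hmem : y ∈ F ⊓ Subgroup.centralizer ({a} : Set G) := by
    refine ⟨hy.1, ?_⟩
    show y ∈ Subgroup.centralizer ({a} : Set G)
    rw [mem_cent_single]; exact hay
  rw [fpfF hCN p F hFp hF1 hCF a ha1 hap] at hmem
  exact hy1' (Subgroup.mem_bot.mp hmem)

/-- `p'`-subgroups are nilpotent. -/
theorem nilpotent_of_pprime (hCN : IsCNGroup G) (p : ℕ) [hp : Fact p.Prime] (F : Subgroup G)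
    [hFn : F.Normal] (hFp : IsPGroup p F) (hF1 : F ≠ ⊥)
    (hCF : Subgroup.centralizer (F : Set G) ≤ F) (L : Subgroup G) (hL : ¬ p ∣ Nat.card L) :
    Group.IsNilpotent L := by
  have hVn : (F ⊓ Subgroup.centralizer (F : Set G)).Normal := inferInstance
  have hVc : ∀ a ∈ F ⊓ Subgroup.centralizer (F : Set G),
      ∀ b ∈ F ⊓ Subgroup.centralizer (F : Set G), a * b = b * a := by
    intro a ha b hb
    exact (Subgroup.mem_centralizer_iff.mp ha.2 b hb.1).symm
  have hV1 : F ⊓ Subgroup.centralizer (F : Set G) ≠ ⊥ := by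
    obtain ⟨w, hwF, hw1, hwc⟩ := exists_central p F hFp hF1
    intro e
    have hmem : w ∈ F ⊓ Subgroup.centralizer (F : Set G) :=
      ⟨hwF, Subgroup.mem_centralizer_iff.mpr (fun f hf => hwc f hf)⟩
    rw [e] at hmem
    exact hw1 (Subgroup.mem_bot.mp hmem)
  refine nilpotent_of_fpf hCN _ hVc hV1 p hp.out (hFp.to_le inf_le_left) L hL ?_
  intro e he he1 v hv hev
  have hep : (orderOf e).Coprime p := by
    have h1 : orderOf e ∣ Nat.card L := Subgroup.orderOf_dvd_natCard L he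
    exact Nat.Coprime.coprime_dvd_left h1
      ((Nat.Prime.coprime_iff_not_dvd hp.out).mpr hL).symm
  have hmem : v ∈ F ⊓ Subgroup.centralizer ({e} : Set G) := by
    refine ⟨hv.1, ?_⟩
    show v ∈ Subgroup.centralizer ({e} : Set G)
    rw [mem_cent_single]; exact hev
  rw [fpfF hCN p F hFp hF1 hCF e he1 hep] at hmem
  exact Subgroup.mem_bot.mp hmem

/-- An `r`-subgroup acting without fixed points on a nontrivial normal subgroup has at most one
subgroup of order `r`. -/
theorem uop_of_fpf (K : Subgroup G) [K.Normal] (hK : K ≠ ⊥) (r : ℕ) [hr : Fact r.Prime]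
    (R : Subgroup G) (hR : IsPGroup r R)
    (hfpf : ∀ h ∈ R, h ≠ 1 → K ⊓ Subgroup.centralizer {h} = ⊥) : UOP r R := by
  classical
  have key : ∀ u v : R, u * v = v * u → u ^ r = 1 → v ^ r = 1 → u ≠ 1 →
      v ∈ Subgroup.zpowers u := by
    intro u v huv hu hv hu1
    have hcomm : ∀ x ∈ ({(u : G), (v : G)} : Set G), ∀ y ∈ ({(u : G), (v : G)} : Set G),
        x * y = y * x := by
      have e : (u : G) * v = v * u := by
        have := congrArg Subtype.val huv
        simpa using this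
      rintro x (rfl | rfl) y (rfl | rfl)
      · rfl
      · exact e
      · exact e.symm
      · rfl
    haveI : IsMulCommutative (Subgroup.closure ({(u : G), (v : G)} : Set G)) :=
      Subgroup.isMulCommutative_closure hcomm
    have hAH : Subgroup.closure ({(u : G), (v : G)} : Set G) ≤ R := by
      rw [Subgroup.closure_le]
      rintro x (rfl | rfl)
      · exact u.2
      · exact v.2
    have hcyc : IsCyclic (Subgroup.closure ({(u : G), (v : G)} : Set G)) :=
      Cfsg.Agent.Lib.Helper1.isCyclic_of_fpf_of_abelian _ K hK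
        (by rw [Subgroup.normalizer_eq_top]; exact le_top)
        (fun a ha ha1 => hfpf a (hAH ha) ha1)
    have hUA := Cfsg.Agent.Lib.Helper7.uniqueOrderP_of_isCyclic
      (P := Subgroup.closure ({(u : G), (v : G)} : Set G)) r
    have hmem := hUA ⟨(u : G), Subgroup.subset_closure (by simp)⟩
      ⟨(v : G), Subgroup.subset_closure (by simp)⟩
      (by apply Subtype.ext; simp only [Subgroup.coe_pow, Subgroup.coe_one]
          rw [← Subgroup.coe_pow, hu]; rfl)
      (by apply Subtype.ext; simp only [Subgroup.coe_pow, Subgroup.coe_one]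
          rw [← Subgroup.coe_pow, hv]; rfl)
      (by
        intro h
        apply hu1
        apply Subtype.ext
        have := congrArg Subtype.val h
        simpa using this)
    obtain ⟨k, hk⟩ := Subgroup.mem_zpowers_iff.mp hmem
    rw [Subgroup.mem_zpowers_iff]
    refine ⟨k, Subtype.ext ?_⟩
    have := congrArg Subtype.val hk
    simpa using this
  intro x y hx hy hx1
  haveI : Nontrivial R := ⟨⟨x, 1, hx1⟩⟩
  haveI := hR.center_nontrivial
  have hdvd : r ∣ Nat.card (Subgroup.center R) := by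
    obtain ⟨n, hn⟩ := (hR.to_subgroup (Subgroup.center R)).exists_card_eq
    have hn0 : n ≠ 0 := by
      intro h0
      rw [h0, pow_zero] at hn
      have := Finite.one_lt_card_iff_nontrivial.mpr
        (inferInstance : Nontrivial (Subgroup.center R))
      omega
    rw [hn]; exact dvd_pow_self r hn0
  obtain ⟨⟨z, hzc⟩, hz⟩ := exists_prime_orderOf_dvd_card' (G := Subgroup.center R) r hdvd
  have hzo : orderOf z = r := (Subgroup.orderOf_mk z hzc).symm.trans hz
  have hzp : z ^ r = 1 := by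
    have := pow_orderOf_eq_one z
    rwa [hzo] at this
  have hz1 : z ≠ 1 := by
    intro h
    have h1 : orderOf z = 1 := orderOf_eq_one_iff.mpr h
    exact hr.out.one_lt.ne' (hzo.symm.trans h1)
  have hzcomm : ∀ w : R, w * z = z * w := fun w => (Subgroup.mem_center_iff.mp hzc w)
  have h1 := key x z (hzcomm x) hx hzp hx1
  have h2 := key z y (hzcomm y).symm hzp hy hz1
  obtain ⟨i, hi⟩ := Subgroup.mem_zpowers_iff.mp h1
  obtain ⟨j, hj⟩ := Subgroup.mem_zpowers_iff.mp h2
  rw [Subgroup.mem_zpowers_iff]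
  exact ⟨i * j, by rw [zpow_mul, hi, hj]⟩

/-- A Sylow subgroup contained in a normal nilpotent subgroup is normal. -/
theorem sylow_normal_of_le_normal_nilpotent (C : Subgroup G) [hCn : C.Normal]
    (hCnil : Group.IsNilpotent C) (q : ℕ) [Fact q.Prime] (Q : Sylow q G)
    (hQC : (Q : Subgroup G) ≤ C) : (Q : Subgroup G).Normal := by
  have hQeq : (Q : Subgroup G) = sylowOf C q := by
    have hle : (Q : Subgroup G) ≤ sylowOf C q := le_sylowOf _ hCnil q hQC Q.2
    exact (Q.is_maximal' (sylowOf_isPGroup _ q) hle).symm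
  refine ⟨fun x hx g => ?_⟩
  rw [hQeq]
  obtain ⟨k, hk⟩ := Q.2 ⟨x, hx⟩
  have hk' : x ^ q ^ k = 1 := congrArg Subtype.val hk
  apply mem_sylowOf _ hCnil q (hCn.conj_mem x (hQC hx) g) (k := k)
  rw [conj_pow, hk']; group

/-- If `H` is solvable, `C₁` is a normal `p'`-subgroup and all commutators lie in `C₁`, then `H`
has a normal Hall `p'`-subgroup containing `C₁` and all `p'`-elements. -/
theorem normal_hall (H : Type u) [Group H] [Finite H] [Group.IsSolvable H] (p : ℕ)
    [hp : Fact p.Prime] (C₁ : Subgroup H) [hC₁n : C₁.Normal] (hC₁ : ¬ p ∣ Nat.card C₁)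
    (hab : ∀ a b : H, a * b * a⁻¹ * b⁻¹ ∈ C₁) :
    ∃ L : Subgroup H, L.Normal ∧ Nat.card L = ordCompl[p] (Nat.card H) ∧ C₁ ≤ L ∧
      ∀ n : H, (orderOf n).Coprime p → n ∈ L := by
  have hH0 : Nat.card H ≠ 0 := Nat.card_pos.ne'
  have hmn : Nat.card H = ordCompl[p] (Nat.card H) * ordProj[p] (Nat.card H) := by
    rw [mul_comm]; exact (Nat.ordProj_mul_ordCompl_eq_self _ _).symm
  have hpm : p.Coprime (ordCompl[p] (Nat.card H)) := Nat.coprime_ordCompl hp.out hH0
  have hcop : (ordCompl[p] (Nat.card H)).Coprime (ordProj[p] (Nat.card H)) :=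
    (Nat.Coprime.pow_left _ hpm).symm
  obtain ⟨L, hL⟩ := Cfsg.Agent.Lib.Helper1.hall_exists _ _ hmn hcop
  have hm0 : 0 < ordCompl[p] (Nat.card H) := by rw [← hL]; exact Nat.card_pos
  have key : ∀ U : Subgroup H, ¬ p ∣ Nat.card U →
      Nat.card (U ⊔ L : Subgroup H) ∣ Nat.card U * Nat.card L → U ≤ L := by
    intro U hU hdvd
    have h1 : (Nat.card (U ⊔ L : Subgroup H)).Coprime p := by
      apply Nat.Coprime.coprime_dvd_left hdvd
      apply Nat.Coprime.mul_left
      · exact ((Nat.Prime.coprime_iff_not_dvd hp.out).mpr hU).symm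
      · rw [hL]; exact hpm.symm
    have h2 : Nat.card (U ⊔ L : Subgroup H) ∣ ordCompl[p] (Nat.card H) := by
      have h3 : Nat.card (U ⊔ L : Subgroup H) ∣ Nat.card H := Subgroup.card_subgroup_dvd_card _
      rw [hmn] at h3
      exact (Nat.Coprime.dvd_of_dvd_mul_right (Nat.Coprime.pow_right _ h1) h3)
    have h4 : L = U ⊔ L := by
      apply Subgroup.eq_of_le_of_card_ge le_sup_right
      rw [hL]; exact Nat.le_of_dvd hm0 h2
    rw [h4]; exact le_sup_left
  have hC₁L : C₁ ≤ L := by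
    apply key C₁ hC₁
    rw [sup_comm, mul_comm]
    exact Cfsg.Agent.Lib.Helper1.card_sup_dvd_of_normal L C₁
  have hLn : L.Normal := by
    refine ⟨fun l hl n => ?_⟩
    have : n * l * n⁻¹ = (n * l * n⁻¹ * l⁻¹) * l := by group
    rw [this]; exact L.mul_mem (hC₁L (hab n l)) hl
  refine ⟨L, hLn, hL, hC₁L, fun n hn => ?_⟩
  haveI := hLn
  have hz : Subgroup.zpowers n ≤ L := by
    apply key (Subgroup.zpowers n)
    · rw [Nat.card_zpowers]
      intro hdvd
      have := Nat.Coprime.eq_one_of_dvd hn.symm hdvd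
      exact hp.out.one_lt.ne' this
    · exact Cfsg.Agent.Lib.Helper1.card_sup_dvd_of_normal (Subgroup.zpowers n) L
  exact hz (Subgroup.mem_zpowers n)

/-- In a CN-group without nontrivial normal Sylow subgroups, at most one `O_p(G)` is nontrivial. -/
theorem pCore_other_eq_bot (hCN : IsCNGroup G)
    (hns : ∀ (q : ℕ) [Fact q.Prime] (Q : Sylow q G), (Q : Subgroup G).Normal → (Q : Subgroup G) = ⊥)
    (p q : ℕ) [hp : Fact p.Prime] [hq : Fact q.Prime] (hpq : p ≠ q) (hF1 : pCore p G ≠ ⊥) :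
    pCore q G = ⊥ := by
  by_contra hQ1
  haveI hFn : (pCore p G).Normal := Cfsg.Agent.Lib.Helper1.pCore_normal p
  haveI hQn : (pCore q G).Normal := Cfsg.Agent.Lib.Helper1.pCore_normal q
  have hFp : IsPGroup p (pCore p G) := Cfsg.Agent.Lib.Helper1.pCore_isPGroup p
  have hQq : IsPGroup q (pCore q G) := Cfsg.Agent.Lib.Helper1.pCore_isPGroup q
  let P : Sylow p G := default
  have hFP : pCore p G ≤ P := Cfsg.Agent.Lib.Helper1.pCore_le_sylow p P
  haveI : Group.IsNilpotent (P : Subgroup G) := P.2.isNilpotent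
  have hFP' : ((pCore p G).subgroupOf (P : Subgroup G)) ≠ ⊥ := by
    intro h
    apply hF1
    rw [Subgroup.subgroupOf_eq_bot] at h
    rw [← inf_of_le_left hFP]
    exact h.eq_bot
  haveI : ((pCore p G).subgroupOf (P : Subgroup G)).Normal := Subgroup.normal_subgroupOf
  have hne := Cfsg.Agent.Lib.Helper1.normal_inf_center_ne_bot
    ((pCore p G).subgroupOf (P : Subgroup G)) hFP'
  obtain ⟨⟨z, hz⟩, hz1⟩ := (Subgroup.ne_bot_iff_exists_ne_one).mp hne
  have hzF : (z : G) ∈ pCore p G := Subgroup.mem_subgroupOf.mp hz.1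
  have hz1' : (z : G) ≠ 1 := by
    intro h
    apply hz1
    apply Subtype.ext
    apply Subtype.ext
    exact h
  have hzc : ∀ x ∈ (P : Subgroup G), x * (z : G) = z * x := by
    intro x hx
    have := Subgroup.mem_center_iff.mp hz.2 ⟨x, hx⟩
    exact congrArg Subtype.val this
  have hdisj : Disjoint (pCore p G) (pCore q G) :=
    IsPGroup.disjoint_of_ne p q hpq _ _ hFp hQq
  have hcomm : ∀ f ∈ pCore p G, ∀ y ∈ pCore q G, f * y = y * f := fun f hf y hy =>
    (Subgroup.commute_of_normal_of_disjoint _ _ hFn hQn hdisj f y hf hy).eq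
  have hcop : ∀ x ∈ (P : Subgroup G), ∀ y ∈ pCore q G, (orderOf x).Coprime (orderOf y) := by
    intro x hx y hy
    obtain ⟨i, hi⟩ := orderOf_dvd_of_mem_pgroup p _ P.2 hx
    obtain ⟨j, hj⟩ := orderOf_dvd_of_mem_pgroup q _ hQq hy
    exact Nat.Coprime.coprime_dvd_left hi (Nat.Coprime.coprime_dvd_right hj
      (Nat.Coprime.pow _ _ ((Nat.coprime_primes hp.out hq.out).mpr hpq)))
  have h1 : ∀ x ∈ (P : Subgroup G), ∀ y ∈ pCore q G, x * y = y * x := by
    intro x hx y hy
    apply commute_of_coprime_of_mem _ (hCN (z : G) hz1')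
    · rw [mem_cent_single]; exact (hzc x hx).symm
    · rw [mem_cent_single]; exact hcomm _ hzF y hy
    · exact hcop x hx y hy
  obtain ⟨⟨y₀, hy₀⟩, hy₀1⟩ := (Subgroup.ne_bot_iff_exists_ne_one).mp hQ1
  have hy₀1' : y₀ ≠ 1 := fun e => hy₀1 (Subtype.ext e)
  have hCnil : Group.IsNilpotent (Subgroup.centralizer ((pCore q G : Subgroup G) : Set G)) :=
    isNilpotent_of_le (Subgroup.centralizer_le (Set.singleton_subset_iff.mpr hy₀)) (hCN y₀ hy₀1')
  have hPC : (P : Subgroup G) ≤ Subgroup.centralizer ((pCore q G : Subgroup G) : Set G) :=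
    fun x hx => Subgroup.mem_centralizer_iff.mpr (fun y hy => (h1 x hx y hy).symm)
  have hPn := sylow_normal_of_le_normal_nilpotent _ hCnil p P hPC
  have hPbot := hns p P hPn
  apply hF1
  rw [eq_bot_iff, ← hPbot]
  exact hFP

/-- In a CN-group in which `O_p(G)` is the only nontrivial `O_q(G)`, `O_p(G)` contains its
centraliser. -/
theorem centralizer_pCore_le' (hCN : IsCNGroup G) (p : ℕ) [hp : Fact p.Prime]
    (hF1 : pCore p G ≠ ⊥)
    (hother : ∀ (q : ℕ) [Fact q.Prime], p ≠ q → pCore q G = ⊥) :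
    Subgroup.centralizer ((pCore p G : Subgroup G) : Set G) ≤ pCore p G := by
  haveI hFn : (pCore p G).Normal := Cfsg.Agent.Lib.Helper1.pCore_normal p
  have hFp : IsPGroup p (pCore p G) := Cfsg.Agent.Lib.Helper1.pCore_isPGroup p
  obtain ⟨w, hwF, hw1, hwc⟩ := exists_central p _ hFp hF1
  have hCn : (Subgroup.centralizer ((pCore p G : Subgroup G) : Set G)).Normal := inferInstance
  have hCnil : Group.IsNilpotent (Subgroup.centralizer ((pCore p G : Subgroup G) : Set G)) :=
    isNilpotent_of_le (Subgroup.centralizer_le (Set.singleton_subset_iff.mpr hwF)) (hCN w hw1)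
  have hCp : IsPGroup p (Subgroup.centralizer ((pCore p G : Subgroup G) : Set G)) := by
    rintro ⟨c, hc⟩
    have hpow : orderOf c = p ^ (orderOf c).primeFactorsList.length := by
      apply Nat.eq_prime_pow_of_unique_prime_dvd (orderOf_pos c).ne'
      intro q hq hqd
      by_contra hqp
      haveI : Fact q.Prime := ⟨hq⟩
      have ho : orderOf (c ^ (orderOf c / q)) = q :=
        orderOf_pow_orderOf_div (orderOf_pos c).ne' hqd
      have hc' : c ^ (orderOf c / q) ∈ Subgroup.centralizer ((pCore p G : Subgroup G) : Set G) :=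
        Subgroup.pow_mem _ hc _
      have hmem : c ^ (orderOf c / q) ∈
          sylowOf (Subgroup.centralizer ((pCore p G : Subgroup G) : Set G)) q := by
        apply mem_sylowOf _ hCnil q hc' (k := 1)
        rw [pow_one]
        have := pow_orderOf_eq_one (c ^ (orderOf c / q))
        rwa [ho] at this
      have hSn : (sylowOf (Subgroup.centralizer ((pCore p G : Subgroup G) : Set G)) q).Normal := by
        refine ⟨fun x hx g => ?_⟩
        obtain ⟨k, hk⟩ := sylowOf_isPGroup _ q ⟨x, hx⟩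
        have hk' : x ^ q ^ k = 1 := congrArg Subtype.val hk
        apply mem_sylowOf _ hCnil q (hCn.conj_mem x (sylowOf_le _ q hx) g) (k := k)
        rw [conj_pow, hk']; group
      have hle := Cfsg.Agent.Lib.Helper1.le_pCore hSn (sylowOf_isPGroup _ q)
      rw [hother q (fun e => hqp e.symm)] at hle
      have h1 := Subgroup.mem_bot.mp (hle hmem)
      rw [h1, orderOf_one] at ho
      exact hq.one_lt.ne ho
    refine ⟨(orderOf c).primeFactorsList.length, ?_⟩
    apply Subtype.ext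
    simp only [Subgroup.coe_pow, Subgroup.coe_one]
    rw [← hpow]; exact pow_orderOf_eq_one c
  exact Cfsg.Agent.Lib.Helper1.le_pCore hCn hCp

omit [Finite G] in
/-- In a solvable group, above a proper normal subgroup `F` there is a normal `D ≰ F` with
`[D, D] ≤ F`. -/
theorem exists_D [Group.IsSolvable G] (F : Subgroup G) (hFtop : F ≠ ⊤) :
    ∃ D : Subgroup G, D.Normal ∧ ¬ D ≤ F ∧ ⁅D, D⁆ ≤ F := by
  classical
  have hex : ∃ n, derivedSeries G n ≤ F := by
    obtain ⟨n, hn⟩ := (inferInstance : Group.IsSolvable G).solvable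
    exact ⟨n, by rw [hn]; exact bot_le⟩
  have h0 : Nat.find hex ≠ 0 := by
    intro h0
    have := Nat.find_spec hex
    rw [h0, derivedSeries_zero] at this
    exact hFtop (eq_top_iff.mpr this)
  refine ⟨derivedSeries G (Nat.find hex - 1), inferInstance, ?_, ?_⟩
  · exact Nat.find_min hex (by omega)
  · have := Nat.find_spec hex
    have e : Nat.find hex = (Nat.find hex - 1) + 1 := by omega
    rw [e, derivedSeries_succ] at this
    exact this

open scoped Pointwise commutatorElement in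
/-- Frattini step: a cyclic `p'`-subgroup `R ≠ 1` with `G = F · N_G(R)`. -/
theorem exists_cyclic_frattini [Group.IsSolvable G] (hCN : IsCNGroup G) (p : ℕ) [hp : Fact p.Prime]
    (hF1 : pCore p G ≠ ⊥)
    (hCF : Subgroup.centralizer ((pCore p G : Subgroup G) : Set G) ≤ pCore p G)
    (hFtop : pCore p G ≠ ⊤) :
    ∃ R : Subgroup G, R ≠ ⊥ ∧ IsCyclic R ∧ (Nat.card R).Coprime p ∧ pCore p G ⊓ R = ⊥ ∧
      ∀ g : G, ∃ f ∈ pCore p G, f⁻¹ * g ∈ Subgroup.normalizer (R : Set G) := by
  classical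
  haveI hFn : (pCore p G).Normal := Cfsg.Agent.Lib.Helper1.pCore_normal p
  have hFp : IsPGroup p (pCore p G) := Cfsg.Agent.Lib.Helper1.pCore_isPGroup p
  obtain ⟨D, hDn, hDF, hDD⟩ := exists_D (pCore p G) hFtop
  haveI := hDn
  have hXn : (pCore p G ⊔ D).Normal := Subgroup.sup_normal _ _
  have hXX : ⁅pCore p G ⊔ D, pCore p G ⊔ D⁆ ≤ pCore p G := by
    apply Cfsg.Agent.Lib.Helper2.commutator_sup_le
    · exact Subgroup.commutator_le_left _ _
    · apply Cfsg.Agent.Lib.Helper2.commutator_sup_le'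
      · exact Subgroup.commutator_le_right _ _
      · exact hDD
  have hFX : pCore p G ≤ pCore p G ⊔ D := le_sup_left
  -- p-elements of X lie in F
  have hpel : ∀ x ∈ pCore p G ⊔ D, (∃ k, x ^ p ^ k = 1) → x ∈ pCore p G := by
    intro x hxX hxp
    have hS : IsPGroup p (Subgroup.zpowers x) := by
      obtain ⟨k, hk⟩ := hxp
      rintro ⟨g, hg⟩
      obtain ⟨i, rfl⟩ := Subgroup.mem_zpowers_iff.mp hg
      refine ⟨k, ?_⟩
      apply Subtype.ext
      simp only [Subgroup.coe_pow, Subgroup.coe_one]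
      rw [← zpow_natCast, ← zpow_mul, mul_comm, zpow_mul, zpow_natCast, hk, one_zpow]
    have hTp : IsPGroup p (pCore p G ⊔ Subgroup.zpowers x : Subgroup G) :=
      hFp.to_sup_of_normal_left hS
    have hTX : pCore p G ⊔ Subgroup.zpowers x ≤ pCore p G ⊔ D :=
      sup_le hFX (Subgroup.zpowers_le.mpr hxX)
    have hT'n : ((pCore p G ⊔ Subgroup.zpowers x).subgroupOf (pCore p G ⊔ D)).Normal := by
      refine ⟨fun t ht y => ?_⟩
      rw [Subgroup.mem_subgroupOf] at ht ⊢
      have hc : (y : G) * t * (y : G)⁻¹ * (t : G)⁻¹ ∈ pCore p G :=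
        hXX (Subgroup.commutator_mem_commutator y.2 t.2)
      have e : ((y * t * y⁻¹ : (pCore p G ⊔ D : Subgroup G)) : G) =
          ((y : G) * t * (y : G)⁻¹ * (t : G)⁻¹) * t := by
        simp only [Subgroup.coe_mul, Subgroup.coe_inv]; group
      rw [e]
      exact Subgroup.mul_mem _ (le_sup_left (a := pCore p G) hc) ht
    have hT'p : IsPGroup p ((pCore p G ⊔ Subgroup.zpowers x).subgroupOf (pCore p G ⊔ D)) :=
      hTp.comap_subtype
    have h1 := Cfsg.Agent.Lib.Helper1.le_pCore hT'n hT'p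
    have h2 := Cfsg.Agent.Lib.Helper1.pCore_map_le_of_isSubnormal (p := p) hXn.isSubnormal
    apply h2
    refine ⟨⟨x, hxX⟩, h1 ?_, rfl⟩
    rw [Subgroup.mem_subgroupOf]
    exact le_sup_right (a := pCore p G) (Subgroup.mem_zpowers x)
  -- F is a Sylow p-subgroup of X
  haveI hF'n : ((pCore p G).subgroupOf (pCore p G ⊔ D)).Normal := Subgroup.normal_subgroupOf
  have hF'p : IsPGroup p ((pCore p G).subgroupOf (pCore p G ⊔ D)) := hFp.comap_subtype
  obtain ⟨S, hS⟩ := hF'p.exists_le_sylow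
  have hSF : (S : Subgroup (pCore p G ⊔ D : Subgroup G)) = (pCore p G).subgroupOf (pCore p G ⊔ D) := by
    apply le_antisymm _ hS
    intro y hy
    rw [Subgroup.mem_subgroupOf]
    apply hpel y y.2
    obtain ⟨k, hk⟩ := S.2 ⟨y, hy⟩
    refine ⟨k, ?_⟩
    have := congrArg (fun t : S => ((t : (pCore p G ⊔ D : Subgroup G)) : G)) hk
    simpa using this
  have hcopS := S.card_coprime_index
  rw [hSF] at hcopS
  obtain ⟨R', hR'⟩ := Subgroup.exists_right_complement'_of_coprime hcopS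
  have hcardR' : Nat.card R' = ((pCore p G).subgroupOf (pCore p G ⊔ D)).index :=
    hR'.symm.index_eq_card.symm
  have hcardF' : Nat.card ((pCore p G).subgroupOf (pCore p G ⊔ D)) = Nat.card (pCore p G) :=
    Nat.card_congr (Subgroup.subgroupOfEquivOfLe hFX).toEquiv
  have hcardR : Nat.card (R'.map (pCore p G ⊔ D).subtype) = Nat.card R' :=
    Subgroup.card_map_of_injective (Subgroup.subtype_injective _)
  have hcopFR : (Nat.card (pCore p G)).Coprime (Nat.card (R'.map (pCore p G ⊔ D).subtype)) := by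
    rw [hcardR, hcardR', ← hcardF']; exact hcopS
  have hpF : p ∣ Nat.card (pCore p G) := by
    obtain ⟨n, hn⟩ := hFp.exists_card_eq
    have hn0 : n ≠ 0 := by
      intro h0
      rw [h0, pow_zero] at hn
      exact hF1 (Subgroup.card_eq_one.mp hn)
    rw [hn]; exact dvd_pow_self p hn0
  have hRp : (Nat.card (R'.map (pCore p G ⊔ D).subtype)).Coprime p :=
    (Nat.Coprime.coprime_dvd_left hpF hcopFR).symm
  have hFR : pCore p G ⊓ R'.map (pCore p G ⊔ D).subtype = ⊥ :=
    (Subgroup.disjoint_of_coprime_natCard hcopFR).eq_bot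
  have hsupX : pCore p G ⊔ R'.map (pCore p G ⊔ D).subtype = pCore p G ⊔ D := by
    have h1 := hR'.sup_eq_top
    have h2 := congrArg (Subgroup.map (pCore p G ⊔ D).subtype) h1
    rw [Subgroup.map_sup, Subgroup.map_subgroupOf_eq_of_le hFX, ← MonoidHom.range_eq_map,
      Subgroup.range_subtype] at h2
    exact h2
  have hRX : R'.map (pCore p G ⊔ D).subtype ≤ pCore p G ⊔ D := Subgroup.map_subtype_le _
  -- R abelian
  have hRc : ∀ a ∈ R'.map (pCore p G ⊔ D).subtype, ∀ b ∈ R'.map (pCore p G ⊔ D).subtype,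
      a * b = b * a := by
    intro a ha b hb
    have hc : ⁅a, b⁆ ∈ pCore p G := hXX (Subgroup.commutator_mem_commutator (hRX ha) (hRX hb))
    have hc' : ⁅a, b⁆ ∈ R'.map (pCore p G ⊔ D).subtype := by
      rw [commutatorElement_def]
      exact Subgroup.mul_mem _ (Subgroup.mul_mem _ (Subgroup.mul_mem _ ha hb)
        (Subgroup.inv_mem _ ha)) (Subgroup.inv_mem _ hb)
    have : ⁅a, b⁆ ∈ pCore p G ⊓ R'.map (pCore p G ⊔ D).subtype := ⟨hc, hc'⟩
    rw [hFR, Subgroup.mem_bot] at this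
    exact commutatorElement_eq_one_iff_mul_comm.mp this
  have hR1 : R'.map (pCore p G ⊔ D).subtype ≠ ⊥ := by
    intro e
    rw [e, sup_bot_eq] at hsupX
    apply hDF
    rw [hsupX]
    exact le_sup_right
  haveI : IsMulCommutative (R'.map (pCore p G ⊔ D).subtype) :=
    ⟨⟨fun a b => Subtype.ext (hRc a a.2 b b.2)⟩⟩
  have hRcyc : IsCyclic (R'.map (pCore p G ⊔ D).subtype) := by
    apply Cfsg.Agent.Lib.Helper1.isCyclic_of_fpf_of_abelian _ (pCore p G) hF1
      (by rw [Subgroup.normalizer_eq_top]; exact le_top)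
    intro a ha ha1
    apply fpfF hCN p _ hFp hF1 hCF a ha1
    exact Nat.Coprime.coprime_dvd_left (Subgroup.orderOf_dvd_natCard _ ha) hRp
  clear hcardR hcardR' hR'
  generalize R'.map (pCore p G ⊔ D).subtype = R at *
  refine ⟨R, hR1, hRcyc, hRp, hFR, ?_⟩
  intro g
  have hK : MulAut.conj g • R ≤ R ⊔ pCore p G := by
    rw [sup_comm, hsupX]
    intro x hx
    rw [Cfsg.Agent.Lib.Helper1.mem_conj_smul_iff] at hx
    have h1 := hXn.conj_mem _ (hRX hx) g
    have e : g * (g⁻¹ * x * g) * g⁻¹ = x := by group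
    rwa [e] at h1
  obtain ⟨n, hnF, hn⟩ := Cfsg.Agent.Lib.Helper3.sz_conj_rel (pCore p G)
    R (MulAut.conj g • R) hcopFR hK
    (Cfsg.Agent.Lib.Helper1.card_conj_smul g _) (Or.inl inferInstance)
  refine ⟨n, hnF, ?_⟩
  apply Cfsg.Agent.Lib.Helper3.mem_normalizer_of_forall_conj_mem
  intro x hx
  have h1 : g * x * g⁻¹ ∈ MulAut.conj g • R := by
    rw [Cfsg.Agent.Lib.Helper1.mem_conj_smul_iff]
    have e : g⁻¹ * (g * x * g⁻¹) * g = x := by group
    rwa [e]
  rw [← hn, Cfsg.Agent.Lib.Helper1.mem_conj_smul_iff] at h1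
  have e : n⁻¹ * g * x * (n⁻¹ * g)⁻¹ = n⁻¹ * (g * x * g⁻¹) * n := by group
  rw [e]
  exact h1

omit [Finite G] in
/-- Conjugation by an element normalising a cyclic subgroup is a power map on it. -/
theorem conj_eq_zpow_of_cyclic (R : Subgroup G) (hRc : IsCyclic R) (n : G)
    (hn : n ∈ Subgroup.normalizer (R : Set G)) : ∃ k : ℤ, ∀ y ∈ R, n * y * n⁻¹ = y ^ k := by
  obtain ⟨⟨a, haR⟩, hgen⟩ := hRc.exists_generator
  have hna : n * a * n⁻¹ ∈ R := (Subgroup.mem_normalizer_iff.mp hn a).mp haR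
  obtain ⟨k, hk⟩ := Subgroup.mem_zpowers_iff.mp (hgen ⟨n * a * n⁻¹, hna⟩)
  have hk' : a ^ k = n * a * n⁻¹ := by
    have := congrArg Subtype.val hk
    simpa using this
  refine ⟨k, fun y hy => ?_⟩
  obtain ⟨i, hi⟩ := Subgroup.mem_zpowers_iff.mp (hgen ⟨y, hy⟩)
  have hi' : a ^ i = y := by
    have := congrArg Subtype.val hi
    simpa using this
  rw [← hi']
  calc n * a ^ i * n⁻¹ = (n * a * n⁻¹) ^ i := by
        rw [← MulAut.conj_apply, ← MulAut.conj_apply, map_zpow]
    _ = (a ^ k) ^ i := by rw [hk']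
    _ = (a ^ i) ^ k := by rw [← zpow_mul, ← zpow_mul, mul_comm]

omit [Finite G] in
/-- Commutators of elements normalising a cyclic subgroup centralise it. -/
theorem commutator_mem_centralizer_of_cyclic (R : Subgroup G) (hRc : IsCyclic R) (n₁ n₂ : G)
    (h₁ : n₁ ∈ Subgroup.normalizer (R : Set G)) (h₂ : n₂ ∈ Subgroup.normalizer (R : Set G)) :
    n₁ * n₂ * n₁⁻¹ * n₂⁻¹ ∈ Subgroup.centralizer (R : Set G) := by
  obtain ⟨k₁, hk₁⟩ := conj_eq_zpow_of_cyclic R hRc n₁ h₁
  obtain ⟨k₂, hk₂⟩ := conj_eq_zpow_of_cyclic R hRc n₂ h₂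
  have huv : ∀ y ∈ R, (n₁ * n₂) * y * (n₁ * n₂)⁻¹ = (n₂ * n₁) * y * (n₂ * n₁)⁻¹ := by
    intro y hy
    have e1 : (n₁ * n₂) * y * (n₁ * n₂)⁻¹ = n₁ * (n₂ * y * n₂⁻¹) * n₁⁻¹ := by group
    have e2 : (n₂ * n₁) * y * (n₂ * n₁)⁻¹ = n₂ * (n₁ * y * n₁⁻¹) * n₂⁻¹ := by group
    rw [e1, e2, hk₂ y hy, hk₁ y hy, hk₁ _ (Subgroup.zpow_mem _ hy _),
      hk₂ _ (Subgroup.zpow_mem _ hy _), ← zpow_mul, ← zpow_mul, mul_comm]
  rw [Subgroup.mem_centralizer_iff]
  intro x hx
  have hv : (n₂ * n₁)⁻¹ ∈ Subgroup.normalizer (R : Set G) :=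
    Subgroup.inv_mem _ (Subgroup.mul_mem _ h₂ h₁)
  have hy : (n₂ * n₁)⁻¹ * x * (n₂ * n₁)⁻¹⁻¹ ∈ R := (Subgroup.mem_normalizer_iff.mp hv x).mp hx
  have h3 := huv _ hy
  have e3 : (n₂ * n₁) * ((n₂ * n₁)⁻¹ * x * (n₂ * n₁)⁻¹⁻¹) * (n₂ * n₁)⁻¹ = x := by group
  rw [e3] at h3
  -- h3 : (n₁ n₂) (v⁻¹ x v) (n₁ n₂)⁻¹ = x
  have e4 : n₁ * n₂ * n₁⁻¹ * n₂⁻¹ * x * (n₁ * n₂ * n₁⁻¹ * n₂⁻¹)⁻¹ =
      (n₁ * n₂) * ((n₂ * n₁)⁻¹ * x * (n₂ * n₁)⁻¹⁻¹) * (n₁ * n₂)⁻¹ := by group
  have h5 : n₁ * n₂ * n₁⁻¹ * n₂⁻¹ * x * (n₁ * n₂ * n₁⁻¹ * n₂⁻¹)⁻¹ = x := by rw [e4, h3]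
  calc x * (n₁ * n₂ * n₁⁻¹ * n₂⁻¹)
      = (n₁ * n₂ * n₁⁻¹ * n₂⁻¹ * x * (n₁ * n₂ * n₁⁻¹ * n₂⁻¹)⁻¹) * (n₁ * n₂ * n₁⁻¹ * n₂⁻¹) := by
        rw [h5]
    _ = n₁ * n₂ * n₁⁻¹ * n₂⁻¹ * x := by group

/-- Two involutions acting without fixed points on a normal self-centralising subgroup have their
product in it. -/
theorem involution_mul_mem (F : Subgroup G) [hFn : F.Normal]
    (hCF : Subgroup.centralizer (F : Set G) ≤ F) (s t : G) (hs : s * s = 1) (ht : t * t = 1)
    (hsf : F ⊓ Subgroup.centralizer {s} = ⊥) (htf : F ⊓ Subgroup.centralizer {t} = ⊥) :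
    s * t ∈ F := by
  have h1 := (Cfsg.Agent.Lib.Helper1.fpf_involution_inverts F s hs hsf).1
  have h2 := (Cfsg.Agent.Lib.Helper1.fpf_involution_inverts F t ht htf).1
  apply hCF
  rw [Subgroup.mem_centralizer_iff]
  intro k hk
  have e : s * t * k * (s * t)⁻¹ = k := by
    calc s * t * k * (s * t)⁻¹ = s * (t * k * t⁻¹) * s⁻¹ := by group
      _ = s * k⁻¹ * s⁻¹ := by rw [h2 k hk]
      _ = k := by rw [h1 _ (F.inv_mem hk), inv_inv]
  calc k * (s * t) = (s * t * k * (s * t)⁻¹) * (s * t) := by rw [e]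
    _ = s * t * k := by group

open scoped Pointwise in
/-- From the Frattini step to the three-step structure. -/
theorem threeStep_of_frattini [Group.IsSolvable G] (hCN : IsCNGroup G) (p : ℕ) [hp : Fact p.Prime]
    (hF1 : pCore p G ≠ ⊥)
    (hCF : Subgroup.centralizer ((pCore p G : Subgroup G) : Set G) ≤ pCore p G)
    (hns : ∀ (P : Sylow p G), (P : Subgroup G).Normal → (P : Subgroup G) = ⊥)
    (R : Subgroup G) (hR1 : R ≠ ⊥) (hRc : IsCyclic R) (hRp : (Nat.card R).Coprime p)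
    (hFR : pCore p G ⊓ R = ⊥)
    (hfrat : ∀ g : G, ∃ f ∈ pCore p G, f⁻¹ * g ∈ Subgroup.normalizer (R : Set G)) :
    IsThreeStepGroup p G := by
  classical
  haveI hFn : (pCore p G).Normal := Cfsg.Agent.Lib.Helper1.pCore_normal p
  have hFp : IsPGroup p (pCore p G) := Cfsg.Agent.Lib.Helper1.pCore_isPGroup p
  have hpP : p.Prime := hp.out
  -- p'-elements act fpf
  have hfpf : ∀ e : G, e ≠ 1 → (orderOf e).Coprime p →
      pCore p G ⊓ Subgroup.centralizer ({e} : Set G) = ⊥ :=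
    fun e he1 hep => fpfF hCN p _ hFp hF1 hCF e he1 hep
  have hPQ : ∀ x a : G, x ≠ 1 → (∃ k, x ^ p ^ k = 1) → a ≠ 1 → (orderOf a).Coprime p →
      x * a ≠ a * x := fun x a => PQ hCN p _ hFp hF1 hCF x a
  -- generator of R
  obtain ⟨⟨a₀, ha₀R⟩, hgen⟩ := hRc.exists_generator
  have ha₀1 : a₀ ≠ 1 := by
    intro h
    apply hR1
    rw [eq_bot_iff]
    intro y hy
    obtain ⟨i, hi⟩ := Subgroup.mem_zpowers_iff.mp (hgen ⟨y, hy⟩)
    have hi' : a₀ ^ i = y := by
      have := congrArg Subtype.val hi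
      simpa using this
    rw [Subgroup.mem_bot, ← hi', h, one_zpow]
  have hRord : ∀ y ∈ R, (orderOf y).Coprime p := fun y hy =>
    Nat.Coprime.coprime_dvd_left (Subgroup.orderOf_dvd_natCard _ hy) hRp
  have hRcomm : ∀ x ∈ R, ∀ y ∈ R, x * y = y * x := by
    intro x hx y hy
    haveI := hRc
    have := comm_of_isCyclic (H := R) ⟨x, hx⟩ ⟨y, hy⟩
    exact congrArg Subtype.val this
  -- F ∩ N₀ = 1
  have hFN : pCore p G ⊓ Subgroup.normalizer (R : Set G) = ⊥ := by
    rw [eq_bot_iff]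
    intro f hf
    have hfa : f * a₀ * f⁻¹ ∈ R := (Subgroup.mem_normalizer_iff.mp hf.2 a₀).mp ha₀R
    have h1 : f * a₀ * f⁻¹ * a₀⁻¹ ∈ pCore p G ⊓ R := by
      refine ⟨?_, R.mul_mem hfa (R.inv_mem ha₀R)⟩
      have : f * a₀ * f⁻¹ * a₀⁻¹ = f * (a₀ * f⁻¹ * a₀⁻¹) := by group
      rw [this]
      exact Subgroup.mul_mem _ hf.1 (hFn.conj_mem _ (Subgroup.inv_mem _ hf.1) a₀)
    rw [hFR, Subgroup.mem_bot] at h1
    have h2 : a₀ * f = f * a₀ := by
      have : f * a₀ = (f * a₀ * f⁻¹ * a₀⁻¹) * (a₀ * f) := by group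
      rw [this, h1, one_mul]
    have hmem : f ∈ pCore p G ⊓ Subgroup.centralizer ({a₀} : Set G) := by
      refine ⟨hf.1, ?_⟩
      show f ∈ Subgroup.centralizer ({a₀} : Set G)
      rw [mem_cent_single]; exact h2
    rw [hfpf a₀ ha₀1 (hRord a₀ ha₀R)] at hmem
    exact hmem
  -- C₁ and the normal Hall subgroup of N₀
  haveI hC₁n : ((Subgroup.centralizer (R : Set G)).subgroupOf
      (Subgroup.normalizer (R : Set G))).Normal :=
    Subgroup.normal_subgroupOf_centralizer_normalizer (R : Set G)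
  have hC₁p : ¬ p ∣ Nat.card ((Subgroup.centralizer (R : Set G)).subgroupOf
      (Subgroup.normalizer (R : Set G))) := by
    intro hdvd
    obtain ⟨⟨x, hxC⟩, hx⟩ := exists_prime_orderOf_dvd_card' (G := ((Subgroup.centralizer
      (R : Set G)).subgroupOf (Subgroup.normalizer (R : Set G)))) p hdvd
    rw [Subgroup.mem_subgroupOf] at hxC
    have hxo : orderOf (x : G) = p := by
      rw [Subgroup.orderOf_coe]
      exact (Subgroup.orderOf_mk x _).symm.trans hx
    have hx1 : (x : G) ≠ 1 := by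
      intro h
      rw [h, orderOf_one] at hxo
      exact hpP.one_lt.ne hxo
    have hxa : (x : G) * a₀ = a₀ * x :=
      (Subgroup.mem_centralizer_iff.mp hxC a₀ ha₀R).symm
    exact hPQ x a₀ hx1 ⟨1, by rw [pow_one, ← hxo]; exact pow_orderOf_eq_one _⟩ ha₀1
      (hRord a₀ ha₀R) hxa
  have hab : ∀ a b : Subgroup.normalizer (R : Set G), a * b * a⁻¹ * b⁻¹ ∈
      (Subgroup.centralizer (R : Set G)).subgroupOf (Subgroup.normalizer (R : Set G)) := by
    intro a b
    rw [Subgroup.mem_subgroupOf]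
    have := commutator_mem_centralizer_of_cyclic R hRc a b a.2 b.2
    simpa using this
  obtain ⟨L', hL'n, hL'card, hC₁L', hL'el⟩ := normal_hall (Subgroup.normalizer (R : Set G)) p
    ((Subgroup.centralizer (R : Set G)).subgroupOf (Subgroup.normalizer (R : Set G))) hC₁p hab
  have hN0 : Nat.card (Subgroup.normalizer (R : Set G)) ≠ 0 := Nat.card_pos.ne'
  have hLcard : Nat.card (L'.map (Subgroup.normalizer (R : Set G)).subtype) =
      ordCompl[p] (Nat.card (Subgroup.normalizer (R : Set G))) := by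
    rw [Subgroup.card_map_of_injective (Subgroup.subtype_injective _), hL'card]
  have hLN : L'.map (Subgroup.normalizer (R : Set G)).subtype ≤ Subgroup.normalizer (R : Set G) :=
    Subgroup.map_subtype_le _
  have hRL : R ≤ L'.map (Subgroup.normalizer (R : Set G)).subtype := by
    intro y hy
    have hyN : y ∈ Subgroup.normalizer (R : Set G) := Subgroup.le_normalizer hy
    refine ⟨⟨y, hyN⟩, hC₁L' ?_, rfl⟩
    rw [Subgroup.mem_subgroupOf, Subgroup.mem_centralizer_iff]
    intro x hx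
    exact hRcomm x hx y hy
  have hLnorm : ∀ n ∈ Subgroup.normalizer (R : Set G),
      ∀ l ∈ L'.map (Subgroup.normalizer (R : Set G)).subtype,
      n * l * n⁻¹ ∈ L'.map (Subgroup.normalizer (R : Set G)).subtype := by
    rintro n hn _ ⟨l', hl', rfl⟩
    exact ⟨⟨n, hn⟩ * l' * ⟨n, hn⟩⁻¹, hL'n.conj_mem l' hl' _, by simp⟩
  have hLel : ∀ n ∈ Subgroup.normalizer (R : Set G), (orderOf n).Coprime p →
      n ∈ L'.map (Subgroup.normalizer (R : Set G)).subtype := by
    intro n hn hno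
    refine ⟨⟨n, hn⟩, hL'el _ ?_, rfl⟩
    rw [Subgroup.orderOf_mk]; exact hno
  have hLp : (Nat.card (L'.map (Subgroup.normalizer (R : Set G)).subtype)).Coprime p := by
    rw [hLcard]; exact (Nat.coprime_ordCompl hpP hN0).symm
  clear hL'card hC₁L' hL'el hL'n hab hC₁p hC₁n
  generalize L'.map (Subgroup.normalizer (R : Set G)).subtype = L at *
  have hL1 : L ≠ ⊥ := fun h => hR1 (eq_bot_iff.mpr (h ▸ hRL))
  have hLord : ∀ y ∈ L, (orderOf y).Coprime p := fun y hy =>
    Nat.Coprime.coprime_dvd_left (Subgroup.orderOf_dvd_natCard _ hy) hLp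
  have hFL : pCore p G ⊓ L = ⊥ := by
    rw [eq_bot_iff, ← hFN]
    exact inf_le_inf_left _ hLN
  -- Frattini: F ⊔ N₀ = ⊤
  have hsupN : pCore p G ⊔ Subgroup.normalizer (R : Set G) = ⊤ := by
    rw [eq_top_iff]
    intro g _
    obtain ⟨f, hf, hfg⟩ := hfrat g
    have : g = f * (f⁻¹ * g) := by group
    rw [this]
    exact Subgroup.mul_mem _ (le_sup_left (a := pCore p G) hf)
      (le_sup_right (a := pCore p G) hfg)
  -- K normal
  have hKn : (pCore p G ⊔ L).Normal := by
    refine ⟨fun x hx g => ?_⟩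
    have hxmul : x ∈ ((pCore p G : Subgroup G) : Set G) * (L : Set G) := by
      rw [← Subgroup.normal_mul]; exact hx
    obtain ⟨f₁, hf₁, l₁, hl₁, rfl⟩ := Set.mem_mul.mp hxmul
    obtain ⟨f, hf, hfg⟩ := hfrat g
    have hl₂ := hLnorm _ hfg l₁ hl₁
    have e : g * (f₁ * l₁) * g⁻¹ = (g * f₁ * g⁻¹) *
        (f * ((f⁻¹ * g) * l₁ * (f⁻¹ * g)⁻¹) * f⁻¹ * ((f⁻¹ * g) * l₁ * (f⁻¹ * g)⁻¹)⁻¹) *
        ((f⁻¹ * g) * l₁ * (f⁻¹ * g)⁻¹) := by group
    rw [e]
    apply Subgroup.mul_mem _ (Subgroup.mul_mem _ _ _) (le_sup_right (a := pCore p G) hl₂)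
    · exact le_sup_left (a := pCore p G) (hFn.conj_mem _ hf₁ g)
    · apply le_sup_left (a := pCore p G)
      have e2 : f * ((f⁻¹ * g) * l₁ * (f⁻¹ * g)⁻¹) * f⁻¹ * ((f⁻¹ * g) * l₁ * (f⁻¹ * g)⁻¹)⁻¹ =
          f * (((f⁻¹ * g) * l₁ * (f⁻¹ * g)⁻¹) * f⁻¹ * ((f⁻¹ * g) * l₁ * (f⁻¹ * g)⁻¹)⁻¹) := by group
      rw [e2]
      exact Subgroup.mul_mem _ hf (hFn.conj_mem _ (Subgroup.inv_mem _ hf) _)
  -- cardinalities
  have hcardG : Nat.card G = Nat.card (pCore p G) * Nat.card (Subgroup.normalizer (R : Set G)) := by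
    have h1 := Cfsg.Agent.Lib.Helper3.card_sup_of_inf_eq_bot (Subgroup.normalizer (R : Set G))
      (pCore p G) (by rw [inf_comm]; exact hFN)
    rw [sup_comm, hsupN, Subgroup.card_top] at h1
    rw [h1, mul_comm]
  have hcardK : Nat.card (pCore p G ⊔ L : Subgroup G) = Nat.card (pCore p G) * Nat.card L := by
    have h1 := Cfsg.Agent.Lib.Helper3.card_sup_of_inf_eq_bot L (pCore p G)
      (by rw [inf_comm]; exact hFL)
    rw [sup_comm] at h1
    rw [h1, mul_comm]
  have hidx : (pCore p G ⊔ L).index =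
      p ^ (Nat.card (Subgroup.normalizer (R : Set G))).factorization p := by
    have h1 := (pCore p G ⊔ L).card_mul_index
    rw [hcardK, hcardG, hLcard, mul_assoc] at h1
    have h2 := Nat.eq_of_mul_eq_mul_left Nat.card_pos h1
    have h3 := Nat.ordProj_mul_ordCompl_eq_self (Nat.card (Subgroup.normalizer (R : Set G))) p
    have hpos : 0 < ordCompl[p] (Nat.card (Subgroup.normalizer (R : Set G))) := by
      rw [← hLcard]; exact Nat.card_pos
    have h4 : (pCore p G ⊔ L).index * ordCompl[p] (Nat.card (Subgroup.normalizer (R : Set G))) =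
        ordProj[p] (Nat.card (Subgroup.normalizer (R : Set G))) *
          ordCompl[p] (Nat.card (Subgroup.normalizer (R : Set G))) := by
      rw [mul_comm, h2, h3]
    exact Nat.eq_of_mul_eq_mul_right hpos h4
  -- p divides |N₀|
  have hpN : p ∣ Nat.card (Subgroup.normalizer (R : Set G)) := by
    by_contra hnd
    obtain ⟨P, hP⟩ := hFp.exists_le_sylow
    have hPF : (P : Subgroup G) = pCore p G := by
      symm
      apply Subgroup.eq_of_le_of_card_ge hP
      obtain ⟨b, hb⟩ := P.2.exists_card_eq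
      have h1 : Nat.card (P : Subgroup G) ∣ Nat.card G := Subgroup.card_subgroup_dvd_card _
      rw [hcardG] at h1
      have h2 : (Nat.card (P : Subgroup G)).Coprime (Nat.card (Subgroup.normalizer (R : Set G))) := by
        rw [hb]
        exact Nat.Coprime.pow_left _ ((Nat.Prime.coprime_iff_not_dvd hpP).mpr hnd)
      exact Nat.le_of_dvd Nat.card_pos (h2.dvd_of_dvd_mul_right h1)
    have hPn : (P : Subgroup G).Normal := by rw [hPF]; exact hFn
    have := hns P hPn
    rw [hPF] at this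
    exact hF1 this
  have hKtop : pCore p G ⊔ L ≠ ⊤ := by
    intro h
    rw [h, Subgroup.index_top] at hidx
    have hpos : 0 < (Nat.card (Subgroup.normalizer (R : Set G))).factorization p :=
      hpP.factorization_pos_of_dvd hN0 hpN
    have : 1 < p ^ (Nat.card (Subgroup.normalizer (R : Set G))).factorization p :=
      Nat.one_lt_pow hpos.ne' hpP.one_lt
    omega
  -- L is nilpotent
  have hLnil : Group.IsNilpotent L := by
    apply nilpotent_of_pprime hCN p _ hFp hF1 hCF L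
    intro hdvd
    have := Nat.Coprime.eq_one_of_dvd hLp.symm hdvd
    exact hpP.one_lt.ne' this
  -- an element of order p in N₀
  obtain ⟨x₀', hx₀'⟩ := exists_prime_orderOf_dvd_card' (G := Subgroup.normalizer (R : Set G)) p hpN
  have hx₀o : orderOf (x₀' : G) = p := by rw [Subgroup.orderOf_coe]; exact hx₀'
  have hx₀1 : (x₀' : G) ≠ 1 := by
    intro h
    rw [h, orderOf_one] at hx₀o
    exact hpP.one_lt.ne hx₀o
  have hx₀p : ∃ k, (x₀' : G) ^ p ^ k = 1 :=
    ⟨1, by rw [pow_one, ← hx₀o]; exact pow_orderOf_eq_one _⟩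
  -- |L| is odd
  have hLodd : Odd (Nat.card L) := by
    rw [← Nat.not_even_iff_odd, even_iff_two_dvd]
    intro h2
    haveI : Fact (Nat.Prime 2) := ⟨Nat.prime_two⟩
    obtain ⟨t', ht'⟩ := exists_prime_orderOf_dvd_card' (G := L) 2 h2
    have hto : orderOf (t' : G) = 2 := by rw [Subgroup.orderOf_coe]; exact ht'
    have ht1 : (t' : G) ≠ 1 := by
      intro h
      rw [h, orderOf_one] at hto
      omega
    have htt : (t' : G) * t' = 1 := by
      rw [← pow_two, ← hto]; exact pow_orderOf_eq_one _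
    have hs : (x₀' : G) * t' * (x₀' : G)⁻¹ ∈ L := hLnorm _ x₀'.2 _ t'.2
    have hs1 : (x₀' : G) * t' * (x₀' : G)⁻¹ ≠ 1 := by
      intro h
      apply ht1
      have : (t' : G) = (x₀' : G)⁻¹ * ((x₀' : G) * t' * (x₀' : G)⁻¹) * x₀' := by group
      rw [this, h]; group
    have hss : ((x₀' : G) * t' * (x₀' : G)⁻¹) * ((x₀' : G) * t' * (x₀' : G)⁻¹) = 1 := by
      calc ((x₀' : G) * t' * (x₀' : G)⁻¹) * ((x₀' : G) * t' * (x₀' : G)⁻¹)
          = (x₀' : G) * ((t' : G) * t') * (x₀' : G)⁻¹ := by group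
        _ = 1 := by rw [htt]; group
    have hmem := involution_mul_mem (pCore p G) hCF _ _ hss htt
      (hfpf _ hs1 (hLord _ hs)) (hfpf _ ht1 (hLord _ t'.2))
    have hmem' : ((x₀' : G) * t' * (x₀' : G)⁻¹) * t' ∈ pCore p G ⊓ L :=
      ⟨hmem, L.mul_mem hs t'.2⟩
    rw [hFL, Subgroup.mem_bot] at hmem'
    have hcomm : (x₀' : G) * t' = t' * x₀' := by
      have h1 : (x₀' : G) * t' * (x₀' : G)⁻¹ = (t' : G)⁻¹ := eq_inv_of_mul_eq_one_left hmem'
      have h2 : (t' : G)⁻¹ = t' := inv_eq_of_mul_eq_one_right htt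
      rw [h2] at h1
      calc (x₀' : G) * t' = ((x₀' : G) * t' * (x₀' : G)⁻¹) * x₀' := by group
        _ = t' * x₀' := by rw [h1]
    exact hPQ _ _ hx₀1 hx₀p ht1 (hLord _ t'.2) hcomm
  -- L is cyclic
  have hLcyc : IsCyclic L := by
    haveI := hLnil
    haveI : IsZGroup L := by
      refine ⟨fun r hr S => ?_⟩
      haveI : Fact r.Prime := ⟨hr⟩
      have hS'p : IsPGroup r ((S : Subgroup L).map L.subtype) := S.2.map _
      have hS'L : (S : Subgroup L).map L.subtype ≤ L := Subgroup.map_subtype_le _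
      have hu := uop_of_fpf (pCore p G) hF1 r _ hS'p
        (fun h hh hh1 => hfpf h hh1 (hLord h (hS'L hh)))
      have hcq := cyclic_or_quaternion r hS'p hu
      have e : (S : Subgroup L) ≃* ((S : Subgroup L).map L.subtype) :=
        (S : Subgroup L).equivMapOfInjective L.subtype L.subtype_injective
      rcases hcq with hc | ⟨h2, -⟩
      · haveI := hc
        exact isCyclic_of_surjective e.symm e.symm.surjective
      · -- r = 2 but |L| odd, so S is trivial
        have hS1 : Nat.card (S : Subgroup L) = 1 := by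
          obtain ⟨n, hn⟩ := S.2.exists_card_eq
          rcases Nat.eq_zero_or_pos n with h0 | h0
          · rw [hn, h0, pow_zero]
          · exfalso
            have h3 : 2 ∣ Nat.card (S : Subgroup L) := by
              rw [hn, h2]; exact dvd_pow_self 2 h0.ne'
            have h4 : 2 ∣ Nat.card L := h3.trans (Subgroup.card_subgroup_dvd_card _)
            rw [← even_iff_two_dvd, ← Nat.not_odd_iff_even] at h4
            exact h4 hLodd
        haveI : Subsingleton (S : Subgroup L) := (Nat.card_eq_one_iff_unique.mp hS1).1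
        exact isCyclic_of_subsingleton
    infer_instance
  refine ⟨hF1, L, hL1, hLcyc, hLodd, hLp, hKn, hKtop, ⟨_, hidx⟩, ?_, ?_⟩
  · intro a ha ha1
    exact hfpf a ha1 (hLord a ha)
  · intro x hx a ha ha1 hc
    obtain ⟨f, hf, hfn⟩ := hfrat x
    set n := f⁻¹ * x with hn
    have hxfn : x = f * n := by rw [hn]; group
    have hnL : n ∉ L := by
      intro h
      apply hx
      rw [hxfn]
      exact Subgroup.mul_mem _ (le_sup_left (a := pCore p G) hf) (le_sup_right (a := pCore p G) h)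
    have ha' : n * a * n⁻¹ ∈ L := hLnorm n hfn a ha
    have h1 : n * a * n⁻¹ * a⁻¹ ∈ pCore p G ⊓ L := by
      refine ⟨?_, L.mul_mem ha' (L.inv_mem ha)⟩
      have e : n * a * n⁻¹ * a⁻¹ =
          (f * ((n * a * n⁻¹) * f⁻¹ * (n * a * n⁻¹)⁻¹))⁻¹ * (x * a * x⁻¹ * a⁻¹) := by
        rw [hxfn]; group
      rw [e]
      exact Subgroup.mul_mem _ (Subgroup.inv_mem _ (Subgroup.mul_mem _ hf
        (hFn.conj_mem _ (Subgroup.inv_mem _ hf) _))) hc
    rw [hFL, Subgroup.mem_bot] at h1
    have hna : n * a = a * n := by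
      calc n * a = (n * a * n⁻¹ * a⁻¹) * (a * n) := by group
        _ = a * n := by rw [h1, one_mul]
    obtain ⟨s, t, hs, ht, hnst, hsp, htp⟩ := exists_decomp p n (orderOf_pos n)
    have htN : t ∈ Subgroup.normalizer (R : Set G) :=
      (Subgroup.zpowers_le.mpr hfn) ht
    have htL : t ∈ L := hLel t htN htp
    have hs1 : s ≠ 1 := by
      intro h
      apply hnL
      rw [hnst, h, one_mul]; exact htL
    have hsa : s * a = a * s := by
      obtain ⟨i, rfl⟩ := Subgroup.mem_zpowers_iff.mp hs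
      exact ((show Commute n a from hna).zpow_left i).eq
    exact hPQ s a hs1 hsp ha1 (hLord a ha) hsa

/-- A nilpotent subgroup of odd order acting without fixed points on a nontrivial normal subgroup
is cyclic. -/
theorem cyclic_of_odd_nilpotent_fpf (K : Subgroup G) [K.Normal] (hK : K ≠ ⊥) (L : Subgroup G)
    (hLnil : Group.IsNilpotent L) (hLodd : Odd (Nat.card L))
    (hfpf : ∀ h ∈ L, h ≠ 1 → K ⊓ Subgroup.centralizer {h} = ⊥) : IsCyclic L := by
  haveI := hLnil
  haveI : IsZGroup L := by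
    refine ⟨fun r hr S => ?_⟩
    haveI : Fact r.Prime := ⟨hr⟩
    have hS'p : IsPGroup r ((S : Subgroup L).map L.subtype) := S.2.map _
    have hS'L : (S : Subgroup L).map L.subtype ≤ L := Subgroup.map_subtype_le _
    have hu := uop_of_fpf K hK r _ hS'p (fun h hh hh1 => hfpf h (hS'L hh) hh1)
    have hcq := cyclic_or_quaternion r hS'p hu
    have e : (S : Subgroup L) ≃* ((S : Subgroup L).map L.subtype) :=
      (S : Subgroup L).equivMapOfInjective L.subtype L.subtype_injective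
    rcases hcq with hc | ⟨h2, -⟩
    · haveI := hc
      exact isCyclic_of_surjective e.symm e.symm.surjective
    · have hS1 : Nat.card (S : Subgroup L) = 1 := by
        obtain ⟨n, hn⟩ := S.2.exists_card_eq
        rcases Nat.eq_zero_or_pos n with h0 | h0
        · rw [hn, h0, pow_zero]
        · exfalso
          have h3 : 2 ∣ Nat.card (S : Subgroup L) := by
            rw [hn, h2]; exact dvd_pow_self 2 h0.ne'
          have h4 : 2 ∣ Nat.card L := h3.trans (Subgroup.card_subgroup_dvd_card _)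
          rw [← even_iff_two_dvd, ← Nat.not_odd_iff_even] at h4
          exact h4 hLodd
      haveI : Subsingleton (S : Subgroup L) := (Nat.card_eq_one_iff_unique.mp hS1).1
      exact isCyclic_of_subsingleton
  infer_instance

/-- Case B: no nontrivial normal Sylow subgroup. -/
theorem threeStep_of_no_normal_sylow [Group.IsSolvable G] (hCN : IsCNGroup G)
    (hnn : ¬ Group.IsNilpotent G)
    (hns : ∀ (q : ℕ) [Fact q.Prime] (Q : Sylow q G), (Q : Subgroup G).Normal →
      (Q : Subgroup G) = ⊥) :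
    ∃ p : ℕ, p.Prime ∧ IsThreeStepGroup p G := by
  haveI : Nontrivial G := by
    by_contra hnt
    rw [not_nontrivial_iff_subsingleton] at hnt
    exact hnn inferInstance
  obtain ⟨p, V, hp, hVn, hV1, hVp, -⟩ :=
    Cfsg.Agent.Lib.Helper3.exists_normal_abelian_pgroup G inferInstance
  haveI : Fact p.Prime := ⟨hp⟩
  have hVF : V ≤ pCore p G := Cfsg.Agent.Lib.Helper1.le_pCore hVn hVp
  have hF1 : pCore p G ≠ ⊥ := fun h => hV1 (eq_bot_iff.mpr (h ▸ hVF))
  have hother : ∀ (q : ℕ) [Fact q.Prime], p ≠ q → pCore q G = ⊥ :=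
    fun q _ hpq => pCore_other_eq_bot hCN hns p q hpq hF1
  have hCF := centralizer_pCore_le' hCN p hF1 hother
  have hFtop : pCore p G ≠ ⊤ := by
    intro h
    apply hnn
    have hGp : IsPGroup p G := by
      intro g
      obtain ⟨k, hk⟩ := (Cfsg.Agent.Lib.Helper1.pCore_isPGroup p (G := G)) ⟨g, by rw [h]; trivial⟩
      exact ⟨k, congrArg Subtype.val hk⟩
    exact hGp.isNilpotent
  obtain ⟨R, hR1, hRc, hRp, hFR, hfrat⟩ := exists_cyclic_frattini hCN p hF1 hCF hFtop
  exact ⟨p, hp, threeStep_of_frattini hCN p hF1 hCF (fun P hP => hns p P hP) R hR1 hRc hRp hFR hfrat⟩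

end Cfsg.Agent.Lib.Lead.CNSolv
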