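import Mathlib
import Cfsg.Agent.Lib.Helper6.Schur

set_option autoImplicit false

/-! Schur orthogonality for matrix coefficients (coordinate-free, trace form). -/

namespace Cfsg.Agent.Lib.Lead.SchurOrth

open Module TensorProduct Cfsg.Agent.Lib.Helper6

variable {G : Type*} [Group G] [Fintype G]
variable {V : Type*} [AddCommGroup V] [Module ℂ V] [FiniteDimensional ℂ V]
variable {W : Type*} [AddCommGroup W] [Module ℂ W] [FiniteDimensional ℂ W]

omit [FiniteDimensional ℂ V] in
theorem comp_dth (L : W →ₗ[ℂ] W) (f : Dual ℂ V) (w : W) :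
    L ∘ₗ dualTensorHom ℂ V W (f ⊗ₜ w) = dualTensorHom ℂ V W (f ⊗ₜ (L w)) := by
  ext x
  simp [dualTensorHom_apply]

theorem trace_comp_dth (L : V →ₗ[ℂ] V) (f : Dual ℂ V) (v : V) :
    LinearMap.trace ℂ V (L ∘ₗ dualTensorHom ℂ V V (f ⊗ₜ v)) = f (L v) := by
  rw [comp_dth, LinearMap.trace_eq_contract_apply, contractLeft_apply]

theorem trace_dth (f : Dual ℂ V) (v : V) :
    LinearMap.trace ℂ V (dualTensorHom ℂ V V (f ⊗ₜ v)) = f v := by
  rw [LinearMap.trace_eq_contract_apply, contractLeft_apply]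

/-- the averaging intertwiner attached to a rank one map. -/
noncomputable def avg (ρ : Representation ℂ G V) (σ : Representation ℂ G W) (f : Dual ℂ V) (w : W) :
    V →ₗ[ℂ] W :=
  ∑ g : G, σ g⁻¹ ∘ₗ dualTensorHom ℂ V W (f ⊗ₜ w) ∘ₗ ρ g

omit [FiniteDimensional ℂ V] [FiniteDimensional ℂ W] in
theorem avg_apply (ρ : Representation ℂ G V) (σ : Representation ℂ G W) (f : Dual ℂ V) (w : W)
    (x : V) : avg ρ σ f w x = ∑ g : G, f (ρ g x) • σ g⁻¹ w := by
  unfold avg
  rw [LinearMap.sum_apply]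
  apply Finset.sum_congr rfl
  intro g _
  simp [dualTensorHom_apply]

omit [FiniteDimensional ℂ V] [FiniteDimensional ℂ W] in
theorem avg_comm (ρ : Representation ℂ G V) (σ : Representation ℂ G W) (f : Dual ℂ V) (w : W)
    (h : G) : avg ρ σ f w ∘ₗ ρ h = σ h ∘ₗ avg ρ σ f w := by
  ext x
  simp only [LinearMap.comp_apply, avg_apply, map_sum, map_smul]
  refine Fintype.sum_equiv (Equiv.mulRight h) _ _ ?_
  intro g
  simp only [Equiv.coe_mulRight]
  have h1 : ρ g (ρ h x) = ρ (g * h) x := by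
    rw [map_mul]; rfl
  have h2 : σ h (σ (g * h)⁻¹ w) = σ g⁻¹ w := by
    rw [← Module.End.mul_apply, ← map_mul]
    congr 2
    group
  rw [h1, h2]

omit [FiniteDimensional ℂ V] [FiniteDimensional ℂ W] in
theorem sum_pure (ρ : Representation ℂ G V) (σ : Representation ℂ G W) (f : Dual ℂ V) (v : V)
    (θ : Dual ℂ W) (w : W) :
    ∑ g : G, f (ρ g v) * θ (σ g⁻¹ w) = θ (avg ρ σ f w v) := by
  rw [avg_apply, map_sum]
  apply Finset.sum_congr rfl
  intro g _
  rw [map_smul, smul_eq_mul]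

theorem trace_avg (ρ : Representation ℂ G V) (f : Dual ℂ V) (w : V) :
    LinearMap.trace ℂ V (avg ρ ρ f w) = (Fintype.card G : ℂ) * f w := by
  unfold avg
  rw [map_sum]
  have : ∀ g : G, LinearMap.trace ℂ V (ρ g⁻¹ ∘ₗ dualTensorHom ℂ V V (f ⊗ₜ w) ∘ₗ ρ g) = f w := by
    intro g
    have h1 : ρ g⁻¹ ∘ₗ dualTensorHom ℂ V V (f ⊗ₜ w) ∘ₗ ρ g
        = (ρ g⁻¹ ∘ₗ dualTensorHom ℂ V V (f ⊗ₜ w)) * ρ g := rfl
    rw [h1, LinearMap.trace_mul_comm]
    have h2 : ρ g * (ρ g⁻¹ ∘ₗ dualTensorHom ℂ V V (f ⊗ₜ w))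
        = (ρ g * ρ g⁻¹) ∘ₗ dualTensorHom ℂ V V (f ⊗ₜ w) := rfl
    rw [h2, ← map_mul, mul_inv_cancel, map_one]
    exact trace_dth f w
  simp [this]

/-- pure tensor case, same irreducible representation. -/
theorem sum_pure_irr (ρ : Representation ℂ G V) [ρ.IsIrreducible] (f : Dual ℂ V) (v : V)
    (θ : Dual ℂ V) (w : V) :
    ∑ g : G, f (ρ g v) * θ (ρ g⁻¹ w)
      = (Fintype.card G : ℂ) / (finrank ℂ V : ℂ) * (f w * θ v) := by
  rw [sum_pure]
  have h := eq_trace_div_smul_id_of_comm ρ (avg ρ ρ f w) (avg_comm ρ ρ f w)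
  rw [h, trace_avg]
  simp only [LinearMap.smul_apply, LinearMap.id_apply, map_smul, smul_eq_mul]
  ring

/-- Schur orthogonality, trace form: same irreducible representation. -/
theorem sum_trace_mul_trace (ρ : Representation ℂ G V) [ρ.IsIrreducible] (A B : V →ₗ[ℂ] V) :
    ∑ g : G, LinearMap.trace ℂ V (ρ g ∘ₗ A) * LinearMap.trace ℂ V (ρ g⁻¹ ∘ₗ B)
      = (Fintype.card G : ℂ) / (finrank ℂ V : ℂ) * LinearMap.trace ℂ V (A ∘ₗ B) := by
  obtain ⟨x, rfl⟩ := (dualTensorHom_bijective (R := ℂ) (M := V) (N := V)).2 A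
  obtain ⟨y, rfl⟩ := (dualTensorHom_bijective (R := ℂ) (M := V) (N := V)).2 B
  induction x using TensorProduct.induction_on with
  | zero => simp
  | add x₁ x₂ h₁ h₂ =>
    simp only [map_add, LinearMap.comp_add, LinearMap.add_comp, add_mul, Finset.sum_add_distrib,
      h₁, h₂, mul_add]
  | tmul f v =>
    induction y using TensorProduct.induction_on with
    | zero => simp
    | add y₁ y₂ h₁ h₂ =>
      simp only [map_add, LinearMap.comp_add, mul_add, Finset.sum_add_distrib, h₁, h₂]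
    | tmul θ w =>
      simp only [trace_comp_dth]
      rw [sum_pure_irr]
      simp [dualTensorHom_apply]

/-- Schur orthogonality, trace form: irreducible representations with different characters. -/
theorem sum_trace_mul_trace_ne (ρ : Representation ℂ G V) (σ : Representation ℂ G W)
    [ρ.IsIrreducible] [σ.IsIrreducible] (hne : ρ.character ≠ σ.character)
    (A : V →ₗ[ℂ] V) (B : W →ₗ[ℂ] W) :
    ∑ g : G, LinearMap.trace ℂ V (ρ g ∘ₗ A) * LinearMap.trace ℂ W (σ g⁻¹ ∘ₗ B) = 0 := by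
  have hzero : ∀ (f : Dual ℂ V) (w : W), avg ρ σ f w = 0 := by
    intro f w
    let T : Representation.IntertwiningMap ρ σ :=
      { toLinearMap := avg ρ σ f w
        isIntertwining' := fun g => avg_comm ρ σ f w g }
    rcases Representation.IsIrreducible.bijective_or_eq_zero T with hb | h0
    · exfalso
      apply hne
      let e : V ≃ₗ[ℂ] W := LinearEquiv.ofBijective (avg ρ σ f w) hb
      have he : ∀ g, (e : V →ₗ[ℂ] W) ∘ₗ ρ g = σ g ∘ₗ (e : V →ₗ[ℂ] W) := fun g => avg_comm ρ σ f w g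
      exact Representation.char_iso (Representation.Equiv.mk e he)
    · have := congrArg Representation.IntertwiningMap.toLinearMap h0
      exact this
  obtain ⟨x, rfl⟩ := (dualTensorHom_bijective (R := ℂ) (M := V) (N := V)).2 A
  obtain ⟨y, rfl⟩ := (dualTensorHom_bijective (R := ℂ) (M := W) (N := W)).2 B
  induction x using TensorProduct.induction_on with
  | zero => simp
  | add x₁ x₂ h₁ h₂ =>
    simp only [map_add, LinearMap.comp_add, add_mul, Finset.sum_add_distrib, h₁, h₂, add_zero]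
  | tmul f v =>
    induction y using TensorProduct.induction_on with
    | zero => simp
    | add y₁ y₂ h₁ h₂ =>
      simp only [map_add, LinearMap.comp_add, mul_add, Finset.sum_add_distrib, h₁, h₂, add_zero]
    | tmul θ w =>
      simp only [trace_comp_dth]
      rw [sum_pure, hzero]
      simp

end Cfsg.Agent.Lib.Lead.SchurOrth
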