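import Mathlib

set_option autoImplicit false

/-! Combinatorics of integer vectors indexed by `ZMod p` and finite Fourier analysis. -/

namespace Cfsg.Agent.Lib.Lead.GlaubComb

open scoped ComplexConjugate

variable {p : ℕ} [Fact p.Prime]

/-- the defect `p Σ aᵢ² − (Σ aᵢ)²`. -/
def dfc (a : ZMod p → ℤ) : ℤ := (p : ℤ) * ∑ i, a i ^ 2 - (∑ i, a i) ^ 2

theorem two_dfc (a : ZMod p → ℤ) : 2 * dfc a = ∑ i, ∑ j, (a i - a j) ^ 2 := by
  unfold dfc
  have h1 : ∀ i, ∑ j, (a i - a j) ^ 2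
      = (p : ℤ) * a i ^ 2 - 2 * a i * (∑ j, a j) + ∑ j, a j ^ 2 := by
    intro i
    simp only [sub_sq, Finset.sum_add_distrib, Finset.sum_sub_distrib, Finset.sum_const,
      Finset.card_univ, ZMod.card, nsmul_eq_mul, ← Finset.mul_sum]
  simp only [h1, Finset.sum_add_distrib, Finset.sum_sub_distrib, Finset.sum_const,
    Finset.card_univ, ZMod.card, nsmul_eq_mul, ← Finset.mul_sum, ← Finset.sum_mul]
  ring

theorem dfc_nonneg (a : ZMod p → ℤ) : 0 ≤ dfc a := by
  have h := two_dfc a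
  have h2 : 0 ≤ ∑ i, ∑ j, (a i - a j) ^ 2 :=
    Finset.sum_nonneg (fun i _ => Finset.sum_nonneg (fun j _ => sq_nonneg _))
  omega

theorem dfc_const (a : ZMod p → ℤ) (h : ∀ i j, a i = a j) :
    dfc a = 0 ∧ (p : ℤ) ∣ ∑ i, a i := by
  have h1 : ∀ i, a i = a 0 := fun i => h i 0
  constructor
  · unfold dfc
    simp only [h1, Finset.sum_const, Finset.card_univ, ZMod.card, nsmul_eq_mul]
    ring
  · simp only [h1, Finset.sum_const, Finset.card_univ, ZMod.card, nsmul_eq_mul]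
    exact dvd_mul_right _ _

theorem dfc_ge (a : ZMod p → ℤ) (h : ∃ i j, a i ≠ a j) : (p : ℤ) - 1 ≤ dfc a := by
  obtain ⟨i1, i2, hne⟩ := h
  have hi12 : i1 ≠ i2 := by
    rintro rfl; exact hne rfl
  set R : ZMod p → ℤ := fun i => ∑ j, (a i - a j) ^ 2 with hR
  have hR1 : ∀ i, 1 ≤ R i := by
    intro i
    have hnn : ∀ j ∈ Finset.univ, 0 ≤ (a i - a j) ^ 2 := fun j _ => sq_nonneg _
    by_cases hi : a i = a i1
    · have : (a i - a i2) ^ 2 ≤ R i := Finset.single_le_sum hnn (Finset.mem_univ i2)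
      have h0 : a i - a i2 ≠ 0 := by
        rw [hi]; exact sub_ne_zero.2 hne
      have : 1 ≤ (a i - a i2) ^ 2 := by
        have := sq_nonneg (a i - a i2)
        have h3 : (a i - a i2) ^ 2 ≠ 0 := pow_ne_zero 2 h0
        omega
      linarith
    · have : (a i - a i1) ^ 2 ≤ R i := Finset.single_le_sum hnn (Finset.mem_univ i1)
      have h0 : a i - a i1 ≠ 0 := sub_ne_zero.2 hi
      have : 1 ≤ (a i - a i1) ^ 2 := by
        have := sq_nonneg (a i - a i1)
        have h3 : (a i - a i1) ^ 2 ≠ 0 := pow_ne_zero 2 h0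
        omega
      linarith
  have hR12 : (p : ℤ) ≤ R i1 + R i2 := by
    have h1 : R i1 + R i2 = ∑ j, ((a i1 - a j) ^ 2 + (a i2 - a j) ^ 2) := by
      simp only [hR, Finset.sum_add_distrib]
    rw [h1]
    have h2 : ∀ j ∈ (Finset.univ : Finset (ZMod p)),
        (1 : ℤ) ≤ (a i1 - a j) ^ 2 + (a i2 - a j) ^ 2 := by
      intro j _
      by_cases hj : a i1 = a j
      · have h0 : a i2 - a j ≠ 0 := by
          rw [← hj]; exact sub_ne_zero.2 (Ne.symm hne)
        have h3 : (a i2 - a j) ^ 2 ≠ 0 := pow_ne_zero 2 h0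
        have := sq_nonneg (a i2 - a j)
        have := sq_nonneg (a i1 - a j)
        omega
      · have h0 : a i1 - a j ≠ 0 := sub_ne_zero.2 hj
        have h3 : (a i1 - a j) ^ 2 ≠ 0 := pow_ne_zero 2 h0
        have := sq_nonneg (a i2 - a j)
        have := sq_nonneg (a i1 - a j)
        omega
    have h3 := Finset.sum_le_sum h2
    simp only [Finset.sum_const, Finset.card_univ, ZMod.card, nsmul_eq_mul, mul_one] at h3
    exact h3
  have hsub : ∑ i ∈ ({i1, i2} : Finset (ZMod p)), (R i - 1) ≤ ∑ i, (R i - 1) := by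
    apply Finset.sum_le_sum_of_subset_of_nonneg (Finset.subset_univ _)
    intro i _ _
    have := hR1 i
    omega
  rw [Finset.sum_pair hi12, Finset.sum_sub_distrib] at hsub
  simp only [Finset.sum_const, Finset.card_univ, ZMod.card, nsmul_eq_mul, mul_one] at hsub
  have h2 := two_dfc a
  have h3 : ∑ i, ∑ j, (a i - a j) ^ 2 = ∑ i, R i := rfl
  rw [h3] at h2
  omega

/-- exactly one member of a family is non constant when the defects sum to `p - 1`. -/
theorem exists_unique_nonconst {B : Type*} [Fintype B] (a : B → ZMod p → ℤ)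
    (h : ∑ β, dfc (a β) = (p : ℤ) - 1) :
    ∃ β0, dfc (a β0) = (p : ℤ) - 1 ∧ ∀ β, β ≠ β0 → ∀ i j, a β i = a β j := by
  classical
  have hp2 : (2 : ℤ) ≤ p := by exact_mod_cast (Fact.out : p.Prime).two_le
  have hex : ∃ β0, ∃ i j, a β0 i ≠ a β0 j := by
    by_contra hcon
    push Not at hcon
    have : ∑ β, dfc (a β) = 0 := by
      apply Finset.sum_eq_zero
      intro β _
      exact (dfc_const (a β) (hcon β)).1
    omega
  obtain ⟨β0, hβ0⟩ := hex
  have h1 := dfc_ge (a β0) hβ0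
  have h2 : ∑ β, dfc (a β) = dfc (a β0) + ∑ β ∈ Finset.univ.erase β0, dfc (a β) :=
    (Finset.add_sum_erase _ _ (Finset.mem_univ β0)).symm
  have h3 : 0 ≤ ∑ β ∈ Finset.univ.erase β0, dfc (a β) :=
    Finset.sum_nonneg (fun β _ => dfc_nonneg _)
  have h4 : dfc (a β0) = (p : ℤ) - 1 := by omega
  have h5 : ∑ β ∈ Finset.univ.erase β0, dfc (a β) = 0 := by omega
  refine ⟨β0, h4, ?_⟩
  intro β hβ
  by_contra hcon
  push Not at hcon
  have h6 := dfc_ge (a β) hcon
  have h7 : dfc (a β) ≤ ∑ β ∈ Finset.univ.erase β0, dfc (a β) :=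
    Finset.single_le_sum (fun β _ => dfc_nonneg (a β))
      (Finset.mem_erase.2 ⟨hβ, Finset.mem_univ β⟩)
  omega

theorem sum_modEq_of_dfc (a : ZMod p → ℤ) (h : dfc a = (p : ℤ) - 1) :
    (∑ i, a i) ≡ 1 [ZMOD p] ∨ (∑ i, a i) ≡ -1 [ZMOD p] := by
  unfold dfc at h
  set S := ∑ i, a i
  set Q := ∑ i, a i ^ 2
  have h1 : (p : ℤ) ∣ (S - 1) * (S + 1) := by
    refine ⟨Q - 1, ?_⟩
    linear_combination -h
  have hp : Prime (p : ℤ) := Nat.prime_iff_prime_int.1 Fact.out
  rcases hp.dvd_or_dvd h1 with h2 | h2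
  · left
    exact (Int.modEq_iff_dvd.2 h2).symm
  · right
    apply Int.ModEq.symm
    rw [Int.modEq_iff_dvd]
    simpa using h2

/-- the standard character `e(x)` on `ZMod p`. -/
noncomputable def e (x : ZMod p) : ℂ := ZMod.stdAddChar x

theorem e_add (x y : ZMod p) : e (x + y) = e x * e y := AddChar.map_add_eq_mul _ x y

theorem e_zero : e (0 : ZMod p) = 1 := AddChar.map_zero_eq_one _

theorem e_neg (x : ZMod p) : e (-x) = conj (e x) := AddChar.map_neg_eq_conj _ x

theorem sum_e_mul (b : ZMod p) : ∑ x : ZMod p, e (x * b) = if b = 0 then (p : ℂ) else 0 := by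
  have h := AddChar.sum_mulShift b (ZMod.isPrimitive_stdAddChar p)
  unfold e
  rw [h]
  split_ifs <;> simp [ZMod.card]

theorem sum_e_mul' (b : ZMod p) : ∑ x : ZMod p, e (b * x) = if b = 0 then (p : ℂ) else 0 := by
  simp only [mul_comm b]
  exact sum_e_mul b

/-- Fourier inversion. -/
theorem fourier_inv (z : ZMod p → ℂ) (a : ZMod p → ℂ)
    (ha : ∀ i, a i = (p : ℂ)⁻¹ * ∑ j, conj (e (i * j)) * z j) (k : ZMod p) :
    z k = ∑ i, a i * e (i * k) := by
  have hp0 : (p : ℂ) ≠ 0 := by exact_mod_cast (Fact.out : p.Prime).ne_zero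
  simp only [ha, Finset.mul_sum, Finset.sum_mul]
  rw [Finset.sum_comm]
  have h1 : ∀ j, ∑ i, (p : ℂ)⁻¹ * (conj (e (i * j)) * z j) * e (i * k)
      = (p : ℂ)⁻¹ * z j * ∑ i, e (i * (k - j)) := by
    intro j
    rw [Finset.mul_sum]
    apply Finset.sum_congr rfl
    intro i _
    rw [← e_neg, mul_sub, sub_eq_add_neg, e_add]
    ring
  simp only [h1, sum_e_mul]
  rw [Finset.sum_eq_single k]
  · simp only [sub_self, if_true]
    field_simp
  · intro j _ hj
    rw [if_neg (sub_ne_zero.2 (Ne.symm hj))]; simp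
  · intro h; exact absurd (Finset.mem_univ k) h

/-- Parseval for integer coefficient vectors. -/
theorem parseval (a : ZMod p → ℤ) :
    ∑ k : ZMod p, (∑ i, (a i : ℂ) * e (i * k)) * conj (∑ i, (a i : ℂ) * e (i * k))
      = (p : ℂ) * ∑ i, (a i : ℂ) ^ 2 := by
  simp only [map_sum, map_mul, Finset.sum_mul_sum, map_intCast]
  rw [Finset.sum_comm]
  have h1 : ∀ i, ∑ k, ∑ i', (a i : ℂ) * e (i * k) * ((a i' : ℂ) * conj (e (i' * k)))
      = (p : ℂ) * (a i : ℂ) ^ 2 := by
    intro i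
    rw [Finset.sum_comm]
    have h2 : ∀ i', ∑ k, (a i : ℂ) * e (i * k) * ((a i' : ℂ) * conj (e (i' * k)))
        = (a i : ℂ) * (a i' : ℂ) * ∑ k, e ((i - i') * k) := by
      intro i'
      rw [Finset.mul_sum]
      apply Finset.sum_congr rfl
      intro k _
      rw [← e_neg, sub_mul, sub_eq_add_neg, e_add]
      ring
    simp only [h2, sum_e_mul']
    rw [Finset.sum_eq_single i]
    · simp; ring
    · intro j _ hj
      rw [if_neg (sub_ne_zero.2 (Ne.symm hj))]; simp
    · intro h; exact absurd (Finset.mem_univ i) h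
  simp only [h1, Finset.mul_sum]

end Cfsg.Agent.Lib.Lead.GlaubComb
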