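import Mathlib

set_option autoImplicit false

/-! Twisted conjugacy classes for an automorphism of prime order `p` of a `p'`-group. -/

namespace Cfsg.Agent.Lib.Lead.GlaubTwist

variable {G : Type*} [Group G]

/-- fixed point subgroup of an automorphism. -/
def fixSub (α : MulAut G) : Subgroup G where
  carrier := {g | α g = g}
  one_mem' := map_one α
  mul_mem' := by
    intro a b ha hb
    simp only [Set.mem_setOf_eq] at *
    rw [map_mul, ha, hb]
  inv_mem' := by
    intro a ha
    simp only [Set.mem_setOf_eq] at *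
    rw [map_inv, ha]

theorem mem_fixSub {α : MulAut G} {g : G} : g ∈ fixSub α ↔ α g = g := Iff.rfl

theorem pow_fix (α : MulAut G) {c : G} (hc : α c = c) (j : ℕ) : (α ^ j) c = c := by
  induction j with
  | zero => simp
  | succ j ih => rw [pow_succ, MulAut.mul_apply, hc, ih]

theorem zpow_fix (α : MulAut G) {c : G} (hc : α c = c) (j : ℤ) : (α ^ j) c = c := by
  have hinv : α⁻¹ c = c := by
    have : α⁻¹ (α c) = c := by
      rw [← MulAut.mul_apply, inv_mul_cancel, MulAut.one_apply]
    rwa [hc] at this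
  cases j with
  | ofNat n => simpa using pow_fix α hc n
  | negSucc n =>
    rw [zpow_negSucc, ← inv_pow]
    exact pow_fix α⁻¹ hinv (n + 1)

/-- if `α ^ p = 1`, `n` prime to `p` and `α ^ n` fixes `h` then `α` fixes `h`. -/
theorem fix_of_pow_fix (α : MulAut G) {p n : ℕ} (hαp : α ^ p = 1) (hnp : Nat.Coprime n p)
    {h : G} (hh : (α ^ n) h = h) : α h = h := by
  have hb := Int.gcd_eq_gcd_ab (n : ℤ) (p : ℤ)
  have hg : Int.gcd (n : ℤ) (p : ℤ) = 1 := by
    rw [Int.gcd_natCast_natCast]; exact hnp
  rw [hg] at hb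
  have h1 : α = (α ^ n) ^ (Int.gcdA n p) * (α ^ p) ^ (Int.gcdB n p) := by
    rw [← zpow_natCast α n, ← zpow_natCast α p, ← zpow_mul, ← zpow_mul, ← zpow_add]
    rw [← hb]
    simp
  rw [hαp, one_zpow, mul_one] at h1
  rw [h1]
  exact zpow_fix (α ^ n) hh _

theorem twist_pow (α : MulAut G) {c c' h : G} (hc : α c = c) (hc' : α c' = c')
    (hh : h * c = c' * α h) (j : ℕ) : h * c ^ j = c' ^ j * (α ^ j) h := by
  induction j with
  | zero => simp
  | succ j ih =>
    have h1 : (α ^ j) h * c = c' * (α ^ (j + 1)) h := by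
      have := congrArg (α ^ j) hh
      rw [map_mul, map_mul, pow_fix α hc, pow_fix α hc'] at this
      rw [this, pow_succ, MulAut.mul_apply]
    rw [pow_succ, ← mul_assoc, ih, mul_assoc, h1, ← mul_assoc, ← pow_succ]

variable [Fintype G]

theorem fix_of_twist (α : MulAut G) {p : ℕ} (hp : p.Prime) (hαp : α ^ p = 1)
    (hpG : ¬ p ∣ Fintype.card G) {c c' h : G} (hc : α c = c) (hc' : α c' = c')
    (hh : h * c = c' * α h) : α h = h := by
  have h1 := twist_pow α hc hc' hh (Fintype.card G)
  rw [pow_card_eq_one, pow_card_eq_one, mul_one, one_mul] at h1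
  have hcop : Nat.Coprime (Fintype.card G) p :=
    (Nat.Coprime.symm ((Nat.Prime.coprime_iff_not_dvd hp).2 hpG))
  exact fix_of_pow_fix α hαp hcop h1.symm

/-- the twisted conjugation map. -/
def twMap (α : MulAut G) (x : G × fixSub α) : G := x.1 * (x.2 : G) * (α x.1)⁻¹

open Classical in
theorem card_fiber_le (α : MulAut G) {p : ℕ} (hp : p.Prime) (hαp : α ^ p = 1)
    (hpG : ¬ p ∣ Fintype.card G) (y : G) :
    (Finset.univ.filter (fun x : G × fixSub α => twMap α x = y)).card
      ≤ Fintype.card (fixSub α) := by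
  by_cases hne : (Finset.univ.filter (fun x : G × fixSub α => twMap α x = y)).Nonempty
  · obtain ⟨x0, hx0⟩ := hne
    rw [Finset.mem_filter] at hx0
    have hx0' := hx0.2
    have key : ∀ x : G × fixSub α, twMap α x = y → α (x0.1⁻¹ * x.1) = x0.1⁻¹ * x.1 := by
      intro x hx
      have hc : α (x.2 : G) = x.2 := x.2.2
      have hc0 : α (x0.2 : G) = x0.2 := x0.2.2
      apply fix_of_twist α hp hαp hpG hc hc0
      have e : x.1 * (x.2 : G) * (α x.1)⁻¹ = x0.1 * (x0.2 : G) * (α x0.1)⁻¹ := by
        have := hx.trans hx0'.symm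
        exact this
      have e2 : x.1 * (x.2 : G) = x0.1 * (x0.2 : G) * (α x0.1)⁻¹ * α x.1 := by
        rw [← e]; group
      rw [map_mul, map_inv, mul_assoc, e2]
      group
    rw [← Finset.card_univ]
    apply Finset.card_le_card_of_injOn
      (fun x => if h : twMap α x = y then (⟨x0.1⁻¹ * x.1, key x h⟩ : fixSub α) else 1)
    · intro x _; exact Finset.mem_univ _
    · intro x hx x' hx' hxx'
      have hx1 : twMap α x = y := (Finset.mem_filter.1 hx).2
      have hx1' : twMap α x' = y := (Finset.mem_filter.1 hx').2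
      simp only [dif_pos hx1, dif_pos hx1'] at hxx'
      have e1 : x0.1⁻¹ * x.1 = x0.1⁻¹ * x'.1 := congrArg Subtype.val hxx'
      have e2 : x.1 = x'.1 := mul_left_cancel e1
      have e3 : (x.2 : G) = x'.2 := by
        have h3 := hx1.trans hx1'.symm
        unfold twMap at h3
        rw [e2] at h3
        exact mul_left_cancel (mul_right_cancel h3)
      exact Prod.ext e2 (Subtype.ext e3)
  · rw [Finset.not_nonempty_iff_eq_empty] at hne
    rw [hne]; simp


open Classical in
theorem card_fiber_eq (α : MulAut G) {p : ℕ} (hp : p.Prime) (hαp : α ^ p = 1)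
    (hpG : ¬ p ∣ Fintype.card G) (y : G) :
    (Finset.univ.filter (fun x : G × fixSub α => twMap α x = y)).card
      = Fintype.card (fixSub α) := by
  have htot : (Finset.univ : Finset (G × fixSub α)).card
      = ∑ y : G, (Finset.univ.filter (fun x : G × fixSub α => twMap α x = y)).card :=
    Finset.card_eq_sum_card_fiberwise (fun x _ => Finset.mem_univ _)
  have h2 : ∑ y : G, (Finset.univ.filter (fun x : G × fixSub α => twMap α x = y)).card
      = ∑ _y : G, Fintype.card (fixSub α) := by
    rw [← htot, Finset.card_univ, Fintype.card_prod]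
    simp
  exact (Finset.sum_eq_sum_iff_of_le (fun y _ => card_fiber_le α hp hαp hpG y)).1 h2 y
    (Finset.mem_univ y)

open Classical in
/-- every element is twisted-conjugate to a fixed element. -/
theorem exists_twist (α : MulAut G) {p : ℕ} (hp : p.Prime) (hαp : α ^ p = 1)
    (hpG : ¬ p ∣ Fintype.card G) (y : G) :
    ∃ h c : G, α c = c ∧ h * c * (α h)⁻¹ = y := by
  have h := card_fiber_eq α hp hαp hpG y
  have hpos : 0 < (Finset.univ.filter (fun x : G × fixSub α => twMap α x = y)).card := by
    rw [h]; exact Fintype.card_pos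
  obtain ⟨x, hx⟩ := Finset.card_pos.1 hpos
  exact ⟨x.1, x.2, x.2.2, (Finset.mem_filter.1 hx).2⟩

open Classical in
/-- the sum formula. -/
theorem sum_formula (α : MulAut G) {p : ℕ} (hp : p.Prime) (hαp : α ^ p = 1)
    (hpG : ¬ p ∣ Fintype.card G) (F : G → ℂ)
    (hF : ∀ h g : G, F (h * g * (α h)⁻¹) = F g) :
    (Fintype.card (fixSub α) : ℂ) * ∑ g : G, F g
      = (Fintype.card G : ℂ) * ∑ c : fixSub α, F c := by
  have h1 : ∑ x : G × fixSub α, F (twMap α x)
      = ∑ y : G, ∑ x ∈ Finset.univ.filter (fun x : G × fixSub α => twMap α x = y), F y :=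
    (Finset.sum_fiberwise' Finset.univ (twMap α) F).symm
  have h2 : ∑ y : G, ∑ x ∈ Finset.univ.filter (fun x : G × fixSub α => twMap α x = y), F y
      = (Fintype.card (fixSub α) : ℂ) * ∑ g : G, F g := by
    rw [Finset.mul_sum]
    apply Finset.sum_congr rfl
    intro y _
    rw [Finset.sum_const, card_fiber_eq α hp hαp hpG y, nsmul_eq_mul]
  have h3 : ∑ x : G × fixSub α, F (twMap α x) = (Fintype.card G : ℂ) * ∑ c : fixSub α, F c := by
    rw [Fintype.sum_prod_type]
    have : ∀ h : G, ∑ c : fixSub α, F (twMap α (h, c)) = ∑ c : fixSub α, F c := by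
      intro h
      apply Finset.sum_congr rfl
      intro c _
      exact hF h c
    simp only [this, Finset.sum_const, Finset.card_univ, nsmul_eq_mul]
  rw [← h2, ← h1, h3]

end Cfsg.Agent.Lib.Lead.GlaubTwist
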