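import Mathlib
import Cfsg.Agent.Lib.Lead.SchurOrth
import Cfsg.Agent.Lib.Lead.GlaubTwist
import Cfsg.Agent.Lib.Helper6.EquivOfChar
import Cfsg.Agent.Lib.Helper6.FiniteOrder
import Cfsg.Agent.Lib.Helper6.Schur

set_option autoImplicit false

/-! Twisted characters attached to an invariant irreducible representation. -/

namespace Cfsg.Agent.Lib.Lead.GlaubRep

open Module Cfsg.Agent.Lib.Helper6 Cfsg.Agent.Lib.Lead.GlaubTwist
open scoped ComplexConjugate

variable {G : Type*} [Group G] [Fintype G]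
variable {V : Type*} [AddCommGroup V] [Module ℂ V] [FiniteDimensional ℂ V]

/-- `M` intertwines `ρ` with `ρ ∘ α` and has `p`-th power one. -/
structure IsDatum (ρ : Representation ℂ G V) (α : MulAut G) (p : ℕ) (M : V →ₗ[ℂ] V) : Prop where
  pow : M ^ p = 1
  comm : ∀ g : G, M * ρ g = ρ (α g) * M

/-- the twisted character. -/
noncomputable def tw (ρ : Representation ℂ G V) (M : V →ₗ[ℂ] V) (g : G) : ℂ :=
  LinearMap.trace ℂ V (ρ g * M)

omit [Fintype G] [FiniteDimensional ℂ V] in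
theorem IsDatum.comm_pow {ρ : Representation ℂ G V} {α : MulAut G} {p : ℕ} {M : V →ₗ[ℂ] V}
    (h : IsDatum ρ α p M) (j : ℕ) (g : G) : M ^ j * ρ g = ρ ((α ^ j) g) * M ^ j := by
  induction j generalizing g with
  | zero => simp
  | succ j ih =>
    rw [pow_succ, mul_assoc, h.comm, ← mul_assoc, ih, mul_assoc, pow_succ α, MulAut.mul_apply]

omit [Fintype G] [FiniteDimensional ℂ V] in
theorem IsDatum.pow_datum {ρ : Representation ℂ G V} {α : MulAut G} {p : ℕ} {M : V →ₗ[ℂ] V}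
    (h : IsDatum ρ α p M) (j : ℕ) : IsDatum ρ (α ^ j) p (M ^ j) where
  pow := by rw [← pow_mul, mul_comm, pow_mul, h.pow, one_pow]
  comm := h.comm_pow j

/-- existence of the datum for an invariant irreducible representation. -/
theorem exists_datum (ρ : Representation ℂ G V) [ρ.IsIrreducible] (α : MulAut G) {p : ℕ}
    (hp : 0 < p) (hαp : α ^ p = 1) (hinv : ∀ g, ρ.character (α g) = ρ.character g) :
    ∃ M : V →ₗ[ℂ] V, IsDatum ρ α p M := by
  have : Finite G := Finite.of_fintype G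
  let ρ' : Representation ℂ G V := ρ.comp α.toMonoidHom
  have hchar : ρ.character = ρ'.character := by
    funext g
    exact (hinv g).symm
  obtain ⟨E⟩ := equiv_of_character_eq ρ ρ' hchar
  let M0 : V →ₗ[ℂ] V := E.toLinearMap
  have hM0 : ∀ g, M0 * ρ g = ρ (α g) * M0 := fun g => E.isIntertwining' g
  have hM0j : ∀ (j : ℕ) (g : G), M0 ^ j * ρ g = ρ ((α ^ j) g) * M0 ^ j := by
    intro j
    induction j with
    | zero => intro g; simp
    | succ j ih =>
      intro g
      rw [pow_succ, mul_assoc, hM0, ← mul_assoc, ih, mul_assoc, pow_succ α, MulAut.mul_apply]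
  have hcomm : ∀ g : G, (M0 ^ p) ∘ₗ ρ g = ρ g ∘ₗ (M0 ^ p) := by
    intro g
    have := hM0j p g
    rw [hαp, MulAut.one_apply] at this
    exact this
  obtain ⟨c, hc⟩ := exists_smul_id_of_comm ρ (M0 ^ p) hcomm
  have hinj : Function.Injective M0 := E.toLinearEquiv.injective
  have hc0 : c ≠ 0 := by
    intro h0
    rw [h0, zero_smul] at hc
    have hV := nontrivial_of_isIrreducible ρ
    obtain ⟨v, hv⟩ := exists_ne (0 : V)
    have hinjp : Function.Injective (M0 ^ p) := by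
      rw [Module.End.coe_pow]
      exact Function.Injective.iterate hinj p
    apply hv
    apply hinjp
    rw [hc]; simp
  obtain ⟨μ, hμ⟩ := IsAlgClosed.exists_pow_nat_eq c hp
  have hμ0 : μ ≠ 0 := by
    intro h0
    rw [h0, zero_pow hp.ne'] at hμ
    exact hc0 hμ.symm
  refine ⟨μ⁻¹ • M0, ?_, ?_⟩
  · rw [smul_pow, hc, smul_smul, inv_pow, hμ, inv_mul_cancel₀ hc0, one_smul]
    rfl
  · intro g
    rw [smul_mul_assoc, hM0, mul_smul_comm]

omit [Fintype G] in
/-- twisted invariance. -/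
theorem tw_twist {ρ : Representation ℂ G V} {α : MulAut G} {p : ℕ} {M : V →ₗ[ℂ] V}
    (h : IsDatum ρ α p M) (x g : G) : tw ρ M (x * g * (α x)⁻¹) = tw ρ M g := by
  unfold tw
  have h1 : ρ ((α x)⁻¹) * M = M * ρ x⁻¹ := by
    rw [h.comm, map_inv α]
  have h2 : ρ (x * g * (α x)⁻¹) * M = ρ x * ((ρ g * M) * ρ x⁻¹) := by
    rw [map_mul, map_mul, mul_assoc, h1]
    simp only [mul_assoc]
  rw [h2, LinearMap.trace_mul_comm, mul_assoc, ← map_mul, inv_mul_cancel, map_one, mul_one]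

/-- the norm relation. -/
theorem trace_conj_of_pow_eq_one {X Y : V →ₗ[ℂ] V} {m : ℕ} (hm : 0 < m) (hX : X ^ m = 1)
    (hYX : Y * X = 1) : LinearMap.trace ℂ V Y = conj (LinearMap.trace ℂ V X) := by
  obtain ⟨ι, _, b, μ, h, hμ⟩ := exists_eigenbasis_of_pow_eq_one hm hX
  have hinv : ∀ i, Y (b i) = (μ i)⁻¹ • b i := by
    intro i
    have hμ0 : μ i ≠ 0 := by
      intro h0
      have := hμ i
      rw [h0, zero_pow hm.ne'] at this
      exact zero_ne_one this
    have h1 : Y (X (b i)) = b i := by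
      rw [← Module.End.mul_apply, hYX, Module.End.one_apply]
    rw [h i, map_smul] at h1
    exact (eq_inv_smul_iff₀ hμ0).mpr h1
  rw [trace_eq_sum_of_eigenbasis b μ _ h, trace_eq_sum_of_eigenbasis b _ _ hinv, map_sum]
  apply Finset.sum_congr rfl
  intro i _
  exact inv_eq_conj_of_pow_eq_one hm (hμ i)

/-- the norm element. -/
def nrm (α : MulAut G) (g : G) : ℕ → G
  | 0 => 1
  | j + 1 => nrm α g j * (α ^ j) g

omit [FiniteDimensional ℂ V] [Fintype G] in
theorem mul_pow_eq {ρ : Representation ℂ G V} {α : MulAut G} {p : ℕ} {M : V →ₗ[ℂ] V}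
    (h : IsDatum ρ α p M) (g : G) (j : ℕ) : (ρ g * M) ^ j = ρ (nrm α g j) * M ^ j := by
  induction j with
  | zero => simp [nrm]
  | succ j ih =>
    rw [pow_succ, ih, nrm, map_mul, mul_assoc, ← mul_assoc (M ^ j), h.comm_pow, pow_succ]
    simp only [mul_assoc]

omit [FiniteDimensional ℂ V] in
theorem mul_pow_card {ρ : Representation ℂ G V} {α : MulAut G} {p : ℕ} {M : V →ₗ[ℂ] V}
    (h : IsDatum ρ α p M) (g : G) : (ρ g * M) ^ (p * Fintype.card G) = 1 := by
  rw [pow_mul, mul_pow_eq h, h.pow, mul_one, ← map_pow, pow_card_eq_one, map_one]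

theorem conj_tw {ρ : Representation ℂ G V} {α : MulAut G} {p : ℕ} (hp : 0 < p) {M : V →ₗ[ℂ] V}
    (h : IsDatum ρ α p M) (g : G) :
    conj (tw ρ M g) = LinearMap.trace ℂ V (ρ g⁻¹ * M ^ (p - 1)) := by
  unfold tw
  have hYX : (M ^ (p - 1) * ρ g⁻¹) * (ρ g * M) = 1 := by
    rw [mul_assoc, ← mul_assoc (ρ g⁻¹), ← map_mul, inv_mul_cancel, map_one, one_mul,
      ← pow_succ, Nat.sub_add_cancel hp, h.pow]
  have := trace_conj_of_pow_eq_one (Nat.mul_pos hp Fintype.card_pos) (mul_pow_card h g) hYX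
  rw [← this, LinearMap.trace_mul_comm]

theorem sum_tw_norm {ρ : Representation ℂ G V} [ρ.IsIrreducible] {α : MulAut G} {p : ℕ}
    (hp : 0 < p) {M : V →ₗ[ℂ] V} (h : IsDatum ρ α p M) :
    ∑ g : G, tw ρ M g * conj (tw ρ M g) = (Fintype.card G : ℂ) := by
  simp only [conj_tw hp h]
  have := SchurOrth.sum_trace_mul_trace ρ M (M ^ (p - 1))
  have e : M ∘ₗ M ^ (p - 1) = 1 := by
    change M * M ^ (p - 1) = 1
    rw [← pow_succ', Nat.sub_add_cancel hp, h.pow]
  rw [e] at this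
  have hd : (finrank ℂ V : ℂ) ≠ 0 := by
    exact_mod_cast (finrank_pos_of_isIrreducible ρ).ne'
  have e1 : LinearMap.trace ℂ V (1 : V →ₗ[ℂ] V) = (finrank ℂ V : ℂ) := LinearMap.trace_one ℂ V
  rw [e1, div_mul_cancel₀ _ hd] at this
  exact this

theorem sum_tw_orth {W : Type*} [AddCommGroup W] [Module ℂ W] [FiniteDimensional ℂ W]
    {ρ : Representation ℂ G V} [ρ.IsIrreducible] {σ : Representation ℂ G W} [σ.IsIrreducible]
    (hne : ρ.character ≠ σ.character) {α : MulAut G} {p : ℕ}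
    (hp : 0 < p) {M : V →ₗ[ℂ] V} {M' : W →ₗ[ℂ] W} (h' : IsDatum σ α p M') :
    ∑ g : G, tw ρ M g * conj (tw σ M' g) = 0 := by
  simp only [conj_tw hp h']
  exact SchurOrth.sum_trace_mul_trace_ne ρ σ hne M (M' ^ (p - 1))

end Cfsg.Agent.Lib.Lead.GlaubRep
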