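import Mathlib
import Cfsg.Agent.Lib.Lead.GlaubRep1
import Cfsg.Agent.Lib.Lead.GlaubComb
import Cfsg.Agent.Lib.Helper6.ProdChar
import Cfsg.Agent.Lib.Helper6.ClassFun
import Cfsg.Agent.Lib.Helper6.Mult

set_option autoImplicit false

/-! The product representation of `K × ZMod p` and its multiplicities. -/

namespace Cfsg.Agent.Lib.Lead.GlaubRep

open Module Cfsg.Agent.Lib.Helper6 Cfsg.Agent.Lib.Lead.GlaubTwist Cfsg.Agent.Lib.Lead.GlaubComb
open scoped ComplexConjugate

variable {p : ℕ} [Fact p.Prime]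
variable {G : Type*} [Group G] [Fintype G] {K : Type*} [Group K] [Fintype K]
variable {V : Type*} [AddCommGroup V] [Module ℂ V] [FiniteDimensional ℂ V]

/-- the cyclic group of order `p`. -/
abbrev Zp (p : ℕ) := Multiplicative (ZMod p)

/-- the homomorphism `j ↦ M ^ j`. -/
noncomputable def zHom (M : V →ₗ[ℂ] V) (hM : M ^ p = 1) : Zp p →* (V →ₗ[ℂ] V) where
  toFun j := M ^ (Multiplicative.toAdd j).val
  map_one' := by simp
  map_mul' := by
    intro a b
    rw [← pow_add, toAdd_mul, ZMod.val_add, ← pow_eq_pow_mod _ hM]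

theorem zHom_apply (M : V →ₗ[ℂ] V) (hM : M ^ p = 1) (j : Zp p) :
    zHom M hM j = M ^ (Multiplicative.toAdd j).val := rfl

theorem comm_fix {ρ : Representation ℂ G V} {α : MulAut G} {M : V →ₗ[ℂ] V}
    (h : IsDatum ρ α p M) {c : G} (hc : α c = c) (v : ℕ) : Commute (ρ c) (M ^ v) := by
  have := h.comm_pow v c
  rw [pow_fix α hc] at this
  exact this.symm

/-- the representation of `K × Zp`. -/
noncomputable def prodRep {ρ : Representation ℂ G V} {α : MulAut G} {M : V →ₗ[ℂ] V}
    (h : IsDatum ρ α p M) (ι : K →* G) (hι : ∀ k, α (ι k) = ι k) :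
    Representation ℂ (K × Zp p) V :=
  MonoidHom.noncommCoprod (ρ.comp ι) (zHom M h.pow)
    (fun k j => comm_fix h (hι k) _)

theorem prodRep_character {ρ : Representation ℂ G V} {α : MulAut G} {M : V →ₗ[ℂ] V}
    (h : IsDatum ρ α p M) (ι : K →* G) (hι : ∀ k, α (ι k) = ι k) (k : K) (j : ZMod p) :
    (prodRep h ι hι).character (k, Multiplicative.ofAdd j) = tw ρ (M ^ j.val) (ι k) := by
  unfold Representation.character prodRep tw
  rfl

/-- the linear characters of `Zp`. -/
noncomputable def lam (i : ZMod p) : Zp p → ℂ := fun j => e (i * Multiplicative.toAdd j)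

theorem lam_isIrr (i : ZMod p) : Cfsg.IsIrrCharacter (Zp p) (lam i) := by
  have := isIrrCharacter_of_hom
    (((ZMod.stdAddChar (N := p)).mulShift i).toMonoidHom.toHomUnits)
  convert this using 1
  funext g
  simp [lam, e, MonoidHom.coe_toHomUnits, AddChar.toMonoidHom_apply, AddChar.mulShift_apply]

/-- inner product with an outer product, fibrewise. -/
theorem classInner_prodFun_right (F : K × Zp p → ℂ) (β : K → ℂ) (i : ZMod p) :
    Cfsg.classInner F (prodFun β (lam i))
      = (p : ℂ)⁻¹ * ∑ j : ZMod p, conj (e (i * j))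
          * Cfsg.classInner (fun k => F (k, Multiplicative.ofAdd j)) β := by
  unfold Cfsg.classInner prodFun lam
  rw [Nat.card_prod, Fintype.sum_prod_type, Finset.sum_comm]
  have hc : Nat.card (Zp p) = p := by
    rw [Nat.card_eq_fintype_card, Fintype.card_multiplicative, ZMod.card]
  rw [hc]
  have h1 : ∑ y : Zp p, ∑ x : K, F (x, y) * conj (β (x, y).1 * e (i * Multiplicative.toAdd (x, y).2))
      = ∑ j : ZMod p, ∑ x : K, F (x, Multiplicative.ofAdd j) * conj (β x * e (i * j)) :=
    Fintype.sum_equiv Multiplicative.toAdd _ _ (fun y => rfl)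
  rw [h1]
  push_cast
  rw [mul_inv, Finset.mul_sum, Finset.mul_sum]
  apply Finset.sum_congr rfl
  intro j _
  have h2 : ∀ x : K, F (x, Multiplicative.ofAdd j) * conj (β x * e (i * j))
      = conj (e (i * j)) * (F (x, Multiplicative.ofAdd j) * conj (β x)) := by
    intro x
    rw [map_mul]; ring
  simp only [h2, ← Finset.mul_sum]
  ring

end Cfsg.Agent.Lib.Lead.GlaubRep
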