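import Mathlib
import Cfsg.Agent.Lib.Lead.GlaubRep2
import Cfsg.Agent.Lib.Helper6.IrrBasis

set_option autoImplicit false

/-! Multiplicity analysis for the twisted characters. -/

namespace Cfsg.Agent.Lib.Lead.GlaubRep

open Module Cfsg.Agent.Lib.Helper6 Cfsg.Agent.Lib.Lead.GlaubTwist Cfsg.Agent.Lib.Lead.GlaubComb
open scoped ComplexConjugate

variable {p : ℕ} [Fact p.Prime]
variable {G : Type*} [Group G] [Fintype G] {K : Type*} [Group K] [Fintype K]
variable {V : Type*} [AddCommGroup V] [Module ℂ V] [FiniteDimensional ℂ V]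

/-- transfer of sums from `G` to the fixed points. -/
theorem sum_fix_eq (α : MulAut G) (hαp : α ^ p = 1) (hpG : ¬ p ∣ Fintype.card G)
    (ι : K →* G) (hinj : Function.Injective ι) (hfix : ∀ g, (∃ k, ι k = g) ↔ α g = g)
    (F : G → ℂ) (hF : ∀ h g : G, F (h * g * (α h)⁻¹) = F g) :
    (Nat.card K : ℂ)⁻¹ * ∑ k : K, F (ι k) = (Nat.card G : ℂ)⁻¹ * ∑ g : G, F g := by
  classical
  have hp : p.Prime := Fact.out
  let eK : K ≃ fixSub α := Equiv.ofBijective
    (fun k => (⟨ι k, (hfix (ι k)).1 ⟨k, rfl⟩⟩ : fixSub α))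
    ⟨fun a b hab => hinj (congrArg Subtype.val hab),
     fun c => by
      obtain ⟨k, hk⟩ := (hfix c.1).2 c.2
      exact ⟨k, Subtype.ext hk⟩⟩
  have h1 : ∑ c : fixSub α, F c = ∑ k : K, F (ι k) :=
    (Fintype.sum_equiv eK _ _ (fun k => rfl)).symm
  have h2 : Fintype.card (fixSub α) = Fintype.card K := (Fintype.card_congr eK).symm
  have h3 := sum_formula α hp hαp hpG F hF
  rw [h1, h2] at h3
  rw [Nat.card_eq_fintype_card, Nat.card_eq_fintype_card]
  have hK : (Fintype.card K : ℂ) ≠ 0 := by exact_mod_cast Fintype.card_ne_zero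
  have hG : (Fintype.card G : ℂ) ≠ 0 := by exact_mod_cast Fintype.card_ne_zero
  rw [inv_mul_eq_iff_eq_mul₀ hK, mul_left_comm, eq_comm, inv_mul_eq_iff_eq_mul₀ hG]
  exact h3

/-- Parseval over the irreducible characters. -/
theorem classInner_eq_sum_irr [Fintype (Cfsg.IrrCharacter K)] (f f' : K → ℂ)
    (hf' : Cfsg.IsClassFunction K f') :
    Cfsg.classInner f f'
      = ∑ β : Cfsg.IrrCharacter K, Cfsg.classInner f (β : K → ℂ)
          * conj (Cfsg.classInner f' (β : K → ℂ)) := by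
  conv_lhs => rw [classFunction_eq_sum f' hf']
  rw [classInner_sum_right]
  apply Finset.sum_congr rfl
  intro β _
  rw [classInner_smul_right]
  ring

variable {ρ : Representation ℂ G V} {α : MulAut G} {M : V →ₗ[ℂ] V}

/-- the restricted twisted characters. -/
noncomputable def fj (ρ : Representation ℂ G V) (M : V →ₗ[ℂ] V) (ι : K →* G) (j : ZMod p) :
    K → ℂ := fun k => tw ρ (M ^ j.val) (ι k)

theorem fj_isClassFunction (h : IsDatum ρ α p M) (ι : K →* G) (hι : ∀ k, α (ι k) = ι k)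
    (j : ZMod p) : Cfsg.IsClassFunction K (fj ρ M ι j) := by
  intro g x
  unfold fj
  have := tw_twist (h.pow_datum j.val) (ι x) (ι g)
  rw [pow_fix α (hι x)] at this
  rw [map_mul, map_mul, map_inv]
  exact this

theorem fj_zero (ι : K →* G) (k : K) : fj ρ M ι (0 : ZMod p) k = ρ.character (ι k) := by
  unfold fj tw Representation.character
  simp

/-- the norm of the restricted twisted characters. -/
theorem classInner_fj_self [ρ.IsIrreducible] (h : IsDatum ρ α p M) (hαp : α ^ p = 1)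
    (hpG : ¬ p ∣ Fintype.card G) (ι : K →* G) (hinj : Function.Injective ι)
    (hfix : ∀ g, (∃ k, ι k = g) ↔ α g = g) (j : ZMod p) (hj : j ≠ 0) :
    Cfsg.classInner (fj ρ M ι j) (fj ρ M ι j) = 1 := by
  have hp : p.Prime := Fact.out
  have hv0 : j.val ≠ 0 := fun h0 => hj ((ZMod.val_eq_zero j).1 h0)
  have hvp : j.val < p := ZMod.val_lt j
  have hcop : Nat.Coprime j.val p := by
    apply Nat.Coprime.symm
    rw [Nat.Prime.coprime_iff_not_dvd hp]
    intro hd
    exact hv0 (Nat.eq_zero_of_dvd_of_lt hd hvp)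
  have hαp' : (α ^ j.val) ^ p = 1 := by rw [← pow_mul, mul_comm, pow_mul, hαp, one_pow]
  have hfix' : ∀ g, (∃ k, ι k = g) ↔ (α ^ j.val) g = g := by
    intro g
    rw [hfix g]
    exact ⟨fun hg => pow_fix α hg _, fun hg => fix_of_pow_fix α hαp hcop hg⟩
  have hd := h.pow_datum j.val
  have h1 := sum_fix_eq (α ^ j.val) hαp' hpG ι hinj hfix'
    (fun g => tw ρ (M ^ j.val) g * conj (tw ρ (M ^ j.val) g))
    (fun x g => by rw [tw_twist hd])
  unfold Cfsg.classInner fj
  rw [h1, sum_tw_norm hp.pos hd, Nat.card_eq_fintype_card]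
  have hG : (Fintype.card G : ℂ) ≠ 0 := by exact_mod_cast Fintype.card_ne_zero
  exact inv_mul_cancel₀ hG

/-- the main multiplicity analysis. -/
theorem exists_correspondent [ρ.IsIrreducible] (h : IsDatum ρ α p M) (hαp : α ^ p = 1)
    (hpG : ¬ p ∣ Fintype.card G) (ι : K →* G) (hinj : Function.Injective ι)
    (hfix : ∀ g, (∃ k, ι k = g) ↔ α g = g) :
    ∃ β0 : Cfsg.IrrCharacter K,
      (∃ m : ℕ, Cfsg.classInner (fun k => ρ.character (ι k)) (β0 : K → ℂ) = m ∧
         ((m : ℤ) ≡ 1 [ZMOD p] ∨ (m : ℤ) ≡ -1 [ZMOD p])) ∧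
      (∀ β : Cfsg.IrrCharacter K, β ≠ β0 →
         (∃ m : ℕ, Cfsg.classInner (fun k => ρ.character (ι k)) (β : K → ℂ)
            = ((p * m : ℕ) : ℂ)) ∧
         Cfsg.classInner (fj ρ M ι (1 : ZMod p)) (β : K → ℂ) = 0) ∧
      Cfsg.classInner (fj ρ M ι (1 : ZMod p)) (β0 : K → ℂ) ≠ 0 := by
  classical
  haveI : Fintype (Cfsg.IrrCharacter K) := Fintype.ofFinite _
  have hp : p.Prime := Fact.out
  have hι : ∀ k, α (ι k) = ι k := fun k => (hfix (ι k)).1 ⟨k, rfl⟩
  have hex : ∀ (β : Cfsg.IrrCharacter K) (i : ZMod p), ∃ n : ℕ,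
      Cfsg.classInner (prodRep h ι hι).character (prodFun (β : K → ℂ) (lam i)) = n :=
    fun β i => IsCharacter.classInner_irr_nat (isCharacter_character _)
      (IsIrrCharacter.prodFun β.2 (lam_isIrr i))
  choose a0 ha0 using hex
  set a : Cfsg.IrrCharacter K → ZMod p → ℤ := fun β i => (a0 β i : ℤ) with ha_def
  have ha : ∀ (β : Cfsg.IrrCharacter K) (i : ZMod p),
      Cfsg.classInner (prodRep h ι hι).character (prodFun (β : K → ℂ) (lam i))
      = ((a β i : ℤ) : ℂ) := by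
    intro β i
    rw [ha0]
    simp [a]
  set z : Cfsg.IrrCharacter K → ZMod p → ℂ :=
    fun β j => Cfsg.classInner (fj ρ M ι j) (β : K → ℂ) with hz
  have haz : ∀ β i, ((a β i : ℤ) : ℂ) = (p : ℂ)⁻¹ * ∑ j, conj (e (i * j)) * z β j := by
    intro β i
    rw [← ha, classInner_prodFun_right]
    rfl
  have hzf : ∀ β k, z β k = ∑ i, ((a β i : ℤ) : ℂ) * e (i * k) :=
    fun β k => fourier_inv (z β) (fun i => ((a β i : ℤ) : ℂ)) (haz β) k
  have h1 : ∀ β, ∑ k, z β k * conj (z β k) = (p : ℂ) * ∑ i, ((a β i : ℤ) : ℂ) ^ 2 := by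
    intro β
    simp only [hzf]
    exact parseval (a β)
  have hcf : ∀ k, Cfsg.IsClassFunction K (fj ρ M ι k) := fun k => fj_isClassFunction h ι hι k
  have h2 : ∀ k, ∑ β, z β k * conj (z β k) = Cfsg.classInner (fj ρ M ι k) (fj ρ M ι k) :=
    fun k => (classInner_eq_sum_irr (fj ρ M ι k) (fj ρ M ι k) (hcf k)).symm
  have h3 : ∀ β, z β 0 = ∑ i, ((a β i : ℤ) : ℂ) := by
    intro β
    rw [hzf]
    apply Finset.sum_congr rfl
    intro i _
    rw [mul_zero, e_zero, mul_one]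
  have h3' : ∀ β, z β 0 * conj (z β 0) = (∑ i, ((a β i : ℤ) : ℂ)) ^ 2 := by
    intro β
    rw [h3, map_sum]
    simp only [map_intCast]
    ring
  have hone : ∀ k : ZMod p, k ≠ 0 → Cfsg.classInner (fj ρ M ι k) (fj ρ M ι k) = 1 :=
    fun k hk => classInner_fj_self h hαp hpG ι hinj hfix k hk
  set N0 := Cfsg.classInner (fj ρ M ι (0 : ZMod p)) (fj ρ M ι (0 : ZMod p)) with hN0
  have h4 : ∑ k : ZMod p, Cfsg.classInner (fj ρ M ι k) (fj ρ M ι k) = N0 + ((p : ℂ) - 1) := by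
    rw [← Finset.add_sum_erase _ _ (Finset.mem_univ (0 : ZMod p))]
    congr 1
    rw [Finset.sum_congr rfl (fun k hk => hone k (Finset.ne_of_mem_erase hk))]
    rw [Finset.sum_const, Finset.card_erase_of_mem (Finset.mem_univ _), Finset.card_univ,
      ZMod.card, nsmul_eq_mul, mul_one, Nat.cast_sub hp.one_le, Nat.cast_one]
  have h5 : ∑ β, (p : ℂ) * ∑ i, ((a β i : ℤ) : ℂ) ^ 2 = N0 + ((p : ℂ) - 1) := by
    rw [← h4]
    rw [Finset.sum_congr rfl (fun β _ => (h1 β).symm), Finset.sum_comm]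
    exact Finset.sum_congr rfl (fun k _ => h2 k)
  have h6 : ∑ β, (∑ i, ((a β i : ℤ) : ℂ)) ^ 2 = N0 := by
    rw [Finset.sum_congr rfl (fun β _ => (h3' β).symm)]
    exact h2 0
  have hsumC : ((∑ β, dfc (a β) : ℤ) : ℂ) = (((p : ℤ) - 1 : ℤ) : ℂ) := by
    unfold dfc
    push_cast
    rw [Finset.sum_sub_distrib, h5, h6]
    ring
  have hsumZ : ∑ β, dfc (a β) = (p : ℤ) - 1 := Int.cast_injective hsumC
  obtain ⟨β0, hβ0, hconst⟩ := exists_unique_nonconst a hsumZ
  have hres : ∀ β : Cfsg.IrrCharacter K,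
      Cfsg.classInner (fun k => ρ.character (ι k)) (β : K → ℂ) = ∑ i, ((a β i : ℤ) : ℂ) := by
    intro β
    rw [← h3]
    simp only [hz]
    congr 1
    funext k
    exact (fj_zero ι k).symm
  have hzero : ∀ β, β ≠ β0 → z β 1 = 0 := by
    intro β hβ
    rw [hzf]
    have : ∀ i, ((a β i : ℤ) : ℂ) * e (i * 1) = ((a β 0 : ℤ) : ℂ) * e (i * 1) := by
      intro i
      rw [hconst β hβ i 0]
    rw [Finset.sum_congr rfl (fun i _ => this i), ← Finset.mul_sum, sum_e_mul,
      if_neg one_ne_zero, mul_zero]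
  refine ⟨β0, ⟨∑ i, a0 β0 i, ?_, ?_⟩, ?_, ?_⟩
  · rw [hres]
    simp [a]
  · have := sum_modEq_of_dfc (a β0) hβ0
    simpa [a] using this
  · intro β hβ
    refine ⟨⟨a0 β 0, ?_⟩, hzero β hβ⟩
    rw [hres]
    have : ∀ i, ((a β i : ℤ) : ℂ) = ((a β 0 : ℤ) : ℂ) := by
      intro i
      rw [hconst β hβ i 0]
    rw [Finset.sum_congr rfl (fun i _ => this i), Finset.sum_const, Finset.card_univ, ZMod.card]
    simp [a]
  · intro hcon
    have h7 := h2 1
    rw [hone 1 one_ne_zero] at h7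
    have h8 : ∑ β, z β 1 * conj (z β 1) = 0 := by
      apply Finset.sum_eq_zero
      intro β _
      by_cases hβ : β = β0
      · rw [hβ]
        have : z β0 1 = 0 := hcon
        rw [this, zero_mul]
      · rw [hzero β hβ, zero_mul]
    rw [h8] at h7
    exact zero_ne_one h7

end Cfsg.Agent.Lib.Lead.GlaubRep
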