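import Mathlib
import Cfsg.Agent.Lib.Lead.PF2
import Cfsg.Agent.S0867

set_option autoImplicit false

/-! Peterfalvi section 1: the coprime case. -/

namespace Cfsg.Agent.Lib.Lead.PF

open Cfsg.Agent.Lib.Helper6
open scoped ComplexConjugate

/-- the determinantal order divides the group order. -/
theorem detOrder_dvd_card {N : Type*} [Group N] [Finite N] {θ : N → ℂ}
    (hθ : Cfsg.IsCharacter N θ) : Cfsg.detOrder θ ∣ Nat.card N := by
  obtain ⟨f, hf⟩ := Cfsg.Agent.Lib.Helper3.DetChar.exists_hom_eq_detChar hθ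
  unfold Cfsg.detOrder
  apply orderOf_dvd_of_pow_eq_one
  rw [hf]
  funext g
  rw [Pi.pow_apply, Pi.one_apply, ← Units.val_pow_eq_pow_val, ← map_pow, pow_card_eq_one',
    map_one, Units.val_one]

variable {G : Type*} [Group G] [Fintype G]

theorem s1491 (H T : Subgroup G) [hN : H.Normal] (θ : H → ℂ)
    (hθ : Cfsg.IsIrrCharacter H θ)
    (hT : ∀ g : G, g ∈ T ↔ ∀ h : H, θ ⟨g * h * g⁻¹, hN.conj_mem h h.2 g⟩ = θ h)
    (hab : ∀ x ∈ T, ∀ y ∈ T, x * y * x⁻¹ * y⁻¹ ∈ H)
    (hcop : Nat.Coprime (Nat.card H) (H.relIndex T)) :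
    ∃ C : Finset (G → ℂ), (∀ χ ∈ C, Cfsg.IsIrrCharacter G χ) ∧ C.card = H.relIndex T ∧
      Cfsg.indFun H θ = ∑ χ ∈ C, χ ∧ ∀ χ ∈ C, χ 1 = (T.index : ℂ) * θ 1 := by
  classical
  haveI : Fintype H := Fintype.ofFinite _
  haveI : Fintype T := Fintype.ofFinite _
  have hHT : H ≤ T := by
    intro g hg
    rw [hT]
    intro h
    exact IsIrrCharacter.isClassFunction hθ h ⟨g, hg⟩
  obtain ⟨e, C, he, hirr, hcard, hdecomp, hdeg, hext⟩ := ind_through_inertia H T θ hθ hT hab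
  -- the extension
  set K : Subgroup T := H.subgroupOf T with hKdef
  have hKn : K.Normal := hN.subgroupOf T
  let eq : K ≃* H := Subgroup.subgroupOfEquivOfLe hHT
  set θ' : K → ℂ := fun x => θ ⟨(x : T), Subgroup.mem_subgroupOf.mp x.2⟩ with hθ'def
  have hθ' : Cfsg.IsIrrCharacter K θ' := IsIrrCharacter.comp_mulEquiv eq hθ
  have hinv' : ∀ (t : T) (n : K), θ' ⟨t * n * t⁻¹, hKn.conj_mem (n : T) n.2 t⟩ = θ' n := by
    intro t k
    exact (hT t).1 t.2 ⟨(k : T), Subgroup.mem_subgroupOf.mp k.2⟩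
  have hKH : Nat.card K = Nat.card H := Nat.card_congr eq.toEquiv
  have hd1 := IsCharacter.apply_one_eq_charDegree (IsIrrCharacter.isCharacter hθ')
  have hcop' : Nat.Coprime K.index (Cfsg.detOrder θ' * Cfsg.charDegree θ') := by
    have h0 : Nat.Coprime K.index (Nat.card K) := by
      rw [hKH]
      exact hcop.symm
    apply Nat.Coprime.mul_right
    · exact Nat.Coprime.coprime_dvd_right (detOrder_dvd_card (IsIrrCharacter.isCharacter hθ')) h0
    · exact Nat.Coprime.coprime_dvd_right (IsIrrCharacter.charDegree_dvd_card hθ') h0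
  obtain ⟨χ, ⟨hχirr, hχres, -⟩, -⟩ :=
    Cfsg.Agent.S0867.result K θ' hθ' hinv' (Cfsg.charDegree θ') hd1 hcop'
  have he1 : e = 1 := by
    apply hext χ hχirr
    intro k
    exact hχres ⟨⟨k, hHT k.2⟩, k.2⟩
  subst he1
  refine ⟨C, hirr, ?_, ?_, ?_⟩
  · have h1 : H.relIndex T * Nat.card H = Nat.card T := by
      rw [← hKH]
      exact Subgroup.index_mul_card K
    have h2 : C.card * Nat.card H = Nat.card T := by
      rw [← hcard]; ring
    have hpos : 0 < Nat.card H := Nat.card_pos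
    exact Nat.eq_of_mul_eq_mul_right hpos (h2.trans h1.symm)
  · rw [hdecomp]
    simp
  · intro χ' hχ'
    rw [hdeg χ' hχ']
    simp

end Cfsg.Agent.Lib.Lead.PF
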