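import Mathlib
import Cfsg.Prelude.Def_Blocks
import Cfsg.Agent.Lib.Helper6.GaloisRat
import Cfsg.Agent.Lib.Helper6.Decomp
import Cfsg.Agent.Lib.Helper6.Linear
import Cfsg.Agent.Lib.Helper6.Orthogonality
import Cfsg.Agent.Lib.Helper6.IrrBasis
import Cfsg.Agent.Lib.Helper6.Multiplicity
import Cfsg.Agent.Lib.Helper6.Mult

/-! Blichfeldt: abelian Hall subgroups of linear groups for the primes `> n + 1`, part 1:
big-prime subgroups are abelian, and the Galois argument producing elements of order `p r`. -/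

set_option autoImplicit false
open Cfsg
open Cfsg.Agent.Lib.Helper6
open scoped ComplexConjugate

namespace Cfsg.Agent.Lib.Lead.Bli

/-- a Hall subgroup for the set of primes `> n + 1` exists -/
def GoodH (n : ℕ) (G : Type*) [Group G] : Prop :=
  ∃ A : Subgroup G, (∀ q : ℕ, q.Prime → q ∣ Nat.card A → n + 1 < q) ∧
    ∀ q : ℕ, q.Prime → q ∣ A.index → q ≤ n + 1

/-- faithfulness of a class function -/
def Faith {G : Type*} [Group G] (χ : G → ℂ) : Prop := ∀ g : G, χ g = χ 1 → g = 1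

section
variable {G : Type*} [Group G]

theorem goodH_of_subgroup {n : ℕ} (H : Subgroup G)
    (hidx : ∀ q : ℕ, q.Prime → q ∣ H.index → q ≤ n + 1) (h : GoodH n H) : GoodH n G := by
  obtain ⟨A, hA1, hA2⟩ := h
  refine ⟨A.map H.subtype, ?_, ?_⟩
  · intro q hq hd
    rw [Subgroup.card_map_of_injective H.subtype_injective] at hd
    exact hA1 q hq hd
  · intro q hq hd
    rw [Subgroup.index_map_subtype] at hd
    rcases (Nat.Prime.dvd_mul hq).1 hd with h1 | h1
    · exact hA2 q hq h1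
    · exact hidx q hq h1

/-- a subgroup all of whose prime divisors exceed the degree of a faithful character is abelian -/
theorem comm_of_big [Finite G] {n : ℕ} {χ : G → ℂ} (hχ : IsCharacter G χ) (hf : Faith χ)
    (hdeg : charDegree χ ≤ n) (A : Subgroup G)
    (hA : ∀ q : ℕ, q.Prime → q ∣ Nat.card A → n < q) :
    ∀ x ∈ A, ∀ y ∈ A, x * y = y * x := by
  classical
  haveI : Fintype A := Fintype.ofFinite _
  haveI : Fintype (IrrCharacter A) := Fintype.ofFinite _
  have hψ : IsCharacter A (fun a : A => χ a) := IsCharacter.restrict A hχ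
  obtain ⟨m, hm⟩ := IsCharacter.eq_sum_irr hψ
  have hval : ∀ a : A, χ a = ∑ θ : IrrCharacter A, (m θ : ℂ) * (θ : A → ℂ) a := by
    intro a
    have := congrFun hm a
    simp only [Finset.sum_apply, Pi.smul_apply, nsmul_eq_mul] at this
    exact this
  have hlin : ∀ θ : IrrCharacter A, m θ ≠ 0 → (θ : A → ℂ) 1 = 1 := by
    intro θ hθ
    have hθc := IsIrrCharacter.isCharacter θ.2
    have h1 := IsCharacter.apply_one_eq_charDegree hθc
    have hle : charDegree (θ : A → ℂ) ≤ charDegree χ := by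
      have h2 := hval 1
      rw [Subgroup.coe_one, IsCharacter.apply_one_eq_charDegree hχ] at h2
      have h3 : ∀ θ' : IrrCharacter A, (m θ' : ℂ) * (θ' : A → ℂ) 1
          = ((m θ' * charDegree (θ' : A → ℂ) : ℕ) : ℂ) := by
        intro θ'
        rw [IsCharacter.apply_one_eq_charDegree (IsIrrCharacter.isCharacter θ'.2)]
        push_cast; ring
      rw [Finset.sum_congr rfl (fun θ' _ => h3 θ'), ← Nat.cast_sum] at h2
      have h4 : charDegree χ = ∑ θ' : IrrCharacter A, m θ' * charDegree (θ' : A → ℂ) := by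
        exact_mod_cast h2
      rw [h4]
      calc charDegree (θ : A → ℂ) ≤ m θ * charDegree (θ : A → ℂ) :=
            Nat.le_mul_of_pos_left _ (Nat.pos_of_ne_zero hθ)
        _ ≤ _ := Finset.single_le_sum (f := fun θ' : IrrCharacter A => m θ' * charDegree (θ' : A → ℂ))
            (fun _ _ => Nat.zero_le _) (Finset.mem_univ θ)
    have hdvd := IsIrrCharacter.charDegree_dvd_card θ.2
    have hd1 : charDegree (θ : A → ℂ) = 1 := by
      by_contra hne
      obtain ⟨q, hq, hqd⟩ := Nat.exists_prime_and_dvd hne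
      have h5 := hA q hq (dvd_trans hqd hdvd)
      have hpos := IsIrrCharacter.charDegree_pos θ.2
      have h6 : q ≤ charDegree (θ : A → ℂ) := Nat.le_of_dvd hpos hqd
      omega
    rw [h1, hd1]; simp
  intro x hx y hy
  have hmem : x * y * x⁻¹ * y⁻¹ ∈ A :=
    A.mul_mem (A.mul_mem (A.mul_mem hx hy) (A.inv_mem hx)) (A.inv_mem hy)
  have hc : χ (x * y * x⁻¹ * y⁻¹) = χ 1 := by
    have e1 := hval ⟨x * y * x⁻¹ * y⁻¹, hmem⟩
    have e2 := hval 1
    rw [Subgroup.coe_one] at e2
    simp only at e1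
    rw [e1, e2]
    apply Finset.sum_congr rfl
    intro θ _
    by_cases hθ : m θ = 0
    · rw [hθ]; simp
    · have hl := hlin θ hθ
      have hθc := IsIrrCharacter.isCharacter θ.2
      have hmul := IsCharacter.mul_of_apply_one_eq_one hθc hl
      have hsplit : (⟨x * y * x⁻¹ * y⁻¹, hmem⟩ : A)
          = (⟨x, hx⟩ : A) * ⟨y, hy⟩ * (⟨x, hx⟩ : A)⁻¹ * (⟨y, hy⟩ : A)⁻¹ := rfl
      rw [hsplit, hmul, hmul, hmul, hl]
      have h7 : (θ : A → ℂ) ⟨x, hx⟩ * (θ : A → ℂ) ((⟨x, hx⟩ : A)⁻¹) = 1 := by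
        rw [← hmul, mul_inv_cancel, hl]
      have h8 : (θ : A → ℂ) ⟨y, hy⟩ * (θ : A → ℂ) ((⟨y, hy⟩ : A)⁻¹) = 1 := by
        rw [← hmul, mul_inv_cancel, hl]
      have h9 : (θ : A → ℂ) ⟨x, hx⟩ * (θ : A → ℂ) ⟨y, hy⟩ * (θ : A → ℂ) ((⟨x, hx⟩ : A)⁻¹)
          * (θ : A → ℂ) ((⟨y, hy⟩ : A)⁻¹)
          = ((θ : A → ℂ) ⟨x, hx⟩ * (θ : A → ℂ) ((⟨x, hx⟩ : A)⁻¹))
            * ((θ : A → ℂ) ⟨y, hy⟩ * (θ : A → ℂ) ((⟨y, hy⟩ : A)⁻¹)) := by ring
      rw [h9, h7, h8]; ring
  have h1 := hf _ hc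
  calc x * y = (x * y * x⁻¹ * y⁻¹) * (y * x) := by group
    _ = y * x := by rw [h1, one_mul]

/-- a faithful character of degree `< p - 1` is not constant on the generators of a subgroup of
order `p` -/
theorem exists_pow_ne {χ : G → ℂ} (hχ : IsCharacter G χ) (hf : Faith χ) (p : ℕ) (hp : p.Prime)
    (hdeg : charDegree χ + 1 < p) (x : G) (hx : orderOf x = p) :
    ∃ j, 0 < j ∧ j < p ∧ χ (x ^ j) ≠ χ x := by
  classical
  by_contra hcon
  have hall : ∀ j, 0 < j → j < p → χ (x ^ j) = χ x := by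
    intro j h1 h2
    by_contra h3
    exact hcon ⟨j, h1, h2, h3⟩
  haveI : NeZero p := ⟨hp.ne_zero⟩
  haveI : Fact p.Prime := ⟨hp⟩
  have hxp : x ^ p = 1 := by rw [← hx]; exact pow_orderOf_eq_one x
  obtain ⟨m, μ, hμ, hval⟩ := IsCharacter.exists_eigen_pow hχ x p hp.pos hxp
  have hm : charDegree χ = m := by
    have h1 := hval 0
    simp only [pow_zero, Finset.sum_const, Finset.card_univ, Fintype.card_fin, nsmul_eq_mul,
      mul_one] at h1
    rw [IsCharacter.apply_one_eq_charDegree hχ] at h1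
    exact_mod_cast h1
  have hχx : χ x = ∑ i, μ i := by
    have := hval 1
    simpa using this
  obtain ⟨z, hz⟩ := exists_int_of_pow_invariant p μ hμ (by
    intro k
    have hk0 : (k : ZMod p).val ≠ 0 := by
      intro h0
      have : (k : ZMod p) = 0 := (ZMod.val_eq_zero _).1 h0
      exact k.ne_zero this
    have hklt : (k : ZMod p).val < p := ZMod.val_lt _
    rw [← hval, hall _ (Nat.pos_of_ne_zero hk0) hklt, hχx])
  obtain ⟨p', rfl⟩ : ∃ p', p = p' + 1 := ⟨p - 1, by have := hp.pos; omega⟩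
  have hsum : ∑ j ∈ Finset.range (p' + 1), χ (x ^ j) = (m : ℂ) + (p' : ℂ) * z := by
    rw [Finset.sum_range_succ']
    simp only [pow_zero]
    rw [IsCharacter.apply_one_eq_charDegree hχ, hm]
    rw [Finset.sum_congr rfl (fun j hj => hall (j + 1) (Nat.succ_pos j)
      (by have := Finset.mem_range.1 hj; omega))]
    rw [Finset.sum_const, Finset.card_range, hχx, hz, nsmul_eq_mul]
    ring
  set m0 := (Finset.univ.filter (fun i => μ i = 1)).card with hm0
  have hsum2 : ∑ j ∈ Finset.range (p' + 1), χ (x ^ j) = (m0 : ℂ) * ((p' : ℂ) + 1) := by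
    rw [Finset.sum_congr rfl (fun j _ => hval j), Finset.sum_comm]
    have hin : ∀ i, ∑ j ∈ Finset.range (p' + 1), μ i ^ j = if μ i = 1 then ((p' : ℂ) + 1) else 0 := by
      intro i
      split_ifs with h
      · rw [h]; simp
      · have h1 := geom_sum_mul (μ i) (p' + 1)
        rw [hμ i, sub_self] at h1
        rcases mul_eq_zero.1 h1 with h2 | h2
        · exact h2
        · exact absurd (sub_eq_zero.1 h2) h
    rw [Finset.sum_congr rfl (fun i _ => hin i), Finset.sum_ite, Finset.sum_const,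
      Finset.sum_const_zero, add_zero, nsmul_eq_mul]
  have hm0le : m0 ≤ m := by
    have := Finset.card_filter_le (Finset.univ : Finset (Fin m)) (fun i => μ i = 1)
    simpa using this
  have hint : (m : ℤ) + (p' : ℤ) * z = (m0 : ℤ) * ((p' : ℤ) + 1) := by
    have := hsum.symm.trans hsum2
    exact_mod_cast this
  have hdvd : (p' : ℤ) ∣ (m : ℤ) - m0 := ⟨(m0 : ℤ) - z, by linear_combination hint⟩
  have habs : |(m : ℤ) - m0| < (p' : ℤ) := by
    rw [abs_of_nonneg (by have : (m0 : ℤ) ≤ m := by exact_mod_cast hm0le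
                          linarith)]
    have h1 : (m : ℤ) + 1 < (p' : ℤ) + 1 := by
      have : m + 1 < p' + 1 := by rw [← hm]; exact hdeg
      exact_mod_cast this
    have h2 : (0 : ℤ) ≤ m0 := Int.natCast_nonneg _
    linarith
  have heq := Int.eq_zero_of_abs_lt_dvd hdvd habs
  have hmm : m0 = m := by
    have : (m0 : ℤ) = m := by linarith
    exact_mod_cast this
  have hallone : ∀ i, μ i = 1 := by
    have h1 : (Finset.univ.filter (fun i => μ i = 1)).card = (Finset.univ : Finset (Fin m)).card := by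
      rw [← hm0, hmm]; simp
    intro i
    exact (Finset.card_filter_eq_iff.1 h1) i (Finset.mem_univ i)
  have hx1 : χ x = χ 1 := by
    rw [hχx, IsCharacter.apply_one_eq_charDegree hχ, hm]
    rw [Finset.sum_congr rfl (fun i _ => hallone i)]
    simp
  have := hf x hx1
  rw [this, orderOf_one] at hx
  have := hp.one_lt
  omega

/-- a power map fixing the `p`-regular elements that moves a faithful character of small degree -/
theorem exists_twist_pow [Finite G] {χ : G → ℂ} (hχ : IsCharacter G χ) (hf : Faith χ) (p : ℕ)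
    (hp : p.Prime) (hdeg : charDegree χ + 1 < p) (hpG : p ∣ Nat.card G) :
    ∃ k : ℕ, Nat.Coprime k (Nat.card G) ∧ (∀ g : G, ¬ p ∣ orderOf g → g ^ k = g) ∧
      (fun g => χ (g ^ k)) ≠ χ := by
  haveI : Fact p.Prime := ⟨hp⟩
  obtain ⟨x, hx⟩ := exists_prime_orderOf_dvd_card' p hpG
  obtain ⟨j, hj0, hjp, hjne⟩ := exists_pow_ne hχ hf p hp hdeg x hx
  have hN0 : Nat.card G ≠ 0 := Nat.card_pos.ne'
  obtain ⟨a, ha⟩ : ∃ a, a = (Nat.card G).factorization p := ⟨_, rfl⟩
  obtain ⟨m', hm'⟩ : ∃ m', m' = Nat.card G / p ^ a := ⟨_, rfl⟩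
  have hNeq : p ^ a * m' = Nat.card G := by
    rw [hm', ha]; exact Nat.ordProj_mul_ordCompl_eq_self _ p
  have hcop : Nat.Coprime p m' := by
    rw [hm', ha]; exact Nat.coprime_ordCompl hp hN0
  obtain ⟨k, hk1, hk2⟩ := Nat.chineseRemainder hcop j 1
  have hpk : ¬ p ∣ k := by
    intro hd
    have h1 : k ≡ 0 [MOD p] := (Nat.modEq_zero_iff_dvd).2 hd
    have h2 : j ≡ 0 [MOD p] := hk1.symm.trans h1
    have h3 := (Nat.modEq_zero_iff_dvd).1 h2
    have := Nat.le_of_dvd hj0 h3
    omega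
  refine ⟨k, ?_, ?_, ?_⟩
  · rw [← hNeq]
    apply Nat.Coprime.mul_right
    · exact Nat.Coprime.pow_right a ((Nat.Prime.coprime_iff_not_dvd hp).2 hpk).symm
    · have := hk2.gcd_eq
      rw [Nat.gcd_one_left] at this
      exact this
  · intro g hg
    have h1 : orderOf g ∣ p ^ a * m' := by rw [hNeq]; exact orderOf_dvd_natCard g
    have h2 : Nat.Coprime (orderOf g) (p ^ a) :=
      Nat.Coprime.pow_right a ((Nat.Prime.coprime_iff_not_dvd hp).2 hg).symm
    have h3 : orderOf g ∣ m' := Nat.Coprime.dvd_of_dvd_mul_left h2 h1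
    have h4 : k ≡ 1 [MOD orderOf g] := Nat.ModEq.of_dvd h3 hk2
    have := pow_eq_pow_iff_modEq.2 h4
    rw [pow_one] at this
    exact this
  · intro heq
    have h1 := congrFun heq x
    beta_reduce at h1
    have h2 : x ^ k = x ^ j := by
      apply pow_eq_pow_iff_modEq.2
      rw [hx]; exact hk1
    rw [h2] at h1
    exact hjne h1

/-- for two primes `> n + 1` dividing the order of a group with a faithful irreducible character of
degree `n`, some element has order divisible by both -/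
theorem exists_order_mul [Finite G] {χ : G → ℂ} (hχ : IsIrrCharacter G χ) (hf : Faith χ)
    (p r : ℕ) (hp : p.Prime) (hr : r.Prime) (hdp : charDegree χ + 1 < p)
    (hdr : charDegree χ + 1 < r) (hpG : p ∣ Nat.card G) (hrG : r ∣ Nat.card G) :
    ∃ g : G, p ∣ orderOf g ∧ r ∣ orderOf g := by
  classical
  haveI : Fintype G := Fintype.ofFinite G
  by_contra hno
  have hno' : ∀ g : G, p ∣ orderOf g → ¬ r ∣ orderOf g := fun g h1 h2 => hno ⟨g, h1, h2⟩
  have hχc := IsIrrCharacter.isCharacter hχ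
  obtain ⟨k1, hk1c, hk1r, hk1n⟩ := exists_twist_pow hχc hf p hp hdp hpG
  obtain ⟨k2, hk2c, hk2r, hk2n⟩ := exists_twist_pow hχc hf r hr hdr hrG
  have h1irr := IsIrrCharacter.comp_pow hχ hk1c
  have h2irr := IsIrrCharacter.comp_pow hχ hk2c
  have hzero : ∑ g : G, (χ g - χ (g ^ k1)) * conj (χ g - χ (g ^ k2)) = 0 := by
    apply Finset.sum_eq_zero
    intro g _
    by_cases hpg : p ∣ orderOf g
    · rw [hk2r g (hno' g hpg)]; simp
    · rw [hk1r g hpg]; simp
  have e11 := classInner_isIrrCharacter hχ hχ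
  have e12 := classInner_isIrrCharacter hχ h2irr
  have e21 := classInner_isIrrCharacter h1irr hχ
  have e22 := classInner_isIrrCharacter h1irr h2irr
  rw [if_pos rfl] at e11
  rw [if_neg (fun h => hk2n h.symm)] at e12
  rw [if_neg hk1n] at e21
  unfold classInner at e11 e12 e21 e22
  beta_reduce at e12 e21 e22
  have hN : (Nat.card G : ℂ) ≠ 0 := by exact_mod_cast Nat.card_pos.ne'
  have s11 := (inv_mul_eq_iff_eq_mul₀ hN).1 e11
  have s12 := (inv_mul_eq_iff_eq_mul₀ hN).1 e12
  have s21 := (inv_mul_eq_iff_eq_mul₀ hN).1 e21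
  have s22 := (inv_mul_eq_iff_eq_mul₀ hN).1 e22
  have hexp : ∑ g : G, (χ g - χ (g ^ k1)) * conj (χ g - χ (g ^ k2)) =
      ∑ g : G, χ g * conj (χ g) - ∑ g : G, χ g * conj (χ (g ^ k2))
        - ∑ g : G, χ (g ^ k1) * conj (χ g) + ∑ g : G, χ (g ^ k1) * conj (χ (g ^ k2)) := by
    simp only [map_sub, sub_mul, mul_sub, Finset.sum_sub_distrib]
    ring
  rw [hexp, s11, s12, s21, s22] at hzero
  have h5 : (Nat.card G : ℂ) * (1 + (if (fun g => χ (g ^ k1)) = (fun g => χ (g ^ k2)) then (1 : ℂ) else 0)) = 0 := by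
    linear_combination hzero
  rcases mul_eq_zero.1 h5 with h6 | h6
  · exact hN h6
  · split_ifs at h6 <;> norm_num at h6

end

end Cfsg.Agent.Lib.Lead.Bli
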