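import Mathlib
import Cfsg.Agent.S3761
import Cfsg.Agent.Lib.Helper2.PGroupOdd
import Cfsg.Agent.Lib.Helper2.PGroupNormal
import Cfsg.Agent.Lib.Helper1.MaxAbelianNormal
import Cfsg.Agent.Lib.Helper7.GC2
import Cfsg.Agent.Lib.Helper8.NormalFour
import Cfsg.Agent.Lib.Lead.UniqueP

set_option autoImplicit false

/-!
# Normal elementary abelian subgroups of order `p²` in `p`-groups

A finite `p`-group which is not cyclic, dihedral, generalised quaternion or semidihedral has a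
normal elementary abelian subgroup of order `p²`; some structure around such a subgroup.
-/

universe u

namespace Cfsg.Agent.Lib.Lead.Imp

open scoped commutatorElement

section NormalSq

variable {G : Type u} [Group G] [Finite G]

/-- a noncyclic normal abelian subgroup of a 2-group contains a normal four-group -/
theorem normal_four_of_noncyclic (hG : IsPGroup 2 G) (U : Subgroup G) [hUn : U.Normal]
    (hUc : ∀ x ∈ U, ∀ y ∈ U, x * y = y * x) (hnc : ¬ IsCyclic U) :
    ∃ E : Subgroup G, E.Normal ∧ Nat.card E = 2 ^ 2 ∧ ∀ x ∈ E, x ^ 2 = 1 := by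
  haveI : Fact (Nat.Prime 2) := ⟨Nat.prime_two⟩
  letI : CommGroup ↥U :=
    { (inferInstance : Group ↥U) with
      mul_comm := fun x y => Subtype.ext (hUc x x.2 y y.2) }
  have hnu : ¬ Cfsg.Agent.Lib.Lead.UniqueP.UOP 2 ↥U := fun hu =>
    hnc (Cfsg.Agent.Lib.Lead.UniqueP.isCyclic_of_comm 2 (hG.to_subgroup U) hu)
  unfold Cfsg.Agent.Lib.Lead.UniqueP.UOP at hnu
  push Not at hnu
  obtain ⟨x, y, hx2, hy2, hx1, hy⟩ := hnu
  obtain ⟨Ω, hΩ⟩ : ∃ Ω : Subgroup G, Ω = Cfsg.Agent.Lib.Helper8.NormalFour.omegaTwo U hUc :=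
    ⟨_, rfl⟩
  haveI hΩn : Ω.Normal := by
    rw [hΩ]; exact Cfsg.Agent.Lib.Helper8.NormalFour.omegaTwo_normal U hUc
  have hΩmem : ∀ g : G, g ∈ Ω ↔ g ∈ U ∧ g ^ 2 = 1 := by
    intro g; rw [hΩ]; exact Iff.rfl
  have hxΩ : (x : G) ∈ Ω := (hΩmem _).2 ⟨x.2, by rw [← Subgroup.coe_pow, hx2]; rfl⟩
  have hyΩ : (y : G) ∈ Ω := (hΩmem _).2 ⟨y.2, by rw [← Subgroup.coe_pow, hy2]; rfl⟩
  have hx1' : (x : G) ≠ 1 := fun h => hx1 (Subtype.ext h)
  have hxo : orderOf (x : G) = 2 :=
    orderOf_eq_prime (by rw [← Subgroup.coe_pow, hx2]; rfl) hx1'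
  have hTΩ : Subgroup.zpowers (x : G) ≤ Ω := Subgroup.zpowers_le.2 hxΩ
  have hynT : (y : G) ∉ Subgroup.zpowers (x : G) := by
    intro h
    apply hy
    obtain ⟨k, hk⟩ := Subgroup.mem_zpowers_iff.mp h
    rw [Subgroup.mem_zpowers_iff]
    exact ⟨k, Subtype.ext (by rw [Subgroup.coe_zpow]; exact hk)⟩
  have hlt : Subgroup.zpowers (x : G) < Ω :=
    lt_of_le_of_ne hTΩ (fun h => hynT (h ▸ hyΩ))
  have hcT : Nat.card (Subgroup.zpowers (x : G)) = 2 := by rw [Nat.card_zpowers, hxo]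
  have h1 := Cfsg.Agent.Lib.Lead.UniqueP.card_lt_of_lt hlt
  have h2 : Nat.card (Subgroup.zpowers (x : G)) ∣ Nat.card Ω := Subgroup.card_dvd_of_le hTΩ
  rw [hcT] at h1 h2
  have h4 : 2 ^ 2 ≤ Nat.card Ω := by
    obtain ⟨m, hm⟩ := h2
    norm_num
    omega
  have hΩp : IsPGroup 2 Ω := hG.to_subgroup Ω
  have hdvd : 2 ^ 2 ∣ Nat.card Ω := Cfsg.Agent.Lib.Helper2.pow_dvd_of_le_of_isPGroup hΩp h4
  obtain ⟨E, hEΩ, hEn, hEc⟩ := Cfsg.Agent.Lib.Helper2.exists_normal_le_card_eq_pow hG Ω hdvd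
  exact ⟨E, hEn, hEc, fun g hg => ((hΩmem g).1 (hEΩ hg)).2⟩

variable {p : ℕ} [hp : Fact p.Prime]

/-- A finite `p`-group which is not cyclic, dihedral, generalised quaternion or semidihedral has
a normal elementary abelian subgroup of order `p²`. -/
theorem exists_normal_sq (hG : IsPGroup p G) (hnc : ¬ IsCyclic G)
    (hnq : ∀ n : ℕ, ¬ Nonempty (G ≃* QuaternionGroup n))
    (hnd : ∀ n : ℕ, ¬ Nonempty (G ≃* DihedralGroup n)) (hnsd : ¬ Cfsg.IsQuasiDihedral G) :
    ∃ E : Subgroup G, E.Normal ∧ Nat.card E = p ^ 2 ∧ ∀ x ∈ E, x ^ p = 1 := by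
  by_cases hp2 : p = 2
  · subst hp2
    classical
    haveI : Group.IsNilpotent G := hG.isNilpotent
    let 𝒮 : Set (Subgroup G) := {M | M.Normal ∧ IsMulCommutative M}
    have h𝒮 : 𝒮.Nonempty := ⟨⊥, Subgroup.normal_bot, inferInstance⟩
    obtain ⟨U, ⟨hUn, hUcomm⟩, hmax⟩ := Set.exists_max_image 𝒮 (fun M => Nat.card M)
      (Set.toFinite 𝒮) h𝒮
    haveI := hUn
    haveI := hUcomm
    have hmax' : ∀ M : Subgroup G, M.Normal → IsMulCommutative M → U ≤ M → M = U := by
      intro M hMn hMc hUM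
      exact (Subgroup.eq_of_le_of_card_ge hUM (hmax M ⟨hMn, hMc⟩)).symm
    have hcent := Cfsg.Agent.Lib.Helper1.centralizer_eq_of_maximal_abelian_normal U hmax'
    have hUc : ∀ x ∈ U, ∀ y ∈ U, x * y = y * x := by
      intro x hx y hy
      have := mul_comm' (⟨x, hx⟩ : U) ⟨y, hy⟩
      exact congrArg Subtype.val this
    by_cases hUcyc : IsCyclic U
    · have hna : ¬ IsMulCommutative G := by
        intro hc
        apply hnc
        have hU : U = ⊤ := by
          rw [eq_top_iff]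
          intro g _
          rw [← hcent, Subgroup.mem_centralizer_iff]
          intro h _
          exact mul_comm' h g
        haveI := hUcyc
        refine isCyclic_of_surjective U.subtype ?_
        intro g
        exact ⟨⟨g, hU ▸ Subgroup.mem_top g⟩, rfl⟩
      obtain ⟨n, hn⟩ := IsPGroup.iff_card.1 (hG.to_subgroup U)
      rcases Cfsg.Agent.S3761.result hG hna U hUcyc n hn hcent with h | h
      · exfalso
        rcases h.2.2 with ⟨m, hm⟩ | ⟨m, hm⟩ | hsd
        · exact hnd m hm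
        · exact hnq m hm
        · exact hnsd hsd
      · obtain ⟨_, hel, hcard, hchar⟩ := h
        haveI := hchar
        exact ⟨_, inferInstance, hcard, hel.2⟩
    · exact normal_four_of_noncyclic hG U hUc hUcyc
  · exact Cfsg.Agent.Lib.Helper2.exists_normal_elementary_sq hp2 hG hnc

/-- Structure around a normal elementary abelian subgroup of order `p²`. -/
theorem exists_za (hG : IsPGroup p G) (E : Subgroup G) [hEn : E.Normal]
    (hEc : Nat.card E = p ^ 2) (hEe : ∀ x ∈ E, x ^ p = 1) :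
    ∃ z a : G, z ∈ Subgroup.center G ∧ z ≠ 1 ∧ z ^ p = 1 ∧ a ^ p = 1 ∧
      a ∉ Subgroup.zpowers z ∧ ∀ g : G, ∃ l : ℕ, g * a * g⁻¹ = a * z ^ l := by
  have hpp := hp.out
  obtain ⟨Z₁, hZE, hZc, hZcen, hcomm⟩ : ∃ Z₁ : Subgroup G, Z₁ ≤ E ∧ Nat.card Z₁ = p ∧
      Z₁ ≤ Subgroup.center G ∧ ∀ a ∈ E, ∀ g : G, a⁻¹ * (g * a * g⁻¹) ∈ Z₁ := by
    by_cases hcen : E ≤ Subgroup.center G
    · obtain ⟨Z₁, hZE, hZn, hZc⟩ :=
        Cfsg.Agent.Lib.Helper2.exists_normal_le_card_eq_pow hG E (k := 1)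
          (by rw [hEc]; exact pow_dvd_pow p (by norm_num))
      refine ⟨Z₁, hZE, by rw [hZc, pow_one], hZE.trans hcen, ?_⟩
      intro a ha g
      have h1 : g * a = a * g := (Subgroup.mem_center_iff.1 (hcen ha)) g
      have h2 : a⁻¹ * (g * a * g⁻¹) = 1 := by rw [h1]; group
      rw [h2]; exact Z₁.one_mem
    · have hle : ⁅E, (⊤ : Subgroup G)⁆ ≤ E := Subgroup.commutator_le_left E ⊤
      haveI hcn : (⁅E, (⊤ : Subgroup G)⁆).Normal := inferInstance
      have hne_bot : ⁅E, (⊤ : Subgroup G)⁆ ≠ ⊥ := by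
        intro h
        apply hcen
        intro a ha
        rw [Subgroup.mem_center_iff]
        intro g
        have h1 : ⁅a, g⁆ ∈ ⁅E, (⊤ : Subgroup G)⁆ :=
          Subgroup.commutator_mem_commutator ha (Subgroup.mem_top g)
        rw [h, Subgroup.mem_bot, commutatorElement_def] at h1
        have h2 : a * g * a⁻¹ = g := mul_inv_eq_one.1 h1
        have h3 : a * g = g * a := mul_inv_eq_iff_eq_mul.1 h2
        exact h3.symm
      have hne_top : ⁅E, (⊤ : Subgroup G)⁆ ≠ E := by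
        intro h
        haveI : Group.IsNilpotent G := hG.isNilpotent
        obtain ⟨n, hn⟩ := Subgroup.nilpotent_iff_lowerCentralSeries.1
          (inferInstance : Group.IsNilpotent G)
        have h1 : ∀ k, E ≤ (⊤ : Subgroup G).lowerCentralSeries k := by
          intro k
          induction k with
          | zero => rw [Subgroup.lowerCentralSeries_zero]; exact le_top
          | succ k ih =>
            rw [Subgroup.lowerCentralSeries_succ]
            calc E = ⁅E, (⊤ : Subgroup G)⁆ := h.symm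
              _ ≤ ⁅(⊤ : Subgroup G).lowerCentralSeries k, (⊤ : Subgroup G)⁆ :=
                Subgroup.commutator_mono ih le_rfl
        have h2 : E = ⊥ := le_bot_iff.1 (hn ▸ h1 n)
        rw [h2, Subgroup.card_bot] at hEc
        have h3 := hpp.one_lt
        nlinarith
      have hd : Nat.card ↥(⁅E, (⊤ : Subgroup G)⁆) ∣ p ^ 2 := hEc ▸ Subgroup.card_dvd_of_le hle
      obtain ⟨m, hm2, hm⟩ := (Nat.dvd_prime_pow hpp).1 hd
      have hcard : Nat.card ↥(⁅E, (⊤ : Subgroup G)⁆) = p := by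
        interval_cases m
        · exfalso
          rw [pow_zero] at hm
          exact hne_bot (Subgroup.card_eq_one.1 hm)
        · rw [hm, pow_one]
        · exfalso
          exact hne_top (Subgroup.eq_of_le_of_card_ge hle (by rw [hm, hEc]))
      refine ⟨⁅E, (⊤ : Subgroup G)⁆, hle, hcard,
        Cfsg.Agent.Lib.Helper7.GC.le_center_of_normal_card_prime hG _ hcard, ?_⟩
      intro a ha g
      have h1 : ⁅a⁻¹, g⁆ ∈ ⁅E, (⊤ : Subgroup G)⁆ :=
        Subgroup.commutator_mem_commutator (E.inv_mem ha) (Subgroup.mem_top g)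
      rw [commutatorElement_def, inv_inv] at h1
      have e : a⁻¹ * (g * a * g⁻¹) = a⁻¹ * g * a * g⁻¹ := by group
      rw [e]; exact h1
  obtain ⟨z, hzZ, hz1⟩ : ∃ z ∈ Z₁, z ≠ 1 := by
    by_contra hcon
    push Not at hcon
    have h1 : Z₁ = ⊥ := (Subgroup.eq_bot_iff_forall _).2 hcon
    rw [h1, Subgroup.card_bot] at hZc
    exact hpp.one_lt.ne hZc
  have hzp : z ^ p = 1 := hEe z (hZE hzZ)
  have hzo : orderOf z = p := orderOf_eq_prime hzp hz1
  have hzZ₁ : Subgroup.zpowers z = Z₁ :=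
    Subgroup.eq_of_le_of_card_ge (Subgroup.zpowers_le.2 hzZ) (by rw [Nat.card_zpowers, hzo, hZc])
  obtain ⟨a, haE, haZ⟩ : ∃ a ∈ E, a ∉ Z₁ := by
    by_contra hcon
    push Not at hcon
    have h1 : E ≤ Z₁ := hcon
    have h2 := Subgroup.card_le_of_le h1
    rw [hEc, hZc] at h2
    have h3 := hpp.one_lt
    nlinarith
  refine ⟨z, a, hZcen hzZ, hz1, hzp, hEe a haE, by rw [hzZ₁]; exact haZ, ?_⟩
  intro g
  have h1 := hcomm a haE g
  rw [← hzZ₁] at h1
  obtain ⟨l, hl⟩ := Cfsg.Agent.Lib.Lead.UniqueP.exists_nat_pow_of_mem_zpowers h1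
  exact ⟨l, by rw [hl, mul_inv_cancel_left]⟩

/-- The centralizer of a non-central element with at most `p` conjugates has index `p`. -/
theorem exists_centralizer_index (hG : IsPGroup p G) (z a : G) (hzp : z ^ p = 1)
    (hconj : ∀ g : G, ∃ l : ℕ, g * a * g⁻¹ = a * z ^ l) (hnc : a ∉ Subgroup.center G) :
    ∃ H : Subgroup G, H.index = p ∧ ∀ g : G, g ∈ H ↔ g * a = a * g := by
  have hpp := hp.out
  obtain ⟨H, hH⟩ : ∃ H : Subgroup G, H = (MulAction.stabilizer (ConjAct G) a).comap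
      (ConjAct.toConjAct (G := G)).toMonoidHom := ⟨_, rfl⟩
  have hmem : ∀ g : G, g ∈ H ↔ g * a = a * g := by
    intro g
    rw [hH, Subgroup.mem_comap, MulAction.mem_stabilizer_iff]
    show ConjAct.toConjAct g • a = a ↔ _
    rw [ConjAct.toConjAct_smul]
    exact mul_inv_eq_iff_eq_mul
  refine ⟨H, ?_, hmem⟩
  have hidx : H.index = (MulAction.orbit (ConjAct G) a).ncard := by
    rw [← MulAction.index_stabilizer, hH]
    exact Subgroup.index_comap_of_surjective _ (ConjAct.toConjAct (G := G)).surjective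
  have hle : (MulAction.orbit (ConjAct G) a).ncard ≤ p := by
    have hsub : MulAction.orbit (ConjAct G) a ⊆
        (fun l : ℕ => a * z ^ l) '' ((Finset.range p : Finset ℕ) : Set ℕ) := by
      rintro _ ⟨c, rfl⟩
      obtain ⟨l, hl⟩ := hconj (ConjAct.ofConjAct c)
      refine ⟨l % p, ?_, ?_⟩
      · rw [Finset.coe_range]; exact Nat.mod_lt _ hpp.pos
      · show a * z ^ (l % p) = c • a
        rw [ConjAct.smul_def, hl, pow_eq_pow_mod l hzp]
    calc (MulAction.orbit (ConjAct G) a).ncard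
        ≤ ((fun l : ℕ => a * z ^ l) '' ((Finset.range p : Finset ℕ) : Set ℕ)).ncard :=
          Set.ncard_le_ncard hsub (Set.toFinite _)
      _ ≤ ((Finset.range p : Finset ℕ) : Set ℕ).ncard := Set.ncard_image_le (Set.toFinite _)
      _ = p := by rw [Set.ncard_coe_finset, Finset.card_range]
  obtain ⟨n, hn⟩ := hG.index H
  have hn0 : n ≠ 0 := by
    intro h0
    rw [h0, pow_zero, Subgroup.index_eq_one] at hn
    apply hnc
    rw [Subgroup.mem_center_iff]
    intro g
    exact (hmem g).1 (hn ▸ Subgroup.mem_top g)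
  rw [hidx.symm.trans hn] at hle
  have hn1 : n ≤ 1 := by
    have h1 : p ^ n ≤ p ^ 1 := by rw [pow_one]; exact hle
    exact (Nat.pow_le_pow_iff_right hpp.one_lt).1 h1
  have hn' : n = 1 := by omega
  rw [hn, hn', pow_one]

end NormalSq

end Cfsg.Agent.Lib.Lead.Imp
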