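import Mathlib

set_option autoImplicit false

/-!
# Fixed spaces and norm maps for a representation on a `ZMod q`-space

Decomposition of the space under an elementary abelian group `⟨z⟩ × ⟨a⟩` of order `p²`
(`p ≠ q`) with `z` acting without nonzero fixed vectors.
-/

namespace Cfsg.Agent.Lib.Lead.Imp

section Lin

variable {q : ℕ} [hq : Fact q.Prime] {V : Type*} [AddCommGroup V] [Module (ZMod q) V]
  {G : Type*} [Group G] (ρ : G →* (V ≃ₗ[ZMod q] V))

theorem rho_mul (x y : G) (v : V) : ρ (x * y) v = ρ x (ρ y v) := by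
  rw [map_mul]; rfl

theorem rho_one (v : V) : ρ 1 v = v := by
  rw [map_one]; rfl

theorem rho_inv_apply (x : G) (v : V) : ρ x⁻¹ (ρ x v) = v := by
  rw [← rho_mul, inv_mul_cancel, rho_one]

theorem rho_apply_inv (x : G) (v : V) : ρ x (ρ x⁻¹ v) = v := by
  rw [← rho_mul, mul_inv_cancel, rho_one]

/-- the fixed space of an element -/
def fixedSub (x : G) : Submodule (ZMod q) V where
  carrier := {v | ρ x v = v}
  add_mem' := by
    intro v w hv hw
    have hv' : ρ x v = v := hv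
    have hw' : ρ x w = w := hw
    show ρ x (v + w) = v + w
    rw [map_add, hv', hw']
  zero_mem' := by
    show ρ x 0 = 0
    exact map_zero _
  smul_mem' := by
    intro c v hv
    have hv' : ρ x v = v := hv
    show ρ x (c • v) = c • v
    rw [map_smul, hv']

theorem mem_fixedSub {x : G} {v : V} : v ∈ fixedSub ρ x ↔ ρ x v = v := Iff.rfl

theorem rho_pow_fixed {x : G} {v : V} (hv : ρ x v = v) (j : ℕ) : ρ (x ^ j) v = v := by
  induction j with
  | zero => rw [pow_zero, rho_one]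
  | succ j ih => rw [pow_succ, rho_mul, hv, ih]

theorem fixedSub_invariant {g x : G} (h : g * x = x * g) {w : V} (hw : w ∈ fixedSub ρ x) :
    ρ g w ∈ fixedSub ρ x := by
  have hw' : ρ x w = w := hw
  show ρ x (ρ g w) = ρ g w
  rw [← rho_mul, ← h, rho_mul, hw']

theorem map_fixedSub (g x : G) :
    (fixedSub ρ x).map ((ρ g : V ≃ₗ[ZMod q] V) : V →ₗ[ZMod q] V) = fixedSub ρ (g * x * g⁻¹) := by
  ext v
  rw [Submodule.mem_map]
  constructor
  · rintro ⟨w, hw, rfl⟩
    have hw' : ρ x w = w := hw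
    show ρ (g * x * g⁻¹) (ρ g w) = ρ g w
    rw [← rho_mul, inv_mul_cancel_right, rho_mul, hw']
  · intro hv
    have hv' : ρ (g * x * g⁻¹) v = v := hv
    refine ⟨ρ g⁻¹ v, ?_, rho_apply_inv ρ g v⟩
    show ρ x (ρ g⁻¹ v) = ρ g⁻¹ v
    have e : x * g⁻¹ = g⁻¹ * (g * x * g⁻¹) := by group
    rw [← rho_mul, e, rho_mul, hv']

/-- the norm map `∑_{j<p} x^j` -/
noncomputable def nrm (p : ℕ) (x : G) : V →ₗ[ZMod q] V :=
  ∑ j ∈ Finset.range p, ((ρ (x ^ j) : V ≃ₗ[ZMod q] V) : V →ₗ[ZMod q] V)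

theorem nrm_apply (p : ℕ) (x : G) (v : V) :
    nrm ρ p x v = ∑ j ∈ Finset.range p, ρ (x ^ j) v := by
  unfold nrm
  rw [LinearMap.sum_apply]
  rfl

theorem nrm_mem_fixed {p : ℕ} {x : G} (hx : x ^ p = 1) (v : V) : nrm ρ p x v ∈ fixedSub ρ x := by
  show ρ x (nrm ρ p x v) = nrm ρ p x v
  rw [nrm_apply, map_sum]
  have h0 : ∀ j ∈ Finset.range p, ρ x (ρ (x ^ j) v) = ρ (x ^ (j + 1)) v := by
    intro j _
    rw [← rho_mul, ← pow_succ']
  rw [Finset.sum_congr rfl h0]
  have h1 : ∑ j ∈ Finset.range p, ρ (x ^ (j + 1)) v + ρ (x ^ 0) v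
      = ∑ j ∈ Finset.range p, ρ (x ^ j) v + ρ (x ^ p) v := by
    rw [← Finset.sum_range_succ' (fun j => ρ (x ^ j) v) p,
      Finset.sum_range_succ (fun j => ρ (x ^ j) v) p]
  rw [hx, pow_zero] at h1
  exact add_right_cancel h1

theorem nrm_of_fixed {p : ℕ} {x : G} {v : V} (hv : ρ x v = v) :
    nrm ρ p x v = (p : ZMod q) • v := by
  rw [nrm_apply, Finset.sum_congr rfl (fun j _ => rho_pow_fixed ρ hv j), Finset.sum_const,
    Finset.card_range]
  exact (Nat.cast_smul_eq_nsmul (ZMod q) p v).symm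

variable {p : ℕ} [hp : Fact p.Prime]

/-- the sum of the norm maps of the `p` non-central lines -/
theorem sum_nrm (z a : G) (hz : z ∈ Subgroup.center G) (hzo : orderOf z = p)
    (hfix : ∀ z' : G, z' ∈ Subgroup.center G → z' ≠ 1 → fixedSub ρ z' = ⊥) (v : V) :
    ∑ i ∈ Finset.range p, nrm ρ p (a * z ^ i) v = (p : ZMod q) • v := by
  have hzp : z ^ p = 1 := by rw [← hzo]; exact pow_orderOf_eq_one z
  have hcomm : ∀ i, Commute a (z ^ i) := fun i =>
    Commute.pow_right (Subgroup.mem_center_iff.1 hz a) i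
  have e : ∀ i j, ρ ((a * z ^ i) ^ j) v = ρ (a ^ j) (ρ ((z ^ j) ^ i) v) := by
    intro i j
    rw [(hcomm i).mul_pow, rho_mul, ← pow_mul, ← pow_mul, mul_comm i j]
  calc ∑ i ∈ Finset.range p, nrm ρ p (a * z ^ i) v
      = ∑ i ∈ Finset.range p, ∑ j ∈ Finset.range p, ρ (a ^ j) (ρ ((z ^ j) ^ i) v) := by
        apply Finset.sum_congr rfl
        intro i _
        rw [nrm_apply]
        exact Finset.sum_congr rfl (fun j _ => e i j)
    _ = ∑ j ∈ Finset.range p, ∑ i ∈ Finset.range p, ρ (a ^ j) (ρ ((z ^ j) ^ i) v) :=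
        Finset.sum_comm
    _ = ∑ j ∈ Finset.range p, ρ (a ^ j) (nrm ρ p (z ^ j) v) := by
        apply Finset.sum_congr rfl
        intro j _
        rw [nrm_apply, map_sum]
    _ = ρ (a ^ 0) (nrm ρ p (z ^ 0) v) := by
        apply Finset.sum_eq_single 0
        · intro j hj hj0
          have hjp : j < p := Finset.mem_range.1 hj
          have h1 : z ^ j ≠ 1 := pow_ne_one_of_lt_orderOf hj0 (by rw [hzo]; exact hjp)
          have h2 : (z ^ j) ^ p = 1 := by rw [← pow_mul, mul_comm, pow_mul, hzp, one_pow]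
          have h3 : nrm ρ p (z ^ j) v ∈ fixedSub ρ (z ^ j) := nrm_mem_fixed ρ h2 v
          rw [hfix (z ^ j) (Subgroup.pow_mem _ hz j) h1, Submodule.mem_bot] at h3
          rw [h3, map_zero]
        · intro h0
          exact absurd (Finset.mem_range.2 hp.out.pos) h0
    _ = (p : ZMod q) • v := by
        rw [pow_zero, pow_zero, rho_one, nrm_of_fixed ρ (rho_one ρ v)]

/-- the norm map of one line kills the fixed space of another -/
theorem nrm_other (z a : G) (hz : z ∈ Subgroup.center G) (hzo : orderOf z = p)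
    (hfix : ∀ z' : G, z' ∈ Subgroup.center G → z' ≠ 1 → fixedSub ρ z' = ⊥)
    (i k : ℕ) (hi : i < p) (hk : k < p) (hik : i ≠ k) {w : V} (hw : w ∈ fixedSub ρ (a * z ^ i)) :
    nrm ρ p (a * z ^ k) w = 0 := by
  have hzp : z ^ p = 1 := by rw [← hzo]; exact pow_orderOf_eq_one z
  have hw' : ρ (a * z ^ i) w = w := hw
  obtain ⟨z', hz'⟩ : ∃ z' : G, z' = z ^ (k + (p - i)) := ⟨_, rfl⟩
  have hz'cen : z' ∈ Subgroup.center G := by rw [hz']; exact Subgroup.pow_mem _ hz _
  have hz'k : z' * z ^ i = z ^ k := by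
    rw [hz', ← pow_add, show k + (p - i) + i = k + p by omega, pow_add, hzp, mul_one]
  have hz'1 : z' ≠ 1 := by
    intro h
    rw [h, one_mul] at hz'k
    have h1 : i = k := pow_injOn_Iio_orderOf (by rw [hzo]; exact hi) (by rw [hzo]; exact hk) hz'k
    exact hik h1
  have hz'p : z' ^ p = 1 := by rw [hz', ← pow_mul, mul_comm, pow_mul, hzp, one_pow]
  have h1 : a * z ^ k = z' * (a * z ^ i) := by
    rw [← hz'k, ← mul_assoc, Subgroup.mem_center_iff.1 hz'cen a, mul_assoc]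
  have hc : Commute z' (a * z ^ i) := (Subgroup.mem_center_iff.1 hz'cen (a * z ^ i)).symm
  have h2 : ∀ j, ρ ((a * z ^ k) ^ j) w = ρ (z' ^ j) w := by
    intro j
    rw [h1, hc.mul_pow, rho_mul, rho_pow_fixed ρ hw' j]
  have h3 : nrm ρ p (a * z ^ k) w = nrm ρ p z' w := by
    rw [nrm_apply, nrm_apply]
    exact Finset.sum_congr rfl (fun j _ => h2 j)
  have h4 : nrm ρ p z' w ∈ fixedSub ρ z' := nrm_mem_fixed ρ hz'p w
  rw [hfix z' hz'cen hz'1, Submodule.mem_bot] at h4
  rw [h3, h4]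

/-- the decomposition -/
theorem decomp (hqp : (p : ZMod q) ≠ 0) (z a : G) (hz : z ∈ Subgroup.center G)
    (hzo : orderOf z = p) (ha : a ^ p = 1)
    (hfix : ∀ z' : G, z' ∈ Subgroup.center G → z' ≠ 1 → fixedSub ρ z' = ⊥) :
    iSup (fun i : Fin p => fixedSub ρ (a * z ^ (i : ℕ))) = ⊤ ∧
      iSupIndep (fun i : Fin p => fixedSub ρ (a * z ^ (i : ℕ))) := by
  have hzp : z ^ p = 1 := by rw [← hzo]; exact pow_orderOf_eq_one z
  have hpow : ∀ i : ℕ, (a * z ^ i) ^ p = 1 := by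
    intro i
    rw [(Commute.pow_right (Subgroup.mem_center_iff.1 hz a) i).mul_pow, ha, ← pow_mul, mul_comm,
      pow_mul, hzp, one_pow, one_mul]
  constructor
  · rw [eq_top_iff]
    intro v _
    have hs := sum_nrm ρ z a hz hzo hfix v
    have hv : v = (p : ZMod q)⁻¹ • ∑ i ∈ Finset.range p, nrm ρ p (a * z ^ i) v := by
      rw [hs, inv_smul_smul₀ hqp]
    rw [hv]
    apply Submodule.smul_mem
    apply Submodule.sum_mem
    intro i hi
    exact Submodule.mem_iSup_of_mem (p := fun i : Fin p => fixedSub ρ (a * z ^ (i : ℕ)))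
      ⟨i, Finset.mem_range.1 hi⟩ (nrm_mem_fixed ρ (hpow i) v)
  · intro k
    rw [Submodule.disjoint_def]
    intro v hvk hvs
    have hvk' : ρ (a * z ^ (k : ℕ)) v = v := hvk
    have hker : (⨆ j, ⨆ (_ : j ≠ k), fixedSub ρ (a * z ^ ((j : Fin p) : ℕ))) ≤
        LinearMap.ker (nrm ρ p (a * z ^ (k : ℕ))) := by
      apply iSup_le
      intro j
      apply iSup_le
      intro hjk w hw
      rw [LinearMap.mem_ker]
      exact nrm_other ρ z a hz hzo hfix j k j.2 k.2 (fun h => hjk (Fin.ext h)) hw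
    have h0 : nrm ρ p (a * z ^ (k : ℕ)) v = 0 := LinearMap.mem_ker.1 (hker hvs)
    rw [nrm_of_fixed ρ hvk'] at h0
    exact (smul_eq_zero.1 h0).resolve_left hqp

end Lin

end Cfsg.Agent.Lib.Lead.Imp
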