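import Mathlib
import Cfsg.Agent.Lib.Lead.Imp1
import Cfsg.Agent.Lib.Lead.Imp2

set_option autoImplicit false

/-!
# Irreducible faithful `p`-groups are imprimitive (apart from the cyclic, dihedral,
quaternion and semidihedral ones)
-/

universe u

namespace Cfsg.Agent.Lib.Lead.Imp

section Main

variable {q : ℕ} [hq : Fact q.Prime] {V : Type*} [AddCommGroup V] [Module (ZMod q) V]
  {G : Type u} [Group G] (ρ : G →* (V ≃ₗ[ZMod q] V))

/-- central elements act without nonzero fixed vectors -/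
theorem fixedSub_central (hρ : Function.Injective ρ)
    (hirr : ∀ W : Submodule (ZMod q) V, (∀ g : G, ∀ w ∈ W, ρ g w ∈ W) → W = ⊥ ∨ W = ⊤)
    (z' : G) (hz' : z' ∈ Subgroup.center G) (h1 : z' ≠ 1) : fixedSub ρ z' = ⊥ := by
  rcases hirr (fixedSub ρ z') (fun g w hw =>
      fixedSub_invariant ρ (Subgroup.mem_center_iff.1 hz' g) hw) with h | h
  · exact h
  · exfalso
    apply h1
    apply hρ
    apply LinearEquiv.ext
    intro v
    rw [rho_one]
    have hv : v ∈ fixedSub ρ z' := by rw [h]; exact Submodule.mem_top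
    exact hv

theorem q_ne_p [Finite V] [Nontrivial V] [Finite G] {p : ℕ} [hp : Fact p.Prime]
    (hG : IsPGroup p G) (hρ : Function.Injective ρ)
    (hirr : ∀ W : Submodule (ZMod q) V, (∀ g : G, ∀ w ∈ W, ρ g w ∈ W) → W = ⊥ ∨ W = ⊤)
    (hnc : ¬ IsCyclic G) : q ≠ p := by
  intro hqp
  subst hqp
  letI : MulAction G V := MulAction.compHom V ρ
  have hsm : ∀ (g : G) (v : V), g • v = ρ g v := fun g v => rfl
  have hfix := hG.card_modEq_card_fixedPoints V
  obtain ⟨v₀, hv₀⟩ := exists_ne (0 : V)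
  have hdvd : q ∣ Nat.card V := by
    have h1 : addOrderOf v₀ = q := addOrderOf_eq_prime (by
      rw [← Nat.cast_smul_eq_nsmul (ZMod q), ZMod.natCast_self, zero_smul]) hv₀
    rw [← h1]; exact addOrderOf_dvd_natCard v₀
  have hdvd2 : q ∣ Nat.card (MulAction.fixedPoints G V) :=
    (Nat.modEq_zero_iff_dvd).1 (hfix.symm.trans ((Nat.modEq_zero_iff_dvd).2 hdvd))
  obtain ⟨v, hvfix, hv0⟩ : ∃ v ∈ MulAction.fixedPoints G V, v ≠ 0 := by
    by_contra hcon
    push Not at hcon
    have h1 : Nat.card (MulAction.fixedPoints G V) = 1 := by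
      rw [Nat.card_eq_one_iff_unique]
      refine ⟨⟨fun a b => Subtype.ext ((hcon a a.2).trans (hcon b b.2).symm)⟩, ⟨⟨0, ?_⟩⟩⟩
      rw [MulAction.mem_fixedPoints]
      intro g
      rw [hsm, map_zero]
    rw [h1] at hdvd2
    exact hq.out.one_lt.ne' (Nat.dvd_one.1 hdvd2)
  obtain ⟨W, hW⟩ : ∃ W : Submodule (ZMod q) V, W = ⨅ g : G, fixedSub ρ g := ⟨_, rfl⟩
  have hWmem : ∀ w, w ∈ W ↔ ∀ g, ρ g w = w := by
    intro w; rw [hW, Submodule.mem_iInf]; exact Iff.rfl
  rcases hirr W (fun g w hw => by rw [(hWmem w).1 hw g]; exact hw) with h | h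
  · apply hv0
    have h2 : v ∈ W :=
      (hWmem v).2 (fun g => by rw [← hsm]; exact MulAction.mem_fixedPoints.1 hvfix g)
    rw [h, Submodule.mem_bot] at h2
    exact h2
  · apply hnc
    haveI : Subsingleton G := ⟨fun x y => hρ (LinearEquiv.ext (fun v => by
      have hv : v ∈ W := by rw [h]; exact Submodule.mem_top
      rw [(hWmem v).1 hv x, (hWmem v).1 hv y]))⟩
    infer_instance

/-- The main theorem. -/
theorem main [Finite V] [Nontrivial V] [Finite G] (p : ℕ) [hp : Fact p.Prime]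
    (hG : IsPGroup p G) (hρ : Function.Injective ρ)
    (hirr : ∀ W : Submodule (ZMod q) V, (∀ g : G, ∀ w ∈ W, ρ g w ∈ W) → W = ⊥ ∨ W = ⊤)
    (hnc : ¬ IsCyclic G) (hnq : ∀ n : ℕ, ¬ Nonempty (G ≃* QuaternionGroup n))
    (hnd : ∀ n : ℕ, ¬ Nonempty (G ≃* DihedralGroup n)) (hnsd : ¬ Cfsg.IsQuasiDihedral G) :
    ∃ (H : Subgroup G) (W : Fin p → Submodule (ZMod q) V), H.index = p ∧
      iSup W = ⊤ ∧ iSupIndep W ∧
      (∀ h ∈ H, ∀ i, ∀ w ∈ W i, ρ h w ∈ W i) ∧
      (∀ i, ∃ h ∈ H, h ≠ 1 ∧ ∀ w ∈ W i, ρ h w = w) ∧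
      ∀ g : G, g ∉ H → ∃ σ : Equiv.Perm (Fin p), orderOf σ = p ∧
        ∀ i, (W i).map ((ρ g : V ≃ₗ[ZMod q] V) : V →ₗ[ZMod q] V) = W (σ i) := by
  have hpp := hp.out
  haveI : NeZero p := ⟨hpp.ne_zero⟩
  have hqp : (p : ZMod q) ≠ 0 := by
    intro h
    rw [ZMod.natCast_eq_zero_iff] at h
    exact q_ne_p ρ hG hρ hirr hnc ((Nat.prime_dvd_prime_iff_eq hq.out hpp).1 h)
  obtain ⟨E, hEn, hEc, hEe⟩ := exists_normal_sq hG hnc hnq hnd hnsd
  haveI := hEn
  obtain ⟨z, a, hz, hz1, hzp, hap, haz, hconj⟩ := exists_za hG E hEc hEe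
  have hzo : orderOf z = p := orderOf_eq_prime hzp hz1
  have hfix := fixedSub_central ρ hρ hirr
  obtain ⟨hsup, hind⟩ := decomp ρ hqp z a hz hzo hap hfix
  have hzc : ∀ (i : ℕ) (g : G), g * z ^ i = z ^ i * g := fun i g =>
    Subgroup.mem_center_iff.1 (Subgroup.pow_mem _ hz i) g
  have hne1 : ∀ i : ℕ, a * z ^ i ≠ 1 := by
    intro i h
    apply haz
    have h2 : a = (z ^ i)⁻¹ := eq_inv_of_mul_eq_one_left h
    rw [h2]
    exact Subgroup.inv_mem _ (Subgroup.pow_mem _ (Subgroup.mem_zpowers z) i)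
  have hanc : a ∉ Subgroup.center G := by
    intro hac
    have hinv : ∀ i : Fin p, fixedSub ρ (a * z ^ (i : ℕ)) = ⊥ := by
      intro i
      rcases hirr (fixedSub ρ (a * z ^ (i : ℕ))) (fun g w hw =>
          fixedSub_invariant ρ (Subgroup.mem_center_iff.1
            (Subgroup.mul_mem _ hac (Subgroup.pow_mem _ hz i)) g) hw) with h | h
      · exact h
      · exfalso
        apply hne1 i
        apply hρ
        apply LinearEquiv.ext
        intro v
        rw [rho_one]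
        have hv : v ∈ fixedSub ρ (a * z ^ (i : ℕ)) := by rw [h]; exact Submodule.mem_top
        exact hv
    have h2 : iSup (fun i : Fin p => fixedSub ρ (a * z ^ (i : ℕ))) = ⊥ := iSup_eq_bot.2 hinv
    rw [h2] at hsup
    exact bot_ne_top hsup
  obtain ⟨H, hHi, hHmem⟩ := exists_centralizer_index hG z a hzp hconj hanc
  refine ⟨H, fun i : Fin p => fixedSub ρ (a * z ^ (i : ℕ)), hHi, hsup, hind, ?_, ?_, ?_⟩
  · intro h hh i w hw
    have hw' : w ∈ fixedSub ρ (a * z ^ (i : ℕ)) := hw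
    show ρ h w ∈ fixedSub ρ (a * z ^ (i : ℕ))
    refine fixedSub_invariant ρ ?_ hw'
    rw [← mul_assoc, (hHmem h).1 hh, mul_assoc, hzc i h, ← mul_assoc]
  · intro i
    refine ⟨a * z ^ (i : ℕ), (hHmem _).2 ?_, hne1 i, fun w hw => hw⟩
    rw [mul_assoc, ← hzc (i : ℕ) a]
  · intro g hg
    obtain ⟨l, hl⟩ := hconj g
    have hzl : z ^ l ≠ 1 := by
      intro h
      apply hg
      rw [hHmem]
      rw [h, mul_one] at hl
      exact mul_inv_eq_iff_eq_mul.1 hl
    have hlp : l % p ≠ 0 := by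
      intro h
      apply hzl
      rw [pow_eq_pow_mod l hzp, h, pow_zero]
    obtain ⟨c, hc⟩ : ∃ c : Fin p, c = ⟨l % p, Nat.mod_lt _ hpp.pos⟩ := ⟨_, rfl⟩
    have hcval : (c : ℕ) = l % p := by rw [hc]
    refine ⟨Equiv.addRight c, ?_, ?_⟩
    · have hpow : ∀ (n : ℕ) (i : Fin p), (Equiv.addRight c ^ n) i = i + n • c := by
        intro n
        induction n with
        | zero =>
          intro i
          rw [pow_zero, zero_smul, add_zero]
          rfl
        | succ n ih =>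
          intro i
          rw [pow_succ', Equiv.Perm.mul_apply, ih]
          show i + n • c + c = i + (n + 1) • c
          rw [succ_nsmul, add_assoc]
      apply orderOf_eq_prime
      · apply Equiv.ext
        intro i
        rw [hpow p i]
        have h0 : p • c = 0 := by
          have h1 := card_nsmul_eq_zero (G := Fin p) (x := c)
          rwa [Fintype.card_fin] at h1
        rw [h0, add_zero]
        rfl
      · intro h
        have h1 : (Equiv.addRight c) 0 = (1 : Equiv.Perm (Fin p)) 0 := by rw [h]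
        have h2 : (0 : Fin p) + c = 0 := h1
        rw [zero_add] at h2
        apply hlp
        rw [← hcval, h2]
        rfl
    · intro i
      rw [map_fixedSub]
      show fixedSub ρ (g * (a * z ^ (i : ℕ)) * g⁻¹) =
        fixedSub ρ (a * z ^ ((Equiv.addRight c i : Fin p) : ℕ))
      have hval : ((Equiv.addRight c i : Fin p) : ℕ) = ((i : ℕ) + l) % p := by
        show ((i + c : Fin p) : ℕ) = _
        rw [Fin.val_add, hcval, Nat.add_mod_mod]
      have hkey : g * (a * z ^ (i : ℕ)) * g⁻¹ = a * z ^ (((i : ℕ) + l) % p) := by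
        calc g * (a * z ^ (i : ℕ)) * g⁻¹ = g * a * (z ^ (i : ℕ) * g⁻¹) := by
              simp only [mul_assoc]
          _ = g * a * (g⁻¹ * z ^ (i : ℕ)) := by rw [hzc (i : ℕ) g⁻¹]
          _ = (g * a * g⁻¹) * z ^ (i : ℕ) := by simp only [mul_assoc]
          _ = a * z ^ l * z ^ (i : ℕ) := by rw [hl]
          _ = a * z ^ ((i : ℕ) + l) := by rw [mul_assoc, ← pow_add, add_comm]
          _ = a * z ^ (((i : ℕ) + l) % p) := by rw [pow_eq_pow_mod ((i : ℕ) + l) hzp]
      rw [hval, hkey]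

end Main

end Cfsg.Agent.Lib.Lead.Imp
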