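import Mathlib

set_option autoImplicit false

namespace Cfsg.Agent.Lib.Lead.QDArith

variable (n : ℕ)

/-- `h = 2^(n-1)` in `ZMod (2^n)`. -/
def hh : ZMod (2 ^ n) := ((2 ^ (n - 1) : ℕ) : ZMod (2 ^ n))

/-- `m = 2^(n-1) - 1` in `ZMod (2^n)`. -/
def mm : ZMod (2 ^ n) := ((2 ^ (n - 1) - 1 : ℕ) : ZMod (2 ^ n))

/-- `q = 2^(n-2)` in `ZMod (2^n)`. -/
def qq : ZMod (2 ^ n) := ((2 ^ (n - 2) : ℕ) : ZMod (2 ^ n))

variable {n}

theorem mm_eq : mm n = hh n - 1 := by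
  unfold mm hh
  rw [Nat.cast_sub Nat.one_le_two_pow, Nat.cast_one]

theorem one_add_mm : 1 + mm n = hh n := by rw [mm_eq]; ring

theorem two_hh (hn : 1 ≤ n) : 2 * hh n = 0 := by
  unfold hh
  have : (2 * 2 ^ (n - 1) : ℕ) = 2 ^ n := by
    rw [← pow_succ']; congr 1; omega
  have h2 : ((2 * 2 ^ (n - 1) : ℕ) : ZMod (2 ^ n)) = 0 := by
    rw [this]; exact ZMod.natCast_self _
  rw [← h2]; push_cast; ring

theorem two_qq (hn : 2 ≤ n) : 2 * qq n = hh n := by
  unfold hh qq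
  have : (2 * 2 ^ (n - 2) : ℕ) = 2 ^ (n - 1) := by
    rw [← pow_succ']; congr 1; omega
  rw [← this]; push_cast; ring

theorem hh_sq (hn : 2 ≤ n) : hh n * hh n = 0 := by
  unfold hh
  have : (2 ^ (n - 1) * 2 ^ (n - 1) : ℕ) = 2 ^ n * 2 ^ (n - 2) := by
    rw [← pow_add, ← pow_add]; congr 1; omega
  rw [← Nat.cast_mul, this, Nat.cast_mul, ZMod.natCast_self, zero_mul]

theorem hh_qq (hn : 3 ≤ n) : hh n * qq n = 0 := by
  unfold hh qq
  have : (2 ^ (n - 1) * 2 ^ (n - 2) : ℕ) = 2 ^ n * 2 ^ (n - 3) := by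
    rw [← pow_add, ← pow_add]; congr 1; omega
  rw [← Nat.cast_mul, this, Nat.cast_mul, ZMod.natCast_self, zero_mul]

theorem hh_ne_zero (hn : 1 ≤ n) : hh n ≠ 0 := by
  unfold hh
  rw [Ne, ZMod.natCast_eq_zero_iff]
  intro hdvd
  have h1 : 2 ^ n ≤ 2 ^ (n - 1) := Nat.le_of_dvd (by positivity) hdvd
  have h2 : 2 ^ (n - 1) < 2 ^ n := Nat.pow_lt_pow_right (by norm_num) (by omega)
  omega

theorem mm_sq (hn : 2 ≤ n) : mm n * mm n = 1 := by
  rw [mm_eq]
  have h1 := hh_sq hn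
  have h2 := two_hh (n := n) (by omega)
  linear_combination h1 - h2

theorem even_or_odd (i : ZMod (2 ^ n)) : Even i ∨ Odd i := by
  have hi : ((i.val : ℕ) : ZMod (2 ^ n)) = i := ZMod.natCast_zmod_val i
  rcases Nat.even_or_odd i.val with h | h
  · left
    obtain ⟨k, hk⟩ := h
    refine ⟨(k : ZMod (2 ^ n)), ?_⟩
    rw [← hi, hk]; push_cast; ring
  · right
    obtain ⟨k, hk⟩ := h
    refine ⟨(k : ZMod (2 ^ n)), ?_⟩
    rw [← hi, hk]; push_cast; ring

theorem not_even_and_odd (hn : 1 ≤ n) (i : ZMod (2 ^ n)) : ¬ (Even i ∧ Odd i) := by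
  rintro ⟨⟨a, ha⟩, ⟨b, hb⟩⟩
  have hdvd : 2 ∣ 2 ^ n := dvd_pow_self 2 (by omega)
  have h1 := congrArg (ZMod.castHom hdvd (ZMod 2)) (ha.symm.trans hb)
  simp only [map_add, map_mul, map_one, map_ofNat] at h1
  have h2 : (2 : ZMod 2) = 0 := by decide
  generalize (ZMod.castHom hdvd (ZMod 2)) a = a' at h1
  generalize (ZMod.castHom hdvd (ZMod 2)) b = b' at h1
  rw [h2, zero_mul, zero_add] at h1
  have : a' + a' = 0 := by
    have : a' + a' = 2 * a' := by ring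
    rw [this, h2, zero_mul]
  rw [this] at h1
  exact zero_ne_one h1

theorem odd_iff_not_even (hn : 1 ≤ n) (i : ZMod (2 ^ n)) : Odd i ↔ ¬ Even i := by
  constructor
  · intro ho he; exact not_even_and_odd hn i ⟨he, ho⟩
  · intro hne; exact (even_or_odd i).resolve_left hne

theorem hh_mul_even (hn : 1 ≤ n) {i : ZMod (2 ^ n)} (hi : Even i) : hh n * i = 0 := by
  obtain ⟨a, rfl⟩ := hi
  have := two_hh hn
  linear_combination a * this

theorem hh_mul_odd (hn : 1 ≤ n) {i : ZMod (2 ^ n)} (hi : Odd i) : hh n * i = hh n := by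
  obtain ⟨a, rfl⟩ := hi
  have := two_hh hn
  linear_combination a * this

theorem two_mul_eq_zero_iff (hn : 1 ≤ n) (i : ZMod (2 ^ n)) :
    2 * i = 0 ↔ i = 0 ∨ i = hh n := by
  constructor
  · intro h
    have hi : ((i.val : ℕ) : ZMod (2 ^ n)) = i := ZMod.natCast_zmod_val i
    have h1 : ((2 * i.val : ℕ) : ZMod (2 ^ n)) = 0 := by
      push_cast; rw [hi]; exact h
    rw [ZMod.natCast_eq_zero_iff] at h1
    have hpow : 2 ^ n = 2 * 2 ^ (n - 1) := by
      rw [← pow_succ']; congr 1; omega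
    have h1' : 2 * 2 ^ (n - 1) ∣ 2 * i.val := hpow ▸ h1
    have h2 : 2 ^ (n - 1) ∣ i.val := (Nat.mul_dvd_mul_iff_left (by norm_num)).1 h1'
    obtain ⟨t, ht⟩ := h2
    have hlt : i.val < 2 ^ n := ZMod.val_lt i
    have ht2 : t < 2 := by
      by_contra hcon
      push_neg at hcon
      have : 2 ^ (n - 1) * 2 ≤ 2 ^ (n - 1) * t := Nat.mul_le_mul_left _ hcon
      omega
    interval_cases t
    · left
      rw [← hi, ht]; simp
    · right
      rw [← hi, ht]; simp [hh]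
  · rintro (rfl | rfl)
    · ring
    · exact two_hh hn

theorem even_hh (hn : 2 ≤ n) : Even (hh n) := by
  refine ⟨qq n, ?_⟩
  rw [← two_qq hn]; ring

theorem even_qq (hn : 3 ≤ n) : Even (qq n) := by
  refine ⟨((2 ^ (n - 3) : ℕ) : ZMod (2 ^ n)), ?_⟩
  unfold qq
  have : (2 ^ (n - 2) : ℕ) = 2 ^ (n - 3) + 2 ^ (n - 3) := by
    have : n - 2 = (n - 3) + 1 := by omega
    rw [this, pow_succ]; ring
  rw [this]; push_cast; ring

/-- Solving `(1 - m) k = d` for even `d`. -/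
theorem exists_shift (hn : 3 ≤ n) {d : ZMod (2 ^ n)} (hd : Even d) :
    ∃ k, (1 - mm n) * k = d := by
  obtain ⟨e, rfl⟩ := hd
  have h2 := two_hh (n := n) (by omega)
  rcases even_or_odd e with he | he
  · refine ⟨e, ?_⟩
    have := hh_mul_even (n := n) (by omega) he
    rw [mm_eq]
    linear_combination -this
  · refine ⟨e + qq n, ?_⟩
    have h3 := hh_mul_odd (n := n) (by omega) he
    have h4 := hh_qq hn
    have h5 := two_qq (n := n) (by omega)
    rw [mm_eq]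
    linear_combination -h3 - h4 + h5

theorem even_mul_left {i : ZMod (2 ^ n)} (c : ZMod (2 ^ n)) (hi : Even i) : Even (c * i) := by
  obtain ⟨a, rfl⟩ := hi
  exact ⟨c * a, by ring⟩

theorem mm_mul_parity (hn : 2 ≤ n) (i : ZMod (2 ^ n)) : Even (mm n * i) ↔ Even i := by
  constructor
  · intro h
    have := even_mul_left (mm n) h
    rwa [← mul_assoc, mm_sq hn, one_mul] at this
  · exact even_mul_left _

theorem odd_mm (hn : 2 ≤ n) : Odd (mm n) := by
  rw [mm_eq]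
  obtain ⟨a, ha⟩ := even_hh hn
  refine ⟨a - 1, ?_⟩
  rw [ha]; ring

end Cfsg.Agent.Lib.Lead.QDArith
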