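import Mathlib
import Cfsg.Prelude.Def_CaseTheorems
import Cfsg.Agent.Lib.Lead.QDArith

set_option autoImplicit false

namespace Cfsg.Agent.Lib.Lead.QDCore

open Cfsg.Agent.Lib.Lead.QDArith

/-- Data of a quasi-dihedral group with chosen generators. -/
structure QD (S : Type*) [Group S] (n : ℕ) (x y : S) : Prop where
  hn : 3 ≤ n
  card : Nat.card S = 2 ^ (n + 1)
  ox : orderOf x = 2 ^ n
  oy : orderOf y = 2
  rel : y * x * y⁻¹ = x ^ (2 ^ (n - 1) - 1)

theorem exists_QD {S : Type*} [Group S] (h : Cfsg.IsQuasiDihedral S) :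
    ∃ n x y, QD S n x y := by
  obtain ⟨n, hn, hc, x, y, hx, hy, hr⟩ := h
  exact ⟨n, x, y, ⟨hn, hc, hx, hy, hr⟩⟩

variable {S : Type*} [Group S]

/-- Powers of `x` indexed by `ZMod (2^n)`. -/
def r (n : ℕ) (x : S) (i : ZMod (2 ^ n)) : S := x ^ i.val

/-- The elements `x^i y`. -/
def s (n : ℕ) (x y : S) (i : ZMod (2 ^ n)) : S := x ^ i.val * y

theorem s_eq (n : ℕ) (x y : S) (i : ZMod (2 ^ n)) : s n x y i = r n x i * y := rfl

namespace QD

variable {n : ℕ} {x y : S} (hq : QD S n x y)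
include hq

theorem x_pow : x ^ (2 ^ n) = 1 := by rw [← hq.ox]; exact pow_orderOf_eq_one x

theorem y_sq : y * y = 1 := by
  have := pow_orderOf_eq_one y
  rwa [hq.oy, pow_two] at this

theorem y_inv : y⁻¹ = y := inv_eq_of_mul_eq_one_left hq.y_sq

theorem r_add (i j : ZMod (2 ^ n)) : r n x (i + j) = r n x i * r n x j := by
  unfold r
  rw [ZMod.val_add, ← pow_add, ← pow_eq_pow_mod _ hq.x_pow]

theorem r_zero : r n x 0 = 1 := by
  unfold r; rw [ZMod.val_zero, pow_zero]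

theorem r_natCast (k : ℕ) : r n x (k : ZMod (2 ^ n)) = x ^ k := by
  unfold r
  rw [ZMod.val_natCast, ← pow_eq_pow_mod _ hq.x_pow]

theorem r_one : r n x 1 = x := by
  have := hq.r_natCast 1
  rwa [Nat.cast_one, pow_one] at this

theorem r_neg (i : ZMod (2 ^ n)) : r n x (-i) = (r n x i)⁻¹ := by
  have h : r n x (-i) * r n x i = 1 := by
    rw [← hq.r_add, neg_add_cancel, hq.r_zero]
  exact eq_inv_of_mul_eq_one_left h

theorem r_sub (i j : ZMod (2 ^ n)) : r n x (i - j) = r n x i * (r n x j)⁻¹ := by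
  rw [sub_eq_add_neg, hq.r_add, hq.r_neg]

theorem r_inj {i j : ZMod (2 ^ n)} (h : r n x i = r n x j) : i = j := by
  unfold r at h
  apply ZMod.val_injective
  have hi : i.val < orderOf x := by rw [hq.ox]; exact ZMod.val_lt i
  have hj : j.val < orderOf x := by rw [hq.ox]; exact ZMod.val_lt j
  exact pow_injOn_Iio_orderOf hi hj h

theorem r_eq_one_iff {i : ZMod (2 ^ n)} : r n x i = 1 ↔ i = 0 := by
  constructor
  · intro h; rw [← hq.r_zero] at h; exact hq.r_inj h
  · rintro rfl; exact hq.r_zero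

theorem r_mem (i : ZMod (2 ^ n)) : r n x i ∈ Subgroup.zpowers x :=
  Subgroup.pow_mem _ (Subgroup.mem_zpowers x) _

theorem exists_r_of_mem {g : S} (hg : g ∈ Subgroup.zpowers x) : ∃ i, g = r n x i := by
  obtain ⟨k, rfl⟩ := hg
  have hpos : (0 : ℤ) < ((orderOf x : ℕ) : ℤ) := by
    rw [hq.ox]; positivity
  have h1 : x ^ k = x ^ (k % ((orderOf x : ℕ) : ℤ)) := (zpow_mod_orderOf x k).symm
  have h2 : 0 ≤ k % ((orderOf x : ℕ) : ℤ) := Int.emod_nonneg _ (ne_of_gt hpos)
  refine ⟨(((k % ((orderOf x : ℕ) : ℤ)).toNat : ℕ) : ZMod (2 ^ n)), ?_⟩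
  rw [hq.r_natCast]
  show x ^ k = _
  rw [h1, ← zpow_natCast, Int.toNat_of_nonneg h2]

theorem conj_r (i : ZMod (2 ^ n)) : y * r n x i * y⁻¹ = r n x (mm n * i) := by
  unfold r
  rw [← conj_pow, hq.rel, ← pow_mul]
  have : mm n * i = ((((2 ^ (n - 1) - 1) * i.val : ℕ)) : ZMod (2 ^ n)) := by
    unfold mm
    rw [Nat.cast_mul, ZMod.natCast_zmod_val]
  rw [this]
  exact (hq.r_natCast _).symm

theorem y_mul_r (i : ZMod (2 ^ n)) : y * r n x i = r n x (mm n * i) * y := by
  rw [← hq.conj_r, inv_mul_cancel_right]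

theorem r_mul_s (i j : ZMod (2 ^ n)) : r n x i * s n x y j = s n x y (i + j) := by
  rw [s_eq, s_eq, hq.r_add, mul_assoc]

theorem s_mul_r (i j : ZMod (2 ^ n)) : s n x y i * r n x j = s n x y (i + mm n * j) := by
  rw [s_eq, s_eq, mul_assoc, hq.y_mul_r, ← mul_assoc, ← hq.r_add]

theorem s_mul_s (i j : ZMod (2 ^ n)) : s n x y i * s n x y j = r n x (i + mm n * j) := by
  rw [s_eq, s_eq, mul_assoc, ← mul_assoc y, hq.y_mul_r, mul_assoc, hq.y_sq, mul_one, ← hq.r_add]

theorem s_zero : s n x y 0 = y := by rw [s_eq, hq.r_zero, one_mul]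

theorem s_inv (i : ZMod (2 ^ n)) : (s n x y i)⁻¹ = s n x y (-(mm n * i)) := by
  apply inv_eq_of_mul_eq_one_right
  rw [hq.s_mul_s]
  have : i + mm n * (-(mm n * i)) = 0 := by
    have := mm_sq (n := n) (by have := hq.hn; omega)
    linear_combination (-i) * this
  rw [this, hq.r_zero]

theorem y_not_mem : y ∉ Subgroup.zpowers x := by
  intro hy
  have hcomm : y * x = x * y := by
    obtain ⟨k, hk⟩ := hy
    rw [← hk]
    exact (Commute.zpow_left (Commute.refl x) k).eq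
  have h1 : y * x * y⁻¹ = x := by rw [hcomm, mul_inv_cancel_right]
  rw [hq.rel] at h1
  have hn := hq.hn
  have h2 : x ^ (2 ^ (n - 1) - 1) = x ^ 1 := by rw [h1, pow_one]
  have h3 : 2 ^ (n - 1) - 1 < orderOf x := by
    rw [hq.ox]
    have : 2 ^ (n - 1) < 2 ^ n := Nat.pow_lt_pow_right (by norm_num) (by omega)
    have hpos : 0 < 2 ^ (n - 1) := by positivity
    omega
  have h4 : 1 < orderOf x := by
    rw [hq.ox]; exact Nat.one_lt_two_pow (by omega)
  have h5 := pow_injOn_Iio_orderOf h3 h4 h2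
  have h6 : 2 ^ 2 ≤ 2 ^ (n - 1) := Nat.pow_le_pow_right (by norm_num) (by omega)
  omega

theorem s_not_mem (i : ZMod (2 ^ n)) : s n x y i ∉ Subgroup.zpowers x := by
  intro h
  apply hq.y_not_mem
  have : y = (r n x i)⁻¹ * s n x y i := by rw [s_eq, inv_mul_cancel_left]
  rw [this]
  exact Subgroup.mul_mem _ (Subgroup.inv_mem _ (hq.r_mem i)) h

theorem s_ne_r (i j : ZMod (2 ^ n)) : s n x y i ≠ r n x j := by
  intro h
  exact hq.s_not_mem i (h ▸ hq.r_mem j)

theorem s_inj {i j : ZMod (2 ^ n)} (h : s n x y i = s n x y j) : i = j := by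
  rw [s_eq, s_eq] at h
  exact hq.r_inj (mul_right_cancel h)

theorem index_zpowers [Finite S] : (Subgroup.zpowers x).index = 2 := by
  have h1 := (Subgroup.zpowers x).card_mul_index
  rw [Nat.card_zpowers, hq.ox, hq.card, pow_succ] at h1
  exact Nat.eq_of_mul_eq_mul_left (by positivity) h1

theorem exists_rep [Finite S] (g : S) : (∃ i, g = r n x i) ∨ (∃ i, g = s n x y i) := by
  by_cases hg : g ∈ Subgroup.zpowers x
  · exact Or.inl (hq.exists_r_of_mem hg)
  · right
    have h2 := Subgroup.mul_mem_iff_of_index_two hq.index_zpowers (a := g) (b := y)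
    have h3 : g * y ∈ Subgroup.zpowers x := h2.2 ⟨fun h => absurd h hg, fun h => absurd h hq.y_not_mem⟩
    obtain ⟨i, hi⟩ := hq.exists_r_of_mem h3
    refine ⟨i, ?_⟩
    rw [s_eq, ← hi, mul_assoc, hq.y_sq, mul_one]

theorem s_sq (i : ZMod (2 ^ n)) : s n x y i * s n x y i = r n x (hh n * i) := by
  rw [hq.s_mul_s]
  congr 1
  rw [← one_add_mm]; ring

theorem s_sq_even {i : ZMod (2 ^ n)} (hi : Even i) : s n x y i * s n x y i = 1 := by
  rw [hq.s_sq, hh_mul_even (by have := hq.hn; omega) hi, hq.r_zero]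

theorem s_sq_odd {i : ZMod (2 ^ n)} (hi : Odd i) : s n x y i * s n x y i = r n x (hh n) := by
  rw [hq.s_sq, hh_mul_odd (by have := hq.hn; omega) hi]

theorem s_ne_one (i : ZMod (2 ^ n)) : s n x y i ≠ 1 := by
  rw [← hq.r_zero]; exact hq.s_ne_r i 0

theorem rh_ne_one : r n x (hh n) ≠ 1 := by
  rw [Ne, hq.r_eq_one_iff]
  exact hh_ne_zero (by have := hq.hn; omega)

theorem rh_sq : r n x (hh n) * r n x (hh n) = 1 := by
  rw [← hq.r_add]
  have : hh n + hh n = 0 := by
    have := two_hh (n := n) (by have := hq.hn; omega)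
    linear_combination this
  rw [this, hq.r_zero]

theorem orderOf_rh : orderOf (r n x (hh n)) = 2 := by
  apply orderOf_eq_prime
  · rw [pow_two]; exact hq.rh_sq
  · exact hq.rh_ne_one

theorem orderOf_s_even {i : ZMod (2 ^ n)} (hi : Even i) : orderOf (s n x y i) = 2 := by
  apply orderOf_eq_prime
  · rw [pow_two]; exact hq.s_sq_even hi
  · exact hq.s_ne_one i

theorem orderOf_s_odd {i : ZMod (2 ^ n)} (hi : Odd i) : orderOf (s n x y i) = 4 := by
  have h2 : (s n x y i) ^ 2 = r n x (hh n) := by rw [pow_two]; exact hq.s_sq_odd hi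
  have h4 : (s n x y i) ^ (2 ^ 2) = 1 := by
    rw [pow_two 2, pow_mul, h2, pow_two]; exact hq.rh_sq
  have := orderOf_eq_prime_pow (p := 2) (n := 1) (x := s n x y i) ?_ h4
  · simpa using this
  · rw [pow_one, h2]; exact hq.rh_ne_one

/-- Conjugation formulas. -/
theorem r_conj_s (k i : ZMod (2 ^ n)) :
    r n x k * s n x y i * (r n x k)⁻¹ = s n x y (i + (1 - mm n) * k) := by
  rw [hq.r_mul_s, ← hq.r_neg, hq.s_mul_r]
  congr 1; ring

theorem s_conj_s (k i : ZMod (2 ^ n)) :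
    s n x y k * s n x y i * (s n x y k)⁻¹ = s n x y (mm n * i + (1 - mm n) * k) := by
  rw [hq.s_mul_s, hq.s_inv, hq.r_mul_s]
  congr 1; ring

theorem s_conj_r (k i : ZMod (2 ^ n)) :
    s n x y k * r n x i * (s n x y k)⁻¹ = r n x (mm n * i) := by
  rw [hq.s_mul_r, hq.s_inv, hq.s_mul_s]
  congr 1
  have := mm_sq (n := n) (by have := hq.hn; omega)
  linear_combination (-k) * this

theorem r_conj_r (k i : ZMod (2 ^ n)) :
    r n x k * r n x i * (r n x k)⁻¹ = r n x i := by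
  rw [← hq.r_add, ← hq.r_neg, ← hq.r_add]
  congr 1; ring

end QD

end Cfsg.Agent.Lib.Lead.QDCore
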