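import Mathlib
import Cfsg.Agent.Lib.Lead.QDCore

set_option autoImplicit false

namespace Cfsg.Agent.Lib.Lead.QDCore

open Cfsg.Agent.Lib.Lead.QDArith

variable {S : Type*} [Group S]

namespace QD

variable {n : ℕ} {x y : S} (hq : QD S n x y)
include hq

theorem n1 : 1 ≤ n := by have := hq.hn; omega
theorem n2 : 2 ≤ n := by have := hq.hn; omega

theorem r_sq (i : ZMod (2 ^ n)) : r n x i * r n x i = r n x (2 * i) := by
  rw [← hq.r_add]; congr 1; ring

theorem conj_mem_zpowers [Finite S] (g : S) (i : ZMod (2 ^ n)) :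
    g * r n x i * g⁻¹ ∈ Subgroup.zpowers x := by
  rcases hq.exists_rep g with ⟨k, rfl⟩ | ⟨k, rfl⟩
  · rw [hq.r_conj_r]; exact hq.r_mem _
  · rw [hq.s_conj_r]; exact hq.r_mem _

theorem involution_cases [Finite S] {t : S} (ht : orderOf t = 2) :
    t = r n x (hh n) ∨ ∃ i, Even i ∧ t = s n x y i := by
  have ht2 : t * t = 1 := by
    have := pow_orderOf_eq_one t
    rwa [ht, pow_two] at this
  have ht1 : t ≠ 1 := by
    intro h; rw [h, orderOf_one] at ht; omega
  rcases hq.exists_rep t with ⟨i, rfl⟩ | ⟨i, rfl⟩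
  · left
    rw [hq.r_sq, hq.r_eq_one_iff, two_mul_eq_zero_iff hq.n1] at ht2
    rcases ht2 with h | h
    · exfalso; apply ht1; rw [h, hq.r_zero]
    · rw [h]
  · right
    refine ⟨i, ?_, rfl⟩
    by_contra hne
    have ho := (odd_iff_not_even hq.n1 i).2 hne
    rw [hq.orderOf_s_odd ho] at ht
    omega

theorem orderOf_rq : orderOf (r n x (qq n)) = 4 := by
  have h2 : (r n x (qq n)) ^ 2 = r n x (hh n) := by
    rw [pow_two, hq.r_sq, two_qq hq.n2]
  have h4 : (r n x (qq n)) ^ (2 ^ 2) = 1 := by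
    rw [pow_two 2, pow_mul, h2, pow_two]; exact hq.rh_sq
  have := orderOf_eq_prime_pow (p := 2) (n := 1) (x := r n x (qq n)) ?_ h4
  · simpa using this
  · rw [pow_one, h2]; exact hq.rh_ne_one

theorem orderOf_rqh : orderOf (r n x (qq n + hh n)) = 4 := by
  have h2 : (r n x (qq n + hh n)) ^ 2 = r n x (hh n) := by
    rw [pow_two, hq.r_sq]
    congr 1
    have h1 := two_qq (n := n) hq.n2
    have h3 := two_hh (n := n) hq.n1
    linear_combination h1 + h3
  have h4 : (r n x (qq n + hh n)) ^ (2 ^ 2) = 1 := by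
    rw [pow_two 2, pow_mul, h2, pow_two]; exact hq.rh_sq
  have := orderOf_eq_prime_pow (p := 2) (n := 1) (x := r n x (qq n + hh n)) ?_ h4
  · simpa using this
  · rw [pow_one, h2]; exact hq.rh_ne_one

theorem order4_cases [Finite S] {t : S} (ht : orderOf t = 4) :
    t = r n x (qq n) ∨ t = r n x (qq n + hh n) ∨ ∃ i, Odd i ∧ t = s n x y i := by
  have ht4 : t ^ 4 = 1 := by
    have := pow_orderOf_eq_one t
    rwa [ht] at this
  have ht2 : t * t ≠ 1 := by
    intro h
    have : orderOf t ∣ 2 := orderOf_dvd_of_pow_eq_one (by rw [pow_two]; exact h)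
    rw [ht] at this
    omega
  rcases hq.exists_rep t with ⟨i, rfl⟩ | ⟨i, rfl⟩
  · have h4 : r n x i ^ 4 = r n x (2 * (2 * i)) := by
      have : r n x i ^ 4 = (r n x i * r n x i) * (r n x i * r n x i) := by
        rw [show (4 : ℕ) = 2 + 2 from rfl, pow_add, pow_two]
      rw [this, hq.r_sq, hq.r_sq]
    rw [h4, hq.r_eq_one_iff, two_mul_eq_zero_iff hq.n1] at ht4
    rw [hq.r_sq, Ne, hq.r_eq_one_iff] at ht2
    rcases ht4 with h | h
    · exact absurd h ht2
    · have h5 : 2 * (i - qq n) = 0 := by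
        have := two_qq (n := n) hq.n2
        linear_combination h - this
      rw [two_mul_eq_zero_iff hq.n1] at h5
      rcases h5 with h6 | h6
      · left; congr 1; linear_combination h6
      · right; left; congr 1; linear_combination h6
  · right; right
    refine ⟨i, ?_, rfl⟩
    rcases even_or_odd i with he | ho
    · exfalso; exact ht2 (hq.s_sq_even he)
    · exact ho

theorem isConj_s_even {i : ZMod (2 ^ n)} (hi : Even i) : IsConj y (s n x y i) := by
  obtain ⟨k, hk⟩ := exists_shift hq.hn hi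
  rw [isConj_iff]
  refine ⟨r n x k, ?_⟩
  have h := hq.r_conj_s k 0
  rw [zero_add, hk, hq.s_zero] at h
  exact h

theorem isConj_s_odd {i : ZMod (2 ^ n)} (hi : Odd i) : IsConj (s n x y 1) (s n x y i) := by
  have hd : Even (i - 1) := by
    obtain ⟨a, rfl⟩ := hi
    exact ⟨a, by ring⟩
  obtain ⟨k, hk⟩ := exists_shift hq.hn hd
  rw [isConj_iff]
  refine ⟨r n x k, ?_⟩
  rw [hq.r_conj_s, hk]
  congr 1; ring

theorem mm_qq : mm n * qq n = qq n + hh n := by
  have h1 := hh_qq hq.hn
  have h2 := two_qq (n := n) hq.n2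
  have h3 := two_hh (n := n) hq.n1
  rw [mm_eq]
  linear_combination h1 - h2 - h3

theorem isConj_rq : IsConj (r n x (qq n)) (r n x (qq n + hh n)) := by
  rw [isConj_iff]
  refine ⟨y, ?_⟩
  rw [hq.conj_r, hq.mm_qq]

theorem not_isConj_r_s [Finite S] (i j : ZMod (2 ^ n)) : ¬ IsConj (r n x i) (s n x y j) := by
  rw [isConj_iff]
  rintro ⟨c, hc⟩
  exact hq.s_not_mem j (hc ▸ hq.conj_mem_zpowers c i)

end QD

end Cfsg.Agent.Lib.Lead.QDCore
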