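import Mathlib
import Cfsg.Agent.Lib.Lead.QDCore2
import Cfsg.Agent.Lib.Lead.QuatRecog
import Cfsg.Agent.Lib.Helper1.DihedralRecognition
import Cfsg.Agent.Lib.Helper1.FrattiniP

set_option autoImplicit false

namespace Cfsg.Agent.Lib.Lead.QDCore

open Cfsg.Agent.Lib.Lead.QDArith

/-! ### Generalities on subgroups of index two -/

section IndexTwo

variable {G : Type*} [Group G]

theorem isCoatom_of_index_two {H : Subgroup G} (h : H.index = 2) : IsCoatom H := by
  constructor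
  · intro htop
    rw [htop, Subgroup.index_top] at h
    omega
  · intro K hK
    have h1 := Subgroup.relIndex_mul_index hK.le
    rw [h] at h1
    have h2 : K.index ∣ 2 := Dvd.intro_left _ h1
    have h3 : K.index = 1 ∨ K.index = 2 := by
      have := Nat.le_of_dvd (by norm_num) h2
      have hpos : K.index ≠ 0 := by
        intro h0; rw [h0, mul_zero] at h1; omega
      omega
    rcases h3 with h3 | h3
    · exact Subgroup.index_eq_one.1 h3
    · exfalso
      rw [h3] at h1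
      have h4 : H.relIndex K = 1 := by omega
      have h5 : K ≤ H := Subgroup.relIndex_eq_one.1 h4
      exact absurd (le_antisymm h5 hK.le) (ne_of_gt hK)

theorem pow_mem_iff_of_index_two {H : Subgroup G} (h : H.index = 2) (g : G) (k : ℕ) :
    g ^ k ∈ H ↔ Even k ∨ g ∈ H := by
  induction k with
  | zero => simp
  | succ k ih =>
    rw [pow_succ, Subgroup.mul_mem_iff_of_index_two h, ih]
    by_cases hg : g ∈ H
    · simp [hg]
    · simp only [hg, or_false, iff_false]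
      rw [Nat.even_add_one]

/-- The third subgroup of index two determined by two others. -/
def symmDiff (H₁ H₂ : Subgroup G) (h₁ : H₁.index = 2) (h₂ : H₂.index = 2) : Subgroup G where
  carrier := {g | g ∈ H₁ ↔ g ∈ H₂}
  one_mem' := by simp
  mul_mem' := by
    intro a b ha hb
    simp only [Set.mem_setOf_eq] at ha hb ⊢
    rw [Subgroup.mul_mem_iff_of_index_two h₁, Subgroup.mul_mem_iff_of_index_two h₂, ha, hb]
  inv_mem' := by
    intro a ha
    simp only [Set.mem_setOf_eq] at ha ⊢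
    rw [inv_mem_iff, inv_mem_iff, ha]

theorem mem_symmDiff {H₁ H₂ : Subgroup G} (h₁ : H₁.index = 2) (h₂ : H₂.index = 2) (g : G) :
    g ∈ symmDiff H₁ H₂ h₁ h₂ ↔ (g ∈ H₁ ↔ g ∈ H₂) := Iff.rfl

theorem index_symmDiff {H₁ H₂ : Subgroup G} (h₁ : H₁.index = 2) (h₂ : H₂.index = 2)
    {a : G} (ha₁ : a ∈ H₁) (ha₂ : a ∉ H₂) : (symmDiff H₁ H₂ h₁ h₂).index = 2 := by
  rw [Subgroup.index_eq_two_iff]
  refine ⟨a, fun b => ?_⟩
  rw [mem_symmDiff, mem_symmDiff, Subgroup.mul_mem_iff_of_index_two h₁,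
    Subgroup.mul_mem_iff_of_index_two h₂]
  simp only [ha₁, ha₂, iff_true, iff_false]
  by_cases hb1 : b ∈ H₁ <;> by_cases hb2 : b ∈ H₂ <;> simp [hb1, hb2, Xor']

end IndexTwo

variable {S : Type*} [Group S]

namespace QD

variable {n : ℕ} {x y : S} (hq : QD S n x y)
include hq

/-- The dihedral maximal subgroup. -/
def D : Subgroup S where
  carrier := {g | ∃ i, Even i ∧ (g = r n x i ∨ g = s n x y i)}
  one_mem' := ⟨0, ⟨0, by ring⟩, Or.inl hq.r_zero.symm⟩
  mul_mem' := by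
    rintro a b ⟨i, hi, rfl | rfl⟩ ⟨j, hj, rfl | rfl⟩
    · exact ⟨i + j, hi.add hj, Or.inl (hq.r_add i j).symm⟩
    · exact ⟨i + j, hi.add hj, Or.inr (hq.r_mul_s i j)⟩
    · exact ⟨i + mm n * j, hi.add (even_mul_left _ hj), Or.inr (hq.s_mul_r i j)⟩
    · exact ⟨i + mm n * j, hi.add (even_mul_left _ hj), Or.inl (hq.s_mul_s i j)⟩
  inv_mem' := by
    rintro a ⟨i, hi, rfl | rfl⟩
    · exact ⟨-i, hi.neg, Or.inl (hq.r_neg i).symm⟩
    · exact ⟨-(mm n * i), (even_mul_left _ hi).neg, Or.inr (hq.s_inv i)⟩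

theorem mem_D_r (i : ZMod (2 ^ n)) : r n x i ∈ hq.D ↔ Even i := by
  constructor
  · rintro ⟨j, hj, h | h⟩
    · rw [hq.r_inj h]; exact hj
    · exact absurd h.symm (hq.s_ne_r j i)
  · intro hi; exact ⟨i, hi, Or.inl rfl⟩

theorem mem_D_s (i : ZMod (2 ^ n)) : s n x y i ∈ hq.D ↔ Even i := by
  constructor
  · rintro ⟨j, hj, h | h⟩
    · exact absurd h (hq.s_ne_r i j)
    · rw [hq.s_inj h]; exact hj
  · intro hi; exact ⟨i, hi, Or.inr rfl⟩

theorem index_D [Finite S] : hq.D.index = 2 := by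
  rw [Subgroup.index_eq_two_iff]
  refine ⟨x, fun b => ?_⟩
  have hodd : ∀ i : ZMod (2 ^ n), Xor' (Even (i + 1)) (Even i) := by
    intro i
    rcases even_or_odd i with he | ho
    · right
      refine ⟨he, fun h => not_even_and_odd hq.n1 (i + 1) ⟨h, ?_⟩⟩
      obtain ⟨a, rfl⟩ := he
      exact ⟨a, by ring⟩
    · left
      refine ⟨?_, fun h => not_even_and_odd hq.n1 i ⟨h, ho⟩⟩
      obtain ⟨a, rfl⟩ := ho
      exact ⟨a + 1, by ring⟩
  rcases hq.exists_rep b with ⟨i, rfl⟩ | ⟨i, rfl⟩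
  · have : r n x i * x = r n x (i + 1) := by rw [hq.r_add, hq.r_one]
    rw [this, hq.mem_D_r, hq.mem_D_r]
    exact hodd i
  · have : s n x y i * x = s n x y (i + mm n) := by
      have := hq.s_mul_r i 1
      rwa [hq.r_one, mul_one] at this
    rw [this, hq.mem_D_s, hq.mem_D_s]
    have h1 := hodd (i + hh n - 2)
    have e1 : i + hh n - 2 + 1 = i + mm n := by rw [mm_eq]; ring
    rw [e1] at h1
    have h2 : Even (i + hh n - 2) ↔ Even i := by
      obtain ⟨a, ha⟩ := even_hh hq.n2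
      constructor
      · rintro ⟨b, hb⟩
        exact ⟨b - a + 1, by linear_combination hb - ha⟩
      · rintro ⟨b, hb⟩
        exact ⟨b + a - 1, by linear_combination hb + ha⟩
    rwa [h2] at h1

/-- The quaternion maximal subgroup. -/
noncomputable def Q [Finite S] : Subgroup S :=
  symmDiff (Subgroup.zpowers x) hq.D hq.index_zpowers hq.index_D

theorem x_not_mem_D : x ∉ hq.D := by
  have h1 := hq.mem_D_r 1
  rw [hq.r_one] at h1
  rw [h1]
  intro h
  exact not_even_and_odd hq.n1 1 ⟨h, odd_one⟩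

theorem y_mem_D : y ∈ hq.D := by
  have h1 := hq.mem_D_s 0
  rw [hq.s_zero] at h1
  rw [h1]; exact ⟨0, by ring⟩

theorem index_Q [Finite S] : hq.Q.index = 2 :=
  index_symmDiff _ _ (Subgroup.mem_zpowers x) hq.x_not_mem_D

theorem mem_Q_r [Finite S] (i : ZMod (2 ^ n)) : r n x i ∈ hq.Q ↔ Even i := by
  unfold Q
  rw [mem_symmDiff, hq.mem_D_r]
  simp [hq.r_mem i]

theorem mem_Q_s [Finite S] (i : ZMod (2 ^ n)) : s n x y i ∈ hq.Q ↔ Odd i := by
  unfold Q
  rw [mem_symmDiff, hq.mem_D_s, odd_iff_not_even hq.n1]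
  simp [hq.s_not_mem i]

theorem even_val_iff (i : ZMod (2 ^ n)) : Even i.val ↔ Even i := by
  have hi : ((i.val : ℕ) : ZMod (2 ^ n)) = i := ZMod.natCast_zmod_val i
  constructor
  · rintro ⟨k, hk⟩
    refine ⟨(k : ZMod (2 ^ n)), ?_⟩
    rw [← hi, hk]; push_cast; ring
  · intro he
    by_contra hne
    rw [Nat.not_even_iff_odd] at hne
    obtain ⟨k, hk⟩ := hne
    apply not_even_and_odd hq.n1 i
    refine ⟨he, (k : ZMod (2 ^ n)), ?_⟩
    rw [← hi, hk]; push_cast; ring

/-- Classification of the subgroups of index two. -/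
theorem index_two_cases [Finite S] (M : Subgroup S) (hM : M.index = 2) :
    M = Subgroup.zpowers x ∨ M = hq.D ∨ M = hq.Q := by
  have hr : ∀ i, r n x i ∈ M ↔ Even i ∨ x ∈ M := by
    intro i
    unfold r
    rw [pow_mem_iff_of_index_two hM, hq.even_val_iff]
  have hs : ∀ i, s n x y i ∈ M ↔ (r n x i ∈ M ↔ y ∈ M) := by
    intro i
    rw [s_eq, Subgroup.mul_mem_iff_of_index_two hM]
  by_cases hx : x ∈ M
  · by_cases hy : y ∈ M
    · exfalso
      have : M = ⊤ := by
        rw [eq_top_iff]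
        intro g _
        rcases hq.exists_rep g with ⟨i, rfl⟩ | ⟨i, rfl⟩
        · rw [hr]; exact Or.inr hx
        · rw [hs, hr]; simp [hx, hy]
      rw [this, Subgroup.index_top] at hM
      omega
    · left
      ext g
      rcases hq.exists_rep g with ⟨i, rfl⟩ | ⟨i, rfl⟩
      · rw [hr]; simp [hx, hq.r_mem i]
      · rw [hs, hr]; simp [hx, hy, hq.s_not_mem i]
  · by_cases hy : y ∈ M
    · right; left
      ext g
      rcases hq.exists_rep g with ⟨i, rfl⟩ | ⟨i, rfl⟩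
      · rw [hr, hq.mem_D_r]; simp [hx]
      · rw [hs, hr, hq.mem_D_s]; simp [hx, hy]
    · right; right
      ext g
      rcases hq.exists_rep g with ⟨i, rfl⟩ | ⟨i, rfl⟩
      · rw [hr, hq.mem_Q_r]; simp [hx]
      · rw [hs, hr, hq.mem_Q_s, odd_iff_not_even hq.n1]; simp [hx, hy]

theorem isPGroup [Finite S] : IsPGroup 2 S := IsPGroup.of_card hq.card

theorem coatom_cases [Finite S] (M : Subgroup S) (hM : IsCoatom M) :
    M = Subgroup.zpowers x ∨ M = hq.D ∨ M = hq.Q := by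
  haveI : Fact (Nat.Prime 2) := ⟨Nat.prime_two⟩
  exact hq.index_two_cases M (Cfsg.Agent.Lib.Helper1.index_eq_prime_of_isCoatom 2 hq.isPGroup M hM)

theorem zpowers_ne_D : Subgroup.zpowers x ≠ hq.D := by
  intro h
  exact hq.x_not_mem_D (h ▸ Subgroup.mem_zpowers x)

theorem zpowers_ne_Q [Finite S] : Subgroup.zpowers x ≠ hq.Q := by
  intro h
  have h1 : x ∈ hq.Q := h ▸ Subgroup.mem_zpowers x
  have h2 := hq.mem_Q_r 1
  rw [hq.r_one] at h2
  rw [h2] at h1
  exact not_even_and_odd hq.n1 1 ⟨h1, odd_one⟩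

theorem D_ne_Q [Finite S] : hq.D ≠ hq.Q := by
  intro h
  have h1 : y ∈ hq.Q := h ▸ hq.y_mem_D
  have h2 := hq.mem_Q_s 0
  rw [hq.s_zero] at h2
  rw [h2] at h1
  exact not_even_and_odd hq.n1 0 ⟨⟨0, by ring⟩, h1⟩

end QD

end Cfsg.Agent.Lib.Lead.QDCore
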