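import Mathlib
import Cfsg.Agent.Lib.Lead.QDMax

set_option autoImplicit false

namespace Cfsg.Agent.Lib.Lead.QDCore

open Cfsg.Agent.Lib.Lead.QDArith

variable {S : Type*} [Group S]

namespace QD

variable {n : ℕ} {x y : S} (hq : QD S n x y)
include hq

theorem r_pow (i : ZMod (2 ^ n)) (k : ℕ) : r n x i ^ k = r n x ((k : ZMod (2 ^ n)) * i) := by
  induction k with
  | zero => simp [hq.r_zero]
  | succ k ih =>
    rw [pow_succ, ih, ← hq.r_add]
    congr 1; push_cast; ring

theorem orderOf_r_two : orderOf (r n x 2) = 2 ^ (n - 1) := by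
  have h2 : r n x 2 = x ^ 2 := by
    have := hq.r_natCast 2
    simpa using this
  rw [h2, orderOf_pow' x (by norm_num), hq.ox]
  have hn := hq.n1
  have h3 : 2 ^ n = 2 * 2 ^ (n - 1) := by
    rw [← pow_succ']; congr 1; omega
  have hg : Nat.gcd (2 ^ n) 2 = 2 := by
    rw [h3]; exact Nat.gcd_mul_right_left _ _
  rw [hg, h3, Nat.mul_div_cancel_left _ (by norm_num)]

theorem mm_two : mm n * 2 = -2 := by
  have := two_hh (n := n) hq.n1
  rw [mm_eq]
  linear_combination this

theorem card_of_index_two [Finite S] (M : Subgroup S) (hM : M.index = 2) :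
    Nat.card M = 2 ^ n := by
  have h1 := M.card_mul_index
  rw [hM, hq.card, pow_succ] at h1
  exact Nat.eq_of_mul_eq_mul_right (by norm_num) h1

theorem r_two_mem_D : r n x 2 ∈ hq.D := by
  rw [hq.mem_D_r]; exact ⟨1, by ring⟩

theorem r_two_mem_Q [Finite S] : r n x 2 ∈ hq.Q := by
  rw [hq.mem_Q_r]; exact ⟨1, by ring⟩

theorem s_one_mem_Q [Finite S] : s n x y 1 ∈ hq.Q := by
  rw [hq.mem_Q_s]; exact odd_one

theorem zpowers_r_two_le : Subgroup.zpowers (r n x 2) ≤ Subgroup.zpowers x := by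
  rw [Subgroup.zpowers_le]; exact hq.r_mem 2

theorem D_iso [Finite S] : Nonempty (hq.D ≃* DihedralGroup (2 ^ (n - 1))) := by
  haveI : NeZero (2 ^ (n - 1)) := ⟨by positivity⟩
  let a : hq.D := ⟨r n x 2, hq.r_two_mem_D⟩
  let b : hq.D := ⟨y, hq.y_mem_D⟩
  apply Cfsg.Agent.Lib.Helper1.nonempty_mulEquiv_dihedralGroup (2 ^ (n - 1)) a b
  · rw [Subgroup.orderOf_mk]; exact hq.orderOf_r_two
  · intro hb
    obtain ⟨k, hk⟩ := hb
    have h1 := congrArg Subtype.val hk
    simp only [a, b, Subgroup.coe_zpow] at h1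
    apply hq.y_not_mem
    rw [← h1]
    exact hq.zpowers_r_two_le (Subgroup.zpow_mem_zpowers _ k)
  · apply Subtype.ext
    simp only [b, Subgroup.coe_mul, Subgroup.coe_one]
    exact hq.y_sq
  · apply Subtype.ext
    simp only [a, b, Subgroup.coe_mul, Subgroup.coe_inv]
    rw [hq.conj_r, hq.mm_two, hq.r_neg]
  · rw [hq.card_of_index_two _ hq.index_D, ← pow_succ']
    congr 1; have := hq.n1; omega

theorem Q_iso [Finite S] : Nonempty (hq.Q ≃* QuaternionGroup (2 ^ (n - 2))) := by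
  haveI : NeZero (2 ^ (n - 2)) := ⟨by positivity⟩
  let a : hq.Q := ⟨r n x 2, hq.r_two_mem_Q⟩
  let b : hq.Q := ⟨s n x y 1, hq.s_one_mem_Q⟩
  have hn := hq.n2
  apply Cfsg.Agent.Lib.Lead.QuatRecog.nonempty_mulEquiv_quaternionGroup (2 ^ (n - 2)) a b
  · rw [Subgroup.orderOf_mk, hq.orderOf_r_two, ← pow_succ']
    congr 1; omega
  · intro hb
    obtain ⟨k, hk⟩ := hb
    have h1 := congrArg Subtype.val hk
    simp only [a, b, Subgroup.coe_zpow] at h1
    apply hq.s_not_mem 1
    rw [← h1]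
    exact hq.zpowers_r_two_le (Subgroup.zpow_mem_zpowers _ k)
  · apply Subtype.ext
    simp only [a, b, Subgroup.coe_mul, Subgroup.coe_pow]
    rw [hq.s_sq_odd odd_one, hq.r_pow]
    congr 1
    have := two_qq (n := n) hn
    unfold qq at this
    rw [← this]; ring
  · apply Subtype.ext
    simp only [a, b, Subgroup.coe_mul, Subgroup.coe_inv]
    rw [hq.s_conj_r, hq.mm_two, hq.r_neg]
  · rw [hq.card_of_index_two _ hq.index_Q]
    have : (4 : ℕ) = 2 ^ 2 := by norm_num
    rw [this, ← pow_add]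
    congr 1; omega

end QD

end Cfsg.Agent.Lib.Lead.QDCore
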