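import Mathlib
import Cfsg.Agent.Lib.Lead.QDIso

set_option autoImplicit false

namespace Cfsg.Agent.Lib.Lead.QDCore

open Cfsg.Agent.Lib.Lead.QDArith
open scoped commutatorElement

variable {S : Type*} [Group S]

namespace QD

variable {n : ℕ} {x y : S} (hq : QD S n x y)
include hq

theorem mem_R2_iff (g : S) :
    g ∈ Subgroup.zpowers (r n x 2) ↔ ∃ i, Even i ∧ g = r n x i := by
  constructor
  · intro hg
    have h1 : g ∈ Subgroup.zpowers x := hq.zpowers_r_two_le hg
    have h2 : g ∈ hq.D := by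
      have : Subgroup.zpowers (r n x 2) ≤ hq.D := by
        rw [Subgroup.zpowers_le]; exact hq.r_two_mem_D
      exact this hg
    obtain ⟨i, rfl⟩ := hq.exists_r_of_mem h1
    exact ⟨i, (hq.mem_D_r i).1 h2, rfl⟩
  · rintro ⟨i, ⟨a, rfl⟩, rfl⟩
    have : r n x (a + a) = r n x 2 ^ a.val := by
      rw [hq.r_pow, ZMod.natCast_zmod_val]; congr 1; ring
    rw [this]
    exact Subgroup.pow_mem _ (Subgroup.mem_zpowers _) _

theorem frattini_eq [Finite S] : frattini S = Subgroup.zpowers (r n x 2) := by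
  apply le_antisymm
  · intro g hg
    have h1 := frattini_le_coatom (isCoatom_of_index_two hq.index_zpowers) hg
    have h2 := frattini_le_coatom (isCoatom_of_index_two hq.index_D) hg
    obtain ⟨i, rfl⟩ := hq.exists_r_of_mem h1
    exact (hq.mem_R2_iff _).2 ⟨i, (hq.mem_D_r i).1 h2, rfl⟩
  · unfold frattini Order.radical
    apply le_iInf₂
    intro M hM
    intro g hg
    obtain ⟨i, hi, rfl⟩ := (hq.mem_R2_iff g).1 hg
    rcases hq.coatom_cases M hM with h | h | h
    · rw [h]; exact hq.r_mem i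
    · rw [h]; exact (hq.mem_D_r i).2 hi
    · rw [h]; exact (hq.mem_Q_r i).2 hi

theorem commutator_eq [Finite S] : commutator S = Subgroup.zpowers (r n x 2) := by
  haveI : Fact (Nat.Prime 2) := ⟨Nat.prime_two⟩
  apply le_antisymm
  · rw [← hq.frattini_eq]
    exact Cfsg.Agent.Lib.Helper1.commutator_le_frattini_of_isPGroup 2 hq.isPGroup
  · rw [Subgroup.zpowers_le]
    have h1 : ⁅y, x⁆ ∈ commutator S := by
      rw [commutator_def]
      exact Subgroup.commutator_mem_commutator (Subgroup.mem_top y) (Subgroup.mem_top x)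
    have h2 : ⁅y, x⁆ = r n x (mm n - 1) := by
      rw [commutatorElement_def]
      have h3 := hq.conj_r 1
      rw [hq.r_one, mul_one] at h3
      have hx1 : x⁻¹ = r n x (-1) := by rw [hq.r_neg, hq.r_one]
      rw [h3, hx1, ← hq.r_add]
      congr 1; ring
    obtain ⟨k, hk⟩ := exists_shift hq.hn (d := -2) ⟨-1, by ring⟩
    have h4 : r n x 2 = r n x (mm n - 1) ^ k.val := by
      rw [hq.r_pow, ZMod.natCast_zmod_val]
      congr 1
      linear_combination hk
    rw [h4]
    exact Subgroup.pow_mem _ (h2 ▸ h1) _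

theorem mm_hh : mm n * hh n = hh n := by
  have h1 := hh_sq hq.n2
  have h2 := two_hh (n := n) hq.n1
  rw [mm_eq]; linear_combination h1 - h2

theorem rh_mem_center [Finite S] : r n x (hh n) ∈ Subgroup.center S := by
  rw [Subgroup.mem_center_iff]
  intro g
  rcases hq.exists_rep g with ⟨i, rfl⟩ | ⟨i, rfl⟩
  · rw [← hq.r_add, ← hq.r_add, add_comm]
  · rw [hq.s_mul_r, hq.r_mul_s, hq.mm_hh, add_comm]

theorem mm_ne_one : mm n ≠ 1 := by
  intro h4
  have h5 := hq.mm_qq
  rw [h4, one_mul] at h5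
  have h6 : hh n = 0 := by linear_combination -h5
  exact hh_ne_zero hq.n1 h6

/-- `r i` commutes with `y` only for `i ∈ {0, h}`. -/
theorem r_comm_y_iff (i : ZMod (2 ^ n)) : y * r n x i = r n x i * y ↔ i = 0 ∨ i = hh n := by
  constructor
  · intro h1
    have h2 : r n x (mm n * i) = r n x i := by
      rw [← hq.conj_r, h1, mul_inv_cancel_right]
    have h3 := hq.r_inj h2
    obtain ⟨k, hk⟩ := exists_shift hq.hn (d := 2) ⟨1, by ring⟩
    have h4 : 2 * i = 0 := by
      linear_combination (-k) * h3 + (-i) * hk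
    exact (two_mul_eq_zero_iff hq.n1 i).1 h4
  · rintro (rfl | rfl)
    · rw [hq.r_zero, mul_one, one_mul]
    · rw [hq.y_mul_r, hq.mm_hh]

theorem center_eq [Finite S] : Subgroup.center S = Subgroup.zpowers (r n x (hh n)) := by
  apply le_antisymm
  · intro g hg
    rw [Subgroup.mem_center_iff] at hg
    rcases hq.exists_rep g with ⟨i, rfl⟩ | ⟨i, rfl⟩
    · rcases (hq.r_comm_y_iff i).1 (hg y) with h5 | h5
      · rw [h5, hq.r_zero]; exact one_mem _
      · rw [h5]; exact Subgroup.mem_zpowers _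
    · exfalso
      have h1 := hg x
      have h2 : s n x y (1 + i) = s n x y (i + mm n) := by
        have h3 := hq.s_mul_r i 1
        have h4 := hq.r_mul_s 1 i
        rw [hq.r_one] at h3 h4
        rw [mul_one] at h3
        rw [← h3, ← h4, h1]
      have h3 := hq.s_inj h2
      exact hq.mm_ne_one (by linear_combination -h3)
  · rw [Subgroup.zpowers_le]; exact hq.rh_mem_center

theorem closure_invol_eq [Finite S] : Subgroup.closure {t : S | orderOf t = 2} = hq.D := by
  apply le_antisymm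
  · rw [Subgroup.closure_le]
    intro t ht
    rcases hq.involution_cases ht with h | ⟨i, hi, h⟩
    · rw [h]; exact (hq.mem_D_r _).2 (even_hh hq.n2)
    · rw [h]; exact (hq.mem_D_s _).2 hi
  · rintro g ⟨i, hi, rfl | rfl⟩
    · have : r n x i = s n x y i * s n x y 0 := by
        rw [hq.s_mul_s, mul_zero, add_zero]
      rw [this]
      apply Subgroup.mul_mem
      · exact Subgroup.subset_closure (hq.orderOf_s_even hi)
      · exact Subgroup.subset_closure (hq.orderOf_s_even ⟨0, by ring⟩)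
    · exact Subgroup.subset_closure (hq.orderOf_s_even hi)

theorem odd_val {i : ZMod (2 ^ n)} (hi : Odd i) : Odd i.val := by
  rw [← Nat.not_even_iff_odd, hq.even_val_iff]
  intro he
  exact not_even_and_odd hq.n1 i ⟨he, hi⟩

theorem exists_inv_of_odd {i : ZMod (2 ^ n)} (hi : Odd i) : ∃ j, i * j = 1 := by
  have h1 : Nat.Coprime i.val (2 ^ n) := by
    apply Nat.Coprime.pow_right
    rw [Nat.coprime_two_right]
    exact hq.odd_val hi
  have h2 : IsUnit ((i.val : ℕ) : ZMod (2 ^ n)) := (ZMod.isUnit_iff_coprime _ _).2 h1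
  rw [ZMod.natCast_zmod_val] at h2
  obtain ⟨u, hu⟩ := h2
  exact ⟨((u⁻¹ : (ZMod (2 ^ n))ˣ) : ZMod (2 ^ n)), by rw [← hu]; exact Units.mul_inv u⟩

theorem x_mem_zpowers_of_odd {i : ZMod (2 ^ n)} (hi : Odd i) :
    x ∈ Subgroup.zpowers (r n x i) := by
  obtain ⟨j, hj⟩ := hq.exists_inv_of_odd hi
  have : x = r n x i ^ j.val := by
    rw [hq.r_pow, ZMod.natCast_zmod_val, mul_comm, hj, hq.r_one]
  have h : r n x i ^ j.val ∈ Subgroup.zpowers (r n x i) :=
    Subgroup.pow_mem _ (Subgroup.mem_zpowers _) _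
  rwa [← this] at h

end QD

end Cfsg.Agent.Lib.Lead.QDCore
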