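import Mathlib
import Cfsg.Prelude.Def_CaseTheorems
import Cfsg.Agent.Lib.Lead.UniqueP
import Cfsg.Agent.Lib.Helper2.GLTwoQD
import Cfsg.Agent.Lib.Helper2.WRJ

set_option autoImplicit false

/-!
# `p`-groups acting linearly and transitively on the non-zero vectors of a space over a prime field
-/

namespace Cfsg.Agent.Lib.Lead.PTrans

open Matrix

/-! ### Number theory -/

theorem odd_pow_sub (x : ℕ) (hx : Odd x) (j : ℕ) :
    ∃ T : ℕ, Odd T ∧ x ^ (2 * j + 1) = (x - 1) * T + 1 := by
  obtain ⟨m, rfl⟩ := hx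
  have hx1 : 2 * m + 1 - 1 = 2 * m := by omega
  rw [hx1]
  induction j with
  | zero => exact ⟨1, odd_one, by ring⟩
  | succ j ih =>
    obtain ⟨T, hT, h⟩ := ih
    refine ⟨(2 * m + 1) ^ 2 * T + (2 * m + 2), ?_, ?_⟩
    · exact Odd.add_even (Odd.mul (Odd.pow ⟨m, rfl⟩) hT) ⟨m + 1, by ring⟩
    · have e : 2 * (j + 1) + 1 = (2 * j + 1) + 2 := by ring
      rw [e, pow_add, h]
      ring

theorem odd_pow_add (x : ℕ) (hx : Odd x) (j : ℕ) :
    ∃ S : ℕ, Odd S ∧ x ^ (2 * j + 1) + 1 = (x + 1) * S := by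
  obtain ⟨m, rfl⟩ := hx
  induction j with
  | zero => exact ⟨1, odd_one, by ring⟩
  | succ j ih =>
    obtain ⟨S, hS, h⟩ := ih
    obtain ⟨s, rfl⟩ := hS
    refine ⟨8 * m ^ 2 * s + 8 * m * s + 2 * s + 4 * m ^ 2 + 2 * m + 1, ?_, ?_⟩
    · exact ⟨4 * m ^ 2 * s + 4 * m * s + s + 2 * m ^ 2 + m, by ring⟩
    · have e : 2 * (j + 1) + 1 = (2 * j + 1) + 2 := by ring
      rw [e, pow_add]
      zify at h ⊢
      linear_combination (2 * (m : ℤ) + 1) ^ 2 * h

theorem nt {q p n k : ℕ} (hq : q.Prime) (hp : p.Prime) (hn : 1 ≤ n) (hk : 1 ≤ k)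
    (h : q ^ n = p ^ k + 1) :
    (q = 2 ∧ k = 1) ∨ (p = 2 ∧ n = 1) ∨ (p = 2 ∧ q = 3 ∧ n = 2) := by
  by_cases hq2 : q = 2
  · left
    refine ⟨hq2, ?_⟩
    subst hq2
    have hpodd : Odd p := by
      rcases hp.eq_two_or_odd' with rfl | ho
      · exfalso
        have h1 : Even (2 ^ n) := Nat.even_pow.2 ⟨even_two, by omega⟩
        have h2 : Even (2 ^ k) := Nat.even_pow.2 ⟨even_two, by omega⟩
        rw [h] at h1
        exact (Nat.even_add_one.1 h1) h2
      · exact ho
    rcases Nat.even_or_odd' k with ⟨r, rfl | rfl⟩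
    · exfalso
      have hr : r ≠ 0 := by omega
      have hpr : Odd (p ^ r) := hpodd.pow
      obtain ⟨u, hu⟩ := hpr
      have h4 : 2 ^ n = 4 * (u * u + u) + 2 := by
        rw [h, pow_mul', hu]; ring
      rcases Nat.lt_or_ge n 2 with hlt | hge
      · have hn1 : n = 1 := by omega
        subst hn1
        have h5 : u * u + u = 0 := by omega
        have h6 : u = 0 := by
          rcases Nat.eq_zero_or_pos u with h0 | hpos
          · exact h0
          · exfalso
            have : 0 < u * u + u := by positivity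
            omega
        subst h6
        have h7 : 1 < p ^ r := Nat.one_lt_pow hr hp.one_lt
        omega
      · have h5 : 2 ^ 2 ∣ 2 ^ n := pow_dvd_pow 2 hge
        rw [h4] at h5
        omega
    · obtain ⟨S, hS, hSe⟩ := odd_pow_add p hpodd r
      have hdvd : S ∣ 2 ^ n := ⟨p + 1, by rw [h, hSe, mul_comm]⟩
      obtain ⟨i, _, rfl⟩ := (Nat.dvd_prime_pow Nat.prime_two).1 hdvd
      have hi : i = 0 := by
        by_contra hi
        exact (Nat.not_even_iff_odd.2 hS) (Nat.even_pow.2 ⟨even_two, hi⟩)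
      subst hi
      have h8 : p ^ (2 * r + 1) = p ^ 1 := by
        rw [pow_one]
        rw [pow_zero, mul_one] at hSe
        omega
      exact Nat.pow_right_injective hp.two_le h8
  · right
    have hqodd : Odd q := hq.eq_two_or_odd'.resolve_left hq2
    have hp2 : p = 2 := by
      have h1 : Odd (q ^ n) := hqodd.pow
      rw [h] at h1
      have h2 : Even (p ^ k) := by
        rcases Nat.even_or_odd (p ^ k) with he | ho
        · exact he
        · exact absurd (ho.add_odd odd_one) (Nat.not_even_iff_odd.2 h1)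
      have h3 : Even p := (Nat.even_pow.1 h2).1
      exact (Nat.Prime.even_iff hp).1 h3
    subst hp2
    have hq3 : 3 ≤ q := by
      have := hq.two_le
      omega
    rcases Nat.even_or_odd' n with ⟨r, rfl | rfl⟩
    · right
      have hr : r ≠ 0 := by omega
      have hqr : Odd (q ^ r) := hqodd.pow
      have hqr3 : 3 ≤ q ^ r := le_trans hq3 (Nat.le_self_pow hr q)
      obtain ⟨b, hb⟩ : ∃ b, q ^ r = b + 1 := ⟨q ^ r - 1, by omega⟩
      have hsq : (b + 1) * (b + 1) = 2 ^ k + 1 := by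
        rw [← hb, ← h, pow_mul', pow_two]
      have hprod : b * (b + 2) = 2 ^ k := by
        have : (b + 1) * (b + 1) = b * (b + 2) + 1 := by ring
        linarith
      have hd1 : b ∣ 2 ^ k := ⟨b + 2, hprod.symm⟩
      have hd2 : b + 2 ∣ 2 ^ k := ⟨b, by rw [← hprod, mul_comm]⟩
      obtain ⟨i, _, hi⟩ := (Nat.dvd_prime_pow Nat.prime_two).1 hd1
      obtain ⟨j, _, hj⟩ := (Nat.dvd_prime_pow Nat.prime_two).1 hd2
      have hb3 : b = 2 := by
        rcases Nat.lt_or_ge i 2 with hlt | hge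
        · interval_cases i
          · exfalso
            obtain ⟨u, hu⟩ := hqr
            rw [pow_zero] at hi
            omega
          · rw [pow_one] at hi
            exact hi
        · exfalso
          have h5 : 2 ^ 2 ∣ 2 ^ i := pow_dvd_pow 2 hge
          rw [← hi] at h5
          have hj2 : 2 ≤ j := by
            by_contra hlt
            have hj' : j < 2 := by omega
            interval_cases j
            · rw [pow_zero] at hj; omega
            · rw [pow_one] at hj; omega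
          have h6 : 2 ^ 2 ∣ 2 ^ j := pow_dvd_pow 2 hj2
          rw [← hj] at h6
          omega
      subst hb3
      have h9 : q ^ r = 3 := hb
      obtain ⟨h10, h11⟩ := (Nat.Prime.pow_eq_iff Nat.prime_three).1 h9
      exact ⟨rfl, h10, by omega⟩
    · left
      refine ⟨rfl, ?_⟩
      obtain ⟨T, hT, hTe⟩ := odd_pow_sub q hqodd r
      have hprod : (q - 1) * T = 2 ^ k := by omega
      have hdvd : T ∣ 2 ^ k := ⟨q - 1, by rw [← hprod, mul_comm]⟩
      obtain ⟨i, _, rfl⟩ := (Nat.dvd_prime_pow Nat.prime_two).1 hdvd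
      have hi : i = 0 := by
        by_contra hi
        exact (Nat.not_even_iff_odd.2 hT) (Nat.even_pow.2 ⟨even_two, hi⟩)
      subst hi
      have h8 : q ^ (2 * r + 1) = q ^ 1 := by
        rw [pow_one]
        rw [pow_zero, mul_one] at hTe
        omega
      have := Nat.pow_right_injective hq.two_le h8
      exact this

/-! ### The stabilizer of a vector -/

section Stab

variable {R : Type*} [Semiring R] {V : Type*} [AddCommMonoid V] [Module R V]
  {G : Type*} [Group G]

/-- The stabilizer in `G` of a vector. -/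
def stab (ρ : G →* (V ≃ₗ[R] V)) (v : V) : Subgroup G :=
  (MulAction.stabilizer (V ≃ₗ[R] V) v).comap ρ

theorem mem_stab {ρ : G →* (V ≃ₗ[R] V)} {v : V} {g : G} : g ∈ stab ρ v ↔ ρ g v = v :=
  Iff.rfl

end Stab

section Lin

variable {q : ℕ} [Fact q.Prime] {V : Type*} [AddCommGroup V] [Module (ZMod q) V] [Finite V]
  {G : Type*} [Group G] [Finite G]

theorem index_stab (ρ : G →* (V ≃ₗ[ZMod q] V))
    (htrans : ∀ v w : V, v ≠ 0 → w ≠ 0 → ∃ g : G, ρ g v = w) {v0 : V} (hv0 : v0 ≠ 0) :
    (stab ρ v0).index = Nat.card V - 1 := by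
  letI : MulAction G V := MulAction.compHom V ρ
  have hst : stab ρ v0 = MulAction.stabilizer G v0 := by
    ext g; exact Iff.rfl
  rw [hst, MulAction.index_stabilizer]
  have horb : MulAction.orbit G v0 = ({0} : Set V)ᶜ := by
    ext w
    rw [MulAction.mem_orbit_iff, Set.mem_compl_iff, Set.mem_singleton_iff]
    constructor
    · rintro ⟨g, rfl⟩ h0
      apply hv0
      have h1 : ρ g v0 = 0 := h0
      exact (ρ g).map_eq_zero_iff.1 h1
    · intro hw
      obtain ⟨g, hg⟩ := htrans v0 w hv0 hw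
      exact ⟨g, hg⟩
  rw [horb, Set.ncard_compl, Set.ncard_singleton]

theorem card_dvd_factorial (ρ : G →* (V ≃ₗ[ZMod q] V)) (hρ : Function.Injective ρ) :
    Nat.card G ∣ (Nat.card V).factorial := by
  let f : G →* Equiv.Perm V := (MulAction.toPermHom (V ≃ₗ[ZMod q] V) V).comp ρ
  have hf : Function.Injective f := by
    intro g h hgh
    apply hρ
    ext v
    have h1 := congrArg (fun σ : Equiv.Perm V => σ v) hgh
    exact h1
  have h2 := Subgroup.card_dvd_of_injective f hf
  rwa [Nat.card_perm] at h2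

/-- Case `q = 2`. -/
theorem caseA (p : ℕ) [hp : Fact p.Prime] (hG : IsPGroup p G)
    (ρ : G →* (V ≃ₗ[ZMod q] V)) (hρ : Function.Injective ρ)
    (hN : Nat.card V - 1 = p) {v0 : V} (hidx : (stab ρ v0).index = p) :
    Nat.card G = p := by
  have hpp := hp.out
  obtain ⟨a, ha⟩ := IsPGroup.iff_card.1 hG
  have h1 : p ∣ Nat.card G := by
    have := Subgroup.index_dvd_card (stab ρ v0)
    rwa [hidx] at this
  have h2 : Nat.card G ∣ (p + 1).factorial := by
    have h3 := card_dvd_factorial ρ hρ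
    have h4 : Nat.card V = p + 1 := by
      have : 0 < Nat.card V := Nat.card_pos
      have := hpp.two_le
      omega
    rwa [h4] at h3
  rcases a with _ | _ | a
  · exfalso
    rw [pow_zero] at ha
    rw [ha] at h1
    have := Nat.le_of_dvd one_pos h1
    have := hpp.two_le
    omega
  · rw [ha]; simp
  · exfalso
    have h3 : p ^ 2 ∣ (p + 1).factorial := by
      refine dvd_trans ?_ h2
      rw [ha]
      exact pow_dvd_pow p (by omega)
    obtain ⟨c, rfl⟩ : ∃ c, p = c + 1 := ⟨p - 1, by have := hpp.two_le; omega⟩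
    rw [Nat.factorial_succ, Nat.factorial_succ, pow_two] at h3
    have h4 : (c + 1) ∣ (c + 1 + 1) * c.factorial := by
      have h5 : (c + 1) * (c + 1) ∣ (c + 1) * ((c + 1 + 1) * c.factorial) := by
        have e : (c + 1) * ((c + 1 + 1) * c.factorial) =
            (c + 1 + 1) * ((c + 1) * c.factorial) := by ring
        rw [e]; exact h3
      exact Nat.dvd_of_mul_dvd_mul_left (by omega) h5
    rcases (Nat.Prime.dvd_mul hpp).1 h4 with h5 | h5
    · have h6 : (c + 1) ∣ 1 := (Nat.dvd_add_right (dvd_refl (c + 1))).1 h5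
      have := Nat.le_of_dvd one_pos h6
      have := hpp.two_le
      omega
    · have := (Nat.Prime.dvd_factorial hpp).1 h5
      omega

/-- Case `dim V = 1`. -/
theorem caseB (ρ : G →* (V ≃ₗ[ZMod q] V)) (hρ : Function.Injective ρ)
    (hfr : Module.finrank (ZMod q) V = 1) {v0 : V} (hv0 : v0 ≠ 0) :
    IsCyclic G ∧ stab ρ v0 = ⊥ := by
  have hspan := (finrank_eq_one_iff_of_nonzero' v0 hv0).1 hfr
  choose c hc using hspan
  have hinj : ∀ a b : ZMod q, a • v0 = b • v0 → a = b :=
    fun a b h => smul_left_injective (ZMod q) hv0 h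
  have key : ∀ (g : G) (w : V), ρ g w = (c (ρ g v0)) • w := by
    intro g w
    calc ρ g w = ρ g (c w • v0) := by rw [hc w]
      _ = c w • ρ g v0 := map_smul _ _ _
      _ = c w • (c (ρ g v0) • v0) := by rw [hc (ρ g v0)]
      _ = c (ρ g v0) • (c w • v0) := smul_comm _ _ _
      _ = c (ρ g v0) • w := by rw [hc w]
  let χ : G →* ZMod q :=
    { toFun := fun g => c (ρ g v0)
      map_one' := by
        apply hinj
        rw [hc (ρ 1 v0), map_one, one_smul]
        rfl
      map_mul' := by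
        intro g h
        apply hinj
        rw [hc (ρ (g * h) v0), map_mul, LinearEquiv.mul_apply, key g (ρ h v0), mul_smul,
          hc (ρ h v0)] }
  have hχ : ∀ g : G, χ g = c (ρ g v0) := fun g => rfl
  have hχinj : Function.Injective χ := by
    intro g h hgh
    apply hρ
    ext w
    rw [key g w, key h w, ← hχ g, ← hχ h, hgh]
  refine ⟨isCyclic_of_injective_ringHom χ hχinj, ?_⟩
  rw [Subgroup.eq_bot_iff_forall]
  intro g hg
  have hg' : ρ g v0 = v0 := hg
  apply hχinj
  rw [map_one, hχ g]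
  apply hinj
  rw [hc (ρ g v0), hg', one_smul]

end Lin

/-! ### The case `|V| = 9` -/

section Nine

theorem factorization_48 : (48 : ℕ).factorization 2 = 3 + 1 := by
  rw [show (48 : ℕ) = 2 ^ 4 * 3 by norm_num, Nat.factorization_mul (by norm_num) (by norm_num),
    Nat.Prime.factorization_pow Nat.prime_two]
  simp [Nat.factorization_eq_zero_of_not_dvd]

theorem case9 (q : ℕ) [Fact q.Prime] (hq : q = 3)
    {V : Type*} [AddCommGroup V] [Module (ZMod q) V] [Finite V] [Nontrivial V]
    {G : Type*} [Group G] [Finite G] (hG : IsPGroup 2 G)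
    (ρ : G →* (V ≃ₗ[ZMod q] V)) (hρ : Function.Injective ρ)
    (hfr : Module.finrank (ZMod q) V = 2)
    (hidx : ∀ w : V, w ≠ 0 → (stab ρ w).index = 8) :
    (IsCyclic G ∧ Nat.card G = 8) ∨ Nonempty (G ≃* QuaternionGroup 2) ∨
      (Cfsg.IsQuasiDihedral G ∧ Nat.card G = 16) := by
  subst hq
  haveI : Fact (Nat.Prime 2) := ⟨Nat.prime_two⟩
  let e : V ≃ₗ[ZMod 3] (Fin 2 → ZMod 3) :=
    LinearEquiv.ofFinrankEq V (Fin 2 → ZMod 3) (by rw [hfr, Module.finrank_fin_fun])
  let φ : (V ≃ₗ[ZMod 3] V) ≃* GL (Fin 2) (ZMod 3) :=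
    ((LinearMap.GeneralLinearGroup.generalLinearEquiv (ZMod 3) V).symm).trans
      ((LinearMap.GeneralLinearGroup.congrLinearEquiv e).trans
        Matrix.GeneralLinearGroup.toLin.symm)
  let ψ : G →* GL (Fin 2) (ZMod 3) := φ.toMonoidHom.comp ρ
  have hψ : Function.Injective ψ := φ.injective.comp hρ
  have hΓ : Nat.card (GL (Fin 2) (ZMod 3)) = 48 := by
    rw [Cfsg.Agent.Lib.Helper2.GLTwoArith.card_GL_two, ZMod.card]; norm_num
  have hdvd : Nat.card G ∣ 48 := by
    have := Subgroup.card_dvd_of_injective ψ hψ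
    rwa [hΓ] at this
  obtain ⟨a, ha⟩ := IsPGroup.iff_card.1 hG
  obtain ⟨v0, hv0⟩ := exists_ne (0 : V)
  have h8 : 8 ∣ Nat.card G := by
    have := Subgroup.index_dvd_card (stab ρ v0)
    rwa [hidx v0 hv0] at this
  have ha34 : a = 3 ∨ a = 4 := by
    rw [ha] at hdvd h8
    have h1 : 3 ≤ a := by
      by_contra hlt
      have h2 : 2 ^ a ≤ 2 ^ 2 := Nat.pow_le_pow_right (by norm_num) (by omega)
      have h3 := Nat.le_of_dvd (by positivity) h8
      omega
    have h2 : a ≤ 4 := by
      by_contra hgt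
      have h3 : 2 ^ 5 ∣ 2 ^ a := pow_dvd_pow 2 (by omega)
      have h4 : 2 ^ 5 ∣ 48 := dvd_trans h3 hdvd
      omega
    omega
  rcases ha34 with rfl | rfl
  · have hcard : Nat.card G = 8 := by rw [ha]; norm_num
    have hfree : ∀ (g : G) (w : V), w ≠ 0 → ρ g w = w → g = 1 := by
      intro g w hw hgw
      have h1 := (stab ρ w).card_mul_index
      rw [hidx w hw, hcard] at h1
      have h2 : Nat.card (stab ρ w) = 1 := by omega
      have h3 : stab ρ w = ⊥ := Subgroup.card_eq_one.1 h2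
      have h4 : g ∈ stab ρ w := hgw
      rw [h3] at h4
      exact Subgroup.mem_bot.1 h4
    have hneg : ∀ t : G, orderOf t = 2 → ∀ v : V, ρ t v = -v := by
      intro t ht v
      have htt : t * t = 1 := by rw [← pow_two, ← ht, pow_orderOf_eq_one]
      have hfix : ρ t (v + ρ t v) = v + ρ t v := by
        have h5 : ρ t (ρ t v) = v := by
          rw [← LinearEquiv.mul_apply, ← map_mul, htt, map_one]; rfl
        rw [map_add, h5, add_comm]
      by_contra hne
      have hw : v + ρ t v ≠ 0 := by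
        intro h0; exact hne (eq_neg_of_add_eq_zero_right h0)
      have h6 := hfree t _ hw hfix
      rw [h6, orderOf_one] at ht
      omega
    have huop : Cfsg.Agent.Lib.Lead.UniqueP.UOP 2 G := by
      intro x y hx hy hx1
      by_cases hy1 : y = 1
      · rw [hy1]; exact one_mem _
      have ox : orderOf x = 2 := orderOf_eq_prime hx hx1
      have oy : orderOf y = 2 := orderOf_eq_prime hy hy1
      have hxy : x = y := by
        apply hρ; ext v; rw [hneg x ox, hneg y oy]
      rw [← hxy]; exact Subgroup.mem_zpowers x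
    rcases Cfsg.Agent.Lib.Lead.UniqueP.cyclic_or_quaternion 2 hG huop with hc | ⟨_, m, ⟨iso⟩⟩
    · exact Or.inl ⟨hc, hcard⟩
    · right; left
      have hm : m = 1 := by
        haveI : NeZero (2 ^ m) := ⟨by positivity⟩
        have h1 := Nat.card_congr iso.toEquiv
        rw [hcard, Nat.card_eq_fintype_card, QuaternionGroup.card] at h1
        have h2 : 2 ^ m = 2 ^ 1 := by omega
        exact Nat.pow_right_injective (le_refl 2) h2
      subst hm
      exact ⟨iso⟩
  · right; right
    have hcard : Nat.card G = 16 := by rw [ha]; norm_num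
    refine ⟨?_, hcard⟩
    have hfac : (Nat.card (GL (Fin 2) (ZMod 3))).factorization 2 = 3 + 1 := by
      rw [hΓ]; exact factorization_48
    have hrange : Nat.card ψ.range = 2 ^ (Nat.card (GL (Fin 2) (ZMod 3))).factorization 2 := by
      rw [hfac, ← Nat.card_congr (MonoidHom.ofInjective hψ).toEquiv, hcard]; norm_num
    let P : Sylow 2 (GL (Fin 2) (ZMod 3)) := Sylow.ofCard ψ.range hrange
    have hQD : Cfsg.IsQuasiDihedral ↥(P : Subgroup (GL (Fin 2) (ZMod 3))) :=
      Cfsg.Agent.Lib.Helper2.GLTwoQD.qd_case (F := ZMod 3) (by rw [ZMod.card]) P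
    exact Cfsg.Agent.Lib.Helper2.WRJ.isQuasiDihedral_of_mulEquiv
      (MonoidHom.ofInjective hψ).symm hQD

end Nine

/-! ### Main theorem -/

theorem main (q : ℕ) [Fact q.Prime] {V : Type*} [AddCommGroup V] [Module (ZMod q) V] [Finite V]
    [Nontrivial V] {G : Type*} [Group G] [Finite G] [Nontrivial G] (p : ℕ) [Fact p.Prime]
    (hG : IsPGroup p G) (ρ : G →* (V ≃ₗ[ZMod q] V)) (hρ : Function.Injective ρ)
    (htrans : ∀ v w : V, v ≠ 0 → w ≠ 0 → ∃ g : G, ρ g v = w) :
    (q = 2 ∧ p = Nat.card V - 1 ∧ Nat.card G = p) ∨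
    (p = 2 ∧ Nat.card V = q ∧ (∃ m : ℕ, q = 2 ^ m + 1 ∧ Nat.card G = 2 ^ m) ∧ IsCyclic G) ∨
    (p = 2 ∧ q = 3 ∧ Nat.card V = 9 ∧
      ((IsCyclic G ∧ Nat.card G = 8) ∨ Nonempty (G ≃* QuaternionGroup 2) ∨
        (Cfsg.IsQuasiDihedral G ∧ Nat.card G = 16))) := by
  have hq := (Fact.out : q.Prime)
  have hp := (Fact.out : p.Prime)
  obtain ⟨v0, hv0⟩ := exists_ne (0 : V)
  have hidx : ∀ w : V, w ≠ 0 → (stab ρ w).index = Nat.card V - 1 :=
    fun w hw => index_stab ρ htrans hw
  obtain ⟨k, hk⟩ := IsPGroup.index hG (stab ρ v0)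
  rw [hidx v0 hv0] at hk
  have hcardV : Nat.card V = q ^ (Module.finrank (ZMod q) V) := by
    rw [Module.natCard_eq_pow_finrank (K := ZMod q), Nat.card_zmod]
  have hn1 : 1 ≤ Module.finrank (ZMod q) V := Module.finrank_pos
  have hk1 : 1 ≤ k := by
    by_contra hk0
    have hk0' : k = 0 := by omega
    subst hk0'
    rw [pow_zero] at hk
    obtain ⟨g, hg⟩ := exists_ne (1 : G)
    apply hg
    apply hρ
    rw [map_one]
    ext w
    by_cases hw : w = 0
    · subst hw; simp
    · have h1 : stab ρ w = ⊤ := Subgroup.index_eq_one.1 (by rw [hidx w hw, hk])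
      have hgw : g ∈ stab ρ w := h1 ▸ Subgroup.mem_top g
      exact hgw
  have hqn : q ^ (Module.finrank (ZMod q) V) = p ^ k + 1 := by
    have h1 : 1 ≤ q ^ (Module.finrank (ZMod q) V) := Nat.one_le_pow _ _ hq.pos
    omega
  rcases nt hq hp hn1 hk1 hqn with ⟨hq2, hk1'⟩ | ⟨hp2, hn1'⟩ | ⟨hp2, hq3, hn2⟩
  · left
    subst hk1'
    rw [pow_one] at hk
    exact ⟨hq2, hk.symm, caseA p hG ρ hρ hk (by rw [hidx v0 hv0, hk])⟩
  · right; left
    subst hp2
    rw [hn1', pow_one] at hcardV
    obtain ⟨hcyc, hbot⟩ := caseB ρ hρ hn1' hv0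
    have h1 := hidx v0 hv0
    rw [hbot, Subgroup.index_bot, hcardV] at h1
    obtain ⟨m, hm⟩ := IsPGroup.iff_card.1 hG
    refine ⟨rfl, hcardV, ⟨m, ?_, hm⟩, hcyc⟩
    have := hq.two_le
    omega
  · right; right
    subst hp2
    have hV9 : Nat.card V = 9 := by rw [hcardV, hn2, hq3]; norm_num
    refine ⟨rfl, hq3, hV9, ?_⟩
    exact case9 q hq3 hG ρ hρ hn2 (fun w hw => by rw [hidx w hw, hV9])

end Cfsg.Agent.Lib.Lead.PTrans
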