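import Mathlib

set_option autoImplicit false

/-!
# A field structure from a regular action

If a commutative group `K` acts by automorphisms on an additive group `M` of exponent two,
regularly on the nonzero elements, then `M` carries a field structure for which `K` is the
multiplicative group.  We only export the comparison with `GaloisField 2 n`.
-/

namespace Cfsg.Agent.Lib.Lead.Sz2A

universe u v

/-- a wrapper type carrying the field structure -/
structure FM (M : Type u) : Type u where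
  v : M

namespace FM

variable {M : Type u}

def equiv : FM M ≃ M := ⟨FM.v, FM.mk, fun _ => rfl, fun _ => rfl⟩

theorem ext' {a b : FM M} (h : a.v = b.v) : a = b := by
  cases a; cases b; simp_all

end FM

section

variable {M : Type u} [AddCommGroup M] {K : Type v} [CommGroup K] [DistribMulAction K M]

/-- regular action data -/
structure Reg (K : Type v) [CommGroup K] [DistribMulAction K M] (e : M) : Prop where
  ne : e ≠ 0
  ex : ∀ x : M, x ≠ 0 → ∃ k : K, k • e = x
  uniq : ∀ k k' : K, k • e = k' • e → k = k'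
  two : ∀ x : M, x + x = 0

variable {e : M}

open Classical in
noncomputable def lam (e : M) (h : Reg K e) (x : M) : K :=
  if hx : x = 0 then 1 else (h.ex x hx).choose

theorem lam_spec (h : Reg K e) {x : M} (hx : x ≠ 0) : lam e h x • e = x := by
  unfold lam
  rw [dif_neg hx]
  exact (h.ex x hx).choose_spec

theorem smul_e_ne (h : Reg K e) (k : K) : k • e ≠ 0 := by
  intro h0
  apply h.ne
  have h1 : k⁻¹ • (k • e) = k⁻¹ • (0 : M) := by rw [h0]
  rw [inv_smul_smul, smul_zero] at h1
  exact h1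

theorem lam_smul (h : Reg K e) (k : K) : lam e h (k • e) = k :=
  h.uniq _ _ (lam_spec h (smul_e_ne h k))

open Classical in
noncomputable def mulM (e : M) (h : Reg K e) (x y : M) : M :=
  if x = 0 then 0 else lam e h x • y

theorem mulM_zero_left (h : Reg K e) (y : M) : mulM e h 0 y = 0 := by
  unfold mulM
  rw [if_pos rfl]

theorem mulM_of_ne (h : Reg K e) {x : M} (hx : x ≠ 0) (y : M) : mulM e h x y = lam e h x • y := by
  unfold mulM
  rw [if_neg hx]

theorem mulM_zero_right (h : Reg K e) (x : M) : mulM e h x 0 = 0 := by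
  by_cases hx : x = 0
  · rw [hx, mulM_zero_left]
  · rw [mulM_of_ne h hx, smul_zero]

theorem mulM_smul_e (h : Reg K e) (k : K) (y : M) : mulM e h (k • e) y = k • y := by
  rw [mulM_of_ne h (smul_e_ne h k), lam_smul]

theorem exists_smul (h : Reg K e) {x : M} (hx : x ≠ 0) : ∃ k : K, x = k • e :=
  ⟨lam e h x, (lam_spec h hx).symm⟩

theorem mulM_comm (h : Reg K e) (x y : M) : mulM e h x y = mulM e h y x := by
  by_cases hx : x = 0
  · rw [hx, mulM_zero_left, mulM_zero_right]
  by_cases hy : y = 0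
  · rw [hy, mulM_zero_left, mulM_zero_right]
  obtain ⟨k, rfl⟩ := exists_smul h hx
  obtain ⟨k', rfl⟩ := exists_smul h hy
  rw [mulM_smul_e, mulM_smul_e, ← mul_smul, ← mul_smul, mul_comm]

theorem mulM_assoc (h : Reg K e) (x y z : M) :
    mulM e h (mulM e h x y) z = mulM e h x (mulM e h y z) := by
  by_cases hx : x = 0
  · rw [hx, mulM_zero_left, mulM_zero_left, mulM_zero_left]
  by_cases hy : y = 0
  · simp only [hy, mulM_zero_left, mulM_zero_right]
  obtain ⟨k, rfl⟩ := exists_smul h hx
  obtain ⟨k', rfl⟩ := exists_smul h hy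
  rw [mulM_smul_e, mulM_smul_e, ← mul_smul, mulM_smul_e, mulM_smul_e, mul_smul]

theorem mulM_one_left (h : Reg K e) (y : M) : mulM e h e y = y := by
  have h1 : mulM e h ((1 : K) • e) y = (1 : K) • y := mulM_smul_e h 1 y
  rw [one_smul, one_smul] at h1
  exact h1

theorem mulM_one_right (h : Reg K e) (y : M) : mulM e h y e = y := by
  rw [mulM_comm, mulM_one_left]

theorem mulM_add (h : Reg K e) (x y z : M) :
    mulM e h x (y + z) = mulM e h x y + mulM e h x z := by
  by_cases hx : x = 0
  · rw [hx, mulM_zero_left, mulM_zero_left, mulM_zero_left, add_zero]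
  · rw [mulM_of_ne h hx, mulM_of_ne h hx, mulM_of_ne h hx, smul_add]

theorem add_mulM (h : Reg K e) (x y z : M) :
    mulM e h (x + y) z = mulM e h x z + mulM e h y z := by
  rw [mulM_comm, mulM_add, mulM_comm h z x, mulM_comm h z y]

theorem mulM_inv (h : Reg K e) {x : M} (hx : x ≠ 0) :
    mulM e h x ((lam e h x)⁻¹ • e) = e := by
  rw [mulM_of_ne h hx, smul_inv_smul]

/-- the ring structure on the wrapper -/
noncomputable def ringFM (e : M) (h : Reg K e) : CommRing (FM M) :=
  { (FM.equiv.addCommGroup : AddCommGroup (FM M)) with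
    mul := fun a b => ⟨mulM e h a.v b.v⟩
    one := ⟨e⟩
    mul_assoc := fun a b c => by
      show (⟨mulM e h (mulM e h a.v b.v) c.v⟩ : FM M) = ⟨mulM e h a.v (mulM e h b.v c.v)⟩
      rw [mulM_assoc]
    one_mul := fun a => by
      show (⟨mulM e h e a.v⟩ : FM M) = a
      rw [mulM_one_left]
    mul_one := fun a => by
      show (⟨mulM e h a.v e⟩ : FM M) = a
      rw [mulM_one_right]
    left_distrib := fun a b c => by
      show (⟨mulM e h a.v (b.v + c.v)⟩ : FM M) = ⟨mulM e h a.v b.v + mulM e h a.v c.v⟩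
      rw [mulM_add]
    right_distrib := fun a b c => by
      show (⟨mulM e h (a.v + b.v) c.v⟩ : FM M) = ⟨mulM e h a.v c.v + mulM e h b.v c.v⟩
      rw [add_mulM]
    mul_comm := fun a b => by
      show (⟨mulM e h a.v b.v⟩ : FM M) = ⟨mulM e h b.v a.v⟩
      rw [mulM_comm]
    zero_mul := fun a => by
      show (⟨mulM e h 0 a.v⟩ : FM M) = ⟨0⟩
      rw [mulM_zero_left]
    mul_zero := fun a => by
      show (⟨mulM e h a.v 0⟩ : FM M) = ⟨0⟩
      rw [mulM_zero_right] }

theorem ringFM_mul_v (h : Reg K e) (a b : FM M) :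
    (@HMul.hMul _ _ _ (@instHMul _ (ringFM e h).toMul) a b).v = mulM e h a.v b.v := rfl

theorem ringFM_one_v (h : Reg K e) : (@One.one _ (ringFM e h).toOne).v = e := rfl

theorem ringFM_add_v (h : Reg K e) (a b : FM M) :
    (@HAdd.hAdd _ _ _ (@instHAdd _ (ringFM e h).toAdd) a b).v = a.v + b.v := rfl

theorem ringFM_zero_v (h : Reg K e) : (@Zero.zero _ (ringFM e h).toZero).v = (0 : M) := rfl

theorem isField_FM (h : Reg K e) : @IsField (FM M) (ringFM e h).toSemiring := by
  letI := ringFM e h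
  refine ⟨⟨0, 1, ?_⟩, mul_comm, ?_⟩
  · intro h01
    have : (0 : FM M).v = (1 : FM M).v := by rw [h01]
    exact h.ne this.symm
  · intro a ha
    have hav : a.v ≠ 0 := by
      intro h0
      apply ha
      exact FM.ext' h0
    refine ⟨⟨(lam e h a.v)⁻¹ • e⟩, ?_⟩
    apply FM.ext'
    show mulM e h a.v ((lam e h a.v)⁻¹ • e) = e
    exact mulM_inv h hav

noncomputable def fieldFM (e : M) (h : Reg K e) : Field (FM M) :=
  @IsField.toField (FM M) (ringFM e h).toRing (isField_FM h)

/-- The comparison with `GaloisField 2 n`. -/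
theorem exists_iso [Finite M] (e : M) (h : Reg K e) (n : ℕ) (hn : Nat.card M = 2 ^ n) :
    ∃ (ι : M ≃+ GaloisField 2 n) (κ : K →* (GaloisField 2 n)ˣ), Function.Bijective κ ∧ ι e = 1 ∧
      ∀ (k : K) (x : M), ι (k • x) = (κ k : GaloisField 2 n) * ι x := by
  classical
  letI : Field (FM M) := fieldFM e h
  have hmul : ∀ a b : FM M, (a * b).v = mulM e h a.v b.v := fun a b => rfl
  have hone : (1 : FM M).v = e := rfl
  have hadd : ∀ a b : FM M, (a + b).v = a.v + b.v := fun a b => rfl
  have hzero : (0 : FM M).v = 0 := rfl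
  have h10 : (1 : FM M) ≠ 0 := by
    intro h01
    have : (1 : FM M).v = (0 : FM M).v := by rw [h01]
    rw [hone, hzero] at this
    exact h.ne this
  have h2 : (2 : FM M) = 0 := by
    rw [← one_add_one_eq_two]
    apply FM.ext'
    rw [hadd, hone, hzero]
    exact h.two e
  haveI : CharP (FM M) 2 := CharTwo.of_one_ne_zero_of_two_eq_zero h10 h2
  letI : Algebra (ZMod 2) (FM M) := ZMod.algebra (FM M) 2
  have hcard : Nat.card (FM M) = 2 ^ n := by
    rw [Nat.card_congr (FM.equiv (M := M))]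
    exact hn
  let ψ : FM M ≃ₐ[ZMod 2] GaloisField 2 n := GaloisField.algEquivGaloisField 2 n hcard
  have hψ0 : ∀ a : FM M, ψ a = 0 ↔ a = 0 := fun a => by
    constructor
    · intro ha
      have := congrArg ψ.symm ha
      simpa using this
    · intro ha
      rw [ha, map_zero]
  let ι : M ≃+ GaloisField 2 n :=
    { toFun := fun x => ψ ⟨x⟩
      invFun := fun y => (ψ.symm y).v
      left_inv := fun x => by
        show (ψ.symm (ψ ⟨x⟩)).v = x
        rw [AlgEquiv.symm_apply_apply]
      right_inv := fun y => by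
        show ψ ⟨(ψ.symm y).v⟩ = y
        have : (⟨(ψ.symm y).v⟩ : FM M) = ψ.symm y := FM.ext' rfl
        rw [this, AlgEquiv.apply_symm_apply]
      map_add' := fun x y => by
        show ψ ⟨x + y⟩ = ψ ⟨x⟩ + ψ ⟨y⟩
        have : (⟨x + y⟩ : FM M) = ⟨x⟩ + ⟨y⟩ := FM.ext' rfl
        rw [this, map_add] }
  have hιdef : ∀ x : M, ι x = ψ ⟨x⟩ := fun x => rfl
  have hsm : ∀ (k : K) (x : M), (⟨k • x⟩ : FM M) = ⟨k • e⟩ * ⟨x⟩ := by
    intro k x
    apply FM.ext'
    rw [hmul]
    show k • x = mulM e h (k • e) x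
    rw [mulM_smul_e]
  have hne : ∀ k : K, ψ ⟨k • e⟩ ≠ 0 := by
    intro k h0
    have := (hψ0 _).mp h0
    have h3 : (⟨k • e⟩ : FM M).v = (0 : FM M).v := by rw [this]
    exact smul_e_ne h k h3
  let κ : K →* (GaloisField 2 n)ˣ :=
    { toFun := fun k => Units.mk0 (ψ ⟨k • e⟩) (hne k)
      map_one' := by
        apply Units.ext
        show ψ ⟨(1 : K) • e⟩ = 1
        rw [one_smul]
        have : (⟨e⟩ : FM M) = 1 := FM.ext' rfl
        rw [this, map_one]
      map_mul' := fun k k' => by
        apply Units.ext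
        show ψ ⟨(k * k') • e⟩ = ψ ⟨k • e⟩ * ψ ⟨k' • e⟩
        rw [mul_smul, hsm k (k' • e), map_mul] }
  have hκdef : ∀ k : K, ((κ k : (GaloisField 2 n)ˣ) : GaloisField 2 n) = ψ ⟨k • e⟩ := fun k => rfl
  refine ⟨ι, κ, ⟨?_, ?_⟩, ?_, ?_⟩
  · intro k k' hkk
    have h1 : ((κ k : (GaloisField 2 n)ˣ) : GaloisField 2 n) = (κ k' : (GaloisField 2 n)ˣ) := by
      rw [hkk]
    rw [hκdef, hκdef] at h1
    have h2 := ψ.injective h1
    have h3 : (⟨k • e⟩ : FM M).v = (⟨k' • e⟩ : FM M).v := by rw [h2]
    exact h.uniq k k' h3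
  · intro u
    have hx : (ψ.symm (u : GaloisField 2 n)).v ≠ 0 := by
      intro h0
      have h1 : ψ.symm (u : GaloisField 2 n) = 0 := FM.ext' h0
      have h2 := congrArg ψ h1
      rw [AlgEquiv.apply_symm_apply, map_zero] at h2
      exact u.ne_zero h2
    refine ⟨lam e h (ψ.symm (u : GaloisField 2 n)).v, ?_⟩
    apply Units.ext
    rw [hκdef, lam_spec h hx]
    have : (⟨(ψ.symm (u : GaloisField 2 n)).v⟩ : FM M) = ψ.symm (u : GaloisField 2 n) :=
      FM.ext' rfl
    rw [this, AlgEquiv.apply_symm_apply]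
  · rw [hιdef]
    have : (⟨e⟩ : FM M) = 1 := FM.ext' rfl
    rw [this, map_one]
  · intro k x
    rw [hιdef, hιdef, hκdef, hsm k x, map_mul]

end

end Cfsg.Agent.Lib.Lead.Sz2A
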