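import Mathlib
import Cfsg.Agent.S1140

set_option autoImplicit false

/-!
# Biadditive maps on a finite field of characteristic two

Consequences of the basis theorem `S1140`: equivariant alternating biadditive maps vanish,
multiplicative maps with biadditive polarization are products of two automorphisms, and an
automorphism `θ` with `u ↦ u θ(u)` injective has odd order.
-/

namespace Cfsg.Agent.Lib.Lead.Sz2B

section

variable {F : Type*} [Field F] [Fintype F] [CharP F 2]

theorem finite_aut : Finite (F ≃+* F) :=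
  Finite.of_injective (fun σ : F ≃+* F => (σ : F → F))
    (fun σ τ h => RingEquiv.ext (fun x => congrFun h x))

theorem li1 (s : Finset (F ≃+* F)) (c : (F ≃+* F) → F)
    (h : ∀ x : F, ∑ σ ∈ s, c σ * σ x = 0) : ∀ σ ∈ s, c σ = 0 := by
  have hli := (Cfsg.Agent.S1140.result (F := F)).1
  rw [linearIndependent_iff'] at hli
  apply hli s c
  funext x
  have := h x
  simpa [Finset.sum_apply] using this

theorem li2 (s : Finset ((F ≃+* F) × (F ≃+* F))) (d : (F ≃+* F) × (F ≃+* F) → F)
    (h : ∀ x y : F, ∑ p ∈ s, d p * (p.1 x * p.2 y) = 0) : ∀ p ∈ s, d p = 0 := by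
  classical
  haveI := finite_aut (F := F)
  letI : Fintype (F ≃+* F) := Fintype.ofFinite _
  obtain ⟨d', hd'⟩ : ∃ d' : (F ≃+* F) × (F ≃+* F) → F, ∀ p, d' p = if p ∈ s then d p else 0 :=
    ⟨_, fun _ => rfl⟩
  have h' : ∀ x y : F, ∑ σ : F ≃+* F, (∑ τ : F ≃+* F, d' (σ, τ) * τ y) * σ x = 0 := by
    intro x y
    rw [← h x y]
    have e1 : ∑ p ∈ s, d p * (p.1 x * p.2 y) =
        ∑ p : (F ≃+* F) × (F ≃+* F), d' p * (p.1 x * p.2 y) := by
      have e0 : ∑ p ∈ s, d p * (p.1 x * p.2 y) = ∑ p ∈ s, d' p * (p.1 x * p.2 y) := by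
        apply Finset.sum_congr rfl
        intro p hp
        rw [hd', if_pos hp]
      rw [e0]
      apply Finset.sum_subset (Finset.subset_univ s)
      intro p _ hp
      rw [hd', if_neg hp, zero_mul]
    rw [e1, Fintype.sum_prod_type]
    apply Finset.sum_congr rfl
    intro σ _
    rw [Finset.sum_mul]
    apply Finset.sum_congr rfl
    intro τ _
    ring
  have h1 : ∀ (y : F) (σ : F ≃+* F), ∑ τ : F ≃+* F, d' (σ, τ) * τ y = 0 := by
    intro y σ
    exact li1 Finset.univ (fun σ => ∑ τ : F ≃+* F, d' (σ, τ) * τ y) (fun x => h' x y) σ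
      (Finset.mem_univ _)
  intro p hp
  have h2 := li1 Finset.univ (fun τ => d' (p.1, τ)) (fun y => h1 y p.1) p.2 (Finset.mem_univ _)
  simp only [Prod.mk.eta] at h2
  rw [hd', if_pos hp] at h2
  exact h2

theorem key (B : F →+ F →+ F) (g : F → F)
    (hg : ∀ l x y : F, B (l * x) (l * y) = g l * B x y) :
    ∃ (s : Finset ((F ≃+* F) × (F ≃+* F))) (d : (F ≃+* F) × (F ≃+* F) → F),
      (∀ x y, B x y = ∑ p ∈ s, d p * (p.1 x * p.2 y)) ∧
      (∀ p ∈ s, d p ≠ 0 → ∀ l : F, p.1 l * p.2 l = g l) := by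
  obtain ⟨s, d, hd⟩ := (Cfsg.Agent.S1140.result (F := F)).2.2 B
  refine ⟨s, d, hd, ?_⟩
  intro p hp hdp l
  have h0 : ∀ x y : F, ∑ q ∈ s, (d q * (q.1 l * q.2 l - g l)) * (q.1 x * q.2 y) = 0 := by
    intro x y
    have h1 := hg l x y
    rw [hd, hd, Finset.mul_sum] at h1
    have : ∑ q ∈ s, (d q * (q.1 l * q.2 l - g l)) * (q.1 x * q.2 y) =
        ∑ q ∈ s, d q * (q.1 (l * x) * q.2 (l * y)) - ∑ q ∈ s, g l * (d q * (q.1 x * q.2 y)) := by
      rw [← Finset.sum_sub_distrib]
      apply Finset.sum_congr rfl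
      intro q _
      rw [map_mul, map_mul]
      ring
    rw [this, h1, sub_self]
  have h2 := li2 s (fun q => d q * (q.1 l * q.2 l - g l)) h0 p hp
  rcases mul_eq_zero.mp h2 with h3 | h3
  · exact absurd h3 hdp
  · exact sub_eq_zero.mp h3

theorem mul_self_inj_two {a b : F} (h : a * a = b * b) : a = b := by
  have h2 : (2 : F) = 0 := CharTwo.two_eq_zero
  have h3 : (a + b) * (a + b) = 0 := by
    linear_combination h + (b * b + a * b) * h2
  have h4 : a + b = 0 := mul_self_eq_zero.mp h3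
  exact CharTwo.add_eq_zero.mp h4

/-- An alternating biadditive map, equivariant for multiplication, vanishes. -/
theorem alt_zero (B : F →+ F →+ F) (halt : ∀ x, B x x = 0)
    (heq : ∀ l x y : F, B (l * x) (l * y) = l * B x y) : ∀ x y, B x y = 0 := by
  obtain ⟨s, d, hd, hk0⟩ := key B (fun l => l) heq
  have hk : ∀ p ∈ s, d p ≠ 0 → ∀ l : F, p.1 l * p.2 l = l := fun p hp hdp l => hk0 p hp hdp l
  have hp1 : ∀ p ∈ s, d p ≠ 0 → ∀ l : F, p.2 l = p.1 l := by
    intro p hp hdp l
    have h1 := hk p hp hdp (l + 1)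
    have h2 := hk p hp hdp l
    rw [map_add, map_add, map_one, map_one] at h1
    have h4 : p.1 l + p.2 l = 0 := by linear_combination h1 - h2
    exact (CharTwo.add_eq_zero.mp h4).symm
  have hp2 : ∀ p ∈ s, d p ≠ 0 → ∀ l : F, p.1 l * p.1 l = l := by
    intro p hp hdp l
    have := hk p hp hdp l
    rw [hp1 p hp hdp l] at this
    exact this
  have hsum : ∑ p ∈ s, d p = 0 := by
    have e : ∑ p ∈ s, d p = ∑ p ∈ s, d p * (p.1 1 * p.2 1) := by
      apply Finset.sum_congr rfl
      intro p _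
      rw [map_one, map_one, mul_one, mul_one]
    rw [e, ← hd]
    exact halt 1
  intro x y
  rw [hd]
  by_cases hex : ∃ p₀ ∈ s, d p₀ ≠ 0
  · obtain ⟨p₀, hp₀, hdp₀⟩ := hex
    have hall : ∀ p ∈ s, d p * (p.1 x * p.2 y) = d p * (p₀.1 x * p₀.2 y) := by
      intro p hp
      by_cases hdp : d p = 0
      · rw [hdp, zero_mul, zero_mul]
      · congr 1
        apply mul_self_inj_two
        rw [hp1 p hp hdp y, hp1 p₀ hp₀ hdp₀ y]
        have e1 : p.1 x * p.1 y * (p.1 x * p.1 y) = (p.1 x * p.1 x) * (p.1 y * p.1 y) := by ring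
        have e2 : p₀.1 x * p₀.1 y * (p₀.1 x * p₀.1 y) =
            (p₀.1 x * p₀.1 x) * (p₀.1 y * p₀.1 y) := by ring
        rw [e1, e2, hp2 p hp hdp, hp2 p hp hdp, hp2 p₀ hp₀ hdp₀, hp2 p₀ hp₀ hdp₀]
    rw [Finset.sum_congr rfl hall, ← Finset.sum_mul, hsum, zero_mul]
  · push Not at hex
    apply Finset.sum_eq_zero
    intro p hp
    rw [hex p hp, zero_mul]

/-- A multiplicative map whose polarization is biadditive and nonzero is a product of two distinct
automorphisms. -/
theorem quad_form (s' : F → F) (hmul : ∀ x y, s' (x * y) = s' x * s' y)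
    (B : F →+ F →+ F) (hB : ∀ x y, B x y = s' (x + y) + s' x + s' y)
    (hne : ∃ x y, B x y ≠ 0) :
    ∃ σ τ : F ≃+* F, σ ≠ τ ∧ ∀ x, s' x = σ x * τ x := by
  have heq : ∀ l x y : F, B (l * x) (l * y) = s' l * B x y := by
    intro l x y
    rw [hB, hB, ← mul_add, hmul, hmul, hmul]
    ring
  obtain ⟨s, d, hd, hk⟩ := key B s' heq
  have hex : ∃ p ∈ s, d p ≠ 0 := by
    by_contra hcon
    push Not at hcon
    obtain ⟨x, y, hxy⟩ := hne
    apply hxy
    rw [hd]
    apply Finset.sum_eq_zero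
    intro p hp
    rw [hcon p hp, zero_mul]
  obtain ⟨p, hp, hdp⟩ := hex
  refine ⟨p.1, p.2, ?_, fun x => (hk p hp hdp x).symm⟩
  intro h12
  obtain ⟨x, y, hxy⟩ := hne
  apply hxy
  have hs : ∀ l, s' l = p.1 l * p.1 l := by
    intro l
    rw [← hk p hp hdp l, ← h12]
  rw [hB, hs, hs, hs, map_add]
  have h2 : (2 : F) = 0 := CharTwo.two_eq_zero
  linear_combination (p.1 x * p.1 x + p.1 x * p.1 y + p.1 y * p.1 y) * h2

/-- If `u ↦ u θ(u)` is injective then `θ` has odd order. -/
theorem odd_orderOf (θ : F ≃+* F) (hinj : Function.Injective (fun u : F => u * θ u)) :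
    Odd (orderOf θ) := by
  classical
  haveI := finite_aut (F := F)
  by_contra hodd
  rw [Nat.not_odd_iff_even] at hodd
  obtain ⟨m, hm⟩ := hodd
  have hpos : 0 < orderOf θ := orderOf_pos θ
  have hm0 : 0 < m := by omega
  have hT : ∃ x : F, ∑ i ∈ Finset.range (orderOf θ), (θ ^ i) x ≠ 0 := by
    by_contra hcon
    push Not at hcon
    have hinjp : Set.InjOn (fun i : ℕ => θ ^ i) (Finset.range (orderOf θ) : Set ℕ) := by
      intro i hi j hj hij
      exact pow_injOn_Iio_orderOf (by simpa using hi) (by simpa using hj) hij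
    have h1 := li1 ((Finset.range (orderOf θ)).image (fun i : ℕ => θ ^ i)) (fun _ => (1 : F))
      (fun x => by
        rw [Finset.sum_image hinjp]
        simpa using hcon x)
      1 (by
        rw [Finset.mem_image]
        exact ⟨0, Finset.mem_range.mpr hpos, pow_zero θ⟩)
    exact one_ne_zero h1
  obtain ⟨x, hx⟩ := hT
  obtain ⟨g, hg⟩ : ∃ g : ℕ → F, ∀ i, g i = (θ ^ i) x := ⟨_, fun _ => rfl⟩
  have hx' : ∑ i ∈ Finset.range (m + m), g i ≠ 0 := by
    rw [← hm]
    intro h0
    apply hx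
    rw [← h0]
    apply Finset.sum_congr rfl
    intro i _
    rw [hg]
  have hstep : ∀ i, θ (g i) = g (i + 1) := by
    intro i
    rw [hg, hg, pow_succ']
    rfl
  have hper : g (m + m) = g 0 := by
    rw [hg, hg, ← hm, pow_orderOf_eq_one, pow_zero]
  obtain ⟨w, hw⟩ : ∃ w : F, w = ∑ j ∈ Finset.range m, g (2 * j) := ⟨_, rfl⟩
  have hθw : θ w = ∑ j ∈ Finset.range m, g (2 * j + 1) := by
    rw [hw, map_sum]
    apply Finset.sum_congr rfl
    intro j _
    exact hstep _
  have hsplit : ∀ k : ℕ, ∑ i ∈ Finset.range (k + k), g i =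
      ∑ j ∈ Finset.range k, g (2 * j) + ∑ j ∈ Finset.range k, g (2 * j + 1) := by
    intro k
    induction k with
    | zero => simp
    | succ k ih =>
      have e0 : k + 1 + (k + 1) = (k + k) + 1 + 1 := by ring
      rw [e0, Finset.sum_range_succ, Finset.sum_range_succ, ih, Finset.sum_range_succ,
        Finset.sum_range_succ]
      have e1 : k + k = 2 * k := by ring
      rw [e1]
      ring
  have hθθw : θ (θ w) = w := by
    rw [hθw, map_sum]
    have e1 : ∀ j ∈ Finset.range m, θ (g (2 * j + 1)) = g (2 * (j + 1)) := by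
      intro j _
      rw [hstep]
      congr 1
    rw [Finset.sum_congr rfl e1]
    have h1 := Finset.sum_range_succ (fun j => g (2 * j)) m
    have h2 := Finset.sum_range_succ' (fun j => g (2 * j)) m
    rw [h1] at h2
    have h3 : g (2 * m) = g (2 * 0) := by
      rw [two_mul, hper]
    rw [h3] at h2
    rw [hw]
    exact (add_right_cancel h2).symm
  have hne : θ w ≠ w := by
    intro h
    apply hx'
    rw [hsplit m, ← hθw, ← hw, h]
    exact CharTwo.add_self_eq_zero w
  have hw0 : w ≠ 0 := by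
    intro h0
    apply hne
    rw [h0, map_zero]
  have hθw0 : θ w ≠ 0 := by
    intro h0
    apply hw0
    have := congrArg θ h0
    rw [hθθw, map_zero] at this
    exact this
  have hu : (fun u : F => u * θ u) (w / θ w) = (fun u : F => u * θ u) 1 := by
    show w / θ w * θ (w / θ w) = 1 * θ 1
    rw [map_div₀, hθθw, map_one, mul_one]
    field_simp
  have h1 := hinj hu
  apply hne
  rw [div_eq_one_iff_eq hθw0] at h1
  exact h1.symm

end

end Cfsg.Agent.Lib.Lead.Sz2B
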