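import Mathlib
import Cfsg.Agent.Lib.Lead.Sz2A
import Cfsg.Agent.Lib.Lead.Sz2B

set_option autoImplicit false

/-!
# Abstract lemmas for Suzuki 2-groups

Regular actions written multiplicatively with plain functions, coordinates in `GaloisField 2 n`,
vanishing of equivariant alternating maps, the quadratic form lemma, and a complement lemma.
-/

namespace Cfsg.Agent.Lib.Lead.Sz2C

open Cfsg.Agent.Lib.Lead

universe u v w

/-- regular action data, multiplicative, with plain functions -/
structure RAct (Kt : Type u) [CommGroup Kt] (Z : Type v) [CommGroup Z] (act : Kt → Z → Z) (e : Z) :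
    Prop where
  act_one : ∀ x, act 1 x = x
  act_mul : ∀ k k' x, act (k * k') x = act k (act k' x)
  act_hom : ∀ k x y, act k (x * y) = act k x * act k y
  ne : e ≠ 1
  ex : ∀ x, x ≠ 1 → ∃ k, act k e = x
  uniq : ∀ k k', act k e = act k' e → k = k'
  two : ∀ x : Z, x * x = 1

theorem coord {Kt : Type u} [CommGroup Kt] {Z : Type v} [CommGroup Z] [Finite Z]
    {act : Kt → Z → Z} {e : Z} (h : RAct Kt Z act e) :
    ∃ (n : ℕ) (ι : Z → GaloisField 2 n) (κ : Kt → GaloisField 2 n),
      Nat.card Z = 2 ^ n ∧ Function.Bijective ι ∧ (∀ x y, ι (x * y) = ι x + ι y) ∧ ι e = 1 ∧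
      (∀ k x, ι (act k x) = κ k * ι x) ∧ (∀ l, l ≠ 0 → ∃ k, κ k = l) ∧ (∀ k, κ k ≠ 0) ∧
      Function.Injective κ := by
  classical
  have hact1 : ∀ k, act k 1 = 1 := by
    intro k
    have h1 := h.act_hom k 1 1
    rw [mul_one] at h1
    have h2 : act k 1 * act k 1 = act k 1 * 1 := by rw [mul_one]; exact h1.symm
    exact mul_left_cancel h2
  letI inst : DistribMulAction Kt (Additive Z) :=
    { smul := fun k x => Additive.ofMul (act k (Additive.toMul x))
      one_smul := fun x => by
        show Additive.ofMul (act 1 (Additive.toMul x)) = x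
        rw [h.act_one]; rfl
      mul_smul := fun k k' x => by
        show Additive.ofMul (act (k * k') (Additive.toMul x)) =
          Additive.ofMul (act k (Additive.toMul (Additive.ofMul (act k' (Additive.toMul x)))))
        rw [h.act_mul]; rfl
      smul_zero := fun k => by
        show Additive.ofMul (act k (Additive.toMul (0 : Additive Z))) = 0
        rw [toMul_zero, hact1]; rfl
      smul_add := fun k x y => by
        show Additive.ofMul (act k (Additive.toMul (x + y))) =
          Additive.ofMul (act k (Additive.toMul x)) + Additive.ofMul (act k (Additive.toMul y))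
        rw [toMul_add, h.act_hom]; rfl }
  have hreg : Sz2A.Reg Kt (Additive.ofMul e) :=
    { ne := by
        intro h0
        exact h.ne (ofMul_eq_zero.mp h0)
      ex := by
        intro x hx
        have hx' : Additive.toMul x ≠ 1 := by
          intro h1
          apply hx
          have h2 : Additive.ofMul (Additive.toMul x) = Additive.ofMul (1 : Z) := congrArg _ h1
          exact h2
        obtain ⟨k, hk⟩ := h.ex _ hx'
        refine ⟨k, ?_⟩
        have h3 : Additive.ofMul (act k e) = Additive.ofMul (Additive.toMul x) := congrArg _ hk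
        exact h3
      uniq := by
        intro k k' hkk
        apply h.uniq
        have h1 : Additive.ofMul (act k e) = Additive.ofMul (act k' e) := hkk
        exact Additive.ofMul.injective h1
      two := by
        intro x
        have h1 : Additive.ofMul (Additive.toMul x * Additive.toMul x) = Additive.ofMul (1 : Z) :=
          congrArg _ (h.two _)
        exact h1 }
  have hp : IsPGroup 2 Z := fun g => ⟨1, by rw [pow_one, pow_two]; exact h.two g⟩
  obtain ⟨n, hn⟩ := (IsPGroup.iff_card (p := 2) (G := Z)).mp hp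
  have hn' : Nat.card (Additive Z) = 2 ^ n := hn
  haveI : Finite (Additive Z) := inferInstanceAs (Finite Z)
  obtain ⟨ι, κ, hκ, hιe, hικ⟩ := Sz2A.exists_iso (Additive.ofMul e) hreg n hn'
  refine ⟨n, fun z => ι (Additive.ofMul z),
    fun k => ((κ k : (GaloisField 2 n)ˣ) : GaloisField 2 n), hn, ?_, ?_, hιe, ?_, ?_, ?_, ?_⟩
  · exact ι.bijective.comp Additive.ofMul.bijective
  · intro x y
    show ι (Additive.ofMul (x * y)) = ι (Additive.ofMul x) + ι (Additive.ofMul y)
    rw [ofMul_mul, map_add]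
  · intro k x
    exact hικ k (Additive.ofMul x)
  · intro l hl
    obtain ⟨k, hk⟩ := hκ.2 (Units.mk0 l hl)
    refine ⟨k, ?_⟩
    show ((κ k : (GaloisField 2 n)ˣ) : GaloisField 2 n) = l
    rw [hk, Units.val_mk0]
  · intro k
    exact Units.ne_zero _
  · intro k k' hkk
    exact hκ.1 (Units.ext hkk)

/-- An alternating bimultiplicative equivariant map on a regular module is trivial. -/
theorem alt_trivial {Kt : Type u} [CommGroup Kt] {Z : Type v} [CommGroup Z] [Finite Z]
    {act : Kt → Z → Z} {e : Z} (h : RAct Kt Z act e)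
    (b : Z → Z → Z) (hb1 : ∀ x y z, b (x * y) z = b x z * b y z)
    (hb2 : ∀ x y z, b x (y * z) = b x y * b x z) (halt : ∀ x, b x x = 1)
    (heq : ∀ k x y, b (act k x) (act k y) = act k (b x y)) : ∀ x y, b x y = 1 := by
  classical
  obtain ⟨n, ι, κ, hn, hbij, hadd, hιe, hικ, hsurj, hκne, hκinj⟩ := coord h
  letI : Fintype (GaloisField 2 n) := Fintype.ofFinite _
  let E : Z ≃ GaloisField 2 n := Equiv.ofBijective ι hbij
  have hE : ∀ z, E z = ι z := fun z => rfl
  have hι1 : ι 1 = 0 := by
    have h1 := hadd 1 1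
    rw [mul_one] at h1
    have h3 : ι 1 + ι 1 = ι 1 + 0 := by rw [add_zero]; exact h1.symm
    exact add_left_cancel h3
  have hj : ∀ u v, E.symm (u + v) = E.symm u * E.symm v := by
    intro u v
    apply E.injective
    rw [Equiv.apply_symm_apply, hE, hadd, ← hE, ← hE, Equiv.apply_symm_apply,
      Equiv.apply_symm_apply]
  have hjk : ∀ k x, E.symm (κ k * x) = act k (E.symm x) := by
    intro k x
    apply E.injective
    rw [Equiv.apply_symm_apply, hE, hικ, ← hE, Equiv.apply_symm_apply]
  let B : GaloisField 2 n →+ GaloisField 2 n →+ GaloisField 2 n :=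
    AddMonoidHom.mk' (fun u => AddMonoidHom.mk' (fun v => ι (b (E.symm u) (E.symm v)))
      (fun v v' => by
        show ι (b (E.symm u) (E.symm (v + v'))) =
          ι (b (E.symm u) (E.symm v)) + ι (b (E.symm u) (E.symm v'))
        rw [hj, hb2, hadd]))
      (fun u u' => by
        apply AddMonoidHom.ext
        intro v
        show ι (b (E.symm (u + u')) (E.symm v)) =
          ι (b (E.symm u) (E.symm v)) + ι (b (E.symm u') (E.symm v))
        rw [hj, hb1, hadd])
  have hB : ∀ u v, B u v = ι (b (E.symm u) (E.symm v)) := fun u v => rfl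
  have hzero := Sz2B.alt_zero B (fun x => by rw [hB, halt]; exact hι1) (by
    intro l x y
    by_cases hl : l = 0
    · rw [hl, zero_mul, zero_mul, zero_mul, hB, halt]
      exact hι1
    · obtain ⟨k, rfl⟩ := hsurj l hl
      rw [hB, hB, hjk, hjk, heq, hικ])
  intro x y
  have h1 := hzero (ι x) (ι y)
  rw [hB] at h1
  have hx : E.symm (ι x) = x := E.symm_apply_apply x
  have hy : E.symm (ι y) = y := E.symm_apply_apply y
  rw [hx, hy, ← hι1] at h1
  exact hbij.1 h1

theorem quad_aux {Kt : Type u} {Z : Type v} [CommGroup Z] {V : Type w} [CommGroup V]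
    {actZ : Kt → Z → Z} {z0 : Z} {actV : Kt → V → V} {v0 : V}
    (n : ℕ) (ιZ : Z → GaloisField 2 n) (κZ : Kt → GaloisField 2 n)
    (hbijZ : Function.Bijective ιZ) (haddZ : ∀ x y, ιZ (x * y) = ιZ x + ιZ y) (hιZ0 : ιZ z0 = 1)
    (hικZ : ∀ k x, ιZ (actZ k x) = κZ k * ιZ x) (hκZne : ∀ k, κZ k ≠ 0)
    (hκZinj : Function.Injective κZ)
    (ιV : V → GaloisField 2 n) (κV : Kt → GaloisField 2 n)
    (hbijV : Function.Bijective ιV) (haddV : ∀ x y, ιV (x * y) = ιV x + ιV y) (hιV0 : ιV v0 = 1)
    (hικV : ∀ k x, ιV (actV k x) = κV k * ιV x) (hsurjV : ∀ l, l ≠ 0 → ∃ k, κV k = l)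
    (s : V → Z) (hseq : ∀ k v, s (actV k v) = actZ k (s v)) (hs0 : s v0 = z0)
    (c : V → V → Z) (hsmul : ∀ v w, s (v * w) = s v * s w * c v w)
    (hc1 : ∀ x y z, c (x * y) z = c x z * c y z) (hc2 : ∀ x y z, c x (y * z) = c x y * c x z)
    (hcne : ∃ v w, c v w ≠ 1) :
    ∃ (θ : GaloisField 2 n ≃+* GaloisField 2 n) (t : V → GaloisField 2 n),
      θ ≠ RingEquiv.refl _ ∧ Odd (orderOf θ) ∧ Function.Bijective t ∧
      (∀ v w, t (v * w) = t v + t w) ∧ ∀ v, ιZ (s v) = t v * θ (t v) := by
  classical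
  letI : Fintype (GaloisField 2 n) := Fintype.ofFinite _
  let EV : V ≃ GaloisField 2 n := Equiv.ofBijective ιV hbijV
  have hEV : ∀ v, EV v = ιV v := fun _ => rfl
  have hιZ1 : ιZ 1 = 0 := by
    have h1 := haddZ 1 1
    rw [mul_one] at h1
    have h3 : ιZ 1 + ιZ 1 = ιZ 1 + 0 := by rw [add_zero]; exact h1.symm
    exact add_left_cancel h3
  have hιV1 : ιV 1 = 0 := by
    have h1 := haddV 1 1
    rw [mul_one] at h1
    have h3 : ιV 1 + ιV 1 = ιV 1 + 0 := by rw [add_zero]; exact h1.symm
    exact add_left_cancel h3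
  have hjV : ∀ u u', EV.symm (u + u') = EV.symm u * EV.symm u' := by
    intro u u'
    apply EV.injective
    rw [Equiv.apply_symm_apply, hEV, haddV, ← hEV, ← hEV, Equiv.apply_symm_apply,
      Equiv.apply_symm_apply]
  have hjV0 : EV.symm 0 = 1 := by
    apply EV.injective
    rw [Equiv.apply_symm_apply, hEV, hιV1]
  have hjV1 : EV.symm 1 = v0 := by
    apply EV.injective
    rw [Equiv.apply_symm_apply, hEV, hιV0]
  have hjιV : ∀ v, EV.symm (ιV v) = v := fun v => EV.symm_apply_apply v
  have hc11 : ∀ z, c 1 z = 1 := by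
    intro z
    have h1 := hc1 1 1 z
    rw [mul_one] at h1
    have h2 : c 1 z * c 1 z = c 1 z * 1 := by rw [mul_one]; exact h1.symm
    exact mul_left_cancel h2
  have hs1 : s 1 = 1 := by
    have h1 := hsmul 1 1
    rw [mul_one, hc11, mul_one] at h1
    have h2 : s 1 * s 1 = s 1 * 1 := by rw [mul_one]; exact h1.symm
    exact mul_left_cancel h2
  let s' : GaloisField 2 n → GaloisField 2 n := fun u => ιZ (s (EV.symm u))
  have hs'def : ∀ u, s' u = ιZ (s (EV.symm u)) := fun _ => rfl
  have hs'0 : s' 0 = 0 := by rw [hs'def, hjV0, hs1, hιZ1]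
  have hjk : ∀ k x, EV.symm (κV k * x) = actV k (EV.symm x) := by
    intro k x
    apply EV.injective
    rw [Equiv.apply_symm_apply, hEV, hικV, ← hEV, Equiv.apply_symm_apply]
  have hs'k : ∀ k u, s' (κV k * u) = κZ k * s' u := by
    intro k u
    rw [hs'def, hjk, hseq, hικZ]
  have hs'1 : s' 1 = 1 := by rw [hs'def, hjV1, hs0, hιZ0]
  have hs'κ : ∀ k, s' (κV k) = κZ k := by
    intro k
    have h1 := hs'k k 1
    rw [mul_one, hs'1, mul_one] at h1
    exact h1
  have hmul : ∀ x y, s' (x * y) = s' x * s' y := by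
    intro x y
    by_cases hx : x = 0
    · rw [hx, zero_mul, hs'0, zero_mul]
    · obtain ⟨k, rfl⟩ := hsurjV x hx
      rw [hs'k, hs'κ]
  have hs'inj : Function.Injective s' := by
    intro x y hxy
    by_cases hx : x = 0
    · by_cases hy : y = 0
      · rw [hx, hy]
      · exfalso
        obtain ⟨k, rfl⟩ := hsurjV y hy
        rw [hx, hs'0, hs'κ] at hxy
        exact hκZne k hxy.symm
    · by_cases hy : y = 0
      · exfalso
        obtain ⟨k, rfl⟩ := hsurjV x hx
        rw [hy, hs'0, hs'κ] at hxy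
        exact hκZne k hxy
      · obtain ⟨k, rfl⟩ := hsurjV x hx
        obtain ⟨k', rfl⟩ := hsurjV y hy
        rw [hs'κ, hs'κ] at hxy
        rw [hκZinj hxy]
  let B : GaloisField 2 n →+ GaloisField 2 n →+ GaloisField 2 n :=
    AddMonoidHom.mk' (fun u => AddMonoidHom.mk' (fun v => ιZ (c (EV.symm u) (EV.symm v)))
      (fun v v' => by
        show ιZ (c (EV.symm u) (EV.symm (v + v'))) =
          ιZ (c (EV.symm u) (EV.symm v)) + ιZ (c (EV.symm u) (EV.symm v'))
        rw [hjV, hc2, haddZ]))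
      (fun u u' => by
        apply AddMonoidHom.ext
        intro v
        show ιZ (c (EV.symm (u + u')) (EV.symm v)) =
          ιZ (c (EV.symm u) (EV.symm v)) + ιZ (c (EV.symm u') (EV.symm v))
        rw [hjV, hc1, haddZ])
  have hBdef : ∀ u v, B u v = ιZ (c (EV.symm u) (EV.symm v)) := fun _ _ => rfl
  have h2 : (2 : GaloisField 2 n) = 0 := CharTwo.two_eq_zero
  have hB : ∀ x y, B x y = s' (x + y) + s' x + s' y := by
    intro x y
    rw [hBdef, hs'def, hs'def, hs'def, hjV, hsmul, haddZ, haddZ]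
    linear_combination (-(ιZ (s (EV.symm x)) + ιZ (s (EV.symm y)))) * h2
  have hne : ∃ x y, B x y ≠ 0 := by
    obtain ⟨v, w, hvw⟩ := hcne
    refine ⟨ιV v, ιV w, ?_⟩
    rw [hBdef, hjιV, hjιV]
    intro h0
    apply hvw
    apply hbijZ.1
    rw [h0, hιZ1]
  obtain ⟨σ, τ, hστ, hs'στ⟩ := Sz2B.quad_form s' hmul B hB hne
  refine ⟨σ.symm.trans τ, fun v => σ (ιV v), ?_, ?_, ?_, ?_, ?_⟩
  · intro hθ
    apply hστ
    ext x
    have h1 := congrArg (fun f : GaloisField 2 n ≃+* GaloisField 2 n => f (σ x)) hθ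
    simp only [RingEquiv.trans_apply, RingEquiv.symm_apply_apply, RingEquiv.refl_apply] at h1
    exact h1.symm
  · apply Sz2B.odd_orderOf
    intro u u' huu
    have h1 : ∀ a : GaloisField 2 n, a * (σ.symm.trans τ) a = s' (σ.symm a) := by
      intro a
      rw [hs'στ, RingEquiv.apply_symm_apply, RingEquiv.trans_apply]
    have h3 : s' (σ.symm u) = s' (σ.symm u') := by
      rw [← h1, ← h1]
      exact huu
    exact σ.symm.injective (hs'inj h3)
  · exact σ.bijective.comp hbijV
  · intro v w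
    show σ (ιV (v * w)) = σ (ιV v) + σ (ιV w)
    rw [haddV, map_add]
  · intro v
    show ιZ (s v) = σ (ιV v) * (σ.symm.trans τ) (σ (ιV v))
    rw [RingEquiv.trans_apply, RingEquiv.symm_apply_apply, ← hs'στ, hs'def, hjιV]

/-- The quadratic form lemma: a regular pair with an equivariant quadratic map. -/
theorem quad {Kt : Type u} [CommGroup Kt] {Z : Type v} [CommGroup Z] [Finite Z]
    {V : Type w} [CommGroup V] [Finite V]
    {actZ : Kt → Z → Z} {z0 : Z} (hZ : RAct Kt Z actZ z0)
    {actV : Kt → V → V} {v0 : V} (hV : RAct Kt V actV v0)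
    (s : V → Z) (hseq : ∀ k v, s (actV k v) = actZ k (s v)) (hs0 : s v0 = z0)
    (c : V → V → Z) (hsmul : ∀ v w, s (v * w) = s v * s w * c v w)
    (hc1 : ∀ x y z, c (x * y) z = c x z * c y z) (hc2 : ∀ x y z, c x (y * z) = c x y * c x z)
    (hcne : ∃ v w, c v w ≠ 1) (hcard : Nat.card V = Nat.card Z) :
    ∃ (n : ℕ) (θ : GaloisField 2 n ≃+* GaloisField 2 n) (t : V → GaloisField 2 n)
      (ιZ : Z → GaloisField 2 n),
      Nat.card Z = 2 ^ n ∧ θ ≠ RingEquiv.refl _ ∧ Odd (orderOf θ) ∧
      Function.Bijective t ∧ (∀ v w, t (v * w) = t v + t w) ∧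
      Function.Bijective ιZ ∧ (∀ x y, ιZ (x * y) = ιZ x + ιZ y) ∧
      ∀ v, ιZ (s v) = t v * θ (t v) := by
  classical
  obtain ⟨n, ιZ, κZ, hnZ, hbijZ, haddZ, hιZ0, hικZ, hsurjZ, hκZne, hκZinj⟩ := coord hZ
  obtain ⟨n', ιV, κV, hnV, hbijV, haddV, hιV0, hικV, hsurjV, hκVne, hκVinj⟩ := coord hV
  have hnn : n' = n := Nat.pow_right_injective (le_refl 2) (by
    show 2 ^ n' = 2 ^ n
    rw [← hnV, ← hnZ, hcard])
  subst hnn
  obtain ⟨θ, t, h1, h2, h3, h4, h5⟩ := quad_aux _ ιZ κZ hbijZ haddZ hιZ0 hικZ hκZne hκZinj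
    ιV κV hbijV haddV hιV0 hικV hsurjV s hseq hs0 c hsmul hc1 hc2 hcne
  exact ⟨_, θ, t, ιZ, hnZ, h1, h2, h3, h4, hbijZ, haddZ, h5⟩

/-- If all squares lie in a normal subgroup `N ≤ W`, then `W/N` has a complement. -/
theorem compl {G : Type u} [Group G] [Finite G] (N W : Subgroup G) [hN : N.Normal] (hNW : N ≤ W)
    (hsq : ∀ g : G, g * g ∈ N) :
    ∃ C : Subgroup G, N ≤ C ∧ C ⊓ W = N ∧ ∀ g : G, ∃ c ∈ C, ∃ w ∈ W, g = c * w := by
  classical
  have hcomm : ∀ g h : G, g * h * g⁻¹ * h⁻¹ ∈ N := by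
    intro g h
    have h1 : g * h * g⁻¹ * h⁻¹ =
        (g * h) * (g * h) * (h⁻¹ * (g⁻¹ * g⁻¹) * h⁻¹⁻¹) * (h⁻¹ * h⁻¹) := by group
    rw [h1]
    exact N.mul_mem (N.mul_mem (hsq _) (hN.conj_mem _ (hsq _) _)) (hsq _)
  have hconj : ∀ C : Subgroup G, N ≤ C → ∀ c ∈ C, ∀ g : G, g * c * g⁻¹ ∈ C := by
    intro C hC c hc g
    have h1 := C.mul_mem (hC (hcomm g c)) hc
    have h2 : g * c * g⁻¹ * c⁻¹ * c = g * c * g⁻¹ := by group
    rw [h2] at h1
    exact h1
  let S := {C : Subgroup G // N ≤ C ∧ C ⊓ W = N}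
  haveI : Nonempty S := ⟨⟨N, le_refl _, inf_eq_left.mpr hNW⟩⟩
  obtain ⟨⟨C, hC1, hC2⟩, hmax⟩ := Finite.exists_max (fun C : S => Nat.card C.1)
  refine ⟨C, hC1, hC2, ?_⟩
  by_contra hcon
  push Not at hcon
  obtain ⟨g, hg⟩ := hcon
  let C' : Subgroup G :=
    { carrier := {x | x ∈ C ∨ x * g⁻¹ ∈ C}
      mul_mem' := by
        intro x y hx hy
        rcases hx with hx | hx
        · rcases hy with hy | hy
          · exact Or.inl (C.mul_mem hx hy)
          · right
            have h1 := C.mul_mem hx hy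
            rw [← mul_assoc] at h1
            exact h1
        · rcases hy with hy | hy
          · right
            have h1 := C.mul_mem hx (hconj C hC1 y hy g)
            have h2 : x * g⁻¹ * (g * y * g⁻¹) = x * y * g⁻¹ := by group
            rw [h2] at h1
            exact h1
          · left
            have h1 := C.mul_mem (C.mul_mem hx (hconj C hC1 _ hy g)) (hC1 (hsq g))
            have h2 : x * g⁻¹ * (g * (y * g⁻¹) * g⁻¹) * (g * g) = x * y := by group
            rw [h2] at h1
            exact h1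
      one_mem' := Or.inl C.one_mem
      inv_mem' := by
        intro x hx
        rcases hx with hx | hx
        · exact Or.inl (C.inv_mem hx)
        · right
          have h1 := C.mul_mem (hconj C hC1 _ (C.inv_mem hx) g⁻¹) (hC1 (hsq g⁻¹))
          have h2 : g⁻¹ * (x * g⁻¹)⁻¹ * g⁻¹⁻¹ * (g⁻¹ * g⁻¹) = x⁻¹ * g⁻¹ := by group
          rw [h2] at h1
          exact h1 }
  have hmemC' : ∀ x, x ∈ C' ↔ (x ∈ C ∨ x * g⁻¹ ∈ C) := fun x => Iff.rfl
  have hCC' : C ≤ C' := fun x hx => Or.inl hx
  have hgC' : g ∈ C' := by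
    right
    rw [mul_inv_cancel]
    exact C.one_mem
  have hgC : g ∉ C := by
    intro hgC
    exact hg g hgC 1 W.one_mem (by rw [mul_one])
  have hC'W : C' ⊓ W = N := by
    apply le_antisymm
    · intro x hx
      obtain ⟨hx1, hx2⟩ := Subgroup.mem_inf.mp hx
      rcases (hmemC' x).mp hx1 with h1 | h1
      · rw [← hC2]
        exact Subgroup.mem_inf.mpr ⟨h1, hx2⟩
      · exfalso
        exact hg (x * g⁻¹)⁻¹ (C.inv_mem h1) x hx2 (by group)
    · intro x hx
      exact Subgroup.mem_inf.mpr ⟨hCC' (hC1 hx), hNW hx⟩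
  have h3 := hmax ⟨C', le_trans hC1 hCC', hC'W⟩
  have h4 : C = C' := Subgroup.eq_of_le_of_card_ge hCC' h3
  apply hgC
  rw [h4]
  exact hgC'

/-- Counting: a semiregular action on a set of the right size is regular. -/
theorem surj_of_inj_card {Kt : Type u} {Z : Type v} {V : Type w} [Finite Z] [Finite V]
    (fZ : Kt → Z) (z1 : Z) (hZinj : Function.Injective fZ) (hZne : ∀ k, fZ k ≠ z1)
    (hZsurj : ∀ z, z ≠ z1 → ∃ k, fZ k = z)
    (fV : Kt → V) (v1 : V) (hVinj : Function.Injective fV) (hVne : ∀ k, fV k ≠ v1)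
    (hcard : Nat.card V = Nat.card Z) : ∀ v, v ≠ v1 → ∃ k, fV k = v := by
  classical
  let gZ : Option Kt → Z := fun o => o.elim z1 fZ
  let gV : Option Kt → V := fun o => o.elim v1 fV
  have hgZ : Function.Bijective gZ := by
    constructor
    · intro a b hab
      cases a with
      | none =>
        cases b with
        | none => rfl
        | some k' => exact absurd hab.symm (hZne k')
      | some k =>
        cases b with
        | none => exact absurd hab (hZne k)
        | some k' => exact congrArg some (hZinj hab)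
    · intro z
      by_cases hz : z = z1
      · exact ⟨none, hz.symm⟩
      · obtain ⟨k, hk⟩ := hZsurj z hz
        exact ⟨some k, hk⟩
  have hgVinj : Function.Injective gV := by
    intro a b hab
    cases a with
    | none =>
      cases b with
      | none => rfl
      | some k' => exact absurd hab.symm (hVne k')
    | some k =>
      cases b with
      | none => exact absurd hab (hVne k)
      | some k' => exact congrArg some (hVinj hab)
  have hc : Nat.card V ≤ Nat.card (Option Kt) := by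
    rw [hcard, Nat.card_eq_of_bijective gZ hgZ]
  have hgV := hgVinj.bijective_of_nat_card_le hc
  intro v hv
  obtain ⟨o, ho⟩ := hgV.2 v
  cases o with
  | none => exact absurd ho.symm hv
  | some k => exact ⟨k, ho⟩

end Cfsg.Agent.Lib.Lead.Sz2C
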