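import Mathlib
import Cfsg.Agent.Lib.Lead.Sz2C

set_option autoImplicit false

/-!
# Suzuki 2-groups: basic set-up

`Om P` is the group of central elements of order at most two, `SD P K` is the Suzuki datum without
the non-commutativity hypothesis, and we show that `P ⧸ Om P` inherits the datum.
-/

namespace Cfsg.Agent.Lib.Lead.Sz2D

universe u

/-- central elements of order at most two -/
def Om (P : Type u) [Group P] : Subgroup P where
  carrier := {x | x ∈ Subgroup.center P ∧ x * x = 1}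
  mul_mem' := by
    intro x y hx hy
    refine ⟨(Subgroup.center P).mul_mem hx.1 hy.1, ?_⟩
    have h1 : y * x = x * y := Subgroup.mem_center_iff.mp hx.1 y
    calc x * y * (x * y) = x * (y * x) * y := by group
      _ = x * (x * y) * y := by rw [h1]
      _ = (x * x) * (y * y) := by group
      _ = 1 := by rw [hx.2, hy.2, one_mul]
  one_mem' := ⟨(Subgroup.center P).one_mem, one_mul 1⟩
  inv_mem' := by
    intro x hx
    refine ⟨(Subgroup.center P).inv_mem hx.1, ?_⟩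
    rw [← mul_inv_rev, hx.2, inv_one]

variable {P : Type u} [Group P]

theorem mem_Om {x : P} : x ∈ Om P ↔ x ∈ Subgroup.center P ∧ x * x = 1 := Iff.rfl

instance Om_normal : (Om P).Normal := ⟨fun n hn g => by
  have h1 : g * n = n * g := Subgroup.mem_center_iff.mp hn.1 g
  have h2 : g * n * g⁻¹ = n := by rw [h1, mul_assoc, mul_inv_cancel, mul_one]
  rw [h2]
  exact hn⟩

theorem map_center (f : MulAut P) {x : P} (hx : x ∈ Subgroup.center P) :
    f x ∈ Subgroup.center P := by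
  rw [Subgroup.mem_center_iff] at hx ⊢
  intro g
  have h1 := hx (f⁻¹ g)
  have h2 := congrArg f h1
  rw [map_mul, map_mul, MulAut.apply_inv_self] at h2
  exact h2

theorem map_Om (f : MulAut P) {x : P} (hx : x ∈ Om P) : f x ∈ Om P :=
  ⟨map_center f hx.1, by rw [← map_mul, hx.2, map_one]⟩

theorem map_Om_eq (f : MulAut P) : Subgroup.map ((f : P ≃* P) : P →* P) (Om P) = Om P := by
  apply le_antisymm
  · rintro y ⟨x, hx, rfl⟩
    exact map_Om f hx
  · intro y hy
    refine ⟨f⁻¹ y, map_Om f⁻¹ hy, ?_⟩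
    exact MulAut.apply_inv_self P f y

/-- the induced automorphism of the quotient -/
noncomputable def qAut (P : Type u) [Group P] : MulAut P →* MulAut (P ⧸ Om P) where
  toFun f := QuotientGroup.congr (Om P) (Om P) f (map_Om_eq f)
  map_one' := by
    apply MulEquiv.ext
    intro q
    refine QuotientGroup.induction_on q ?_
    intro x
    rw [QuotientGroup.congr_mk]
    rfl
  map_mul' := by
    intro f g
    apply MulEquiv.ext
    intro q
    refine QuotientGroup.induction_on q ?_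
    intro x
    rw [MulAut.mul_apply, QuotientGroup.congr_mk, QuotientGroup.congr_mk,
      QuotientGroup.congr_mk]
    rfl

theorem qAut_mk (f : MulAut P) (x : P) :
    qAut P f (x : P ⧸ Om P) = ((f x : P) : P ⧸ Om P) :=
  QuotientGroup.congr_mk (Om P) (Om P) f (map_Om_eq f) x

/-- the Suzuki datum, without non-commutativity -/
structure SD (P : Type u) [Group P] (K : Subgroup (MulAut P)) : Prop where
  fin : Finite P
  pg : IsPGroup 2 P
  comm : ∀ k ∈ K, ∀ k' ∈ K, k * k' = k' * k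
  two : ∃ x y : P, x ≠ y ∧ x ≠ 1 ∧ x * x = 1 ∧ y ≠ 1 ∧ y * y = 1
  trans : ∀ x y : P, x ≠ 1 → x * x = 1 → y ≠ 1 → y * y = 1 → ∃ k ∈ K, k x = y
  semi : ∀ k ∈ K, ∀ x : P, x ≠ 1 → x * x = 1 → k x = x → k = 1

theorem exists_central_involution (G : Type u) [Group G] [Finite G] (hG : IsPGroup 2 G)
    [Nontrivial G] : ∃ z ∈ Subgroup.center G, z ≠ 1 ∧ z * z = 1 := by
  haveI : Fact (Nat.Prime 2) := ⟨Nat.prime_two⟩
  haveI := hG.center_nontrivial
  have hc : IsPGroup 2 (Subgroup.center G) := hG.to_subgroup _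
  obtain ⟨m, hm⟩ := (IsPGroup.iff_card (p := 2)).mp hc
  have h1 : 1 < Nat.card (Subgroup.center G) := Finite.one_lt_card
  have hm0 : m ≠ 0 := by
    rintro rfl
    rw [hm, pow_zero] at h1
    exact lt_irrefl _ h1
  have hdvd : 2 ∣ Nat.card (Subgroup.center G) := by
    rw [hm]
    exact dvd_pow_self 2 hm0
  obtain ⟨z, hz⟩ := exists_prime_orderOf_dvd_card' 2 hdvd
  refine ⟨z.1, z.2, ?_, ?_⟩
  · intro h1
    have h2 : z = 1 := Subtype.ext h1
    rw [h2, orderOf_one] at hz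
    exact absurd hz (by norm_num)
  · have h2 : z ^ 2 = 1 := by rw [← hz]; exact pow_orderOf_eq_one z
    have h3 : (z.1) ^ 2 = 1 := by
      have h4 := congrArg Subtype.val h2
      simpa using h4
    rw [pow_two] at h3
    exact h3

namespace SD

variable {K : Subgroup (MulAut P)}

theorem inv_central (h : SD P K) {x : P} (hx : x * x = 1) : x ∈ Subgroup.center P := by
  by_cases hx1 : x = 1
  · rw [hx1]
    exact Subgroup.one_mem _
  haveI := h.fin
  haveI : Nontrivial P := ⟨⟨x, 1, hx1⟩⟩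
  obtain ⟨z, hzc, hz1, hz2⟩ := exists_central_involution P h.pg
  obtain ⟨k, hk, hkz⟩ := h.trans z x hz1 hz2 hx1 hx
  rw [← hkz]
  exact map_center k hzc

theorem mem_Om_iff (h : SD P K) {x : P} : x ∈ Om P ↔ x * x = 1 :=
  ⟨fun hx => hx.2, fun hx => ⟨h.inv_central hx, hx⟩⟩

theorem Om_le (h : SD P K) (H : Subgroup P) (hne : ∃ x ∈ H, x ≠ 1) (hle : H ≤ Om P)
    (hinv : ∀ k ∈ K, ∀ x ∈ H, k x ∈ H) : Om P ≤ H := by
  intro y hy
  obtain ⟨x, hxH, hx1⟩ := hne
  by_cases hy1 : y = 1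
  · rw [hy1]
    exact H.one_mem
  obtain ⟨k, hk, hkx⟩ := h.trans x y hx1 (hle hxH).2 hy1 hy.2
  rw [← hkx]
  exact hinv k hk x hxH

theorem semi_gen (h : SD P K) {k : MulAut P} (hk : k ∈ K) {x : P} (hx1 : x ≠ 1)
    (hkx : k x = x) : k = 1 := by
  classical
  have hex : ∃ j, x ^ (2 ^ j) = 1 := h.pg x
  obtain ⟨j, hj, hmin⟩ : ∃ j, x ^ (2 ^ j) = 1 ∧ ∀ m < j, x ^ (2 ^ m) ≠ 1 :=
    ⟨Nat.find hex, Nat.find_spec hex, fun m hm => Nat.find_min hex hm⟩
  cases j with
  | zero =>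
    rw [pow_zero, pow_one] at hj
    exact absurd hj hx1
  | succ i =>
    have hw1 : x ^ (2 ^ i) ≠ 1 := hmin i (Nat.lt_succ_self i)
    have hw2 : x ^ (2 ^ i) * x ^ (2 ^ i) = 1 := by
      rw [← pow_add]
      have h2 : 2 ^ i + 2 ^ i = 2 ^ (i + 1) := by ring
      rw [h2]
      exact hj
    apply h.semi k hk _ hw1 hw2
    rw [map_pow, hkx]

theorem Om_ne_bot (h : SD P K) : ∃ x ∈ Om P, x ≠ 1 := by
  obtain ⟨x, y, _, hx1, hx2, _⟩ := h.two
  exact ⟨x, ⟨h.inv_central hx2, hx2⟩, hx1⟩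

/-- the quotient by `Om P` inherits the datum -/
theorem quot (h : SD P K)
    (hF3 : ∀ x : P, x * x ∈ Om P → x ∈ Subgroup.center P)
    (hF2 : ∀ z ∈ Om P, ∃ a ∈ Subgroup.center P, a * a = z) :
    SD (P ⧸ Om P) (K.map (qAut P)) := by
  haveI := h.fin
  have hinvQ : ∀ q : P ⧸ Om P, q ≠ 1 → q * q = 1 →
      ∃ x : P, (x : P ⧸ Om P) = q ∧ x ∈ Subgroup.center P ∧ x * x ≠ 1 ∧
        (x * x) * (x * x) = 1 := by
    intro q hq1 hq2
    obtain ⟨x, rfl⟩ := QuotientGroup.mk_surjective q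
    have hxO : x ∉ Om P := fun hx => hq1 ((QuotientGroup.eq_one_iff x).mpr hx)
    rw [← QuotientGroup.mk_mul] at hq2
    have hxx : x * x ∈ Om P := (QuotientGroup.eq_one_iff _).mp hq2
    have hxc := hF3 x hxx
    exact ⟨x, rfl, hxc, fun h1 => hxO ⟨hxc, h1⟩, hxx.2⟩
  refine ⟨inferInstance, h.pg.to_quotient _, ?_, ?_, ?_, ?_⟩
  · rintro _ ⟨k, hk, rfl⟩ _ ⟨k', hk', rfl⟩
    rw [← map_mul, ← map_mul, h.comm k hk k' hk']
  · obtain ⟨z, z', hzz', hz1, hz2, hz'1, hz'2⟩ := h.two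
    have hzO : z ∈ Om P := ⟨h.inv_central hz2, hz2⟩
    have hz'O : z' ∈ Om P := ⟨h.inv_central hz'2, hz'2⟩
    obtain ⟨a, hac, haz⟩ := hF2 z hzO
    obtain ⟨a', ha'c, ha'z⟩ := hF2 z' hz'O
    refine ⟨(a : P ⧸ Om P), (a' : P ⧸ Om P), ?_, ?_, ?_, ?_, ?_⟩
    · intro heq
      have h1 : a⁻¹ * a' ∈ Om P := QuotientGroup.eq.mp heq
      have h2 := h1.2
      apply hzz'
      rw [← haz, ← ha'z]
      have hc : a' * a⁻¹ = a⁻¹ * a' :=
        Subgroup.mem_center_iff.mp ((Subgroup.center P).inv_mem hac) a'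
      have h3 : a⁻¹ * a⁻¹ * (a' * a') = 1 := by
        calc a⁻¹ * a⁻¹ * (a' * a') = a⁻¹ * (a⁻¹ * a') * a' := by group
          _ = a⁻¹ * (a' * a⁻¹) * a' := by rw [hc]
          _ = a⁻¹ * a' * (a⁻¹ * a') := by group
          _ = 1 := h2
      have h4 := eq_inv_of_mul_eq_one_right h3
      rw [mul_inv_rev, inv_inv] at h4
      exact h4.symm
    · intro h1
      have h2 : a ∈ Om P := (QuotientGroup.eq_one_iff a).mp h1
      exact hz1 (by rw [← haz]; exact h2.2)
    · rw [← QuotientGroup.mk_mul, haz]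
      exact (QuotientGroup.eq_one_iff z).mpr hzO
    · intro h1
      have h2 : a' ∈ Om P := (QuotientGroup.eq_one_iff a').mp h1
      exact hz'1 (by rw [← ha'z]; exact h2.2)
    · rw [← QuotientGroup.mk_mul, ha'z]
      exact (QuotientGroup.eq_one_iff z').mpr hz'O
  · intro q q' hq1 hq2 hq'1 hq'2
    obtain ⟨x, rfl, hxc, hx1, hx2⟩ := hinvQ q hq1 hq2
    obtain ⟨y, rfl, hyc, hy1, hy2⟩ := hinvQ q' hq'1 hq'2
    obtain ⟨k, hk, hkz⟩ := h.trans (x * x) (y * y) hx1 hx2 hy1 hy2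
    refine ⟨qAut P k, Subgroup.mem_map_of_mem _ hk, ?_⟩
    rw [qAut_mk]
    apply QuotientGroup.eq.mpr
    have hkxc : k x ∈ Subgroup.center P := map_center k hxc
    refine ⟨(Subgroup.center P).mul_mem ((Subgroup.center P).inv_mem hkxc) hyc, ?_⟩
    have hc : y * (k x)⁻¹ = (k x)⁻¹ * y :=
      Subgroup.mem_center_iff.mp ((Subgroup.center P).inv_mem hkxc) y
    calc (k x)⁻¹ * y * ((k x)⁻¹ * y) = (k x)⁻¹ * (y * (k x)⁻¹) * y := by group
      _ = (k x)⁻¹ * ((k x)⁻¹ * y) * y := by rw [hc]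
      _ = (k x * k x)⁻¹ * (y * y) := by group
      _ = 1 := by rw [← map_mul, hkz, inv_mul_cancel]
  · rintro _ ⟨k, hk, rfl⟩ q hq1 hq2 hfix
    obtain ⟨x, rfl, hxc, hx1, hx2⟩ := hinvQ q hq1 hq2
    rw [qAut_mk] at hfix
    have h1 : (k x)⁻¹ * x ∈ Om P := QuotientGroup.eq.mp hfix
    have h2 : k (x * x) = x * x := by
      rw [map_mul]
      have hc : x * (k x)⁻¹ = (k x)⁻¹ * x :=
        Subgroup.mem_center_iff.mp ((Subgroup.center P).inv_mem (map_center k hxc)) x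
      have h3 : (k x * k x)⁻¹ * (x * x) = 1 := by
        calc (k x * k x)⁻¹ * (x * x) = (k x)⁻¹ * ((k x)⁻¹ * x) * x := by group
          _ = (k x)⁻¹ * (x * (k x)⁻¹) * x := by rw [hc]
          _ = (k x)⁻¹ * x * ((k x)⁻¹ * x) := by group
          _ = 1 := h1.2
      have h4 := eq_inv_of_mul_eq_one_right h3
      rw [inv_inv] at h4
      exact h4.symm
    have h5 : k = 1 := h.semi k hk (x * x) hx1 hx2 h2
    rw [h5, map_one]

end SD

end Cfsg.Agent.Lib.Lead.Sz2D
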