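import Mathlib
import Cfsg.Agent.Lib.Lead.Sz2D1
import Cfsg.Prelude.Def_LieRecognition

set_option autoImplicit false

/-!
# Suzuki 2-groups: the centre is elementary abelian (Higman)

If `SD P K` holds and the centre of `P` contains an element of order four then `P` is abelian.
-/

namespace Cfsg.Agent.Lib.Lead.Sz2D

universe u

variable {P : Type u} [Group P]

/-- the commutator `(y x)⁻¹ (x y)` -/
def cm (x y : P) : P := (y * x)⁻¹ * (x * y)

theorem mul_eq_cm (x y : P) : x * y = y * x * cm x y := by unfold cm; group

theorem cm_self (x : P) : cm x x = 1 := by unfold cm; group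

theorem cm_inv (x y : P) : cm y x = (cm x y)⁻¹ := by unfold cm; group

theorem map_cm (f : MulAut P) (x y : P) : f (cm x y) = cm (f x) (f y) := by
  unfold cm
  rw [map_mul, map_inv, map_mul, map_mul]

theorem cm_central_left {a : P} (ha : a ∈ Subgroup.center P) (y : P) : cm a y = 1 := by
  unfold cm
  have h1 : y * a = a * y := Subgroup.mem_center_iff.mp ha y
  rw [h1, inv_mul_cancel]

theorem cm_mul_left (hcl : ∀ x y : P, cm x y ∈ Subgroup.center P) (x x' y : P) :
    cm (x * x') y = cm x y * cm x' y := by
  have e1 := mul_eq_cm (x * x') y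
  have hcen : cm x y * x' = x' * cm x y := (Subgroup.mem_center_iff.mp (hcl x y) x').symm
  have e2 : x * x' * y = y * (x * x') * (cm x y * cm x' y) := by
    calc x * x' * y = x * (x' * y) := by group
      _ = x * (y * x' * cm x' y) := by rw [← mul_eq_cm x' y]
      _ = (x * y) * x' * cm x' y := by group
      _ = (y * x * cm x y) * x' * cm x' y := by rw [← mul_eq_cm x y]
      _ = y * x * (cm x y * x') * cm x' y := by group
      _ = y * x * (x' * cm x y) * cm x' y := by rw [hcen]
      _ = y * (x * x') * (cm x y * cm x' y) := by group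
  exact mul_left_cancel (e1.symm.trans e2)

theorem cm_mul_right (hcl : ∀ x y : P, cm x y ∈ Subgroup.center P) (x y y' : P) :
    cm x (y * y') = cm x y * cm x y' := by
  rw [cm_inv (y * y') x, cm_mul_left hcl y y' x, mul_inv_rev, ← cm_inv, ← cm_inv]
  exact Subgroup.mem_center_iff.mp (hcl x y) (cm x y')

namespace SD

variable {K : Subgroup (MulAut P)}

theorem sq_surj (h : SD P K) (a₀ : P) (ha₀c : a₀ ∈ Subgroup.center P) (ha₀ : a₀ * a₀ ≠ 1) :
    ∀ z ∈ Om P, ∃ a ∈ Subgroup.center P, a * a = z := by
  classical
  have hex : ∃ j, a₀ ^ (2 ^ j) = 1 := h.pg a₀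
  obtain ⟨j, hj, hmin⟩ : ∃ j, a₀ ^ (2 ^ j) = 1 ∧ ∀ m < j, a₀ ^ (2 ^ m) ≠ 1 :=
    ⟨Nat.find hex, Nat.find_spec hex, fun m hm => Nat.find_min hex hm⟩
  cases j with
  | zero =>
    rw [pow_zero, pow_one] at hj
    rw [hj, mul_one] at ha₀
    exact absurd rfl ha₀
  | succ j =>
    cases j with
    | zero =>
      rw [zero_add, pow_one, pow_two] at hj
      exact absurd hj ha₀
    | succ i =>
      let b := a₀ ^ (2 ^ i)
      have hbc : b ∈ Subgroup.center P := Subgroup.pow_mem _ ha₀c _
      have hbb : b * b = a₀ ^ (2 ^ (i + 1)) := by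
        show a₀ ^ (2 ^ i) * a₀ ^ (2 ^ i) = _
        rw [← pow_add]
        congr 1
        ring
      have hb2 : b * b ≠ 1 := by
        rw [hbb]
        exact hmin (i + 1) (by omega)
      have hb4 : (b * b) * (b * b) = 1 := by
        rw [hbb, ← pow_add]
        have h2 : 2 ^ (i + 1) + 2 ^ (i + 1) = 2 ^ (i + 1 + 1) := by ring
        rw [h2]
        exact hj
      let S : Subgroup P :=
        { carrier := {z | z ∈ Om P ∧ ∃ a ∈ Subgroup.center P, a * a = z}
          mul_mem' := by
            rintro z z' ⟨hz, a, hac, rfl⟩ ⟨hz', a', ha'c, rfl⟩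
            refine ⟨(Om P).mul_mem hz hz', a * a', (Subgroup.center P).mul_mem hac ha'c, ?_⟩
            have hc : a' * a = a * a' := Subgroup.mem_center_iff.mp hac a'
            calc a * a' * (a * a') = a * (a' * a) * a' := by group
              _ = a * (a * a') * a' := by rw [hc]
              _ = a * a * (a' * a') := by group
          one_mem' := ⟨(Om P).one_mem, 1, (Subgroup.center P).one_mem, one_mul 1⟩
          inv_mem' := by
            rintro z ⟨hz, a, hac, rfl⟩
            exact ⟨(Om P).inv_mem hz, a⁻¹, (Subgroup.center P).inv_mem hac,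
              (mul_inv_rev a a).symm⟩ }
      have hS : Om P ≤ S := by
        apply h.Om_le S
          ⟨b * b, ⟨⟨(Subgroup.center P).mul_mem hbc hbc, hb4⟩, b, hbc, rfl⟩, hb2⟩
        · intro z hz
          exact hz.1
        · rintro k hk z ⟨hz, a, hac, rfl⟩
          exact ⟨map_Om k hz, k a, map_center k hac, (map_mul k a a).symm⟩
      intro z hz
      exact (hS hz).2

theorem center_of_sq (h : SD P K)
    (hF2 : ∀ z ∈ Om P, ∃ a ∈ Subgroup.center P, a * a = z) :
    ∀ x : P, x * x ∈ Om P → x ∈ Subgroup.center P := by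
  intro x hx
  obtain ⟨a, hac, haz⟩ := hF2 _ hx
  have hai : a⁻¹ ∈ Subgroup.center P := (Subgroup.center P).inv_mem hac
  have hc : x * a⁻¹ = a⁻¹ * x := Subgroup.mem_center_iff.mp hai x
  have h1 : (x * a⁻¹) * (x * a⁻¹) = 1 := by
    calc x * a⁻¹ * (x * a⁻¹) = x * (a⁻¹ * x) * a⁻¹ := by group
      _ = x * (x * a⁻¹) * a⁻¹ := by rw [hc]
      _ = x * x * (a * a)⁻¹ := by group
      _ = 1 := by rw [haz, mul_inv_cancel]
  have h2 := h.inv_central h1
  have h3 : x = x * a⁻¹ * a := by group
  rw [h3]
  exact (Subgroup.center P).mul_mem h2 hac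

theorem abelian_of_class_two (h : SD P K) (a₀ : P) (ha₀c : a₀ ∈ Subgroup.center P)
    (ha₀ : a₀ * a₀ ≠ 1) (hcl : ∀ x y : P, cm x y ∈ Om P) : ∀ x y : P, x * y = y * x := by
  classical
  haveI := h.fin
  have hclc : ∀ x y : P, cm x y ∈ Subgroup.center P := fun x y => (hcl x y).1
  have hexp : ∃ m, ∀ a ∈ Subgroup.center P, a ^ (2 ^ m) = 1 := by
    obtain ⟨m, hm⟩ := (IsPGroup.iff_card (p := 2)).mp h.pg
    exact ⟨m, fun a _ => by rw [← hm]; exact pow_card_eq_one'⟩
  obtain ⟨kk, hkk, hmin⟩ : ∃ kk, (∀ a ∈ Subgroup.center P, a ^ (2 ^ kk) = 1) ∧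
      ∀ m < kk, ¬ ∀ a ∈ Subgroup.center P, a ^ (2 ^ m) = 1 :=
    ⟨Nat.find hexp, Nat.find_spec hexp, fun m hm => Nat.find_min hexp hm⟩
  cases kk with
  | zero =>
    exfalso
    have h1 := hkk a₀ ha₀c
    rw [pow_zero, pow_one] at h1
    rw [h1, mul_one] at ha₀
    exact ha₀ rfl
  | succ j =>
    cases j with
    | zero =>
      exfalso
      have h1 := hkk a₀ ha₀c
      rw [zero_add, pow_one, pow_two] at h1
      exact ha₀ h1
    | succ j0 =>
      have hmin' : ¬ ∀ a ∈ Subgroup.center P, a ^ (2 ^ (j0 + 1)) = 1 :=
        hmin (j0 + 1) (Nat.lt_succ_self _)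
      push Not at hmin'
      obtain ⟨a₁, ha₁c, ha₁⟩ := hmin'
      let T : Subgroup P :=
        { carrier := {z | ∃ d ∈ Subgroup.center P, d ^ (2 ^ (j0 + 1)) = z}
          mul_mem' := by
            rintro z z' ⟨d, hd, rfl⟩ ⟨d', hd', rfl⟩
            refine ⟨d * d', (Subgroup.center P).mul_mem hd hd', ?_⟩
            have hcomm : Commute d d' := Subgroup.mem_center_iff.mp hd' d
            exact hcomm.mul_pow _
          one_mem' := ⟨1, (Subgroup.center P).one_mem, one_pow _⟩
          inv_mem' := by
            rintro z ⟨d, hd, rfl⟩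
            exact ⟨d⁻¹, (Subgroup.center P).inv_mem hd, inv_pow d _⟩ }
      have hT : Om P ≤ T := by
        apply h.Om_le T ⟨a₁ ^ (2 ^ (j0 + 1)), ⟨a₁, ha₁c, rfl⟩, ha₁⟩
        · rintro z ⟨d, hd, rfl⟩
          refine ⟨Subgroup.pow_mem _ hd _, ?_⟩
          rw [← pow_add]
          have h2 : 2 ^ (j0 + 1) + 2 ^ (j0 + 1) = 2 ^ (j0 + 1 + 1) := by ring
          rw [h2]
          exact hkk d hd
        · rintro k hk z ⟨d, hd, rfl⟩
          exact ⟨k d, map_center k hd, (map_pow k d _).symm⟩
      have hdiv : ∀ i, i ≤ j0 + 1 → ∀ a ∈ Subgroup.center P, a ^ (2 ^ i) = 1 →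
          ∃ b ∈ Subgroup.center P, b * b = a := by
        intro i
        induction i with
        | zero =>
          intro _ a _ ha
          rw [pow_zero, pow_one] at ha
          exact ⟨1, (Subgroup.center P).one_mem, by rw [ha, mul_one]⟩
        | succ i ih =>
          intro hi a hac ha
          have hz : a ^ (2 ^ i) ∈ Om P := by
            refine ⟨Subgroup.pow_mem _ hac _, ?_⟩
            rw [← pow_add]
            have h2 : 2 ^ i + 2 ^ i = 2 ^ (i + 1) := by ring
            rw [h2]
            exact ha
          obtain ⟨d, hdc, hdz⟩ := hT hz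
          obtain ⟨t, ht⟩ := Nat.exists_eq_add_of_le hi
          let f := d ^ (2 ^ t)
          let e := d ^ (2 ^ (t + 1))
          have hfc : f ∈ Subgroup.center P := Subgroup.pow_mem _ hdc _
          have hec : e ∈ Subgroup.center P := Subgroup.pow_mem _ hdc _
          have hef : f * f = e := by
            show d ^ (2 ^ t) * d ^ (2 ^ t) = d ^ (2 ^ (t + 1))
            rw [← pow_add]
            congr 1
            ring
          have he : e ^ (2 ^ i) = a ^ (2 ^ i) := by
            show (d ^ (2 ^ (t + 1))) ^ (2 ^ i) = a ^ (2 ^ i)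
            rw [← pow_mul, ← hdz]
            congr 1
            rw [← pow_add, ht]
            congr 1
            omega
          have heic : e⁻¹ ∈ Subgroup.center P := (Subgroup.center P).inv_mem hec
          have hcomm : Commute a e⁻¹ := Subgroup.mem_center_iff.mp heic a
          have h1 : (a * e⁻¹) ^ (2 ^ i) = 1 := by
            rw [hcomm.mul_pow, inv_pow, he, mul_inv_cancel]
          obtain ⟨b, hbc, hb⟩ :=
            ih (by omega) (a * e⁻¹) ((Subgroup.center P).mul_mem hac heic) h1
          refine ⟨b * f, (Subgroup.center P).mul_mem hbc hfc, ?_⟩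
          have hc2 : f * b = b * f := Subgroup.mem_center_iff.mp hbc f
          calc b * f * (b * f) = b * (f * b) * f := by group
            _ = b * (b * f) * f := by rw [hc2]
            _ = b * b * (f * f) := by group
            _ = a * e⁻¹ * e := by rw [hb, hef]
            _ = a := by group
      have hx2 : ∀ x : P, x * x ∈ Subgroup.center P := by
        intro x
        rw [Subgroup.mem_center_iff]
        intro g
        have hc := hcl x g
        have e1 : x * g = g * x * cm x g := mul_eq_cm x g
        have hcx : cm x g * x = x * cm x g := (Subgroup.mem_center_iff.mp hc.1 x).symm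
        calc g * (x * x) = g * (x * x) * (cm x g * cm x g) := by rw [hc.2, mul_one]
          _ = g * x * (x * cm x g) * cm x g := by group
          _ = g * x * (cm x g * x) * cm x g := by rw [hcx]
          _ = (g * x * cm x g) * x * cm x g := by group
          _ = (x * g) * x * cm x g := by rw [← e1]
          _ = x * (g * x * cm x g) := by group
          _ = x * (x * g) := by rw [← e1]
          _ = x * x * g := by group
      let pi : P → P := fun x => (x * x) ^ (2 ^ (j0 + 1))
      have hpidef : ∀ x, pi x = (x * x) ^ (2 ^ (j0 + 1)) := fun _ => rfl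
      have hpiO : ∀ x, pi x ∈ Om P := by
        intro x
        refine ⟨Subgroup.pow_mem _ (hx2 x) _, ?_⟩
        rw [hpidef, ← pow_add]
        have h2 : 2 ^ (j0 + 1) + 2 ^ (j0 + 1) = 2 ^ (j0 + 1 + 1) := by ring
        rw [h2]
        exact hkk _ (hx2 x)
      have hpimul : ∀ x y, pi (x * y) = pi x * pi y := by
        intro x y
        have hc := hcl y x
        have e1 : y * x = x * y * cm y x := mul_eq_cm y x
        have hcy : cm y x * y = y * cm y x := (Subgroup.mem_center_iff.mp hc.1 y).symm
        have e2 : x * y * (x * y) = (x * x) * (y * y) * cm y x := by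
          calc x * y * (x * y) = x * (y * x) * y := by group
            _ = x * (x * y * cm y x) * y := by rw [← e1]
            _ = x * x * y * (cm y x * y) := by group
            _ = x * x * y * (y * cm y x) := by rw [hcy]
            _ = (x * x) * (y * y) * cm y x := by group
        have hcomm1 : Commute ((x * x) * (y * y)) (cm y x) :=
          Subgroup.mem_center_iff.mp hc.1 _
        have hcomm2 : Commute (x * x) (y * y) := Subgroup.mem_center_iff.mp (hx2 y) _
        have hcpow : (cm y x) ^ (2 ^ (j0 + 1)) = 1 := by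
          rw [pow_succ', pow_mul, pow_two, hc.2, one_pow]
        rw [hpidef, hpidef, hpidef, e2, hcomm1.mul_pow, hcomm2.mul_pow, hcpow, mul_one]
      have hpik : ∀ (k : MulAut P) (x : P), k (pi x) = pi (k x) := by
        intro k x
        rw [hpidef, hpidef, map_pow, map_mul]
      have hpiker : ∀ x, pi x = 1 → x ∈ Subgroup.center P := by
        intro x hx
        obtain ⟨b, hbc, hb⟩ := hdiv (j0 + 1) le_rfl (x * x) (hx2 x) hx
        have hbi : b⁻¹ ∈ Subgroup.center P := (Subgroup.center P).inv_mem hbc
        have hc : x * b⁻¹ = b⁻¹ * x := Subgroup.mem_center_iff.mp hbi x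
        have h1 : (x * b⁻¹) * (x * b⁻¹) = 1 := by
          calc x * b⁻¹ * (x * b⁻¹) = x * (b⁻¹ * x) * b⁻¹ := by group
            _ = x * (x * b⁻¹) * b⁻¹ := by rw [hc]
            _ = x * x * (b * b)⁻¹ := by group
            _ = 1 := by rw [hb, mul_inv_cancel]
        have h2 := h.inv_central h1
        have h3 : x = x * b⁻¹ * b := by group
        rw [h3]
        exact (Subgroup.center P).mul_mem h2 hbc
      by_cases hpi : ∀ x, pi x = 1
      · intro x y
        exact Subgroup.mem_center_iff.mp (hpiker y (hpi y)) x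
      · push Not at hpi
        obtain ⟨x₁, hx₁⟩ := hpi
        have hpi1 : pi 1 = 1 := by rw [hpidef, mul_one, one_pow]
        have hpiinv : ∀ x, pi x⁻¹ = (pi x)⁻¹ := by
          intro x
          have h1 := hpimul x x⁻¹
          rw [mul_inv_cancel, hpi1] at h1
          exact eq_inv_of_mul_eq_one_right h1.symm
        let T' : Subgroup P :=
          { carrier := {z | ∃ x, pi x = z}
            mul_mem' := by
              rintro z z' ⟨x, rfl⟩ ⟨x', rfl⟩
              exact ⟨x * x', hpimul x x'⟩
            one_mem' := ⟨1, hpi1⟩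
            inv_mem' := by
              rintro z ⟨x, rfl⟩
              exact ⟨x⁻¹, hpiinv x⟩ }
        have hT' : Om P ≤ T' := by
          apply h.Om_le T' ⟨pi x₁, ⟨x₁, rfl⟩, hx₁⟩
          · rintro z ⟨x, rfl⟩
            exact hpiO x
          · rintro k hk z ⟨x, rfl⟩
            exact ⟨k x, (hpik k x).symm⟩
        have hsurj : ∀ z : Om P, ∃ x, pi x = z.1 := fun z => hT' z.2
        choose g hg using hsurj
        have hdep1 : ∀ x x' y, pi x = pi x' → cm x y = cm x' y := by
          intro x x' y hxx
          have ha : x⁻¹ * x' ∈ Subgroup.center P := by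
            apply hpiker
            rw [hpimul, hpiinv, hxx, inv_mul_cancel]
          have h3 : cm x' y = cm (x * (x⁻¹ * x')) y := by
            congr 1
            group
          rw [h3, cm_mul_left hclc, cm_central_left ha, mul_one]
        have hdep2 : ∀ x y y', pi y = pi y' → cm x y = cm x y' := by
          intro x y y' hyy
          rw [cm_inv y x, cm_inv y' x, hdep1 y y' x hyy]
        letI instZ : CommGroup (Om P) :=
          { (inferInstance : Group (Om P)) with
            mul_comm := fun a b => Subtype.ext (Subgroup.mem_center_iff.mp b.2.1 a.1) }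
        letI instK : CommGroup K :=
          { (inferInstance : Group K) with
            mul_comm := fun a b => Subtype.ext (h.comm a.1 a.2 b.1 b.2) }
        let act : K → Om P → Om P := fun k z => ⟨(k : MulAut P) z.1, map_Om k.1 z.2⟩
        obtain ⟨x0, _, _, hx01, hx02, _⟩ := h.two
        let e : Om P := ⟨x0, ⟨h.inv_central hx02, hx02⟩⟩
        have hR : Sz2C.RAct K (Om P) act e :=
          { act_one := fun z => Subtype.ext rfl
            act_mul := fun k k' z => Subtype.ext rfl
            act_hom := fun k x y => Subtype.ext (map_mul k.1 x.1 y.1)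
            ne := fun he => hx01 (congrArg Subtype.val he)
            ex := by
              intro z hz
              have hz1 : z.1 ≠ 1 := fun h1 => hz (Subtype.ext h1)
              obtain ⟨k, hk, hkz⟩ := h.trans x0 z.1 hx01 hx02 hz1 z.2.2
              exact ⟨⟨k, hk⟩, Subtype.ext hkz⟩
            uniq := by
              intro k k' hkk
              have hval : k.1 x0 = k'.1 x0 := congrArg Subtype.val hkk
              have h1 : (k'.1⁻¹ * k.1) x0 = x0 := by
                rw [MulAut.mul_apply, hval, MulAut.inv_apply_self]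
              have h2 := h.semi _ (K.mul_mem (K.inv_mem k'.2) k.2) x0 hx01 hx02 h1
              exact Subtype.ext (inv_mul_eq_one.mp h2).symm
            two := fun z => Subtype.ext z.2.2 }
        let b : Om P → Om P → Om P := fun z z' => ⟨cm (g z) (g z'), hcl _ _⟩
        have hgmul : ∀ z z' : Om P, pi (g (z * z')) = pi (g z * g z') := by
          intro z z'
          exact (hg (z * z')).trans ((show (z * z').1 = z.1 * z'.1 from rfl).trans
            (by rw [hpimul, hg, hg]))
        have hgact : ∀ (k : K) (z : Om P), pi (g (act k z)) = pi (k.1 (g z)) := by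
          intro k z
          have h1 : pi (g (act k z)) = k.1 z.1 := hg (act k z)
          rw [h1, ← hg z, hpik]
        have hb := Sz2C.alt_trivial hR b
          (by
            intro x y z
            apply Subtype.ext
            show cm (g (x * y)) (g z) = cm (g x) (g z) * cm (g y) (g z)
            rw [hdep1 _ _ _ (hgmul x y), cm_mul_left hclc])
          (by
            intro x y z
            apply Subtype.ext
            show cm (g x) (g (y * z)) = cm (g x) (g y) * cm (g x) (g z)
            rw [hdep2 _ _ _ (hgmul y z), cm_mul_right hclc])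
          (fun x => Subtype.ext (cm_self _))
          (by
            intro k x y
            apply Subtype.ext
            show cm (g (act k x)) (g (act k y)) = k.1 (cm (g x) (g y))
            rw [map_cm, hdep1 _ _ _ (hgact k x), hdep2 _ _ _ (hgact k y)])
        intro x y
        have h1 : cm x y = cm (g ⟨pi x, hpiO x⟩) (g ⟨pi y, hpiO y⟩) := by
          rw [hdep1 x (g ⟨pi x, hpiO x⟩) y (hg ⟨pi x, hpiO x⟩).symm,
            hdep2 _ y (g ⟨pi y, hpiO y⟩) (hg ⟨pi y, hpiO y⟩).symm]
        have h2 := congrArg Subtype.val (hb ⟨pi x, hpiO x⟩ ⟨pi y, hpiO y⟩)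
        have h3 : cm x y = 1 := h1.trans h2
        rw [mul_eq_cm x y, h3, mul_one]

end SD

/-- Higman: a Suzuki datum with a central element of order four is abelian. -/
theorem main_aux : ∀ (n : ℕ) (P : Type u) [Group P] (K : Subgroup (MulAut P)),
    Nat.card P = n → SD P K → (∃ a ∈ Subgroup.center P, a * a ≠ 1) →
    ∀ x y : P, x * y = y * x := by
  intro n
  induction n using Nat.strong_induction_on with
  | _ n ih =>
    intro P _ K hn h hex
    obtain ⟨a₀, ha₀c, ha₀⟩ := hex
    haveI := h.fin
    have hF2 := h.sq_surj a₀ ha₀c ha₀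
    have hF3 := h.center_of_sq hF2
    have hQ : SD (P ⧸ Om P) (K.map (qAut P)) := h.quot hF3 hF2
    have hcard : Nat.card (P ⧸ Om P) < n := by
      have h1 := Subgroup.card_eq_card_quotient_mul_card_subgroup (Om P)
      have h2 : 1 < Nat.card (Om P) := by
        rw [Subgroup.one_lt_card_iff_ne_bot]
        obtain ⟨x, hxO, hx1⟩ := h.Om_ne_bot
        intro hbot
        rw [hbot, Subgroup.mem_bot] at hxO
        exact hx1 hxO
      have h3 : 0 < Nat.card (P ⧸ Om P) := Nat.card_pos
      rw [hn] at h1
      nlinarith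
    by_cases hab : ∀ q q' : P ⧸ Om P, q * q' = q' * q
    · apply h.abelian_of_class_two a₀ ha₀c ha₀
      intro x y
      have h1 : ((y * x : P) : P ⧸ Om P) = ((x * y : P) : P ⧸ Om P) :=
        (hab (x : P ⧸ Om P) (y : P ⧸ Om P)).symm
      exact QuotientGroup.eq.mp h1
    · exfalso
      have hZQ : ∀ u ∈ Subgroup.center (P ⧸ Om P), u * u = 1 := by
        intro u hu
        by_contra hne
        exact hab (ih _ hcard (P ⧸ Om P) (K.map (qAut P)) rfl hQ ⟨u, hu, hne⟩)
      have hPab : ¬ ∀ x y : P, x * y = y * x := by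
        intro hP
        apply hab
        intro q q'
        refine QuotientGroup.induction_on q ?_
        intro x
        refine QuotientGroup.induction_on q' ?_
        intro y
        rw [← QuotientGroup.mk_mul, ← QuotientGroup.mk_mul, hP]
      haveI : Nontrivial (P ⧸ Subgroup.center P) := by
        by_contra hnt
        rw [not_nontrivial_iff_subsingleton] at hnt
        apply hPab
        intro x y
        have hy : y ∈ Subgroup.center P := by
          have h1 : ((y : P) : P ⧸ Subgroup.center P) = 1 := Subsingleton.elim _ _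
          exact (QuotientGroup.eq_one_iff y).mp h1
        exact Subgroup.mem_center_iff.mp hy x
      obtain ⟨ū, hūc, hū1, hū2⟩ :=
        exists_central_involution (P ⧸ Subgroup.center P) (h.pg.to_quotient _)
      obtain ⟨y, rfl⟩ := QuotientGroup.mk_surjective ū
      have hy1 : y ∉ Subgroup.center P := fun hy => hū1 ((QuotientGroup.eq_one_iff y).mpr hy)
      have hy2 : y * y ∈ Subgroup.center P := by
        rw [← QuotientGroup.mk_mul] at hū2
        exact (QuotientGroup.eq_one_iff _).mp hū2
      have hyc : ∀ g : P, cm y g ∈ Om P := by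
        intro g
        have h1 : ((g * y : P) : P ⧸ Subgroup.center P) =
            ((y * g : P) : P ⧸ Subgroup.center P) :=
          Subgroup.mem_center_iff.mp hūc (g : P ⧸ Subgroup.center P)
        have hc : cm y g ∈ Subgroup.center P := QuotientGroup.eq.mp h1
        refine ⟨hc, ?_⟩
        have e1 : y * g = g * y * cm y g := mul_eq_cm y g
        have hcy : cm y g * y = y * cm y g := (Subgroup.mem_center_iff.mp hc y).symm
        have e2 : y * y * g = g * (y * y) * (cm y g * cm y g) := by
          calc y * y * g = y * (y * g) := by group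
            _ = y * (g * y * cm y g) := by rw [← e1]
            _ = (y * g) * y * cm y g := by group
            _ = (g * y * cm y g) * y * cm y g := by rw [← e1]
            _ = g * y * (cm y g * y) * cm y g := by group
            _ = g * y * (y * cm y g) * cm y g := by rw [hcy]
            _ = g * (y * y) * (cm y g * cm y g) := by group
        have e3 : g * (y * y) = y * y * g := Subgroup.mem_center_iff.mp hy2 g
        rw [← e3] at e2
        have e4 : g * (y * y) * (cm y g * cm y g) = g * (y * y) * 1 := by
          rw [mul_one]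
          exact e2.symm
        exact mul_left_cancel e4
      have hyQ : ((y : P) : P ⧸ Om P) ∈ Subgroup.center (P ⧸ Om P) := by
        rw [Subgroup.mem_center_iff]
        intro q
        refine QuotientGroup.induction_on q ?_
        intro g
        rw [← QuotientGroup.mk_mul, ← QuotientGroup.mk_mul]
        exact QuotientGroup.eq.mpr (hyc g)
      have h5 := hZQ _ hyQ
      rw [← QuotientGroup.mk_mul] at h5
      have h6 : y * y ∈ Om P := (QuotientGroup.eq_one_iff _).mp h5
      exact hy1 (hF3 y h6)

theorem main {K : Subgroup (MulAut P)} (h : SD P K)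
    (hex : ∃ a ∈ Subgroup.center P, a * a ≠ 1) : ∀ x y : P, x * y = y * x :=
  main_aux _ P K rfl h hex

theorem suzuki_SD (hP : Cfsg.IsSuzukiTwoGroup P) : ∃ K : Subgroup (MulAut P), SD P K := by
  obtain ⟨hfin, hpg, _, htwo, K, hcyc, hreg⟩ := hP
  refine ⟨K, hfin, hpg, ?_, htwo, ?_, ?_⟩
  · intro k hk k' hk'
    haveI := hcyc
    letI := IsCyclic.commGroup (α := K)
    exact congrArg Subtype.val (mul_comm (⟨k, hk⟩ : K) ⟨k', hk'⟩)
  · intro x y hx1 hx2 hy1 hy2
    obtain ⟨k, hk, _⟩ := hreg x y hx1 hx2 hy1 hy2
    exact ⟨k.1, k.2, hk⟩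
  · intro k hk x hx1 hx2 hkx
    have h1 := (hreg x x hx1 hx2 hx1 hx2).unique (y₁ := ⟨k, hk⟩) (y₂ := 1) hkx rfl
    exact congrArg Subtype.val h1

theorem involutions_central (hP : Cfsg.IsSuzukiTwoGroup P) :
    (∀ x : P, (x ≠ 1 ∧ x * x = 1) ↔ (x ∈ Subgroup.center P ∧ x ≠ 1)) ∧
      ∀ z ∈ Subgroup.center P, z * z = 1 := by
  obtain ⟨K, hSD⟩ := suzuki_SD hP
  have hexp : ∀ z ∈ Subgroup.center P, z * z = 1 := by
    intro z hz
    by_contra hne
    obtain ⟨x, y, hxy⟩ := hP.2.2.1
    exact hxy (main hSD ⟨z, hz, hne⟩ x y)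
  refine ⟨fun x => ⟨fun hx => ⟨hSD.inv_central hx.2, hx.1⟩, fun hx => ⟨hx.2, hexp x hx.1⟩⟩, hexp⟩

end Cfsg.Agent.Lib.Lead.Sz2D
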