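import Mathlib
import Cfsg.Agent.Lib.Helper1.Hall

set_option autoImplicit false

namespace Cfsg.Agent.Lib.Lead.LiftPSub

open Cfsg.Agent.Lib.Helper1

variable {G : Type*} [Group G]

/-- A subgroup meeting the kernel trivially maps isomorphically. -/
theorem card_map_of_inf_ker_eq_bot {H : Type*} [Group H] (f : G →* H) (T : Subgroup G)
    (h : T ⊓ f.ker = ⊥) : Nat.card (T.map f) = Nat.card T := by
  have hinj : Function.Injective (f.comp T.subtype) := by
    rw [injective_iff_map_eq_one]
    intro t ht
    have : (t : G) ∈ T ⊓ f.ker := ⟨t.2, ht⟩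
    rw [h, Subgroup.mem_bot] at this
    exact Subtype.ext this
  have hr : (f.comp T.subtype).range = T.map f := by
    rw [MonoidHom.range_comp, Subgroup.range_subtype]
  rw [← hr]
  exact (Nat.card_congr (MonoidHom.ofInjective hinj).toEquiv).symm

/-- Lifting `p`-subgroups through a quotient by a normal `p'`-subgroup: if `O` is a normal
`p'`-subgroup, `E` a `p`-subgroup of `G` and `B` a `p`-subgroup of `G ⧸ O` containing the image
of `E`, then `B` is the image of a `p`-subgroup `T ≥ E` of `G` (and `T ⊓ O = ⊥`). -/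
theorem exists_lift [Finite G] (p : ℕ) [Fact p.Prime] (O : Subgroup G) [O.Normal]
    (hO : (Nat.card O).Coprime p) (E : Subgroup G) (hE : IsPGroup p E)
    (B : Subgroup (G ⧸ O)) (hB : IsPGroup p B) (hEB : E.map (QuotientGroup.mk' O) ≤ B) :
    ∃ T : Subgroup G, E ≤ T ∧ IsPGroup p T ∧ T.map (QuotientGroup.mk' O) = B ∧ T ⊓ O = ⊥ := by
  set π := QuotientGroup.mk' O with hπ
  have hsurj : Function.Surjective π := QuotientGroup.mk'_surjective O
  set M : Subgroup G := B.comap π with hM
  have hEM : E ≤ M := Subgroup.map_le_iff_le_comap.mp hEB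
  have hEp' : IsPGroup p (E.subgroupOf M) := by
    have : IsPGroup p ((E.subgroupOf M).map M.subtype) := by
      rw [Subgroup.subgroupOf_map_subtype, inf_of_le_left hEM]; exact hE
    exact this.of_injective ((E.subgroupOf M).equivMapOfInjective M.subtype M.subtype_injective).toMonoidHom
      (MulEquiv.injective _)
  obtain ⟨Q, hQ⟩ := hEp'.exists_le_sylow
  set T : Subgroup G := (Q : Subgroup M).map M.subtype with hT
  have hTM : T ≤ M := Subgroup.map_subtype_le _
  have hTp : IsPGroup p T := Q.2.map M.subtype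
  have hET : E ≤ T := by
    intro e he
    exact ⟨⟨e, hEM he⟩, hQ (Subgroup.mem_subgroupOf.mpr he), rfl⟩
  have hTO : T ⊓ O = ⊥ := by
    apply (Subgroup.disjoint_of_coprime_natCard _).eq_bot
    obtain ⟨a, ha⟩ := IsPGroup.iff_card.mp hTp
    rw [ha]
    exact (Nat.Coprime.pow_right _ hO).symm
  refine ⟨T, hET, hTp, ?_, hTO⟩
  have hle : T.map π ≤ B := by
    have := Subgroup.map_mono (f := π) hTM
    rwa [hM, Subgroup.map_comap_eq_self_of_surjective hsurj] at this
  apply Subgroup.eq_of_le_of_card_ge hle
  have hker : T ⊓ π.ker = ⊥ := by rw [hπ, QuotientGroup.ker_mk']; exact hTO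
  rw [card_map_of_inf_ker_eq_bot π T hker]
  have hTcard : Nat.card T = p ^ (Nat.card M).factorization p := by
    rw [hT, Subgroup.card_map_of_injective M.subtype_injective]
    exact Q.card_eq_multiplicity
  obtain ⟨b, hb⟩ := IsPGroup.iff_card.mp hB
  have hMcard : Nat.card M = Nat.card O * p ^ b := by
    rw [hM, card_comap_mk', hb]
  have hfac : (Nat.card M).factorization p = b := by
    rw [hMcard, Nat.factorization_mul Nat.card_pos.ne' (pow_pos (Fact.out : p.Prime).pos _).ne']
    have h1 : (Nat.card O).factorization p = 0 := by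
      apply Nat.factorization_eq_zero_of_not_dvd
      exact fun h => (Nat.Prime.coprime_iff_not_dvd Fact.out).mp hO.symm h
    simp [h1, Nat.Prime.factorization_pow (Fact.out : p.Prime)]
  rw [hTcard, hfac, hb]

end Cfsg.Agent.Lib.Lead.LiftPSub
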