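import Mathlib

/-!
# Farm RV (S3175): shared definitions (sorry-free; units import this file).

`Shape V C`: `V ≤ P` is a group "of the shape of W" with `C` playing the role of
`Z(V) = V' = Φ(V)`, everything phrased with subgroups of the ambient group `P`.
`Intrinsic V`: the same for a group `V` on its own (transports along `≃*`).
-/

set_option autoImplicit false

namespace Cfsg.Agent.Lib.Lead.RVD

/-- `V ≤ P` has centre `C` of order 8 containing all commutators and squares of `V`, has order `2 ^ 11`,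
and every subgroup of `V` of index at most 16 contains `C`. -/
structure Shape {P : Type*} [Group P] (V C : Subgroup P) : Prop where
  le : C ≤ V
  cardV : Nat.card ↥V = 2 ^ 11
  cardC : Nat.card ↥C = 8
  central : ∀ c ∈ C, ∀ v ∈ V, c * v = v * c
  center : ∀ x ∈ V, (∀ v ∈ V, x * v = v * x) → x ∈ C
  comm : ∀ a ∈ V, ∀ b ∈ V, a * b * a⁻¹ * b⁻¹ ∈ C
  sq : ∀ a ∈ V, a ^ 2 ∈ C
  hd : ∀ U : Subgroup P, U ≤ V → U.relIndex V ≤ 16 → C ≤ U

/-- The intrinsic version of `Shape` for a group `V` on its own. -/
structure Intrinsic (V : Type*) [Group V] : Prop where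
  cardV : Nat.card V = 2 ^ 11
  cardC : Nat.card ↥(Subgroup.center V) = 8
  comm : ∀ a b : V, a * b * a⁻¹ * b⁻¹ ∈ Subgroup.center V
  sq : ∀ a : V, a ^ 2 ∈ Subgroup.center V
  hd : ∀ U : Subgroup V, U.index ≤ 16 → Subgroup.center V ≤ U

end Cfsg.Agent.Lib.Lead.RVD
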