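import Mathlib
import Cfsg.Agent.Lib.Helper1.CoprimeSylow

set_option autoImplicit false

universe u

namespace Cfsg.Agent.Lib.Lead.HallSylow

section defs

variable (p : ℕ)

def Good (m : ℕ) : Prop :=
  (IsPrimePow m ∧ m % p = 1) ∨
    ∃ (S : Type u) (_ : Group S) (_ : Finite S), IsSimpleGroup S ∧ m = Nat.card (Sylow p S)

def Phi (n : ℕ) : Prop := ∃ l : List ℕ, l.prod = n ∧ ∀ m ∈ l, Good.{u} p m

theorem Phi_one : Phi.{u} p 1 := ⟨[], rfl, by intro m hm; cases hm⟩

theorem Phi_mul {a b : ℕ} (ha : Phi.{u} p a) (hb : Phi.{u} p b) : Phi.{u} p (a * b) := by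
  obtain ⟨l₁, h₁, g₁⟩ := ha
  obtain ⟨l₂, h₂, g₂⟩ := hb
  refine ⟨l₁ ++ l₂, by rw [List.prod_append, h₁, h₂], ?_⟩
  intro m hm
  rcases List.mem_append.mp hm with h | h
  · exact g₁ m h
  · exact g₂ m h

theorem Phi_of_good {m : ℕ} (h : Good.{u} p m) : Phi.{u} p m :=
  ⟨[m], by simp, by intro m' hm'; rw [List.mem_singleton] at hm'; rw [hm']; exact h⟩

theorem Phi_prod (s : Finset ℕ) (f : ℕ → ℕ) (h : ∀ i ∈ s, Phi.{u} p (f i)) :
    Phi.{u} p (∏ i ∈ s, f i) :=
  Finset.prod_induction f (Phi.{u} p) (fun _ _ => Phi_mul p) (Phi_one p) h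

end defs

section grp

variable {G : Type u} [Group G] [Finite G] (p : ℕ) [Fact p.Prime]

theorem card_lt_of_ne_top (H : Subgroup G) (h : H ≠ ⊤) : Nat.card H < Nat.card G :=
  lt_of_le_of_ne (Subgroup.card_le_card_group H) (fun e => h (Subgroup.eq_top_of_card_eq H e))

theorem card_quot_lt (N : Subgroup G) [N.Normal] (h : N ≠ ⊥) : Nat.card (G ⧸ N) < Nat.card G := by
  have h1 := N.card_mul_index
  have h2 : 1 < Nat.card N := N.one_lt_card_iff_ne_bot.mpr h
  have h3 : 0 < N.index := Nat.pos_of_ne_zero Subgroup.index_ne_zero_of_finite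
  rw [← Subgroup.index_eq_card]
  nlinarith

theorem card_sup_mul_card_inf (H K : Subgroup G) [K.Normal] :
    Nat.card (H ⊔ K : Subgroup G) * Nat.card (H ⊓ K : Subgroup G) = Nat.card H * Nat.card K := by
  have a := Subgroup.relIndex_mul_relIndex (⊥ : Subgroup G) K (H ⊔ K) bot_le le_sup_right
  rw [Subgroup.relIndex_bot_left, Subgroup.relIndex_bot_left, Subgroup.relIndex_sup_right] at a
  have b := Subgroup.relIndex_mul_relIndex (⊥ : Subgroup G) (H ⊓ K) H bot_le inf_le_left
  rw [Subgroup.relIndex_bot_left, Subgroup.relIndex_bot_left, Subgroup.inf_relIndex_left] at b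
  calc Nat.card (H ⊔ K : Subgroup G) * Nat.card (H ⊓ K : Subgroup G)
      = Nat.card K * K.relIndex H * Nat.card (H ⊓ K : Subgroup G) := by rw [a]
    _ = Nat.card (H ⊓ K : Subgroup G) * K.relIndex H * Nat.card K := by ring
    _ = Nat.card H * Nat.card K := by rw [b]

theorem relIndex_eq_index_of_sup_eq_top (X N : Subgroup G) [N.Normal] (h : X ⊔ N = ⊤) :
    X.relIndex N = X.index := by
  have h1 := card_sup_mul_card_inf X N
  rw [h, Subgroup.card_top] at h1
  have h2 := X.card_mul_index
  have h3 := Subgroup.relIndex_mul_relIndex (⊥ : Subgroup G) (X ⊓ N) N bot_le inf_le_right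
  rw [Subgroup.relIndex_bot_left, Subgroup.relIndex_bot_left, Subgroup.inf_relIndex_right] at h3
  have hX : 0 < Nat.card X := Nat.card_pos
  have hXN : 0 < Nat.card (X ⊓ N : Subgroup G) := Nat.card_pos
  have : Nat.card X * Nat.card (X ⊓ N : Subgroup G) * X.relIndex N
      = Nat.card X * Nat.card (X ⊓ N : Subgroup G) * X.index := by
    calc Nat.card X * Nat.card (X ⊓ N : Subgroup G) * X.relIndex N
        = Nat.card X * (Nat.card (X ⊓ N : Subgroup G) * X.relIndex N) := by ring
      _ = Nat.card X * Nat.card N := by rw [h3]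
      _ = Nat.card G * Nat.card (X ⊓ N : Subgroup G) := h1.symm
      _ = Nat.card X * X.index * Nat.card (X ⊓ N : Subgroup G) := by rw [h2]
      _ = Nat.card X * Nat.card (X ⊓ N : Subgroup G) * X.index := by ring
  exact Nat.eq_of_mul_eq_mul_left (Nat.mul_pos hX hXN) this

theorem not_dvd_relIndex_inf (P : Sylow p G) (N : Subgroup G) [N.Normal] :
    ¬ p ∣ ((P : Subgroup G) ⊓ N).relIndex N := by
  intro hdvd
  have h1 := card_sup_mul_card_inf (P : Subgroup G) N
  have h2 := Subgroup.relIndex_mul_relIndex (⊥ : Subgroup G) ((P : Subgroup G) ⊓ N) N bot_le inf_le_right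
  rw [Subgroup.relIndex_bot_left, Subgroup.relIndex_bot_left] at h2
  obtain ⟨j, hj⟩ : Nat.card (P : Subgroup G) ∣ Nat.card ((P : Subgroup G) ⊔ N : Subgroup G) :=
    Subgroup.card_dvd_of_le le_sup_left
  have h4 : Nat.card ((P : Subgroup G) ⊔ N : Subgroup G) ∣ Nat.card G :=
    Subgroup.card_subgroup_dvd_card _
  have h5 := (P : Subgroup G).card_mul_index
  have hP : 0 < Nat.card (P : Subgroup G) := Nat.card_pos
  have hd : 0 < Nat.card ((P : Subgroup G) ⊓ N : Subgroup G) := Nat.card_pos
  have hji : j ∣ (P : Subgroup G).index := by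
    rw [hj, ← h5] at h4
    exact (Nat.mul_dvd_mul_iff_left hP).mp h4
  have hr : ((P : Subgroup G) ⊓ N).relIndex N = j := by
    have : Nat.card (P : Subgroup G) * Nat.card ((P : Subgroup G) ⊓ N : Subgroup G)
          * ((P : Subgroup G) ⊓ N).relIndex N
        = Nat.card (P : Subgroup G) * Nat.card ((P : Subgroup G) ⊓ N : Subgroup G) * j := by
      calc Nat.card (P : Subgroup G) * Nat.card ((P : Subgroup G) ⊓ N : Subgroup G)
            * ((P : Subgroup G) ⊓ N).relIndex N
          = Nat.card (P : Subgroup G) * (Nat.card ((P : Subgroup G) ⊓ N : Subgroup G)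
            * ((P : Subgroup G) ⊓ N).relIndex N) := by ring
        _ = Nat.card (P : Subgroup G) * Nat.card N := by rw [h2]
        _ = Nat.card ((P : Subgroup G) ⊔ N : Subgroup G)
            * Nat.card ((P : Subgroup G) ⊓ N : Subgroup G) := h1.symm
        _ = Nat.card (P : Subgroup G) * j * Nat.card ((P : Subgroup G) ⊓ N : Subgroup G) := by rw [hj]
        _ = Nat.card (P : Subgroup G) * Nat.card ((P : Subgroup G) ⊓ N : Subgroup G) * j := by ring
    exact Nat.eq_of_mul_eq_mul_left (Nat.mul_pos hP hd) this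
  rw [hr] at hdvd
  exact P.not_dvd_index (dvd_trans hdvd hji)

theorem exists_sylow_inf (P : Sylow p G) (N : Subgroup G) [N.Normal] :
    ∃ D : Sylow p N, (D : Subgroup N).map N.subtype = (P : Subgroup G) ⊓ N := by
  have hpg : IsPGroup p (((P : Subgroup G) ⊓ N).subgroupOf N) :=
    (P.isPGroup'.to_le inf_le_left).comap_subtype
  have hidx : ¬ p ∣ (((P : Subgroup G) ⊓ N).subgroupOf N).index := by
    have := not_dvd_relIndex_inf p P N
    rwa [Subgroup.relIndex] at this
  refine ⟨hpg.toSylow hidx, ?_⟩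
  rw [IsPGroup.toSylow_coe, Subgroup.subgroupOf_map_subtype, inf_assoc, inf_idem]

theorem card_sylow_eq_index {K : Type u} [Group K] [Finite K] (P : Sylow p K) :
    Nat.card (Sylow p K) = (Subgroup.normalizer ((P : Subgroup K) : Set K)).index :=
  Sylow.card_eq_index_normalizer P

theorem card_sylow_subgroup (H : Subgroup G) (Q : Sylow p H) :
    Nat.card (Sylow p H)
      = (Subgroup.normalizer (((Q : Subgroup H).map H.subtype : Subgroup G) : Set G)).relIndex H := by
  have e : ((Q : Subgroup H).map H.subtype).subgroupOf H = (Q : Subgroup H) :=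
    Subgroup.comap_map_eq_self_of_injective H.subtype_injective _
  rw [card_sylow_eq_index p Q, Subgroup.relIndex,
    Subgroup.subgroupOf_normalizer_eq (Subgroup.map_subtype_le _), e]

theorem card_sylow_of_le (P : Sylow p G) (H : Subgroup G) (h : (P : Subgroup G) ≤ H) :
    Nat.card (Sylow p H) = (Subgroup.normalizer ((P : Subgroup G) : Set G)).relIndex H := by
  have := card_sylow_subgroup p H (P.subtype h)
  rwa [Sylow.coe_subtype, Subgroup.subgroupOf_map_subtype, inf_eq_left.mpr h] at this

theorem normalizer_le_normalizer_inf (H N : Subgroup G) [hN : N.Normal] :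
    Subgroup.normalizer (H : Set G) ≤ Subgroup.normalizer ((H ⊓ N : Subgroup G) : Set G) := by
  apply Cfsg.Agent.Lib.Helper1.le_normalizer_of_conj_mem
  intro g hg x hx
  exact ⟨(Subgroup.mem_normalizer_iff.mp hg x).mp hx.1, hN.conj_mem x hx.2 g⟩

theorem normalizer_le_normalizer_sup (H N : Subgroup G) [hN : N.Normal] :
    Subgroup.normalizer (H : Set G) ≤ Subgroup.normalizer ((H ⊔ N : Subgroup G) : Set G) := by
  apply Cfsg.Agent.Lib.Helper1.le_normalizer_of_conj_mem
  intro g hg x hx
  obtain ⟨a, ha, b, hb, rfl⟩ := Subgroup.mem_sup_of_normal_right.mp hx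
  have : g * (a * b) * g⁻¹ = (g * a * g⁻¹) * (g * b * g⁻¹) := by group
  rw [this]
  exact Subgroup.mul_mem _ (Subgroup.mem_sup_left ((Subgroup.mem_normalizer_iff.mp hg a).mp ha))
    (Subgroup.mem_sup_right (hN.conj_mem b hb g))

theorem card_sylow_quotient (P : Sylow p G) (N : Subgroup G) [N.Normal] :
    Nat.card (Sylow p (G ⧸ N))
      = (Subgroup.normalizer (((P : Subgroup G) ⊔ N : Subgroup G) : Set G)).index := by
  have hf : Function.Surjective (QuotientGroup.mk' N) := QuotientGroup.mk'_surjective N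
  rw [card_sylow_eq_index p (P.mapSurjective hf), Sylow.coe_mapSurjective,
    ← Subgroup.index_comap_of_surjective _ hf, Subgroup.comap_normalizer_eq_of_surjective _ hf,
    Subgroup.comap_map_eq, QuotientGroup.ker_mk']

theorem card_sylow_eq_mul_normal (P : Sylow p G) (N : Subgroup G) [N.Normal] :
    Nat.card (Sylow p G) = Nat.card (Sylow p N) *
      Nat.card (Sylow p (Subgroup.normalizer (((P : Subgroup G) ⊓ N : Subgroup G) : Set G))) := by
  obtain ⟨D, hD⟩ := exists_sylow_inf p P N
  have h1 : Nat.card (Sylow p N)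
      = (Subgroup.normalizer (((P : Subgroup G) ⊓ N : Subgroup G) : Set G)).index := by
    rw [card_sylow_subgroup p N D, hD]
    apply relIndex_eq_index_of_sup_eq_top
    have := Sylow.normalizer_sup_eq_top D
    rwa [hD] at this
  have hPX : (P : Subgroup G) ≤ Subgroup.normalizer (((P : Subgroup G) ⊓ N : Subgroup G) : Set G) :=
    le_trans Subgroup.le_normalizer (normalizer_le_normalizer_inf _ N)
  have h2 := card_sylow_of_le p P _ hPX
  have h3 := Subgroup.relIndex_mul_index (normalizer_le_normalizer_inf (P : Subgroup G) N)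
  rw [card_sylow_eq_index p P, h1, h2, mul_comm]
  exact h3.symm

theorem card_sylow_eq_mul_quotient (P : Sylow p G) (N : Subgroup G) [N.Normal] :
    Nat.card (Sylow p G)
      = Nat.card (Sylow p (Subgroup.normalizer (((P : Subgroup G) ⊔ N : Subgroup G) : Set G)))
        * Nat.card (Sylow p (G ⧸ N)) := by
  have hPL : (P : Subgroup G) ≤ Subgroup.normalizer (((P : Subgroup G) ⊔ N : Subgroup G) : Set G) :=
    le_trans le_sup_left Subgroup.le_normalizer
  rw [card_sylow_quotient p P N, card_sylow_of_le p P _ hPL, card_sylow_eq_index p P]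
  exact (Subgroup.relIndex_mul_index (normalizer_le_normalizer_sup (P : Subgroup G) N)).symm

theorem card_modEq_card_inf_centralizer (P : Sylow p G) (Q : Subgroup G)
    (h : (P : Subgroup G) ≤ Subgroup.normalizer (Q : Set G)) :
    Nat.card Q ≡ Nat.card (Q ⊓ Subgroup.centralizer ((P : Subgroup G) : Set G) : Subgroup G) [MOD p] := by
  letI := Cfsg.Agent.Lib.Helper1.conjActOfLeNormalizer (P : Subgroup G) Q h
  have h1 := P.isPGroup'.card_modEq_card_fixedPoints (↥Q)
  have h2 : Nat.card (MulAction.fixedPoints (↥(P : Subgroup G)) (↥Q))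
      = Nat.card (Q ⊓ Subgroup.centralizer ((P : Subgroup G) : Set G) : Subgroup G) := by
    apply Nat.card_congr
    refine ⟨fun x => ⟨x.1.1, ⟨x.1.2, ?_⟩⟩, fun y => ⟨⟨y.1, y.2.1⟩, ?_⟩, fun x => rfl, fun y => rfl⟩
    · show ((x.1 : Q) : G) ∈ Subgroup.centralizer ((P : Subgroup G) : Set G)
      rw [Subgroup.mem_centralizer_iff]
      intro a ha
      have := x.2 ⟨a, ha⟩
      have e : a * (x.1 : G) * a⁻¹ = (x.1 : G) := congrArg Subtype.val this
      calc a * (x.1 : G) = a * (x.1 : G) * a⁻¹ * a := by group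
        _ = (x.1 : G) * a := by rw [e]
    · intro a
      apply Subtype.ext
      show (a : G) * y.1 * (a : G)⁻¹ = y.1
      have := Subgroup.mem_centralizer_iff.mp y.2.2 a a.2
      rw [this, mul_inv_cancel_right]
  rw [← h2]
  exact h1

theorem coprime_case (P : Sylow p G) (N : Subgroup G) [hN : N.Normal]
    (hPN : (P : Subgroup G) ⊓ N = ⊥) (hsup : (P : Subgroup G) ⊔ N = ⊤) :
    Phi.{u} p (Nat.card (Sylow p G)) := by
  classical
  have hp : p.Prime := Fact.out
  have hpN : ¬ p ∣ Nat.card N := by
    have := not_dvd_relIndex_inf p P N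
    rwa [hPN, Subgroup.relIndex_bot_left] at this
  have hNC : Subgroup.normalizer ((P : Subgroup G) : Set G) ⊓ N
      = Subgroup.centralizer ((P : Subgroup G) : Set G) ⊓ N := by
    apply le_antisymm
    · rintro k ⟨hk1, hk2⟩
      refine ⟨?_, hk2⟩
      have hk1' : k ∈ Subgroup.normalizer ((P : Subgroup G) : Set G) := hk1
      have hk2' : k ∈ N := hk2
      show k ∈ Subgroup.centralizer ((P : Subgroup G) : Set G)
      rw [Subgroup.mem_centralizer_iff]
      intro x hx
      have hx' : x ∈ (P : Subgroup G) := hx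
      have h1 : k * x * k⁻¹ * x⁻¹ ∈ (P : Subgroup G) ⊓ N := by
        refine ⟨Subgroup.mul_mem _ ((Subgroup.mem_normalizer_iff.mp hk1' x).mp hx')
          (Subgroup.inv_mem _ hx'), ?_⟩
        have : k * x * k⁻¹ * x⁻¹ = k * (x * k⁻¹ * x⁻¹) := by group
        rw [this]
        exact Subgroup.mul_mem _ hk2' (hN.conj_mem _ (Subgroup.inv_mem _ hk2') x)
      rw [hPN, Subgroup.mem_bot] at h1
      calc x * k = (k * x * k⁻¹ * x⁻¹)⁻¹ * (k * x) := by group
        _ = k * x := by rw [h1, inv_one, one_mul]
    · exact inf_le_inf_right _ (Subgroup.centralizer_le_normalizer _)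
  have hcard : Nat.card (Sylow p G)
      * Nat.card (Subgroup.centralizer ((P : Subgroup G) : Set G) ⊓ N : Subgroup G) = Nat.card N := by
    have h1 := card_sup_mul_card_inf (Subgroup.normalizer ((P : Subgroup G) : Set G)) N
    have hXN : Subgroup.normalizer ((P : Subgroup G) : Set G) ⊔ N = ⊤ := by
      apply top_le_iff.mp
      rw [← hsup]
      exact sup_le_sup_right Subgroup.le_normalizer N
    rw [hXN, Subgroup.card_top, hNC] at h1
    have h2 := (Subgroup.normalizer ((P : Subgroup G) : Set G)).card_mul_index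
    rw [card_sylow_eq_index p P]
    have hXpos : 0 < Nat.card (Subgroup.normalizer ((P : Subgroup G) : Set G)) := Nat.card_pos
    apply Nat.eq_of_mul_eq_mul_left hXpos
    calc Nat.card (Subgroup.normalizer ((P : Subgroup G) : Set G))
          * ((Subgroup.normalizer ((P : Subgroup G) : Set G)).index
            * Nat.card (Subgroup.centralizer ((P : Subgroup G) : Set G) ⊓ N : Subgroup G))
        = Nat.card (Subgroup.normalizer ((P : Subgroup G) : Set G))
          * (Subgroup.normalizer ((P : Subgroup G) : Set G)).index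
            * Nat.card (Subgroup.centralizer ((P : Subgroup G) : Set G) ⊓ N : Subgroup G) := by ring
      _ = Nat.card G
            * Nat.card (Subgroup.centralizer ((P : Subgroup G) : Set G) ⊓ N : Subgroup G) := by rw [h2]
      _ = Nat.card (Subgroup.normalizer ((P : Subgroup G) : Set G)) * Nat.card N := h1
  generalize hCdef : (Subgroup.centralizer ((P : Subgroup G) : Set G) ⊓ N : Subgroup G) = C at hcard
  have hkey : ∀ q : ℕ, q.Prime →
      q ^ (Nat.card N).factorization q ≡ q ^ (Nat.card C).factorization q [MOD p] := by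
    intro q hq
    haveI : Fact q.Prime := ⟨hq⟩
    obtain ⟨R⟩ : Nonempty (Sylow q C) := inferInstance
    have hUC : (R : Subgroup C).map C.subtype ≤ C := Subgroup.map_subtype_le _
    have hUcard : Nat.card ((R : Subgroup C).map C.subtype) = q ^ (Nat.card C).factorization q := by
      rw [Subgroup.card_map_of_injective C.subtype_injective]
      exact R.card_eq_multiplicity
    have hUq : IsPGroup q ((R : Subgroup C).map C.subtype) := R.isPGroup'.map _
    generalize (R : Subgroup C).map C.subtype = U at hUC hUcard hUq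
    have hUN : U ≤ N := hUC.trans (hCdef ▸ inf_le_right)
    have hUcent : U ≤ Subgroup.centralizer ((P : Subgroup G) : Set G) :=
      hUC.trans (hCdef ▸ inf_le_left)
    have hPU : (P : Subgroup G) ≤ Subgroup.normalizer (U : Set G) := by
      apply Cfsg.Agent.Lib.Helper1.le_normalizer_of_conj_mem
      intro g hg x hx
      have := Subgroup.mem_centralizer_iff.mp (hUcent hx) g hg
      rw [this, mul_inv_cancel_right]
      exact hx
    have hcop : (Nat.card (P : Subgroup G)).Coprime (Nat.card N) := by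
      obtain ⟨k, hk⟩ := IsPGroup.iff_card.mp P.isPGroup'
      rw [hk]
      exact Nat.Coprime.pow_left k ((Nat.Prime.coprime_iff_not_dvd hp).mpr hpN)
    have hsolv : Group.IsSolvable (P : Subgroup G) ∨ Group.IsSolvable N := by
      left
      haveI := P.isPGroup'.isNilpotent
      infer_instance
    have hPNn : (P : Subgroup G) ≤ Subgroup.normalizer (N : Set G) := by
      rw [Subgroup.normalizer_eq_top_iff.mpr hN]
      exact le_top
    obtain ⟨Qs, hUQ, hPQ⟩ := Cfsg.Agent.Lib.Helper1.coprime_invariant_le_sylow (P : Subgroup G) N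
      hPNn hcop hsolv q U hUN hUq hPU
    have hQcard : Nat.card ((Qs : Subgroup N).map N.subtype) = q ^ (Nat.card N).factorization q := by
      rw [Subgroup.card_map_of_injective N.subtype_injective]
      exact Qs.card_eq_multiplicity
    have hQq : IsPGroup q ((Qs : Subgroup N).map N.subtype) := Qs.isPGroup'.map _
    have hQN : (Qs : Subgroup N).map N.subtype ≤ N := Subgroup.map_subtype_le _
    generalize (Qs : Subgroup N).map N.subtype = Q at hUQ hPQ hQcard hQq hQN
    have hmod := card_modEq_card_inf_centralizer p P Q hPQ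
    have hUCQ : U ≤ Q ⊓ Subgroup.centralizer ((P : Subgroup G) : Set G) := le_inf hUQ hUcent
    have hCQC : Q ⊓ Subgroup.centralizer ((P : Subgroup G) : Set G) ≤ C := by
      rw [← hCdef, inf_comm]
      exact inf_le_inf_left _ hQN
    have hCQq : IsPGroup q (Q ⊓ Subgroup.centralizer ((P : Subgroup G) : Set G) : Subgroup G) :=
      hQq.to_le inf_le_left
    obtain ⟨k, hk⟩ := IsPGroup.iff_card.mp hCQq
    have hCpos : Nat.card C ≠ 0 := Nat.card_pos.ne'
    have hk1 : k ≤ (Nat.card C).factorization q := by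
      rw [← hq.pow_dvd_iff_le_factorization hCpos, ← hk]
      exact Subgroup.card_dvd_of_le hCQC
    have hk2 : (Nat.card C).factorization q ≤ k := by
      have h := Subgroup.card_dvd_of_le hUCQ
      rw [hUcard, hk] at h
      exact (Nat.pow_dvd_pow_iff_le_right hq.one_lt).mp h
    rw [← hQcard, ← le_antisymm hk1 hk2, ← hk]
    exact hmod
  have hn0 : Nat.card (Sylow p G) ≠ 0 := Nat.card_pos.ne'
  have hC0 : Nat.card C ≠ 0 := Nat.card_pos.ne'
  generalize Nat.card (Sylow p G) = n at hcard hn0
  have hprod : n = ∏ q ∈ n.primeFactors, q ^ n.factorization q :=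
    (Nat.prod_factorization_pow_eq_self hn0).symm.trans
      (by rw [Finsupp.prod, Nat.support_factorization])
  rw [hprod]
  apply Phi_prod
  intro q hqm
  obtain ⟨hq, hqn, -⟩ := Nat.mem_primeFactors.mp hqm
  apply Phi_of_good
  left
  have hkpos : 0 < n.factorization q := hq.factorization_pos_of_dvd hn0 hqn
  refine ⟨hq.isPrimePow.pow hkpos.ne', ?_⟩
  have hfac : (Nat.card N).factorization q = n.factorization q + (Nat.card C).factorization q := by
    rw [← hcard, Nat.factorization_mul hn0 hC0]
    rfl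
  have hqp : q ≠ p := by
    rintro rfl
    exact hpN (dvd_trans hqn (Dvd.intro _ hcard))
  have h1 := hkey q hq
  rw [hfac, pow_add, mul_comm] at h1
  have h2 : q ^ (Nat.card C).factorization q * q ^ n.factorization q
      ≡ q ^ (Nat.card C).factorization q * 1 [MOD p] := by
    rw [mul_one]; exact h1
  have h3 : q ^ n.factorization q ≡ 1 [MOD p] :=
    Nat.ModEq.cancel_left_of_coprime
      (Nat.Coprime.pow_right _ ((Nat.coprime_primes hp hq).mpr (Ne.symm hqp))) h2
  exact (show q ^ n.factorization q % p = 1 % p from h3).trans (Nat.mod_eq_of_lt hp.one_lt)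

end grp

theorem main_aux (p : ℕ) [Fact p.Prime] : ∀ n : ℕ, ∀ (G : Type u) [Group G] [Finite G],
    Nat.card G = n → Phi.{u} p (Nat.card (Sylow p G)) := by
  intro n
  induction n using Nat.strong_induction_on with
  | _ n ih =>
  intro G _ _ hn
  have IH : ∀ (H : Type u) [Group H] [Finite H], Nat.card H < Nat.card G →
      Phi.{u} p (Nat.card (Sylow p H)) :=
    fun H _ _ h => ih (Nat.card H) (hn ▸ h) H rfl
  obtain ⟨P⟩ : Nonempty (Sylow p G) := inferInstance
  by_cases hPn : (P : Subgroup G).Normal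
  · have : Nat.card (Sylow p G) = 1 := by
      haveI := Sylow.unique_of_normal P hPn
      exact Nat.card_unique
    rw [this]
    exact Phi_one p
  have hNP : Subgroup.normalizer ((P : Subgroup G) : Set G) ≠ ⊤ :=
    fun h => hPn (Subgroup.normalizer_eq_top_iff.mp h)
  by_cases hs : IsSimpleGroup G
  · exact Phi_of_good p (Or.inr ⟨G, inferInstance, inferInstance, hs, rfl⟩)
  have hnt : Nontrivial G := by
    by_contra hcon
    rw [not_nontrivial_iff_subsingleton] at hcon
    exact hPn ⟨fun x hx g => by rw [Subsingleton.elim (g * x * g⁻¹) x]; exact hx⟩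
  obtain ⟨N, hNn, hNb, hNt⟩ : ∃ N : Subgroup G, N.Normal ∧ N ≠ ⊥ ∧ N ≠ ⊤ := by
    by_contra hcon
    push Not at hcon
    exact hs { exists_pair_ne := hnt.exists_pair_ne
               eq_bot_or_eq_top_of_normal := fun N hN => by
                by_cases hb : N = ⊥
                · exact Or.inl hb
                · exact Or.inr (hcon N hN hb) }
  haveI := hNn
  by_cases hD : Subgroup.normalizer (((P : Subgroup G) ⊓ N : Subgroup G) : Set G) = ⊤
  · haveI hDn : ((P : Subgroup G) ⊓ N).Normal := Subgroup.normalizer_eq_top_iff.mp hD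
    by_cases hD1 : (P : Subgroup G) ⊓ N = ⊥
    · by_cases hL : Subgroup.normalizer (((P : Subgroup G) ⊔ N : Subgroup G) : Set G) = ⊤
      · by_cases hPN : (P : Subgroup G) ⊔ N = ⊤
        · exact coprime_case p P N hD1 hPN
        · haveI hMn : ((P : Subgroup G) ⊔ N).Normal := Subgroup.normalizer_eq_top_iff.mp hL
          have hB := card_sylow_eq_mul_normal p P ((P : Subgroup G) ⊔ N)
          rw [inf_eq_left.mpr (le_sup_left : (P : Subgroup G) ≤ (P : Subgroup G) ⊔ N)] at hB
          rw [hB]
          exact Phi_mul p (IH _ (card_lt_of_ne_top _ hPN)) (IH _ (card_lt_of_ne_top _ hNP))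
      · rw [card_sylow_eq_mul_quotient p P N]
        exact Phi_mul p (IH _ (card_lt_of_ne_top _ hL)) (IH _ (card_quot_lt N hNb))
    · have hQ := card_sylow_quotient p P ((P : Subgroup G) ⊓ N)
      rw [sup_eq_left.mpr (inf_le_left : (P : Subgroup G) ⊓ N ≤ (P : Subgroup G)),
        ← card_sylow_eq_index p P] at hQ
      rw [← hQ]
      exact IH _ (card_quot_lt _ hD1)
  · rw [card_sylow_eq_mul_normal p P N]
    exact Phi_mul p (IH _ (card_lt_of_ne_top _ hNt)) (IH _ (card_lt_of_ne_top _ hD))

end Cfsg.Agent.Lib.Lead.HallSylow
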