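import Mathlib
import Cfsg.Agent.Lib.Lead.LS1

set_option autoImplicit false

namespace Cfsg.Agent.Lib.Lead.LS1

open Matrix

theorem card_cast_ne_zero {F : Type*} [Field F] [Fintype F] {K' : Type*} [Field K']
    (h : ringChar K' ≠ ringChar F) : (Fintype.card F : K') ≠ 0 := by
  haveI : CharP F (ringChar F) := ringChar.charP F
  obtain ⟨n, hp, hn⟩ := FiniteField.card F (ringChar F)
  rw [hn, Nat.cast_pow]
  apply pow_ne_zero
  intro h0
  have hdvd : ringChar K' ∣ ringChar F := (ringChar.spec K' (ringChar F)).mp h0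
  rcases (Nat.dvd_prime hp).mp hdvd with h1 | h1
  · exact CharP.ringChar_ne_one h1
  · exact h h1

theorem main {F : Type*} [Field F] [Fintype F] {K : Type*} [Field K]
    (hK : ringChar K ≠ ringChar F) {m d : ℕ} (hm : 2 ≤ m)
    (ρ : Matrix.SpecialLinearGroup (Unit ⊕ Fin m) F →* GL (Fin d) K)
    (hker : ρ.ker ≤ Subgroup.center (Matrix.SpecialLinearGroup (Unit ⊕ Fin m) F)) :
    Fintype.card F ^ m - 1 ≤ d := by
  classical
  let P := AddChar.FiniteField.primitiveChar F K hK
  have hψ : ∃ a, P.char a ≠ 1 := by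
    have h1 := P.prim (one_ne_zero)
    rw [AddChar.mulShift_one] at h1
    exact AddChar.ne_one_iff.mp h1
  let M : Matrix.SpecialLinearGroup (Unit ⊕ Fin m) F →*
      Matrix (Fin d) (Fin d) (CyclotomicField P.n K) :=
    ((algebraMap K (CyclotomicField P.n K)).mapMatrix.toMonoidHom).comp
      ((Units.coeHom (Matrix (Fin d) (Fin d) K)).comp ρ)
  have hchar : ringChar (CyclotomicField P.n K) ≠ ringChar F := by
    rw [← Algebra.ringChar_eq K (CyclotomicField P.n K)]
    exact hK
  refine main_count P.char M hm hψ (card_cast_ne_zero hchar) ?_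
  intro v hv
  have h1 : ρ (xm v) = 1 := by
    apply Units.ext
    have hinj : Function.Injective
        (fun A : Matrix (Fin d) (Fin d) K => A.map (algebraMap K (CyclotomicField P.n K))) :=
      Matrix.map_injective (algebraMap K (CyclotomicField P.n K)).injective
    apply hinj
    show ((ρ (xm v) : GL (Fin d) K) : Matrix (Fin d) (Fin d) K).map
        (algebraMap K (CyclotomicField P.n K))
      = (1 : Matrix (Fin d) (Fin d) K).map (algebraMap K (CyclotomicField P.n K))
    rw [Matrix.map_one _ (map_zero _) (map_one _)]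
    exact hv
  have h2 : xm v ∈ Subgroup.center (Matrix.SpecialLinearGroup (Unit ⊕ Fin m) F) :=
    hker (MonoidHom.mem_ker.mpr h1)
  obtain ⟨r, _, hr⟩ := Matrix.SpecialLinearGroup.mem_center_iff.mp h2
  funext j
  have h3 := congrFun (congrFun hr (Sum.inl ())) (Sum.inr j)
  rw [xm_apply] at h3
  rw [← h3]
  simp [Matrix.scalar_apply]

/-- reindexing homomorphism of special linear groups. -/
def reindexHom {ι κ : Type*} [Fintype ι] [DecidableEq ι] [Fintype κ] [DecidableEq κ]
    (F : Type*) [Field F] (e : κ ≃ ι) :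
    Matrix.SpecialLinearGroup ι F →* Matrix.SpecialLinearGroup κ F where
  toFun A := ⟨A.1.submatrix e e, by rw [det_submatrix_equiv_self]; exact A.2⟩
  map_one' := by
    apply Subtype.ext
    show (1 : Matrix ι ι F).submatrix e e = 1
    exact submatrix_one_equiv e
  map_mul' A B := by
    apply Subtype.ext
    show (A.1 * B.1).submatrix e e = A.1.submatrix e e * B.1.submatrix e e
    rw [submatrix_mul_equiv]

theorem reindexHom_injective {ι κ : Type*} [Fintype ι] [DecidableEq ι] [Fintype κ] [DecidableEq κ]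
    (F : Type*) [Field F] (e : κ ≃ ι) : Function.Injective (reindexHom F e) := by
  intro A B h
  apply Subtype.ext
  have h1 : A.1.submatrix e e = B.1.submatrix e e := congrArg Subtype.val h
  ext i j
  have h2 := congrFun (congrFun h1 (e.symm i)) (e.symm j)
  simpa using h2

theorem main_fin {F : Type*} [Field F] [Fintype F] {K : Type*} [Field K]
    (hK : ringChar K ≠ ringChar F) {n d : ℕ} (hn : 3 ≤ n)
    (ρ : Matrix.SpecialLinearGroup (Fin n) F →* GL (Fin d) K)
    (hker : ρ.ker ≤ Subgroup.center (Matrix.SpecialLinearGroup (Fin n) F)) :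
    Fintype.card F ^ (n - 1) - 1 ≤ d := by
  obtain ⟨m, rfl⟩ : ∃ m, n = m + 1 := ⟨n - 1, by omega⟩
  have hm : 2 ≤ m := by omega
  have e : Fin (m + 1) ≃ Unit ⊕ Fin m := Fintype.equivOfCardEq (by simp [add_comm])
  have key := main hK hm (ρ.comp (reindexHom F e)) ?_
  · simpa using key
  · intro g hg
    rw [MonoidHom.mem_ker, MonoidHom.comp_apply] at hg
    have h1 : reindexHom F e g ∈ Subgroup.center (Matrix.SpecialLinearGroup (Fin (m + 1)) F) :=
      hker (MonoidHom.mem_ker.mpr hg)
    rw [Subgroup.mem_center_iff] at h1 ⊢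
    intro h
    apply reindexHom_injective F e
    rw [map_mul, map_mul]
    exact h1 (reindexHom F e h)

end Cfsg.Agent.Lib.Lead.LS1
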