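import Mathlib

namespace Cfsg.Agent.Lib.Lead.ShiftPoly

open Polynomial

variable {K : Type*} [Field K]

/-- The difference operator `Q(X - 1) - Q(X)`. -/
noncomputable def delta (Q : K[X]) : K[X] := taylor (-1) Q - Q

theorem coeff_delta_pred {Q : K[X]} (h1 : 0 < Q.natDegree) :
    (delta Q).coeff (Q.natDegree - 1) = -((Q.natDegree : K) * Q.leadingCoeff) := by
  obtain ⟨s, hs⟩ : ∃ s, Q.natDegree = s + 1 := ⟨Q.natDegree - 1, by omega⟩
  rw [delta, coeff_sub, taylor_coeff, hs, Nat.add_sub_cancel]
  have hdeg : (hasseDeriv s Q).natDegree < 2 := by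
    have := natDegree_hasseDeriv_le Q s
    omega
  rw [eval_eq_sum_range' hdeg, Finset.sum_range_succ, Finset.sum_range_one,
    hasseDeriv_coeff, hasseDeriv_coeff]
  have hlc : Q.coeff (1 + s) = Q.leadingCoeff := by
    rw [leadingCoeff, hs, add_comm]
  rw [hlc]
  simp only [zero_add, Nat.choose_self, Nat.cast_one, one_mul, pow_zero, mul_one, pow_one]
  have hch : (1 + s).choose s = s + 1 := by
    rw [add_comm, Nat.choose_succ_self_right]
  rw [hch]
  push_cast
  ring

theorem natDegree_delta_le (Q : K[X]) : (delta Q).natDegree ≤ Q.natDegree - 1 := by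
  rw [natDegree_le_iff_coeff_eq_zero]
  intro N hN
  rw [delta, coeff_sub]
  rcases Nat.lt_or_ge Q.natDegree N with h | h
  · rw [coeff_eq_zero_of_natDegree_lt h, coeff_eq_zero_of_natDegree_lt (by rw [natDegree_taylor]; exact h),
      sub_zero]
  · have hN' : N = Q.natDegree := by omega
    rw [hN', coeff_taylor_natDegree, leadingCoeff, sub_self]

theorem natDegree_delta {p : ℕ} [Fact p.Prime] [CharP K p] {Q : K[X]} (h1 : 0 < Q.natDegree)
    (h2 : Q.natDegree < p) : (delta Q).natDegree = Q.natDegree - 1 ∧ delta Q ≠ 0 := by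
  have hne : (delta Q).coeff (Q.natDegree - 1) ≠ 0 := by
    rw [coeff_delta_pred h1, neg_ne_zero]
    apply mul_ne_zero
    · intro h
      rw [CharP.cast_eq_zero_iff K p] at h
      exact absurd (Nat.le_of_dvd h1 h) (by omega)
    · rw [leadingCoeff_ne_zero]
      intro h0
      rw [h0, natDegree_zero] at h1
      exact lt_irrefl 0 h1
  refine ⟨le_antisymm (natDegree_delta_le Q) (le_natDegree_of_ne_zero hne), ?_⟩
  intro h0
  rw [h0, coeff_zero] at hne
  exact hne rfl

/-- Subspaces of polynomials of degree `< p` invariant under `Q(X) ↦ Q(X-1)` are the spaces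
of polynomials of degree `< r`. -/
theorem core {p : ℕ} [Fact p.Prime] [CharP K p] (W' : Submodule K K[X]) (hle : W' ≤ degreeLT K p)
    (hinv : ∀ Q ∈ W', taylor (-1) Q ∈ W') : ∃ r ≤ p, W' = degreeLT K r := by
  classical
  have hdelta : ∀ Q ∈ W', delta Q ∈ W' := fun Q hQ => W'.sub_mem (hinv Q hQ) hQ
  by_cases hbot : W' = ⊥
  · refine ⟨0, Nat.zero_le _, ?_⟩
    rw [hbot]
    ext f
    rw [Submodule.mem_bot, mem_degreeLT]
    constructor
    · rintro rfl; simp
    · intro h
      by_contra hf
      have := degree_eq_natDegree hf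
      rw [this] at h
      exact absurd h (by simp)
  · obtain ⟨Q₀, hQ₀W, hQ₀⟩ := (Submodule.ne_bot_iff W').mp hbot
    have hdegp : ∀ Q ∈ W', Q ≠ 0 → Q.natDegree < p := by
      intro Q hQ hQ0
      have := mem_degreeLT.mp (hle hQ)
      rwa [degree_eq_natDegree hQ0, Nat.cast_lt] at this
    let Pd : ℕ → Prop := fun d => ∃ Q ∈ W', Q ≠ 0 ∧ Q.natDegree = d
    let s := Nat.findGreatest Pd p
    have hPd₀ : Pd Q₀.natDegree := ⟨Q₀, hQ₀W, hQ₀, rfl⟩
    have hs : Pd s := Nat.findGreatest_spec (P := Pd) (le_of_lt (hdegp Q₀ hQ₀W hQ₀)) hPd₀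
    have hsmax : ∀ Q ∈ W', Q ≠ 0 → Q.natDegree ≤ s := by
      intro Q hQ hQ0
      exact Nat.le_findGreatest (le_of_lt (hdegp Q hQ hQ0)) ⟨Q, hQ, hQ0, rfl⟩
    obtain ⟨Qs, hQsW, hQs0, hQsd⟩ := hs
    have hsp : s < p := by rw [← hQsd]; exact hdegp Qs hQsW hQs0
    -- elements of each degree ≤ s
    have hexists : ∀ i, i ≤ s → Pd (s - i) := by
      intro i
      induction i with
      | zero => intro _; exact ⟨Qs, hQsW, hQs0, by rw [hQsd]; rfl⟩
      | succ i ih =>
        intro hi
        obtain ⟨Q, hQW, hQ0, hQd⟩ := ih (by omega)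
        have h1 : 0 < Q.natDegree := by omega
        have h2 : Q.natDegree < p := by omega
        obtain ⟨hd, hne⟩ := natDegree_delta (p := p) h1 h2
        exact ⟨delta Q, hdelta Q hQW, hne, by rw [hd, hQd]; omega⟩
    have hexists' : ∀ d, d ≤ s → Pd d := by
      intro d hd
      have := hexists (s - d) (by omega)
      rwa [show s - (s - d) = d by omega] at this
    refine ⟨s + 1, hsp, le_antisymm ?_ ?_⟩
    · intro Q hQ
      rw [mem_degreeLT]
      by_cases hQ0 : Q = 0
      · rw [hQ0, degree_zero]; exact WithBot.bot_lt_coe _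
      · rw [degree_eq_natDegree hQ0, Nat.cast_lt]
        have := hsmax Q hQ hQ0
        omega
    · -- strong induction
      have key : ∀ n, n ≤ s + 1 → ∀ R : K[X], R.degree < n → R ∈ W' := by
        intro n
        induction n with
        | zero =>
          intro _ R hR
          have : R = 0 := by
            by_contra hR0
            rw [degree_eq_natDegree hR0] at hR
            exact absurd hR (by simp)
          rw [this]; exact W'.zero_mem
        | succ n ih =>
          intro hn R hR
          by_cases hlt : R.degree < n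
          · exact ih (by omega) R hlt
          · have hR0 : R ≠ 0 := by
              intro h0; rw [h0, degree_zero] at hlt
              exact hlt (WithBot.bot_lt_coe _)
            have hRd : R.natDegree = n := by
              rw [degree_eq_natDegree hR0] at hR hlt
              have h1 : R.natDegree < n + 1 := by exact_mod_cast hR
              have h2 : ¬ R.natDegree < n := by
                intro h; exact hlt (by exact_mod_cast h)
              omega
            obtain ⟨Q, hQW, hQ0, hQd⟩ := hexists' n (by omega)
            set c := R.leadingCoeff / Q.leadingCoeff with hc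
            have hQlc : Q.leadingCoeff ≠ 0 := leadingCoeff_ne_zero.mpr hQ0
            have hRlc : R.leadingCoeff ≠ 0 := leadingCoeff_ne_zero.mpr hR0
            have hc0 : c ≠ 0 := div_ne_zero hRlc hQlc
            have hcQ : c • Q ∈ W' := W'.smul_mem c hQW
            have hdeg_eq : R.degree = (c • Q).degree := by
              rw [degree_smul_of_smul_regular Q (IsSMulRegular.of_ne_zero hc0),
                degree_eq_natDegree hR0, degree_eq_natDegree hQ0, hRd, hQd]
            have hlc_eq : R.leadingCoeff = (c • Q).leadingCoeff := by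
              rw [leadingCoeff_smul_of_smul_regular Q (IsSMulRegular.of_ne_zero hc0), hc, smul_eq_mul,
                div_mul_cancel₀ _ hQlc]
            have hlt' : (R - c • Q).degree < R.degree := degree_sub_lt_left hdeg_eq hR0 hlc_eq
            have hlt'' : (R - c • Q).degree < n := by
              rw [degree_eq_natDegree hR0, hRd] at hlt'
              exact hlt'
            have := ih (by omega) (R - c • Q) hlt''
            have h3 : R = (R - c • Q) + c • Q := by ring
            rw [h3]
            exact W'.add_mem this hcQ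
      intro R hR
      exact key (s + 1) le_rfl R (mem_degreeLT.mp hR)

end Cfsg.Agent.Lib.Lead.ShiftPoly
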