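import Mathlib
import Cfsg.Agent.S0673

/-! Burnside's theorem on transitive groups of prime degree, polynomial method. -/

namespace Cfsg.Agent.Lib.Lead.BurnsidePrime

open Polynomial

variable {p : ℕ} [Fact p.Prime]

/-- `f` is a polynomial function of degree `< r` -/
def IsPolyLT (r : ℕ) (f : ZMod p → ZMod p) : Prop :=
  ∃ P : (ZMod p)[X], P.degree < r ∧ ∀ j, f j = P.eval j

theorem IsPolyLT.mono {r r' : ℕ} (h : r ≤ r') {f : ZMod p → ZMod p} (hf : IsPolyLT r f) :
    IsPolyLT r' f := by
  obtain ⟨P, hP, hPf⟩ := hf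
  exact ⟨P, lt_of_lt_of_le hP (by exact_mod_cast h), hPf⟩

theorem isPolyLT_const (c : ZMod p) {r : ℕ} (hr : 1 ≤ r) : IsPolyLT r (fun _ : ZMod p => c) := by
  refine ⟨C c, lt_of_le_of_lt degree_C_le (by exact_mod_cast hr), fun j => by simp⟩

theorem isPolyLT_pow (j : ℕ) {r : ℕ} (hr : j < r) : IsPolyLT r (fun x : ZMod p => x ^ j) := by
  refine ⟨X ^ j, ?_, fun x => by simp⟩
  rw [degree_X_pow]
  exact_mod_cast hr

theorem IsPolyLT.const_of_le_one {r : ℕ} (hr : r ≤ 1) {f : ZMod p → ZMod p} (hf : IsPolyLT r f) :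
    ∀ x y, f x = f y := by
  obtain ⟨P, hP, hPf⟩ := hf.mono hr
  have h1 : P.degree ≤ 0 := by
    have : P.degree < 1 := by exact_mod_cast hP
    exact Nat.WithBot.lt_one_iff_le_zero.mp this
  intro x y
  rw [hPf x, hPf y, eq_C_of_degree_le_zero h1]
  simp

theorem exists_isPolyLT (W : Submodule (ZMod p) (ZMod p → ZMod p))
    (hW : ∀ f ∈ W, (fun j => f (j - 1)) ∈ W) :
    ∃ r : ℕ, r ≤ p ∧ Module.finrank (ZMod p) W = r ∧ ∀ f, f ∈ W ↔ IsPolyLT r f := by
  obtain ⟨r, hr, hfr, h⟩ := Cfsg.Agent.S0673.result (p := p) (K := ZMod p) W hW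
  refine ⟨r, hr, hfr, fun f => ?_⟩
  rw [h f]
  simp only [ZMod.cast_id', id_eq]
  rfl

/-- a permutation preserving the polynomial functions of degree `< r` (`2 ≤ r ≤ (p+1)/2`) is affine -/
theorem affine_of_invariant (g : Equiv.Perm (ZMod p)) (r : ℕ) (hr2 : 2 ≤ r)
    (hrp : 2 * (r - 1) ≤ p - 1)
    (hinv : ∀ f : ZMod p → ZMod p, IsPolyLT r f → IsPolyLT r (f ∘ g)) :
    ∃ a b : ZMod p, ∀ x, g x = a * x + b := by
  have hp := (Fact.out : p.Prime)
  have h1 : IsPolyLT r (fun x : ZMod p => x ^ 1) := isPolyLT_pow 1 (by omega)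
  obtain ⟨P, hP, hPg⟩ := hinv _ h1
  simp only [Function.comp, pow_one] at hPg
  have hP0 : P ≠ 0 := by
    rintro rfl
    have h0 := hPg 0
    have h1 := hPg 1
    simp only [eval_zero] at h0 h1
    exact zero_ne_one (g.injective (h0.trans h1.symm))
  have hPd : P.natDegree < r := by
    rw [degree_eq_natDegree hP0] at hP
    exact_mod_cast hP
  rcases Nat.lt_or_ge P.natDegree 2 with he | he
  · refine ⟨P.coeff 1, P.coeff 0, fun x => ?_⟩
    rw [hPg x]
    conv_lhs => rw [eq_X_add_C_of_natDegree_le_one (show P.natDegree ≤ 1 by omega)]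
    simp
  · exfalso
    set e := P.natDegree with he_def
    set d := r - 1 with hd_def
    have hed : e ≤ d := by omega
    set j := d / e + 1 with hj_def
    have hje1 : d + 1 ≤ j * e := by
      have := Nat.div_add_mod d e
      have h2 := Nat.mod_lt d (show 0 < e by omega)
      rw [hj_def, add_mul, one_mul, mul_comm]
      omega
    have hje2 : j * e ≤ d + e := by
      have := Nat.div_mul_le_self d e
      rw [hj_def, add_mul, one_mul]
      omega
    have hjd : j ≤ d := by
      have : d / e ≤ d / 2 := Nat.div_le_div_left he (by omega)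
      omega
    have h2 : IsPolyLT r (fun x : ZMod p => x ^ j) := isPolyLT_pow j (by omega)
    obtain ⟨Q, hQ, hQg⟩ := hinv _ h2
    simp only [Function.comp] at hQg
    have hQd : Q.natDegree < r := by
      by_cases hQ0 : Q = 0
      · rw [hQ0]; simp; omega
      · rw [degree_eq_natDegree hQ0] at hQ
        exact_mod_cast hQ
    have hdeg : (P ^ j - Q).natDegree = j * e := by
      rw [natDegree_sub_eq_left_of_natDegree_lt, natDegree_pow]
      rw [natDegree_pow]
      show Q.natDegree < j * e
      omega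
    have hzero : P ^ j - Q = 0 := by
      apply eq_zero_of_natDegree_lt_card_of_eval_eq_zero (P ^ j - Q) (f := fun x : ZMod p => x)
        Function.injective_id
      · intro x
        rw [eval_sub, eval_pow, ← hPg x, ← hQg x, sub_self]
      · rw [hdeg, ZMod.card]
        have := hp.two_le
        omega
    rw [hzero, natDegree_zero] at hdeg
    omega


section Operator

variable (O : ZMod p → ZMod p → Prop) [DecidableRel O]

/-- the operator `ψ f x = ∑_{y : O x y} (f y - f x)` -/
noncomputable def psi : (ZMod p → ZMod p) →ₗ[ZMod p] (ZMod p → ZMod p) where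
  toFun f x := ∑ y, if O x y then f y - f x else 0
  map_add' f g := by
    funext x
    simp only [Pi.add_apply]
    rw [← Finset.sum_add_distrib]
    apply Finset.sum_congr rfl
    intro y _
    split_ifs
    · ring
    · simp
  map_smul' c f := by
    funext x
    simp only [Pi.smul_apply, smul_eq_mul, RingHom.id_apply]
    rw [Finset.mul_sum]
    apply Finset.sum_congr rfl
    intro y _
    split_ifs
    · ring
    · simp

theorem psi_apply (f : ZMod p → ZMod p) (x : ZMod p) :
    psi O f x = ∑ y, if O x y then f y - f x else 0 := rfl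

theorem psi_comp (g : Equiv.Perm (ZMod p)) (hg : ∀ x y, O (g x) (g y) ↔ O x y)
    (f : ZMod p → ZMod p) : psi O (f ∘ g) = psi O f ∘ g := by
  funext x
  simp only [psi_apply, Function.comp]
  rw [← Equiv.sum_comp g (fun y => if O (g x) y then f y - f (g x) else 0)]
  apply Finset.sum_congr rfl
  intro y _
  simp only [hg]

theorem psi_const (c : ZMod p) : psi O (fun _ => c) = 0 := by
  funext x
  simp [psi_apply]

end Operator


/-- **Burnside**: a permutation group on `ZMod p` containing the translation `x ↦ x + 1`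
which is not doubly transitive consists of affine maps. -/
theorem main (G : Subgroup (Equiv.Perm (ZMod p))) (t : Equiv.Perm (ZMod p)) (htG : t ∈ G)
    (ht : ∀ x, t x = x + 1)
    (h2 : ¬ ∀ a b a' b' : ZMod p, a ≠ b → a' ≠ b' → ∃ g ∈ G, g a = a' ∧ g b = b') :
    ∀ g ∈ G, ∃ a b : ZMod p, ∀ x, g x = a * x + b := by
  classical
  have hp := (Fact.out : p.Prime)
  push Not at h2
  obtain ⟨a, b, a', b', hab, hab', hno⟩ := h2
  -- transitivity
  have htk : ∀ (k : ℕ) (x : ZMod p), (t ^ k) x = x + k := by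
    intro k
    induction k with
    | zero => intro x; simp
    | succ k ih =>
      intro x
      rw [pow_succ', Equiv.Perm.mul_apply, ih, ht]
      push_cast
      ring
  have htrans : ∀ x y : ZMod p, ∃ h ∈ G, h x = y := by
    intro x y
    refine ⟨t ^ (y - x).val, G.pow_mem htG _, ?_⟩
    rw [htk, ZMod.natCast_zmod_val]
    ring
  let O : ZMod p → ZMod p → Prop := fun x y => ∃ g ∈ G, g a = x ∧ g b = y
  have hOinv : ∀ g ∈ G, ∀ x y, O (g x) (g y) ↔ O x y := by
    intro g hg x y
    constructor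
    · rintro ⟨h, hh, h1, h2⟩
      refine ⟨g⁻¹ * h, G.mul_mem (G.inv_mem hg) hh, ?_, ?_⟩
      · rw [Equiv.Perm.mul_apply, h1, Equiv.Perm.inv_def, Equiv.symm_apply_apply]
      · rw [Equiv.Perm.mul_apply, h2, Equiv.Perm.inv_def, Equiv.symm_apply_apply]
    · rintro ⟨h, hh, h1, h2⟩
      refine ⟨g * h, G.mul_mem hg hh, ?_, ?_⟩
      · rw [Equiv.Perm.mul_apply, h1]
      · rw [Equiv.Perm.mul_apply, h2]
  have hOab : O a b := ⟨1, G.one_mem, rfl, rfl⟩
  have hOab' : ¬ O a' b' := by
    rintro ⟨g, hg, h1, h2⟩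
    exact hno g hg h1 h2
  set ψ := psi O with hψ
  have hcomp : ∀ g ∈ G, ∀ f, ψ (f ∘ g) = ψ f ∘ g := fun g hg f => psi_comp O g (hOinv g hg) f
  have hshift : ∀ f : ZMod p → ZMod p,
      (fun j => f (j - 1)) = f ∘ (t⁻¹ : Equiv.Perm (ZMod p)) := by
    intro f
    funext j
    simp only [Function.comp]
    congr 1
    symm
    rw [Equiv.Perm.inv_eq_iff_eq, ht]
    ring
  have htinv : t⁻¹ ∈ G := G.inv_mem htG
  -- invariance of kernel, range, kernel of square
  have hK1 : ∀ g ∈ G, ∀ f ∈ LinearMap.ker ψ, f ∘ g ∈ LinearMap.ker ψ := by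
    intro g hg f hf
    rw [LinearMap.mem_ker] at hf ⊢
    rw [hcomp g hg, hf]
    rfl
  have hI1 : ∀ g ∈ G, ∀ f ∈ LinearMap.range ψ, f ∘ g ∈ LinearMap.range ψ := by
    rintro g hg f ⟨h, rfl⟩
    exact ⟨h ∘ g, hcomp g hg h⟩
  have hK2 : ∀ g ∈ G, ∀ f ∈ LinearMap.ker (ψ ∘ₗ ψ), f ∘ g ∈ LinearMap.ker (ψ ∘ₗ ψ) := by
    intro g hg f hf
    rw [LinearMap.mem_ker, LinearMap.comp_apply] at hf ⊢
    rw [hcomp g hg, hcomp g hg, hf]
    rfl
  obtain ⟨r1, hr1p, hr1f, hr1⟩ := exists_isPolyLT (LinearMap.ker ψ)
    (fun f hf => by rw [hshift]; exact hK1 _ htinv f hf)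
  obtain ⟨r2, hr2p, hr2f, hr2⟩ := exists_isPolyLT (LinearMap.range ψ)
    (fun f hf => by rw [hshift]; exact hI1 _ htinv f hf)
  obtain ⟨r3, hr3p, hr3f, hr3⟩ := exists_isPolyLT (LinearMap.ker (ψ ∘ₗ ψ))
    (fun f hf => by rw [hshift]; exact hK2 _ htinv f hf)
  have hsum : r2 + r1 = p := by
    have := LinearMap.finrank_range_add_finrank_ker ψ
    rw [hr1f, hr2f, Module.finrank_fintype_fun_eq_card, ZMod.card] at this
    exact this
  have hone_ker : (fun _ : ZMod p => (1 : ZMod p)) ∈ LinearMap.ker ψ := by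
    rw [LinearMap.mem_ker]
    exact psi_const O 1
  have hr1pos : 1 ≤ r1 := by
    by_contra hcon
    have h0 : r1 = 0 := by omega
    obtain ⟨P, hP, hPf⟩ := (hr1 _).1 hone_ker
    rw [h0, Nat.cast_zero] at hP
    have hP0 : P = 0 := by
      by_contra hne
      have := zero_le_degree_iff.mpr hne
      exact absurd hP (not_lt.mpr this)
    have := hPf 0
    rw [hP0, eval_zero] at this
    exact one_ne_zero this
  -- the image is not contained in the constants
  have hr2two : 2 ≤ r2 := by
    by_contra hcon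
    have hle : r2 ≤ 1 := by omega
    set δ : ZMod p → ZMod p := Pi.single b 1 with hδ
    have hδx : ∀ x, x ≠ b → ψ δ x = if O x b then 1 else 0 := by
      intro x hx
      rw [hψ, psi_apply, Finset.sum_eq_single b]
      · rw [hδ, Pi.single_eq_same, Pi.single_eq_of_ne hx, sub_zero]
      · intro y _ hy
        rw [hδ, Pi.single_eq_of_ne hy, Pi.single_eq_of_ne hx, sub_zero, ite_self]
      · intro h
        exact absurd (Finset.mem_univ b) h
    obtain ⟨h, hh, hhb⟩ := htrans b' b
    have hx2 : h a' ≠ b := by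
      rw [← hhb]
      exact fun e => hab' (h.injective e)
    have hO2 : ¬ O (h a') b := by
      rw [← hhb, hOinv h hh]
      exact hOab'
    have hc := ((hr2 (ψ δ)).1 ⟨δ, rfl⟩).const_of_le_one hle a (h a')
    rw [hδx a hab, hδx _ hx2, if_pos hOab, if_neg hO2] at hc
    exact one_ne_zero hc
  intro g hg
  rcases Nat.lt_or_ge r1 2 with hsmall | hbig
  · -- r1 = 1
    have hr11 : r1 = 1 := by omega
    have hone_range : (fun _ : ZMod p => (1 : ZMod p)) ∈ LinearMap.range ψ :=
      (hr2 _).2 (isPolyLT_const 1 (by omega))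
    obtain ⟨f0, hf0⟩ := hone_range
    have hconst : ∀ f : ZMod p → ZMod p, ψ f = 0 → f = fun _ => f 0 := by
      intro f hf
      have h1 : f ∈ LinearMap.ker ψ := hf
      have h2 := ((hr1 f).1 h1).const_of_le_one (by omega)
      funext x
      exact h2 x 0
    have hf0K2 : f0 ∈ LinearMap.ker (ψ ∘ₗ ψ) := by
      rw [LinearMap.mem_ker, LinearMap.comp_apply, hf0]
      exact psi_const O 1
    have hr3two : 2 ≤ r3 := by
      by_contra hcon
      have h2 := ((hr3 f0).1 hf0K2).const_of_le_one (by omega)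
      have h3 : f0 = fun _ => f0 0 := by
        funext x
        exact h2 x 0
      have h4 : ψ f0 = 0 := by
        rw [h3]
        exact psi_const O _
      rw [hf0] at h4
      exact one_ne_zero (congrFun h4 0)
    have hr3le : r3 ≤ 2 := by
      have hle : LinearMap.ker (ψ ∘ₗ ψ) ≤
          Submodule.span (ZMod p) {(fun _ : ZMod p => (1 : ZMod p)), f0} := by
        intro f hf
        rw [LinearMap.mem_ker, LinearMap.comp_apply] at hf
        have h1 := hconst _ hf
        set c := ψ f 0 with hc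
        have h2 : ψ (f - c • f0) = 0 := by
          rw [map_sub, map_smul, hf0, h1]
          funext x
          simp
        have h3 := hconst _ h2
        rw [Submodule.mem_span_pair]
        refine ⟨(f - c • f0) 0, c, ?_⟩
        have h4 : f = (f - c • f0) + c • f0 := by abel
        conv_rhs => rw [h4, h3]
        funext x
        simp
      have h1 := Submodule.finrank_mono hle
      have h2 : Module.finrank (ZMod p)
          (Submodule.span (ZMod p) {(fun _ : ZMod p => (1 : ZMod p)), f0}) ≤ 2 := by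
        have := finrank_span_finset_le_card (R := ZMod p)
          ({(fun _ : ZMod p => (1 : ZMod p)), f0} : Finset (ZMod p → ZMod p))
        rw [Set.finrank, Finset.coe_pair] at this
        exact le_trans this Finset.card_le_two
      omega
    apply affine_of_invariant g r3 hr3two (by omega)
    intro f hf
    exact (hr3 _).1 (hK2 g hg f ((hr3 f).2 hf))
  · rcases Nat.lt_or_ge (p - 1) (2 * (r1 - 1)) with hlarge | hmid
    · apply affine_of_invariant g r2 hr2two (by omega)
      intro f hf
      exact (hr2 _).1 (hI1 g hg f ((hr2 f).2 hf))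
    · apply affine_of_invariant g r1 hbig hmid
      intro f hf
      exact (hr1 _).1 (hK1 g hg f ((hr1 f).2 hf))


/-- a group of affine permutations of `ZMod p` is solvable -/
theorem solvable_of_affine (G : Subgroup (Equiv.Perm (ZMod p)))
    (h : ∀ g ∈ G, ∃ a b : ZMod p, ∀ x, g x = a * x + b) : Group.IsSolvable G := by
  have hslope : ∀ g ∈ G, ∀ x, g x = (g 1 - g 0) * x + g 0 := by
    intro g hg x
    obtain ⟨a, b, hab⟩ := h g hg
    rw [hab x, hab 1, hab 0]
    ring
  let slope : G →* ZMod p :=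
    { toFun := fun g => g.1 1 - g.1 0
      map_one' := by simp
      map_mul' := by
        intro g k
        show (g.1 * k.1) 1 - (g.1 * k.1) 0 = _
        rw [Equiv.Perm.mul_apply, Equiv.Perm.mul_apply, hslope g.1 g.2 (k.1 1),
          hslope g.1 g.2 (k.1 0)]
        ring }
  let φ : G →* (ZMod p)ˣ := slope.toHomUnits
  have hker : ∀ g : G, g ∈ φ.ker → ∀ x, g.1 x = x + g.1 0 := by
    intro g hg x
    rw [MonoidHom.mem_ker] at hg
    have h1 : slope g = 1 := by
      have := congrArg Units.val hg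
      simpa [φ] using this
    have h2 : g.1 1 - g.1 0 = 1 := h1
    rw [hslope g.1 g.2 x, h2, one_mul]
  haveI : Group.IsSolvable φ.ker := by
    apply Group.isSolvable_of_comm
    intro g k
    apply Subtype.ext
    apply Subtype.ext
    ext x
    show g.1.1 (k.1.1 x) = k.1.1 (g.1.1 x)
    rw [hker k.1 k.2 x, hker g.1 g.2 (x + _), hker g.1 g.2 x, hker k.1 k.2 (x + _)]
    ring
  exact Group.isSolvable_of_ker_le_range φ.ker.subtype φ (by rw [Subgroup.range_subtype])

section Transport

variable {α : Type*} [Fintype α] [DecidableEq α]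

/-- a transitive group of prime degree contains a `p`-cycle, which becomes `x ↦ x + 1` after
identifying the points with `ZMod p` -/
theorem exists_equiv (hα : Fintype.card α = p) (G : Subgroup (Equiv.Perm α))
    [MulAction.IsPretransitive G α] :
    ∃ e : α ≃ ZMod p, ∃ σ ∈ G, ∀ x, e (σ x) = e x + 1 := by
  have hp := (Fact.out : p.Prime)
  haveI : Nonempty α := by
    rw [← Fintype.card_pos_iff, hα]
    exact hp.pos
  obtain ⟨x0⟩ := ‹Nonempty α›
  have hdvd : p ∣ Nat.card G := by
    have h1 := MulAction.index_stabilizer_of_transitive G x0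
    rw [Nat.card_eq_fintype_card, hα] at h1
    rw [← h1]
    exact Subgroup.index_dvd_card _
  obtain ⟨s, hs⟩ := exists_prime_orderOf_dvd_card' p hdvd
  have hσo : orderOf s.1 = p := by rw [Subgroup.orderOf_coe]; exact hs
  have hcyc : s.1.IsCycle := by
    apply Equiv.Perm.isCycle_of_prime_order'
    · rw [hσo]; exact hp
    · rw [hσo, hα]
      have := hp.pos
      omega
  have hsupp : s.1.support = Finset.univ := by
    apply Finset.eq_univ_of_card
    rw [← hcyc.orderOf, hσo, hα]
  have hmoved : ∀ x, s.1 x ≠ x := by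
    intro x
    rw [← Equiv.Perm.mem_support, hsupp]
    exact Finset.mem_univ x
  let φ : ZMod p → α := fun k => (s.1 ^ k.val) x0
  have hφsurj : Function.Surjective φ := by
    intro y
    obtain ⟨i, hi⟩ := hcyc.exists_pow_eq (hmoved x0) (hmoved y)
    refine ⟨(i : ZMod p), ?_⟩
    show (s.1 ^ ((i : ZMod p)).val) x0 = y
    rw [ZMod.val_natCast, ← hσo, pow_mod_orderOf, hi]
  have hφbij : Function.Bijective φ := by
    rw [Fintype.bijective_iff_surjective_and_card]
    exact ⟨hφsurj, by rw [ZMod.card, hα]⟩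
  have hφsucc : ∀ k : ZMod p, φ (k + 1) = s.1 (φ k) := by
    intro k
    show (s.1 ^ (k + 1).val) x0 = s.1 ((s.1 ^ k.val) x0)
    have h1 : s.1 ^ ((k.val + 1) % p) = s.1 ^ (k.val + 1) := by
      rw [pow_eq_pow_iff_modEq, hσo]
      exact Nat.mod_modEq _ _
    rw [ZMod.val_add, ZMod.val_one'' hp.ne_one, h1, pow_succ', Equiv.Perm.mul_apply]
  refine ⟨(Equiv.ofBijective φ hφbij).symm, s.1, s.2, fun x => ?_⟩
  obtain ⟨k, rfl⟩ := hφsurj x
  have h1 : (Equiv.ofBijective φ hφbij).symm (φ k) = k := by
    rw [Equiv.symm_apply_eq]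
    rfl
  rw [← hφsucc, h1, Equiv.symm_apply_eq]
  rfl

/-- **Burnside**, transported: a transitive group of prime degree which is not doubly
transitive is conjugate to a group of affine maps of `ZMod p`. -/
theorem affine_or_two_transitive (hα : Fintype.card α = p) (G : Subgroup (Equiv.Perm α))
    [MulAction.IsPretransitive G α] :
    (∃ e : α ≃ ZMod p, ∀ g ∈ G, ∃ a b : ZMod p, ∀ x, e (g x) = a * e x + b) ∨
      MulAction.IsMultiplyPretransitive G α 2 := by
  obtain ⟨e, σ, hσG, hσ⟩ := exists_equiv hα G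
  let G' : Subgroup (Equiv.Perm (ZMod p)) := G.map (e.permCongrHom : _ ≃* _).toMonoidHom
  have hmemG' : ∀ g ∈ G, e.permCongr g ∈ G' := fun g hg => ⟨g, hg, rfl⟩
  by_cases h2 : ∀ a b a' b' : ZMod p, a ≠ b → a' ≠ b' → ∃ g ∈ G', g a = a' ∧ g b = b'
  · right
    rw [MulAction.is_two_pretransitive_iff]
    intro a b c d hab hcd
    obtain ⟨g', ⟨g, hg, rfl⟩, h1, h2'⟩ := h2 (e a) (e b) (e c) (e d)
      (fun h => hab (e.injective h)) (fun h => hcd (e.injective h))
    refine ⟨⟨g, hg⟩, ?_, ?_⟩
    · have : e (g (e.symm (e a))) = e c := h1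
      rw [Equiv.symm_apply_apply] at this
      exact e.injective this
    · have : e (g (e.symm (e b))) = e d := h2'
      rw [Equiv.symm_apply_apply] at this
      exact e.injective this
  · left
    refine ⟨e, fun g hg => ?_⟩
    have hm := main G' (e.permCongr σ) (hmemG' σ hσG)
      (fun x => by
        rw [Equiv.permCongr_apply, hσ, Equiv.apply_symm_apply]) h2 (e.permCongr g) (hmemG' g hg)
    obtain ⟨a, b, hab⟩ := hm
    refine ⟨a, b, fun x => ?_⟩
    have := hab (e x)
    rw [Equiv.permCongr_apply, Equiv.symm_apply_apply] at this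
    exact this

omit [Fintype α] [DecidableEq α] in
/-- a group conjugate to a group of affine maps of `ZMod p` is solvable -/
theorem solvable_of_affine' (G : Subgroup (Equiv.Perm α)) (e : α ≃ ZMod p)
    (h : ∀ g ∈ G, ∃ a b : ZMod p, ∀ x, e (g x) = a * e x + b) : Group.IsSolvable G := by
  let f : Equiv.Perm α →* Equiv.Perm (ZMod p) := (e.permCongrHom : _ ≃* _).toMonoidHom
  let G' : Subgroup (Equiv.Perm (ZMod p)) := G.map f
  haveI : Group.IsSolvable G' := by
    apply solvable_of_affine
    rintro g' ⟨g, hg, rfl⟩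
    obtain ⟨a, b, hab⟩ := h g hg
    refine ⟨a, b, fun x => ?_⟩
    show e (g (e.symm x)) = _
    rw [hab, Equiv.apply_symm_apply]
  have hinj : Function.Injective (f.subgroupMap G) := by
    intro x y hxy
    have := congrArg Subtype.val hxy
    exact Subtype.ext (e.permCongrHom.injective this)
  exact Group.isSolvable_of_isSolvable_injective hinj

end Transport


section GeneralField

variable {K : Type*} [Field K] [CharP K p]

/-- `f : ZMod p → K` is a polynomial function of degree `< r` -/
def IsPolyLTK (K : Type*) [Field K] (r : ℕ) (f : ZMod p → K) : Prop :=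
  ∃ P : K[X], P.degree < r ∧ ∀ j, f j = P.eval (ZMod.cast j : K)

omit [Fact p.Prime] [CharP K p] in
theorem isPolyLTK_pow (j : ℕ) {r : ℕ} (hr : j < r) :
    IsPolyLTK K r (fun x : ZMod p => (ZMod.cast x : K) ^ j) := by
  refine ⟨X ^ j, ?_, fun x => by simp⟩
  rw [degree_X_pow]
  exact_mod_cast hr

theorem cast_inj (x y : ZMod p) (h : (ZMod.cast x : K) = ZMod.cast y) : x = y :=
  Cfsg.Agent.S0673.cast_injective (p := p) (K := K) h

/-- a permutation preserving the `K`-valued polynomial functions of degree `< r`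
(`2 ≤ r ≤ (p+1)/2`) is affine -/
theorem affine_of_invariantK (g : Equiv.Perm (ZMod p)) (r : ℕ) (hr2 : 2 ≤ r)
    (hrp : 2 * (r - 1) ≤ p - 1)
    (hinv : ∀ f : ZMod p → K, IsPolyLTK K r f → IsPolyLTK K r (f ∘ g)) :
    ∃ a b : ZMod p, ∀ x, g x = a * x + b := by
  have hp := (Fact.out : p.Prime)
  have h1 : IsPolyLTK K r (fun x : ZMod p => (ZMod.cast x : K) ^ 1) := isPolyLTK_pow 1 (by omega)
  obtain ⟨P, hP, hPg⟩ := hinv _ h1
  simp only [Function.comp, pow_one] at hPg
  have hP0 : P ≠ 0 := by
    rintro rfl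
    have h0 := hPg 0
    have h1 := hPg 1
    simp only [eval_zero] at h0 h1
    exact zero_ne_one (g.injective (cast_inj (K := K) _ _ (h0.trans h1.symm)))
  have hPd : P.natDegree < r := by
    rw [degree_eq_natDegree hP0] at hP
    exact_mod_cast hP
  have hcast : ∀ x y : ZMod p, ((x * y : ZMod p).cast : K) = x.cast * y.cast := fun x y =>
    map_mul (ZMod.castHom (dvd_refl p) K) x y
  have hcast' : ∀ x y : ZMod p, ((x + y : ZMod p).cast : K) = x.cast + y.cast := fun x y =>
    map_add (ZMod.castHom (dvd_refl p) K) x y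
  have hcast'' : ∀ x y : ZMod p, ((x - y : ZMod p).cast : K) = x.cast - y.cast := fun x y =>
    map_sub (ZMod.castHom (dvd_refl p) K) x y
  have hc0 : ((0 : ZMod p).cast : K) = 0 := map_zero (ZMod.castHom (dvd_refl p) K)
  have hc1 : ((1 : ZMod p).cast : K) = 1 := map_one (ZMod.castHom (dvd_refl p) K)
  rcases Nat.lt_or_ge P.natDegree 2 with he | he
  · refine ⟨g 1 - g 0, g 0, fun x => ?_⟩
    apply cast_inj (K := K)
    have hPform := eq_X_add_C_of_natDegree_le_one (show P.natDegree ≤ 1 by omega)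
    have hev : ∀ y : ZMod p, ((g y).cast : K) = P.coeff 1 * y.cast + P.coeff 0 := by
      intro y
      rw [hPg y]
      conv_lhs => rw [hPform]
      simp
    rw [hcast', hcast, hcast'', hev x, hev 1, hev 0, hc0, hc1]
    ring
  · exfalso
    set e := P.natDegree with he_def
    set d := r - 1 with hd_def
    have hed : e ≤ d := by omega
    set j := d / e + 1 with hj_def
    have hje1 : d + 1 ≤ j * e := by
      have := Nat.div_add_mod d e
      have h2 := Nat.mod_lt d (show 0 < e by omega)
      rw [hj_def, add_mul, one_mul, mul_comm]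
      omega
    have hje2 : j * e ≤ d + e := by
      have := Nat.div_mul_le_self d e
      rw [hj_def, add_mul, one_mul]
      omega
    have hjd : j ≤ d := by
      have : d / e ≤ d / 2 := Nat.div_le_div_left he (by omega)
      omega
    have h2 : IsPolyLTK K r (fun x : ZMod p => (ZMod.cast x : K) ^ j) := isPolyLTK_pow j (by omega)
    obtain ⟨Q, hQ, hQg⟩ := hinv _ h2
    simp only [Function.comp] at hQg
    have hQd : Q.natDegree < r := by
      by_cases hQ0 : Q = 0
      · rw [hQ0]; simp; omega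
      · rw [degree_eq_natDegree hQ0] at hQ
        exact_mod_cast hQ
    have hdeg : (P ^ j - Q).natDegree = j * e := by
      rw [natDegree_sub_eq_left_of_natDegree_lt, natDegree_pow]
      rw [natDegree_pow]
      show Q.natDegree < j * e
      omega
    have hzero : P ^ j - Q = 0 := by
      apply eq_zero_of_natDegree_lt_card_of_eval_eq_zero (P ^ j - Q)
        (f := fun x : ZMod p => (x.cast : K)) (Cfsg.Agent.S0673.cast_injective (p := p) (K := K))
      · intro x
        rw [eval_sub, eval_pow, ← hPg x, ← hQg x, sub_self]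
      · rw [hdeg, ZMod.card]
        have := hp.two_le
        omega
    rw [hzero, natDegree_zero] at hdeg
    omega


variable {α : Type*} [Fintype α] [DecidableEq α]

omit [Fintype α] [DecidableEq α] in
/-- small invariant subspace ⟹ affine -/
theorem affine_of_invariant_submodule_small (G : Subgroup (Equiv.Perm α))
    (e : α ≃ ZMod p) (σ : Equiv.Perm α) (hσG : σ ∈ G) (hσ : ∀ x, e (σ x) = e x + 1)
    (U : Submodule K (α → K)) (hU : ∀ g ∈ G, ∀ f ∈ U, f ∘ g ∈ U)
    (h2 : 2 ≤ Module.finrank K U) (hsmall : 2 * (Module.finrank K U - 1) ≤ p - 1) :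
    ∀ g ∈ G, ∃ a b : ZMod p, ∀ x, e (g x) = a * e x + b := by
  let E : (ZMod p → K) ≃ₗ[K] (α → K) := LinearEquiv.funCongrLeft K K e
  have hE : ∀ f' : ZMod p → K, E f' = f' ∘ e := fun f' => rfl
  let U' : Submodule K (ZMod p → K) := U.map E.symm.toLinearMap
  have hmemU' : ∀ f' : ZMod p → K, f' ∈ U' ↔ f' ∘ e ∈ U := by
    intro f'
    show f' ∈ U.map (E.symm : (α → K) →ₗ[K] (ZMod p → K)) ↔ _
    rw [Submodule.mem_map_equiv]
    rfl
  have hfr : Module.finrank K U' = Module.finrank K U := LinearEquiv.finrank_map_eq E.symm U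
  have hσinv : σ⁻¹ ∈ G := G.inv_mem hσG
  have hshift : ∀ f' ∈ U', (fun j => f' (j - 1)) ∈ U' := by
    intro f' hf'
    rw [hmemU'] at hf' ⊢
    have h1 := hU _ hσinv _ hf'
    have h3 : (fun j => f' (j - 1)) ∘ e = (f' ∘ e) ∘ (σ⁻¹ : Equiv.Perm α) := by
      funext x
      simp only [Function.comp]
      congr 1
      have h4 := hσ (σ⁻¹ x)
      rw [Equiv.Perm.inv_def, Equiv.apply_symm_apply] at h4
      rw [Equiv.Perm.inv_def]
      rw [h4]
      ring
    rw [h3]
    exact h1
  obtain ⟨r, hrp, hrf, hr⟩ := Cfsg.Agent.S0673.result (p := p) (K := K) U' hshift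
  intro g hg
  have hr' : ∀ f', f' ∈ U' ↔ IsPolyLTK K r f' := hr
  have haff := affine_of_invariantK (K := K) (e.permCongr g) r (by omega) (by
    rw [← hrf, hfr]; exact hsmall) (by
    intro f' hf'
    rw [← hr', hmemU'] at hf' ⊢
    have h1 := hU g hg _ hf'
    have h3 : (f' ∘ (e.permCongr g)) ∘ e = (f' ∘ e) ∘ g := by
      funext x
      simp only [Function.comp, Equiv.permCongr_apply, Equiv.symm_apply_apply]
    rw [h3]
    exact h1)
  obtain ⟨a, b, hab⟩ := haff
  refine ⟨a, b, fun x => ?_⟩
  have := hab (e x)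
  rw [Equiv.permCongr_apply, Equiv.symm_apply_apply] at this
  exact this

/-- invariant subspace of dimension in `[2, p-2]` ⟹ affine -/
theorem affine_of_invariant_submodule (hα : Fintype.card α = p) (G : Subgroup (Equiv.Perm α))
    (e : α ≃ ZMod p) (σ : Equiv.Perm α) (hσG : σ ∈ G) (hσ : ∀ x, e (σ x) = e x + 1)
    (U : Submodule K (α → K)) (hU : ∀ g ∈ G, ∀ f ∈ U, f ∘ g ∈ U)
    (h2 : 2 ≤ Module.finrank K U) (hp2 : Module.finrank K U + 2 ≤ p) :
    ∀ g ∈ G, ∃ a b : ZMod p, ∀ x, e (g x) = a * e x + b := by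
  rcases Nat.lt_or_ge (p - 1) (2 * (Module.finrank K U - 1)) with hlarge | hsmall
  · let B : LinearMap.BilinForm K (α → K) := (1 : Matrix α α K).toBilin'
    have hB : B.Nondegenerate := by
      apply LinearMap.BilinForm.nondegenerate_toBilin'_of_det_ne_zero'
      simp
    have hBapp : ∀ v w : α → K, B v w = ∑ i, v i * w i := by
      intro v w
      show (1 : Matrix α α K).toBilin' v w = _
      rw [Matrix.toBilin'_apply', Matrix.one_mulVec]
      rfl
    have hfr := LinearMap.BilinForm.finrank_orthogonal hB U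
    rw [Module.finrank_fintype_fun_eq_card, hα] at hfr
    apply affine_of_invariant_submodule_small G e σ hσG hσ (B.orthogonal U)
    · intro g hg f hf
      rw [LinearMap.BilinForm.mem_orthogonal_iff] at hf ⊢
      intro u hu
      have h1 := hf (u ∘ (g⁻¹ : Equiv.Perm α)) (hU _ (G.inv_mem hg) u hu)
      rw [hBapp] at h1 ⊢
      rw [← h1, ← Equiv.sum_comp g (fun i => (u ∘ (g⁻¹ : Equiv.Perm α)) i * f i)]
      apply Finset.sum_congr rfl
      intro i _
      simp only [Function.comp, Equiv.Perm.inv_def, Equiv.symm_apply_apply]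
    · omega
    · omega
  · exact affine_of_invariant_submodule_small G e σ hσG hσ U hU h2 hsmall

end GeneralField

end Cfsg.Agent.Lib.Lead.BurnsidePrime
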