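import Mathlib
import Cfsg.Agent.Lib.Helper9.AlperinCor
import Cfsg.Agent.Lib.Helper4.Huppert

set_option autoImplicit false

namespace Cfsg.Agent.Lib.Lead.Fus

open Cfsg Cfsg.FusionSystem Cfsg.Agent.Lib.Helper9
open scoped commutatorElement

variable {Ω : Type*} [Group Ω]

/-- If an endomorphism `β` of `p'`-order of `H ≤ S` sends every small element (order `p`, or
`≤ 4` for `p = 2`) to an `S`-conjugate, for each of its powers, then `β` is the identity. -/
theorem fix_of_conj (S : Subgroup Ω) [Finite S] (p : ℕ) [Fact p.Prime] (hS : IsPGroup p S)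
    (H : Subgroup Ω) (hHS : H ≤ S) (β : H →* H) (m : ℕ) (hm : ∀ x, β^[m] x = x)
    (hmp : m.Coprime p)
    (hconj : ∀ a : H, ((a : Ω) ^ p = 1 ∨ (p = 2 ∧ (a : Ω) ^ 4 = 1)) → ∀ k : ℕ,
      ∃ s ∈ S, ((β^[k] a : H) : Ω) = s * a * s⁻¹) :
    ∀ x : H, β x = x := by
  classical
  have hfinH : Finite H := finite_of_le hHS
  have hHp : IsPGroup p H := isPGroup_of_le hS hHS
  have hnil : Group.IsNilpotent S := hS.isNilpotent
  have key : ∀ (n : ℕ) (R : Subgroup H), Nat.card R = n → (∀ x ∈ R, β x ∈ R) →
      ∀ x ∈ R, β x = x := by
    intro n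
    induction n using Nat.strong_induction_on with
    | _ n ih =>
      intro R hRn hRinv
      have hiter : ∀ k : ℕ, ∀ x ∈ R, β^[k] x ∈ R := by
        intro k
        induction k with
        | zero => intro x hx; exact hx
        | succ k ihk =>
          intro x hx
          rw [Function.iterate_succ_apply']
          exact hRinv _ (ihk x hx)
      have hsmall : ∀ a ∈ R, ((a : H) ^ p = 1 ∨ (p = 2 ∧ (a : H) ^ 4 = 1)) → β a = a := by
        intro a haR hasm
        by_cases ha1 : a = 1
        · rw [ha1, map_one]
        have hasm' : ((a : Ω) ^ p = 1 ∨ (p = 2 ∧ (a : Ω) ^ 4 = 1)) := by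
          rcases hasm with h | ⟨h2, h⟩
          · left
            have := congrArg Subtype.val h
            simpa using this
          · right
            refine ⟨h2, ?_⟩
            have := congrArg Subtype.val h
            simpa using this
        obtain ⟨D, hD⟩ : ∃ D : Subgroup H, D = Subgroup.closure
            {g : H | ∃ r ∈ R, ∃ k : ℕ, g = r * (a⁻¹ * β^[k] a) * r⁻¹} := ⟨_, rfl⟩
        have hDR : D ≤ R := by
          rw [hD, Subgroup.closure_le]
          rintro g ⟨r, hr, k, rfl⟩
          exact R.mul_mem (R.mul_mem hr (R.mul_mem (R.inv_mem haR) (hiter k a haR))) (R.inv_mem hr)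
        have hDinv : ∀ x ∈ D, β x ∈ D := by
          intro x hx
          rw [hD] at hx
          induction hx using Subgroup.closure_induction with
          | mem g hg =>
            obtain ⟨r, hr, k, rfl⟩ := hg
            have e : β (r * (a⁻¹ * β^[k] a) * r⁻¹) =
                (β r * (a⁻¹ * β a) * (β r)⁻¹)⁻¹ * (β r * (a⁻¹ * β (β^[k] a)) * (β r)⁻¹) := by
              rw [map_mul, map_mul, map_mul, map_inv, map_inv]
              group
            rw [e, hD]
            refine Subgroup.mul_mem _ (Subgroup.inv_mem _ (Subgroup.subset_closure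
              ⟨β r, hRinv r hr, 1, rfl⟩)) (Subgroup.subset_closure ⟨β r, hRinv r hr, k + 1, ?_⟩)
            rw [Function.iterate_succ_apply']
          | one => rw [map_one]; exact Subgroup.one_mem _
          | mul x y _ _ hx hy => rw [map_mul]; exact Subgroup.mul_mem _ hx hy
          | inv x _ hx => rw [map_inv]; exact Subgroup.inv_mem _ hx
        have haS : (a : Ω) ∈ S := hHS a.2
        obtain ⟨N, hN⟩ := Group.IsNilpotent.nilpotent S
        have hex : ∃ n, (⟨(a : Ω), haS⟩ : S) ∈ Subgroup.upperCentralSeries S n :=
          ⟨N, by rw [hN]; trivial⟩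
        have hn₀ : (⟨(a : Ω), haS⟩ : S) ∈ Subgroup.upperCentralSeries S (Nat.find hex) :=
          Nat.find_spec hex
        have hn₀pos : Nat.find hex ≠ 0 := by
          intro h0
          rw [h0, Subgroup.upperCentralSeries_zero, Subgroup.mem_bot] at hn₀
          apply ha1
          apply Subtype.ext
          exact congrArg (fun z : S => (z : Ω)) hn₀
        obtain ⟨i, hi⟩ := Nat.exists_eq_succ_of_ne_zero hn₀pos
        have hai : (⟨(a : Ω), haS⟩ : S) ∉ Subgroup.upperCentralSeries S i :=
          Nat.find_min hex (by omega)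
        have hnorm : (Subgroup.upperCentralSeries S i).Normal := inferInstance
        have hDZ : ∀ x ∈ D, (⟨(x : Ω), hHS x.2⟩ : S) ∈ Subgroup.upperCentralSeries S i := by
          intro x hx
          rw [hD] at hx
          induction hx using Subgroup.closure_induction with
          | mem g hg =>
            obtain ⟨r, hr, k, rfl⟩ := hg
            obtain ⟨s, hs, hsk⟩ := hconj a hasm' k
            have h1 : ⁅(⟨(a : Ω), haS⟩ : S)⁻¹, (⟨s, hs⟩ : S)⁆ ∈ Subgroup.upperCentralSeries S i := by
              have h2 := hn₀
              rw [hi] at h2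
              have h3 := Subgroup.inv_mem _ h2
              rw [Subgroup.mem_upperCentralSeries_succ_iff] at h3
              exact h3 ⟨s, hs⟩
            have h3 : (⟨((r * (a⁻¹ * β^[k] a) * r⁻¹ : H) : Ω), hHS (r * (a⁻¹ * β^[k] a) * r⁻¹).2⟩ : S)
                = ⟨(r : Ω), hHS r.2⟩ * ⁅(⟨(a : Ω), haS⟩ : S)⁻¹, (⟨s, hs⟩ : S)⁆ *
                  (⟨(r : Ω), hHS r.2⟩ : S)⁻¹ := by
              apply Subtype.ext
              show (r : Ω) * ((a : Ω)⁻¹ * ((β^[k] a : H) : Ω)) * (r : Ω)⁻¹ =
                (r : Ω) * ⁅(a : Ω)⁻¹, s⁆ * (r : Ω)⁻¹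
              rw [hsk, commutatorElement_def]
              group
            rw [h3]
            exact hnorm.conj_mem _ h1 _
          | one => exact Subgroup.one_mem _
          | mul x y _ _ hx hy => exact Subgroup.mul_mem _ hx hy
          | inv x _ hx => exact Subgroup.inv_mem _ hx
        have haD : a ∉ D := fun haD => hai (hDZ a haD)
        have hlt : Nat.card D < n := by
          rw [← hRn]
          have hfinR : Finite R := inferInstance
          apply card_lt_of_lt'
          exact lt_of_le_of_ne hDR (fun h => haD (h ▸ haR))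
        have hDfix := ih (Nat.card D) hlt D rfl hDinv
        have hcD : a⁻¹ * β a ∈ D := by
          rw [hD]
          apply Subgroup.subset_closure
          refine ⟨1, R.one_mem, 1, ?_⟩
          simp
        have hc := hDfix _ hcD
        have hiterc : ∀ k : ℕ, β^[k] a = a * (a⁻¹ * β a) ^ k := by
          intro k
          induction k with
          | zero => simp
          | succ k ihk =>
            have hac : a * (a⁻¹ * β a) = β a := by group
            rw [Function.iterate_succ_apply', ihk, map_mul, map_pow, hc, pow_succ', ← mul_assoc, hac]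
        have h4 := hm a
        rw [hiterc m] at h4
        have h5 : (a⁻¹ * β a) ^ m = 1 := by
          have := mul_left_cancel (a := a) (b := (a⁻¹ * β a) ^ m) (c := 1) (by rw [mul_one]; exact h4)
          exact this
        obtain ⟨j, hj⟩ := (IsPGroup.iff_orderOf.mp hHp) (a⁻¹ * β a)
        have h6 : orderOf (a⁻¹ * β a) ∣ m := orderOf_dvd_of_pow_eq_one h5
        have h7 : (orderOf (a⁻¹ * β a)).Coprime m := by
          rw [hj]
          exact Nat.Coprime.pow_left j hmp.symm
        have h8 : a⁻¹ * β a = 1 := orderOf_eq_one_iff.mp (Nat.Coprime.eq_one_of_dvd h7 h6)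
        calc β a = a * (a⁻¹ * β a) := by group
          _ = a := by rw [h8, mul_one]
      let ψ : R →* R :=
        { toFun := fun y => ⟨β (y : H), hRinv y y.2⟩
          map_one' := Subtype.ext (map_one β)
          map_mul' := fun a b => Subtype.ext (map_mul β (a : H) (b : H)) }
      have hψiter : ∀ (k : ℕ) (y : R), ((ψ^[k] y : R) : H) = β^[k] (y : H) := by
        intro k
        induction k with
        | zero => intro y; rfl
        | succ k ihk =>
          intro y
          rw [Function.iterate_succ_apply', Function.iterate_succ_apply']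
          show β ((ψ^[k] y : R) : H) = _
          rw [ihk]
      have hall := Cfsg.Agent.Lib.Helper4.Huppert.fix_all (Nat.card R) R p (hHp.to_subgroup R) rfl ψ m
        (fun y => Subtype.ext (by rw [hψiter]; exact hm _)) hmp
        (fun a ha => Subtype.ext (hsmall a a.2 (by
          rcases ha with h | ⟨h2, h⟩
          · left
            have := congrArg Subtype.val h
            simpa using this
          · right
            refine ⟨h2, ?_⟩
            have := congrArg Subtype.val h
            simpa using this)))
      intro x hx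
      exact congrArg Subtype.val (hall ⟨x, hx⟩)
  intro x
  exact key (Nat.card (⊤ : Subgroup H)) ⊤ rfl (fun x _ => trivial) x trivial

theorem isPGroup_of_coprime_trivial {X : Type*} [Group X] [Finite X] (p : ℕ) [Fact p.Prime]
    (h : ∀ g : X, (orderOf g).Coprime p → g = 1) : IsPGroup p X := by
  intro g
  have hp : p.Prime := Fact.out
  obtain ⟨k, m, hm, hkm⟩ := Nat.exists_eq_pow_mul_and_not_dvd (orderOf_pos g).ne' p hp.ne_one
  refine ⟨k, h _ ?_⟩
  have h1 : orderOf (g ^ p ^ k) = m := by
    rw [orderOf_pow' g (pow_ne_zero k hp.ne_zero), hkm,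
      Nat.gcd_eq_right (Dvd.intro m rfl), Nat.mul_div_cancel_left m (pow_pos hp.pos k)]
  rw [h1]
  exact ((Nat.Prime.coprime_iff_not_dvd hp).mpr hm).symm

end Cfsg.Agent.Lib.Lead.Fus
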