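import Mathlib
import Cfsg.Agent.Lib.Lead.Fus4

set_option autoImplicit false

namespace Cfsg.Agent.Lib.Lead.Fus

open Cfsg Cfsg.FusionSystem Cfsg.Agent.Lib.Helper9

variable {Ω : Type*} [Group Ω] {S : Subgroup Ω}

/-- a `p'`-automorphism `β` of `P ≤ S` with `[P, β^k] ⊆ Y` that moves small elements of `P ∩ Y`
only within their `S`-classes is trivial -/
theorem aut_eq_one_of_conj [Finite S] (p : ℕ) [Fact p.Prime] (hS : IsPGroup p S) (Y : Subgroup Ω)
    {P : Subgroup Ω} (hPS : P ≤ S) (β : MulAut P) (hcop : (orderOf β).Coprime p)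
    (hY1 : ∀ (k : ℕ) (x : P), (x : Ω)⁻¹ * (((β ^ k) x : P) : Ω) ∈ Y)
    (hY2 : ∀ (a : P), (a : Ω) ∈ Y → ((a : Ω) ^ p = 1 ∨ (p = 2 ∧ (a : Ω) ^ 4 = 1)) → ∀ k : ℕ,
      ∃ s ∈ S, (((β ^ k) a : P) : Ω) = s * a * s⁻¹) : β = 1 := by
  classical
  obtain ⟨H, hH⟩ : ∃ H : Subgroup Ω, H = P ⊓ Y := ⟨_, rfl⟩
  have hHP : H ≤ P := hH ▸ inf_le_left
  have hHY : H ≤ Y := hH ▸ inf_le_right
  have hHS : H ≤ S := hHP.trans hPS
  have hPp : IsPGroup p P := isPGroup_of_le hS hPS
  have hinv : ∀ (k : ℕ) (y : H), (((β ^ k) ⟨y, hHP y.2⟩ : P) : Ω) ∈ H := by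
    intro k y
    have hmemY : (((β ^ k) ⟨y, hHP y.2⟩ : P) : Ω) ∈ Y := by
      have := Y.mul_mem (hHY y.2) (hY1 k ⟨y, hHP y.2⟩)
      rw [mul_inv_cancel_left] at this
      exact this
    have hmem : (((β ^ k) ⟨y, hHP y.2⟩ : P) : Ω) ∈ P ⊓ Y :=
      ⟨((β ^ k) ⟨y, hHP y.2⟩).2, hmemY⟩
    exact hH.symm ▸ hmem
  obtain ⟨βH, hβH⟩ : ∃ βH : H →* H, ∀ y : H, ((βH y : H) : Ω) = ((β ⟨y, hHP y.2⟩ : P) : Ω) := by
    refine ⟨((P.subtype.comp β.toMonoidHom).comp (Subgroup.inclusion hHP)).codRestrict H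
      (fun y => ?_), fun y => rfl⟩
    have := hinv 1 y
    rw [pow_one] at this
    exact this
  have hβHiter : ∀ (k : ℕ) (y : H), ((βH^[k] y : H) : Ω) = (((β ^ k) ⟨y, hHP y.2⟩ : P) : Ω) := by
    intro k
    induction k with
    | zero => intro y; rfl
    | succ k ihk =>
      intro y
      rw [Function.iterate_succ_apply', hβH, pow_succ', MulAut.mul_apply]
      congr 2
      exact Subtype.ext (ihk y)
  have hm : ∀ y : H, βH^[orderOf β] y = y := by
    intro y
    apply Subtype.ext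
    rw [hβHiter, pow_orderOf_eq_one]
    rfl
  have hconj : ∀ a : H, ((a : Ω) ^ p = 1 ∨ (p = 2 ∧ (a : Ω) ^ 4 = 1)) → ∀ k : ℕ,
      ∃ s ∈ S, ((βH^[k] a : H) : Ω) = s * a * s⁻¹ := by
    intro a hasm k
    obtain ⟨s, hs, hsa⟩ := hY2 ⟨a, hHP a.2⟩ (hHY a.2) hasm k
    exact ⟨s, hs, by rw [hβHiter]; exact hsa⟩
  have hfix := fix_of_conj S p hS H hHS βH (orderOf β) hm hcop hconj
  ext x
  show ((β x : P) : Ω) = x
  have hcH : ((x⁻¹ * β x : P) : Ω) ∈ H := by
    have hmemY : ((x⁻¹ * β x : P) : Ω) ∈ Y := by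
      have := hY1 1 x
      rw [pow_one] at this
      exact this
    have hmem : ((x⁻¹ * β x : P) : Ω) ∈ P ⊓ Y := ⟨(x⁻¹ * β x).2, hmemY⟩
    exact hH.symm ▸ hmem
  have hc : β (x⁻¹ * β x) = x⁻¹ * β x := by
    have h1 := congrArg (fun z : H => (z : Ω)) (hfix ⟨_, hcH⟩)
    simp only [hβH] at h1
    exact Subtype.ext h1
  have hiterc : ∀ k : ℕ, (β ^ k) x = x * (x⁻¹ * β x) ^ k := by
    intro k
    induction k with
    | zero => simp
    | succ k ihk =>
      have hac : x * (x⁻¹ * β x) = β x := by group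
      rw [pow_succ', MulAut.mul_apply, ihk, map_mul, map_pow, hc, pow_succ', ← mul_assoc, hac]
  have h4 := hiterc (orderOf β)
  rw [pow_orderOf_eq_one, MulAut.one_apply] at h4
  have h5 : (x⁻¹ * β x) ^ orderOf β = 1 := by
    have := mul_left_cancel (a := x) (b := (x⁻¹ * β x) ^ orderOf β) (c := 1)
      (by rw [mul_one]; exact h4.symm)
    exact this
  obtain ⟨j, hj⟩ := (IsPGroup.iff_orderOf.mp hPp) (x⁻¹ * β x)
  have h6 : orderOf (x⁻¹ * β x) ∣ orderOf β := orderOf_dvd_of_pow_eq_one h5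
  have h7 : (orderOf (x⁻¹ * β x)).Coprime (orderOf β) := by
    rw [hj]
    exact Nat.Coprime.pow_left j hcop.symm
  have h8 : x⁻¹ * β x = 1 := orderOf_eq_one_iff.mp (Nat.Coprime.eq_one_of_dvd h7 h6)
  have h9 : β x = x := by
    calc β x = x * (x⁻¹ * β x) := by group
      _ = x := by rw [h8, mul_one]
  rw [h9]

/-- S5298 -/
theorem inner_of_small_cyclic [Finite S] (p : ℕ) [Fact p.Prime] (hS : IsPGroup p S)
    (F : FusionSystem S) (hF : F.IsSaturated p)
    (h : ∀ A B : Subgroup Ω, A ≤ (F.hyperfocalSubgroup p) → B ≤ (F.hyperfocalSubgroup p) →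
      IsCyclic ↥A → (Nat.card ↥A = p ∨ Nat.card ↥A = 4) → IsCyclic ↥B →
      (Nat.card ↥B = p ∨ Nat.card ↥B = 4) →
      F.homSet A B ⊆ (Cfsg.innerFusionSystem S).Hom A) :
    ∀ P : Subgroup Ω, F.Hom P = (Cfsg.innerFusionSystem S).Hom P := by
  have hp : ∀ P : Subgroup Ω, P ≤ S → IsPGroup p (F.autGroup P) := by
    intro P hPS
    have hfinP : Finite P := finite_of_le hPS
    apply isPGroup_of_coprime_trivial p
    intro g hg
    apply Subtype.ext
    show (g : MulAut P) = 1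
    have hg' : (orderOf (g : MulAut P)).Coprime p := by rw [Subgroup.orderOf_coe]; exact hg
    have hY1 : ∀ (k : ℕ) (x : P), (x : Ω)⁻¹ * ((((g : MulAut P) ^ k) x : P) : Ω) ∈
        F.hyperfocalSubgroup p := by
      intro k x
      apply Subgroup.subset_closure
      refine ⟨P, g ^ k, x, hPS, ?_, rfl⟩
      exact (pResidual p (F.autGroup P)).pow_mem
        (Subgroup.subset_closure (show g ∈ {g | Nat.Coprime (orderOf g) p} from hg)) k
    apply aut_eq_one_of_conj p hS (F.hyperfocalSubgroup p) hPS (g : MulAut P) hg' hY1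
    intro a haY hasm k
    by_cases ha1 : (a : Ω) = 1
    · refine ⟨1, S.one_mem, ?_⟩
      have : a = 1 := Subtype.ext ha1
      rw [this, map_one]
      simp
    have hord : orderOf ((((g : MulAut P) ^ k) a : P) : Ω) = orderOf (a : Ω) := by
      rw [Subgroup.orderOf_coe, Subgroup.orderOf_coe]
      exact MulEquiv.orderOf_eq _ a
    have hcard : orderOf (a : Ω) = p ∨ orderOf (a : Ω) = 4 := by
      rcases hasm with h1 | ⟨h2, h4⟩
      · left
        exact orderOf_eq_prime h1 ha1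
      · have hd : orderOf (a : Ω) ∣ 2 ^ 2 := by
          have h44 : orderOf (a : Ω) ∣ 4 := orderOf_dvd_of_pow_eq_one h4
          have h22 : (4 : ℕ) = 2 ^ 2 := by norm_num
          rw [h22] at h44
          exact h44
        obtain ⟨j, hj, hjo⟩ := (Nat.dvd_prime_pow Nat.prime_two).mp hd
        interval_cases j
        · exact absurd (orderOf_eq_one_iff.mp (by simpa using hjo)) ha1
        · left
          rw [hjo, h2]
          norm_num
        · right
          rw [hjo]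
          norm_num
    have hbY : ((((g : MulAut P) ^ k) a : P) : Ω) ∈ F.hyperfocalSubgroup p := by
      have := Subgroup.mul_mem _ haY (hY1 k a)
      rw [mul_inv_cancel_left] at this
      exact this
    have hAP : Subgroup.zpowers (a : Ω) ≤ P := Subgroup.zpowers_le.mpr a.2
    have hφ : (P.subtype.comp ((g : MulAut P) ^ k).toMonoidHom).comp (Subgroup.inclusion hAP) ∈
        F.Hom (Subgroup.zpowers (a : Ω)) :=
      restrict_mem F (hom_of_mem_autGroup F hPS (Subgroup.pow_mem _ g.2 k)) hAP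
    have hφB : ∀ x : Subgroup.zpowers (a : Ω),
        ((P.subtype.comp ((g : MulAut P) ^ k).toMonoidHom).comp (Subgroup.inclusion hAP)) x ∈
          Subgroup.zpowers ((((g : MulAut P) ^ k) a : P) : Ω) := by
      intro x
      obtain ⟨j, hj⟩ := Subgroup.mem_zpowers_iff.mp x.2
      have hx : Subgroup.inclusion hAP x = a ^ j := by
        apply Subtype.ext
        rw [Subgroup.coe_zpow]
        exact hj.symm
      show ((((g : MulAut P) ^ k) (Subgroup.inclusion hAP x) : P) : Ω) ∈ _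
      rw [hx, map_zpow, Subgroup.coe_zpow]
      exact Subgroup.zpow_mem _ (Subgroup.mem_zpowers _) j
    obtain ⟨-, s, hs, hφs⟩ := h (Subgroup.zpowers (a : Ω))
      (Subgroup.zpowers ((((g : MulAut P) ^ k) a : P) : Ω))
      (Subgroup.zpowers_le.mpr haY) (Subgroup.zpowers_le.mpr hbY) inferInstance
      (by rw [Nat.card_zpowers]; exact hcard) inferInstance
      (by rw [Nat.card_zpowers, hord]; exact hcard) ⟨hφ, hφB⟩
    exact ⟨s, hs, hφs ⟨(a : Ω), Subgroup.mem_zpowers _⟩⟩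
  have hin := eq_inner_of_autGroups_pGroups p hS F hF hp
  intro P
  rw [hin]

end Cfsg.Agent.Lib.Lead.Fus
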