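import Mathlib
import Cfsg.Agent.Lib.Lead.Fus5
import Cfsg.Agent.Lib.Helper9.NormalSeries
import Cfsg.Agent.Lib.Helper9.NormalSeries4
import Cfsg.Prelude.Def_PLocal

set_option autoImplicit false

namespace Cfsg.Agent.Lib.Lead.Fus

open Cfsg Cfsg.FusionSystem Cfsg.Agent.Lib.Helper9
open scoped commutatorElement

section abstract

/-- a `p'`-automorphism fixing `x⁻¹ β(x)` fixes `x` -/
theorem fix_of_comm_fix {R : Type*} [Group R] [Finite R] {p : ℕ} [Fact p.Prime] (hR : IsPGroup p R)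
    (β : MulAut R) (hcop : (orderOf β).Coprime p) (x : R) (hc : β (x⁻¹ * β x) = x⁻¹ * β x) :
    β x = x := by
  have hiterc : ∀ k : ℕ, (β ^ k) x = x * (x⁻¹ * β x) ^ k := by
    intro k
    induction k with
    | zero => simp
    | succ k ihk =>
      have hac : x * (x⁻¹ * β x) = β x := by group
      rw [pow_succ', MulAut.mul_apply, ihk, map_mul, map_pow, hc, pow_succ', ← mul_assoc, hac]
  have h4 := hiterc (orderOf β)
  rw [pow_orderOf_eq_one, MulAut.one_apply] at h4
  have h5 : (x⁻¹ * β x) ^ orderOf β = 1 := by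
    have := mul_left_cancel (a := x) (b := (x⁻¹ * β x) ^ orderOf β) (c := 1)
      (by rw [mul_one]; exact h4.symm)
    exact this
  obtain ⟨j, hj⟩ := (IsPGroup.iff_orderOf.mp hR) (x⁻¹ * β x)
  have h6 : orderOf (x⁻¹ * β x) ∣ orderOf β := orderOf_dvd_of_pow_eq_one h5
  have h7 : (orderOf (x⁻¹ * β x)).Coprime (orderOf β) := by
    rw [hj]
    exact Nat.Coprime.pow_left j hcop.symm
  have h8 : x⁻¹ * β x = 1 := orderOf_eq_one_iff.mp (Nat.Coprime.eq_one_of_dvd h7 h6)
  calc β x = x * (x⁻¹ * β x) := by group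
    _ = x := by rw [h8, mul_one]

theorem mem_pCore_of_two_chains {R : Type*} [Group R] [Finite R] {p : ℕ} [Fact p.Prime]
    (hp : p ≠ 2) (hR : IsPGroup p R)
    (A : Subgroup (MulAut R)) (e1 e2 : ℕ → Subgroup R)
    (hinv1 : ∀ α ∈ A, ∀ j, ∀ x ∈ e1 j, α x ∈ e1 j) (hinv2 : ∀ α ∈ A, ∀ j, ∀ x ∈ e2 j, α x ∈ e2 j)
    (h0 : e1 0 = ⊥) (n : ℕ) (hn : ∀ y ∈ e2 0, y ^ p = 1 → y ∈ e1 n) (h2 : e2 1 = ⊤)
    {β : MulAut R} (hβ1 : β ∈ stabChain A e1 hinv1) (hβ2 : β ∈ stabChain A e2 hinv2) :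
    β ∈ (pCore p A).map A.subtype := by
  classical
  have hβA : β ∈ A := hβ1.1
  haveI n1 := stabChain_normal A e1 hinv1
  haveI n2 := stabChain_normal A e2 hinv2
  have hN : ((stabChain A e1 hinv1).subgroupOf A ⊓ (stabChain A e2 hinv2).subgroupOf A).Normal :=
    inferInstance
  have hNp : IsPGroup p
      ↥((stabChain A e1 hinv1).subgroupOf A ⊓ (stabChain A e2 hinv2).subgroupOf A) := by
    apply isPGroup_of_coprime_trivial p
    intro g hg
    obtain ⟨hg1', hg2'⟩ := Subgroup.mem_inf.mp g.2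
    have hg1 : ((g : A) : MulAut R) ∈ stabChain A e1 hinv1 := Subgroup.mem_subgroupOf.mp hg1'
    have hg2 : ((g : A) : MulAut R) ∈ stabChain A e2 hinv2 := Subgroup.mem_subgroupOf.mp hg2'
    obtain ⟨α, hα⟩ : ∃ α : MulAut R, α = ((g : A) : MulAut R) := ⟨_, rfl⟩
    rw [← hα] at hg1 hg2
    have hαA : α ∈ A := hg1.1
    have hcop : (orderOf α).Coprime p := by
      rw [hα, Subgroup.orderOf_coe, Subgroup.orderOf_coe]; exact hg
    have step1 : ∀ j, ∀ x ∈ e1 j, α x = x := by
      intro j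
      induction j with
      | zero =>
        intro x hx
        rw [h0, Subgroup.mem_bot] at hx
        rw [hx, map_one]
      | succ j ih =>
        intro x hx
        exact fix_of_comm_fix hR α hcop x (ih _ (hg1.2 j x hx))
    have step2 : ∀ y ∈ e2 0, α y = y := by
      obtain ⟨Y, hY⟩ : ∃ Y : Subgroup R, Y = e2 0 := ⟨_, rfl⟩
      rw [← hY]
      have hYinv : ∀ y : Y, α y ∈ Y := by
        intro y
        have h1 : (y : R) ∈ e2 0 := hY ▸ y.2
        have h2 := hinv2 α hαA 0 y h1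
        exact hY.symm ▸ h2
      obtain ⟨φ, hφ⟩ : ∃ φ : Y →* Y, ∀ y : Y, ((φ y : Y) : R) = α y :=
        ⟨(α.toMonoidHom.comp Y.subtype).codRestrict Y hYinv, fun y => rfl⟩
      have hiter : ∀ (k : ℕ) (y : Y), ((φ^[k] y : Y) : R) = (α ^ k) y := by
        intro k
        induction k with
        | zero => intro y; rfl
        | succ k ihk =>
          intro y
          rw [Function.iterate_succ_apply', hφ, ihk, pow_succ', MulAut.mul_apply]
      have hm : ∀ y : Y, φ^[orderOf α] y = y := by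
        intro y
        apply Subtype.ext
        rw [hiter, pow_orderOf_eq_one]
        rfl
      have hΩ : ∀ a : Y, (a ^ p = 1 ∨ (p = 2 ∧ a ^ 4 = 1)) → φ a = a := by
        intro a ha
        rcases ha with ha | ⟨h2', -⟩
        · apply Subtype.ext
          rw [hφ]
          apply step1 n
          apply hn _ (hY ▸ a.2)
          rw [← Subgroup.coe_pow, ha, Subgroup.coe_one]
        · exact absurd h2' hp
      have hall := Cfsg.Agent.Lib.Helper4.Huppert.fix_all (Nat.card Y) Y p (hR.to_subgroup Y) rfl φ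
        (orderOf α) hm hcop hΩ
      intro y hy
      have := congrArg (fun z : Y => (z : R)) (hall ⟨y, hy⟩)
      simp only [hφ] at this
      exact this
    have step3 : ∀ x, α x = x := by
      intro x
      apply fix_of_comm_fix hR α hcop x
      apply step2
      apply hg2.2 0 x
      rw [zero_add, h2]
      exact Subgroup.mem_top x
    have hα1 : α = 1 := by
      ext x
      exact step3 x
    apply Subtype.ext
    apply Subtype.ext
    rw [← hα, hα1]
    rfl
  have hle := le_pCore' hN hNp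
  refine ⟨⟨β, hβA⟩, hle ?_, rfl⟩
  exact Subgroup.mem_inf.mpr ⟨Subgroup.mem_subgroupOf.mpr hβ1, Subgroup.mem_subgroupOf.mpr hβ2⟩

end abstract

variable {Ω : Type*} [Group Ω] {S : Subgroup Ω}

theorem normal_of_omega_series [Finite S] (p : ℕ) [Fact p.Prime] (hS : IsPGroup p S)
    (F : FusionSystem S) (hF : F.IsSaturated p) (hp : p ≠ 2) (X : Subgroup Ω)
    (hXsc : F.StronglyClosed X) (T : ℕ → Subgroup Ω) (n : ℕ)
    (h0 : T 0 = ⊥) (hn : T n = omegaOne p X) (hsc : ∀ j, F.StronglyClosed (T j))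
    (hcomm : ∀ j, ⁅T (j + 1), X⁆ ≤ T j) : F.IsNormal X := by
  rw [normal_iff_stronglyClosed_le_centric_radical p hS F hF]
  refine ⟨hXsc, fun R hRc hRr => ?_⟩
  have hXS := hXsc.1
  have hRS := hRc.1
  have hC : centralizerIn S R ≤ R := hRc.2 R (isConj_refl F hRS)
  have hfinR : Finite R := finite_of_le hRS
  have hRp : IsPGroup p R := isPGroup_of_le hS hRS
  have hinv1 : ∀ α ∈ F.autGroup R, ∀ j, ∀ x ∈ (T j).subgroupOf R, α x ∈ (T j).subgroupOf R :=
    fun α hα j x hx => map_le_of_stronglyClosed F (hsc j) hRS hα ⟨x, hx, rfl⟩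
  obtain ⟨e2, he20, he2s⟩ : ∃ e2 : ℕ → Subgroup R, e2 0 = X.subgroupOf R ∧ ∀ j, e2 (j + 1) = ⊤ :=
    ⟨fun j => Nat.casesOn j (X.subgroupOf R) (fun _ => ⊤), rfl, fun _ => rfl⟩
  have hinv2 : ∀ α ∈ F.autGroup R, ∀ j, ∀ x ∈ e2 j, α x ∈ e2 j := by
    intro α hα j
    cases j with
    | zero =>
      intro x hx
      rw [he20] at hx ⊢
      exact map_le_of_stronglyClosed F hXsc hRS hα ⟨x, hx, rfl⟩
    | succ j =>
      intro x _
      rw [he2s]
      exact Subgroup.mem_top _
  have key : ∀ g ∈ X, g ∈ Subgroup.normalizer (R : Set Ω) → g ∈ R := by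
    intro g hgX hgN
    by_contra hgR
    have hβA : conjAut R ⟨g, hgN⟩ ∈ F.autGroup R :=
      autInducedBy_le_autGroup F hRS
        ((mem_autInducedBy_iff S R _).mpr ⟨g, hXS hgX, fun x => rfl⟩)
    have hβ1 : conjAut R ⟨g, hgN⟩ ∈
        stabChain (F.autGroup R) (fun j => (T j).subgroupOf R) hinv1 := by
      refine ⟨hβA, fun j x hx => ?_⟩
      show (x : Ω)⁻¹ * (g * x * g⁻¹) ∈ T j
      have hx' : (x : Ω) ∈ T (j + 1) := hx
      apply hcomm j
      have : (x : Ω)⁻¹ * (g * x * g⁻¹) = ⁅(x : Ω)⁻¹, g⁆ := by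
        rw [commutatorElement_def]
        group
      rw [this]
      exact Subgroup.commutator_mem_commutator ((T (j + 1)).inv_mem hx') hgX
    have hβ2 : conjAut R ⟨g, hgN⟩ ∈ stabChain (F.autGroup R) e2 hinv2 := by
      refine ⟨hβA, fun j x hx => ?_⟩
      cases j with
      | zero =>
        rw [he20]
        show (x : Ω)⁻¹ * (g * x * g⁻¹) ∈ X
        have h1 : (x : Ω)⁻¹ * g * ((x : Ω)⁻¹)⁻¹ ∈ X :=
          conj_mem_of_stronglyClosed F hXsc (S.inv_mem (hRS x.2)) hgX
        have : (x : Ω)⁻¹ * (g * x * g⁻¹) = ((x : Ω)⁻¹ * g * ((x : Ω)⁻¹)⁻¹) * g⁻¹ := by group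
        rw [this]
        exact X.mul_mem h1 (X.inv_mem hgX)
      | succ j =>
        rw [he2s]
        exact Subgroup.mem_top _
    have h1 : conjAut R ⟨g, hgN⟩ ∈ (pCore p (F.autGroup R)).map (F.autGroup R).subtype := by
      refine mem_pCore_of_two_chains hp hRp (F.autGroup R) _ e2 hinv1 hinv2 ?_ n ?_ ?_ hβ1 hβ2
      · show (T 0).subgroupOf R = ⊥
        rw [h0]
        exact Subgroup.bot_subgroupOf R
      · intro y hy hyp
        rw [he20] at hy
        show (y : Ω) ∈ T n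
        rw [hn]
        apply Subgroup.subset_closure
        refine ⟨hy, ?_⟩
        rw [← Subgroup.coe_pow, hyp, Subgroup.coe_one]
      · exact he2s 0
    rw [hRr.2] at h1
    exact not_mem_inn_of_not_mem hC (hXS hgX) hgR hRS (fun x => rfl) h1
  by_contra hXR
  have hRXS : R ⊔ X ≤ S := sup_le hRS hXS
  have hlt : R < R ⊔ X := lt_of_le_of_ne le_sup_left (fun h => hXR (h ▸ le_sup_right))
  have hfin : Finite (R ⊔ X : Subgroup Ω) := finite_of_le hRXS
  obtain ⟨g, hgN, hgR⟩ :=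
    exists_mem_normalizerIn_not_mem (S := R ⊔ X) (isPGroup_of_le hS hRXS) hlt
  have hRN : R ≤ Subgroup.normalizer (X : Set Ω) :=
    hRS.trans (le_normalizer_of_stronglyClosed F hXsc)
  obtain ⟨a, ha, b, hb, hab⟩ := exists_mul_of_mem_sup hRN hgN.1
  apply hgR
  rw [hab]
  apply R.mul_mem ha
  apply key b hb
  have h1 : a⁻¹ * g ∈ Subgroup.normalizer (R : Set Ω) :=
    Subgroup.mul_mem _ (Subgroup.inv_mem _ (Subgroup.le_normalizer ha)) hgN.2
  rw [hab] at h1
  simpa using h1

theorem omega_series_of_normal [Finite S] (p : ℕ) [Fact p.Prime] (hS : IsPGroup p S)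
    (F : FusionSystem S) (X : Subgroup Ω) (hX : F.IsNormal X) :
    ∃ (n : ℕ) (Q : Fin (n + 1) → Subgroup Ω), Q 0 = ⊥ ∧ Q (Fin.last n) = Cfsg.omegaOne p X ∧
      Monotone Q ∧ (∀ i : Fin (n + 1), F.StronglyClosed (Q i)) ∧
      ∀ i : Fin n, ⁅Q i.succ, X⁆ ≤ Q i.castSucc := by
  have hXS : X ≤ S := hX.1
  have hfinX : Finite X := finite_of_le hXS
  have hXp : IsPGroup p X := isPGroup_of_le hS hXS
  haveI hnil : Group.IsNilpotent X := hXp.isNilpotent
  obtain ⟨n, hn⟩ := Group.IsNilpotent.nilpotent X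
  obtain ⟨T, hT⟩ : ∃ T : ℕ → Subgroup Ω,
      T = fun i => omegaOne p X ⊓ (Subgroup.upperCentralSeries X i).map X.subtype := ⟨_, rfl⟩
  have hTi : ∀ i, T i = omegaOne p X ⊓ (Subgroup.upperCentralSeries X i).map X.subtype :=
    fun i => by rw [hT]
  have hΩX : omegaOne p X ≤ X := by
    unfold omegaOne
    rw [Subgroup.closure_le]
    intro z hz
    exact hz.1
  have hΩinv : ∀ α : MulAut X, ∀ y : X, (y : Ω) ∈ omegaOne p X →
      ((α y : X) : Ω) ∈ omegaOne p X := by
    intro α y hy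
    have key : ∀ z (hz : z ∈ omegaOne p X), ∀ hzX : z ∈ X,
        ((α ⟨z, hzX⟩ : X) : Ω) ∈ omegaOne p X := by
      intro z hz
      unfold omegaOne at hz
      induction hz using Subgroup.closure_induction with
      | mem z hz =>
        intro hzX
        apply Subgroup.subset_closure
        refine ⟨(α ⟨z, hzX⟩).2, ?_⟩
        rw [← Subgroup.coe_pow, ← map_pow]
        have : (⟨z, hzX⟩ : X) ^ p = 1 := Subtype.ext (by rw [Subgroup.coe_pow]; exact hz.2)
        rw [this, map_one, Subgroup.coe_one]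
      | one =>
        intro hzX
        have : (⟨1, hzX⟩ : X) = 1 := rfl
        rw [this, map_one]
        exact Subgroup.one_mem _
      | mul a b ha hb iha ihb =>
        intro hzX
        have haX : a ∈ X := hΩX ha
        have hbX : b ∈ X := hΩX hb
        have : (⟨a * b, hzX⟩ : X) = ⟨a, haX⟩ * ⟨b, hbX⟩ := rfl
        rw [this, map_mul, Subgroup.coe_mul]
        exact Subgroup.mul_mem _ (iha haX) (ihb hbX)
      | inv a ha iha =>
        intro hzX
        have haX : a ∈ X := hΩX ha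
        have : (⟨a⁻¹, hzX⟩ : X) = (⟨a, haX⟩ : X)⁻¹ := rfl
        rw [this, map_inv, Subgroup.coe_inv]
        exact Subgroup.inv_mem _ (iha haX)
    exact key y hy y.2
  have hsc : ∀ i, F.StronglyClosed (T i) := by
    intro i
    have hTX : T i ≤ X := by rw [hTi]; exact inf_le_left.trans hΩX
    refine ⟨hTX.trans hXS, fun R' hR' φ hφ x => ?_⟩
    have hR'X : R' ≤ X := hR'.trans hTX
    obtain ⟨α, hα, hαφ⟩ := exists_aut_of_normal F hX hR'X hφ
    rw [← hαφ x]
    have hx : (x : Ω) ∈ T i := hR' x.2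
    rw [hTi] at hx ⊢
    obtain ⟨hx1, hx2⟩ := Subgroup.mem_inf.mp hx
    refine Subgroup.mem_inf.mpr ⟨hΩinv α _ hx1, ?_⟩
    obtain ⟨y, hy, hyx⟩ := hx2
    have hyeq : y = Subgroup.inclusion hR'X x := Subtype.ext hyx
    rw [← hyeq]
    refine ⟨α y, ?_, rfl⟩
    have hchar : (Subgroup.upperCentralSeries X i).Characteristic := inferInstance
    have := Subgroup.characteristic_iff_map_le.mp hchar α
    exact this ⟨y, hy, rfl⟩
  have hTn : T n = omegaOne p X := by
    rw [hTi, hn, ← MonoidHom.range_eq_map, Subgroup.range_subtype]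
    exact inf_eq_left.mpr hΩX
  have hΩsc : F.StronglyClosed (omegaOne p X) := hTn ▸ hsc n
  refine ⟨n, fun i => T (i : ℕ), ?_, ?_, ?_, fun i => hsc i, ?_⟩
  · show T ((0 : Fin (n + 1)) : ℕ) = ⊥
    rw [Fin.val_zero, hTi, Subgroup.upperCentralSeries_zero, Subgroup.map_bot]
    exact inf_bot_eq _
  · show T ((Fin.last n : Fin (n + 1)) : ℕ) = _
    rw [Fin.val_last]
    exact hTn
  · intro i j hij
    show T i ≤ T j
    rw [hTi, hTi]
    exact inf_le_inf_left _ (Subgroup.map_mono (Subgroup.upperCentralSeries_mono X hij))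
  · intro i
    show ⁅T ((i.succ : Fin (n + 1)) : ℕ), X⁆ ≤ T ((i.castSucc : Fin (n + 1)) : ℕ)
    rw [Fin.val_succ, Fin.coe_castSucc, Subgroup.commutator_le]
    intro a ha b hb
    rw [hTi] at ha ⊢
    obtain ⟨ha1, ha2⟩ := Subgroup.mem_inf.mp ha
    refine Subgroup.mem_inf.mpr ⟨?_, ?_⟩
    · have h1 : b * a⁻¹ * b⁻¹ ∈ omegaOne p X :=
        conj_mem_of_stronglyClosed F hΩsc (hXS hb) (Subgroup.inv_mem _ ha1)
      have : ⁅a, b⁆ = a * (b * a⁻¹ * b⁻¹) := by rw [commutatorElement_def]; group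
      rw [this]
      exact Subgroup.mul_mem _ ha1 h1
    · obtain ⟨a', ha', rfl⟩ := ha2
      refine ⟨⁅a', ⟨b, hb⟩⁆, ?_, rfl⟩
      exact (Subgroup.mem_upperCentralSeries_succ_iff.mp ha') ⟨b, hb⟩

/-- S5236 -/
theorem normal_iff_omega_series [Finite S] (p : ℕ) [Fact p.Prime] (hS : IsPGroup p S)
    (F : FusionSystem S) (hF : F.IsSaturated p) (hp : p ≠ 2) (P : Subgroup Ω)
    (hP : F.StronglyClosed P) :
    F.IsNormal P ↔ ∃ (n : ℕ) (Q : Fin (n + 1) → Subgroup Ω), Q 0 = ⊥ ∧
      Q (Fin.last n) = Cfsg.omegaOne p P ∧ Monotone Q ∧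
      (∀ i : Fin (n + 1), F.StronglyClosed (Q i)) ∧
      ∀ i : Fin n, ⁅Q i.succ, P⁆ ≤ Q i.castSucc := by
  constructor
  · exact omega_series_of_normal p hS F P
  · rintro ⟨n, Q, hQ0, hQn, -, hQsc, hQcomm⟩
    obtain ⟨T, hT⟩ : ∃ T : ℕ → Subgroup Ω,
        T = fun j => Q ⟨min j n, Nat.lt_succ_of_le (min_le_right j n)⟩ := ⟨_, rfl⟩
    have hTj : ∀ j, T j = Q ⟨min j n, Nat.lt_succ_of_le (min_le_right j n)⟩ :=
      fun j => by rw [hT]
    have hΩsc : F.StronglyClosed (omegaOne p P) := hQn ▸ hQsc (Fin.last n)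
    have hlast : ∀ j, n ≤ j → T j = omegaOne p P := by
      intro j hj
      rw [hTj, ← hQn]
      apply congrArg Q
      apply Fin.ext
      show min j n = n
      exact min_eq_right hj
    apply normal_of_omega_series p hS F hF hp P hP T n
    · rw [hTj, ← hQ0]
      apply congrArg Q
      apply Fin.ext
      simp
    · exact hlast n le_rfl
    · intro j
      rw [hTj]
      exact hQsc _
    · intro j
      by_cases hj : j < n
      · have h1 : T (j + 1) = Q (⟨j, hj⟩ : Fin n).succ := by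
          rw [hTj]
          apply congrArg Q
          apply Fin.ext
          show min (j + 1) n = j + 1
          exact min_eq_left hj
        have h2 : T j = Q (⟨j, hj⟩ : Fin n).castSucc := by
          rw [hTj]
          apply congrArg Q
          apply Fin.ext
          show min j n = j
          exact min_eq_left hj.le
        rw [h1, h2]
        exact hQcomm ⟨j, hj⟩
      · have hj' : n ≤ j := not_lt.mp hj
        rw [hlast (j + 1) (by omega), hlast j hj', Subgroup.commutator_le]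
        intro a ha b hb
        have h1 : b * a⁻¹ * b⁻¹ ∈ omegaOne p P :=
          conj_mem_of_stronglyClosed F hΩsc (hP.1 hb) (Subgroup.inv_mem _ ha)
        have : ⁅a, b⁆ = a * (b * a⁻¹ * b⁻¹) := by rw [commutatorElement_def]; group
        rw [this]
        exact Subgroup.mul_mem _ ha h1

end Cfsg.Agent.Lib.Lead.Fus
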