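import Mathlib
import Cfsg.Agent.Lib.Lead.Fus7
import Cfsg.Agent.S5080
import Cfsg.Agent.Lib.Helper9.StabChain

set_option autoImplicit false

namespace Cfsg.Agent.Lib.Lead.Fus

open Cfsg Cfsg.FusionSystem Cfsg.Agent.Lib.Helper9

section sl2

variable {F : Type*} [Field F]

def E12 (s : F) : Matrix.SpecialLinearGroup (Fin 2) F :=
  ⟨!![1, s; 0, 1], by simp [Matrix.det_fin_two_of]⟩

def E21 (s : F) : Matrix.SpecialLinearGroup (Fin 2) F :=
  ⟨!![1, 0; s, 1], by simp [Matrix.det_fin_two_of]⟩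

def sl2gens (K : Type*) [Field K] : Set (Matrix.SpecialLinearGroup (Fin 2) K) :=
  Set.range (E12 (F := K)) ∪ Set.range (E21 (F := K))

theorem sl2_eq_of_ne (M : Matrix.SpecialLinearGroup (Fin 2) F) (hc : M.1 1 0 ≠ 0) :
    M = E12 ((M.1 0 0 - 1) / M.1 1 0) * E21 (M.1 1 0) * E12 ((M.1 1 1 - 1) / M.1 1 0) := by
  have hdet : M.1 0 0 * M.1 1 1 - M.1 0 1 * M.1 1 0 = 1 := by
    have := M.2
    rw [Matrix.det_fin_two] at this
    exact this
  apply Subtype.ext
  rw [Matrix.SpecialLinearGroup.coe_mul, Matrix.SpecialLinearGroup.coe_mul]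
  ext i j
  fin_cases i <;> fin_cases j
  · simp [E12, E21, Matrix.mul_apply, Fin.sum_univ_two]
    field_simp
    ring
  · simp [E12, E21, Matrix.mul_apply, Fin.sum_univ_two]
    field_simp
    first | linear_combination hdet | linear_combination -hdet | linear_combination (2:F) * hdet | linear_combination (-2:F) * hdet | linear_combination (M.1 1 0) * hdet | linear_combination (-(M.1 1 0)) * hdet
  · simp [E12, E21, Matrix.mul_apply, Fin.sum_univ_two]
  · simp [E12, E21, Matrix.mul_apply, Fin.sum_univ_two]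
    field_simp
    ring

theorem sl2_mem_closure (M : Matrix.SpecialLinearGroup (Fin 2) F) :
    M ∈ Subgroup.closure (sl2gens F) := by
  have h12 : ∀ s, E12 s ∈ Subgroup.closure (sl2gens F) :=
    fun s => Subgroup.subset_closure (Or.inl ⟨s, rfl⟩)
  have h21 : ∀ s, E21 s ∈ Subgroup.closure (sl2gens F) :=
    fun s => Subgroup.subset_closure (Or.inr ⟨s, rfl⟩)
  have case1 : ∀ M : Matrix.SpecialLinearGroup (Fin 2) F, M.1 1 0 ≠ 0 →
      M ∈ Subgroup.closure (sl2gens F) := by
    intro M hc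
    rw [sl2_eq_of_ne M hc]
    exact Subgroup.mul_mem _ (Subgroup.mul_mem _ (h12 _) (h21 _)) (h12 _)
  by_cases hc : M.1 1 0 = 0
  · have h1 : (E21 1 * M).1 1 0 ≠ 0 := by
      rw [Matrix.SpecialLinearGroup.coe_mul]
      simp [E21, Matrix.mul_apply, Fin.sum_univ_two, hc]
      intro h0
      have := M.2
      rw [Matrix.det_fin_two, h0, hc] at this
      simp at this
    have h2 := case1 _ h1
    have h3 : M = (E21 1)⁻¹ * (E21 1 * M) := by group
    rw [h3]
    exact Subgroup.mul_mem _ (Subgroup.inv_mem _ (h21 1)) h2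
  · exact case1 M hc

end sl2

section coords

variable {H : Type*} [Group H] {p : ℕ} [Fact p.Prime]

theorem pow_val_add (e : H) (he : e ^ p = 1) (x y : ZMod p) :
    e ^ (x + y).val = e ^ x.val * e ^ y.val := by
  rw [ZMod.val_add, ← pow_eq_pow_mod _ he, pow_add]

theorem pow_val_mul (e : H) (he : e ^ p = 1) (x y : ZMod p) :
    e ^ (x * y).val = (e ^ x.val) ^ y.val := by
  rw [ZMod.val_mul, ← pow_eq_pow_mod _ he, pow_mul]

theorem pow_val_natCast (e : H) (he : e ^ p = 1) (n : ℕ) : e ^ ((n : ZMod p)).val = e ^ n := by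
  rw [ZMod.val_natCast, ← pow_eq_pow_mod _ he]

def coordHom (hcomm : ∀ a b : H, a * b = b * a) (hexp : ∀ h : H, h ^ p = 1) (e₁ e₂ : H) :
    Multiplicative (Fin 2 → ZMod p) →* H where
  toFun v := e₁ ^ (Multiplicative.toAdd v 0).val * e₂ ^ (Multiplicative.toAdd v 1).val
  map_one' := by simp
  map_mul' := by
    intro v w
    have h0 : Multiplicative.toAdd (v * w) 0 =
        Multiplicative.toAdd v 0 + Multiplicative.toAdd w 0 := rfl
    have h1 : Multiplicative.toAdd (v * w) 1 =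
        Multiplicative.toAdd v 1 + Multiplicative.toAdd w 1 := rfl
    show e₁ ^ (Multiplicative.toAdd (v * w) 0).val * e₂ ^ (Multiplicative.toAdd (v * w) 1).val =
      (e₁ ^ (Multiplicative.toAdd v 0).val * e₂ ^ (Multiplicative.toAdd v 1).val) *
        (e₁ ^ (Multiplicative.toAdd w 0).val * e₂ ^ (Multiplicative.toAdd w 1).val)
    rw [h0, h1, pow_val_add e₁ (hexp e₁), pow_val_add e₂ (hexp e₂)]
    exact (show Commute (e₁ ^ (Multiplicative.toAdd w 0).val)
      (e₂ ^ (Multiplicative.toAdd v 1).val) from hcomm _ _).mul_mul_mul_comm _ _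

theorem coordHom_apply (hcomm : ∀ a b : H, a * b = b * a) (hexp : ∀ h : H, h ^ p = 1)
    (e₁ e₂ : H) (v : Fin 2 → ZMod p) :
    coordHom hcomm hexp e₁ e₂ (Multiplicative.ofAdd v) = e₁ ^ (v 0).val * e₂ ^ (v 1).val := rfl

theorem coordHom_injective (hcomm : ∀ a b : H, a * b = b * a) (hexp : ∀ h : H, h ^ p = 1)
    (e₁ e₂ : H) (h1 : e₁ ≠ 1) (h2 : e₂ ∉ Subgroup.zpowers e₁) :
    Function.Injective (coordHom hcomm hexp e₁ e₂) := by
  rw [injective_iff_map_eq_one]
  intro v hv
  obtain ⟨x, hx⟩ : ∃ x, x = Multiplicative.toAdd v 0 := ⟨_, rfl⟩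
  obtain ⟨y, hy⟩ : ∃ y, y = Multiplicative.toAdd v 1 := ⟨_, rfl⟩
  have hv' : e₁ ^ x.val * e₂ ^ y.val = 1 := by rw [hx, hy]; exact hv
  have hy0 : y = 0 := by
    by_contra hne
    apply h2
    have h3 : e₂ ^ y.val = (e₁ ^ x.val)⁻¹ := eq_inv_of_mul_eq_one_right hv'
    have h4 : e₂ = (e₂ ^ y.val) ^ (y⁻¹).val := by
      rw [← pow_val_mul e₂ (hexp e₂), mul_inv_cancel₀ hne, ZMod.val_one, pow_one]
    rw [h4, h3]
    exact Subgroup.pow_mem _ (Subgroup.inv_mem _ (Subgroup.pow_mem _ (Subgroup.mem_zpowers _) _)) _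
  have hx0 : x = 0 := by
    rw [hy0, ZMod.val_zero, pow_zero, mul_one] at hv'
    have hord : orderOf e₁ = p := orderOf_eq_prime (hexp e₁) h1
    have hdvd : p ∣ x.val := by
      have h5 := orderOf_dvd_of_pow_eq_one hv'
      rwa [hord] at h5
    have hlt : x.val < p := ZMod.val_lt x
    have : x.val = 0 := Nat.eq_zero_of_dvd_of_lt hdvd hlt
    exact (ZMod.val_eq_zero x).mp this
  have hall : ∀ i : Fin 2, Multiplicative.toAdd v i = 0 :=
    Fin.forall_fin_two.mpr ⟨hx ▸ hx0, hy ▸ hy0⟩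
  apply Multiplicative.toAdd.injective
  funext i
  exact hall i

theorem coordHom_bijective [Finite H] (hcard : Nat.card H = p ^ 2)
    (hcomm : ∀ a b : H, a * b = b * a) (hexp : ∀ h : H, h ^ p = 1)
    (e₁ e₂ : H) (h1 : e₁ ≠ 1) (h2 : e₂ ∉ Subgroup.zpowers e₁) :
    Function.Bijective (coordHom hcomm hexp e₁ e₂) := by
  rw [Nat.bijective_iff_injective_and_card]
  refine ⟨coordHom_injective hcomm hexp e₁ e₂ h1 h2, ?_⟩
  rw [hcard, Nat.card_congr Multiplicative.toAdd, Nat.card_fun, Nat.card_zmod, Nat.card_fin]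

noncomputable def theta (cE : Multiplicative (Fin 2 → ZMod p) ≃* H) :
    Matrix.SpecialLinearGroup (Fin 2) (ZMod p) →* MulAut H where
  toFun M := cE.symm.trans
    ((AddEquiv.toMultiplicative (Matrix.SpecialLinearGroup.toLin' M).toAddEquiv).trans cE)
  map_one' := by
    ext h
    simp
  map_mul' := by
    intro M N
    ext h
    simp [MulAut.mul_apply]

theorem theta_apply (cE : Multiplicative (Fin 2 → ZMod p) ≃* H)
    (M : Matrix.SpecialLinearGroup (Fin 2) (ZMod p)) (h : H) :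
    theta cE M h = cE (Multiplicative.ofAdd (M.1.mulVec (Multiplicative.toAdd (cE.symm h)))) :=
  rfl

theorem theta_injective (cE : Multiplicative (Fin 2 → ZMod p) ≃* H) :
    Function.Injective (theta cE) := by
  intro M N hMN
  apply Matrix.SpecialLinearGroup.toLin'_injective
  apply LinearEquiv.ext
  intro v
  have h := congrArg (fun f : MulAut H => f (cE (Multiplicative.ofAdd v))) hMN
  simp only [theta_apply, MulEquiv.symm_apply_apply, toAdd_ofAdd] at h
  have h' := Multiplicative.ofAdd.injective (cE.injective h)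
  simpa [Matrix.SpecialLinearGroup.toLin'_apply] using h'

theorem mulVec_E12 (s : ZMod p) (v : Fin 2 → ZMod p) :
    (E12 s).1.mulVec v = ![v 0 + s * v 1, v 1] := by
  funext i
  fin_cases i <;> simp [E12, Matrix.mulVec, dotProduct, Fin.sum_univ_two]

theorem mulVec_E21 (s : ZMod p) (v : Fin 2 → ZMod p) :
    (E21 s).1.mulVec v = ![v 0, s * v 0 + v 1] := by
  funext i
  fin_cases i <;> simp [E21, Matrix.mulVec, dotProduct, Fin.sum_univ_two]

theorem aut_pow_apply (t : MulAut H) (a b : H) (n : ℕ) (h1 : t a = a) (h2 : t b = b * a ^ n)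
    (k : ℕ) : (t ^ k) a = a ∧ (t ^ k) b = b * a ^ (n * k) := by
  induction k with
  | zero => simp
  | succ k ih =>
    obtain ⟨ih1, ih2⟩ := ih
    constructor
    · rw [pow_succ', MulAut.mul_apply, ih1, h1]
    · rw [pow_succ', MulAut.mul_apply, ih2, map_mul, map_pow, h1, h2, mul_assoc, ← pow_add]
      congr 2
      ring

def fixSubgroup (t : MulAut H) : Subgroup H where
  carrier := {h | t h = h}
  one_mem' := map_one t
  mul_mem' := fun {a b} ha hb => by
    have ha' : t a = a := ha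
    have hb' : t b = b := hb
    show t (a * b) = a * b
    rw [map_mul, ha', hb']
  inv_mem' := fun {a} ha => by
    have ha' : t a = a := ha
    show t a⁻¹ = a⁻¹
    rw [map_inv, ha']

theorem card_fixSubgroup [Finite H] (hcard : Nat.card H = p ^ 2) (t : MulAut H)
    (ht : orderOf t = p) : Nat.card (fixSubgroup t) = p := by
  classical
  have hp : p.Prime := Fact.out
  have hG : IsPGroup p (Subgroup.zpowers t) :=
    IsPGroup.of_card (n := 1) (by rw [Nat.card_zpowers, ht, pow_one])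
  have hmod := hG.card_modEq_card_fixedPoints H
  have hset : (MulAction.fixedPoints (Subgroup.zpowers t) H) =
      ((fixSubgroup t : Subgroup H) : Set H) := by
    ext h
    rw [MulAction.mem_fixedPoints]
    constructor
    · intro hfix
      exact hfix ⟨t, Subgroup.mem_zpowers t⟩
    · intro hth g
      have hle : Subgroup.zpowers t ≤ MulAction.stabilizer (MulAut H) h := by
        rw [Subgroup.zpowers_le, MulAction.mem_stabilizer_iff]
        exact hth
      exact MulAction.mem_stabilizer_iff.mp (hle g.2)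
  have hcardeq : Nat.card (MulAction.fixedPoints (Subgroup.zpowers t) H) =
      Nat.card (fixSubgroup t) := by
    rw [hset]
    rfl
  rw [hcardeq, hcard] at hmod
  have hdvd : p ∣ Nat.card (fixSubgroup t) := by
    have h0 : p ^ 2 ≡ 0 [MOD p] := (Nat.modEq_zero_iff_dvd).mpr (dvd_pow_self p two_ne_zero)
    exact (Nat.modEq_zero_iff_dvd).mp (hmod.symm.trans h0)
  have hne : fixSubgroup t ≠ ⊤ := by
    intro htop
    have h1 : t = 1 := by
      ext h
      have : h ∈ fixSubgroup t := htop ▸ Subgroup.mem_top h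
      exact this
    rw [h1, orderOf_one] at ht
    exact hp.one_lt.ne ht
  have hdvd2 : Nat.card (fixSubgroup t) ∣ p ^ 2 := hcard ▸ Subgroup.card_subgroup_dvd_card _
  obtain ⟨j, hj, hjc⟩ := (Nat.dvd_prime_pow hp).mp hdvd2
  interval_cases j
  · exfalso
    rw [hjc, pow_zero] at hdvd
    exact hp.one_lt.ne' (Nat.dvd_one.mp hdvd)
  · rw [hjc, pow_one]
  · exfalso
    apply hne
    apply Subgroup.eq_top_of_card_eq
    rw [hjc, hcard]

def nuHom (hcomm : ∀ a b : H, a * b = b * a) (t : MulAut H) : H →* H where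
  toFun h := h⁻¹ * t h
  map_one' := by simp
  map_mul' := by
    intro a b
    rw [map_mul, mul_inv_rev]
    calc b⁻¹ * a⁻¹ * (t a * t b) = a⁻¹ * b⁻¹ * (t a * t b) := by rw [hcomm b⁻¹ a⁻¹]
      _ = a⁻¹ * (b⁻¹ * t a) * t b := by group
      _ = a⁻¹ * (t a * b⁻¹) * t b := by rw [hcomm b⁻¹ (t a)]
      _ = a⁻¹ * t a * (b⁻¹ * t b) := by group

theorem transvection_structure [Finite H] (hcard : Nat.card H = p ^ 2)
    (hcomm : ∀ a b : H, a * b = b * a) (hexp : ∀ h : H, h ^ p = 1) (t : MulAut H)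
    (ht : orderOf t = p) :
    ∃ e : H, e ≠ 1 ∧ t e = e ∧ ∀ h : H, h⁻¹ * t h ∈ Subgroup.zpowers e := by
  classical
  have hp : p.Prime := Fact.out
  have hL := card_fixSubgroup hcard t ht
  have hLbot : fixSubgroup t ≠ ⊥ := by
    intro h
    rw [← Subgroup.card_eq_one, hL] at h
    exact hp.one_lt.ne' h
  obtain ⟨⟨e, heL⟩, hene⟩ := (Subgroup.ne_bot_iff_exists_ne_one).mp hLbot
  have he1 : e ≠ 1 := fun h => hene (Subtype.ext h)
  have hte : t e = e := heL
  have hord : orderOf e = p := orderOf_eq_prime (hexp e) he1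
  have hzL : Subgroup.zpowers e = fixSubgroup t := by
    apply Subgroup.eq_of_le_of_card_ge (Subgroup.zpowers_le.mpr heL)
    rw [hL, Nat.card_zpowers, hord]
  obtain ⟨ν, hν⟩ : ∃ ν : H →* H, ν = nuHom hcomm t := ⟨_, rfl⟩
  have hνapp : ∀ h, ν h = h⁻¹ * t h := fun h => by rw [hν]; rfl
  have hker : ν.ker = fixSubgroup t := by
    ext h
    rw [MonoidHom.mem_ker, hνapp, inv_mul_eq_one]
    constructor
    · intro h1
      exact h1.symm
    · intro h1
      exact (show t h = h from h1).symm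
  have hrange : Nat.card ν.range = p := by
    have h1 := Subgroup.card_mul_index ν.ker
    rw [Subgroup.index_ker, hker, hL, hcard, pow_two] at h1
    exact Nat.eq_of_mul_eq_mul_left hp.pos h1
  have hLtop : fixSubgroup t ≠ ⊤ := by
    intro htop
    have h1 : t = 1 := by
      ext h
      have : h ∈ fixSubgroup t := htop ▸ Subgroup.mem_top h
      exact this
    rw [h1, orderOf_one] at ht
    exact hp.one_lt.ne ht
  obtain ⟨h0, hh0⟩ : ∃ h0 : H, h0 ∉ fixSubgroup t := by
    by_contra hcon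
    push_neg at hcon
    exact hLtop ((Subgroup.eq_top_iff' _).mpr hcon)
  obtain ⟨x, hx⟩ : ∃ x, x = ν h0 := ⟨_, rfl⟩
  have hx1 : x ≠ 1 := by
    intro h
    apply hh0
    rw [← hker, MonoidHom.mem_ker, ← hx, h]
  have hxr : x ∈ ν.range := ⟨h0, hx.symm⟩
  have hxord : orderOf x = p := orderOf_eq_prime (hexp x) hx1
  have hzr : Subgroup.zpowers x = ν.range := by
    apply Subgroup.eq_of_le_of_card_ge (Subgroup.zpowers_le.mpr hxr)
    rw [hrange, Nat.card_zpowers, hxord]
  have htx : t x ∈ Subgroup.zpowers x := by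
    rw [hzr]
    refine ⟨t h0, ?_⟩
    rw [hνapp, hx, hνapp, map_mul, map_inv]
  obtain ⟨j, hj⟩ := mem_powers_iff_mem_zpowers.mpr htx
  have hjx : t x = x ^ j := hj.symm
  have hiter : ∀ k : ℕ, (t ^ k) x = x ^ (j ^ k) := by
    intro k
    induction k with
    | zero => simp
    | succ k ih =>
      rw [pow_succ', MulAut.mul_apply, ih, map_pow, hjx, ← pow_mul, ← pow_succ']
  have h1 := hiter (orderOf t)
  rw [pow_orderOf_eq_one, MulAut.one_apply, ht] at h1
  have h2 : x ^ (j ^ p) = x ^ 1 := by rw [pow_one]; exact h1.symm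
  rw [pow_eq_pow_iff_modEq, hxord] at h2
  have h3 : ((j : ℕ) : ZMod p) = 1 := by
    have := (ZMod.natCast_eq_natCast_iff (j ^ p) 1 p).mpr h2
    rw [Nat.cast_pow, ZMod.pow_card, Nat.cast_one] at this
    exact this
  have h4 : j ≡ 1 [MOD p] := by
    apply (ZMod.natCast_eq_natCast_iff j 1 p).mp
    rw [h3, Nat.cast_one]
  have h5 : t x = x := by
    rw [hjx]
    have : x ^ j = x ^ 1 := by rw [pow_eq_pow_iff_modEq, hxord]; exact h4
    rw [this, pow_one]
  have hrL : ν.range ≤ fixSubgroup t := by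
    rw [← hzr, Subgroup.zpowers_le]
    exact h5
  refine ⟨e, he1, hte, fun h => ?_⟩
  rw [hzL]
  apply hrL
  exact ⟨h, hνapp h⟩

theorem exists_moving [Finite H] (hcard : Nat.card H = p ^ 2) (B : Subgroup (MulAut H))
    (hcore : pCore p B = ⊥) (t : MulAut H) (htB : t ∈ B) (ht1 : t ≠ 1) (e : H) (hte : t e = e)
    (hT3 : ∀ h : H, h⁻¹ * t h ∈ Subgroup.zpowers e) : ∃ g ∈ B, g e ∉ Subgroup.zpowers e := by
  by_contra hcon
  push_neg at hcon
  have hHp : IsPGroup p H := IsPGroup.of_card hcard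
  obtain ⟨ch, h0, h1, h2⟩ : ∃ ch : ℕ → Subgroup H, ch 0 = ⊥ ∧ ch 1 = Subgroup.zpowers e ∧
      ∀ j, ch (j + 2) = ⊤ :=
    ⟨fun j => Nat.casesOn j ⊥ (fun j => Nat.casesOn j (Subgroup.zpowers e) (fun _ => ⊤)),
      rfl, rfl, fun _ => rfl⟩
  have hinv : ∀ α ∈ B, ∀ j, ∀ x ∈ ch j, α x ∈ ch j := by
    intro α hα j
    rcases j with _ | _ | j
    · intro x hx
      rw [h0, Subgroup.mem_bot] at hx ⊢
      rw [hx, map_one]
    · intro x hx
      rw [show ch (0 + 1) = Subgroup.zpowers e from h1] at hx ⊢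
      obtain ⟨k, rfl⟩ := Subgroup.mem_zpowers_iff.mp hx
      rw [map_zpow]
      exact Subgroup.zpow_mem _ (hcon α hα) k
    · intro x _
      rw [show ch (j + 1 + 1) = ⊤ from h2 j]
      exact Subgroup.mem_top _
  have hβ : ∀ j, ∀ x ∈ ch (j + 1), x⁻¹ * t x ∈ ch j := by
    intro j
    rcases j with _ | _ | j
    · intro x hx
      rw [show ch (0 + 1) = Subgroup.zpowers e from h1] at hx
      rw [h0, Subgroup.mem_bot]
      obtain ⟨k, rfl⟩ := Subgroup.mem_zpowers_iff.mp hx
      rw [map_zpow, hte, inv_mul_cancel]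
    · intro x _
      rw [show ch (0 + 1) = Subgroup.zpowers e from h1]
      exact hT3 x
    · intro x _
      rw [show ch (j + 1 + 1) = ⊤ from h2 j]
      exact Subgroup.mem_top _
  have hm := le_pCore_of_stabilizes hHp B ch hinv h0 2 (h2 0) htB hβ
  rw [hcore, Subgroup.map_bot, Subgroup.mem_bot] at hm
  exact ht1 hm

theorem exists_sl2 [Finite H] (hcard : Nat.card H = p ^ 2) (hcomm : ∀ a b : H, a * b = b * a)
    (hexp : ∀ h : H, h ^ p = 1) (B : Subgroup (MulAut H)) (hcore : pCore p B = ⊥)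
    (hdvd : p ∣ Nat.card B) :
    ∃ K : Subgroup B, Nonempty (K ≃* Matrix.SpecialLinearGroup (Fin 2) (ZMod p)) := by
  classical
  have hp : p.Prime := Fact.out
  obtain ⟨t1', ht1'⟩ := exists_prime_orderOf_dvd_card' p hdvd
  obtain ⟨t1, ht1def⟩ : ∃ t1 : MulAut H, t1 = (t1' : MulAut H) := ⟨_, rfl⟩
  have ht1B : t1 ∈ B := ht1def ▸ t1'.2
  have ht1ord : orderOf t1 = p := by rw [ht1def, Subgroup.orderOf_coe]; exact ht1'
  have ht1ne : t1 ≠ 1 := by
    intro h
    rw [h, orderOf_one] at ht1ord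
    exact hp.one_lt.ne ht1ord
  obtain ⟨e1, he1, hte1, hT3⟩ := transvection_structure hcard hcomm hexp t1 ht1ord
  obtain ⟨g, hgB, hge⟩ := exists_moving hcard B hcore t1 ht1B ht1ne e1 hte1 hT3
  obtain ⟨e2, he2def⟩ : ∃ e2, e2 = g e1 := ⟨_, rfl⟩
  have he2 : e2 ∉ Subgroup.zpowers e1 := he2def ▸ hge
  obtain ⟨t2, ht2def⟩ : ∃ t2 : MulAut H, t2 = g * t1 * g⁻¹ := ⟨_, rfl⟩
  have ht2B : t2 ∈ B := ht2def ▸ B.mul_mem (B.mul_mem hgB ht1B) (B.inv_mem hgB)
  have ht2e2 : t2 e2 = e2 := by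
    rw [ht2def, he2def, MulAut.mul_apply, MulAut.mul_apply, MulAut.inv_apply_self, hte1]
  have hT3' : ∀ h : H, h⁻¹ * t2 h ∈ Subgroup.zpowers e2 := by
    intro h
    have h1 := hT3 (g⁻¹ h)
    obtain ⟨k, hk⟩ := Subgroup.mem_zpowers_iff.mp h1
    rw [Subgroup.mem_zpowers_iff]
    refine ⟨k, ?_⟩
    rw [he2def, ← map_zpow, hk, map_mul, map_inv, MulAut.apply_inv_self, ht2def,
      MulAut.mul_apply, MulAut.mul_apply]
  have hbij := coordHom_bijective hcard hcomm hexp e1 e2 he1 he2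
  obtain ⟨cE, hcE⟩ : ∃ cE : Multiplicative (Fin 2 → ZMod p) ≃* H,
      ∀ v, cE v = coordHom hcomm hexp e1 e2 v :=
    ⟨MulEquiv.ofBijective _ hbij, fun v => rfl⟩
  have hcEapp : ∀ v : Fin 2 → ZMod p,
      cE (Multiplicative.ofAdd v) = e1 ^ (v 0).val * e2 ^ (v 1).val :=
    fun v => by rw [hcE]; rfl
  have hext : ∀ f f' : MulAut H, f e1 = f' e1 → f e2 = f' e2 → f = f' := by
    intro f f' h1 h2
    ext h
    obtain ⟨v, rfl⟩ := cE.surjective h
    have hv : v = Multiplicative.ofAdd (Multiplicative.toAdd v) := rfl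
    rw [hv, hcEapp, map_mul, map_mul, map_pow, map_pow, map_pow, map_pow, h1, h2]
  have hθapp : ∀ (M : Matrix.SpecialLinearGroup (Fin 2) (ZMod p)) (v : Fin 2 → ZMod p),
      theta cE M (cE (Multiplicative.ofAdd v)) = cE (Multiplicative.ofAdd (M.1.mulVec v)) := by
    intro M v
    rw [theta_apply, MulEquiv.symm_apply_apply, toAdd_ofAdd]
  have hc1 : cE (Multiplicative.ofAdd ![1, 0]) = e1 := by
    rw [hcEapp]
    simp [ZMod.val_one]
  have hc2 : cE (Multiplicative.ofAdd ![0, 1]) = e2 := by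
    rw [hcEapp]
    simp [ZMod.val_one]
  have hθe1 : ∀ M : Matrix.SpecialLinearGroup (Fin 2) (ZMod p),
      theta cE M e1 = cE (Multiplicative.ofAdd (M.1.mulVec ![1, 0])) := by
    intro M
    have := hθapp M ![1, 0]
    rwa [hc1] at this
  have hθe2 : ∀ M : Matrix.SpecialLinearGroup (Fin 2) (ZMod p),
      theta cE M e2 = cE (Multiplicative.ofAdd (M.1.mulVec ![0, 1])) := by
    intro M
    have := hθapp M ![0, 1]
    rwa [hc2] at this
  obtain ⟨n1, hn1⟩ := mem_powers_iff_mem_zpowers.mpr (hT3 e2)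
  have ht1e2 : t1 e2 = e2 * e1 ^ n1 := by
    have h : e1 ^ n1 = e2⁻¹ * t1 e2 := hn1
    rw [h, mul_inv_cancel_left]
  obtain ⟨n2, hn2⟩ := mem_powers_iff_mem_zpowers.mpr (hT3' e1)
  have ht2e1 : t2 e1 = e1 * e2 ^ n2 := by
    have h : e2 ^ n2 = e1⁻¹ * t2 e1 := hn2
    rw [h, mul_inv_cancel_left]
  have hn1ne : (n1 : ZMod p) ≠ 0 := by
    intro h0
    apply ht1ne
    apply hext
    · rw [hte1]
      rfl
    · rw [ht1e2, ← pow_val_natCast e1 (hexp e1), h0, ZMod.val_zero, pow_zero, mul_one]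
      rfl
  have ht2ne : t2 ≠ 1 := by
    intro h
    apply ht1ne
    have h1 : t1 = g⁻¹ * t2 * g := by rw [ht2def]; group
    rw [h1, h]
    group
  have hn2ne : (n2 : ZMod p) ≠ 0 := by
    intro h0
    apply ht2ne
    apply hext
    · rw [ht2e1, ← pow_val_natCast e2 (hexp e2), h0, ZMod.val_zero, pow_zero, mul_one]
      rfl
    · rw [ht2e2]
      rfl
  have h12 : ∀ s : ZMod p, theta cE (E12 s) ∈ B := by
    intro s
    obtain ⟨k, hk⟩ : ∃ k : ℕ, k = (s * (n1 : ZMod p)⁻¹).val := ⟨_, rfl⟩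
    have hpow := aut_pow_apply t1 e1 e2 n1 hte1 ht1e2 k
    have hkey : e1 ^ (n1 * k) = e1 ^ s.val := by
      calc e1 ^ (n1 * k) = (e1 ^ n1) ^ k := pow_mul e1 n1 k
        _ = (e1 ^ ((n1 : ZMod p)).val) ^ (s * (n1 : ZMod p)⁻¹).val := by
          rw [pow_val_natCast e1 (hexp e1), hk]
        _ = e1 ^ ((n1 : ZMod p) * (s * (n1 : ZMod p)⁻¹)).val :=
          (pow_val_mul e1 (hexp e1) _ _).symm
        _ = e1 ^ s.val := by
          rw [mul_comm s, ← mul_assoc, mul_inv_cancel₀ hn1ne, one_mul]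
    have heq : theta cE (E12 s) = t1 ^ k := by
      apply hext
      · rw [hpow.1, hθe1, mulVec_E12, hcEapp]
        simp [ZMod.val_one]
      · rw [hpow.2, hθe2, mulVec_E12, hcEapp, hkey]
        simp [ZMod.val_one]
        exact hcomm _ _
    rw [heq]
    exact B.pow_mem ht1B k
  have h21 : ∀ s : ZMod p, theta cE (E21 s) ∈ B := by
    intro s
    obtain ⟨k, hk⟩ : ∃ k : ℕ, k = (s * (n2 : ZMod p)⁻¹).val := ⟨_, rfl⟩
    have hpow := aut_pow_apply t2 e2 e1 n2 ht2e2 ht2e1 k
    have hkey : e2 ^ (n2 * k) = e2 ^ s.val := by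
      calc e2 ^ (n2 * k) = (e2 ^ n2) ^ k := pow_mul e2 n2 k
        _ = (e2 ^ ((n2 : ZMod p)).val) ^ (s * (n2 : ZMod p)⁻¹).val := by
          rw [pow_val_natCast e2 (hexp e2), hk]
        _ = e2 ^ ((n2 : ZMod p) * (s * (n2 : ZMod p)⁻¹)).val :=
          (pow_val_mul e2 (hexp e2) _ _).symm
        _ = e2 ^ s.val := by
          rw [mul_comm s, ← mul_assoc, mul_inv_cancel₀ hn2ne, one_mul]
    have heq : theta cE (E21 s) = t2 ^ k := by
      apply hext
      · rw [hpow.2, hθe1, mulVec_E21, hcEapp, hkey]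
        simp [ZMod.val_one]
      · rw [hpow.1, hθe2, mulVec_E21, hcEapp]
        simp [ZMod.val_one]
    rw [heq]
    exact B.pow_mem ht2B k
  have hall : ∀ M, theta cE M ∈ B := by
    intro M
    have hle : Subgroup.closure (sl2gens (ZMod p)) ≤ B.comap (theta cE) := by
      rw [Subgroup.closure_le]
      rintro M' (⟨s, rfl⟩ | ⟨s, rfl⟩)
      · exact h12 s
      · exact h21 s
    exact hle (sl2_mem_closure M)
  have hinj : Function.Injective (theta cE) := theta_injective cE
  have hrange : (theta cE).range ≤ B := by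
    rintro _ ⟨M, rfl⟩
    exact hall M
  refine ⟨(theta cE).range.subgroupOf B, ⟨?_⟩⟩
  exact (Subgroup.subgroupOfEquivOfLe hrange).trans (MonoidHom.ofInjective hinj).symm

end coords

variable {Ω : Type*} [Group Ω] {S : Subgroup Ω}

/-- S5185 -/
theorem essential_order_p_sq [Finite S] (p : ℕ) [Fact p.Prime] (hS : IsPGroup p S)
    (F : FusionSystem S) (hF : F.IsSaturated p) (H : Subgroup Ω) (hH : F.IsEssential p H)
    (hcard : Nat.card H = p ^ 2) :
    Cfsg.IsElementaryAbelian p H ∧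
      ∃ K : Subgroup ↥(F.autGroup H),
        Nonempty (↥K ≃* Matrix.SpecialLinearGroup (Fin 2) (ZMod p)) := by
  classical
  have hp : p.Prime := Fact.out
  have hHS : H ≤ S := hH.1.1
  have hfinH : Finite H := finite_of_le hHS
  have hcommI : IsMulCommutative H := IsPGroup.isMulCommutative_of_card_eq_prime_sq hcard
  have hcomm : ∀ a b : H, a * b = b * a := fun a b => hcommI.is_comm.comm a b
  have hrad := Cfsg.Agent.S5080.result p hS F hF H hH
  have hInn : Inn H = ⊥ := by
    rw [MonoidHom.range_eq_bot_iff]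
    ext h x
    simp [MulAut.conj_apply, hcomm h x]
  have hcore : pCore p (F.autGroup H) = ⊥ := by
    have h1 := hrad.2
    rw [hInn] at h1
    exact (Subgroup.map_eq_bot_iff_of_injective _ (Subgroup.subtype_injective _)).mp h1
  have hdvd : p ∣ Nat.card (F.autGroup H) := by
    obtain ⟨-, -, hn, E, hE⟩ := hH
    exact dvd_trans hE.1 (Subgroup.card_quotient_dvd_card _)
  have hncyc : ¬ IsCyclic H := by
    intro hcyc
    haveI := hcyc
    have hAcomm : ∀ a b : MulAut H, a * b = b * a := by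
      intro a b
      apply (IsCyclic.mulAutMulEquiv H).injective
      rw [map_mul, map_mul, mul_comm]
    obtain ⟨P⟩ : Nonempty (Sylow p (F.autGroup H)) := inferInstance
    have hPn : (P : Subgroup (F.autGroup H)).Normal := by
      refine ⟨fun n hn g => ?_⟩
      have : g * n * g⁻¹ = n := by
        apply Subtype.ext
        show (g : MulAut H) * n * (g : MulAut H)⁻¹ = n
        rw [hAcomm (g : MulAut H) n, mul_inv_cancel_right]
      rw [this]
      exact hn
    have hPle := le_pCore' hPn P.isPGroup'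
    rw [hcore, le_bot_iff] at hPle
    have hidx := P.not_dvd_index
    rw [hPle, Subgroup.index_bot] at hidx
    exact hidx hdvd
  have hexp : ∀ h : H, h ^ p = 1 := by
    intro h
    have hd : orderOf h ∣ p ^ 2 := hcard ▸ orderOf_dvd_natCard h
    obtain ⟨j, hj, hjo⟩ := (Nat.dvd_prime_pow hp).mp hd
    interval_cases j
    · rw [pow_zero, orderOf_eq_one_iff] at hjo
      rw [hjo, one_pow]
    · rw [pow_one] at hjo
      rw [← hjo]
      exact pow_orderOf_eq_one h
    · exfalso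
      apply hncyc
      exact isCyclic_of_orderOf_eq_card h (by rw [hjo, hcard])
  refine ⟨⟨hcommI, fun a ha => ?_⟩, ?_⟩
  · have := hexp ⟨a, ha⟩
    have h2 := congrArg (fun z : H => (z : Ω)) this
    simpa using h2
  · exact exists_sl2 hcard hcomm hexp (F.autGroup H) hcore hdvd

end Cfsg.Agent.Lib.Lead.Fus
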