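import Mathlib
import Cfsg.Agent.Lib.Lead.Fus9
import Cfsg.Agent.Lib.Helper1.BurnsideBasis

set_option autoImplicit false

namespace Cfsg.Agent.Lib.Lead.Fus

open Cfsg Cfsg.FusionSystem Cfsg.Agent.Lib.Helper9 Cfsg.Agent.Lib.Helper1

section rank2

variable {H : Type*} [CommGroup H]

/-- image of `M` under the `p^n`-power map -/
def pw (p n : ℕ) (M : Subgroup H) : Subgroup H := M.map (powMonoidHom (p ^ n))

theorem mem_pw {p n : ℕ} {M : Subgroup H} {x : H} :
    x ∈ pw p n M ↔ ∃ m ∈ M, m ^ (p ^ n) = x := by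
  unfold pw
  rw [Subgroup.mem_map]
  simp only [powMonoidHom_apply]

theorem pw_zero (p : ℕ) (M : Subgroup H) : pw p 0 M = M := by
  ext x
  rw [mem_pw]
  constructor
  · rintro ⟨m, hm, rfl⟩
    simpa using hm
  · intro hx
    exact ⟨x, hx, by simp⟩

theorem pw_invariant {p n : ℕ} {M : Subgroup H} (α : MulAut H) (hα : ∀ x ∈ M, α x ∈ M) :
    ∀ x ∈ pw p n M, α x ∈ pw p n M := by
  intro x hx
  obtain ⟨m, hm, rfl⟩ := mem_pw.mp hx
  exact mem_pw.mpr ⟨α m, hα m hm, (map_pow α m _).symm⟩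

theorem pw_top_antitone (p : ℕ) {n n' : ℕ} (h : n ≤ n') :
    pw p n' (⊤ : Subgroup H) ≤ pw p n ⊤ := by
  intro x hx
  obtain ⟨m, -, rfl⟩ := mem_pw.mp hx
  refine mem_pw.mpr ⟨m ^ (p ^ (n' - n)), Subgroup.mem_top _, ?_⟩
  rw [← pow_mul, ← pow_add, Nat.sub_add_cancel h]

theorem dvd_of_zpow_mem {p : ℕ} [Fact p.Prime] {K : Subgroup H} {g : H} (hg : g ∉ K)
    (hgp : g ^ p ∈ K) {z : ℤ} (hz : g ^ z ∈ K) : (p : ℤ) ∣ z := by
  by_contra hnd
  have hcop : IsCoprime z (p : ℤ) := by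
    rw [isCoprime_comm, (Nat.prime_iff_prime_int.mp (Fact.out : p.Prime)).coprime_iff_not_dvd]
    exact hnd
  obtain ⟨a, b, hab⟩ := hcop
  apply hg
  have : g = (g ^ z) ^ a * (g ^ (p : ℤ)) ^ b := by
    rw [← zpow_mul, ← zpow_mul, ← zpow_add, mul_comm z a, mul_comm (p : ℤ) b, hab, zpow_one]
  rw [this]
  refine K.mul_mem (K.zpow_mem hz a) (K.zpow_mem ?_ b)
  rw [zpow_natCast]
  exact hgp

theorem factor_trivial {p : ℕ} [Fact p.Prime] [Finite H] (β : MulAut H) (hβp : β ^ p = 1)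
    (M' M : Subgroup H) (hle : M' ≤ M) (hM' : ∀ x ∈ M', β x ∈ M') (hM : ∀ x ∈ M, β x ∈ M)
    (hidx : M'.relIndex M = 1 ∨ M'.relIndex M = p) :
    ∀ x ∈ M, x⁻¹ * β x ∈ M' := by
  have hp : p.Prime := Fact.out
  rcases hidx with h1 | hpI
  · intro x hx
    have hxM' : x ∈ M' := Subgroup.relIndex_eq_one.mp h1 hx
    exact M'.mul_mem (M'.inv_mem hxM') (hM' x hxM')
  · have hex : ∃ g ∈ M, g ∉ M' := by
      by_contra hcon
      push Not at hcon
      have h1 : M'.relIndex M = 1 := Subgroup.relIndex_eq_one.mpr (fun g hg => hcon g hg)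
      rw [h1] at hpI
      exact hp.one_lt.ne hpI
    obtain ⟨g, hgM, hgM'⟩ := hex
    have hgp : g ^ p ∈ M' := by
      have h := Subgroup.pow_index_mem (M'.subgroupOf M) (⟨g, hgM⟩ : M)
      have hi : (M'.subgroupOf M).index = p := hpI
      rw [hi, Subgroup.mem_subgroupOf] at h
      simpa using h
    have hsup : M ≤ Subgroup.zpowers g ⊔ M' := by
      have h2 := relIndex_zpowers_sup_eq_prime p M' g hgM' hgp
      have hle2 : Subgroup.zpowers g ⊔ M' ≤ M :=
        sup_le (by rw [Subgroup.zpowers_le]; exact hgM) hle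
      have h3 := Subgroup.relIndex_mul_relIndex M' (Subgroup.zpowers g ⊔ M') M le_sup_right hle2
      rw [h2, hpI] at h3
      have h4 : (Subgroup.zpowers g ⊔ M').relIndex M = 1 :=
        Nat.eq_of_mul_eq_mul_left hp.pos (h3.trans (mul_one p).symm)
      exact Subgroup.relIndex_eq_one.mp h4
    have hdecomp : ∀ x ∈ M, ∃ (w : ℤ) (m : H), m ∈ M' ∧ x = g ^ w * m := by
      intro x hx
      obtain ⟨y, hy, m, hm, rfl⟩ := Subgroup.mem_sup.mp (hsup hx)
      obtain ⟨w, rfl⟩ := Subgroup.mem_zpowers_iff.mp hy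
      exact ⟨w, m, hm, rfl⟩
    obtain ⟨z, m, hm, hβg⟩ := hdecomp (β g) (hM g hgM)
    have hiter : ∀ i : ℕ, ∃ mi ∈ M', (β ^ i) g = g ^ (z ^ i) * mi := by
      intro i
      induction i with
      | zero => exact ⟨1, M'.one_mem, by simp⟩
      | succ i ih =>
        obtain ⟨mi, hmi, hi⟩ := ih
        refine ⟨m ^ (z ^ i) * β mi, M'.mul_mem (M'.zpow_mem hm _) (hM' mi hmi), ?_⟩
        have h0 : (β ^ (i + 1)) g = β ((β ^ i) g) := by
          rw [pow_succ']
          rfl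
        rw [h0, hi, map_mul, map_zpow, hβg, mul_zpow, ← zpow_mul, pow_succ', mul_assoc]
    obtain ⟨mp, hmp, hp1⟩ := hiter p
    rw [hβp, MulAut.one_apply] at hp1
    have hz1 : (p : ℤ) ∣ z ^ p - 1 := by
      apply dvd_of_zpow_mem hgM' hgp
      have h5 : g ^ (z ^ p) = g * mp⁻¹ := by
        rw [eq_mul_inv_iff_mul_eq]
        exact hp1.symm
      have h6 : g ^ (z ^ p - 1) = mp⁻¹ := by
        rw [zpow_sub, zpow_one, h5, mul_comm g, mul_inv_cancel_right]
      rw [h6]
      exact M'.inv_mem hmp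
    have hz2 : (p : ℤ) ∣ z - 1 := by
      have h6 : ((z ^ p - 1 : ℤ) : ZMod p) = 0 := (ZMod.intCast_zmod_eq_zero_iff_dvd _ _).mpr hz1
      rw [Int.cast_sub, Int.cast_pow, Int.cast_one, ZMod.pow_card] at h6
      have h7 : ((z - 1 : ℤ) : ZMod p) = 0 := by
        rw [Int.cast_sub, Int.cast_one]
        exact h6
      exact (ZMod.intCast_zmod_eq_zero_iff_dvd _ _).mp h7
    have hgν : g⁻¹ * β g ∈ M' := by
      have h8 : g⁻¹ * β g = g ^ (z - 1) * m := by
        rw [hβg, zpow_sub, zpow_one, ← mul_assoc, mul_comm g⁻¹]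
      rw [h8]
      refine M'.mul_mem ?_ hm
      obtain ⟨c, hc⟩ := hz2
      rw [hc, zpow_mul, zpow_natCast]
      exact M'.zpow_mem hgp c
    intro x hx
    obtain ⟨w, m2, hm2, rfl⟩ := hdecomp x hx
    have h9 : (g ^ w * m2)⁻¹ * β (g ^ w * m2) = (g⁻¹ * β g) ^ w * (m2⁻¹ * β m2) := by
      simp only [map_mul, map_zpow, mul_zpow, inv_zpow, mul_inv, mul_assoc, mul_left_comm,
        mul_comm]
    rw [h9]
    exact M'.mul_mem (M'.zpow_mem hgν w) (M'.mul_mem (M'.inv_mem hm2) (hM' m2 hm2))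

/-- the interleaved chain `H_k ≤ M_{k-1} ≤ H_{k-1} ≤ … ≤ M_0 ≤ H_0` -/
def ch (p : ℕ) (M : Subgroup H) (k j : ℕ) : Subgroup H :=
  pw p (k - (j + 1) / 2) (if j % 2 = 0 then ⊤ else M)

theorem ch_even (p : ℕ) (M : Subgroup H) (k i : ℕ) : ch p M k (2 * i) = pw p (k - i) ⊤ := by
  unfold ch
  rw [show (2 * i + 1) / 2 = i by omega, if_pos (by omega)]

theorem ch_odd (p : ℕ) (M : Subgroup H) (k i : ℕ) :
    ch p M k (2 * i + 1) = pw p (k - (i + 1)) M := by
  unfold ch
  rw [show (2 * i + 1 + 1) / 2 = i + 1 by omega, if_neg (by omega)]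

theorem chain_false {p : ℕ} [Fact p.Prime] [Finite H] (hH : IsPGroup p H)
    (A : Subgroup (MulAut H)) (hcore : pCore p A = ⊥) {β : MulAut H} (hβA : β ∈ A) (hβ1 : β ≠ 1)
    (M : Subgroup H) (hMinv : ∀ α ∈ A, ∀ x ∈ M, α x ∈ M)
    (h1 : ∀ x ∈ M, x⁻¹ * β x ∈ pw p 1 (⊤ : Subgroup H)) (h2 : ∀ x : H, x⁻¹ * β x ∈ M) :
    False := by
  obtain ⟨k, hk⟩ := IsPGroup.iff_card.mp hH
  have hpwk : pw p k (⊤ : Subgroup H) = ⊥ := by
    rw [eq_bot_iff]
    intro x hx
    obtain ⟨m, -, rfl⟩ := mem_pw.mp hx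
    rw [Subgroup.mem_bot, ← hk]
    exact pow_card_eq_one'
  have hinv : ∀ α ∈ A, ∀ j, ∀ x ∈ ch p M k j, α x ∈ ch p M k j := by
    intro α hα j
    unfold ch
    split_ifs
    · exact pw_invariant α (fun x _ => Subgroup.mem_top _)
    · exact pw_invariant α (hMinv α hα)
  have h0 : ch p M k 0 = ⊥ := by
    have h := ch_even p M k 0
    rw [Nat.mul_zero, Nat.sub_zero] at h
    rw [h, hpwk]
  have hm : ch p M k (2 * k) = ⊤ := by
    rw [ch_even, Nat.sub_self, pw_zero]
  have hst : ∀ j, ∀ x ∈ ch p M k (j + 1), x⁻¹ * β x ∈ ch p M k j := by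
    intro j x hx
    rcases Nat.even_or_odd' j with ⟨i, rfl | rfl⟩
    · rw [ch_odd] at hx
      rw [ch_even]
      obtain ⟨m, hm, rfl⟩ := mem_pw.mp hx
      obtain ⟨h, -, hh⟩ := mem_pw.mp (h1 m hm)
      have h3 : (m ^ p ^ (k - (i + 1)))⁻¹ * β (m ^ p ^ (k - (i + 1)))
          = h ^ p ^ (k - (i + 1) + 1) := by
        rw [map_pow, ← inv_pow, ← mul_pow, ← hh, ← pow_mul, pow_one, ← pow_succ']
      rw [h3]
      exact pw_top_antitone p (by omega) (mem_pw.mpr ⟨h, Subgroup.mem_top _, rfl⟩)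
    · rw [show 2 * i + 1 + 1 = 2 * (i + 1) by ring, ch_even] at hx
      rw [ch_odd]
      obtain ⟨h, -, rfl⟩ := mem_pw.mp hx
      refine mem_pw.mpr ⟨h⁻¹ * β h, h2 h, ?_⟩
      rw [mul_pow, inv_pow, map_pow]
  have hmem := le_pCore_of_stabilizes hH A (ch p M k) hinv h0 (2 * k) hm hβA hst
  rw [hcore, Subgroup.map_bot, Subgroup.mem_bot] at hmem
  exact hβ1 hmem

theorem end_sum_apply {V : Type*} [AddCommGroup V] (s : Finset ℕ) (f : ℕ → AddMonoid.End V)
    (u : V) : (∑ m ∈ s, f m) u = ∑ m ∈ s, (f m) u := by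
  classical
  induction s using Finset.induction_on with
  | empty =>
    rw [Finset.sum_empty, Finset.sum_empty]
    rfl
  | insert a s ha ih =>
    rw [Finset.sum_insert ha, Finset.sum_insert ha, ← ih]
    rfl

theorem nu_mem_of_four_le {p : ℕ} [Fact p.Prime] [Finite H] (hp4 : 4 ≤ p) (β : MulAut H)
    (hβp : β ^ p = 1)
    (hidx : (pw p 1 (⊤ : Subgroup H)).index = p ^ 2)
    (hΩ1 : ∀ x : H, x ^ p = 1 → x ∈ pw p 1 (⊤ : Subgroup H)) :
    ∀ x : H, x⁻¹ * β x ∈ pw p 1 (⊤ : Subgroup H) := by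
  classical
  have hp : p.Prime := Fact.out
  obtain ⟨Φ, hΦe⟩ : ∃ Φ : Subgroup H, Φ = pw p 1 ⊤ := ⟨_, rfl⟩
  rw [← hΦe] at hidx hΩ1 ⊢
  have hΦinv : ∀ x ∈ Φ, β x ∈ Φ := by
    rw [hΦe]
    exact pw_invariant β (fun x _ => Subgroup.mem_top _)
  have hpowΦ : ∀ x : H, x ^ p ∈ Φ := by
    intro x
    rw [hΦe]
    exact mem_pw.mpr ⟨x, Subgroup.mem_top _, by rw [pow_one]⟩
  obtain ⟨b, hb_apply⟩ : ∃ b : AddMonoid.End (Additive H),
      ∀ u : Additive H, b u = Additive.ofMul (β (Additive.toMul u)) :=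
    ⟨MonoidHom.toAdditive (β : H ≃* H).toMonoidHom, fun u => rfl⟩
  have hbpow : ∀ (i : ℕ) (u : Additive H),
      (b ^ i) u = Additive.ofMul ((β ^ i) (Additive.toMul u)) := by
    intro i
    induction i with
    | zero =>
      intro u
      rw [pow_zero, pow_zero]
      rfl
    | succ i ih =>
      intro u
      rw [pow_succ, pow_succ]
      show (b ^ i) (b u) = Additive.ofMul ((β ^ i) (β (Additive.toMul u)))
      rw [ih, hb_apply]
      rfl
  have hbp : b ^ p = 1 := by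
    apply DFunLike.ext
    intro u
    rw [hbpow, hβp]
    rfl
  obtain ⟨n, hn⟩ : ∃ n : AddMonoid.End (Additive H), n = b - 1 := ⟨_, rfl⟩
  have hbn : n + 1 = b := by rw [hn, sub_add_cancel]
  have hn_apply : ∀ u : Additive H,
      Additive.toMul (n u) = (Additive.toMul u)⁻¹ * β (Additive.toMul u) := by
    intro u
    rw [hn]
    show Additive.toMul (b u - u) = _
    rw [hb_apply]
    show β (Additive.toMul u) / Additive.toMul u = _
    rw [div_eq_mul_inv, mul_comm]
  obtain ⟨W, hW⟩ : ∃ W : ℕ → AddSubgroup (Additive H),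
      ∀ j u, u ∈ W j ↔ ∃ v : Additive H, (p ^ j) • v = u :=
    ⟨fun j => (nsmulAddMonoidHom (p ^ j) : Additive H →+ Additive H).range, fun j u => by
      rw [AddMonoidHom.mem_range]
      rfl⟩
  have hbridge : ∀ j (u : Additive H),
      u ∈ W j ↔ Additive.toMul u ∈ pw p j (⊤ : Subgroup H) := by
    intro j u
    constructor
    · intro h
      obtain ⟨v, rfl⟩ := (hW j u).mp h
      exact mem_pw.mpr ⟨Additive.toMul v, Subgroup.mem_top _, rfl⟩
    · intro h
      obtain ⟨m, -, hm⟩ := mem_pw.mp h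
      exact (hW j u).mpr ⟨Additive.ofMul m, Additive.toMul.injective hm⟩
  have hbr1 : ∀ u : Additive H, u ∈ W 1 ↔ Additive.toMul u ∈ Φ := by
    intro u
    rw [hbridge, hΦe]
  have hWe : ∀ (e : AddMonoid.End (Additive H)) j u, u ∈ W j → e u ∈ W j := by
    intro e j u hu
    obtain ⟨v, rfl⟩ := (hW j u).mp hu
    exact (hW j _).mpr ⟨e v, (map_nsmul e _ v).symm⟩
  have hWp : ∀ j u (c : ℕ), u ∈ W j → (p * c) • u ∈ W (j + 1) := by
    intro j u c hu
    obtain ⟨v, rfl⟩ := (hW j u).mp hu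
    refine (hW _ _).mpr ⟨c • v, ?_⟩
    rw [smul_smul, smul_smul]
    congr 1
    ring
  have hW0 : ∀ u : Additive H, u ∈ W 0 := fun u => (hW 0 u).mpr ⟨u, by rw [pow_zero, one_nsmul]⟩
  have hn2 : ∀ v : Additive H, n (n v) ∈ W 1 := by
    by_cases hall : ∀ x : H, x⁻¹ * β x ∈ Φ → x ∈ Φ
    · exfalso
      have hodd : Odd p := hp.odd_of_ne_two (by omega)
      obtain ⟨r, hr⟩ := (Commute.neg_right (Commute.one_right b)).exists_add_pow_prime_eq hp
      have hnp : n ^ p = (p : AddMonoid.End (Additive H)) * (b * (-1 * r)) := by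
        rw [hn, sub_eq_add_neg, hr, hbp, hodd.neg_one_pow, add_neg_cancel, zero_add, mul_assoc,
          mul_assoc]
      have hall' : ∀ (i : ℕ) (u : Additive H), (n ^ i) u ∈ W 1 → u ∈ W 1 := by
        intro i
        induction i with
        | zero =>
          intro u hu
          rw [pow_zero] at hu
          exact hu
        | succ i ih =>
          intro u hu
          rw [pow_succ] at hu
          have h1 : n u ∈ W 1 := ih (n u) hu
          rw [hbr1, hn_apply] at h1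
          exact (hbr1 u).mpr (hall _ h1)
      have htop : ∀ u : Additive H, u ∈ W 1 := by
        intro u
        apply hall' p u
        rw [hnp]
        show (p : ℕ) • ((b * (-1 * r)) u) ∈ W 1
        exact (hW 1 _).mpr ⟨(b * (-1 * r)) u, by rw [pow_one]⟩
      have hΦtop : Φ = ⊤ := by
        rw [eq_top_iff]
        intro x _
        exact (hbr1 (Additive.ofMul x)).mp (htop _)
      rw [hΦtop, Subgroup.index_top] at hidx
      exact (Nat.one_lt_pow two_ne_zero hp.one_lt).ne hidx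
    · push Not at hall
      obtain ⟨x₀, hνx₀, hx₀⟩ := hall
      obtain ⟨M₀, hM₀⟩ : ∃ M₀ : Subgroup H, M₀ = Subgroup.zpowers x₀ ⊔ Φ := ⟨_, rfl⟩
      have hΦM₀ : Φ ≤ M₀ := by
        rw [hM₀]
        exact le_sup_right
      have hx₀M₀ : x₀ ∈ M₀ := by
        rw [hM₀]
        exact (le_sup_left : Subgroup.zpowers x₀ ≤ _) (Subgroup.mem_zpowers x₀)
      have hr1 : Φ.relIndex M₀ = p := by
        rw [hM₀]
        exact relIndex_zpowers_sup_eq_prime p Φ x₀ hx₀ (hpowΦ x₀)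
      have hr2 : M₀.index = p := by
        have h := Subgroup.relIndex_mul_index hΦM₀
        rw [hr1, hidx, sq] at h
        exact Nat.eq_of_mul_eq_mul_left hp.pos h
      have hM₀β : ∀ y ∈ M₀, β y ∈ M₀ := by
        intro y hy
        rw [hM₀] at hy
        obtain ⟨a, ha, f, hf, rfl⟩ := Subgroup.mem_sup.mp hy
        obtain ⟨w, rfl⟩ := Subgroup.mem_zpowers_iff.mp ha
        rw [map_mul, map_zpow]
        have hβx₀ : β x₀ ∈ M₀ := by
          have h : β x₀ = x₀ * (x₀⁻¹ * β x₀) := by rw [mul_inv_cancel_left]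
          rw [h]
          exact M₀.mul_mem hx₀M₀ (hΦM₀ hνx₀)
        exact M₀.mul_mem (M₀.zpow_mem hβx₀ w) (hΦM₀ (hΦinv f hf))
      have hA := factor_trivial β hβp Φ M₀ hΦM₀ hΦinv hM₀β (Or.inr hr1)
      have hB : ∀ x : H, x⁻¹ * β x ∈ M₀ := fun x =>
        factor_trivial β hβp M₀ ⊤ le_top hM₀β (fun x _ => Subgroup.mem_top _)
          (Or.inr (by rw [Subgroup.relIndex_top_right]; exact hr2)) x (Subgroup.mem_top _)
      intro v
      rw [hbr1, hn_apply, hn_apply]
      exact hA _ (hB _)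
  have hn2' : ∀ j u, u ∈ W j → n (n u) ∈ W (j + 1) := by
    intro j u hu
    obtain ⟨v, rfl⟩ := (hW j u).mp hu
    obtain ⟨v', hv'⟩ := (hW 1 _).mp (hn2 v)
    refine (hW _ _).mpr ⟨v', ?_⟩
    rw [map_nsmul, map_nsmul, ← hv', smul_smul, pow_one, ← pow_succ]
  have hmain : ∀ u : Additive H, p • n u ∈ W 2 := by
    intro u
    have hexp : (n + 1) ^ p = 1 := by
      rw [hbn]
      exact hbp
    rw [(Commute.one_right n).add_pow] at hexp
    simp only [one_pow, mul_one] at hexp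
    have h1 : u = ∑ m ∈ Finset.range (p + 1), (p.choose m) • ((n ^ m) u) := by
      have h2 : (∑ m ∈ Finset.range (p + 1),
          n ^ m * ((p.choose m : ℕ) : AddMonoid.End (Additive H))) u = u := by
        rw [hexp]
        rfl
      rw [end_sum_apply] at h2
      refine h2.symm.trans (Finset.sum_congr rfl fun m _ => ?_)
      show (n ^ m) ((p.choose m) • u) = _
      exact map_nsmul _ _ _
    have ht0 : (p.choose 0) • ((n ^ 0) u) = u := by
      rw [Nat.choose_zero_right, pow_zero, one_nsmul]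
      rfl
    have ht1 : (p.choose 1) • ((n ^ 1) u) = p • n u := by
      rw [Nat.choose_one_right, pow_one]
    have hmem0 : 0 ∈ Finset.range (p + 1) := Finset.mem_range.mpr (by omega)
    have hmem1 : 1 ∈ (Finset.range (p + 1)).erase 0 :=
      Finset.mem_erase.mpr ⟨one_ne_zero, Finset.mem_range.mpr (by omega)⟩
    rw [← Finset.add_sum_erase _ _ hmem0, ← Finset.add_sum_erase _ _ hmem1, ht0, ht1] at h1
    have hR : ∑ m ∈ ((Finset.range (p + 1)).erase 0).erase 1, (p.choose m) • ((n ^ m) u)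
        ∈ W 2 := by
      refine AddSubgroup.sum_mem _ fun m hm => ?_
      rw [Finset.mem_erase, Finset.mem_erase, Finset.mem_range] at hm
      obtain ⟨hm1, hm0, hmp⟩ := hm
      obtain ⟨m', rfl⟩ : ∃ m', m = m' + 2 := ⟨m - 2, by omega⟩
      have e : (n ^ (m' + 2)) u = (n ^ m') (n (n u)) := by
        rw [pow_add, pow_two]
        rfl
      by_cases hlt : m' + 2 < p
      · obtain ⟨c, hc⟩ := hp.dvd_choose_self (by omega : m' + 2 ≠ 0) hlt
        rw [e, hc]
        exact hWp 1 _ c (hWe (n ^ m') 1 _ (hn2' 0 _ (hW0 u)))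
      · have hmp' : m' + 2 = p := by omega
        have hch : p.choose (m' + 2) = 1 := by rw [hmp', Nat.choose_self]
        obtain ⟨q, rfl⟩ : ∃ q, m' = q + 2 := ⟨m' - 2, by omega⟩
        rw [e, hch, one_nsmul]
        have e2 : (n ^ (q + 2)) (n (n u)) = (n ^ q) (n (n (n (n u)))) := by
          rw [pow_add, pow_two]
          rfl
        rw [e2]
        exact hWe (n ^ q) 2 _ (hn2' 1 _ (hn2' 0 _ (hW0 u)))
    have h5 : p • n u + ∑ m ∈ ((Finset.range (p + 1)).erase 0).erase 1,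
        (p.choose m) • ((n ^ m) u) = 0 := left_eq_add.mp h1
    have h6 := eq_neg_of_add_eq_zero_left h5
    rw [h6]
    exact (W 2).neg_mem hR
  intro x
  have h1 := hmain (Additive.ofMul x)
  rw [hbridge] at h1
  have h2 : Additive.toMul (p • n (Additive.ofMul x)) = (x⁻¹ * β x) ^ p := by
    show (Additive.toMul (n (Additive.ofMul x))) ^ p = _
    rw [hn_apply]
    rfl
  rw [h2] at h1
  obtain ⟨w, -, hw⟩ := mem_pw.mp h1
  have h3 : ((x⁻¹ * β x) * (w ^ p)⁻¹) ^ p = 1 := by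
    rw [mul_pow, inv_pow, ← pow_mul, ← sq, hw, mul_inv_cancel]
  have h4 := hΩ1 _ h3
  have h5 : x⁻¹ * β x = ((x⁻¹ * β x) * (w ^ p)⁻¹) * w ^ p := by rw [inv_mul_cancel_right]
  rw [h5]
  exact Φ.mul_mem h4 (hpowΦ w)

theorem indep_aux {p : ℕ} [Fact p.Prime] [Finite H] (hH : IsPGroup p H)
    (hidx : (frattini H).index = p ^ 2) (x y : H)
    (hcl : Subgroup.closure ({x, y} : Set H) = ⊤)
    (a b : ℤ) (hab : x ^ a * y ^ b ∈ frattini H) : (p : ℤ) ∣ a := by
  classical
  by_contra hnd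
  obtain ⟨K, hK⟩ : ∃ K : Subgroup H, K = Subgroup.zpowers y ⊔ frattini H := ⟨_, rfl⟩
  have hyK : y ∈ K := by
    rw [hK]
    exact (le_sup_left : Subgroup.zpowers y ≤ _) (Subgroup.mem_zpowers y)
  have hΦK : frattini H ≤ K := by
    rw [hK]
    exact le_sup_right
  have hxa : x ^ a ∈ K := by
    have h : x ^ a = (x ^ a * y ^ b) * (y ^ b)⁻¹ := by rw [mul_inv_cancel_right]
    rw [h]
    exact K.mul_mem (hΦK hab) (K.inv_mem (K.zpow_mem hyK b))
  have hxK : x ∈ K := by
    by_contra hxK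
    exact hnd (dvd_of_zpow_mem hxK (hΦK (pow_prime_mem_frattini_of_isPGroup p hH x)) hxa)
  have hKtop : K = ⊤ := by
    rw [eq_top_iff, ← hcl, Subgroup.closure_le]
    intro z hz
    rcases hz with rfl | rfl
    · exact hxK
    · exact hyK
  rw [hK] at hKtop
  have hy : Subgroup.zpowers y = ⊤ := frattini_nongenerating hKtop
  have h2 := (burnside_basis p 2 hH hidx).2 {y}
    (by rw [Finset.coe_singleton, ← Subgroup.zpowers_eq_closure, hy])
  simp at h2

theorem abelian_rank_two {p : ℕ} [Fact p.Prime] [Finite H] (hH : IsPGroup p H)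
    (A : Subgroup (MulAut H)) (hcore : pCore p A = ⊥) (hdvd : p ∣ Nat.card A)
    (hrk : (frattini H).index ≤ p ^ 2) :
    ((∀ x : H, x ^ p = 1) ∧ Nat.card H = p ^ 2) ∨
      (p ≤ 3 ∧ ∃ k : ℕ, Nonempty (H ≃* Multiplicative (ZMod (p ^ k) × ZMod (p ^ k)))) := by
  classical
  have hp : p.Prime := Fact.out
  obtain ⟨β', hβ'⟩ := exists_prime_orderOf_dvd_card' p hdvd
  obtain ⟨β, hβdef⟩ : ∃ β : MulAut H, β = (β' : MulAut H) := ⟨_, rfl⟩
  have hβA : β ∈ A := hβdef ▸ β'.2
  have hβord : orderOf β = p := by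
    rw [hβdef, Subgroup.orderOf_coe]
    exact hβ'
  have hβ1 : β ≠ 1 := by
    intro h
    rw [h, orderOf_one] at hβord
    exact hp.one_lt.ne hβord
  have hβp : β ^ p = 1 := by
    rw [← hβord]
    exact pow_orderOf_eq_one β
  have hΦ : frattini H = pw p 1 ⊤ := by
    apply le_antisymm
    · apply frattini_le_of_elementary_quotient p
      · rw [(commutator_eq_bot_iff_center_eq_top H).mpr CommGroup.center_eq_top]
        exact bot_le
      · intro x
        exact mem_pw.mpr ⟨x, Subgroup.mem_top _, by rw [pow_one]⟩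
    · intro x hx
      obtain ⟨m, -, rfl⟩ := mem_pw.mp hx
      rw [pow_one]
      exact pow_prime_mem_frattini_of_isPGroup p hH m
  obtain ⟨Φ, hΦe⟩ : ∃ Φ : Subgroup H, Φ = pw p 1 ⊤ := ⟨_, rfl⟩
  have hfr : frattini H = Φ := hΦ.trans hΦe.symm
  have hΦinv : ∀ α : MulAut H, ∀ x ∈ Φ, α x ∈ Φ := by
    intro α
    rw [hΦe]
    exact pw_invariant α (fun x _ => Subgroup.mem_top _)
  have hidxle : Φ.index ≤ p ^ 2 := by
    rw [← hfr]
    exact hrk
  obtain ⟨kk, hkk⟩ := IsPGroup.iff_card.mp hH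
  have hidxpow : ∀ M : Subgroup H, ∃ j, M.index = p ^ j := by
    intro M
    have h1 : M.index ∣ p ^ kk := hkk ▸ M.index_dvd_card
    obtain ⟨j, -, hj⟩ := (Nat.dvd_prime_pow hp).mp h1
    exact ⟨j, hj⟩
  have hnu : ∀ M : Subgroup H, (∀ x ∈ M, β x ∈ M) → Φ ≤ M →
      (Φ.relIndex M = 1 ∨ Φ.relIndex M = p) → (M.index = 1 ∨ M.index = p) →
      (∀ x ∈ M, x⁻¹ * β x ∈ Φ) ∧ (∀ x : H, x⁻¹ * β x ∈ M) := by
    intro M hMβ hΦM hr1 hr2
    refine ⟨factor_trivial β hβp Φ M hΦM (hΦinv β) hMβ hr1, ?_⟩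
    intro x
    refine factor_trivial β hβp M ⊤ le_top hMβ (fun x _ => Subgroup.mem_top _) ?_ x
      (Subgroup.mem_top _)
    rw [Subgroup.relIndex_top_right]
    exact hr2
  have hno : ∀ M : Subgroup H, (∀ α ∈ A, ∀ x ∈ M, α x ∈ M) → Φ ≤ M →
      (Φ.relIndex M = 1 ∨ Φ.relIndex M = p) → (M.index = 1 ∨ M.index = p) → False := by
    intro M hMinv hΦM hr1 hr2
    obtain ⟨h1, h2⟩ := hnu M (hMinv β hβA) hΦM hr1 hr2
    exact chain_false hH A hcore hβA hβ1 M hMinv (by rw [← hΦe]; exact h1) h2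
  have hidx : Φ.index = p ^ 2 := by
    obtain ⟨j, hj⟩ := hidxpow Φ
    have hj2 : j ≤ 2 := by
      by_contra hcon
      push Not at hcon
      have h : p ^ 2 < p ^ j := Nat.pow_lt_pow_right hp.one_lt hcon
      rw [← hj] at h
      exact absurd hidxle (not_le.mpr h)
    interval_cases j
    · exfalso
      exact hno Φ (fun α _ => hΦinv α) le_rfl (Or.inl (Subgroup.relIndex_self Φ))
        (Or.inl (by rw [hj, pow_zero]))
    · exfalso
      exact hno Φ (fun α _ => hΦinv α) le_rfl (Or.inl (Subgroup.relIndex_self Φ))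
        (Or.inr (by rw [hj, pow_one]))
    · exact hj
  have hirr : ∀ M : Subgroup H, (∀ α ∈ A, ∀ x ∈ M, α x ∈ M) → Φ ≤ M → M = Φ ∨ M = ⊤ := by
    intro M hMinv hΦM
    have hmul := Subgroup.relIndex_mul_index hΦM
    rw [hidx] at hmul
    obtain ⟨b, hb⟩ := hidxpow M
    have hdv : Φ.relIndex M ∣ p ^ 2 := Dvd.intro _ hmul
    obtain ⟨a, ha2, ha⟩ := (Nat.dvd_prime_pow hp).mp hdv
    rw [ha, hb, ← pow_add] at hmul
    have hab : a + b = 2 := Nat.pow_right_injective hp.two_le hmul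
    have ha' : a = 0 ∨ a = 1 ∨ a = 2 := by omega
    rcases ha' with rfl | rfl | rfl
    · left
      rw [pow_zero] at ha
      exact le_antisymm (Subgroup.relIndex_eq_one.mp ha) hΦM
    · exfalso
      have hb1 : b = 1 := by omega
      subst hb1
      exact hno M hMinv hΦM (Or.inr (by rw [ha, pow_one])) (Or.inr (by rw [hb, pow_one]))
    · right
      have hb0 : b = 0 := by omega
      subst hb0
      rw [pow_zero] at hb
      exact Subgroup.index_eq_one.mp hb
  have hex : ∃ k, ∀ x : H, x ^ p ^ k = 1 :=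
    ⟨kk, fun x => by rw [← hkk]; exact pow_card_eq_one'⟩
  obtain ⟨k, hk, hkmin⟩ : ∃ k, (∀ x : H, x ^ p ^ k = 1) ∧
      ∀ j < k, ¬ ∀ x : H, x ^ p ^ j = 1 :=
    ⟨Nat.find hex, Nat.find_spec hex, fun j hj => Nat.find_min hex hj⟩
  have hk0 : k ≠ 0 := by
    rintro rfl
    have hall : ∀ x : H, x = 1 := fun x => by simpa using hk x
    have hΦtop : Φ = ⊤ := by
      rw [eq_top_iff]
      intro x _
      rw [hall x]
      exact Φ.one_mem
    rw [hΦtop, Subgroup.index_top] at hidx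
    exact (Nat.one_lt_pow two_ne_zero hp.one_lt).ne hidx
  have hΩ : ∀ x : H, x ^ p ^ (k - 1) = 1 → x ∈ Φ := by
    obtain ⟨Om, hOm⟩ : ∃ Om : Subgroup H, ∀ x, x ∈ Om ↔ x ^ p ^ (k - 1) = 1 :=
      ⟨(powMonoidHom (p ^ (k - 1)) : H →* H).ker, fun x => by
        rw [MonoidHom.mem_ker, powMonoidHom_apply]⟩
    have hOminv : ∀ α : MulAut H, ∀ x ∈ Om, α x ∈ Om := by
      intro α x hx
      rw [hOm] at hx ⊢
      rw [← map_pow, hx, map_one]
    have hsupinv : ∀ α ∈ A, ∀ x ∈ Om ⊔ Φ, α x ∈ Om ⊔ Φ := by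
      intro α _ x hx
      obtain ⟨y, hy, z, hz, rfl⟩ := Subgroup.mem_sup.mp hx
      rw [map_mul]
      exact Subgroup.mul_mem_sup (hOminv α y hy) (hΦinv α z hz)
    rcases hirr (Om ⊔ Φ) hsupinv le_sup_right with h | h
    · intro x hx
      have h1 : x ∈ Om ⊔ Φ := (le_sup_left : Om ≤ Om ⊔ Φ) ((hOm x).mpr hx)
      rw [h] at h1
      exact h1
    · exfalso
      rw [← hfr] at h
      have htop : Om = ⊤ := frattini_nongenerating h
      apply hkmin (k - 1) (by omega)
      intro x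
      refine (hOm x).mp ?_
      rw [htop]
      exact Subgroup.mem_top x
  by_cases hk1 : k = 1
  · left
    subst hk1
    have hexp : ∀ x : H, x ^ p = 1 := fun x => by simpa using hk x
    refine ⟨hexp, ?_⟩
    have hΦbot : Φ = ⊥ := by
      rw [eq_bot_iff, hΦe]
      intro x hx
      obtain ⟨m, -, rfl⟩ := mem_pw.mp hx
      rw [Subgroup.mem_bot, pow_one]
      exact hexp m
    rw [hΦbot, Subgroup.index_bot] at hidx
    exact hidx
  · right
    have hk2 : 2 ≤ k := by omega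
    have hΩ1 : ∀ x : H, x ^ p = 1 → x ∈ Φ := by
      intro x hx
      apply hΩ
      obtain ⟨t, ht⟩ : ∃ t, k - 1 = t + 1 := ⟨k - 2, by omega⟩
      rw [ht, pow_succ', pow_mul, hx, one_pow]
    constructor
    · by_contra hp3
      push Not at hp3
      have hp4 : 4 ≤ p := hp3
      have hν := nu_mem_of_four_le hp4 β hβp (by rw [← hΦe]; exact hidx)
        (by rw [← hΦe]; exact hΩ1)
      exact chain_false hH A hcore hβA hβ1 ⊤ (fun _ _ x _ => Subgroup.mem_top _)
        (fun x _ => hν x) (fun x => Subgroup.mem_top _)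
    · refine ⟨k, ?_⟩
      have hfr2 : (frattini H).index = p ^ 2 := by
        rw [hfr]
        exact hidx
      haveI : Fintype H := Fintype.ofFinite H
      obtain ⟨T, -, hTcard, hTcl⟩ := (burnside_basis p 2 hH hfr2).1 Finset.univ
        (by rw [Finset.coe_univ, Subgroup.closure_univ])
      obtain ⟨x, y, hxy, rfl⟩ := Finset.card_eq_two.mp hTcard
      have hcl : Subgroup.closure ({x, y} : Set H) = ⊤ := by
        rw [← hTcl, Finset.coe_insert, Finset.coe_singleton]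
      have hgen : ∀ h : H, ∃ m n : ℤ, x ^ m * y ^ n = h := fun h =>
        Subgroup.mem_closure_pair.mp (by rw [hcl]; exact Subgroup.mem_top h)
      have hdiv : ∀ j : ℕ, j ≤ k → ∀ m n : ℤ, x ^ m * y ^ n = 1 →
          ((p : ℤ) ^ j ∣ m ∧ (p : ℤ) ^ j ∣ n) := by
        intro j
        induction j with
        | zero =>
          intro _ m n _
          simp
        | succ j ih =>
          intro hj m n hmn
          obtain ⟨⟨m', rfl⟩, ⟨n', rfl⟩⟩ := ih (by omega) m n hmn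
          have e1 : m' * ((p ^ j : ℕ) : ℤ) = (p : ℤ) ^ j * m' := by
            push_cast
            ring
          have e2 : n' * ((p ^ j : ℕ) : ℤ) = (p : ℤ) ^ j * n' := by
            push_cast
            ring
          have hz : (x ^ m' * y ^ n') ^ p ^ j = 1 := by
            rw [mul_pow, ← zpow_natCast, ← zpow_natCast, ← zpow_mul, ← zpow_mul, e1, e2]
            exact hmn
          have hzΦ : x ^ m' * y ^ n' ∈ Φ := by
            apply hΩ
            obtain ⟨t, ht⟩ : ∃ t, k - 1 = j + t := ⟨k - 1 - j, by omega⟩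
            rw [ht, pow_add, pow_mul, hz, one_pow]
          rw [← hfr] at hzΦ
          have h1 := indep_aux hH hfr2 x y hcl m' n' hzΦ
          have h2 := indep_aux hH hfr2 y x (by rw [Set.pair_comm]; exact hcl) n' m'
            (by rw [mul_comm]; exact hzΦ)
          constructor
          · rw [pow_succ]
            exact mul_dvd_mul_left _ h1
          · rw [pow_succ]
            exact mul_dvd_mul_left _ h2
      obtain ⟨fx, hfx⟩ : ∃ fx : ℤ →+ Additive H, ∀ z : ℤ, fx z = Additive.ofMul (x ^ z) :=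
        ⟨zmultiplesHom (Additive H) (Additive.ofMul x), fun z => rfl⟩
      obtain ⟨fy, hfy⟩ : ∃ fy : ℤ →+ Additive H, ∀ z : ℤ, fy z = Additive.ofMul (y ^ z) :=
        ⟨zmultiplesHom (Additive H) (Additive.ofMul y), fun z => rfl⟩
      have hfx0 : fx ((p ^ k : ℕ) : ℤ) = 0 := by
        rw [hfx, zpow_natCast, hk x]
        rfl
      have hfy0 : fy ((p ^ k : ℕ) : ℤ) = 0 := by
        rw [hfy, zpow_natCast, hk y]
        rfl
      obtain ⟨gx, hgx⟩ : ∃ gx : ZMod (p ^ k) →+ Additive H,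
          ∀ z : ℤ, gx (z : ZMod (p ^ k)) = Additive.ofMul (x ^ z) :=
        ⟨ZMod.lift (p ^ k) ⟨fx, hfx0⟩, fun z => by
          rw [← hfx]
          exact ZMod.lift_coe (p ^ k) ⟨fx, hfx0⟩ z⟩
      obtain ⟨gy, hgy⟩ : ∃ gy : ZMod (p ^ k) →+ Additive H,
          ∀ z : ℤ, gy (z : ZMod (p ^ k)) = Additive.ofMul (y ^ z) :=
        ⟨ZMod.lift (p ^ k) ⟨fy, hfy0⟩, fun z => by
          rw [← hfy]
          exact ZMod.lift_coe (p ^ k) ⟨fy, hfy0⟩ z⟩
      obtain ⟨F, hF⟩ : ∃ F : Multiplicative (ZMod (p ^ k) × ZMod (p ^ k)) →* H,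
          ∀ m n : ℤ, F (Multiplicative.ofAdd ((m : ZMod (p ^ k)), (n : ZMod (p ^ k))))
            = x ^ m * y ^ n := by
        refine ⟨AddMonoidHom.toMultiplicativeLeft (AddMonoidHom.coprod gx gy), fun m n => ?_⟩
        show Additive.toMul ((AddMonoidHom.coprod gx gy)
          ((m : ZMod (p ^ k)), (n : ZMod (p ^ k)))) = _
        rw [AddMonoidHom.coprod_apply]
        show Additive.toMul (gx (m : ZMod (p ^ k)) + gy (n : ZMod (p ^ k))) = _
        rw [hgx, hgy]
        rfl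
      have hFsurj : Function.Surjective F := by
        intro h
        obtain ⟨m, n, hmn⟩ := hgen h
        exact ⟨Multiplicative.ofAdd ((m : ZMod (p ^ k)), (n : ZMod (p ^ k))), by rw [hF, hmn]⟩
      have hFinj : Function.Injective F := by
        rw [injective_iff_map_eq_one]
        intro v hv
        obtain ⟨⟨a, b⟩, rfl⟩ := Multiplicative.ofAdd.surjective v
        obtain ⟨m, rfl⟩ := ZMod.intCast_surjective a
        obtain ⟨n, rfl⟩ := ZMod.intCast_surjective b
        rw [hF] at hv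
        obtain ⟨h1, h2⟩ := hdiv k le_rfl m n hv
        have e1 : ((m : ℤ) : ZMod (p ^ k)) = 0 := by
          rw [ZMod.intCast_zmod_eq_zero_iff_dvd]
          push_cast
          exact h1
        have e2 : ((n : ℤ) : ZMod (p ^ k)) = 0 := by
          rw [ZMod.intCast_zmod_eq_zero_iff_dvd]
          push_cast
          exact h2
        rw [e1, e2]
        rfl
      exact ⟨(MulEquiv.ofBijective F ⟨hFinj, hFsurj⟩).symm⟩

end rank2

variable {Ω : Type*} [Group Ω] {S : Subgroup Ω}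

/-- S5187 -/
theorem essential_abelian_rank_two [Finite S] (p : ℕ) [Fact p.Prime] (hS : IsPGroup p S)
    (F : FusionSystem S) (hF : F.IsSaturated p) (H : Subgroup Ω) (hH : F.IsEssential p H)
    (hab : IsMulCommutative ↥H) (hrk : (frattini ↥H).index ≤ p ^ 2) :
    (Cfsg.IsElementaryAbelian p H ∧ Nat.card H = p ^ 2) ∨
      (p ≤ 3 ∧ ∃ k : ℕ, Nonempty (↥H ≃* Multiplicative (ZMod (p ^ k) × ZMod (p ^ k)))) := by
  classical
  have hHS : H ≤ S := hH.1.1
  have hfinH : Finite H := finite_of_le hHS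
  have hcomm : ∀ a b : H, a * b = b * a := fun a b => hab.is_comm.comm a b
  have hrad := Cfsg.Agent.S5080.result p hS F hF H hH
  have hInn : Inn H = ⊥ := by
    rw [MonoidHom.range_eq_bot_iff]
    ext h x
    simp [MulAut.conj_apply, hcomm h x]
  have hcore : pCore p (F.autGroup H) = ⊥ := by
    have h1 := hrad.2
    rw [hInn] at h1
    exact (Subgroup.map_eq_bot_iff_of_injective _ (Subgroup.subtype_injective _)).mp h1
  have hdvd : p ∣ Nat.card (F.autGroup H) := by
    obtain ⟨-, -, hn, E, hE⟩ := hH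
    exact dvd_trans hE.1 (Subgroup.card_quotient_dvd_card _)
  have hHp : IsPGroup p H := isPGroup_of_le hS hHS
  letI : CommGroup H := { (inferInstance : Group H) with mul_comm := hcomm }
  rcases abelian_rank_two hHp (F.autGroup H) hcore hdvd hrk with ⟨hexp, hc⟩ | h
  · left
    refine ⟨⟨hab, fun a ha => ?_⟩, hc⟩
    have h1 := hexp ⟨a, ha⟩
    have h2 := congrArg (fun z : H => (z : Ω)) h1
    simpa using h2
  · right
    exact h

end Cfsg.Agent.Lib.Lead.Fus
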