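import Mathlib
import Cfsg.Agent.Lib.Lead.Fus12
import Cfsg.Agent.Lib.Helper1.MC3

set_option autoImplicit false

namespace Cfsg.Agent.Lib.Lead.Fus

open Cfsg Cfsg.FusionSystem Cfsg.Agent.Lib.Helper9 Cfsg.Agent.Lib.Helper1

section pcube

variable {G : Type*} [Group G]

theorem center_invariant (γ : MulAut G) :
    ∀ x ∈ Subgroup.center G, γ x ∈ Subgroup.center G := by
  intro x hx
  rw [Subgroup.mem_center_iff] at hx ⊢
  intro g
  have h := hx (γ⁻¹ g)
  have h2 := congrArg γ h
  rw [map_mul, map_mul, MulAut.apply_inv_self] at h2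
  exact h2

/-- a normal subgroup of index `p` : every endomorphism of `p`-power order preserving it acts
trivially on the quotient -/
theorem core_factor [Finite G] {p : ℕ} [Fact p.Prime] (N : Subgroup G) [N.Normal]
    (hidx : N.index = p) (γ : G →* G) (hγN : ∀ n ∈ N, γ n ∈ N) (e : ℕ)
    (hγ : ∀ x, (⇑γ)^[p ^ e] x = x) : ∀ x, x⁻¹ * γ x ∈ N := by
  have hp : p.Prime := Fact.out
  have hcardQ : Nat.card (G ⧸ N) = p := by
    rw [← Subgroup.index_eq_card]
    exact hidx
  obtain ⟨γb, hγb⟩ : ∃ γb : G ⧸ N →* G ⧸ N, ∀ x : G, γb (x : G ⧸ N) = ((γ x : G) : G ⧸ N) :=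
    ⟨QuotientGroup.map N N γ (fun n hn => hγN n hn), fun x => rfl⟩
  have hiter : ∀ (i : ℕ) (x : G), (⇑γb)^[i] (x : G ⧸ N) = (((⇑γ)^[i] x : G) : G ⧸ N) := by
    intro i
    induction i with
    | zero => intro x; rfl
    | succ i ih =>
      intro x
      rw [Function.iterate_succ_apply', Function.iterate_succ_apply', ih, hγb]
  have hγbid : ∀ y : G ⧸ N, (⇑γb)^[p ^ e] y = y := by
    intro y
    obtain ⟨x, rfl⟩ := QuotientGroup.mk_surjective y
    rw [hiter, hγ]
  obtain ⟨g, hg⟩ : ∃ g : G, g ∉ N := by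
    by_contra h
    push Not at h
    have htop : N = ⊤ := by
      rw [eq_top_iff]
      intro x _
      exact h x
    rw [htop, Subgroup.index_top] at hidx
    exact hp.one_lt.ne hidx
  obtain ⟨q, hq⟩ : ∃ q : G ⧸ N, q = (g : G ⧸ N) := ⟨_, rfl⟩
  have hq1 : q ≠ 1 := by
    rw [hq]
    intro h
    exact hg ((QuotientGroup.eq_one_iff g).mp h)
  have hqp : ∀ y : G ⧸ N, y ^ p = 1 := fun y => by
    rw [← hcardQ]
    exact pow_card_eq_one'
  have hord : orderOf q = p := orderOf_eq_prime (hqp q) hq1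
  have hgen : ∀ y : G ⧸ N, ∃ w : ℤ, q ^ w = y := by
    have htop : Subgroup.zpowers q = ⊤ := by
      apply Subgroup.eq_top_of_card_eq
      rw [Nat.card_zpowers, hord, hcardQ]
    intro y
    have hy : y ∈ Subgroup.zpowers q := by
      rw [htop]
      exact Subgroup.mem_top y
    exact Subgroup.mem_zpowers_iff.mp hy
  obtain ⟨z, hz⟩ := hgen (γb q)
  have hpowmap : ∀ y : G ⧸ N, γb y = y ^ z := by
    intro y
    obtain ⟨w, rfl⟩ := hgen y
    rw [map_zpow, ← hz, ← zpow_mul, ← zpow_mul, mul_comm]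
  have hiter2 : ∀ (i : ℕ) (y : G ⧸ N), (⇑γb)^[i] y = y ^ (z ^ i) := by
    intro i
    induction i with
    | zero => intro y; simp
    | succ i ih =>
      intro y
      rw [Function.iterate_succ_apply', ih, hpowmap, ← zpow_mul, pow_succ]
  have h1 : (p : ℤ) ∣ z ^ (p ^ e) - 1 := by
    have h := hiter2 (p ^ e) q
    rw [hγbid] at h
    have h' : q ^ (z ^ (p ^ e) - 1) = 1 := by
      rw [zpow_sub, zpow_one, ← h, mul_inv_cancel]
    have h3 := (orderOf_dvd_iff_zpow_eq_one).mpr h'
    rwa [hord] at h3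
  have h2 : (p : ℤ) ∣ z - 1 := by
    have h6 : ((z ^ (p ^ e) - 1 : ℤ) : ZMod p) = 0 :=
      (ZMod.intCast_zmod_eq_zero_iff_dvd _ _).mpr h1
    rw [Int.cast_sub, Int.cast_pow, Int.cast_one, ZMod.pow_card_pow] at h6
    have h7 : ((z - 1 : ℤ) : ZMod p) = 0 := by
      rw [Int.cast_sub, Int.cast_one]
      exact h6
    exact (ZMod.intCast_zmod_eq_zero_iff_dvd _ _).mp h7
  intro x
  obtain ⟨c, hc⟩ := h2
  have h3 : γb (x : G ⧸ N) = (x : G ⧸ N) := by
    rw [hpowmap]
    have hzc : z = 1 + p * c := by linarith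
    rw [hzc, zpow_add, zpow_one, zpow_mul, zpow_natCast, hqp, one_zpow, mul_one]
  rw [hγb] at h3
  exact QuotientGroup.eq.mp h3.symm

theorem factor_trivial_gen [Finite G] {p : ℕ} [Fact p.Prime] (β : MulAut G) (e : ℕ)
    (hβ : β ^ (p ^ e) = 1) (N M : Subgroup G) (hNM : N ≤ M)
    (hnorm : ∀ m ∈ M, ∀ n ∈ N, m * n * m⁻¹ ∈ N)
    (hN : ∀ x ∈ N, β x ∈ N) (hM : ∀ x ∈ M, β x ∈ M) (hidx : N.relIndex M = p) :
    ∀ x ∈ M, x⁻¹ * β x ∈ N := by
  haveI : (N.subgroupOf M).Normal := ⟨fun n hn m => by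
    rw [Subgroup.mem_subgroupOf] at hn ⊢
    exact hnorm m m.2 n hn⟩
  obtain ⟨γ, hγc⟩ : ∃ γ : M →* M, ∀ x : M, ((γ x : M) : G) = β (x : G) :=
    ⟨((β : G ≃* G).toMonoidHom.comp M.subtype).codRestrict M (fun x => hM x x.2), fun x => rfl⟩
  have hiter : ∀ (i : ℕ) (x : M), (((⇑γ)^[i] x : M) : G) = (β ^ i) (x : G) := by
    intro i
    induction i with
    | zero => intro x; simp
    | succ i ih =>
      intro x
      rw [Function.iterate_succ_apply', hγc, ih, pow_succ']
      rfl
  have h := core_factor (N.subgroupOf M) hidx γ (fun n hn => by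
      rw [Subgroup.mem_subgroupOf] at hn ⊢
      rw [hγc]
      exact hN _ hn) e (fun x => by
      apply Subtype.ext
      rw [hiter, hβ]
      rfl)
  intro x hx
  have h2 := h ⟨x, hx⟩
  rw [Subgroup.mem_subgroupOf] at h2
  have h3 : (((⟨x, hx⟩ : M)⁻¹ * γ ⟨x, hx⟩ : M) : G) = x⁻¹ * β x := by
    rw [Subgroup.coe_mul, Subgroup.coe_inv, hγc]
  rw [h3] at h2
  exact h2

theorem idx2 (N M : Subgroup G) (h2 : N.relIndex M = 2) {x y : G} (hx : x ∈ M) (hy : y ∈ M)
    (hxy : x ∈ N ↔ y ∈ N) : x⁻¹ * y ∈ N := by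
  have h := Subgroup.mul_mem_iff_of_index_two (H := N.subgroupOf M) h2
    (a := (⟨x, hx⟩ : M)⁻¹) (b := ⟨y, hy⟩)
  rw [Subgroup.mem_subgroupOf, Subgroup.mem_subgroupOf, Subgroup.mem_subgroupOf] at h
  have h3 : (((⟨x, hx⟩ : M)⁻¹ * ⟨y, hy⟩ : M) : G) ∈ N := by
    apply h.mpr
    show x⁻¹ ∈ N ↔ y ∈ N
    rw [inv_mem_iff]
    exact hxy
  exact h3

/-- the chain `⊥ ≤ Z ≤ M ≤ ⊤` -/
def ch3 (Z M : Subgroup G) (j : ℕ) : Subgroup G :=
  if j = 0 then ⊥ else if j = 1 then Z else if j = 2 then M else ⊤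

theorem ch3_zero (Z M : Subgroup G) : ch3 Z M 0 = ⊥ := by
  unfold ch3
  rw [if_pos rfl]

theorem ch3_one (Z M : Subgroup G) : ch3 Z M 1 = Z := by
  unfold ch3
  rw [if_neg (by omega), if_pos rfl]

theorem ch3_two (Z M : Subgroup G) : ch3 Z M 2 = M := by
  unfold ch3
  rw [if_neg (by omega), if_neg (by omega), if_pos rfl]

theorem ch3_ge (Z M : Subgroup G) {j : ℕ} (h : 3 ≤ j) : ch3 Z M j = ⊤ := by
  unfold ch3
  rw [if_neg (by omega), if_neg (by omega), if_neg (by omega)]

theorem ch3_invariant (Z M : Subgroup G) (γ : MulAut G) (hZ : ∀ x ∈ Z, γ x ∈ Z)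
    (hM : ∀ x ∈ M, γ x ∈ M) : ∀ j, ∀ x ∈ ch3 Z M j, γ x ∈ ch3 Z M j := by
  intro j
  unfold ch3
  split_ifs
  · intro x hx
    rw [Subgroup.mem_bot] at hx ⊢
    rw [hx, map_one]
  · exact hZ
  · exact hM
  · intro x _
    exact Subgroup.mem_top _

theorem ch3_stab (Z M : Subgroup G) (γ : MulAut G) (h0 : ∀ x ∈ Z, x⁻¹ * γ x = 1)
    (h1 : ∀ x ∈ M, x⁻¹ * γ x ∈ Z) (h2 : ∀ x, x⁻¹ * γ x ∈ M) :
    ∀ j, ∀ x ∈ ch3 Z M (j + 1), x⁻¹ * γ x ∈ ch3 Z M j := by
  intro j x hx
  by_cases hj0 : j = 0
  · subst hj0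
    rw [show (0 : ℕ) + 1 = 1 from rfl, ch3_one] at hx
    rw [ch3_zero, Subgroup.mem_bot]
    exact h0 x hx
  by_cases hj1 : j = 1
  · subst hj1
    rw [show (1 : ℕ) + 1 = 2 from rfl, ch3_two] at hx
    rw [ch3_one]
    exact h1 x hx
  by_cases hj2 : j = 2
  · subst hj2
    rw [ch3_two]
    exact h2 x
  · rw [ch3_ge Z M (by omega : 3 ≤ j)]
    exact Subgroup.mem_top _

theorem mul_pow_class_two (x y : G)
    (hc : ∀ g : G, g * (y⁻¹ * x⁻¹ * y * x) = (y⁻¹ * x⁻¹ * y * x) * g) :
    ∀ n : ℕ, (x * y) ^ n = x ^ n * y ^ n * (y⁻¹ * x⁻¹ * y * x) ^ (n.choose 2) := by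
  obtain ⟨c, hcdef⟩ : ∃ c : G, c = y⁻¹ * x⁻¹ * y * x := ⟨_, rfl⟩
  rw [← hcdef] at hc ⊢
  have hyx : y * x = x * y * c := by
    rw [hcdef]
    group
  have hcc : ∀ g : G, Commute c g := fun g => (hc g).symm
  have hA : ∀ n : ℕ, y ^ n * x = x * y ^ n * c ^ n := by
    intro n
    induction n with
    | zero => simp
    | succ n ih =>
      calc y ^ (n + 1) * x = y * (y ^ n * x) := by rw [pow_succ', mul_assoc]
        _ = y * (x * y ^ n * c ^ n) := by rw [ih]
        _ = (y * x) * (y ^ n * c ^ n) := by simp only [mul_assoc]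
        _ = (x * y * c) * (y ^ n * c ^ n) := by rw [hyx]
        _ = x * y * (c * y ^ n) * c ^ n := by simp only [mul_assoc]
        _ = x * y * (y ^ n * c) * c ^ n := by rw [(hcc (y ^ n)).eq]
        _ = x * (y * y ^ n) * (c * c ^ n) := by simp only [mul_assoc]
        _ = x * y ^ (n + 1) * c ^ (n + 1) := by rw [← pow_succ', ← pow_succ']
  intro n
  induction n with
  | zero => simp
  | succ n ih =>
    have hch : (n + 1).choose 2 = n + n.choose 2 := by
      have h := Nat.choose_succ_succ' n 1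
      rw [Nat.choose_one_right] at h
      exact h
    calc (x * y) ^ (n + 1) = (x * y) ^ n * (x * y) := pow_succ _ _
      _ = x ^ n * y ^ n * c ^ (n.choose 2) * (x * y) := by rw [ih]
      _ = x ^ n * y ^ n * ((x * y) * c ^ (n.choose 2)) := by
          rw [mul_assoc (x ^ n * y ^ n), ((hcc (x * y)).pow_left _).eq]
      _ = x ^ n * (y ^ n * x) * y * c ^ (n.choose 2) := by simp only [mul_assoc]
      _ = x ^ n * (x * y ^ n * c ^ n) * y * c ^ (n.choose 2) := by rw [hA]
      _ = x ^ n * x * y ^ n * (c ^ n * y) * c ^ (n.choose 2) := by simp only [mul_assoc]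
      _ = x ^ n * x * y ^ n * (y * c ^ n) * c ^ (n.choose 2) := by
          rw [((hcc y).pow_left n).eq]
      _ = (x ^ n * x) * (y ^ n * y) * (c ^ n * c ^ (n.choose 2)) := by simp only [mul_assoc]
      _ = x ^ (n + 1) * y ^ (n + 1) * c ^ ((n + 1).choose 2) := by
          rw [← pow_succ, ← pow_succ, ← pow_add, hch]

theorem extraspecial_of_card_cube [Finite G] {p : ℕ} [Fact p.Prime]
    (hcard : Nat.card G = p ^ 3) (hna : ¬ ∀ a b : G, a * b = b * a) :
    Nat.card (Subgroup.center G) = p ∧ commutator G = Subgroup.center G ∧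
      frattini G = Subgroup.center G ∧ ∀ x : G, x ^ p ∈ Subgroup.center G := by
  classical
  have hp : p.Prime := Fact.out
  have hG : IsPGroup p G := IsPGroup.of_card hcard
  haveI : Nontrivial G := by
    apply Finite.one_lt_card_iff_nontrivial.mp
    rw [hcard]
    exact Nat.one_lt_pow (by norm_num) hp.one_lt
  have hZtop : Subgroup.center G ≠ ⊤ := by
    intro htop
    apply hna
    intro a b
    have ha : a ∈ Subgroup.center G := by
      rw [htop]
      exact Subgroup.mem_top a
    exact (Subgroup.mem_center_iff.mp ha b).symm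
  have hncyc : ¬ IsCyclic (G ⧸ Subgroup.center G) := by
    intro hcyc
    haveI := hcyc
    have h := MonoidHom.isMulCommutative_of_isCyclic_of_ker_le_center
      (QuotientGroup.mk' (Subgroup.center G)) (by rw [QuotientGroup.ker_mk'])
    exact hna (fun a b => h.is_comm.comm a b)
  have hZcard : Nat.card (Subgroup.center G) = p := by
    have hZdvd : Nat.card (Subgroup.center G) ∣ p ^ 3 := by
      rw [← hcard]
      exact Subgroup.card_subgroup_dvd_card _
    obtain ⟨j, hj3, hj⟩ := (Nat.dvd_prime_pow hp).mp hZdvd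
    haveI := IsPGroup.center_nontrivial hG
    have h1 : 1 < Nat.card (Subgroup.center G) :=
      Finite.one_lt_card_iff_nontrivial.mpr inferInstance
    have hmul := Subgroup.card_mul_index (Subgroup.center G)
    rw [hj, hcard] at hmul
    interval_cases j
    · rw [hj, pow_zero] at h1
      exact absurd h1 (lt_irrefl 1)
    · rw [hj, pow_one]
    · exfalso
      have hidx : (Subgroup.center G).index = p := by
        have h : p ^ 2 * (Subgroup.center G).index = p ^ 2 * p := by
          rw [hmul]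
          ring
        exact Nat.eq_of_mul_eq_mul_left (pow_pos hp.pos 2) h
      have hQ : Nat.card (G ⧸ Subgroup.center G) = p := by
        rw [← Subgroup.index_eq_card]
        exact hidx
      exact hncyc (isCyclic_of_prime_card hQ)
    · exfalso
      exact hZtop (Subgroup.eq_top_of_card_eq _ (by rw [hj, hcard]))
  have hZidx : (Subgroup.center G).index = p ^ 2 := by
    have h := Subgroup.card_mul_index (Subgroup.center G)
    rw [hZcard, hcard, show p ^ 3 = p * p ^ 2 by ring] at h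
    exact Nat.eq_of_mul_eq_mul_left hp.pos h
  have hQ2 : Nat.card (G ⧸ Subgroup.center G) = p ^ 2 := by
    rw [← Subgroup.index_eq_card]
    exact hZidx
  have hQcomm : IsMulCommutative (G ⧸ Subgroup.center G) :=
    IsPGroup.isMulCommutative_of_card_eq_prime_sq hQ2
  have hcomm_le : commutator G ≤ Subgroup.center G :=
    Subgroup.Normal.quotient_commutative_iff_commutator_le.mp hQcomm
  have hcomm_ne : commutator G ≠ ⊥ := by
    intro h
    exact hZtop ((commutator_eq_bot_iff_center_eq_top G).mp h)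
  have hcm : commutator G = Subgroup.center G := by
    apply Subgroup.eq_of_le_of_card_ge hcomm_le
    have hdv := Subgroup.card_dvd_of_le hcomm_le
    rw [hZcard] at hdv ⊢
    rcases (Nat.dvd_prime hp).mp hdv with h | h
    · exact absurd (Subgroup.card_eq_one.mp h) hcomm_ne
    · exact h.ge
  have hpowZ : ∀ x : G, x ^ p ∈ Subgroup.center G := by
    intro x
    rw [← QuotientGroup.eq_one_iff, QuotientGroup.mk_pow]
    have hd : orderOf (x : G ⧸ Subgroup.center G) ∣ p ^ 2 := by
      rw [← hQ2]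
      exact orderOf_dvd_natCard _
    obtain ⟨j, hj, hjo⟩ := (Nat.dvd_prime_pow hp).mp hd
    interval_cases j
    · rw [pow_zero, orderOf_eq_one_iff] at hjo
      rw [hjo, one_pow]
    · rw [pow_one] at hjo
      rw [← hjo]
      exact pow_orderOf_eq_one _
    · exfalso
      exact hncyc (isCyclic_of_orderOf_eq_card _ (by rw [hjo, hQ2]))
  refine ⟨hZcard, hcm, ?_, hpowZ⟩
  apply le_antisymm
  · exact frattini_le_of_elementary_quotient p _ hcomm_le hpowZ
  · rw [← hcm]
    exact commutator_le_frattini_of_isPGroup p hG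

theorem exists_prime_ne_of_pCore_bot {X : Type*} [Group X] [Finite X] {p : ℕ} [Fact p.Prime]
    (hcore : pCore p X = ⊥) (hdvd : p ∣ Nat.card X) :
    ∃ r : ℕ, r.Prime ∧ r ≠ p ∧ r ∣ Nat.card X := by
  have hp : p.Prime := Fact.out
  by_contra hcon
  push Not at hcon
  have hall : ∀ {d : ℕ}, d.Prime → d ∣ Nat.card X → d = p := by
    intro d hd hdX
    by_contra hdp
    exact hcon d hd hdp hdX
  have hpow := Nat.eq_prime_pow_of_unique_prime_dvd (Nat.card_pos (α := X)).ne' hall
  have hXp : IsPGroup p X := IsPGroup.of_card hpow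
  have htop : (⊤ : Subgroup X) ≤ pCore p X :=
    le_pCore' (by infer_instance) (hXp.to_subgroup ⊤)
  rw [hcore] at htop
  have e := le_bot_iff.mp htop
  have hc1 := Subgroup.card_top (G := X)
  rw [e, Subgroup.card_bot] at hc1
  rw [← hc1] at hdvd
  exact hp.one_lt.ne' (Nat.dvd_one.mp hdvd)

theorem nonabelian_card_cube [Finite G] {p : ℕ} [Fact p.Prime] (hcard : Nat.card G = p ^ 3)
    (hna : ¬ ∀ a b : G, a * b = b * a) (A : Subgroup (MulAut G))
    (h1 : p ∣ (pCore p A).index)
    (h2 : ∃ α ∈ A, ∃ r : ℕ, r.Prime ∧ r ≠ p ∧ orderOf α = r) :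
    (Odd p ∧ Cfsg.IsExtraspecial p G ∧ ∀ x : G, x ^ p = 1) ∨
      (p = 2 ∧ Nonempty (G ≃* QuaternionGroup 2)) := by
  classical
  have hp : p.Prime := Fact.out
  have hG : IsPGroup p G := IsPGroup.of_card hcard
  obtain ⟨hZcard, hcm, hfr, hpowZ⟩ := extraspecial_of_card_cube hcard hna
  have hES : Cfsg.IsExtraspecial p G := ⟨⟨hG, hfr, hcm⟩, hZcard⟩
  have hZidx : (Subgroup.center G).index = p ^ 2 := by
    have h := Subgroup.card_mul_index (Subgroup.center G)
    rw [hZcard, hcard, show p ^ 3 = p * p ^ 2 by ring] at h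
    exact Nat.eq_of_mul_eq_mul_left hp.pos h
  by_cases hp2 : p = 2
  · right
    refine ⟨hp2, ?_⟩
    subst hp2
    obtain ⟨α, hαA, r, hr, hr2, hαr⟩ := h2
    have hcard8 : Nat.card G = 8 := by
      rw [hcard]
      norm_num
    refine MC.order_eight_case hcard8 hna α ?_
    intro M hM2 hMα
    have hαr1 : α ^ r = 1 := by
      rw [← hαr]
      exact pow_orderOf_eq_one α
    have hpowinv : ∀ N : Subgroup G, (∀ x ∈ N, α x ∈ N) →
        ∀ k : ℕ, ∀ x ∈ N, (α ^ k) x ∈ N := by
      intro N hN k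
      induction k with
      | zero =>
        intro x hx
        simpa using hx
      | succ k ih =>
        intro x hx
        rw [pow_succ]
        exact ih _ (hN x hx)
    have hback : ∀ N : Subgroup G, (∀ x ∈ N, α x ∈ N) → ∀ x, α x ∈ N → x ∈ N := by
      intro N hN x hx
      have h := hpowinv N hN (r - 1) (α x) hx
      have h3 : (α ^ (r - 1)) (α x) = x := by
        have h4 : α ^ (r - 1) * α = 1 := by
          rw [← pow_succ, Nat.sub_add_cancel hr.one_lt.le, hαr1]
        have h5 := congrArg (fun f : MulAut G => f x) h4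
        simpa using h5
      rwa [h3] at h
    haveI hMn : M.Normal := Subgroup.normal_of_index_eq_two hM2
    have hZM : Subgroup.center G ≤ M := by
      rw [← hcm]
      have hQ2 : Nat.card (G ⧸ M) = 2 := by
        rw [← Subgroup.index_eq_card]
        exact hM2
      haveI : IsCyclic (G ⧸ M) := isCyclic_of_prime_card hQ2
      exact Subgroup.Normal.quotient_commutative_iff_commutator_le.mp
        ⟨⟨IsCyclic.commGroup.mul_comm⟩⟩
    have hrZM : (Subgroup.center G).relIndex M = 2 := by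
      have h := Subgroup.relIndex_mul_index hZM
      rw [hM2, hZidx] at h
      omega
    have hZα : ∀ x ∈ Subgroup.center G, α x ∈ Subgroup.center G := center_invariant α
    have hinvbot : ∀ x ∈ (⊥ : Subgroup G), α x ∈ (⊥ : Subgroup G) := by
      intro x hx
      rw [Subgroup.mem_bot] at hx ⊢
      rw [hx, map_one]
    have hs0 : ∀ x ∈ Subgroup.center G, x⁻¹ * α x = 1 := by
      intro x hx
      have hb : (⊥ : Subgroup G).relIndex (Subgroup.center G) = 2 := by
        rw [Subgroup.relIndex_bot_left, hZcard]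
      have h := idx2 ⊥ (Subgroup.center G) hb hx (hZα x hx) ⟨hinvbot x, hback ⊥ hinvbot x⟩
      exact Subgroup.mem_bot.mp h
    have hs1 : ∀ x ∈ M, x⁻¹ * α x ∈ Subgroup.center G := fun x hx =>
      idx2 (Subgroup.center G) M hrZM hx (hMα x hx) ⟨hZα x, hback _ hZα x⟩
    have hs2 : ∀ x : G, x⁻¹ * α x ∈ M := fun x =>
      idx2 M ⊤ (by rw [Subgroup.relIndex_top_right]; exact hM2) (Subgroup.mem_top _)
        (Subgroup.mem_top _) ⟨hMα x, hback M hMα x⟩
    have hinvA : ∀ γ ∈ Subgroup.zpowers α, ∀ j, ∀ x ∈ ch3 (Subgroup.center G) M j,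
        γ x ∈ ch3 (Subgroup.center G) M j := by
      intro γ hγ
      rw [← mem_powers_iff_mem_zpowers] at hγ
      obtain ⟨k, rfl⟩ := (Submonoid.mem_powers_iff _ _).mp hγ
      exact ch3_invariant _ _ _ (hpowinv _ hZα k) (hpowinv _ hMα k)
    have hPG := stabChain_isPGroup hG (Subgroup.zpowers α) (ch3 (Subgroup.center G) M) hinvA
      (ch3_zero _ _) 3 (ch3_ge _ _ le_rfl)
    have hαmem : α ∈ stabChain (Subgroup.zpowers α) (ch3 (Subgroup.center G) M) hinvA :=
      ⟨Subgroup.mem_zpowers α, ch3_stab _ _ α hs0 hs1 hs2⟩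
    obtain ⟨k, hk⟩ := hPG ⟨α, hαmem⟩
    have hk' : α ^ 2 ^ k = 1 := by
      have h5 := congrArg Subtype.val hk
      simpa using h5
    have hdvd : r ∣ 2 ^ k := by
      rw [← hαr]
      exact orderOf_dvd_of_pow_eq_one hk'
    exact hr2 ((Nat.prime_dvd_prime_iff_eq hr Nat.prime_two).mp (hr.dvd_of_dvd_pow hdvd))
  · left
    have hodd : Odd p := hp.odd_of_ne_two hp2
    refine ⟨hodd, hES, ?_⟩
    by_contra hexp
    push Not at hexp
    obtain ⟨x₁, hx₁⟩ := hexp
    have hcen : ∀ x y : G, y⁻¹ * x⁻¹ * y * x ∈ Subgroup.center G := by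
      intro x y
      rw [← hcm, commutator_def]
      have h := Subgroup.commutator_mem_commutator (Subgroup.mem_top y⁻¹) (Subgroup.mem_top x⁻¹)
      rw [commutatorElement_def, inv_inv, inv_inv] at h
      exact h
    have hZp : ∀ z ∈ Subgroup.center G, z ^ p = 1 := by
      intro z hz
      have h := pow_card_eq_one' (G := Subgroup.center G) (x := ⟨z, hz⟩)
      rw [hZcard] at h
      have h5 := congrArg Subtype.val h
      simpa using h5
    have hp3 : 2 < p := by
      have := hp.two_le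
      omega
    have hmulpow : ∀ x y : G, (x * y) ^ p = x ^ p * y ^ p := by
      intro x y
      have hc := hcen x y
      rw [mul_pow_class_two x y (fun g => (Subgroup.mem_center_iff.mp hc g)) p]
      obtain ⟨d, hd⟩ := hp.dvd_choose_self two_ne_zero hp3
      rw [hd, pow_mul, hZp _ hc, one_pow, mul_one]
    obtain ⟨φ, hφ⟩ : ∃ φ : G →* G, ∀ x, φ x = x ^ p :=
      ⟨{ toFun := fun x => x ^ p, map_one' := one_pow p, map_mul' := hmulpow }, fun x => rfl⟩
    obtain ⟨Om, hOm⟩ : ∃ Om : Subgroup G, Om = φ.ker := ⟨_, rfl⟩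
    have hOmmem : ∀ x, x ∈ Om ↔ x ^ p = 1 := by
      intro x
      rw [hOm, MonoidHom.mem_ker, hφ]
    have hOmn : Om.Normal := by
      rw [hOm]
      infer_instance
    have hZOm : Subgroup.center G ≤ Om := fun z hz => (hOmmem z).mpr (hZp z hz)
    have hOmidx : Om.index = p := by
      rw [hOm, Subgroup.index_ker]
      have hle : φ.range ≤ Subgroup.center G := by
        rintro _ ⟨x, rfl⟩
        rw [hφ]
        exact hpowZ x
      have hne : φ.range ≠ ⊥ := by
        intro h
        apply hx₁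
        have h5 : φ x₁ ∈ φ.range := ⟨x₁, rfl⟩
        rw [h, Subgroup.mem_bot, hφ] at h5
        exact h5
      have hdv := Subgroup.card_dvd_of_le hle
      rw [hZcard] at hdv
      rcases (Nat.dvd_prime hp).mp hdv with h | h
      · exact absurd (Subgroup.card_eq_one.mp h) hne
      · exact h
    have hOminv : ∀ γ : MulAut G, ∀ x ∈ Om, γ x ∈ Om := by
      intro γ x hx
      rw [hOmmem] at hx ⊢
      rw [← map_pow, hx, map_one]
    have hrZOm : (Subgroup.center G).relIndex Om = p := by
      have h := Subgroup.relIndex_mul_index hZOm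
      rw [hOmidx, hZidx, sq] at h
      exact Nat.eq_of_mul_eq_mul_right hp.pos h
    obtain ⟨P⟩ : Nonempty (Sylow p A) := inferInstance
    have hinv : ∀ γ ∈ A, ∀ j, ∀ x ∈ ch3 (Subgroup.center G) Om j,
        γ x ∈ ch3 (Subgroup.center G) Om j :=
      fun γ _ => ch3_invariant _ _ γ (center_invariant γ) (hOminv γ)
    have hPle : (P : Subgroup A) ≤
        (stabChain A (ch3 (Subgroup.center G) Om) hinv).subgroupOf A := by
      intro β hβ
      rw [Subgroup.mem_subgroupOf]
      refine ⟨β.2, ?_⟩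
      obtain ⟨k, hk⟩ := P.isPGroup' ⟨β, hβ⟩
      have hk' : (β : MulAut G) ^ p ^ k = 1 := by
        have h5 := congrArg (fun z : P => ((z : A) : MulAut G)) hk
        simpa using h5
      refine ch3_stab _ _ (β : MulAut G) ?_ ?_ ?_
      · intro x hx
        have h := factor_trivial_gen (β : MulAut G) k hk' ⊥ (Subgroup.center G) bot_le
          (fun m _ n hn => by
            rw [Subgroup.mem_bot] at hn ⊢
            rw [hn, mul_one, mul_inv_cancel])
          (fun x hx => by
            rw [Subgroup.mem_bot] at hx ⊢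
            rw [hx, map_one])
          (center_invariant _) (by rw [Subgroup.relIndex_bot_left, hZcard]) x hx
        exact Subgroup.mem_bot.mp h
      · exact factor_trivial_gen (β : MulAut G) k hk' (Subgroup.center G) Om hZOm
          (fun m _ n hn => by
            have h5 := Subgroup.mem_center_iff.mp hn m
            rw [h5, mul_inv_cancel_right]
            exact hn)
          (center_invariant _) (hOminv _) hrZOm
      · intro x
        exact factor_trivial_gen (β : MulAut G) k hk' Om ⊤ le_top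
          (fun m _ n hn => hOmn.conj_mem n hn m)
          (hOminv _) (fun x _ => Subgroup.mem_top _)
          (by rw [Subgroup.relIndex_top_right]; exact hOmidx) x (Subgroup.mem_top _)
    have hle2 : (stabChain A (ch3 (Subgroup.center G) Om) hinv).subgroupOf A ≤ pCore p A :=
      le_pCore' (stabChain_normal A _ hinv)
        (stabChain_isPGroup hG A _ hinv (ch3_zero _ _) 3 (ch3_ge _ _ le_rfl)).comap_subtype
    have hdvd2 : (pCore p A).index ∣ (P : Subgroup A).index :=
      Subgroup.index_dvd_of_le (hPle.trans hle2)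
    exact P.not_dvd_index (dvd_trans h1 hdvd2)

end pcube

variable {Ω : Type*} [Group Ω] {S : Subgroup Ω}

/-- S5186 -/
theorem essential_card_cube [Finite S] (p : ℕ) [Fact p.Prime] (hS : IsPGroup p S)
    (F : FusionSystem S) (hF : F.IsSaturated p) (H : Subgroup Ω) (hH : F.IsEssential p H)
    (hcard : Nat.card H = p ^ 3) :
    Cfsg.IsElementaryAbelian p H ∨
      (Odd p ∧ Cfsg.IsExtraspecial p ↥H ∧ ∀ x ∈ H, x ^ p = 1) ∨
      (p = 2 ∧ Nonempty (↥H ≃* QuaternionGroup 2)) := by
  classical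
  have hp : p.Prime := Fact.out
  have hHS : H ≤ S := hH.1.1
  have hfinH : Finite H := finite_of_le hHS
  have hrad := Cfsg.Agent.S5080.result p hS F hF H hH
  have hHp : IsPGroup p H := isPGroup_of_le hS hHS
  obtain ⟨-, -, hn, E, hE⟩ := hH
  haveI := hn
  have hQdvd : p ∣ Nat.card (F.autGroup H ⧸ (Inn H).subgroupOf (F.autGroup H)) := hE.1
  have hdvd : p ∣ Nat.card (F.autGroup H) :=
    dvd_trans hQdvd (Subgroup.card_quotient_dvd_card _)
  have hcoreQ := pCore_eq_bot_of_stronglyPEmbedded hE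
  have hpc : pCore p (F.autGroup H) = (Inn H).subgroupOf (F.autGroup H) := by
    ext x
    rw [Subgroup.mem_subgroupOf, ← hrad.2, Subgroup.mem_map]
    constructor
    · intro hx
      exact ⟨x, hx, rfl⟩
    · rintro ⟨y, hy, hyx⟩
      have hyx' : y = x := Subtype.ext hyx
      rw [← hyx']
      exact hy
  by_cases hab : ∀ a b : H, a * b = b * a
  · left
    have hInn : Inn H = ⊥ := by
      rw [MonoidHom.range_eq_bot_iff]
      ext h x
      simp [MulAut.conj_apply, hab h x]
    have hcore : pCore p (F.autGroup H) = ⊥ := by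
      have h1 := hrad.2
      rw [hInn] at h1
      exact (Subgroup.map_eq_bot_iff_of_injective _ (Subgroup.subtype_injective _)).mp h1
    letI : CommGroup H := { (inferInstance : Group H) with mul_comm := hab }
    by_cases hfr : frattini H = ⊥
    · refine ⟨⟨⟨hab⟩⟩, fun a ha => ?_⟩
      have h1 := pow_prime_mem_frattini_of_isPGroup p hHp (⟨a, ha⟩ : H)
      rw [hfr, Subgroup.mem_bot] at h1
      have h2 := congrArg (fun z : H => (z : Ω)) h1
      simpa using h2
    · exfalso
      have hrk : (frattini H).index ≤ p ^ 2 := by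
        have hdv : (frattini H).index ∣ p ^ 3 := by
          rw [← hcard]
          exact (frattini H).index_dvd_card
        obtain ⟨j, hj3, hj⟩ := (Nat.dvd_prime_pow hp).mp hdv
        have hj2 : j ≤ 2 := by
          by_contra hcon
          have hj3' : j = 3 := by omega
          subst hj3'
          have h := Subgroup.card_mul_index (frattini H)
          rw [hj, hcard] at h
          have h1 : Nat.card (frattini H) = 1 :=
            Nat.eq_of_mul_eq_mul_right (pow_pos hp.pos 3) (h.trans (one_mul _).symm)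
          exact hfr (Subgroup.card_eq_one.mp h1)
        rw [hj]
        exact Nat.pow_le_pow_right hp.pos hj2
      rcases abelian_rank_two hHp (F.autGroup H) hcore hdvd hrk with ⟨-, hc⟩ | ⟨-, k, ⟨e⟩⟩
      · rw [hcard] at hc
        exact absurd (Nat.pow_right_injective hp.two_le hc) (by norm_num)
      · have hc := Nat.card_congr e.toEquiv
        rw [hcard] at hc
        have h2 : Nat.card (Multiplicative (ZMod (p ^ k) × ZMod (p ^ k))) = p ^ (2 * k) := by
          show Nat.card (ZMod (p ^ k) × ZMod (p ^ k)) = _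
          rw [Nat.card_prod, Nat.card_zmod, ← pow_add, two_mul]
        rw [h2] at hc
        have h3 := Nat.pow_right_injective hp.two_le hc
        omega
  · right
    have h1 : p ∣ (pCore p (F.autGroup H)).index := by
      rw [hpc, Subgroup.index_eq_card]
      exact hQdvd
    have h2 : ∃ α ∈ F.autGroup H, ∃ r : ℕ, r.Prime ∧ r ≠ p ∧ orderOf α = r := by
      obtain ⟨r, hr, hrp, hrQ⟩ := exists_prime_ne_of_pCore_bot hcoreQ hQdvd
      haveI := Fact.mk hr
      obtain ⟨a, ha⟩ := exists_prime_orderOf_dvd_card' r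
        (dvd_trans hrQ (Subgroup.card_quotient_dvd_card _))
      exact ⟨(a : MulAut H), a.2, r, hr, hrp, by rw [Subgroup.orderOf_coe]; exact ha⟩
    rcases nonabelian_card_cube hcard hab (F.autGroup H) h1 h2 with ⟨ho, hes, hexp⟩ | ⟨h2', hq⟩
    · left
      refine ⟨ho, hes, fun a ha => ?_⟩
      have h3 := hexp ⟨a, ha⟩
      have h4 := congrArg (fun z : H => (z : Ω)) h3
      simpa using h4
    · right
      exact ⟨h2', hq⟩

end Cfsg.Agent.Lib.Lead.Fus
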