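import Cfsg.Agent.Lib.Lead.St2C

set_option autoImplicit false

/-!
# The rank one Steinberg presentation of `SL₂(K)`, `K` a finite field (part D)
-/

namespace Cfsg.Agent.Lib.Lead.St2A

variable {K : Type*} [Field K]

def Xm (t : K) : Matrix.SpecialLinearGroup (Fin 2) K :=
  ⟨!![1, t; 0, 1], by rw [Matrix.det_fin_two_of]; ring⟩

def Ym (t : K) : Matrix.SpecialLinearGroup (Fin 2) K :=
  ⟨!![1, 0; t, 1], by rw [Matrix.det_fin_two_of]; ring⟩

theorem Xm_val (t : K) :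
    ((Xm t : Matrix.SpecialLinearGroup (Fin 2) K) : Matrix (Fin 2) (Fin 2) K) = !![1, t; 0, 1] :=
  rfl

theorem Ym_val (t : K) :
    ((Ym t : Matrix.SpecialLinearGroup (Fin 2) K) : Matrix (Fin 2) (Fin 2) K) = !![1, 0; t, 1] :=
  rfl

theorem Xm_add (t u : K) : Xm t * Xm u = Xm (t + u) := by
  apply Subtype.ext
  rw [Matrix.SpecialLinearGroup.coe_mul, Xm_val, Xm_val, Xm_val, Matrix.mul_fin_two]
  apply mat2_ext <;> ring

theorem Ym_add (t u : K) : Ym t * Ym u = Ym (t + u) := by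
  apply Subtype.ext
  rw [Matrix.SpecialLinearGroup.coe_mul, Ym_val, Ym_val, Ym_val, Matrix.mul_fin_two]
  apply mat2_ext <;> ring

theorem wm_eq (t : K) (ht : t ≠ 0) :
    ((Xm t * Ym (-t⁻¹) * Xm t : Matrix.SpecialLinearGroup (Fin 2) K) :
      Matrix (Fin 2) (Fin 2) K) = !![0, t; -t⁻¹, 0] := by
  rw [Matrix.SpecialLinearGroup.coe_mul, Matrix.SpecialLinearGroup.coe_mul, Xm_val, Ym_val,
    Matrix.mul_fin_two, Matrix.mul_fin_two]
  apply mat2_ext <;> (try field_simp) <;> (try ring)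

theorem wm'_eq (t : K) (ht : t ≠ 0) :
    ((Ym t * Xm (-t⁻¹) * Ym t : Matrix.SpecialLinearGroup (Fin 2) K) :
      Matrix (Fin 2) (Fin 2) K) = !![0, -t⁻¹; t, 0] := by
  rw [Matrix.SpecialLinearGroup.coe_mul, Matrix.SpecialLinearGroup.coe_mul, Xm_val, Ym_val,
    Matrix.mul_fin_two, Matrix.mul_fin_two]
  apply mat2_ext <;> (try field_simp) <;> (try ring)

theorem relXm (t u : K) (ht : t ≠ 0) :
    (Xm t * Ym (-t⁻¹) * Xm t) * Xm u * (Xm t * Ym (-t⁻¹) * Xm t)⁻¹ = Ym (-(t⁻¹ ^ 2 * u)) := by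
  have h : (Xm t * Ym (-t⁻¹) * Xm t) * Xm u = Ym (-(t⁻¹ ^ 2 * u)) * (Xm t * Ym (-t⁻¹) * Xm t) := by
    have hW := wm_eq t ht
    generalize (Xm t * Ym (-t⁻¹) * Xm t) = W at hW ⊢
    apply Subtype.ext
    rw [Matrix.SpecialLinearGroup.coe_mul, Matrix.SpecialLinearGroup.coe_mul, hW, Xm_val, Ym_val,
      Matrix.mul_fin_two, Matrix.mul_fin_two]
    apply mat2_ext <;> (try field_simp) <;> (try ring)
  rw [h]; group

theorem relYm (t u : K) (ht : t ≠ 0) :
    (Ym t * Xm (-t⁻¹) * Ym t) * Ym u * (Ym t * Xm (-t⁻¹) * Ym t)⁻¹ = Xm (-(t⁻¹ ^ 2 * u)) := by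
  have h : (Ym t * Xm (-t⁻¹) * Ym t) * Ym u = Xm (-(t⁻¹ ^ 2 * u)) * (Ym t * Xm (-t⁻¹) * Ym t) := by
    have hW := wm'_eq t ht
    generalize (Ym t * Xm (-t⁻¹) * Ym t) = W at hW ⊢
    apply Subtype.ext
    rw [Matrix.SpecialLinearGroup.coe_mul, Matrix.SpecialLinearGroup.coe_mul, hW, Xm_val, Ym_val,
      Matrix.mul_fin_two, Matrix.mul_fin_two]
    apply mat2_ext <;> (try field_simp) <;> (try ring)
  rw [h]; group

/-- The defining relations of the rank one Steinberg presentation. -/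
def rels (K : Type*) [Field K] : Set (FreeGroup (Bool × K)) :=
  {g : FreeGroup (Bool × K) | ∃ (b : Bool) (t u : K), g = FreeGroup.of (b, t) * FreeGroup.of (b, u) * (FreeGroup.of (b, t + u))⁻¹} ∪
          {g | ∃ (b : Bool) (t u : K), t ≠ 0 ∧
            g = (FreeGroup.of (b, t) * FreeGroup.of (!b, -t⁻¹) * FreeGroup.of (b, t)) * FreeGroup.of (b, u) *
                  (FreeGroup.of (b, t) * FreeGroup.of (!b, -t⁻¹) * FreeGroup.of (b, t))⁻¹ * (FreeGroup.of (!b, -(t⁻¹ ^ 2 * u)))⁻¹}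

theorem pg_rel1 (b : Bool) (t u : K) :
    (PresentedGroup.of (b, t) : PresentedGroup (rels K)) * PresentedGroup.of (b, u) =
      PresentedGroup.of (b, t + u) := by
  have hmem : FreeGroup.of (b, t) * FreeGroup.of (b, u) * (FreeGroup.of (b, t + u))⁻¹ ∈ rels K :=
    Or.inl ⟨b, t, u, rfl⟩
  have h1 := PresentedGroup.one_of_mem hmem
  rw [map_mul, map_mul, map_inv] at h1
  exact mul_inv_eq_one.mp h1

theorem pg_rel2 (b : Bool) (t u : K) (ht : t ≠ 0) :
    ((PresentedGroup.of (b, t) : PresentedGroup (rels K)) * PresentedGroup.of (!b, -t⁻¹) *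
        PresentedGroup.of (b, t)) * PresentedGroup.of (b, u) *
      (PresentedGroup.of (b, t) * PresentedGroup.of (!b, -t⁻¹) * PresentedGroup.of (b, t))⁻¹ =
      PresentedGroup.of (!b, -(t⁻¹ ^ 2 * u)) := by
  have hmem : (FreeGroup.of (b, t) * FreeGroup.of (!b, -t⁻¹) * FreeGroup.of (b, t)) *
      FreeGroup.of (b, u) *
      (FreeGroup.of (b, t) * FreeGroup.of (!b, -t⁻¹) * FreeGroup.of (b, t))⁻¹ *
      (FreeGroup.of (!b, -(t⁻¹ ^ 2 * u)))⁻¹ ∈ rels K :=
    Or.inr ⟨b, t, u, ht, rfl⟩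
  have h1 := PresentedGroup.one_of_mem hmem
  simp only [map_mul, map_inv] at h1
  exact mul_inv_eq_one.mp h1

/-- The tautological rank one Steinberg datum in the presented group. -/
def stPG (K : Type*) [Field K] : St K (PresentedGroup (rels K)) where
  X t := PresentedGroup.of (true, t)
  Y t := PresentedGroup.of (false, t)
  X_add t u := pg_rel1 true t u
  Y_add t u := pg_rel1 false t u
  relX t u ht := pg_rel2 true t u ht
  relY t u ht := pg_rel2 false t u ht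

theorem hgenPG (K : Type*) [Field K] :
    Subgroup.closure (Set.range (stPG K).X ∪ Set.range (stPG K).Y) = ⊤ := by
  rw [eq_top_iff, ← PresentedGroup.closure_range_of (rels K)]
  apply Subgroup.closure_mono
  rintro _ ⟨⟨b, t⟩, rfl⟩
  cases b
  · exact Or.inr ⟨t, rfl⟩
  · exact Or.inl ⟨t, rfl⟩

def fm (p : Bool × K) : Matrix.SpecialLinearGroup (Fin 2) K := cond p.1 (Xm p.2) (Ym p.2)

theorem fm_rels : ∀ r ∈ rels K, FreeGroup.lift (fm (K := K)) r = 1 := by
  rintro r (⟨b, t, u, rfl⟩ | ⟨b, t, u, ht, rfl⟩)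
  · simp only [map_mul, map_inv, FreeGroup.lift_apply_of]
    cases b
    · exact mul_inv_eq_one.mpr (Ym_add t u)
    · exact mul_inv_eq_one.mpr (Xm_add t u)
  · simp only [map_mul, map_inv, FreeGroup.lift_apply_of]
    cases b
    · exact mul_inv_eq_one.mpr (relYm t u ht)
    · exact mul_inv_eq_one.mpr (relXm t u ht)

def piPG (K : Type*) [Field K] :
    PresentedGroup (rels K) →* Matrix.SpecialLinearGroup (Fin 2) K :=
  PresentedGroup.toGroup fm_rels

theorem piPG_X (t : K) :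
    ((piPG K (PresentedGroup.of (true, t)) : Matrix.SpecialLinearGroup (Fin 2) K) :
      Matrix (Fin 2) (Fin 2) K) = !![1, t; 0, 1] := by
  have h : piPG K (PresentedGroup.of (true, t)) = fm (true, t) :=
    PresentedGroup.toGroup.of fm_rels
  rw [h]; rfl

theorem piPG_Y (t : K) :
    ((piPG K (PresentedGroup.of (false, t)) : Matrix.SpecialLinearGroup (Fin 2) K) :
      Matrix (Fin 2) (Fin 2) K) = !![1, 0; t, 1] := by
  have h : piPG K (PresentedGroup.of (false, t)) = fm (false, t) :=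
    PresentedGroup.toGroup.of fm_rels
  rw [h]; rfl

theorem steinberg_presentation_SL2 (K : Type*) [Field K] [Finite K] :
    ∃ e : PresentedGroup (rels K) ≃* Matrix.SpecialLinearGroup (Fin 2) K,
      (∀ t : K, ((e (PresentedGroup.of (true, t)) : Matrix (Fin 2) (Fin 2) K)) = !![1, t; 0, 1]) ∧
      (∀ t : K, ((e (PresentedGroup.of (false, t)) : Matrix (Fin 2) (Fin 2) K)) = !![1, 0; t, 1]) := by
  have hb := pi_bijective (stPG K) (piPG K) (fun t => piPG_X t) (fun t => piPG_Y t) (hgenPG K)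
  exact ⟨MulEquiv.ofBijective (piPG K) hb, fun t => piPG_X t, fun t => piPG_Y t⟩

end Cfsg.Agent.Lib.Lead.St2A
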