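import Mathlib

namespace Cfsg.Agent.Lib.Lead.IndexTwo

/-- a homomorphism to a finite `2`-group which is non-trivial gives a subgroup of index `2` -/
theorem exists_index_two_of_hom {G A : Type*} [Group G] [Group A] [Finite A] (hA : IsPGroup 2 A)
    (f : G →* A) (g : G) (hg : f g ≠ 1) : ∃ H : Subgroup G, H.index = 2 := by
  have hQ : IsPGroup 2 f.range := hA.to_subgroup f.range
  obtain ⟨j, hj⟩ := IsPGroup.iff_card.mp hQ
  have hj1 : j ≠ 0 := by
    rintro rfl
    rw [pow_zero, Subgroup.card_eq_one] at hj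
    apply hg
    have : f g ∈ f.range := ⟨g, rfl⟩
    rw [hj, Subgroup.mem_bot] at this
    exact this
  obtain ⟨K, hK⟩ := Sylow.exists_subgroup_card_pow_prime (G := ↥f.range) 2 (n := j - 1)
    (by rw [hj]; exact pow_dvd_pow 2 (by omega))
  have hKi : K.index = 2 := by
    have h1 := Subgroup.card_mul_index K
    rw [hK, hj] at h1
    have h2 : (2 : ℕ) ^ j = 2 ^ (j - 1) * 2 := by
      rw [← pow_succ]
      congr 1
      omega
    rw [h2] at h1
    exact Nat.eq_of_mul_eq_mul_left (pow_pos (by norm_num) _) h1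
  refine ⟨K.comap f.rangeRestrict, ?_⟩
  rw [Subgroup.index_comap_of_surjective K f.rangeRestrict_surjective, hKi]

end Cfsg.Agent.Lib.Lead.IndexTwo
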