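import Mathlib
import Cfsg.Prelude.Def_FusionReduction
import Cfsg.Agent.Lib.Helper2.Involves

set_option autoImplicit false

namespace Cfsg.Agent.Lib.Lead.Fus

open Cfsg Cfsg.FusionSystem Cfsg.Agent.Lib.Helper2.Inv

universe u v w

theorem involves_of_injective_hom {Q : Type u} [Group Q] {X : Type v} [Group X] {Y : Type w} [Group Y]
    (j : X →* Y) (hj : Function.Injective j) (h : Cfsg.Involves Q X) : Cfsg.Involves Q Y := by
  have h1 : Cfsg.Involves Q j.range := involves_of_equiv (MonoidHom.ofInjective hj) h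
  exact involves_of_subgroup j.range h1

theorem involves_of_surj_hom {Q : Type u} [Group Q] {X : Type v} [Group X]
    (ψ : X →* Q) (hψ : Function.Surjective ψ) : Cfsg.Involves Q X :=
  involves_of_surjective ⊤ (ψ.comp (Subgroup.topEquiv : (⊤ : Subgroup X) ≃* X).toMonoidHom)
    (hψ.comp (Subgroup.topEquiv : (⊤ : Subgroup X) ≃* X).surjective)

/-- A `p`-group involved in a finite group `L` is involved in every group into which a Sylow
`p`-subgroup of `L` embeds. -/
theorem involves_sylow_of_involves {Q : Type u} [Group Q] {L : Type v} [Group L] [Finite L]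
    {Y : Type w} [Group Y] (p : ℕ) [Fact p.Prime] (hQ : IsPGroup p Q) (T : Sylow p L)
    (ι : Y →* L) (hι : Function.Injective ι) (hT : (T : Subgroup L) = ι.range)
    (h : Cfsg.Involves Q L) : Cfsg.Involves Q Y := by
  obtain ⟨K, φ, hφ⟩ := exists_surjective_of_involves h
  obtain ⟨P₁⟩ : Nonempty (Sylow p K) := inferInstance
  have htop : (⊤ : Subgroup Q) = ((P₁.mapSurjective hφ : Sylow p Q) : Subgroup Q) :=
    (P₁.mapSurjective hφ).is_maximal' (Q := ⊤) (hQ.to_subgroup ⊤) le_top
  have hsurj : Function.Surjective (φ.comp (P₁ : Subgroup K).subtype) := by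
    intro q
    have hq : q ∈ ((P₁.mapSurjective hφ : Sylow p Q) : Subgroup Q) := by rw [← htop]; trivial
    rw [Sylow.coe_mapSurjective] at hq
    obtain ⟨x, hx, hxq⟩ := hq
    exact ⟨⟨x, hx⟩, hxq⟩
  have hinv0 : Cfsg.Involves Q ↥(P₁ : Subgroup K) := involves_of_surj_hom _ hsurj
  -- embed `P₁` into `Y`
  have hP1 : IsPGroup p ↥((P₁ : Subgroup K).map K.subtype) := P₁.isPGroup'.map K.subtype
  obtain ⟨T', hT'⟩ := IsPGroup.exists_le_sylow hP1
  obtain ⟨g, hg⟩ := MulAction.exists_smul_eq L T' T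
  have hmem : ∀ x : ↥(P₁ : Subgroup K), g * ((x : K) : L) * g⁻¹ ∈ ι.range := by
    intro x
    have hx' : ((x : K) : L) ∈ (T' : Subgroup L) := hT' ⟨(x : K), x.2, rfl⟩
    have h1 := Subgroup.smul_mem_pointwise_smul _ (MulAut.conj g) (T' : Subgroup L) hx'
    rw [← Sylow.pointwise_smul_def, ← Sylow.smul_def, hg, hT] at h1
    simpa [MulAut.smul_def] using h1
  let j₁ : ↥(P₁ : Subgroup K) →* ι.range :=
    MonoidHom.codRestrict ((MulAut.conj g).toMonoidHom.comp
      (K.subtype.comp (P₁ : Subgroup K).subtype)) ι.range hmem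
  have hj1 : Function.Injective j₁ := by
    intro a b hab
    have h1 : g * ((a : K) : L) * g⁻¹ = g * ((b : K) : L) * g⁻¹ := congrArg Subtype.val hab
    have h2 : ((a : K) : L) = ((b : K) : L) := mul_left_cancel (mul_right_cancel h1)
    exact Subtype.ext (Subtype.ext h2)
  let j₂ : ι.range →* Y := (MonoidHom.ofInjective hι).symm.toMonoidHom
  have hj2 : Function.Injective j₂ := (MonoidHom.ofInjective hι).symm.injective
  exact involves_of_injective_hom (j₂.comp j₁) (hj2.comp hj1) hinv0

theorem sectionFree_of_not_involved {Ω : Type u} [Group Ω] {S : Subgroup Ω} (p : ℕ) [Fact p.Prime]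
    (F : Cfsg.FusionSystem S) (H : Type v) [Group H] (Q : Subgroup H) (hQ : IsPGroup p Q)
    (hfree : ¬ Cfsg.Involves (↥Q) (↥S)) : F.IsSectionFree p H := by
  intro Q' _ _ N _ L _ ι hmodel hinv
  obtain ⟨hfin, hreal, ⟨T, hT⟩, -⟩ := hmodel
  haveI := hfin
  apply hfree
  have hQL : Cfsg.Involves Q L := involves_trans (involves_subgroup Q) hinv
  have h1 : Cfsg.Involves Q ↥(normalizerIn S Q') :=
    involves_sylow_of_involves p hQ T ι hreal.1 hT hQL
  exact involves_of_injective_hom (Subgroup.inclusion (inf_le_left : normalizerIn S Q' ≤ S))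
    (Subgroup.inclusion_injective _) h1

end Cfsg.Agent.Lib.Lead.Fus
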