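import Cfsg.Agent.Lib.Helper4.RankOneGrp
import Cfsg.Prelude.Def_Transfer

set_option autoImplicit false

namespace Cfsg.Agent.Lib.Lead.SpecialRankOne

open Cfsg Cfsg.Agent.Lib.Helper4.RankOneGrp

variable {G : Type*} [Group G]

/-- Special rank one group with abelian unipotent subgroups (bundled, elementwise). -/
structure SP (A B : Subgroup G) : Prop where
  top : A ⊔ B = ⊤
  pair : IsRankOnePair A B
  spec : ∀ a ∈ A, a ≠ 1 → ∀ b ∈ B, b ≠ 1 → conjBy A b⁻¹ = conjBy B a⁻¹ →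
    b⁻¹ * a * b = a⁻¹ * b⁻¹ * a
  commA : ∀ a ∈ A, ∀ a' ∈ A, a * a' = a' * a
  commB : ∀ b ∈ B, ∀ b' ∈ B, b * b' = b' * b

variable {A B : Subgroup G}

theorem SP.symm (h : SP A B) : SP B A where
  top := by rw [sup_comm]; exact h.top
  pair := RankOnePair_symm h.pair
  spec := by
    intro b hb hb1 a ha ha1 hc
    have e := h.spec a ha ha1 b hb hb1 hc.symm
    calc a⁻¹ * b * a = (a⁻¹ * b⁻¹ * a)⁻¹ := by group
      _ = (b⁻¹ * a * b)⁻¹ := by rw [e]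
      _ = b⁻¹ * a⁻¹ * b := by group
  commA := h.commB
  commB := h.commA

theorem spec_left (h : SP A B) {x y : G} (hx : x ∈ A) (hx1 : x ≠ 1) (hy : y ∈ B) (hy1 : y ≠ 1)
    (hc : conjBy A y = conjBy B x) : y * x⁻¹ * y⁻¹ = x * y * x⁻¹ := by
  have e := h.spec x⁻¹ (inv_mem hx) (inv_ne_one.mpr hx1) y⁻¹ (inv_mem hy) (inv_ne_one.mpr hy1)
    (by rw [inv_inv, inv_inv]; exact hc)
  simp only [inv_inv] at e
  exact e

open Classical in
/-- the element of `B` attached to `x ∈ A` (left-conjugation normalisation) -/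
noncomputable def beta (A B : Subgroup G) (x : G) : G :=
  if hx : ∃ y, y ∈ B ∧ y ≠ 1 ∧ conjBy A y = conjBy B x then hx.choose else 1

theorem beta_spec (h : IsRankOnePair A B) {x : G} (hx : x ∈ A) (hx1 : x ≠ 1) :
    beta A B x ∈ B ∧ beta A B x ≠ 1 ∧ conjBy A (beta A B x) = conjBy B x := by
  have hex : ∃ y, y ∈ B ∧ y ≠ 1 ∧ conjBy A y = conjBy B x := by
    obtain ⟨b, hb, hb1, hc⟩ := h.cond_left x⁻¹ (inv_mem hx) (inv_ne_one.mpr hx1)
    rw [inv_inv] at hc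
    exact ⟨b⁻¹, inv_mem hb, inv_ne_one.mpr hb1, hc⟩
  unfold beta
  rw [dif_pos hex]
  exact hex.choose_spec

theorem beta_unique (h : IsRankOnePair A B) {x y : G} (hx : x ∈ A) (hx1 : x ≠ 1) (hy : y ∈ B)
    (hc : conjBy A y = conjBy B x) : y = beta A B x := by
  obtain ⟨h1, -, h3⟩ := beta_spec h hx hx1
  exact conjBy_right_inj (RankOnePair_symm h) hy h1 (hc.trans h3.symm)

theorem alpha_beta (h : IsRankOnePair A B) {x : G} (hx : x ∈ A) (hx1 : x ≠ 1) :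
    beta B A (beta A B x) = x := by
  obtain ⟨h1, h2, h3⟩ := beta_spec h hx hx1
  exact (beta_unique (RankOnePair_symm h) h1 h2 hx h3.symm).symm

theorem conj_cases (h : SP A B) (g : G) :
    conjBy A g = A ∨ ∃ a ∈ A, conjBy A g = conjBy B a :=
  unipotent_cases h.pair ⟨g, by rw [h.top]; exact Subgroup.mem_top g, rfl⟩

theorem inf_eq_one (h : IsRankOnePair A B) {z : G} (hzA : z ∈ A) (hzB : z ∈ B) : z = 1 :=
  eq_one_of_mem_normalizer h hzA (Subgroup.le_normalizer hzB)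

theorem ti_left (h : SP A B) {g z : G} (hz : z ∈ A) (hz1 : z ≠ 1) (hzg : z ∈ conjBy A g) :
    conjBy A g = A := by
  rcases conj_cases h g with e | ⟨a, ha, e⟩
  · exact e
  · exfalso
    rw [e, mem_conjBy] at hzg
    have h1 : a⁻¹ * z * a ∈ A := mul_mem (mul_mem (inv_mem ha) hz) ha
    have h2 := inf_eq_one h.pair h1 hzg
    apply hz1
    calc z = a * (a⁻¹ * z * a) * a⁻¹ := by group
      _ = 1 := by rw [h2]; group

theorem ti_right (h : SP A B) {g z : G} (hz : z ∈ B) (hz1 : z ≠ 1) (hzg : z ∈ conjBy A g) :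
    conjBy A g = B := by
  obtain ⟨s, -, hs⟩ := right_mem_unipotent h.pair
  have hA : A = conjBy B s⁻¹ := conjBy_eq_iff.mp hs.symm
  have e : conjBy A g = conjBy B (g * s⁻¹) := by
    conv_lhs => rw [hA]
    rw [conjBy_conjBy]
  rw [e] at hzg ⊢
  exact ti_left h.symm hz hz1 hzg

theorem braid_conj_left {s t : G} (hb : s * t * s = t * s * t) :
    (s * t * s) * s * (s * t * s)⁻¹ = t := by
  have : (s * t * s) * s = t * (s * t * s) := by
    calc (s * t * s) * s = (t * s * t) * s := by rw [hb]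
      _ = t * (s * t * s) := by group
  rw [this, mul_inv_cancel_right]

theorem braid_conj_right {s t : G} (hb : s * t * s = t * s * t) :
    (s * t * s) * t * (s * t * s)⁻¹ = s := by
  have : (s * t * s) * t = s * (s * t * s) := by
    calc (s * t * s) * t = s * (t * s * t) := by group
      _ = s * (s * t * s) := by rw [hb]
  rw [this, mul_inv_cancel_right]

/-- the "Weyl element" attached to `x`, `y` -/
def nn (x y : G) : G := x⁻¹ * y * x⁻¹

section xy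

variable {x y : G}

theorem braid (h : SP A B) (hx : x ∈ A) (hx1 : x ≠ 1) (hy : y ∈ B) (hy1 : y ≠ 1)
    (hc : conjBy A y = conjBy B x) : x⁻¹ * y * x⁻¹ = y * x⁻¹ * y := by
  have e := spec_left h hx hx1 hy hy1 hc
  calc x⁻¹ * y * x⁻¹ = x⁻¹ * (y * x⁻¹ * y⁻¹) * y := by group
    _ = x⁻¹ * (x * y * x⁻¹) * y := by rw [e]
    _ = y * x⁻¹ * y := by group

theorem nn_conj_x_inv (h : SP A B) (hx : x ∈ A) (hx1 : x ≠ 1) (hy : y ∈ B) (hy1 : y ≠ 1)
    (hc : conjBy A y = conjBy B x) : nn x y * x⁻¹ * (nn x y)⁻¹ = y := by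
  unfold nn
  exact braid_conj_left (braid h hx hx1 hy hy1 hc)

theorem nn_conj_y (h : SP A B) (hx : x ∈ A) (hx1 : x ≠ 1) (hy : y ∈ B) (hy1 : y ≠ 1)
    (hc : conjBy A y = conjBy B x) : nn x y * y * (nn x y)⁻¹ = x⁻¹ := by
  unfold nn
  exact braid_conj_right (braid h hx hx1 hy hy1 hc)

theorem nn_conj_x (h : SP A B) (hx : x ∈ A) (hx1 : x ≠ 1) (hy : y ∈ B) (hy1 : y ≠ 1)
    (hc : conjBy A y = conjBy B x) : nn x y * x * (nn x y)⁻¹ = y⁻¹ := by
  have e := nn_conj_x_inv h hx hx1 hy hy1 hc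
  calc nn x y * x * (nn x y)⁻¹ = (nn x y * x⁻¹ * (nn x y)⁻¹)⁻¹ := by group
    _ = y⁻¹ := by rw [e]

theorem nn_inv_conj_x (h : SP A B) (hx : x ∈ A) (hx1 : x ≠ 1) (hy : y ∈ B) (hy1 : y ≠ 1)
    (hc : conjBy A y = conjBy B x) : (nn x y)⁻¹ * x * nn x y = y⁻¹ := by
  have e := nn_conj_y h hx hx1 hy hy1 hc
  calc (nn x y)⁻¹ * x * nn x y
      = (nn x y)⁻¹ * (nn x y * y * (nn x y)⁻¹)⁻¹ * nn x y := by rw [e, inv_inv]
    _ = y⁻¹ := by group

theorem nn_inv_conj_pow (h : SP A B) (hx : x ∈ A) (hx1 : x ≠ 1) (hy : y ∈ B) (hy1 : y ≠ 1)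
    (hc : conjBy A y = conjBy B x) (k : ℕ) : (nn x y)⁻¹ * x ^ k * nn x y = (y ^ k)⁻¹ := by
  have e := nn_inv_conj_x h hx hx1 hy hy1 hc
  have e2 := conj_pow (i := k) (a := (nn x y)⁻¹) (b := x)
  rw [inv_inv] at e2
  rw [← e2, e, inv_pow]

theorem nn_conj_pow (h : SP A B) (hx : x ∈ A) (hx1 : x ≠ 1) (hy : y ∈ B) (hy1 : y ≠ 1)
    (hc : conjBy A y = conjBy B x) (k : ℕ) : nn x y * x ^ k * (nn x y)⁻¹ = (y ^ k)⁻¹ := by
  have e := nn_conj_x h hx hx1 hy hy1 hc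
  have e2 := conj_pow (i := k) (a := nn x y) (b := x)
  rw [← e2, e, inv_pow]

theorem nA (h : SP A B) (hx : x ∈ A) (hx1 : x ≠ 1) (hy : y ∈ B) (hy1 : y ≠ 1)
    (hc : conjBy A y = conjBy B x) : conjBy A (nn x y) = B := by
  refine ti_right h (inv_mem hy) (inv_ne_one.mpr hy1) ?_
  rw [← nn_conj_x h hx hx1 hy hy1 hc]
  exact conj_mem_conjBy hx

theorem nB (h : SP A B) (hx : x ∈ A) (hx1 : x ≠ 1) (hy : y ∈ B) (hy1 : y ≠ 1)
    (hc : conjBy A y = conjBy B x) : conjBy B (nn x y) = A := by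
  refine ti_right h.symm (inv_mem hx) (inv_ne_one.mpr hx1) ?_
  rw [← nn_conj_y h hx hx1 hy hy1 hc]
  exact conj_mem_conjBy hy

theorem nB' (h : SP A B) (hx : x ∈ A) (hx1 : x ≠ 1) (hy : y ∈ B) (hy1 : y ≠ 1)
    (hc : conjBy A y = conjBy B x) : conjBy B (nn x y)⁻¹ = A :=
  (conjBy_eq_iff.mp (nA h hx hx1 hy hy1 hc)).symm

theorem conj_inv (h : SP A B) (hx : x ∈ A) (hx1 : x ≠ 1) (hy : y ∈ B) (hy1 : y ≠ 1)
    (hc : conjBy A y = conjBy B x) : conjBy A y⁻¹ = conjBy B x⁻¹ := by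
  have e1 : conjBy B (y * x⁻¹ * y) = A := by
    rw [← braid h hx hx1 hy hy1 hc]
    exact nB h hx hx1 hy hy1 hc
  rw [← conjBy_conjBy, conjBy_of_mem hy, ← conjBy_conjBy] at e1
  exact (conjBy_eq_iff.mp e1).symm

end xy

theorem beta_inv (h : SP A B) {x : G} (hx : x ∈ A) (hx1 : x ≠ 1) :
    beta A B x⁻¹ = (beta A B x)⁻¹ := by
  obtain ⟨h1, h2, h3⟩ := beta_spec h.pair hx hx1
  exact (beta_unique h.pair (inv_mem hx) (inv_ne_one.mpr hx1) (inv_mem h1)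
    (conj_inv h hx hx1 h1 h2 h3)).symm

theorem beta_pow_eq_one (h : SP A B) {x : G} (hx : x ∈ A) (hx1 : x ≠ 1) (k : ℕ) :
    x ^ k = 1 ↔ (beta A B x) ^ k = 1 := by
  obtain ⟨h1, h2, h3⟩ := beta_spec h.pair hx hx1
  have e := nn_conj_pow h hx hx1 h1 h2 h3 k
  constructor
  · intro hk
    have : (beta A B x ^ k)⁻¹ = 1 := by rw [← e, hk, mul_one, mul_inv_cancel]
    exact inv_eq_one.mp this
  · intro hk
    rw [hk, inv_one] at e
    exact conj_eq_one_iff.mp e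

theorem key_raw (h : SP A B) {x : G} (hx : x ∈ A) (hx1 : x ≠ 1) (k : ℕ) (hk : x ^ k ≠ 1)
    (hk1 : x ^ (k + 1) ≠ 1) :
    x⁻¹ * beta B A ((beta A B x ^ k)⁻¹) ≠ 1 ∧
      beta A B (x ^ (k + 1)) =
        beta A B x * beta A B (x⁻¹ * beta B A ((beta A B x ^ k)⁻¹)) := by
  have hb := beta_spec h.pair hx hx1
  have hp := beta_pow_eq_one h hx hx1 k
  generalize beta A B x = y at hb hp ⊢
  obtain ⟨h1, h2, h3⟩ := hb
  have hyk : y ^ k ≠ 1 := fun e => hk (hp.mpr e)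
  have hw1 : (y ^ k)⁻¹ ≠ 1 := inv_ne_one.mpr hyk
  have hwB : (y ^ k)⁻¹ ∈ B := inv_mem (pow_mem h1 k)
  have hu := beta_spec h.symm.pair hwB hw1
  generalize beta B A ((y ^ k)⁻¹) = u at hu ⊢
  obtain ⟨u1, u2, u3⟩ := hu
  have s1 : conjBy B ((nn x y)⁻¹ * x ^ k) = conjBy A ((y ^ k)⁻¹) := by
    have e0 : (nn x y)⁻¹ * x ^ k = ((nn x y)⁻¹ * x ^ k * nn x y) * (nn x y)⁻¹ := by group
    rw [e0, ← conjBy_conjBy, nB' h hx hx1 h1 h2 h3, nn_inv_conj_pow h hx hx1 h1 h2 h3]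
  have s2 : (nn x y)⁻¹ * x ^ k = x * y⁻¹ * x ^ (k + 1) := by
    unfold nn
    rw [pow_succ']
    group
  rw [s2, ← conjBy_conjBy] at s1
  have s3 : conjBy B (x ^ (k + 1)) = conjBy A (y * x⁻¹ * (y ^ k)⁻¹) := by
    rw [conjBy_eq_iff] at s1
    rw [s1, conjBy_conjBy]
    congr 1
    group
  have s4 : conjBy A (y * x⁻¹ * (y ^ k)⁻¹) = conjBy B (y * (x⁻¹ * u)) := by
    rw [← conjBy_conjBy A ((y ^ k)⁻¹) (y * x⁻¹), ← u3, conjBy_conjBy, mul_assoc]
  have hv : x⁻¹ * u ≠ 1 := by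
    intro hv
    rw [s4, hv, mul_one, conjBy_of_mem h1] at s3
    exact hk1 (eq_one_of_mem_normalizer h.pair (pow_mem hx _) (conjBy_eq_self_iff.mp s3))
  have hvA : x⁻¹ * u ∈ A := mul_mem (inv_mem hx) u1
  obtain ⟨v1, v2, v3⟩ := beta_spec h.pair hvA hv
  refine ⟨hv, ?_⟩
  have s5 : conjBy A (y * beta A B (x⁻¹ * u)) = conjBy B (x ^ (k + 1)) := by
    rw [s3, s4, ← conjBy_conjBy, v3, conjBy_conjBy]
  exact (beta_unique h.pair (pow_mem hx _) hk1 (mul_mem h1 v1) s5).symm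

theorem key (h : SP A B) {x : G} (hx : x ∈ A) (hx1 : x ≠ 1) (k : ℕ) (hk : x ^ k ≠ 1)
    (hk1 : x ^ (k + 1) ≠ 1) :
    x * beta B A (beta A B x ^ k) ≠ 1 ∧
      beta A B (x ^ (k + 1)) =
        beta A B x * (beta A B (x * beta B A (beta A B x ^ k)))⁻¹ := by
  obtain ⟨y1, y2, y3⟩ := beta_spec h.pair hx hx1
  have hyk : beta A B x ^ k ≠ 1 := fun e => hk ((beta_pow_eq_one h hx hx1 k).mpr e)
  have hykB : beta A B x ^ k ∈ B := pow_mem y1 k
  obtain ⟨c1, c2, c3⟩ := beta_spec h.symm.pair hykB hyk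
  obtain ⟨r1, r2⟩ := key_raw h hx hx1 k hk hk1
  rw [beta_inv h.symm hykB hyk] at r1 r2
  have e : x⁻¹ * (beta B A (beta A B x ^ k))⁻¹ = (x * beta B A (beta A B x ^ k))⁻¹ := by
    rw [mul_inv_rev, h.commA _ (inv_mem hx) _ (inv_mem c1)]
  rw [e] at r1 r2
  have hxc : x * beta B A (beta A B x ^ k) ≠ 1 := fun e' => r1 (by rw [e', inv_one])
  rw [beta_inv h (mul_mem hx c1) hxc] at r2
  exact ⟨hxc, r2⟩

theorem Ek (k : ℕ) : ∀ (A B : Subgroup G), SP A B → ∀ x : G, x ∈ A → x ≠ 1 → x ^ k ≠ 1 →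
    (beta A B (x ^ k)) ^ k = beta A B x := by
  induction k with
  | zero =>
    intro A B h x hx hx1 hk
    exact absurd (pow_zero x) hk
  | succ k ih =>
    intro A B h x hx hx1 hk1
    by_cases hk : x ^ k = 1
    · have e : x ^ (k + 1) = x := by rw [pow_succ, hk, one_mul]
      have hy : (beta A B x) ^ k = 1 := (beta_pow_eq_one h hx hx1 k).mp hk
      rw [e, pow_succ, hy, one_mul]
    · obtain ⟨y1, y2, y3⟩ := beta_spec h.pair hx hx1
      have hyk : beta A B x ^ k ≠ 1 := fun e => hk ((beta_pow_eq_one h hx hx1 k).mpr e)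
      have hykB : beta A B x ^ k ∈ B := pow_mem y1 k
      have hc := beta_spec h.symm.pair hykB hyk
      have hck : (beta B A (beta A B x ^ k)) ^ k = x := by
        have := ih B A h.symm (beta A B x) y1 y2 hyk
        rw [alpha_beta h.pair hx hx1] at this
        exact this
      have hr := key h hx hx1 k hk hk1
      generalize beta B A (beta A B x ^ k) = c at hc hck hr
      obtain ⟨c1, c2, c3⟩ := hc
      obtain ⟨r1, r2⟩ := hr
      have he : x * c = c ^ (k + 1) := by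
        rw [pow_succ, hck]
      rw [he] at r2
      have hek : (c ^ (k + 1)) ^ k = x ^ (k + 1) := by
        rw [← pow_mul, mul_comm, pow_mul, hck]
      have hcA : c ^ (k + 1) ∈ A := pow_mem c1 _
      have hek1 : (c ^ (k + 1)) ^ k ≠ 1 := by rw [hek]; exact hk1
      have he1 : c ^ (k + 1) ≠ 1 := by
        intro e
        apply hek1
        rw [e, one_pow]
      have hih := ih A B h (c ^ (k + 1)) hcA he1 hek1
      rw [hek] at hih
      obtain ⟨e1, -, -⟩ := beta_spec h.pair hcA he1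
      rw [pow_succ (beta A B (x ^ (k + 1))) k, hih, r2, ← mul_assoc, h.commB _ e1 _ y1,
        mul_inv_cancel_right]

theorem exists_root (h : SP A B) {a : G} (ha : a ∈ A) (ha1 : a ≠ 1) (n : ℕ) (hn : a ^ n ≠ 1) :
    ∃ c ∈ A, c ^ n = a := by
  obtain ⟨y1, y2, y3⟩ := beta_spec h.pair ha ha1
  have hyn : (beta A B a) ^ n ≠ 1 := fun e => hn ((beta_pow_eq_one h ha ha1 n).mpr e)
  obtain ⟨c1, -, -⟩ := beta_spec h.symm.pair (pow_mem y1 n) hyn
  refine ⟨beta B A ((beta A B a) ^ n), c1, ?_⟩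
  have := Ek n B A h.symm (beta A B a) y1 y2 hyn
  rw [alpha_beta h.pair ha ha1] at this
  exact this

theorem exists_prime_order {a : G} (ha : a ∈ A) (ha1 : a ≠ 1) (hfin : IsOfFinOrder a) :
    ∃ p : ℕ, p.Prime ∧ ∃ a0 ∈ A, a0 ≠ 1 ∧ a0 ^ p = 1 := by
  have hm0 : orderOf a ≠ 0 := (hfin.orderOf_pos).ne'
  have hm1 : orderOf a ≠ 1 := fun e => ha1 (orderOf_eq_one_iff.mp e)
  have hpp : (orderOf a).minFac.Prime := Nat.minFac_prime hm1
  have hpd : (orderOf a).minFac ∣ orderOf a := Nat.minFac_dvd _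
  have ho := orderOf_pow_orderOf_div hm0 hpd
  refine ⟨(orderOf a).minFac, hpp, a ^ (orderOf a / (orderOf a).minFac), pow_mem ha _, ?_, ?_⟩
  · intro e
    rw [e, orderOf_one] at ho
    exact hpp.one_lt.ne ho
  · have hpo : (a ^ (orderOf a / (orderOf a).minFac)) ^
        orderOf (a ^ (orderOf a / (orderOf a).minFac)) = 1 := pow_orderOf_eq_one _
    rw [ho] at hpo
    exact hpo

theorem main (h : SP A B) :
    (∃ p : ℕ, p.Prime ∧ ∀ a ∈ A, a ^ p = 1) ∨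
    ((∀ a ∈ A, a ≠ 1 → ¬ IsOfFinOrder a) ∧
      ∀ a ∈ A, ∀ n : ℕ, 0 < n → ∃ c ∈ A, c ^ n = a) := by
  by_cases ht : ∃ a ∈ A, a ≠ 1 ∧ IsOfFinOrder a
  · left
    obtain ⟨a, ha, ha1, hfin⟩ := ht
    obtain ⟨p, hpp, a0, ha0, ha01, ha0p⟩ := exists_prime_order ha ha1 hfin
    refine ⟨p, hpp, ?_⟩
    intro x hx
    by_contra hxp
    have hx1 : x ≠ 1 := by
      intro e
      apply hxp
      rw [e, one_pow]
    have hz : (x * a0) ^ p = x ^ p := by
      rw [(show Commute x a0 from h.commA x hx a0 ha0).mul_pow, ha0p, mul_one]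
    have hzp : (x * a0) ^ p ≠ 1 := by rw [hz]; exact hxp
    have hz1 : x * a0 ≠ 1 := by
      intro e
      apply hzp
      rw [e, one_pow]
    obtain ⟨c1, hc1, hc1p⟩ := exists_root h hx hx1 p hxp
    obtain ⟨c2, hc2, hc2p⟩ := exists_root h (mul_mem hx ha0) hz1 p hzp
    have hc : (c2 * c1⁻¹) ^ p = a0 := by
      rw [(show Commute c2 c1⁻¹ from h.commA c2 hc2 c1⁻¹ (inv_mem hc1)).mul_pow, inv_pow,
        hc1p, hc2p, h.commA x hx a0 ha0, mul_inv_cancel_right]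
    have hcA : c2 * c1⁻¹ ∈ A := mul_mem hc2 (inv_mem hc1)
    have hcp : (c2 * c1⁻¹) ^ p ≠ 1 := by rw [hc]; exact ha01
    have hc1' : c2 * c1⁻¹ ≠ 1 := by
      intro e
      apply hcp
      rw [e, one_pow]
    have hE := Ek p A B h (c2 * c1⁻¹) hcA hc1' hcp
    rw [hc, (beta_pow_eq_one h ha0 ha01 p).mp ha0p] at hE
    exact (beta_spec h.pair hcA hc1').2.1 hE.symm
  · right
    have ht' : ∀ a ∈ A, a ≠ 1 → ¬ IsOfFinOrder a := fun a ha ha1 hf => ht ⟨a, ha, ha1, hf⟩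
    refine ⟨ht', ?_⟩
    intro a ha n hn
    by_cases ha1 : a = 1
    · exact ⟨1, one_mem _, by rw [ha1, one_pow]⟩
    · have : a ^ n ≠ 1 := fun e => ht' a ha ha1 (isOfFinOrder_iff_pow_eq_one.mpr ⟨n, hn, e⟩)
      exact exists_root h ha ha1 n this

end Cfsg.Agent.Lib.Lead.SpecialRankOne
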