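import Cfsg.Agent.Lib.Lead.St2E
import Cfsg.Agent.Lib.Lead.SpecialRankOne

set_option autoImplicit false

/-!
# Special rank one groups: the subgroup `⟨a, b(a)⟩` for `a` of prime order `p`
-/

namespace Cfsg.Agent.Lib.Lead.St2F

open Cfsg Cfsg.Agent.Lib.Lead.SpecialRankOne Cfsg.Agent.Lib.Lead.St2A
open Cfsg.Agent.Lib.Helper4.RankOneGrp

variable {G : Type*} [Group G] {p : ℕ} [Fact p.Prime]

/-- `g ^ t` for `t : ZMod p`. -/
def zp (g : G) (t : ZMod p) : G := g ^ t.val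

theorem zp_natCast {g : G} (hg : g ^ p = 1) (k : ℕ) : zp g (k : ZMod p) = g ^ k := by
  unfold zp; rw [ZMod.val_natCast]; exact (pow_eq_pow_mod k hg).symm

theorem zp_add {g : G} (hg : g ^ p = 1) (t u : ZMod p) : zp g t * zp g u = zp g (t + u) := by
  unfold zp; rw [ZMod.val_add, ← pow_add]; exact pow_eq_pow_mod _ hg

theorem zp_mul {g : G} (hg : g ^ p = 1) (t u : ZMod p) : zp (zp g t) u = zp g (t * u) := by
  unfold zp; rw [ZMod.val_mul, ← pow_mul]; exact pow_eq_pow_mod _ hg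

theorem zp_zero (g : G) : zp g (0 : ZMod p) = 1 := by
  unfold zp; rw [ZMod.val_zero, pow_zero]

theorem zp_one {g : G} (hg : g ^ p = 1) : zp g (1 : ZMod p) = g := by
  have h := zp_natCast hg 1
  rwa [Nat.cast_one, pow_one] at h

theorem zp_neg {g : G} (hg : g ^ p = 1) (t : ZMod p) : zp g (-t) = (zp g t)⁻¹ := by
  apply eq_inv_of_mul_eq_one_left
  rw [zp_add hg, neg_add_cancel, zp_zero]

theorem zp_pow_p {g : G} (hg : g ^ p = 1) (t : ZMod p) : (zp g t) ^ p = 1 := by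
  unfold zp; rw [← pow_mul, mul_comm, pow_mul, hg, one_pow]

theorem zp_ne_one {g : G} (hg : g ^ p = 1) (hg1 : g ≠ 1) {t : ZMod p} (ht : t ≠ 0) :
    zp g t ≠ 1 := by
  intro h
  have ho : orderOf g = p := orderOf_eq_prime hg hg1
  have hd : orderOf g ∣ t.val := by
    have h' : g ^ t.val = 1 := h
    exact orderOf_dvd_of_pow_eq_one h'
  rw [ho] at hd
  have hlt : t.val < p := ZMod.val_lt t
  have h0 : t.val = 0 := Nat.eq_zero_of_dvd_of_lt hd hlt
  exact ht ((ZMod.val_eq_zero t).mp h0)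

theorem zp_mem {H : Subgroup G} {g : G} (hg : g ∈ H) (t : ZMod p) : zp g t ∈ H := pow_mem hg _

variable {A B : Subgroup G}

theorem beta_zp (h : SP A B) {a : G} (ha : a ∈ A) (ha1 : a ≠ 1) (hap : a ^ p = 1)
    {t : ZMod p} (ht : t ≠ 0) : beta A B (zp a t) = zp (beta A B a) t⁻¹ := by
  have hx1 : zp a t ≠ 1 := zp_ne_one hap ha1 ht
  have hx : zp a t ∈ A := zp_mem ha t
  have hE : zp (beta A B (zp a t)) t = beta A B a := Ek t.val A B h a ha ha1 hx1
  have hyp : (beta A B (zp a t)) ^ p = 1 := (beta_pow_eq_one h hx hx1 p).mp (zp_pow_p hap t)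
  have h1 : zp (zp (beta A B (zp a t)) t) t⁻¹ = beta A B (zp a t) := by
    rw [zp_mul hyp, mul_inv_cancel₀ ht, zp_one hyp]
  rw [← hE]
  exact h1.symm

theorem relX_gen (h : SP A B) {a : G} (ha : a ∈ A) (ha1 : a ≠ 1) (hap : a ^ p = 1)
    (t u : ZMod p) (ht : t ≠ 0) :
    (zp a t * zp (beta A B a) (-t⁻¹) * zp a t) * zp a u *
        (zp a t * zp (beta A B a) (-t⁻¹) * zp a t)⁻¹ =
      zp (beta A B a) (-(t⁻¹ ^ 2 * u)) := by
  have hbp : (beta A B a) ^ p = 1 := (beta_pow_eq_one h ha ha1 p).mp hap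
  have hx1 : zp a t ≠ 1 := zp_ne_one hap ha1 ht
  have hx : zp a t ∈ A := zp_mem ha t
  obtain ⟨hy, hy1, hc⟩ := beta_spec h.pair hx hx1
  have hbz := beta_zp h ha ha1 hap ht
  rw [hbz] at hy hy1 hc
  have hconj := nn_inv_conj_pow h hx hx1 hy hy1 hc (t⁻¹ * u).val
  have e1 : (zp a t) ^ (t⁻¹ * u).val = zp a u := by
    have h3 := zp_mul hap t (t⁻¹ * u)
    rw [mul_inv_cancel_left₀ ht] at h3
    exact h3
  have e2 : (zp (beta A B a) t⁻¹) ^ (t⁻¹ * u).val = zp (beta A B a) (t⁻¹ * (t⁻¹ * u)) :=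
    zp_mul hbp t⁻¹ (t⁻¹ * u)
  rw [e1, e2] at hconj
  have e3 : zp (beta A B a) (-t⁻¹) = (zp (beta A B a) t⁻¹)⁻¹ := zp_neg hbp _
  have e4 : zp (beta A B a) (-(t⁻¹ ^ 2 * u)) = (zp (beta A B a) (t⁻¹ * (t⁻¹ * u)))⁻¹ := by
    rw [← zp_neg hbp]; congr 1; ring
  rw [e3, e4, ← hconj]
  unfold nn
  group

/-- The rank one Steinberg datum over `ZMod p` attached to `a ∈ A` of order `p`. -/
noncomputable def stOf (h : SP A B) {a : G} (ha : a ∈ A) (ha1 : a ≠ 1) (hap : a ^ p = 1) :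
    St (ZMod p) G where
  X t := zp a t
  Y t := zp (beta A B a) t
  X_add t u := zp_add hap t u
  Y_add t u := zp_add ((beta_pow_eq_one h ha ha1 p).mp hap) t u
  relX t u ht := relX_gen h ha ha1 hap t u ht
  relY t u ht := by
    obtain ⟨hb, hb1, -⟩ := beta_spec h.pair ha ha1
    have hbp := (beta_pow_eq_one h ha ha1 p).mp hap
    have h3 := relX_gen h.symm hb hb1 hbp t u ht
    rw [alpha_beta h.pair ha ha1] at h3
    exact h3

theorem nondeg (h : SP A B) {a b : G} (ha : a ∈ A) (ha1 : a ≠ 1) (hap : a ^ p = 1)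
    (hb : b ∈ B) (r s : ZMod p) : zp a r * zp b s * (zp a r)⁻¹ ≠ zp a (1 : ZMod p) := by
  intro e
  have hbs : zp b s = (zp a r)⁻¹ * zp a (1 : ZMod p) * zp a r := by rw [← e]; group
  have hA' : zp b s ∈ A := by
    rw [hbs]
    exact mul_mem (mul_mem (inv_mem (zp_mem ha r)) (zp_mem ha (1 : ZMod p))) (zp_mem ha r)
  have h1 : zp b s = 1 := inf_eq_one h.pair hA' (zp_mem hb s)
  rw [h1, mul_one, mul_inv_cancel] at e
  exact zp_ne_one hap ha1 one_ne_zero e.symm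

theorem closure_eq {S : St (ZMod p) G} {a b : G} (hap : a ^ p = 1) (hbp : b ^ p = 1)
    (hSX : ∀ t, S.X t = zp a t) (hSY : ∀ t, S.Y t = zp b t) :
    Subgroup.closure (Set.range S.X ∪ Set.range S.Y) = Subgroup.closure ({a, b} : Set G) := by
  have ha' : a ∈ Subgroup.closure ({a, b} : Set G) :=
    Subgroup.subset_closure (Set.mem_insert _ _)
  have hb' : b ∈ Subgroup.closure ({a, b} : Set G) :=
    Subgroup.subset_closure (Set.mem_insert_of_mem _ rfl)
  apply le_antisymm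
  · rw [Subgroup.closure_le]
    rintro x (⟨t, rfl⟩ | ⟨t, rfl⟩)
    · rw [hSX, SetLike.mem_coe]; exact zp_mem ha' t
    · rw [hSY, SetLike.mem_coe]; exact zp_mem hb' t
  · rw [Subgroup.closure_le]
    intro x hx
    rw [SetLike.mem_coe]
    rcases hx with hx | hx
    · rw [hx]
      exact Subgroup.subset_closure (Or.inl ⟨1, by rw [hSX, zp_one hap]⟩)
    · have hx' : x = b := hx
      rw [hx']
      exact Subgroup.subset_closure (Or.inr ⟨1, by rw [hSY, zp_one hbp]⟩)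

theorem main_sl2 (h : SP A B) {a : G} (ha : a ∈ A) (ha1 : a ≠ 1) (hap : a ^ p = 1) :
    Nonempty (↥(Subgroup.closure ({a, beta A B a} : Set G)) ≃*
        Matrix.SpecialLinearGroup (Fin 2) (ZMod p)) ∨
      Nonempty (↥(Subgroup.closure ({a, beta A B a} : Set G)) ≃*
        Matrix.ProjectiveSpecialLinearGroup (Fin 2) (ZMod p)) := by
  obtain ⟨hb, hb1, -⟩ := beta_spec h.pair ha ha1
  have hbp : (beta A B a) ^ p = 1 := (beta_pow_eq_one h ha ha1 p).mp hap
  obtain ⟨S, hSX, hSY⟩ : ∃ S : St (ZMod p) G, (∀ t, S.X t = zp a t) ∧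
      (∀ t, S.Y t = zp (beta A B a) t) := ⟨stOf h ha ha1 hap, fun _ => rfl, fun _ => rfl⟩
  have hcl := closure_eq hap hbp hSX hSY
  have hmain := sl2_or_psl2 S
    (fun r s => by rw [hSX, hSY, hSX]; exact nondeg h ha ha1 hap hb r s)
    (fun r s => by rw [hSY, hSX, hSY]; exact nondeg h.symm hb hb1 hbp ha r s)
  rw [hcl] at hmain
  exact hmain

end Cfsg.Agent.Lib.Lead.St2F
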