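import Mathlib

namespace Cfsg.Agent.Lib.Lead.OrbitCount

open MulAction

/-- If all orbits meeting an invariant set `X` have the same size `r`, then `r ∣ |X|`. -/
theorem dvd_ncard_of_invariant {A α : Type*} [Group A] [MulAction A α] [Finite α] (r : ℕ) :
    ∀ (n : ℕ) (X : Set α), X.ncard = n → (∀ g : A, ∀ x ∈ X, g • x ∈ X) →
      (∀ x ∈ X, (orbit A x).ncard = r) → r ∣ n := by
  intro n
  induction n using Nat.strong_induction_on with
  | _ n ih =>
    intro X hXn hX hr
    rcases Set.eq_empty_or_nonempty X with hemp | ⟨x, hx⟩
    · subst hemp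
      rw [Set.ncard_empty] at hXn
      rw [← hXn]; exact dvd_zero r
    · have hsub : orbit A x ⊆ X := by
        rintro _ ⟨g, rfl⟩
        exact hX g x hx
      have hcard : (X \ orbit A x).ncard = n - r := by
        rw [Set.ncard_sdiff hsub (Set.toFinite _), hXn, hr x hx]
      have hrpos : 0 < r := by
        rw [← hr x hx]
        exact (Set.ncard_pos (Set.toFinite _)).mpr ⟨x, mem_orbit_self x⟩
      have hrle : r ≤ n := by
        rw [← hr x hx, ← hXn]
        exact Set.ncard_le_ncard hsub (Set.toFinite _)
      have hinv : ∀ g : A, ∀ y ∈ X \ orbit A x, g • y ∈ X \ orbit A x := by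
        rintro g y ⟨hyX, hyO⟩
        refine ⟨hX g y hyX, fun h => hyO ?_⟩
        have := mem_orbit_of_mem_orbit g⁻¹ h
        rwa [inv_smul_smul] at this
      have := ih (n - r) (by omega) (X \ orbit A x) hcard hinv (fun y hy => hr y hy.1)
      have h2 : n = (n - r) + r := by omega
      rw [h2]
      exact dvd_add this dvd_rfl

/-- Orbit–stabiliser for a pointwise stabiliser: the stabiliser of `a` in `fix(u)` is
`fix(insert a u)`. -/
theorem card_orbit_fixingSubgroup {G α : Type*} [Group G] [MulAction G α] [Finite G]
    (u : Set α) (a : α) :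
    (orbit (fixingSubgroup G u) a).ncard * Nat.card (fixingSubgroup G (insert a u)) =
      Nat.card (fixingSubgroup G u) := by
  have h1 : (stabilizer (fixingSubgroup G u) a).index = (orbit (fixingSubgroup G u) a).ncard :=
    MulAction.index_stabilizer _ _
  have h2 := Subgroup.index_mul_card (stabilizer (fixingSubgroup G u) a)
  have e : stabilizer (fixingSubgroup G u) a ≃ fixingSubgroup G (insert a u) :=
    { toFun := fun g => ⟨g.1.1, by
        rw [mem_fixingSubgroup_iff]
        intro y hy
        rcases hy with rfl | hy
        · exact g.2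
        · exact (mem_fixingSubgroup_iff G).mp g.1.2 y hy⟩
      invFun := fun h => ⟨⟨h.1, by
        rw [mem_fixingSubgroup_iff]
        intro y hy
        exact (mem_fixingSubgroup_iff G).mp h.2 y (Set.mem_insert_of_mem _ hy)⟩, by
        rw [mem_stabilizer_iff]
        exact (mem_fixingSubgroup_iff G).mp h.2 a (Set.mem_insert _ _)⟩
      left_inv := fun g => rfl
      right_inv := fun h => rfl }
  rw [← h1, ← Nat.card_congr e, h2]

end Cfsg.Agent.Lib.Lead.OrbitCount
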