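import Mathlib
import Cfsg.Agent.Lib.Lead.OrbitCount

set_option autoImplicit false

namespace Cfsg.Agent.Lib.Lead.FpfLinear

/-- A finite commutative group acting faithfully and irreducibly by linear maps is cyclic. -/
theorem cyclic_of_irreducible {K U A : Type*} [Field K] [AddCommGroup U] [Module K U]
    [Nontrivial U] [CommGroup A] [Finite A] (ρ : A →* Module.End K U)
    (hinj : Function.Injective ρ)
    (hirr : ∀ W : Submodule K U, (∀ a : A, ∀ u ∈ W, ρ a u ∈ W) → W = ⊥ ∨ W = ⊤) :
    IsCyclic A := by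
  have hScomm : ∀ x ∈ Set.range ρ, ∀ y ∈ Set.range ρ, x * y = y * x := by
    rintro _ ⟨a, rfl⟩ _ ⟨b, rfl⟩
    rw [← map_mul, ← map_mul, mul_comm]
  have hRcomm := Algebra.isMulCommutative_adjoin K hScomm
  letI : CommRing (Algebra.adjoin K (Set.range ρ)) :=
    { (inferInstance : Ring (Algebra.adjoin K (Set.range ρ))) with
      mul_comm := fun a b => hRcomm.is_comm.comm a b }
  have hcomm : ∀ f ∈ Algebra.adjoin K (Set.range ρ), ∀ a : A, f * ρ a = ρ a * f := by
    intro f hf a
    induction hf using Algebra.adjoin_induction with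
    | mem x hx => exact hScomm x hx (ρ a) ⟨a, rfl⟩
    | algebraMap r => exact Algebra.commutes r (ρ a)
    | add x y _ _ hx hy => rw [add_mul, mul_add, hx, hy]
    | mul x y _ _ hx hy => rw [mul_assoc, hy, ← mul_assoc, hx, mul_assoc]
  have hinj' : ∀ f ∈ Algebra.adjoin K (Set.range ρ), f ≠ 0 → Function.Injective f := by
    intro f hf hf0
    have hker : ∀ a : A, ∀ u ∈ LinearMap.ker f, ρ a u ∈ LinearMap.ker f := by
      intro a u hu
      rw [LinearMap.mem_ker] at hu ⊢
      have := congrArg (fun g : Module.End K U => g u) (hcomm f hf a)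
      simp only [Module.End.mul_apply] at this
      rw [this, hu, map_zero]
    rcases hirr _ hker with h | h
    · exact LinearMap.ker_eq_bot.mp h
    · exfalso; apply hf0; exact LinearMap.ker_eq_top.mp h
  haveI : Nontrivial (Algebra.adjoin K (Set.range ρ)) := by
    refine ⟨⟨0, 1, fun h => ?_⟩⟩
    have h1 : ((0 : Algebra.adjoin K (Set.range ρ)) : Module.End K U) = (1 : Module.End K U) :=
      congrArg Subtype.val h
    obtain ⟨u, hu⟩ := exists_ne (0 : U)
    have := congrArg (fun g : Module.End K U => g u) h1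
    simp at this
    exact hu this.symm
  haveI : NoZeroDivisors (Algebra.adjoin K (Set.range ρ)) := by
    constructor
    intro f g hfg
    by_cases hf : f = 0
    · left; exact hf
    · right
      have hf' : (f : Module.End K U) ≠ 0 := fun h => hf (Subtype.ext h)
      have hfi := hinj' f.1 f.2 hf'
      apply Subtype.ext
      apply LinearMap.ext
      intro u
      apply hfi
      have h1 : (f : Module.End K U) * (g : Module.End K U) = 0 := congrArg Subtype.val hfg
      have := congrArg (fun h : Module.End K U => h u) h1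
      simp only [Module.End.mul_apply] at this
      rw [this]
      simp
  haveI : IsDomain (Algebra.adjoin K (Set.range ρ)) := NoZeroDivisors.to_isDomain _
  let φ : A →* Algebra.adjoin K (Set.range ρ) :=
    { toFun := fun a => ⟨ρ a, Algebra.subset_adjoin ⟨a, rfl⟩⟩
      map_one' := by
        apply Subtype.ext
        show ρ 1 = 1
        exact map_one ρ
      map_mul' := by
        intro a b
        apply Subtype.ext
        show ρ (a * b) = ρ a * ρ b
        exact map_mul ρ a b }
  apply isCyclic_of_injective_ringHom φ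
  intro a b hab
  apply hinj
  exact congrArg Subtype.val hab

section Lin

variable {p : ℕ} [Fact p.Prime] {V : Type*} [AddCommGroup V] [Module (ZMod p) V] [Finite V]
  (H : Subgroup (V ≃ₗ[ZMod p] V))

/-- `A`-invariant subspace -/
def InvSub (A : Subgroup H) (W : Submodule (ZMod p) V) : Prop :=
  ∀ a ∈ A, ∀ v ∈ W, ((a : H) : V ≃ₗ[ZMod p] V) v ∈ W

theorem exists_min_inv (A : Subgroup H) (W₀ : Submodule (ZMod p) V) (h0 : W₀ ≠ ⊥)
    (hinv : InvSub H A W₀) :
    ∃ W ≤ W₀, W ≠ ⊥ ∧ InvSub H A W ∧ ∀ W' ≤ W, InvSub H A W' → W' = ⊥ ∨ W' = W := by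
  classical
  haveI : Finite (Submodule (ZMod p) V) :=
    Finite.of_injective (fun W : Submodule (ZMod p) V => (W : Set V)) SetLike.coe_injective
  haveI : Nonempty {W : Submodule (ZMod p) V // W ≤ W₀ ∧ W ≠ ⊥ ∧ InvSub H A W} :=
    ⟨⟨W₀, le_rfl, h0, hinv⟩⟩
  obtain ⟨⟨W, hW1, hW2, hW3⟩, hWmin⟩ := Finite.exists_min
    (fun W : {W : Submodule (ZMod p) V // W ≤ W₀ ∧ W ≠ ⊥ ∧ InvSub H A W} => Nat.card W.1)
  refine ⟨W, hW1, hW2, hW3, ?_⟩
  intro W' hW'le hW'inv
  by_cases hW'0 : W' = ⊥
  · left; exact hW'0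
  · right
    have h1 : Nat.card W ≤ Nat.card W' := hWmin ⟨W', hW'le.trans hW1, hW'0, hW'inv⟩
    apply SetLike.coe_injective
    apply Set.eq_of_subset_of_ncard_le hW'le _ (Set.toFinite _)
    rw [← Nat.card_coe_set_eq, ← Nat.card_coe_set_eq]
    exact h1

theorem cyclic_of_regular
    (hreg : ∀ v w : V, v ≠ 0 → w ≠ 0 → ∃! h : H, (h : V ≃ₗ[ZMod p] V) v = w) [Nontrivial V]
    (A : Subgroup H) (hA : IsMulCommutative A) : IsCyclic A := by
  classical
  obtain ⟨U, -, hU0, hUinv, hUmin⟩ := exists_min_inv H A ⊤ top_ne_bot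
    (fun _ _ _ _ => Submodule.mem_top)
  letI : CommGroup A :=
    { (inferInstance : Group A) with mul_comm := fun a b => hA.is_comm.comm a b }
  haveI : Finite H := Finite.of_injective (fun h : H => ((h : V ≃ₗ[ZMod p] V) : V → V))
    (fun a b hab => Subtype.ext (LinearEquiv.ext (congrFun hab)))
  haveI : Nontrivial U := (Submodule.nontrivial_iff_ne_bot).mpr hU0
  let ρ : A →* Module.End (ZMod p) U :=
    { toFun := fun a => (((a : H) : V ≃ₗ[ZMod p] V) : V →ₗ[ZMod p] V).restrict
        (fun v hv => hUinv a.1 a.2 v hv)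
      map_one' := by
        ext u
        rfl
      map_mul' := by
        intro a b
        ext u
        rfl }
  have hρ : ∀ (a : A) (u : U), ((ρ a u : U) : V) = ((a : H) : V ≃ₗ[ZMod p] V) (u : V) :=
    fun a u => rfl
  apply cyclic_of_irreducible ρ
  · intro a b hab
    obtain ⟨u, hu⟩ := exists_ne (0 : U)
    have hu' : (u : V) ≠ 0 := fun h => hu (Subtype.ext h)
    have h1 : ((a : H) : V ≃ₗ[ZMod p] V) (u : V) = ((b : H) : V ≃ₗ[ZMod p] V) (u : V) := by
      rw [← hρ a u, ← hρ b u, hab]
    have hne : ((b : H) : V ≃ₗ[ZMod p] V) (u : V) ≠ 0 := by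
      intro h
      exact hu' ((LinearEquiv.map_eq_zero_iff _).mp h)
    obtain ⟨h₀, -, huniq⟩ := hreg (u : V) _ hu' hne
    have e1 := huniq (a : H) h1
    have e2 := huniq (b : H) rfl
    exact Subtype.ext (e1.trans e2.symm)
  · intro W hW
    have hinv : InvSub H A (W.map U.subtype) := by
      intro a ha v hv
      rw [Submodule.mem_map] at hv ⊢
      obtain ⟨u, hu, rfl⟩ := hv
      exact ⟨ρ ⟨a, ha⟩ u, hW ⟨a, ha⟩ u hu, rfl⟩
    rcases hUmin _ (Submodule.map_subtype_le U W) hinv with h | h
    · left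
      rw [eq_bot_iff]
      intro u hu
      have : (u : V) ∈ W.map U.subtype := ⟨u, hu, rfl⟩
      rw [h, Submodule.mem_bot] at this
      rw [Submodule.mem_bot]
      exact Subtype.ext this
    · right
      rw [eq_top_iff]
      intro u _
      have : (u : V) ∈ W.map U.subtype := by rw [h]; exact u.2
      rw [Submodule.mem_map] at this
      obtain ⟨u', hu', huu⟩ := this
      have : u' = u := Subtype.ext huu
      rwa [← this]

theorem card_dvd
    (hreg : ∀ v w : V, v ≠ 0 → w ≠ 0 → ∃! h : H, (h : V ≃ₗ[ZMod p] V) v = w)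
    (A : Subgroup H) (W : Submodule (ZMod p) V) (hW : InvSub H A W) :
    Nat.card A ∣ p ^ Module.finrank (ZMod p) W - 1 := by
  classical
  haveI : Finite H := Finite.of_injective (fun h : H => ((h : V ≃ₗ[ZMod p] V) : V → V))
    (fun a b hab => Subtype.ext (LinearEquiv.ext (congrFun hab)))
  haveI : Fintype V := Fintype.ofFinite V
  haveI : Fintype W := Fintype.ofFinite W
  have hsmul : ∀ (a : A) (v : V), a • v = ((a : H) : V ≃ₗ[ZMod p] V) v := fun _ _ => rfl
  have hXcard : ((W : Set V) \ {0}).ncard = p ^ Module.finrank (ZMod p) W - 1 := by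
    rw [Set.ncard_diff_singleton_of_mem (Submodule.zero_mem W), ← Nat.card_coe_set_eq]
    have : Nat.card (W : Set V) = Fintype.card W := Nat.card_eq_fintype_card
    rw [this, Module.card_eq_pow_finrank (K := ZMod p) (V := W), ZMod.card]
  apply Cfsg.Agent.Lib.Lead.OrbitCount.dvd_ncard_of_invariant (A := A) (α := V) (Nat.card A) _
    ((W : Set V) \ {0}) hXcard
  · rintro a x ⟨hxW, hx0⟩
    refine ⟨hW a.1 a.2 x hxW, ?_⟩
    rw [Set.mem_singleton_iff] at hx0 ⊢
    rw [hsmul]
    intro h
    exact hx0 ((LinearEquiv.map_eq_zero_iff _).mp h)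
  · rintro x ⟨-, hx0⟩
    rw [Set.mem_singleton_iff] at hx0
    have hstab : MulAction.stabilizer A x = ⊥ := by
      rw [eq_bot_iff]
      intro a ha
      rw [MulAction.mem_stabilizer_iff, hsmul] at ha
      obtain ⟨h₀, -, huniq⟩ := hreg x x hx0 hx0
      have e1 := huniq (a : H) ha
      have e2 := huniq (1 : H) rfl
      rw [Subgroup.mem_bot]
      apply Subtype.ext
      exact e1.trans e2.symm
    have h1 := MulAction.index_stabilizer A x
    rw [hstab, Subgroup.index_bot] at h1
    exact h1.symm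

end Lin

end Cfsg.Agent.Lib.Lead.FpfLinear
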