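/-
Farm SW (S3211): the two structures shared by all units.  See Lib/Lead/SWStubs.lean for the blueprint
(the stub file repeats these definitions in namespace `Cfsg.Agent.Lib.Lead.SW`; the units are stated
with the structures of THIS file, namespace `Cfsg.Agent.Lib.Lead.SWD`).
-/
import Mathlib

set_option autoImplicit false

namespace Cfsg.Agent.Lib.Lead.SWD

variable {G : Type*} [Group G]

/-- abstract properties of a subgroup `L ≅ SL₂(q)`, `q` odd, with central involution `j` -/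
structure QLike (L : Subgroup G) (j : G) : Prop where
  j_mem : j ∈ L
  inv_unique : ∀ x ∈ L, x ^ 2 = 1 → x = 1 ∨ x = j
  conj4 : ∀ x ∈ L, ∀ y ∈ L, x ^ 2 = j → y ^ 2 = j → ∃ g ∈ L, g * x * g⁻¹ = y
  sqrt4 : ∀ u ∈ L, ∀ v ∈ L, u ^ 2 = v ^ 2 → (u ^ 2) ^ 2 = j → v = u ∨ v = u * j

/-- the setting of S3211 with the SL₂ isomorphisms replaced by `QLike` -/
structure Setting (L₁ L₂ : Subgroup G) (j n : G) : Prop where
  hj : orderOf j = 2
  hc : ∀ x ∈ L₁, ∀ y ∈ L₂, x * y = y * x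
  hm : L₁ ⊓ L₂ = Subgroup.zpowers j
  hle : L₁ ⊔ L₂ ≤ Subgroup.centralizer ({j} : Set G)
  hi : (L₁ ⊔ L₂).relIndex (Subgroup.centralizer ({j} : Set G)) = 2
  hn : n ∈ Subgroup.centralizer ({j} : Set G)
  hn2 : n ^ 2 = j
  hswap : L₁.map (MulAut.conj n).toMonoidHom = L₂
  q1 : QLike L₁ j

end Cfsg.Agent.Lib.Lead.SWD
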