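import Mathlib

namespace Cfsg.Agent.Lib.Lead.MultiTrans

open MulAction SubMulAction

/-- Converse of `SubMulAction.ofFixingSubgroup.isMultiplyPretransitive`:
if `G` is `k`-transitive, `s` has `k` elements and the pointwise stabiliser of `s` is
`j`-transitive on the complement of `s`, then `G` is `(k + j)`-transitive. -/
theorem isMultiplyPretransitive_add {G α : Type*} [Group G] [MulAction G α] (s : Set α) [Finite s]
    {k j : ℕ} (hs : s.ncard = k) (hk : IsMultiplyPretransitive G α k)
    (hj : IsMultiplyPretransitive (fixingSubgroup G s) (ofFixingSubgroup G s) j) :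
    IsMultiplyPretransitive G α (k + j) := by
  rw [isMultiplyPretransitive_iff]
  -- an enumeration of s
  have Hs : Nonempty (Fin k ≃ s) := Finite.card_eq.mp (by simp [Nat.card_coe_set_eq, hs])
  obtain ⟨e⟩ := Hs
  let σ : Fin k ↪ α := e.toEmbedding.trans (Function.Embedding.subtype _)
  have hσ : ∀ i, σ i ∈ s := fun i => (e i).2
  have hσsurj : ∀ a ∈ s, ∃ i, σ i = a := by
    intro a ha
    refine ⟨e.symm ⟨a, ha⟩, ?_⟩
    simp [σ]
  -- normal form
  have key : ∀ x : Fin (k + j) ↪ α, ∃ g : G, (∀ i : Fin k, g • x (Fin.castAdd j i) = σ i) ∧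
      ∀ i : Fin j, g • x (Fin.natAdd k i) ∉ s := by
    intro x
    let x₁ : Fin k ↪ α := (Fin.castAddEmb j).trans x
    obtain ⟨g, hg⟩ := (isMultiplyPretransitive_iff.mp hk) x₁ σ
    refine ⟨g, ?_, ?_⟩
    · intro i
      have := DFunLike.congr_fun hg i
      simpa [x₁] using this
    · intro i hi
      obtain ⟨i', hi'⟩ := hσsurj _ hi
      have h1 := DFunLike.congr_fun hg i'
      have h2 : g • x (Fin.castAdd j i') = σ i' := by simpa [x₁] using h1
      rw [← h2] at hi'
      have h3 : x (Fin.castAdd j i') = x (Fin.natAdd k i) := smul_left_cancel g hi'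
      have h4 := x.injective h3
      have h5 := congrArg Fin.val h4
      simp at h5
      omega
  intro x y
  obtain ⟨g₁, hg₁, hg₁'⟩ := key x
  obtain ⟨g₂, hg₂, hg₂'⟩ := key y
  let x₂ : Fin j ↪ ofFixingSubgroup G s :=
    ⟨fun i => ⟨g₁ • x (Fin.natAdd k i), hg₁' i⟩, by
      intro a b hab
      have hab' := congrArg Subtype.val hab
      have := x.injective (smul_left_cancel g₁ hab')
      exact Fin.natAdd_injective _ _ this⟩
  let y₂ : Fin j ↪ ofFixingSubgroup G s :=
    ⟨fun i => ⟨g₂ • y (Fin.natAdd k i), hg₂' i⟩, by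
      intro a b hab
      have hab' := congrArg Subtype.val hab
      have := y.injective (smul_left_cancel g₂ hab')
      exact Fin.natAdd_injective _ _ this⟩
  obtain ⟨h, hh⟩ := (isMultiplyPretransitive_iff.mp hj) x₂ y₂
  refine ⟨g₂⁻¹ * (h : G) * g₁, ?_⟩
  ext i
  simp only [Function.Embedding.smul_apply, mul_smul]
  rw [inv_smul_eq_iff]
  induction i using Fin.addCases with
  | left i =>
    rw [hg₁ i, hg₂ i]
    exact (mem_fixingSubgroup_iff G).mp h.2 _ (hσ i)
  | right i =>
    have := DFunLike.congr_fun hh i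
    have h2 := congrArg Subtype.val this
    exact h2

end Cfsg.Agent.Lib.Lead.MultiTrans
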