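import Mathlib

set_option autoImplicit false

namespace Cfsg.Agent.Lib.Lead.JordanNormal

open MulAction SubMulAction

universe u v

section Basic

variable {G : Type u} {α : Type v} [Group G] [MulAction G α]

/-- In a `k`-transitive action any permutation of a set of at most `k` points is induced. -/
theorem exists_on_finset [Finite α] {k : ℕ} (hk : IsMultiplyPretransitive G α k)
    (hkn : k ≤ Nat.card α) (Γ : Finset α) (hΓ : Γ.card ≤ k) (π : Equiv.Perm α) :
    ∃ g : G, ∀ y ∈ Γ, g • y = π y := by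
  have hj : IsMultiplyPretransitive G α Γ.card :=
    MulAction.isMultiplyPretransitive_of_le (n := k) hΓ hkn
  let ι : Fin Γ.card ↪ α := Γ.equivFin.symm.toEmbedding.trans (Function.Embedding.subtype _)
  let ι' : Fin Γ.card ↪ α := ι.trans π.toEmbedding
  obtain ⟨x, hx⟩ := hj.exists_smul_eq ι ι'
  refine ⟨x, ?_⟩
  intro y hy
  have h1 := congrArg (fun f : Fin Γ.card ↪ α => f (Γ.equivFin ⟨y, hy⟩)) hx
  simp only [Function.Embedding.smul_apply] at h1
  have h2 : ι (Γ.equivFin ⟨y, hy⟩) = y := by
    simp [ι]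
  have h3 : ι' (Γ.equivFin ⟨y, hy⟩) = π y := by
    simp [ι', ι]
  rw [h2, h3] at h1
  exact h1

theorem exists_map2 [Finite α] {k : ℕ} (hk : IsMultiplyPretransitive G α k) (h2 : 2 ≤ k)
    (hkn : k ≤ Nat.card α) {p q p' q' : α} (hpq : p ≠ q) (hpq' : p' ≠ q') :
    ∃ g : G, g • p = p' ∧ g • q = q' := by
  classical
  have h2' : IsMultiplyPretransitive G α 2 :=
    MulAction.isMultiplyPretransitive_of_le (n := k) h2 hkn
  let x : Fin 2 ↪ α := ⟨![p, q], by
    intro i j hij
    fin_cases i <;> fin_cases j <;> simp_all⟩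
  let y : Fin 2 ↪ α := ⟨![p', q'], by
    intro i j hij
    fin_cases i <;> fin_cases j <;> simp_all⟩
  obtain ⟨g, hg⟩ := h2'.exists_smul_eq x y
  refine ⟨g, ?_, ?_⟩
  · have := DFunLike.congr_fun hg 0
    rw [Function.Embedding.smul_apply] at this
    exact this
  · have := DFunLike.congr_fun hg 1
    rw [Function.Embedding.smul_apply] at this
    exact this

theorem exists_map3 [Finite α] {k : ℕ} (hk : IsMultiplyPretransitive G α k) (h3 : 3 ≤ k)
    (hkn : k ≤ Nat.card α) {p q r p' q' r' : α} (hpq : p ≠ q) (hpr : p ≠ r) (hqr : q ≠ r)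
    (hpq' : p' ≠ q') (hpr' : p' ≠ r') (hqr' : q' ≠ r') :
    ∃ g : G, g • p = p' ∧ g • q = q' ∧ g • r = r' := by
  classical
  have h3' : IsMultiplyPretransitive G α 3 :=
    MulAction.isMultiplyPretransitive_of_le (n := k) h3 hkn
  let x : Fin 3 ↪ α := ⟨![p, q, r], by
    intro i j hij
    fin_cases i <;> fin_cases j <;> simp_all⟩
  let y : Fin 3 ↪ α := ⟨![p', q', r'], by
    intro i j hij
    fin_cases i <;> fin_cases j <;> simp_all⟩
  obtain ⟨g, hg⟩ := h3'.exists_smul_eq x y
  refine ⟨g, ?_, ?_, ?_⟩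
  · have := DFunLike.congr_fun hg 0
    rw [Function.Embedding.smul_apply] at this
    exact this
  · have := DFunLike.congr_fun hg 1
    rw [Function.Embedding.smul_apply] at this
    exact this
  · have := DFunLike.congr_fun hg 2
    rw [Function.Embedding.smul_apply] at this
    exact this

theorem exists_map4 [Finite α] {k : ℕ} (hk : IsMultiplyPretransitive G α k) (h4 : 4 ≤ k)
    (hkn : k ≤ Nat.card α) {p q r s p' q' r' s' : α} (hpq : p ≠ q) (hpr : p ≠ r) (hps : p ≠ s)
    (hqr : q ≠ r) (hqs : q ≠ s) (hrs : r ≠ s)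
    (hpq' : p' ≠ q') (hpr' : p' ≠ r') (hps' : p' ≠ s') (hqr' : q' ≠ r') (hqs' : q' ≠ s')
    (hrs' : r' ≠ s') :
    ∃ g : G, g • p = p' ∧ g • q = q' ∧ g • r = r' ∧ g • s = s' := by
  classical
  have h4' : IsMultiplyPretransitive G α 4 :=
    MulAction.isMultiplyPretransitive_of_le (n := k) h4 hkn
  let x : Fin 4 ↪ α := ⟨![p, q, r, s], by
    intro i j hij
    fin_cases i <;> fin_cases j <;> simp_all⟩
  let y : Fin 4 ↪ α := ⟨![p', q', r', s'], by
    intro i j hij
    fin_cases i <;> fin_cases j <;> simp_all⟩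
  obtain ⟨g, hg⟩ := h4'.exists_smul_eq x y
  refine ⟨g, ?_, ?_, ?_, ?_⟩
  · have := DFunLike.congr_fun hg 0
    rw [Function.Embedding.smul_apply] at this
    exact this
  · have := DFunLike.congr_fun hg 1
    rw [Function.Embedding.smul_apply] at this
    exact this
  · have := DFunLike.congr_fun hg 2
    rw [Function.Embedding.smul_apply] at this
    exact this
  · have := DFunLike.congr_fun hg 3
    rw [Function.Embedding.smul_apply] at this
    exact this

/-- A nontrivial normal subgroup of a faithful doubly transitive group is transitive. -/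
theorem normal_transitive [Finite α] [FaithfulSMul G α] {k : ℕ}
    (hk : IsMultiplyPretransitive G α k) (h2 : 2 ≤ k) (hkn : k ≤ Nat.card α)
    (N : Subgroup G) [hNn : N.Normal] (hN : N ≠ ⊥) : IsPretransitive N α := by
  obtain ⟨n, hnN, hn1⟩ := (Subgroup.ne_bot_iff_exists_ne_one (H := N)).mp hN |>.imp
    (fun n hn => hn) |> fun ⟨n, hn⟩ => (⟨n.1, n.2, fun h => hn (Subtype.ext h)⟩ :
      ∃ n : G, n ∈ N ∧ n ≠ 1)
  have : ∃ x : α, n • x ≠ x := by
    by_contra hcon
    push Not at hcon
    apply hn1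
    apply FaithfulSMul.eq_of_smul_eq_smul (α := α)
    intro a
    rw [hcon a, one_smul]
  obtain ⟨x, hx⟩ := this
  constructor
  intro u v
  by_cases huv : u = v
  · exact ⟨1, by rw [one_smul, huv]⟩
  · obtain ⟨g, hg1, hg2⟩ := exists_map2 hk h2 hkn (Ne.symm hx) huv
    refine ⟨⟨g * n * g⁻¹, hNn.conj_mem n hnN g⟩, ?_⟩
    show (g * n * g⁻¹) • u = v
    rw [mul_smul, mul_smul, ← hg1, inv_smul_smul, hg2]

/-- (A) A regular normal subgroup of a triply transitive group of degree at least `4`
has exponent two. -/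
theorem regular_exp_two [Finite α] [FaithfulSMul G α] {k : ℕ}
    (hk : IsMultiplyPretransitive G α k) (h3 : 3 ≤ k) (hkn : k ≤ Nat.card α)
    (h4 : 4 ≤ Nat.card α)
    (N : Subgroup G) [hNn : N.Normal] (a : α) (hreg : ∀ n ∈ N, n • a = a → n = 1) :
    ∀ n ∈ N, n ^ 2 = 1 := by
  classical
  intro x hx
  by_contra hx2
  have hx1 : x ≠ 1 := by rintro rfl; exact hx2 (one_pow 2)
  have hxa : x • a ≠ a := fun h => hx1 (hreg x hx h)
  have hxia : x⁻¹ • a ≠ a := by
    intro h
    apply hxa
    rw [inv_smul_eq_iff] at h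
    exact h.symm
  have hxx : x • a ≠ x⁻¹ • a := by
    intro h
    apply hx2
    apply hreg _ (pow_mem hx 2)
    rw [pow_two, mul_smul, h, smul_inv_smul]
  -- a fourth point
  haveI : Fintype α := Fintype.ofFinite α
  have : ∃ w : α, w ∉ ({a, x • a, x⁻¹ • a} : Finset α) := by
    by_contra hcon
    push Not at hcon
    have h1 : (Finset.univ : Finset α) ⊆ {a, x • a, x⁻¹ • a} := fun w _ => hcon w
    have h2 := Finset.card_le_card h1
    rw [Finset.card_univ, ← Nat.card_eq_fintype_card] at h2
    have h3 : ({a, x • a, x⁻¹ • a} : Finset α).card ≤ 3 := Finset.card_le_three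
    omega
  obtain ⟨w, hw⟩ := this
  simp only [Finset.mem_insert, Finset.mem_singleton, not_or] at hw
  obtain ⟨hwa, hwx, hwxi⟩ := hw
  obtain ⟨g, hg1, hg2, hg3⟩ := exists_map3 hk h3 hkn (Ne.symm hxa) (Ne.symm hxia) hxx
    (Ne.symm hxa) (Ne.symm hwa) (Ne.symm hwx)
  have hgi : g⁻¹ • a = a := by rw [inv_smul_eq_iff, hg1]
  -- g x g⁻¹ = x
  have hc : x⁻¹ * (g * x * g⁻¹) = 1 := by
    apply hreg _ (mul_mem (inv_mem hx) (hNn.conj_mem x hx g))
    rw [mul_smul, mul_smul, mul_smul, hgi, hg2, inv_smul_smul]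
  have hc' : g * x * g⁻¹ = x := by
    rw [inv_mul_eq_one] at hc; exact hc.symm
  have hc'' : g * x⁻¹ * g⁻¹ = x⁻¹ := by
    have : g * x⁻¹ * g⁻¹ = (g * x * g⁻¹)⁻¹ := by group
    rw [this, hc']
  have : g • (x⁻¹ • a) = x⁻¹ • a := by
    calc g • (x⁻¹ • a) = (g * x⁻¹ * g⁻¹) • (g • a) := by
          rw [mul_smul, mul_smul, inv_smul_smul]
      _ = x⁻¹ • a := by rw [hc'', hg1]
  rw [hg3] at this
  exact hwxi this

/-- (B) A four-fold transitive group of degree at least five has no regular normal subgroup. -/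
theorem regular_contra [Finite α] [FaithfulSMul G α] {k : ℕ}
    (hk : IsMultiplyPretransitive G α k) (h4 : 4 ≤ k) (hkn : k ≤ Nat.card α)
    (h5 : 5 ≤ Nat.card α)
    (N : Subgroup G) [hNn : N.Normal] (hN : N ≠ ⊥) (a : α)
    (hreg : ∀ n ∈ N, n • a = a → n = 1) : False := by
  classical
  have hexp := regular_exp_two hk (by omega) hkn (by omega) N a hreg
  have htr := normal_transitive hk (by omega) hkn N hN
  haveI : Fintype α := Fintype.ofFinite α
  have hcomm : ∀ x ∈ N, ∀ y ∈ N, x * y = y * x := by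
    intro x hx y hy
    have h1 := hexp x hx
    have h2 := hexp y hy
    have h3 := hexp (x * y) (mul_mem hx hy)
    have hxi : x⁻¹ = x := by rw [inv_eq_iff_mul_eq_one, ← pow_two, h1]
    have hyi : y⁻¹ = y := by rw [inv_eq_iff_mul_eq_one, ← pow_two, h2]
    have : (x * y)⁻¹ = x * y := by rw [inv_eq_iff_mul_eq_one, ← pow_two, h3]
    rw [mul_inv_rev, hxi, hyi] at this
    exact this.symm
  -- two more points
  have : ∃ b : α, b ≠ a := by
    by_contra hcon
    push Not at hcon
    have h1 : (Finset.univ : Finset α) ⊆ {a} := fun w _ => by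
      rw [Finset.mem_singleton]; exact hcon w
    have h2 := Finset.card_le_card h1
    rw [Finset.card_univ, ← Nat.card_eq_fintype_card, Finset.card_singleton] at h2
    omega
  obtain ⟨b, hba⟩ := this
  have : ∃ c : α, c ∉ ({a, b} : Finset α) := by
    by_contra hcon
    push Not at hcon
    have h1 : (Finset.univ : Finset α) ⊆ {a, b} := fun w _ => hcon w
    have h2 := Finset.card_le_card h1
    rw [Finset.card_univ, ← Nat.card_eq_fintype_card] at h2
    have h3 : ({a, b} : Finset α).card ≤ 2 := Finset.card_le_two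
    omega
  obtain ⟨c, hc⟩ := this
  simp only [Finset.mem_insert, Finset.mem_singleton, not_or] at hc
  obtain ⟨hca, hcb⟩ := hc
  obtain ⟨⟨x, hx⟩, hxa⟩ := htr.exists_smul_eq a b
  obtain ⟨⟨y, hy⟩, hya⟩ := htr.exists_smul_eq a c
  replace hxa : x • a = b := hxa
  replace hya : y • a = c := hya
  have hxya : (x * y) • a ≠ a := by
    intro h
    have h1 := hreg _ (mul_mem hx hy) h
    have hxi : x⁻¹ = x := by rw [inv_eq_iff_mul_eq_one, ← pow_two, hexp x hx]
    have : y = x := by rw [← hxi]; exact (inv_eq_of_mul_eq_one_right h1).symm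
    rw [this, hxa] at hya
    exact hcb hya.symm
  have hxyb : (x * y) • a ≠ b := by
    intro h
    rw [mul_smul, ← hxa, smul_left_cancel_iff] at h
    rw [hya] at h
    exact hca h
  have hxyc : (x * y) • a ≠ c := by
    intro h
    rw [hcomm x hx y hy, mul_smul, ← hya, smul_left_cancel_iff, hxa] at h
    exact hba h
  have : ∃ w : α, w ∉ ({a, b, c, (x * y) • a} : Finset α) := by
    by_contra hcon
    push Not at hcon
    have h1 : (Finset.univ : Finset α) ⊆ {a, b, c, (x * y) • a} := fun w _ => hcon w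
    have h2 := Finset.card_le_card h1
    rw [Finset.card_univ, ← Nat.card_eq_fintype_card] at h2
    have h3 : ({a, b, c, (x * y) • a} : Finset α).card ≤ 4 := Finset.card_le_four
    omega
  obtain ⟨w, hw⟩ := this
  simp only [Finset.mem_insert, Finset.mem_singleton, not_or] at hw
  obtain ⟨hwa, hwb, hwc, hwxy⟩ := hw
  obtain ⟨g, hg1, hg2, hg3, hg4⟩ := exists_map4 hk h4 hkn (Ne.symm hba) (Ne.symm hca)
    (Ne.symm hxya) (Ne.symm hcb) (Ne.symm hxyb) (Ne.symm hxyc)
    (Ne.symm hba) (Ne.symm hca) (Ne.symm hwa) (Ne.symm hcb) (Ne.symm hwb) (Ne.symm hwc)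
  have hgi : g⁻¹ • a = a := by rw [inv_smul_eq_iff, hg1]
  have hfix : ∀ z ∈ N, g • (z • a) = z • a → g * z * g⁻¹ = z := by
    intro z hz h
    have hc : z⁻¹ * (g * z * g⁻¹) = 1 := by
      apply hreg _ (mul_mem (inv_mem hz) (hNn.conj_mem z hz g))
      rw [mul_smul, mul_smul, mul_smul, hgi, h, inv_smul_smul]
    rw [inv_mul_eq_one] at hc; exact hc.symm
  have hgx := hfix x hx (by rw [hxa, hg2])
  have hgy := hfix y hy (by rw [hya, hg3])
  have hgxy : g * (x * y) * g⁻¹ = x * y := by
    calc g * (x * y) * g⁻¹ = (g * x * g⁻¹) * (g * y * g⁻¹) := by group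
      _ = x * y := by rw [hgx, hgy]
  have : g • ((x * y) • a) = (x * y) • a := by
    calc g • ((x * y) • a) = (g * (x * y) * g⁻¹) • (g • a) := by
          simp only [mul_smul, inv_smul_smul]
      _ = (x * y) • a := by rw [hgxy, hg1]
  rw [hg4] at this
  exact hwxy this

/-- (C) In a triply transitive group of degree at least four, point stabilisers of a normal
subgroup cannot be nontrivial of exponent two. -/
theorem no_exp_two [Finite α] [FaithfulSMul G α] {k : ℕ}
    (hk : IsMultiplyPretransitive G α k) (h3 : 3 ≤ k) (hkn : k ≤ Nat.card α)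
    (h4 : 4 ≤ Nat.card α)
    (N : Subgroup G) [hNn : N.Normal] (a : α)
    (hne : ∃ n ∈ N, n ≠ 1 ∧ n • a = a)
    (hexp : ∀ n ∈ N, n • a = a → n ^ 2 = 1) : False := by
  classical
  haveI : Fintype α := Fintype.ofFinite α
  have hG1 : IsPretransitive G α := by
    rw [← is_one_pretransitive_iff]
    exact MulAction.isMultiplyPretransitive_of_le (n := k) (by omega) hkn
  -- step 1
  have hexp' : ∀ c : α, ∀ n ∈ N, n • c = c → n ^ 2 = 1 := by
    intro c n hn hnc
    obtain ⟨g, hg⟩ := hG1.exists_smul_eq a c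
    have h1 : (g⁻¹ * n * g) ^ 2 = 1 := by
      apply hexp
      · have := hNn.conj_mem n hn g⁻¹
        rwa [inv_inv] at this
      · rw [mul_smul, mul_smul, hg, hnc, inv_smul_eq_iff, hg]
    have : (g⁻¹ * n * g) ^ 2 = g⁻¹ * n ^ 2 * g := by
      rw [pow_two, pow_two]; group
    rw [this] at h1
    have : n ^ 2 = g * (g⁻¹ * n ^ 2 * g) * g⁻¹ := by group
    rw [this, h1]; group
  -- step 2
  obtain ⟨n₀, hn₀, hn₀1, hn₀a⟩ := hne
  have : ∃ u : α, n₀ • u ≠ u := by
    by_contra hcon
    push Not at hcon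
    apply hn₀1
    apply FaithfulSMul.eq_of_smul_eq_smul (α := α)
    intro z
    rw [hcon z, one_smul]
  obtain ⟨u, hu⟩ := this
  have hua : u ≠ a := by rintro rfl; exact hu hn₀a
  have hva : n₀ • u ≠ a := by
    intro h
    apply hua
    rw [← hn₀a, smul_left_cancel_iff] at h
    exact h
  have htr : ∀ c x y : α, x ≠ c → y ≠ c → ∃ n ∈ N, n • c = c ∧ n • x = y := by
    intro c x y hxc hyc
    by_cases hxy : x = y
    · exact ⟨1, one_mem _, one_smul _ _, by rw [one_smul, hxy]⟩
    · obtain ⟨g, hg1, hg2, hg3⟩ := exists_map3 hk h3 hkn (Ne.symm hua) (Ne.symm hva) (Ne.symm hu)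
        (Ne.symm hxc) (Ne.symm hyc) hxy
      refine ⟨g * n₀ * g⁻¹, hNn.conj_mem n₀ hn₀ g, ?_, ?_⟩
      · rw [mul_smul, mul_smul, ← hg1, inv_smul_smul, hn₀a]
      · rw [mul_smul, mul_smul, ← hg2, inv_smul_smul, hg3]
  -- step 3
  have hsemi : ∀ c d : α, c ≠ d → ∀ s ∈ N, s • c = c → s • d = d → s = 1 := by
    intro c d hcd s hs hsc hsd
    apply FaithfulSMul.eq_of_smul_eq_smul (α := α)
    intro y
    rw [one_smul]
    by_cases hyc : y = c
    · rw [hyc, hsc]
    · obtain ⟨m, hm, hmc, hmd⟩ := htr c d y (Ne.symm hcd) hyc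
      have h1 := hexp' c s hs hsc
      have h2 := hexp' c m hm hmc
      have h3 := hexp' c (m * s) (mul_mem hm hs) (by rw [mul_smul, hsc, hmc])
      have hsi : s⁻¹ = s := by rw [inv_eq_iff_mul_eq_one, ← pow_two, h1]
      have hmi : m⁻¹ = m := by rw [inv_eq_iff_mul_eq_one, ← pow_two, h2]
      have : (m * s)⁻¹ = m * s := by rw [inv_eq_iff_mul_eq_one, ← pow_two, h3]
      rw [mul_inv_rev, hsi, hmi] at this
      rw [← hmd, ← mul_smul, this, mul_smul, hsd]
  -- step 4: four distinct points
  have : ∃ b : α, b ≠ a := ⟨u, hua⟩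
  obtain ⟨b, hba⟩ := this
  have : ∃ c : α, c ∉ ({a, b} : Finset α) := by
    by_contra hcon
    push Not at hcon
    have h1 : (Finset.univ : Finset α) ⊆ {a, b} := fun w _ => hcon w
    have h2 := Finset.card_le_card h1
    rw [Finset.card_univ, ← Nat.card_eq_fintype_card] at h2
    have h3 : ({a, b} : Finset α).card ≤ 2 := Finset.card_le_two
    omega
  obtain ⟨c, hc⟩ := this
  simp only [Finset.mem_insert, Finset.mem_singleton, not_or] at hc
  obtain ⟨hca, hcb⟩ := hc
  have : ∃ d : α, d ∉ ({a, b, c} : Finset α) := by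
    by_contra hcon
    push Not at hcon
    have h1 : (Finset.univ : Finset α) ⊆ {a, b, c} := fun w _ => hcon w
    have h2 := Finset.card_le_card h1
    rw [Finset.card_univ, ← Nat.card_eq_fintype_card] at h2
    have h3 : ({a, b, c} : Finset α).card ≤ 3 := Finset.card_le_three
    omega
  obtain ⟨d, hd⟩ := this
  simp only [Finset.mem_insert, Finset.mem_singleton, not_or] at hd
  obtain ⟨hda, hdb, hdc⟩ := hd
  obtain ⟨t, ht, htc, hta⟩ := htr c a b (Ne.symm hca) (Ne.symm hcb)
  obtain ⟨t', ht', htd', hta'⟩ := htr d a b (Ne.symm hda) (Ne.symm hdb)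
  have htb : t • b = a := by
    have := hexp' c t ht htc
    rw [← hta, ← mul_smul, ← pow_two, this, one_smul]
  have htb' : t' • b = a := by
    have := hexp' d t' ht' htd'
    rw [← hta', ← mul_smul, ← pow_two, this, one_smul]
  have hs1 : t⁻¹ * t' = 1 := by
    apply hsemi a b (Ne.symm hba) _ (mul_mem (inv_mem ht) ht')
    · rw [mul_smul, hta', inv_smul_eq_iff, hta]
    · rw [mul_smul, htb', inv_smul_eq_iff, htb]
  have htt : t' = t := by
    rw [inv_mul_eq_one] at hs1; exact hs1.symm
  have ht1 : t = 1 := by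
    apply hsemi c d (Ne.symm hdc) t ht htc
    rw [← htt]; exact htd'
  rw [ht1, one_smul] at hta
  exact hba hta.symm

/-- Transport of multiple transitivity from the stabiliser (in `G`) picture to `N`. -/
theorem up (N : Subgroup G) (a : α) (hN : IsPretransitive N α) {m : ℕ}
    (h : IsMultiplyPretransitive (N.subgroupOf (stabilizer G a)) (ofStabilizer G a) m) :
    IsMultiplyPretransitive N α (m + 1) := by
  rw [ofStabilizer.isMultiplyPretransitive (a := a)]
  let σ : N.subgroupOf (stabilizer G a) → stabilizer N a := fun n =>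
    ⟨⟨n.1.1, n.2⟩, by
      rw [mem_stabilizer_iff]
      exact n.1.2⟩
  let f : ofStabilizer G a →ₑ[σ] ofStabilizer N a :=
    { toFun := fun x => ⟨x.1, by
        rw [mem_ofStabilizer_iff]
        exact (mem_ofStabilizer_iff G a).mp x.2⟩
      map_smul' := by
        intro n x
        rfl }
  have hf : Function.Surjective f := by
    intro y
    refine ⟨⟨y.1, ?_⟩, rfl⟩
    rw [mem_ofStabilizer_iff]
    exact (mem_ofStabilizer_iff N a).mp y.2
  exact IsPretransitive.of_embedding (f := f) hf

instance faithful_ofStabilizer [FaithfulSMul G α] (a : α) :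
    FaithfulSMul (stabilizer G a) (ofStabilizer G a) := by
  constructor
  intro g h hgh
  apply Subtype.ext
  apply FaithfulSMul.eq_of_smul_eq_smul (α := α)
  intro x
  by_cases hx : x = a
  · rw [hx]
    have h1 : (g : G) • a = a := g.2
    have h2 : (h : G) • a = a := h.2
    rw [h1, h2]
  · have := hgh ⟨x, (mem_ofStabilizer_iff G a).mpr hx⟩
    exact congrArg Subtype.val this

end Basic

/-- **Jordan**: normal subgroups of multiply transitive groups (abstract faithful version). -/
theorem jordan_aux : ∀ (k : ℕ), 2 ≤ k → ∀ (G : Type u) (α : Type v) [Group G] [MulAction G α]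
    [FaithfulSMul G α] [Finite α], k < Nat.card α → IsMultiplyPretransitive G α k →
    ∀ (N : Subgroup G) [N.Normal], N ≠ ⊥ →
    IsMultiplyPretransitive N α (k - 1) ∨ (k = 3 ∧ ∀ n ∈ N, n ^ 2 = 1) := by
  intro k hk
  induction k, hk using Nat.le_induction with
  | base =>
    intro G α _ _ _ _ hcard hG N _ hN
    left
    show IsMultiplyPretransitive N α 1
    rw [is_one_pretransitive_iff]
    exact normal_transitive hG le_rfl hcard.le N hN
  | succ k hk ih =>
    intro G α _ _ _ _ hcard hG N hNn hN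
    have hNtr : IsPretransitive N α := normal_transitive hG (by omega) hcard.le N hN
    have hG1 : IsPretransitive G α := by
      rw [← is_one_pretransitive_iff]
      exact MulAction.isMultiplyPretransitive_of_le (n := k + 1) (by omega) hcard.le
    have hne : Nonempty α := by
      have : 0 < Nat.card α := by omega
      exact (Nat.card_pos_iff.mp this).1
    obtain ⟨a⟩ := hne
    have hGa : IsMultiplyPretransitive (stabilizer G a) (ofStabilizer G a) k :=
      (ofStabilizer.isMultiplyPretransitive (a := a)).mp hG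
    have hcard' : k < Nat.card (ofStabilizer G a) := by
      rw [nat_card_ofStabilizer_eq]; omega
    by_cases hNa : N.subgroupOf (stabilizer G a) = ⊥
    · -- regular case
      have hreg : ∀ n ∈ N, n • a = a → n = 1 := by
        intro n hn hna
        have : (⟨n, hna⟩ : stabilizer G a) ∈ N.subgroupOf (stabilizer G a) := by
          rw [Subgroup.mem_subgroupOf]; exact hn
        rw [hNa, Subgroup.mem_bot] at this
        exact congrArg Subtype.val this
      have hexp := regular_exp_two hG (by omega) hcard.le (by omega) N a hreg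
      by_cases hk3 : k + 1 = 3
      · right; exact ⟨hk3, hexp⟩
      · exfalso
        exact regular_contra hG (by omega) hcard.le (by omega) N hN a hreg
    · rcases ih (stabilizer G a) (ofStabilizer G a) hcard' hGa (N.subgroupOf (stabilizer G a))
        hNa with h | ⟨hk3, hexp⟩
      · left
        have := up N a hNtr h
        have e : k - 1 + 1 = k + 1 - 1 := by omega
        rw [e] at this
        exact this
      · exfalso
        apply no_exp_two hG (by omega) hcard.le (by omega) N a
        · obtain ⟨n, hn1⟩ := (Subgroup.ne_bot_iff_exists_ne_one).mp hNa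
          refine ⟨n.1.1, n.2, ?_, n.1.2⟩
          intro h
          apply hn1
          apply Subtype.ext
          apply Subtype.ext
          exact h
        · intro n hn hna
          have := hexp ⟨n, hna⟩ (by rw [Subgroup.mem_subgroupOf]; exact hn)
          exact congrArg Subtype.val this

end Cfsg.Agent.Lib.Lead.JordanNormal
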