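import Mathlib

set_option autoImplicit false
set_option linter.unusedSectionVars false
set_option linter.unusedVariables false
set_option maxHeartbeats 800000

open scoped Pointwise
open Classical

namespace Cfsg.Agent.Lib.Lead.Homog

/-- Lucas: `C((a+1) m + a, a) ≡ 1 (mod p)` when `a + 1 = p ^ e`. -/
theorem choose_modEq_one (p : ℕ) [hp : Fact p.Prime] :
    ∀ (e m a : ℕ), p ^ e = a + 1 → ((a + 1) * m + a).choose a ≡ 1 [MOD p] := by
  intro e
  induction e with
  | zero =>
    intro m a ha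
    have : a = 0 := by
      rw [pow_zero] at ha
      omega
    subst this
    simp [Nat.ModEq]
  | succ e ih =>
    intro m A hA
    have hpos : 0 < p ^ e := pow_pos hp.out.pos e
    obtain ⟨a, ha⟩ : ∃ a, p ^ e = a + 1 := ⟨p ^ e - 1, by omega⟩
    obtain ⟨r, hr⟩ : ∃ r, p = r + 1 := ⟨p - 1, by have := hp.out.pos; omega⟩
    have hA2 : A + 1 = (a + 1) * p := by rw [← hA, ← ha, pow_succ]
    have h1 : (a + 1) * p = p * a + p := by ring
    have hA3 : A = r + p * a := by omega
    subst hA3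
    have hN : (r + p * a + 1) * m + (r + p * a) = r + p * ((a + 1) * m + a) := by
      rw [hA2]
      ring
    have hL := Choose.choose_modEq_choose_mod_mul_choose_div_nat
      (n := r + p * ((a + 1) * m + a)) (k := r + p * a) (p := p)
    have hrp : r < p := by omega
    rw [Nat.add_mul_mod_self_left, Nat.add_mul_mod_self_left, Nat.mod_eq_of_lt hrp,
      Nat.add_mul_div_left _ _ hp.out.pos, Nat.add_mul_div_left _ _ hp.out.pos,
      Nat.div_eq_of_lt hrp, zero_add, zero_add, Nat.choose_self, one_mul] at hL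
    rw [hN]
    exact hL.trans (ih m a ha)

theorem coprime_choose {p e k : ℕ} (hp : p.Prime) (hk : p ^ e ∣ k) :
    Nat.Coprime (p ^ e) ((k + (p ^ e - 1)).choose k) := by
  haveI : Fact p.Prime := ⟨hp⟩
  obtain ⟨m, rfl⟩ := hk
  have hpos : 0 < p ^ e := pow_pos hp.pos e
  obtain ⟨a, ha⟩ : ∃ a, p ^ e = a + 1 := ⟨p ^ e - 1, by omega⟩
  have h1 : Nat.Coprime p ((p ^ e * m + (p ^ e - 1)).choose (p ^ e * m)) := by
    rw [ha, Nat.add_sub_cancel, Nat.choose_symm_add, hp.coprime_iff_not_dvd]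
    intro hdvd
    have h2 := choose_modEq_one p e m a ha
    have h3 : ((a + 1) * m + a).choose a % p = 0 := Nat.mod_eq_zero_of_dvd hdvd
    rw [Nat.ModEq, h3, Nat.mod_eq_of_lt hp.one_lt] at h2
    exact absurd h2 (by norm_num)
  exact Nat.Coprime.pow_left e h1

theorem core_count {α : Type*} [DecidableEq α] (D : Finset α → Prop) (k c : ℕ)
    (hk : 1 ≤ k)
    (hc : ∀ B : Finset α, B.card = k → (B.filter (fun b => D (B.erase b))).card = c)
    (Γ : Finset α) :
    (Γ.card.choose k) * c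
      = ((Γ.powersetCard (k - 1)).filter D).card * (Γ.card - (k - 1)) := by
  have hX : ((Γ.powersetCard k).sigma (fun B => B.filter (fun b => D (B.erase b)))).card
      = Γ.card.choose k * c := by
    rw [Finset.card_sigma,
      Finset.sum_congr rfl (fun B hB => hc B (Finset.mem_powersetCard.mp hB).2),
      Finset.sum_const, Finset.card_powersetCard, smul_eq_mul]
  have hY : (((Γ.powersetCard (k - 1)).filter D).sigma (fun A => Γ \ A)).card
      = ((Γ.powersetCard (k - 1)).filter D).card * (Γ.card - (k - 1)) := by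
    rw [Finset.card_sigma]
    have h1 : ∀ A ∈ (Γ.powersetCard (k - 1)).filter D, (Γ \ A).card = Γ.card - (k - 1) := by
      intro A hA
      rw [Finset.mem_filter, Finset.mem_powersetCard] at hA
      rw [Finset.card_sdiff_of_subset hA.1.1, hA.1.2]
    rw [Finset.sum_congr rfl h1, Finset.sum_const, smul_eq_mul]
  rw [← hX, ← hY]
  refine Finset.card_nbij' (fun x => ⟨x.1.erase x.2, x.2⟩) (fun y => ⟨insert y.2 y.1, y.2⟩)
    ?_ ?_ ?_ ?_
  · intro x hx
    simp only [Finset.mem_coe, Finset.mem_sigma, Finset.mem_powersetCard, Finset.mem_filter,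
      Finset.mem_sdiff] at hx ⊢
    obtain ⟨⟨hsub, hcard⟩, hb, hD⟩ := hx
    refine ⟨⟨⟨(Finset.erase_subset _ _).trans hsub, ?_⟩, hD⟩, hsub hb, Finset.notMem_erase _ _⟩
    rw [Finset.card_erase_of_mem hb, hcard]
  · intro y hy
    simp only [Finset.mem_coe, Finset.mem_sigma, Finset.mem_powersetCard, Finset.mem_filter,
      Finset.mem_sdiff] at hy ⊢
    obtain ⟨⟨⟨hsub, hcard⟩, hD⟩, hyΓ, hyA⟩ := hy
    refine ⟨⟨Finset.insert_subset hyΓ hsub, ?_⟩, Finset.mem_insert_self _ _, ?_⟩
    · rw [Finset.card_insert_of_notMem hyA, hcard]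
      omega
    · rw [Finset.erase_insert hyA]
      exact hD
  · intro x hx
    simp only [Finset.mem_coe, Finset.mem_sigma, Finset.mem_powersetCard, Finset.mem_filter] at hx
    obtain ⟨-, hb, -⟩ := hx
    show (⟨insert x.2 (x.1.erase x.2), x.2⟩ : Σ _ : Finset α, α) = x
    rw [Finset.insert_erase hb]
  · intro y hy
    simp only [Finset.mem_coe, Finset.mem_sigma, Finset.mem_powersetCard, Finset.mem_filter,
      Finset.mem_sdiff] at hy
    obtain ⟨-, -, hyA⟩ := hy
    show (⟨(insert y.2 y.1).erase y.2, y.2⟩ : Σ _ : Finset α, α) = y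
    rw [Finset.erase_insert hyA]

section grp

variable {G : Type*} [Group G] {α : Type*} [Fintype α] [DecidableEq α] [MulAction G α]

theorem erase_smul (g : G) (B : Finset α) (b : α) :
    (g • B).erase (g • b) = g • (B.erase b) := by
  ext x
  simp only [Finset.mem_erase, Finset.mem_smul_finset]
  constructor
  · rintro ⟨hne, y, hy, rfl⟩
    exact ⟨y, ⟨fun h => hne (by rw [h]), hy⟩, rfl⟩
  · rintro ⟨y, ⟨hne, hy⟩, rfl⟩
    exact ⟨fun h => hne (smul_left_cancel g h), y, hy, rfl⟩

theorem count_smul (A₀ : Finset α) (g : G) (B : Finset α) :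
    ((g • B).filter (fun b => ∃ h : G, h • A₀ = (g • B).erase b)).card
      = (B.filter (fun b => ∃ h : G, h • A₀ = B.erase b)).card := by
  have h1 : (g • B).filter (fun b => ∃ h : G, h • A₀ = (g • B).erase b)
      = g • (B.filter (fun b => ∃ h : G, h • A₀ = B.erase b)) := by
    ext x
    simp only [Finset.mem_filter, Finset.mem_smul_finset]
    constructor
    · rintro ⟨⟨y, hy, rfl⟩, h, hh⟩
      refine ⟨y, ⟨hy, g⁻¹ * h, ?_⟩, rfl⟩
      rw [mul_smul, hh, erase_smul, inv_smul_smul]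
    · rintro ⟨y, ⟨hy, h, hh⟩, rfl⟩
      refine ⟨⟨y, hy, rfl⟩, g * h, ?_⟩
      rw [mul_smul, hh, erase_smul]
  rw [h1, Finset.card_smul_finset]

theorem homog_pred {k : ℕ} (hk : 2 ≤ k)
    (hG : MulAction.IsPretransitive G (Set.powersetCard α k))
    (hq : ∀ q : ℕ, IsPrimePow q → q ∣ k → k + q - 1 ≤ Fintype.card α) :
    MulAction.IsPretransitive G (Set.powersetCard α (k - 1)) := by
  have hk1 : k + 1 ≤ Fintype.card α := by
    obtain ⟨p, hp, hpk⟩ := Nat.exists_prime_and_dvd (show k ≠ 1 by omega)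
    have h1 := hq p hp.isPrimePow hpk
    have h2 := hp.two_le
    omega
  have htr : ∀ B B' : Finset α, B.card = k → B'.card = k → ∃ g : G, g • B = B' := by
    intro B B' hB hB'
    obtain ⟨g, hg⟩ := hG.exists_smul_eq (⟨B, hB⟩ : Set.powersetCard α k) ⟨B', hB'⟩
    refine ⟨g, ?_⟩
    have h1 := congrArg Subtype.val hg
    rw [Set.powersetCard.coe_smul] at h1
    exact h1
  constructor
  rintro ⟨A₀, hA₀⟩ ⟨A₁, hA₁⟩
  have hA₀' : A₀.card = k - 1 := hA₀
  have hA₁' : A₁.card = k - 1 := hA₁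
  have hext : ∀ A : Finset α, A.card = k - 1 → ∃ b, b ∉ A := by
    intro A hA
    by_contra hno
    push Not at hno
    have h1 : A = Finset.univ := Finset.eq_univ_iff_forall.mpr hno
    rw [h1, Finset.card_univ] at hA
    omega
  obtain ⟨b₀, hb₀⟩ := hext A₀ hA₀'
  obtain ⟨b₁, hb₁⟩ := hext A₁ hA₁'
  have hB₀ : (insert b₀ A₀).card = k := by
    rw [Finset.card_insert_of_notMem hb₀, hA₀']
    omega
  have hB₁ : (insert b₁ A₁).card = k := by
    rw [Finset.card_insert_of_notMem hb₁, hA₁']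
    omega
  obtain ⟨c, hcdef⟩ : ∃ c : ℕ, c = ((insert b₀ A₀).filter
      (fun b => ∃ h : G, h • A₀ = (insert b₀ A₀).erase b)).card := ⟨_, rfl⟩
  have hc : ∀ B : Finset α, B.card = k →
      (B.filter (fun b => ∃ h : G, h • A₀ = B.erase b)).card = c := by
    intro B hB
    obtain ⟨g, hg⟩ := htr (insert b₀ A₀) B hB₀ hB
    rw [← hg, count_smul, hcdef]
  have hcpos : 0 < c := by
    rw [hcdef, Finset.card_pos]
    refine ⟨b₀, ?_⟩
    rw [Finset.mem_filter]
    refine ⟨Finset.mem_insert_self _ _, 1, ?_⟩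
    rw [one_smul, Finset.erase_insert hb₀]
  have hcle : c ≤ k := by
    rw [hcdef, ← hB₀]
    exact Finset.card_filter_le _ _
  have hdvd : k ∣ c := by
    rw [Nat.dvd_iff_prime_pow_dvd_dvd]
    intro p e hp hpe
    by_cases he : e = 0
    · rw [he, pow_zero]
      exact one_dvd _
    have hpp : IsPrimePow (p ^ e) := by
      rw [isPrimePow_def]
      exact ⟨p, e, hp.prime, Nat.pos_of_ne_zero he, rfl⟩
    have hn := hq (p ^ e) hpp hpe
    have hpos : 0 < p ^ e := pow_pos hp.pos e
    obtain ⟨Γ, -, hΓ⟩ := Finset.exists_subset_card_eq (s := (Finset.univ : Finset α))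
      (n := k + (p ^ e - 1)) (by rw [Finset.card_univ]; omega)
    have hcount := core_count (fun A => ∃ h : G, h • A₀ = A) k c (by omega) hc Γ
    rw [hΓ] at hcount
    have h1 : k + (p ^ e - 1) - (k - 1) = p ^ e := by omega
    rw [h1] at hcount
    have hcop := coprime_choose hp hpe
    exact hcop.dvd_of_dvd_mul_left (Dvd.intro_left _ hcount.symm)
  have hck : c = k := le_antisymm hcle (Nat.le_of_dvd hcpos hdvd)
  have hall := hc (insert b₁ A₁) hB₁
  rw [hck] at hall
  obtain ⟨h, hh⟩ := Finset.filter_card_eq (hall.trans hB₁.symm) b₁ (Finset.mem_insert_self _ _)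
  rw [Finset.erase_insert hb₁] at hh
  refine ⟨h, ?_⟩
  apply Subtype.ext
  rw [Set.powersetCard.coe_smul]
  exact hh

end grp

end Cfsg.Agent.Lib.Lead.Homog
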