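import Mathlib
import Cfsg.Agent.Lib.Lead.BGN7
import Cfsg.Agent.Lib.Helper7.BGK9
import Cfsg.Agent.Lib.Helper3.BG14b

/-!
# S1434 from the rows S1430 and S1431 (B&G Theorem 14.7, the pair `(M, M*)`)
-/

set_option autoImplicit false
set_option linter.unusedSectionVars false
set_option linter.unusedVariables false

universe u

namespace Cfsg.Agent.Lib.Lead.BGN

open Cfsg Cfsg.Agent.Lib.Helper1 Cfsg.Agent.Lib.Helper2 Cfsg.Agent.Lib.Helper3
  Cfsg.Agent.Lib.Helper7 Cfsg.Agent.Lib.Helper7.BGRows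

variable {G : Type u} [Group G] [Finite G]

theorem relIndex_mul_card' {H M : Subgroup G} (h : H ≤ M) :
    H.relIndex M * Nat.card H = Nat.card M := by
  rw [mul_comm, ← Subgroup.relIndex_bot_left, ← Subgroup.relIndex_bot_left]
  exact Subgroup.relIndex_mul_relIndex _ _ _ bot_le h

theorem dvd_card_of_not_dvd_relIndex {H M : Subgroup G} (h : H ≤ M) {p : ℕ} (hp : p.Prime)
    (hpM : p ∣ Nat.card M) (hn : ¬ p ∣ H.relIndex M) : p ∣ Nat.card H := by
  rw [← relIndex_mul_card' h] at hpM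
  rcases (Nat.Prime.dvd_mul hp).mp hpM with h1 | h1
  · exact absurd h1 hn
  · exact h1

/-- the `q`-primary part of a commutative subgroup -/
def qpart (q : ℕ) (U : Subgroup G) (hU : ∀ a ∈ U, ∀ b ∈ U, a * b = b * a) : Subgroup G where
  carrier := {u | u ∈ U ∧ u ^ (q ^ Nat.card U) = 1}
  mul_mem' := by
    rintro a b ⟨ha, ha'⟩ ⟨hb, hb'⟩
    refine ⟨U.mul_mem ha hb, ?_⟩
    have hc : Commute a b := hU a ha b hb
    rw [hc.mul_pow, ha', hb', one_mul]
  one_mem' := ⟨U.one_mem, one_pow _⟩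
  inv_mem' := by
    rintro a ⟨ha, ha'⟩
    exact ⟨U.inv_mem ha, by rw [inv_pow, ha', inv_one]⟩

theorem qpart_le (q : ℕ) (U : Subgroup G) (hU : ∀ a ∈ U, ∀ b ∈ U, a * b = b * a) :
    qpart q U hU ≤ U := fun _ hx => hx.1

theorem qpart_isPGroup (q : ℕ) (U : Subgroup G) (hU : ∀ a ∈ U, ∀ b ∈ U, a * b = b * a) :
    IsPGroup q ↥(qpart q U hU) := by
  intro x
  refine ⟨Nat.card U, ?_⟩
  apply Subtype.ext
  rw [Subgroup.coe_pow, Subgroup.coe_one]
  exact x.2.2

theorem mem_qpart_of_orderOf {q : ℕ} {U : Subgroup G} (hU : ∀ a ∈ U, ∀ b ∈ U, a * b = b * a)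
    {u : G} (hu : u ∈ U) (ho : orderOf u = q) : u ∈ qpart q U hU := by
  refine ⟨hu, ?_⟩
  have hpos : 0 < Nat.card U := Nat.card_pos
  have : q ∣ q ^ Nat.card U := dvd_pow_self q hpos.ne'
  rw [← ho] at this
  exact orderOf_dvd_iff_pow_eq_one.mp (by rw [ho] at this ⊢; exact this)

theorem le_normalizer_qpart {q : ℕ} {U : Subgroup G} (hU : ∀ a ∈ U, ∀ b ∈ U, a * b = b * a)
    {K : Subgroup G} (hK : K ≤ Subgroup.normalizer (U : Set G)) :
    K ≤ Subgroup.normalizer ((qpart q U hU : Subgroup G) : Set G) := by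
  have key : ∀ k ∈ K, ∀ w ∈ qpart q U hU, k * w * k⁻¹ ∈ qpart q U hU := by
    intro k hk w hw
    refine ⟨(Subgroup.mem_normalizer_iff.mp (hK hk) w).mp hw.1, ?_⟩
    rw [conj_pow, hw.2, mul_one, mul_inv_cancel]
  intro k hk
  rw [Subgroup.mem_normalizer_iff]
  intro w
  constructor
  · exact key k hk w
  · intro hw
    have := key k⁻¹ (K.inv_mem hk) _ hw
    have e : k⁻¹ * (k * w * k⁻¹) * k⁻¹⁻¹ = w := by group
    rwa [e] at this

namespace PPair

variable {M Ms K Ks : Subgroup G}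

/-- an element of `K ⊔ K*` lying in `M_σ` lies in `K*` -/
theorem mem_Ks_of_mem_sigma (hG : IsMinSimpleOddOrder G) (h : PPair M Ms K Ks) {z : G}
    (hz : z ∈ K ⊔ Ks) (hzσ : z ∈ sigmaCore M) : z ∈ Ks := by
  obtain ⟨x, hx, y, hy, hxy, -, -⟩ := exists_components h.comm (h.coprime_K_Ks hG) hz
  have hxσ : x ∈ sigmaCore M := by
    have : x = z * y⁻¹ := by rw [hxy]; group
    rw [this]
    exact (sigmaCore M).mul_mem hzσ ((sigmaCore M).inv_mem (h.Ks_le_sigma hy))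
  have hx1 : x ∈ K ⊓ sigmaCore M := ⟨hx, hxσ⟩
  rw [h.K_inf_sigma hG, Subgroup.mem_bot] at hx1
  rw [hxy, hx1, one_mul]
  exact hy

/-- `C_M(x) = K K*` for `x ∈ K#` -/
theorem cent_x (hG : IsMinSimpleOddOrder G) (h1430 : Row1430 G) (h1431 : Row1431 G)
    (h : PPair M Ms K Ks) {x : G} (hx : x ∈ K) (hx1 : x ≠ 1) :
    M ⊓ Subgroup.centralizer ({x} : Set G) = K ⊔ Ks := by
  apply le_antisymm
  · rintro m ⟨hmM, hmc⟩
    have hmx : x * m = m * x := Subgroup.mem_centralizer_iff.mp hmc x (Set.mem_singleton x)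
    have hox : orderOf x ≠ 1 := fun h1 => hx1 (orderOf_eq_one_iff.mp h1)
    obtain ⟨p, hp, hpx⟩ := Nat.exists_prime_and_dvd hox
    have ho0 : orderOf x ≠ 0 := (orderOf_pos x).ne'
    obtain ⟨x₀, hx₀⟩ : ∃ x₀ : G, x₀ = x ^ (orderOf x / p) := ⟨_, rfl⟩
    have hx₀o : orderOf x₀ = p := by rw [hx₀]; exact orderOf_pow_orderOf_div ho0 hpx
    have hx₀K : x₀ ∈ K := by rw [hx₀]; exact K.pow_mem hx _
    have hXK : Subgroup.zpowers x₀ ≤ K := Subgroup.zpowers_le.mpr hx₀K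
    have hXc : (Nat.card (Subgroup.zpowers x₀)).Prime := by
      rw [Nat.card_zpowers, hx₀o]; exact hp
    have hrow := ((h1430 hG M h.hM K h.hK h.hK1).2.2 _ hXK hXc).1
    rw [← h.hKs] at hrow
    rw [← hrow]
    refine ⟨hmM, ?_⟩
    apply Subgroup.centralizer_le_normalizer
    rw [centralizer_zpowers_eq, Subgroup.mem_centralizer_iff]
    intro y hy
    rw [Set.mem_singleton_iff.mp hy, hx₀]
    have hc : Commute x m := hmx
    exact (hc.pow_left _).eq
  · apply sup_le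
    · intro k hk
      refine Subgroup.mem_inf.mpr ⟨h.K_le hk, ?_⟩
      rw [Subgroup.mem_centralizer_iff]
      intro y hy
      rw [Set.mem_singleton_iff.mp hy]
      exact h.K_comm hG h1430 h1431 x hx k hk
    · intro y hy
      refine Subgroup.mem_inf.mpr ⟨h.Ks_le hy, ?_⟩
      rw [Subgroup.mem_centralizer_iff]
      intro t ht
      rw [Set.mem_singleton_iff.mp ht]
      exact h.comm x hx y hy

/-- `C_G(x y) = K K*` for `x ∈ K#`, `y ∈ K*#` -/
theorem cent_xy (hG : IsMinSimpleOddOrder G) (h1430 : Row1430 G) (h1431 : Row1431 G)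
    (h : PPair M Ms K Ks) {x y : G} (hx : x ∈ K) (hx1 : x ≠ 1) (hy : y ∈ Ks) (hy1 : y ≠ 1) :
    Subgroup.centralizer ({x * y} : Set G) = K ⊔ Ks := by
  have hc : Commute x y := h.comm x hx y hy
  have hcop : (orderOf x).Coprime (orderOf y) :=
    Nat.Coprime.coprime_dvd_left (Subgroup.orderOf_dvd_natCard K hx)
      (Nat.Coprime.coprime_dvd_right (Subgroup.orderOf_dvd_natCard Ks hy) (h.coprime_K_Ks hG))
  apply le_antisymm
  · intro g hg
    have hg' : g ∈ Subgroup.centralizer ((Subgroup.zpowers (x * y) : Subgroup G) : Set G) := by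
      rw [centralizer_zpowers_eq]; exact hg
    have hyz : y ∈ Subgroup.zpowers (x * y) := ComplIn.mem_zpowers_mul_of_coprime hc hcop
    have hxz : x ∈ Subgroup.zpowers (x * y) := by
      have := ComplIn.mem_zpowers_mul_of_coprime hc.symm hcop.symm
      rwa [← hc.eq] at this
    have hgy : y * g = g * y := Subgroup.mem_centralizer_iff.mp hg' y hyz
    have hgx : x * g = g * x := Subgroup.mem_centralizer_iff.mp hg' x hxz
    have hgM : g ∈ M := by
      apply h.cent_le hG h1431 hy hy1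
      rw [Subgroup.mem_centralizer_iff]
      intro t ht
      rw [Set.mem_singleton_iff.mp ht]; exact hgy
    rw [← h.cent_x hG h1430 h1431 hx hx1]
    refine Subgroup.mem_inf.mpr ⟨hgM, ?_⟩
    rw [Subgroup.mem_centralizer_iff]
    intro t ht
    rw [Set.mem_singleton_iff.mp ht]; exact hgx
  · apply sup_le
    · intro k hk
      rw [Subgroup.mem_centralizer_iff]
      intro t ht
      rw [Set.mem_singleton_iff.mp ht]
      have h1 : x * k = k * x := h.K_comm hG h1430 h1431 x hx k hk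
      have h2 : k * y = y * k := h.comm k hk y hy
      calc x * y * k = x * (y * k) := by group
        _ = x * (k * y) := by rw [h2]
        _ = (x * k) * y := by group
        _ = (k * x) * y := by rw [h1]
        _ = k * (x * y) := by group
    · intro s hs
      rw [Subgroup.mem_centralizer_iff]
      intro t ht
      rw [Set.mem_singleton_iff.mp ht]
      have h1 : x * s = s * x := h.comm x hx s hs
      have h2 : y * s = s * y := h.Ks_comm hG h1430 h1431 y hy s hs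
      calc x * y * s = x * (y * s) := by group
        _ = x * (s * y) := by rw [h2]
        _ = (x * s) * y := by group
        _ = (s * x) * y := by rw [h1]
        _ = s * (x * y) := by group

/-- `Ẑ` meets no conjugate `M^g`, `g ∉ M` -/
theorem Zhat_disj (hG : IsMinSimpleOddOrder G) (h1431 : Row1431 G) (h : PPair M Ms K Ks)
    {g : G} (hg : g ∉ M) {z : G} (hz : z ∈ Zhat K Ks) : z ∉ BG7.cj g M := by
  intro hzg
  obtain ⟨hzZ, hzn⟩ := hz
  obtain ⟨x, hx, y, hy, hxy, -, hyz⟩ := exists_components h.comm (h.coprime_K_Ks hG) hzZ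
  have hy1 : y ≠ 1 := by
    rintro rfl
    apply hzn
    left
    rw [hxy, mul_one]; exact hx
  have hyg : y ∈ BG7.cj g M := (Subgroup.zpowers_le.mpr hzg) hyz
  have h2 : y ∈ Ks ⊓ BG7.cj g M := ⟨hy, hyg⟩
  rw [h.Ks_ti hG h1431 hg, Subgroup.mem_bot] at h2
  exact hy1 h2

/-- `K*` is a Hall `σ(M)`-subgroup of `M*` -/
theorem Ks_hall_sigma (hG : IsMinSimpleOddOrder G) (h1430 : Row1430 G) (h1431 : Row1431 G)
    (h : PPair M Ms K Ks) : IsPiHallOf (sigma M) Ks Ms := by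
  classical
  obtain ⟨hσHall, -, -⟩ := BGA.s1350 hG M h.hM
  obtain ⟨hσHalls, -, -⟩ := BGA.s1350 hG Ms h.hMs
  have hKs1 := h.Ks_ne_bot hG h1430
  have hKsσ : ∀ p : ℕ, p.Prime → p ∣ Nat.card Ks → p ∈ sigma M := fun p hp hd =>
    hσHall.2.1 p hp (hd.trans (Subgroup.card_dvd_of_le h.Ks_le_sigma))
  refine ⟨h.Ks_le', hKsσ, ?_⟩
  intro q hq hqσ hqd
  obtain ⟨-, ⟨Us, hUc, hUH, hUn, hUf⟩, -⟩ := h1430 hG Ms h.hMs Ks h.hKsH hKs1
  have hKU : BG14.KU Ms Ks Us := ⟨h.hKsH, hKs1, hUc, hUH, hUn, hUf⟩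
  have hcompl := hKU.compl hG h.hMs
  have hcard := ComplIn.card_eq hcompl
  have hdisj : Disjoint Us Ks := by
    rw [disjoint_iff]
    exact Subgroup.inf_eq_bot_of_coprime hKU.coprime_KU.symm
  have hcard2 : Nat.card ↥(Us ⊔ Ks) = Nat.card Us * Nat.card Ks :=
    BGF.card_sup_eq_mul hUn hdisj
  have hri := relIndex_mul_card' h.Ks_le'
  -- `relIndex = |Us| * |M*_σ|`
  have hri2 : Ks.relIndex Ms = Nat.card Us * Nat.card (sigmaCore Ms) := by
    have hpos : 0 < Nat.card Ks := Nat.card_pos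
    apply Nat.eq_of_mul_eq_mul_right hpos
    rw [hri, hcard, hcard2]; ring
  rw [hri2] at hqd
  have hUcomm : ∀ a ∈ Us, ∀ b ∈ Us, a * b = b * a := fun a ha b hb => by
    have := hUc.is_comm.comm (⟨a, ha⟩ : ↥Us) ⟨b, hb⟩
    exact congrArg Subtype.val this
  rcases (Nat.Prime.dvd_mul hq).mp hqd with hqU | hqs
  · -- `q ∣ |U*|`
    haveI : Fact q.Prime := ⟨hq⟩
    obtain ⟨u, hu⟩ := exists_prime_orderOf_dvd_card' (G := ↥Us) q hqU
    have huo : orderOf (u : G) = q := by rw [Subgroup.orderOf_coe]; exact hu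
    obtain ⟨W, hW⟩ : ∃ W : Subgroup G, W = qpart q Us hUcomm := ⟨_, rfl⟩
    have huW : (u : G) ∈ W := by rw [hW]; exact mem_qpart_of_orderOf hUcomm u.2 huo
    have hWp : IsPGroup q ↥W := by rw [hW]; exact qpart_isPGroup q Us hUcomm
    have hKW : Ks ≤ Subgroup.normalizer (W : Set G) := by
      rw [hW]; exact le_normalizer_qpart hUcomm hUn
    have hYσ : ∀ r : ℕ, r.Prime → r ∣ Nat.card ↥(W ⊔ Ks) → r ∈ sigma M := by
      intro r hr hrd
      rcases BG13.prime_dvd_of_le_sup hr hKW le_rfl hrd with h1 | h1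
      · obtain ⟨n, hn⟩ := IsPGroup.iff_card.mp hWp
        rw [hn] at h1
        have := (Nat.prime_dvd_prime_iff_eq hr hq).mp (hr.dvd_of_dvd_pow h1)
        rw [this]; exact hqσ
      · exact hKsσ r hr h1
    have hYne : (W ⊔ Ks) ⊓ (sigmaCore M ⊓ Subgroup.centralizer (K : Set G)) ≠ ⊥ := by
      rw [← h.hKs, inf_eq_right.mpr le_sup_right]
      exact hKs1
    have hY := (h1431 hG M h.hM K h.hK h.hK1).2.2.2 (W ⊔ Ks) hYσ hYne
    have huσ : (u : G) ∈ sigmaCore M := hY ((le_sup_left : W ≤ W ⊔ Ks) huW)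
    have huZ : (u : G) ∈ K ⊔ Ks := by
      rw [← h.inter hG h1430]
      exact ⟨(BG12.sigmaCore_le M) huσ, hUH.1 u.2⟩
    have huKs : (u : G) ∈ Ks := h.mem_Ks_of_mem_sigma hG huZ huσ
    have hu1 : (u : G) ∈ Us ⊓ Ks := ⟨u.2, huKs⟩
    rw [disjoint_iff.mp hdisj, Subgroup.mem_bot] at hu1
    rw [hu1, orderOf_one] at huo
    exact hq.one_lt.ne huo
  · -- `q ∈ σ(M*)`: contradicts the σ-partition
    exact BGK.sigma_partition_of h1430 h1431 hG h.hM h.hMs (h.not_conj hG) hqσ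
      (hσHalls.2.1 q hq hqs)

end PPair

/-- `κ(M) = τ₁(M)` when `K ≠ 1` -/
theorem kappa_eq_tau1 (hG : IsMinSimpleOddOrder G) (h1430 : Row1430 G) {M K U : Subgroup G}
    (hM : IsCoatom M) (hKU : IsSigmaDecomposition M K U) (hK1 : K ≠ ⊥) :
    kappa M = tau1 M := by
  classical
  obtain ⟨hder, -⟩ := BGK.s1365_of h1430 hG M hM K U hKU hK1
  obtain ⟨c1, c2, c3⟩ := BGK.decomp_card hG hM hKU
  ext p
  constructor
  · intro hp
    refine ⟨hp.1, hp.2.2.1, hp.2.1, ?_, BGK.pRankLE_one_of_kappa hp⟩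
    intro hd
    rw [hder] at hd
    have hpK : p ∣ Nat.card K :=
      dvd_card_of_not_dvd_relIndex hKU.hall.1 hp.1 hp.2.1 (hKU.hall.2.2 p hp.1 hp)
    have := Nat.eq_one_of_dvd_coprimes c3 hpK hd
    exact hp.1.one_lt.ne' this
  · intro hp
    obtain ⟨hpp, hpσ, hpM, hpd, -⟩ := hp
    by_contra hκ
    obtain ⟨-, ⟨U', hUc, hUH, hUn, hUf⟩, -⟩ := h1430 hG M hM K hKU.hall hK1
    have hKUs : BG14.KU M K U' := ⟨hKU.hall, hK1, hUc, hUH, hUn, hUf⟩
    have hpU : p ∣ Nat.card U' :=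
      dvd_card_of_not_dvd_relIndex hUH.1 hpp hpM (hUH.2.2 p hpp ⟨hpp, hκ, hpσ⟩)
    haveI hMs : Group.IsSolvable ↥M := hG.2.2.2 M hM.1
    haveI hKs : Group.IsSolvable ↥K := isSolvable_of_le hKU.hall.1
    obtain ⟨k, hk, hk1⟩ : ∃ k ∈ K, k ≠ 1 := by
      obtain ⟨x, hx⟩ := (Subgroup.ne_bot_iff_exists_ne_one (H := K)).mp hK1
      exact ⟨(x : G), x.2, fun hx1 => hx (Subtype.ext hx1)⟩
    have hUeq : ⁅U', K⁆ = U' :=
      BG14.eq_commutator_of_fpf hUn hKUs.coprime_KU (Or.inl hKs) hk (hUf k hk hk1)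
    have hUle : U' ≤ ⁅M, M⁆ := by
      rw [← hUeq]
      exact Subgroup.commutator_mono hUH.1 hKU.hall.1
    exact hpd (hpU.trans (Subgroup.card_dvd_of_le hUle))

theorem count_arith {k ks A Z g : ℕ} (hk : 3 ≤ k) (hks : 3 ≤ ks) (h5 : 5 ≤ k ∨ 5 ≤ ks)
    (hg : 0 < g) (hA : A * (k * ks) = Z * g) (hZ : Z + k + ks = k * ks + 1) :
    k * ks * A = (k * ks - k - ks + 1) * g ∧ g < 2 * A := by
  have h1 : k + ks ≤ k * ks := by nlinarith
  have hZ' : k * ks - k - ks + 1 = Z := by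
    generalize k * ks = p at *
    omega
  refine ⟨by rw [hZ', mul_comm]; exact hA, ?_⟩
  have h2 : k * ks < 2 * Z := by
    have h3 : 2 * k + 2 * ks + 1 ≤ k * ks + 2 := by
      rcases h5 with h5 | h5
      · nlinarith
      · nlinarith
    generalize k * ks = p at *
    omega
  have hpos : 0 < k * ks := by positivity
  apply Nat.lt_of_mul_lt_mul_right (a := k * ks)
  calc g * (k * ks) = (k * ks) * g := by ring
    _ < (2 * Z) * g := Nat.mul_lt_mul_of_pos_right h2 hg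
    _ = 2 * (Z * g) := by ring
    _ = 2 * (A * (k * ks)) := by rw [hA]
    _ = 2 * A * (k * ks) := by ring

theorem odd_card_ge_three (hG : IsMinSimpleOddOrder G) {H : Subgroup G} (hH : H ≠ ⊥) :
    3 ≤ Nat.card H := by
  have hodd : Odd (Nat.card H) := hG.1.of_dvd_nat (Subgroup.card_subgroup_dvd_card H)
  have h1 : Nat.card H ≠ 1 := fun h1 => hH (Subgroup.card_eq_one.mp h1)
  have hpos : 0 < Nat.card H := Nat.card_pos
  obtain ⟨t, ht⟩ := hodd
  omega

/-- **S1434** from the rows S1430 and S1431. -/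
theorem s1434_of (h1430 : Row1430 G) (h1431 : Row1431 G) (hG : Cfsg.IsMinSimpleOddOrder G)
    (M : Subgroup G) (hM : IsCoatom M) (K U : Subgroup G) (hKU : Cfsg.IsSigmaDecomposition M K U) (hK1 : K ≠ ⊥) (Mstar : Subgroup G) (hMstar : IsCoatom Mstar)
    (hKst : K = Cfsg.sigmaCore Mstar ⊓ Subgroup.centralizer ((Cfsg.sigmaCore M ⊓ Subgroup.centralizer (K : Set G)) : Set G))
    (hKstH : Cfsg.IsPiHallOf (Cfsg.kappa Mstar) (Cfsg.sigmaCore M ⊓ Subgroup.centralizer (K : Set G)) Mstar) :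
    Cfsg.kappa M = Cfsg.tau1 M ∧ Cfsg.IsPiHallOf (Cfsg.sigma M) (Cfsg.sigmaCore M ⊓ Subgroup.centralizer (K : Set G)) Mstar ∧
      (∀ x ∈ K, x ≠ 1 → ∀ y ∈ (Cfsg.sigmaCore M ⊓ Subgroup.centralizer (K : Set G)), y ≠ 1 →
        M ⊓ Subgroup.centralizer ({x} : Set G) = K ⊔ (Cfsg.sigmaCore M ⊓ Subgroup.centralizer (K : Set G)) ∧ Mstar ⊓ Subgroup.centralizer ({y} : Set G) = K ⊔ (Cfsg.sigmaCore M ⊓ Subgroup.centralizer (K : Set G)) ∧
        Subgroup.centralizer ({x * y} : Set G) = K ⊔ (Cfsg.sigmaCore M ⊓ Subgroup.centralizer (K : Set G))) ∧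
      (∀ g : G, g ∉ M → ∀ z ∈ ((↑(K ⊔ (Cfsg.sigmaCore M ⊓ Subgroup.centralizer (K : Set G))) : Set G) \ ((K : Set G) ∪ ↑(Cfsg.sigmaCore M ⊓ Subgroup.centralizer (K : Set G)))), z ∉ M.map (MulAut.conj g).toMonoidHom) ∧
      Nat.card K * Nat.card ↥(Cfsg.sigmaCore M ⊓ Subgroup.centralizer (K : Set G)) * Set.ncard {a : G | ∃ g : G, ∃ z ∈ ((↑(K ⊔ (Cfsg.sigmaCore M ⊓ Subgroup.centralizer (K : Set G))) : Set G) \ ((K : Set G) ∪ ↑(Cfsg.sigmaCore M ⊓ Subgroup.centralizer (K : Set G)))), a = g * z * g⁻¹} =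
        (Nat.card K * Nat.card ↥(Cfsg.sigmaCore M ⊓ Subgroup.centralizer (K : Set G)) - Nat.card K - Nat.card ↥(Cfsg.sigmaCore M ⊓ Subgroup.centralizer (K : Set G)) + 1) * Nat.card G ∧
      Nat.card G < 2 * Set.ncard {a : G | ∃ g : G, ∃ z ∈ ((↑(K ⊔ (Cfsg.sigmaCore M ⊓ Subgroup.centralizer (K : Set G))) : Set G) \ ((K : Set G) ∪ ↑(Cfsg.sigmaCore M ⊓ Subgroup.centralizer (K : Set G)))), a = g * z * g⁻¹} := by
  classical
  obtain ⟨Ks, hKsdef⟩ : ∃ Ks : Subgroup G,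
      Ks = Cfsg.sigmaCore M ⊓ Subgroup.centralizer (K : Set G) := ⟨_, rfl⟩
  have hcoe : ((Cfsg.sigmaCore M ⊓ Subgroup.centralizer (K : Set G) : Subgroup G) : Set G) =
      ((Cfsg.sigmaCore M : Set G) ⊓ (Subgroup.centralizer (K : Set G) : Set G)) :=
    Subgroup.coe_inf _ _
  have hKst' : K = sigmaCore Mstar ⊓ Subgroup.centralizer ((Ks : Subgroup G) : Set G) := by
    rw [hKsdef, hcoe]; exact hKst
  rw [← hKsdef] at hKstH ⊢
  have h : PPair M Mstar K Ks := ⟨hM, hMstar, hKU.hall, hK1, hKsdef, hKstH, hKst'⟩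
  have hKs1 := h.Ks_ne_bot hG h1430
  have hsymm := h.symm hG h1430
  -- the count
  have hA := h.ncard_Aset hG h1430 h1431
  rw [h.card_Z hG] at hA
  have hZ := h.ncard_Zhat hG
  have hk3 := odd_card_ge_three hG hK1
  have hks3 := odd_card_ge_three hG hKs1
  have h5 : 5 ≤ Nat.card K ∨ 5 ≤ Nat.card Ks := by
    by_contra hcon
    push Not at hcon
    have hoddK : Odd (Nat.card K) := hG.1.of_dvd_nat (Subgroup.card_subgroup_dvd_card K)
    have hoddKs : Odd (Nat.card Ks) := hG.1.of_dvd_nat (Subgroup.card_subgroup_dvd_card Ks)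
    obtain ⟨a, ha⟩ := hoddK
    obtain ⟨b, hb⟩ := hoddKs
    have hK3 : Nat.card K = 3 := by omega
    have hKs3 : Nat.card Ks = 3 := by omega
    have hcop := h.coprime_K_Ks hG
    rw [hK3, hKs3] at hcop
    exact absurd hcop (by decide)
  have hgpos : 0 < Nat.card G := Nat.card_pos
  obtain ⟨hcnt, hhalf⟩ := count_arith hk3 hks3 h5 hgpos hA hZ
  refine ⟨kappa_eq_tau1 hG h1430 hM hKU hK1, h.Ks_hall_sigma hG h1430 h1431, ?_, ?_, hcnt, hhalf⟩
  · intro x hx hx1 y hy hy1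
    refine ⟨h.cent_x hG h1430 h1431 hx hx1, ?_, h.cent_xy hG h1430 h1431 hx hx1 hy hy1⟩
    rw [sup_comm]
    exact hsymm.cent_x hG h1430 h1431 hy hy1
  · intro g hg z hz
    exact h.Zhat_disj hG h1431 hg hz

end Cfsg.Agent.Lib.Lead.BGN
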