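import Mathlib
import Cfsg.Agent.Lib.Lead.BGN8
import Cfsg.Agent.Lib.Helper3.BG14c

/-!
# S1367 and S1368 from the rows S1430 and S1431
-/

set_option autoImplicit false
set_option linter.unusedSectionVars false
set_option linter.unusedVariables false

universe u

namespace Cfsg.Agent.Lib.Lead.BGN

open Cfsg Cfsg.Agent.Lib.Helper1 Cfsg.Agent.Lib.Helper2 Cfsg.Agent.Lib.Helper3
  Cfsg.Agent.Lib.Helper7 Cfsg.Agent.Lib.Helper7.BGRows

variable {G : Type u} [Group G] [Finite G]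

namespace PPair

variable {M Ms K Ks : Subgroup G}

/-- `K` is cyclic (commutative with cyclic Sylow subgroups) -/
theorem K_cyclic (hG : IsMinSimpleOddOrder G) (h1430 : Row1430 G) (h1431 : Row1431 G)
    (h : PPair M Ms K Ks) : IsCyclic ↥K := by
  have hZ : IsZGroup ↥K := by
    rw [isZGroup_iff]
    intro q hq Q
    haveI : Fact q.Prime := ⟨hq⟩
    exact sylow_cyclic h.hK q Q
  have hnil : Group.IsNilpotent ↥K := by
    refine ⟨⟨1, ?_⟩⟩
    rw [Subgroup.upperCentralSeries_one, eq_top_iff]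
    intro x _
    rw [Subgroup.mem_center_iff]
    intro g
    exact Subtype.ext (h.K_comm hG h1430 h1431 g g.2 x x.2)
  haveI := hZ
  haveI := hnil
  exact inferInstance

theorem Ks_cyclic (hG : IsMinSimpleOddOrder G) (h1430 : Row1430 G) (h1431 : Row1431 G)
    (h : PPair M Ms K Ks) : IsCyclic ↥Ks :=
  (h.symm hG h1430).K_cyclic hG h1430 h1431

/-- `Z = K × K*` is cyclic -/
theorem Z_cyclic (hG : IsMinSimpleOddOrder G) (h1430 : Row1430 G) (h1431 : Row1431 G)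
    (h : PPair M Ms K Ks) : IsCyclic ↥(K ⊔ Ks) := by
  haveI := h.K_cyclic hG h1430 h1431
  haveI := h.Ks_cyclic hG h1430 h1431
  obtain ⟨k, hk⟩ := IsCyclic.exists_ofOrder_eq_natCard (α := ↥K)
  obtain ⟨y, hy⟩ := IsCyclic.exists_ofOrder_eq_natCard (α := ↥Ks)
  have hko : orderOf (k : G) = Nat.card K := by rw [Subgroup.orderOf_coe]; exact hk
  have hyo : orderOf (y : G) = Nat.card Ks := by rw [Subgroup.orderOf_coe]; exact hy
  have hc : Commute (k : G) (y : G) := h.comm k k.2 y y.2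
  have hcop : (orderOf (k : G)).Coprime (orderOf (y : G)) := by
    rw [hko, hyo]; exact h.coprime_K_Ks hG
  have ho := hc.orderOf_mul_eq_mul_orderOf_of_coprime hcop
  have hmem : (k : G) * (y : G) ∈ K ⊔ Ks :=
    Subgroup.mul_mem _ ((le_sup_left : K ≤ K ⊔ Ks) k.2) ((le_sup_right : Ks ≤ K ⊔ Ks) y.2)
  apply isCyclic_of_orderOf_eq_card (⟨(k : G) * (y : G), hmem⟩ : ↥(K ⊔ Ks))
  rw [← Subgroup.orderOf_coe]
  show orderOf ((k : G) * (y : G)) = _
  rw [ho, hko, hyo, h.card_Z hG]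

/-- uniqueness of the maximal subgroup over `C_G(X)`, `X ≤ K*` of prime order -/
theorem unique_over_Ks (hG : IsMinSimpleOddOrder G) (h1430 : Row1430 G)
    (h : PPair M Ms K Ks) {X : Subgroup G} (hX : X ≤ Ks) (hXc : (Nat.card X).Prime) :
    Subgroup.centralizer (X : Set G) ≤ M ∧
      ∀ L : Subgroup G, IsCoatom L → Subgroup.centralizer (X : Set G) ≤ L → L = M := by
  classical
  obtain ⟨-, ⟨U', hUc, hUH, hUn, hUf⟩, -⟩ := h1430 hG M h.hM K h.hK h.hK1
  have hKU : BG14.KU M K U' := ⟨h.hK, h.hK1, hUc, hUH, hUn, hUf⟩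
  haveI : Fact (Nat.card X).Prime := ⟨hXc⟩
  obtain ⟨-, hall⟩ := hKU.of_prime hG h.hM (p := Nat.card X) (Y := X)
    (hX.trans h.Ks_le_sigma) (hX.trans h.Ks_le_cent) rfl
  obtain ⟨P⟩ : Nonempty (Sylow (Nat.card X) ↥(sigmaCore M)) := inferInstance
  exact (hall P).1

end PPair

/-- **S1367** from the rows S1430 and S1431. -/
theorem s1367_of (h1430 : Row1430 G) (h1431 : Row1431 G) (hG : Cfsg.IsMinSimpleOddOrder G)
    (M : Subgroup G) (hM : IsCoatom M) (K U : Subgroup G) (hKU : Cfsg.IsSigmaDecomposition M K U) (hK1 : K ≠ ⊥) (Mstar : Subgroup G) (hMstar : IsCoatom Mstar)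
    (hKst : K = Cfsg.sigmaCore Mstar ⊓ Subgroup.centralizer ((Cfsg.sigmaCore M ⊓ Subgroup.centralizer (K : Set G)) : Set G))
    (hKstH : Cfsg.IsPiHallOf (Cfsg.kappa Mstar) (Cfsg.sigmaCore M ⊓ Subgroup.centralizer (K : Set G)) Mstar) :
    (∀ X : Subgroup G, X ≤ (Cfsg.sigmaCore M ⊓ Subgroup.centralizer (K : Set G)) → (Nat.card X).Prime →
        Subgroup.centralizer (X : Set G) ≤ M ∧ ∀ L : Subgroup G, IsCoatom L → Subgroup.centralizer (X : Set G) ≤ L → L = M) ∧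
      (∀ Y : Subgroup G, Y ≤ K → (Nat.card Y).Prime →
        Subgroup.centralizer (Y : Set G) ≤ Mstar ∧ ∀ L : Subgroup G, IsCoatom L → Subgroup.centralizer (Y : Set G) ≤ L → L = Mstar) := by
  classical
  obtain ⟨Ks, hKsdef⟩ : ∃ Ks : Subgroup G,
      Ks = Cfsg.sigmaCore M ⊓ Subgroup.centralizer (K : Set G) := ⟨_, rfl⟩
  have hcoe : ((Cfsg.sigmaCore M ⊓ Subgroup.centralizer (K : Set G) : Subgroup G) : Set G) =
      ((Cfsg.sigmaCore M : Set G) ⊓ (Subgroup.centralizer (K : Set G) : Set G)) :=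
    Subgroup.coe_inf _ _
  have hKst' : K = sigmaCore Mstar ⊓ Subgroup.centralizer ((Ks : Subgroup G) : Set G) := by
    rw [hKsdef, hcoe]; exact hKst
  rw [← hKsdef] at hKstH ⊢
  have h : PPair M Mstar K Ks := ⟨hM, hMstar, hKU.hall, hK1, hKsdef, hKstH, hKst'⟩
  have hsymm := h.symm hG h1430
  exact ⟨fun X hX hXc => h.unique_over_Ks hG h1430 hX hXc,
    fun Y hY hYc => hsymm.unique_over_Ks hG h1430 hY hYc⟩

/-- **S1368** from the rows S1430 and S1431. -/
theorem s1368_of (h1430 : Row1430 G) (h1431 : Row1431 G) (hG : Cfsg.IsMinSimpleOddOrder G)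
    (M : Subgroup G) (hM : IsCoatom M) (K U : Subgroup G) (hKU : Cfsg.IsSigmaDecomposition M K U) (hK1 : K ≠ ⊥) (Mstar : Subgroup G) (hMstar : IsCoatom Mstar)
    (hKst : K = Cfsg.sigmaCore Mstar ⊓ Subgroup.centralizer ((Cfsg.sigmaCore M ⊓ Subgroup.centralizer (K : Set G)) : Set G))
    (hKstH : Cfsg.IsPiHallOf (Cfsg.kappa Mstar) (Cfsg.sigmaCore M ⊓ Subgroup.centralizer (K : Set G)) Mstar) :
    M ⊓ Mstar = K ⊔ (Cfsg.sigmaCore M ⊓ Subgroup.centralizer (K : Set G)) ∧ IsCyclic ↥(K ⊔ (Cfsg.sigmaCore M ⊓ Subgroup.centralizer (K : Set G))) := by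
  classical
  obtain ⟨Ks, hKsdef⟩ : ∃ Ks : Subgroup G,
      Ks = Cfsg.sigmaCore M ⊓ Subgroup.centralizer (K : Set G) := ⟨_, rfl⟩
  have hcoe : ((Cfsg.sigmaCore M ⊓ Subgroup.centralizer (K : Set G) : Subgroup G) : Set G) =
      ((Cfsg.sigmaCore M : Set G) ⊓ (Subgroup.centralizer (K : Set G) : Set G)) :=
    Subgroup.coe_inf _ _
  have hKst' : K = sigmaCore Mstar ⊓ Subgroup.centralizer ((Ks : Subgroup G) : Set G) := by
    rw [hKsdef, hcoe]; exact hKst
  rw [← hKsdef] at hKstH ⊢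
  have h : PPair M Mstar K Ks := ⟨hM, hMstar, hKU.hall, hK1, hKsdef, hKstH, hKst'⟩
  exact ⟨h.inter hG h1430, h.Z_cyclic hG h1430 h1431⟩

end Cfsg.Agent.Lib.Lead.BGN
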