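import Mathlib

/-! Farm RV (S3175): units A1, A2. -/

set_option autoImplicit false

namespace Cfsg.Agent.Lib.Lead.RVA

/-- UNIT A1 (chain step). `φ(b) = c b`, `φ^m(b) = c^m b`. -/
theorem chain_step {P : Type*} [Group P] (φ : MulAut P) (n : ℕ) (hφ : φ ^ n = 1)
    (N B : Subgroup P) (hN : ∀ c ∈ N, c ^ n = 1 → c = 1) (hfix : ∀ c ∈ N, φ c = c)
    (hquot : ∀ b ∈ B, φ b * b⁻¹ ∈ N) : ∀ b ∈ B, φ b = b := by
  intro b hb
  obtain ⟨c, hc⟩ : ∃ c, c = φ b * b⁻¹ := ⟨_, rfl⟩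
  have hcN : c ∈ N := hc ▸ hquot b hb
  have hφb : φ b = c * b := by rw [hc]; group
  have key : ∀ m : ℕ, (φ ^ m) b = c ^ m * b := by
    intro m
    induction m with
    | zero => simp
    | succ m ih =>
      rw [pow_succ', MulAut.mul_apply, ih, map_mul, map_pow, hfix c hcN, hφb, pow_succ, mul_assoc]
  have h1 := key n
  rw [hφ, MulAut.one_apply] at h1
  have h2 : c ^ n = 1 := by
    have : c ^ n * b = 1 * b := by rw [one_mul]; exact h1.symm
    exact mul_right_cancel this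
  have h3 : c = 1 := hN c hcN h2
  rw [hφb, h3, one_mul]

/-- UNIT A2 (index-two step). -/
theorem quot_triv_of_relIndex_two {P : Type*} [Group P] (φ : MulAut P) (N B : Subgroup P)
    (hNB : N ≤ B) (hidx : N.relIndex B = 2) (hNφ : ∀ c : P, c ∈ N ↔ φ c ∈ N)
    (hBφ : ∀ b ∈ B, φ b ∈ B) : ∀ b ∈ B, φ b * b⁻¹ ∈ N := by
  intro b hb
  have h2 : (N.subgroupOf B).index = 2 := hidx
  have key := Subgroup.mul_mem_iff_of_index_two h2 (a := (⟨φ b, hBφ b hb⟩ : ↥B))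
    (b := (⟨b, hb⟩ : ↥B)⁻¹)
  simp only [Subgroup.mem_subgroupOf, Subgroup.coe_mul, Subgroup.coe_inv, inv_mem_iff] at key
  exact key.mpr (hNφ b).symm

end Cfsg.Agent.Lib.Lead.RVA
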