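import Mathlib
import Cfsg.Prelude
import Cfsg.Agent.Lib.Helper4.ES2E
import Cfsg.Agent.Lib.Helper8.Layer
import Cfsg.Agent.Lib.Helper1.PCore
import Cfsg.Agent.Lib.Helper1.Fitting

/-!
# S3313 (Hall–Janko order), piece E+B: order of a split extension and the extraspecial data of `O₂(C_G(z))`
-/

set_option autoImplicit false

namespace Cfsg.Agent.Lib.Lead.HJe

variable {G : Type*} [Group G]

theorem card_of_complement [Finite G] (K Q C : Subgroup G) (hsup : K ⊔ Q = C) (hinf : K ⊓ Q = ⊥)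
    (hnorm : ∀ k ∈ K, ∀ q ∈ Q, k * q * k⁻¹ ∈ Q) : Nat.card C = Nat.card K * Nat.card Q := by
  classical
  -- the product set is a subgroup
  let S : Subgroup G :=
    { carrier := {x | ∃ k ∈ K, ∃ q ∈ Q, x = k * q}
      one_mem' := ⟨1, K.one_mem, 1, Q.one_mem, by simp⟩
      mul_mem' := by
        rintro x y ⟨k, hk, q, hq, rfl⟩ ⟨k', hk', q', hq', rfl⟩
        refine ⟨k * k', K.mul_mem hk hk', (k'⁻¹ * q * k'⁻¹⁻¹) * q', Q.mul_mem (hnorm _ (K.inv_mem hk') _ hq) hq', ?_⟩
        group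
      inv_mem' := by
        rintro x ⟨k, hk, q, hq, rfl⟩
        refine ⟨k⁻¹, K.inv_mem hk, k * q⁻¹ * k⁻¹, hnorm _ hk _ (Q.inv_mem hq), ?_⟩
        group }
  have hCS : C ≤ S := by
    rw [← hsup]
    refine sup_le ?_ ?_
    · intro k hk
      exact ⟨k, hk, 1, Q.one_mem, by simp⟩
    · intro q hq
      exact ⟨1, K.one_mem, q, hq, by simp⟩
  have hKC : K ≤ C := hsup ▸ le_sup_left
  have hQC : Q ≤ C := hsup ▸ le_sup_right
  let f : K × Q → C := fun p => ⟨(p.1 : G) * (p.2 : G), C.mul_mem (hKC p.1.2) (hQC p.2.2)⟩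
  have hf : Function.Bijective f := by
    constructor
    · rintro ⟨⟨k, hk⟩, ⟨q, hq⟩⟩ ⟨⟨k', hk'⟩, ⟨q', hq'⟩⟩ h
      have h1 : k * q = k' * q' := congrArg Subtype.val h
      have h2 : k'⁻¹ * k = q' * q⁻¹ := by
        have : k'⁻¹ * (k * q) * q⁻¹ = k'⁻¹ * (k' * q') * q⁻¹ := by rw [h1]
        simpa [mul_assoc] using this
      have h3 : k'⁻¹ * k ∈ K ⊓ Q := by
        refine ⟨K.mul_mem (K.inv_mem hk') hk, ?_⟩
        rw [h2]
        exact Q.mul_mem hq' (Q.inv_mem hq)
      rw [hinf, Subgroup.mem_bot] at h3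
      have hkk : k = k' := by
        have := inv_mul_eq_one.mp h3
        exact this.symm
      subst hkk
      have hqq : q = q' := mul_left_cancel h1
      subst hqq
      rfl
    · rintro ⟨x, hx⟩
      obtain ⟨k, hk, q, hq, rfl⟩ := hCS hx
      exact ⟨(⟨k, hk⟩, ⟨q, hq⟩), rfl⟩
  rw [← Nat.card_prod]
  exact (Nat.card_congr (Equiv.ofBijective f hf)).symm

theorem data_of_hex [Finite G] (z : G) (hz : orderOf z = 2)
    (hex : Cfsg.IsExtraspecial 2 ↥(Cfsg.generalizedFittingSubgroup ↥(Subgroup.centralizer ({z} : Set G)))) :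
    Cfsg.Agent.Lib.Helper4.ES2.Data
      ((Cfsg.pCore 2 ↥(Subgroup.centralizer ({z} : Set G))).map (Subgroup.centralizer ({z} : Set G)).subtype) z := by
  classical
  have : Fact (Nat.Prime 2) := ⟨Nat.prime_two⟩
  set C : Subgroup G := Subgroup.centralizer ({z} : Set G) with hC
  set Fs : Subgroup ↥C := Cfsg.generalizedFittingSubgroup ↥C with hFs
  have hFsN : Fs.Normal := Cfsg.Agent.Lib.Helper8.generalizedFittingSubgroup_normal
  have hFs2 : IsPGroup 2 ↥Fs := hex.1.1
  have hle1 : Fs ≤ Cfsg.pCore 2 ↥C := Cfsg.Agent.Lib.Helper1.le_pCore hFsN hFs2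
  have hPN : (Cfsg.pCore 2 ↥C).Normal := Cfsg.Agent.Lib.Helper1.pCore_normal 2
  have hP2 : IsPGroup 2 ↥(Cfsg.pCore 2 ↥C) := Cfsg.Agent.Lib.Helper1.pCore_isPGroup 2
  have hPnil : Group.IsNilpotent ↥(Cfsg.pCore 2 ↥C) := hP2.isNilpotent
  have hle2 : Cfsg.pCore 2 ↥C ≤ Fs := by
    refine le_trans (Cfsg.Agent.Lib.Helper1.le_fittingSubgroup hPN hPnil) ?_
    rw [hFs]
    unfold Cfsg.generalizedFittingSubgroup
    exact le_sup_right
  have hFP : Cfsg.pCore 2 ↥C = Fs := le_antisymm hle2 hle1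
  rw [hFP]
  obtain ⟨z0, hD, -⟩ := Cfsg.Agent.Lib.Helper4.ES2.data_top hex
  -- z as an element of C
  have hzC : z ∈ C := by
    rw [hC, Subgroup.mem_centralizer_iff]
    intro h hh
    rw [Set.mem_singleton_iff] at hh
    rw [hh]
  have hcomm : ∀ c : ↥C, (c : G) * z = z * (c : G) := by
    intro c
    have h1 : (c : G) ∈ Subgroup.centralizer ({z} : Set G) := c.2
    rw [Subgroup.mem_centralizer_iff] at h1
    exact (h1 z (Set.mem_singleton z)).symm
  let zC : ↥C := ⟨z, hzC⟩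
  have hzne : z ≠ 1 := by
    intro h
    rw [h, orderOf_one] at hz
    norm_num at hz
  have hzsq : z * z = 1 := by
    have := pow_orderOf_eq_one z
    rw [hz, pow_two] at this
    exact this
  have hzCcent : ∀ c : ↥C, c * zC = zC * c := by
    intro c
    exact Subtype.ext (hcomm c)
  have hzpN : (Subgroup.zpowers zC).Normal := by
    constructor
    intro n hn g
    obtain ⟨k, rfl⟩ := Subgroup.mem_zpowers_iff.mp hn
    have : g * zC ^ k * g⁻¹ = zC ^ k := by
      have h1 : Commute g zC := hzCcent g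
      have h2 : Commute g (zC ^ k) := h1.zpow_right k
      rw [h2.eq, mul_inv_cancel_right]
    rw [this]
    exact Subgroup.zpow_mem_zpowers zC k
  have hzCord : orderOf zC = 2 := by
    have : orderOf ((C.subtype) zC) = orderOf zC := orderOf_injective C.subtype C.subtype_injective zC
    rw [← this]
    exact hz
  have hzp2 : IsPGroup 2 ↥(Subgroup.zpowers zC) := by
    refine IsPGroup.of_card (n := 1) ?_
    rw [Nat.card_zpowers, hzCord, pow_one]
  have hzFs : zC ∈ Fs := by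
    rw [← hFP]
    exact Cfsg.Agent.Lib.Helper1.le_pCore hzpN hzp2 (Subgroup.mem_zpowers zC)
  let zF : ↥Fs := ⟨zC, hzFs⟩
  have hzF0 : zF = z0 := by
    have h1 := hD.center_sub zF (Subgroup.mem_top _) (fun q _ => Subtype.ext (hzCcent q.1))
    rcases h1 with h1 | h1
    · exfalso
      apply hzne
      have h2 : ((zF : ↥C) : G) = (((1 : ↥Fs) : ↥C) : G) := by rw [h1]
      exact h2
    · exact h1
  have hz0G : ((z0 : ↥C) : G) = z := by
    rw [← hzF0]
  -- coercion of cm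
  have hcm : ∀ a b : ↥Fs, ((Cfsg.Agent.Lib.Helper4.ES2.cm a b : ↥Fs) : ↥C).1
      = Cfsg.Agent.Lib.Helper4.ES2.cm ((a : ↥C) : G) ((b : ↥C) : G) := by
    intro a b
    simp [Cfsg.Agent.Lib.Helper4.ES2.cm]
  have hmem : ∀ x : G, x ∈ Fs.map C.subtype → ∃ a : ↥Fs, ((a : ↥C) : G) = x := by
    intro x hx
    obtain ⟨c, hc, rfl⟩ := Subgroup.mem_map.mp hx
    exact ⟨⟨c, hc⟩, rfl⟩
  refine ⟨?_, hzne, hzsq, ?_, ?_, ?_, ?_⟩
  · exact Subgroup.mem_map.mpr ⟨zC, hzFs, rfl⟩
  · intro q hq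
    obtain ⟨a, rfl⟩ := hmem q hq
    exact hcomm a.1
  · intro c hc hcc
    obtain ⟨a, rfl⟩ := hmem c hc
    have h1 := hD.center_sub a (Subgroup.mem_top _) (by
      intro q _
      apply Subtype.ext
      apply Subtype.ext
      have := hcc ((q : ↥C) : G) (Subgroup.mem_map.mpr ⟨q.1, q.2, rfl⟩)
      simpa using this)
    rcases h1 with h1 | h1
    · left
      rw [h1]
      rfl
    · right
      rw [h1]
      exact hz0G
  · intro a ha b hb
    obtain ⟨a', rfl⟩ := hmem a ha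
    obtain ⟨b', rfl⟩ := hmem b hb
    rcases hD.comm_mem a' (Subgroup.mem_top _) b' (Subgroup.mem_top _) with h1 | h1
    · left
      rw [← hcm, h1]
      rfl
    · right
      rw [← hcm, h1]
      exact hz0G
  · intro a ha
    obtain ⟨a', rfl⟩ := hmem a ha
    rcases hD.sq_mem a' (Subgroup.mem_top _) with h1 | h1
    · left
      have := congrArg (fun x : ↥Fs => ((x : ↥C) : G)) h1
      simpa using this
    · right
      have := congrArg (fun x : ↥Fs => ((x : ↥C) : G)) h1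
      simp only [Subgroup.coe_mul] at this
      rw [this]
      exact hz0G

end Cfsg.Agent.Lib.Lead.HJe
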