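import Mathlib

set_option autoImplicit false

namespace Cfsg.Agent.Lib.Lead.JordanCycle

open Equiv MulAction

variable {α : Type*} [Fintype α] [DecidableEq α]

/-- A primitive group containing a `p`-cycle is `(n - p + 1)`-fold transitive. -/
theorem multiTrans (G : Subgroup (Perm α)) (hG : IsPreprimitive G α) {p : ℕ} (hp : p.Prime)
    (hpn : p + 3 ≤ Fintype.card α) {g : Perm α} (hgc : g.IsCycle) (hgp : g.support.card = p)
    (hg : g ∈ G) : IsMultiplyPretransitive G α (Fintype.card α - p + 1) := by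
  classical
  obtain ⟨m, hm⟩ : ∃ m, Fintype.card α = p + 3 + m := ⟨Fintype.card α - (p + 3), by omega⟩
  have hp2 := hp.two_le
  suffices IsMultiplyPreprimitive G α (m + 2 + 2) by
    have h1 : Fintype.card α - p + 1 = m + 2 + 2 := by omega
    rw [h1]
    exact IsMultiplyPreprimitive.isMultiplyPretransitive ..
  apply hG.isMultiplyPreprimitive (s := (g.supportᶜ : Set α))
  · apply Nat.add_left_cancel (n := p)
    have := Set.ncard_add_ncard_compl (g.support : Set α)
    rw [Set.ncard_coe_finset, hgp, Nat.card_eq_fintype_card] at this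
    rw [this, hm]; ring
  · rw [Nat.card_eq_fintype_card]; omega
  have := Equiv.Perm.isPretransitive_of_isCycle_mem hgc hg
  apply IsPreprimitive.of_prime_card
  convert hp
  rw [Nat.card_eq_fintype_card, Fintype.card_subtype, ← hgp]
  apply congr_arg
  ext x
  simp [SubMulAction.mem_ofFixingSubgroup_iff]

/-- In a `k`-transitive group any permutation of a set of at most `k` points is induced. -/
theorem exists_on_finset (G : Subgroup (Perm α)) {k : ℕ} (hk : IsMultiplyPretransitive G α k)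
    (hkn : k ≤ Fintype.card α) (Γ : Finset α) (hΓ : Γ.card ≤ k) (π : Perm α) :
    ∃ x ∈ G, ∀ y ∈ Γ, x y = π y := by
  have hj : IsMultiplyPretransitive G α Γ.card :=
    MulAction.isMultiplyPretransitive_of_le (n := k) hΓ (by rw [Nat.card_eq_fintype_card]; exact hkn)
  let ι : Fin Γ.card ↪ α := Γ.equivFin.symm.toEmbedding.trans (Function.Embedding.subtype _)
  let ι' : Fin Γ.card ↪ α := ι.trans π.toEmbedding
  obtain ⟨x, hx⟩ := hj.exists_smul_eq ι ι'
  refine ⟨x.1, x.2, ?_⟩
  intro y hy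
  have h1 := congrArg (fun f : Fin Γ.card ↪ α => f (Γ.equivFin ⟨y, hy⟩)) hx
  simp only [Function.Embedding.smul_apply] at h1
  have h2 : ι (Γ.equivFin ⟨y, hy⟩) = y := by
    simp [ι]
  have h3 : ι' (Γ.equivFin ⟨y, hy⟩) = π y := by
    simp [ι', ι]
  rw [h2, h3] at h1
  exact h1

/-- the pointwise stabiliser in `G` of the fixed points of `g` -/
def fixK (G : Subgroup (Perm α)) (g : Perm α) : Subgroup (Perm α) where
  carrier := {f | f ∈ G ∧ ∀ z, g z = z → f z = z}
  mul_mem' := by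
    rintro a b ⟨ha, ha'⟩ ⟨hb, hb'⟩
    refine ⟨mul_mem ha hb, fun z hz => ?_⟩
    rw [Perm.mul_apply, hb' z hz, ha' z hz]
  one_mem' := ⟨one_mem _, fun z _ => rfl⟩
  inv_mem' := by
    rintro a ⟨ha, ha'⟩
    refine ⟨inv_mem ha, fun z hz => ?_⟩
    rw [Perm.inv_eq_iff_eq, ha' z hz]

theorem mem_fixK {G : Subgroup (Perm α)} {g f : Perm α} :
    f ∈ fixK G g ↔ f ∈ G ∧ ∀ z, g z = z → f z = z := Iff.rfl

theorem fixK_support {G : Subgroup (Perm α)} {g f : Perm α} (hf : f ∈ fixK G g) :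
    ∀ x, f x ∈ g.support ↔ x ∈ g.support := by
  intro x
  simp only [Perm.mem_support, ne_eq, not_iff_not]
  constructor
  · intro h
    have h1 := hf.2 (f x) h
    exact (f.injective h1 ▸ h : g x = x) |> fun h2 => by
      have : f x = x := f.injective h1
      rw [this] at h; exact h
  · intro h
    rw [hf.2 x h]; exact h

theorem card_fixK_dvd (G : Subgroup (Perm α)) (g : Perm α) :
    Nat.card (fixK G g) ∣ (g.support.card).factorial := by
  let φ : fixK G g →* Perm g.support :=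
    { toFun := fun f => Perm.subtypePerm f.1 (fixK_support f.2)
      map_one' := by ext x; simp
      map_mul' := fun a b => by ext x; rfl }
  have hinj : Function.Injective φ := by
    intro a b hab
    apply Subtype.ext
    ext x
    by_cases hx : x ∈ g.support
    · have := congrArg (fun σ : Perm g.support => ((σ ⟨x, hx⟩ : g.support) : α)) hab
      simpa [φ] using this
    · rw [Perm.notMem_support] at hx
      rw [a.2.2 x hx, b.2.2 x hx]
  have h := Subgroup.card_dvd_of_injective φ hinj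
  rw [Nat.card_perm] at h
  have h2 : Nat.card g.support = g.support.card := by
    rw [Nat.card_eq_fintype_card, Fintype.card_coe]
  rwa [h2] at h

theorem exists_normalizer_elt (G : Subgroup (Perm α)) {p : ℕ} (hp : p.Prime) {g : Perm α}
    (hgc : g.IsCycle) (hgp : g.support.card = p) (hg : g ∈ G) (x : Perm α) (hx : x ∈ G)
    (hxΓ : ∀ z, g z = z → g (x z) = x z) :
    ∃ n ∈ G, (∀ z, g z = z → n z = x z) ∧ n * g * n⁻¹ ∈ Subgroup.zpowers g := by
  haveI : Fact p.Prime := ⟨hp⟩
  -- x permutes the fixed points of g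
  have hxinv : ∀ z, g z = z → g (x⁻¹ z) = x⁻¹ z := by
    intro z hz
    let Γ : Finset α := Finset.univ.filter (fun y => g y = y)
    have himg : Γ.image x = Γ := by
      apply Finset.eq_of_subset_of_card_le
      · intro y hy
        obtain ⟨w, hw, rfl⟩ := Finset.mem_image.mp hy
        simp only [Γ, Finset.mem_filter, Finset.mem_univ, true_and] at hw ⊢
        exact hxΓ w hw
      · rw [Finset.card_image_of_injective _ x.injective]
    have hzΓ : z ∈ Γ := by simp [Γ, hz]
    rw [← himg] at hzΓ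
    obtain ⟨w, hw, rfl⟩ := Finset.mem_image.mp hzΓ
    simp only [Γ, Finset.mem_filter, Finset.mem_univ, true_and] at hw
    simpa using hw
  set g₂ := x * g * x⁻¹ with hg₂
  have hgK : g ∈ fixK G g := ⟨hg, fun z hz => hz⟩
  have hg₂K : g₂ ∈ fixK G g := by
    refine ⟨mul_mem (mul_mem hx hg) (inv_mem hx), fun z hz => ?_⟩
    rw [hg₂, Perm.mul_apply, Perm.mul_apply, hxinv z hz]
    simp
  have hord : orderOf g = p := by rw [hgc.orderOf, hgp]
  have hord₂ : orderOf g₂ = p := by
    rw [hg₂]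
    have hsc : SemiconjBy x g (x * g * x⁻¹) := by unfold SemiconjBy; group
    rw [← hsc.orderOf_eq x]; exact hord
  -- Sylow subgroups of K
  have hKdvd := card_fixK_dvd G g
  rw [hgp] at hKdvd
  have hK0 : Nat.card (fixK G g) ≠ 0 := Nat.card_pos.ne'
  have hpK : p ∣ Nat.card (fixK G g) := by
    have h1 : orderOf (⟨g, hgK⟩ : fixK G g) = p := by rw [Subgroup.orderOf_mk]; exact hord
    rw [← h1]; exact orderOf_dvd_natCard _
  have hfac : (Nat.card (fixK G g)).factorization p = 1 := by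
    apply le_antisymm
    · by_contra hlt
      push Not at hlt
      have h2 : p ^ 2 ∣ Nat.card (fixK G g) :=
        (hp.pow_dvd_iff_le_factorization hK0).mpr hlt
      have h3 : p ^ 2 ∣ p.factorial := h2.trans hKdvd
      obtain ⟨k, rfl⟩ : ∃ k, p = k + 1 := ⟨p - 1, by have := hp.two_le; omega⟩
      rw [Nat.factorial_succ, pow_two] at h3
      have h4 : k + 1 ∣ k.factorial := Nat.dvd_of_mul_dvd_mul_left (by omega) h3
      have := (hp.dvd_factorial).mp h4
      omega
    · exact (hp.dvd_iff_one_le_factorization hK0).mp hpK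
  have hcard₁ : Nat.card (Subgroup.zpowers (⟨g, hgK⟩ : fixK G g)) =
      p ^ (Nat.card (fixK G g)).factorization p := by
    rw [hfac, pow_one, Nat.card_zpowers, Subgroup.orderOf_mk]; exact hord
  have hcard₂ : Nat.card (Subgroup.zpowers (⟨g₂, hg₂K⟩ : fixK G g)) =
      p ^ (Nat.card (fixK G g)).factorization p := by
    rw [hfac, pow_one, Nat.card_zpowers, Subgroup.orderOf_mk]; exact hord₂
  let S₁ : Sylow p (fixK G g) := Sylow.ofCard _ hcard₁
  let S₂ : Sylow p (fixK G g) := Sylow.ofCard _ hcard₂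
  obtain ⟨y, hy⟩ := MulAction.exists_smul_eq (fixK G g) S₂ S₁
  have hmem : y * ⟨g₂, hg₂K⟩ * y⁻¹ ∈ (S₁ : Subgroup (fixK G g)) := by
    rw [← hy, Sylow.coe_subgroup_smul]
    rw [Subgroup.mem_smul_pointwise_iff_exists]
    refine ⟨⟨g₂, hg₂K⟩, ?_, rfl⟩
    change (⟨g₂, hg₂K⟩ : fixK G g) ∈ Subgroup.zpowers (⟨g₂, hg₂K⟩ : fixK G g)
    exact Subgroup.mem_zpowers _
  have hmem' : y * ⟨g₂, hg₂K⟩ * y⁻¹ ∈ Subgroup.zpowers (⟨g, hgK⟩ : fixK G g) := hmem
  obtain ⟨i, hi⟩ := Subgroup.mem_zpowers_iff.mp hmem'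
  refine ⟨y.1 * x, mul_mem y.2.1 hx, ?_, ?_⟩
  · intro z hz
    rw [Perm.mul_apply]
    exact y.2.2 (x z) (hxΓ z hz)
  · rw [Subgroup.mem_zpowers_iff]
    refine ⟨i, ?_⟩
    have h1 := congrArg (fun k : fixK G g => (k : Perm α)) hi
    simp only [Subgroup.coe_mul, Subgroup.coe_inv, Subgroup.coe_zpow] at h1
    rw [h1, hg₂]
    group

/-- **Jordan's theorem** on prime cycles. -/
theorem jordan_prime_cycle (G : Subgroup (Perm α)) (hG : IsPreprimitive G α) {p : ℕ}
    (hp : p.Prime) (hpn : p + 3 ≤ Fintype.card α) {g : Perm α} (hgc : g.IsCycle)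
    (hgp : g.support.card = p) (hg : g ∈ G) : alternatingGroup α ≤ G := by
  classical
  have hp2 := hp.two_le
  have hmt := multiTrans G hG hp hpn hgc hgp hg
  set Γ : Finset α := g.supportᶜ with hΓ
  have hΓcard : Γ.card = Fintype.card α - p := by rw [hΓ, Finset.card_compl, hgp]
  have hΓmem : ∀ z, z ∈ Γ ↔ g z = z := by
    intro z
    rw [hΓ, Finset.mem_compl, Perm.notMem_support]
  have h3 : 3 ≤ Γ.card := by omega
  obtain ⟨T, hT, hT3⟩ := Finset.exists_subset_card_eq h3
  obtain ⟨a, b, c, hab, hac, hbc, rfl⟩ := Finset.card_eq_three.mp hT3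
  have ha : g a = a := (hΓmem a).mp (hT (by simp))
  have hb : g b = b := (hΓmem b).mp (hT (by simp))
  have hc : g c = c := (hΓmem c).mp (hT (by simp))
  have hswapfix : ∀ u v z, g u = u → g v = v → g z = z → g (swap u v z) = swap u v z := by
    intro u v z hu hv hz
    rw [swap_apply_def]
    split_ifs
    · exact hv
    · exact hu
    · exact hz
  have hΓk : Γ.card ≤ Fintype.card α - p + 1 := by omega
  have hkn : Fintype.card α - p + 1 ≤ Fintype.card α := by omega
  have lift : ∀ u v, g u = u → g v = v → ∃ n ∈ G, (∀ z, g z = z → n z = swap u v z) ∧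
      n * g * n⁻¹ ∈ Subgroup.zpowers g := by
    intro u v hu hv
    obtain ⟨x, hxG, hx⟩ := exists_on_finset G hmt hkn Γ hΓk (swap u v)
    have hxΓ : ∀ z, g z = z → g (x z) = x z := by
      intro z hz
      rw [hx z ((hΓmem z).mpr hz)]
      exact hswapfix u v z hu hv hz
    obtain ⟨n, hnG, hn1, hn2⟩ := exists_normalizer_elt G hp hgc hgp hg x hxG hxΓ
    exact ⟨n, hnG, fun z hz => (hn1 z hz).trans (hx z ((hΓmem z).mpr hz)), hn2⟩
  obtain ⟨n₁, hn₁G, hn₁, hn₁g⟩ := lift a b ha hb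
  obtain ⟨n₂, hn₂G, hn₂, hn₂g⟩ := lift b c hb hc
  obtain ⟨i, hi⟩ := Subgroup.mem_zpowers_iff.mp hn₁g
  obtain ⟨j, hj⟩ := Subgroup.mem_zpowers_iff.mp hn₂g
  -- inverses act as the same swaps
  have hinv : ∀ (n : Perm α) (u v : α), g u = u → g v = v →
      (∀ z, g z = z → n z = swap u v z) → ∀ z, g z = z → n⁻¹ z = swap u v z := by
    intro n u v hu hv hn z hz
    rw [Perm.inv_eq_iff_eq, hn _ (hswapfix u v z hu hv hz), swap_apply_self]
  have hn₁' := hinv n₁ a b ha hb hn₁
  have hn₂' := hinv n₂ b c hb hc hn₂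
  set cc := n₁⁻¹ * n₂⁻¹ * n₁ * n₂ with hcc
  have hccG : cc ∈ G := mul_mem (mul_mem (mul_mem (inv_mem hn₁G) (inv_mem hn₂G)) hn₁G) hn₂G
  have e1 : (n₁ * n₂) * g * (n₁ * n₂)⁻¹ = g ^ (i * j) := by
    have : (n₁ * n₂) * g * (n₁ * n₂)⁻¹ = n₁ * (n₂ * g * n₂⁻¹) * n₁⁻¹ := by group
    rw [this, ← hj, ← conj_zpow, ← hi, ← zpow_mul]
  have e2 : (n₂ * n₁) * g * (n₂ * n₁)⁻¹ = g ^ (i * j) := by
    have : (n₂ * n₁) * g * (n₂ * n₁)⁻¹ = n₂ * (n₁ * g * n₁⁻¹) * n₂⁻¹ := by group
    rw [this, ← hi, ← conj_zpow, ← hj, ← zpow_mul, mul_comm]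
  have hcomm : Commute cc g := by
    have h1 : cc * g * cc⁻¹ = g := by
      have : cc * g * cc⁻¹ = (n₂ * n₁)⁻¹ * ((n₁ * n₂) * g * (n₁ * n₂)⁻¹) * (n₂ * n₁) := by
        rw [hcc]; group
      rw [this, e1, ← e2]; group
    have h2 : cc * g * cc⁻¹ * cc = g * cc := by rw [h1]
    rwa [inv_mul_cancel_right] at h2
  -- action of cc on fixed points of g
  set τ₃ := swap a b * swap b c with hτ₃
  have hccΓ : ∀ z, g z = z → cc z = (τ₃ * τ₃) z := by
    intro z hz
    have h1 : g (swap b c z) = swap b c z := hswapfix b c z hb hc hz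
    have h2 : g (swap a b (swap b c z)) = swap a b (swap b c z) := hswapfix a b _ ha hb h1
    have h3 : g (swap b c (swap a b (swap b c z))) = swap b c (swap a b (swap b c z)) :=
      hswapfix b c _ hb hc h2
    rw [hcc, hτ₃]
    simp only [Perm.mul_apply]
    rw [hn₂ z hz, hn₁ _ h1, hn₂' _ h2, hn₁' _ h3]
  obtain ⟨hc', hmem⟩ := (hgc.commute_iff).mp hcomm
  obtain ⟨k, hk⟩ := Subgroup.mem_zpowers_iff.mp hmem
  have hgkfix : ∀ z, g z = z → (g ^ k) z = z := by
    intro z hz
    rw [hk]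
    apply Perm.ofSubtype_subtypePerm_of_not_mem
    rw [Perm.notMem_support]; exact hz
  have hgksupp : ∀ z, g z ≠ z → (g ^ k) z = cc z := by
    intro z hz
    rw [hk]
    apply Perm.ofSubtype_subtypePerm_of_mem
    rw [Perm.mem_support]; exact hz
  have hτfix : ∀ z, g z ≠ z → (τ₃ * τ₃) z = z := by
    intro z hz
    have hza : z ≠ a := by rintro rfl; exact hz ha
    have hzb : z ≠ b := by rintro rfl; exact hz hb
    have hzc : z ≠ c := by rintro rfl; exact hz hc
    rw [hτ₃]
    simp only [Perm.mul_apply]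
    rw [swap_apply_of_ne_of_ne hzb hzc, swap_apply_of_ne_of_ne hza hzb,
      swap_apply_of_ne_of_ne hzb hzc, swap_apply_of_ne_of_ne hza hzb]
  have hccfix : ∀ z, g z = z → g (cc z) = cc z := by
    intro z hz
    have := (hc' z)
    rw [Perm.mem_support, Perm.mem_support, not_iff_not] at this
    exact this.mpr hz
  have ht : (g ^ k)⁻¹ * cc = τ₃ * τ₃ := by
    ext z
    rw [Perm.mul_apply]
    by_cases hz : g z = z
    · rw [Perm.inv_eq_iff_eq, hgkfix _ (by rw [← hccΓ z hz]; exact hccfix z hz), hccΓ z hz]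
    · rw [Perm.inv_eq_iff_eq, hτfix z hz, hgksupp z hz]
  have h3c : (τ₃ * τ₃).IsThreeCycle := by
    apply Equiv.Perm.IsThreeCycle.isThreeCycle_sq
    rw [hτ₃, swap_comm a b]
    exact Perm.isThreeCycle_swap_mul_swap_same hab.symm hbc hac
  have htG : τ₃ * τ₃ ∈ G := by
    rw [← ht]
    exact mul_mem (inv_mem (zpow_mem hg k)) hccG
  exact Equiv.Perm.alternatingGroup_le_of_isPreprimitive_of_isThreeCycle_mem hG h3c htG

end Cfsg.Agent.Lib.Lead.JordanCycle
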