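import Mathlib
import Cfsg.Prelude.Def_CaseTheorems
import Cfsg.Agent.Lib.Lead.QDArith

set_option autoImplicit false

namespace Cfsg.Agent.Lib.Lead.WRCore

open Cfsg.Agent.Lib.Lead.QDArith

/-- Data of a wreathed group with chosen generators. -/
structure WR (S : Type*) [Group S] (n : ℕ) (x y z : S) : Prop where
  hn : 2 ≤ n
  card : Nat.card S = 2 ^ (2 * n + 1)
  ox : orderOf x = 2 ^ n
  comm : x * y = y * x
  disj : Subgroup.zpowers x ⊓ Subgroup.zpowers y = ⊥
  oz : orderOf z = 2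
  rel : z * x * z⁻¹ = y

theorem exists_WR {S : Type*} [Group S] (h : Cfsg.IsWreathed S) :
    ∃ n x y z, WR S n x y z := by
  obtain ⟨n, hn, hc, x, y, z, hx, hxy, hd, hz, hr⟩ := h
  exact ⟨n, x, y, z, ⟨hn, hc, hx, hxy, hd, hz, hr⟩⟩

variable {S : Type*} [Group S]

/-- `x^i y^j`. -/
def a (n : ℕ) (x y : S) (i j : ZMod (2 ^ n)) : S := x ^ i.val * y ^ j.val

/-- `x^i y^j z`. -/
def b (n : ℕ) (x y z : S) (i j : ZMod (2 ^ n)) : S := x ^ i.val * y ^ j.val * z

theorem b_eq (n : ℕ) (x y z : S) (i j : ZMod (2 ^ n)) : b n x y z i j = a n x y i j * z := rfl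

namespace WR

variable {n : ℕ} {x y z : S} (hw : WR S n x y z)
include hw

theorem n1 : 1 ≤ n := by have := hw.hn; omega

theorem x_pow : x ^ (2 ^ n) = 1 := by rw [← hw.ox]; exact pow_orderOf_eq_one x

theorem z_sq : z * z = 1 := by
  have := pow_orderOf_eq_one z
  rwa [hw.oz, pow_two] at this

theorem z_inv : z⁻¹ = z := inv_eq_of_mul_eq_one_left hw.z_sq

theorem oy : orderOf y = 2 ^ n := by
  rw [← hw.rel, ← hw.ox]
  exact orderOf_injective (MulAut.conj z).toMonoidHom (MulAut.conj z).injective x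

theorem y_pow : y ^ (2 ^ n) = 1 := by rw [← hw.oy]; exact pow_orderOf_eq_one y

theorem rel' : z * y * z⁻¹ = x := by
  rw [← hw.rel, hw.z_inv]
  have := hw.z_sq
  calc z * (z * x * z) * z = (z * z) * x * (z * z) := by group
    _ = x := by rw [this, one_mul, mul_one]

theorem xpow_add (i j : ZMod (2 ^ n)) : x ^ (i + j).val = x ^ i.val * x ^ j.val := by
  rw [ZMod.val_add, ← pow_add, ← pow_eq_pow_mod _ hw.x_pow]

theorem ypow_add (i j : ZMod (2 ^ n)) : y ^ (i + j).val = y ^ i.val * y ^ j.val := by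
  rw [ZMod.val_add, ← pow_add, ← pow_eq_pow_mod _ hw.y_pow]

theorem xy_comm (k l : ℕ) : x ^ k * y ^ l = y ^ l * x ^ k :=
  ((Commute.pow_pow (show Commute x y from hw.comm) k l)).eq

theorem a_add (i j k l : ZMod (2 ^ n)) :
    a n x y (i + k) (j + l) = a n x y i j * a n x y k l := by
  unfold a
  rw [hw.xpow_add, hw.ypow_add]
  calc x ^ i.val * x ^ k.val * (y ^ j.val * y ^ l.val)
      = x ^ i.val * (x ^ k.val * y ^ j.val) * y ^ l.val := by group
    _ = x ^ i.val * (y ^ j.val * x ^ k.val) * y ^ l.val := by rw [hw.xy_comm]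
    _ = x ^ i.val * y ^ j.val * (x ^ k.val * y ^ l.val) := by group

theorem a_zero : a n x y 0 0 = 1 := by
  unfold a; rw [ZMod.val_zero, pow_zero, pow_zero, one_mul]

theorem a_neg (i j : ZMod (2 ^ n)) : a n x y (-i) (-j) = (a n x y i j)⁻¹ := by
  have h : a n x y (-i) (-j) * a n x y i j = 1 := by
    rw [← hw.a_add, neg_add_cancel, neg_add_cancel, hw.a_zero]
  exact eq_inv_of_mul_eq_one_left h

theorem a_comm (i j k l : ZMod (2 ^ n)) :
    a n x y i j * a n x y k l = a n x y k l * a n x y i j := by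
  rw [← hw.a_add, ← hw.a_add, add_comm i k, add_comm j l]

theorem a_one_zero : a n x y 1 0 = x := by
  unfold a
  have : (1 : ZMod (2 ^ n)).val = 1 := by
    haveI : Fact (1 < 2 ^ n) := ⟨Nat.one_lt_two_pow (by have := hw.hn; omega)⟩
    exact ZMod.val_one _
  rw [this, ZMod.val_zero, pow_one, pow_zero, mul_one]

theorem a_zero_one : a n x y 0 1 = y := by
  unfold a
  have : (1 : ZMod (2 ^ n)).val = 1 := by
    haveI : Fact (1 < 2 ^ n) := ⟨Nat.one_lt_two_pow (by have := hw.hn; omega)⟩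
    exact ZMod.val_one _
  rw [this, ZMod.val_zero, pow_one, pow_zero, one_mul]

theorem xpow_eq_one_iff (i : ZMod (2 ^ n)) : x ^ i.val = 1 ↔ i = 0 := by
  constructor
  · intro h
    apply ZMod.val_injective
    have hi : i.val < orderOf x := by rw [hw.ox]; exact ZMod.val_lt i
    have h0 : (0 : ℕ) < orderOf x := by rw [hw.ox]; positivity
    rw [ZMod.val_zero]
    exact pow_injOn_Iio_orderOf hi h0 (show x ^ i.val = x ^ 0 by rw [h, pow_zero])
  · rintro rfl; rw [ZMod.val_zero, pow_zero]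

theorem ypow_eq_one_iff (i : ZMod (2 ^ n)) : y ^ i.val = 1 ↔ i = 0 := by
  constructor
  · intro h
    apply ZMod.val_injective
    have hi : i.val < orderOf y := by rw [hw.oy]; exact ZMod.val_lt i
    have h0 : (0 : ℕ) < orderOf y := by rw [hw.oy]; positivity
    rw [ZMod.val_zero]
    exact pow_injOn_Iio_orderOf hi h0 (show y ^ i.val = y ^ 0 by rw [h, pow_zero])
  · rintro rfl; rw [ZMod.val_zero, pow_zero]

theorem a_eq_one_iff (i j : ZMod (2 ^ n)) : a n x y i j = 1 ↔ i = 0 ∧ j = 0 := by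
  constructor
  · intro h
    unfold a at h
    have h1 : x ^ i.val = (y ^ j.val)⁻¹ := eq_inv_of_mul_eq_one_left h
    have h2 : x ^ i.val ∈ Subgroup.zpowers x ⊓ Subgroup.zpowers y := by
      refine ⟨Subgroup.pow_mem _ (Subgroup.mem_zpowers x) _, ?_⟩
      rw [h1]
      exact Subgroup.inv_mem _ (Subgroup.pow_mem _ (Subgroup.mem_zpowers y) _)
    rw [hw.disj, Subgroup.mem_bot] at h2
    have h3 : y ^ j.val = 1 := by
      rw [h2, one_mul] at h; exact h
    exact ⟨(hw.xpow_eq_one_iff i).1 h2, (hw.ypow_eq_one_iff j).1 h3⟩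
  · rintro ⟨rfl, rfl⟩; exact hw.a_zero

theorem a_inj {i j k l : ZMod (2 ^ n)} (h : a n x y i j = a n x y k l) : i = k ∧ j = l := by
  have h1 : a n x y (i - k) (j - l) = 1 := by
    rw [sub_eq_add_neg, sub_eq_add_neg, hw.a_add, hw.a_neg, h, mul_inv_cancel]
  obtain ⟨h2, h3⟩ := (hw.a_eq_one_iff _ _).1 h1
  exact ⟨sub_eq_zero.1 h2, sub_eq_zero.1 h3⟩

theorem conj_a (i j : ZMod (2 ^ n)) : z * a n x y i j * z⁻¹ = a n x y j i := by
  unfold a
  have h1 : z * (x ^ i.val * y ^ j.val) * z⁻¹ = (z * x * z⁻¹) ^ i.val * (z * y * z⁻¹) ^ j.val := by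
    rw [conj_pow, conj_pow]; group
  rw [h1, hw.rel, hw.rel', hw.xy_comm]

theorem z_mul_a (i j : ZMod (2 ^ n)) : z * a n x y i j = a n x y j i * z := by
  rw [← hw.conj_a i j, inv_mul_cancel_right]

theorem a_mul_b (i j k l : ZMod (2 ^ n)) :
    a n x y i j * b n x y z k l = b n x y z (i + k) (j + l) := by
  rw [b_eq, b_eq, hw.a_add, mul_assoc]

theorem b_mul_a (i j k l : ZMod (2 ^ n)) :
    b n x y z i j * a n x y k l = b n x y z (i + l) (j + k) := by
  rw [b_eq, b_eq, mul_assoc, hw.z_mul_a, ← mul_assoc, ← hw.a_add]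

theorem b_mul_b (i j k l : ZMod (2 ^ n)) :
    b n x y z i j * b n x y z k l = a n x y (i + l) (j + k) := by
  rw [b_eq, b_eq, mul_assoc, ← mul_assoc z, hw.z_mul_a, mul_assoc, hw.z_sq, mul_one, ← hw.a_add]

theorem b_zero : b n x y z 0 0 = z := by rw [b_eq, hw.a_zero, one_mul]

theorem b_inv (i j : ZMod (2 ^ n)) : (b n x y z i j)⁻¹ = b n x y z (-j) (-i) := by
  apply inv_eq_of_mul_eq_one_right
  rw [hw.b_mul_b, add_neg_cancel, add_neg_cancel, hw.a_zero]

/-- The abelian maximal subgroup. -/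
def A : Subgroup S where
  carrier := {g | ∃ i j, g = a n x y i j}
  one_mem' := ⟨0, 0, hw.a_zero.symm⟩
  mul_mem' := by
    rintro _ _ ⟨i, j, rfl⟩ ⟨k, l, rfl⟩
    exact ⟨i + k, j + l, (hw.a_add i j k l).symm⟩
  inv_mem' := by
    rintro _ ⟨i, j, rfl⟩
    exact ⟨-i, -j, (hw.a_neg i j).symm⟩

theorem a_mem (i j : ZMod (2 ^ n)) : a n x y i j ∈ hw.A := ⟨i, j, rfl⟩

theorem z_not_mem : z ∉ hw.A := by
  rintro ⟨i, j, h⟩
  have h1 : z * x * z⁻¹ = x := by
    have hc : a n x y i j * a n x y 1 0 = a n x y 1 0 * a n x y i j := hw.a_comm _ _ _ _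
    rw [hw.a_one_zero] at hc
    rw [h, hc, mul_inv_cancel_right]
  rw [hw.rel] at h1
  have h2 : a n x y 0 1 = a n x y 1 0 := by rw [hw.a_zero_one, hw.a_one_zero, h1]
  have h3 := (hw.a_inj h2).1
  have : (1 : ZMod (2 ^ n)) ≠ 0 := by
    haveI : Fact (1 < 2 ^ n) := ⟨Nat.one_lt_two_pow (by have := hw.hn; omega)⟩
    exact one_ne_zero
  exact this h3.symm

theorem b_not_mem (i j : ZMod (2 ^ n)) : b n x y z i j ∉ hw.A := by
  intro h
  apply hw.z_not_mem
  have e : (a n x y i j)⁻¹ * b n x y z i j = z := by rw [b_eq, inv_mul_cancel_left]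
  have hz : (a n x y i j)⁻¹ * b n x y z i j ∈ hw.A :=
    hw.A.mul_mem (hw.A.inv_mem (hw.a_mem i j)) h
  rwa [e] at hz

theorem b_ne_a (i j k l : ZMod (2 ^ n)) : b n x y z i j ≠ a n x y k l := by
  intro h
  exact hw.b_not_mem i j (h ▸ hw.a_mem k l)

theorem b_inj {i j k l : ZMod (2 ^ n)} (h : b n x y z i j = b n x y z k l) : i = k ∧ j = l := by
  rw [b_eq, b_eq] at h
  exact hw.a_inj (mul_right_cancel h)

theorem card_A : Nat.card hw.A = 2 ^ (2 * n) := by
  have hbij : Function.Bijective (fun p : ZMod (2 ^ n) × ZMod (2 ^ n) =>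
      (⟨a n x y p.1 p.2, hw.a_mem p.1 p.2⟩ : hw.A)) := by
    constructor
    · intro p q hpq
      have := hw.a_inj (congrArg Subtype.val hpq)
      exact Prod.ext this.1 this.2
    · rintro ⟨g, i, j, rfl⟩
      exact ⟨(i, j), rfl⟩
  rw [← Nat.card_congr (Equiv.ofBijective _ hbij), Nat.card_prod, Nat.card_eq_fintype_card,
    ZMod.card, ← pow_add]
  congr 1; ring

theorem index_A [Finite S] : hw.A.index = 2 := by
  have h1 := hw.A.card_mul_index
  rw [hw.card_A, hw.card, pow_succ] at h1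
  exact Nat.eq_of_mul_eq_mul_left (by positivity) h1

theorem exists_rep [Finite S] (g : S) :
    (∃ i j, g = a n x y i j) ∨ (∃ i j, g = b n x y z i j) := by
  by_cases hg : g ∈ hw.A
  · exact Or.inl hg
  · right
    have h2 := Subgroup.mul_mem_iff_of_index_two hw.index_A (a := g) (b := z)
    have h3 : g * z ∈ hw.A := h2.2 ⟨fun h => absurd h hg, fun h => absurd h hw.z_not_mem⟩
    obtain ⟨i, j, hij⟩ := h3
    refine ⟨i, j, ?_⟩
    rw [b_eq, ← hij, mul_assoc, hw.z_sq, mul_one]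

theorem b_sq (i j : ZMod (2 ^ n)) :
    b n x y z i j * b n x y z i j = a n x y (i + j) (i + j) := by
  rw [hw.b_mul_b, add_comm j i]

theorem b_ne_one (i j : ZMod (2 ^ n)) : b n x y z i j ≠ 1 := by
  rw [← hw.a_zero]; exact hw.b_ne_a i j 0 0

/-- Conjugation formulas. -/
theorem a_conj_b (k l i j : ZMod (2 ^ n)) :
    a n x y k l * b n x y z i j * (a n x y k l)⁻¹ = b n x y z (i + k - l) (j + l - k) := by
  rw [hw.a_mul_b, ← hw.a_neg, hw.b_mul_a]
  congr 1 <;> ring

theorem a_conj_a (k l i j : ZMod (2 ^ n)) :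
    a n x y k l * a n x y i j * (a n x y k l)⁻¹ = a n x y i j := by
  rw [hw.a_comm, mul_inv_cancel_right]

theorem b_conj_a (k l i j : ZMod (2 ^ n)) :
    b n x y z k l * a n x y i j * (b n x y z k l)⁻¹ = a n x y j i := by
  rw [hw.b_mul_a, hw.b_inv, hw.b_mul_b]
  congr 1 <;> ring

theorem b_conj_b (k l i j : ZMod (2 ^ n)) :
    b n x y z k l * b n x y z i j * (b n x y z k l)⁻¹ = b n x y z (j + k - l) (i + l - k) := by
  rw [hw.b_mul_b, hw.b_inv, hw.a_mul_b]
  congr 1 <;> ring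

end WR

end Cfsg.Agent.Lib.Lead.WRCore
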