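import Mathlib
import Cfsg.Agent.Lib.Lead.WRCore

set_option autoImplicit false

namespace Cfsg.Agent.Lib.Lead.WRCore

open Cfsg.Agent.Lib.Lead.QDArith
open scoped commutatorElement

theorem isKleinFour_of_card_of_sq {G : Type*} [Group G] (h4 : Nat.card G = 4)
    (hsq : ∀ g : G, g * g = 1) : IsKleinFour G := by
  refine ⟨h4, ?_⟩
  have h1 : Monoid.exponent G ∣ 2 := by
    apply Monoid.exponent_dvd_of_forall_pow_eq_one
    intro g; rw [pow_two]; exact hsq g
  rcases (Nat.dvd_prime Nat.prime_two).1 h1 with h | h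
  · exfalso
    rw [Monoid.exp_eq_one_iff] at h
    have := Nat.card_unique (α := G) |>.symm
    haveI := h
    have h5 : Nat.card G ≤ 1 := Finite.card_le_one_iff_subsingleton.2 h
    omega
  · exact h

variable {S : Type*} [Group S]

namespace WR

variable {n : ℕ} {x y z : S} (hw : WR S n x y z)
include hw

theorem n_eq {m : ℕ} (hm : Nat.card S = 2 ^ (2 * m + 1)) : m = n := by
  have h1 := hw.card
  rw [hm] at h1
  have h2 := Nat.pow_right_injective (le_refl 2) h1
  omega

theorem a_pow (i j : ZMod (2 ^ n)) (k : ℕ) :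
    a n x y i j ^ k = a n x y ((k : ZMod (2 ^ n)) * i) ((k : ZMod (2 ^ n)) * j) := by
  induction k with
  | zero => simp [hw.a_zero]
  | succ k ih =>
    rw [pow_succ, ih, ← hw.a_add]
    congr 1 <;> push_cast <;> ring

theorem a_sq (i j : ZMod (2 ^ n)) : a n x y i j * a n x y i j = a n x y (2 * i) (2 * j) := by
  rw [← hw.a_add]; congr 1 <;> ring

theorem one_ne_zero' : (1 : ZMod (2 ^ n)) ≠ 0 := by
  haveI : Fact (1 < 2 ^ n) := ⟨Nat.one_lt_two_pow (by have := hw.hn; omega)⟩
  exact one_ne_zero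

theorem orderOf_a_one (j : ZMod (2 ^ n)) : orderOf (a n x y 1 j) = 2 ^ n := by
  have hn := hw.n1
  apply orderOf_eq_of_pow_and_pow_div_prime (by positivity)
  · rw [hw.a_pow, ZMod.natCast_self, zero_mul, zero_mul, hw.a_zero]
  · intro p hp hdvd
    have hp2 : p = 2 := (Nat.prime_dvd_prime_iff_eq hp Nat.prime_two).1 (hp.dvd_of_dvd_pow hdvd)
    subst hp2
    have h3 : 2 ^ n / 2 = 2 ^ (n - 1) := by
      have : 2 ^ n = 2 * 2 ^ (n - 1) := by rw [← pow_succ']; congr 1; omega
      rw [this, Nat.mul_div_cancel_left _ (by norm_num)]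
    rw [h3, hw.a_pow]
    intro h
    have h4 := ((hw.a_eq_one_iff _ _).1 h).1
    rw [mul_one] at h4
    exact hh_ne_zero hn h4

theorem orderOf_a_one' (j : ZMod (2 ^ n)) : orderOf (a n x y j 1) = 2 ^ n := by
  have hn := hw.n1
  apply orderOf_eq_of_pow_and_pow_div_prime (by positivity)
  · rw [hw.a_pow, ZMod.natCast_self, zero_mul, zero_mul, hw.a_zero]
  · intro p hp hdvd
    have hp2 : p = 2 := (Nat.prime_dvd_prime_iff_eq hp Nat.prime_two).1 (hp.dvd_of_dvd_pow hdvd)
    subst hp2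
    have h3 : 2 ^ n / 2 = 2 ^ (n - 1) := by
      have : 2 ^ n = 2 * 2 ^ (n - 1) := by rw [← pow_succ']; congr 1; omega
      rw [this, Nat.mul_div_cancel_left _ (by norm_num)]
    rw [h3, hw.a_pow]
    intro h
    have h4 := ((hw.a_eq_one_iff _ _).1 h).2
    rw [mul_one] at h4
    exact hh_ne_zero hn h4

theorem a_pow_half (i j : ZMod (2 ^ n)) :
    a n x y i j ^ (2 ^ (n - 1)) = a n x y (hh n * i) (hh n * j) := hw.a_pow i j _

theorem a_mul_self_eq_one_iff (i j : ZMod (2 ^ n)) :
    a n x y i j * a n x y i j = 1 ↔ (i = 0 ∨ i = hh n) ∧ (j = 0 ∨ j = hh n) := by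
  rw [hw.a_sq, hw.a_eq_one_iff, two_mul_eq_zero_iff hw.n1, two_mul_eq_zero_iff hw.n1]

theorem b_mul_self_eq_one_iff (i j : ZMod (2 ^ n)) :
    b n x y z i j * b n x y z i j = 1 ↔ i + j = 0 := by
  rw [hw.b_sq, hw.a_eq_one_iff, and_self]

theorem orderOf_two_iff (g : S) : orderOf g = 2 ↔ g * g = 1 ∧ g ≠ 1 := by
  haveI : Fact (Nat.Prime 2) := ⟨Nat.prime_two⟩
  rw [orderOf_eq_prime_iff, pow_two]

theorem diag_mem_center [Finite S] (k : ZMod (2 ^ n)) : a n x y k k ∈ Subgroup.center S := by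
  rw [Subgroup.mem_center_iff]
  intro g
  rcases hw.exists_rep g with ⟨i, j, rfl⟩ | ⟨i, j, rfl⟩
  · exact hw.a_comm _ _ _ _
  · rw [hw.b_mul_a, hw.a_mul_b, add_comm i k, add_comm j k]

theorem mem_center_iff [Finite S] (g : S) : g ∈ Subgroup.center S ↔ ∃ k, g = a n x y k k := by
  constructor
  · intro hg
    rw [Subgroup.mem_center_iff] at hg
    rcases hw.exists_rep g with ⟨i, j, rfl⟩ | ⟨i, j, rfl⟩
    · have h1 := hg (b n x y z 0 0)
      rw [hw.b_mul_a, hw.a_mul_b] at h1
      have h2 := (hw.b_inj h1).1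
      refine ⟨j, ?_⟩
      have : i = j := by linear_combination -h2
      rw [this]
    · exfalso
      have h1 := hg (a n x y 1 0)
      rw [hw.b_mul_a, hw.a_mul_b] at h1
      have h2 := (hw.b_inj h1).1
      exact hw.one_ne_zero' (by linear_combination h2)
  · rintro ⟨k, rfl⟩; exact hw.diag_mem_center k

theorem diag_eq_pow (k : ZMod (2 ^ n)) : a n x y k k = a n x y 1 1 ^ k.val := by
  haveI : NeZero (2 ^ n) := ⟨by positivity⟩
  rw [hw.a_pow, ZMod.natCast_zmod_val, mul_one]

theorem center_eq [Finite S] : Subgroup.center S = Subgroup.zpowers (a n x y 1 1) := by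
  apply le_antisymm
  · intro g hg
    obtain ⟨k, rfl⟩ := (hw.mem_center_iff g).1 hg
    rw [hw.diag_eq_pow k]
    exact (Subgroup.zpowers (a n x y 1 1)).pow_mem (Subgroup.mem_zpowers _) _
  · rw [Subgroup.zpowers_le]; exact hw.diag_mem_center 1

theorem card_center [Finite S] : Nat.card (Subgroup.center S) = 2 ^ n := by
  rw [hw.center_eq, Nat.card_zpowers, hw.orderOf_a_one]

theorem anti_eq_pow (k : ZMod (2 ^ n)) : a n x y k (-k) = a n x y 1 (-1) ^ k.val := by
  haveI : NeZero (2 ^ n) := ⟨by positivity⟩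
  rw [hw.a_pow, ZMod.natCast_zmod_val, mul_one, mul_neg, mul_one]

theorem anti_mem (k l : ZMod (2 ^ n)) (hkl : k + l = 0) :
    a n x y k l ∈ Subgroup.zpowers (a n x y 1 (-1)) := by
  have : l = -k := by linear_combination hkl
  rw [this, hw.anti_eq_pow k]
  exact (Subgroup.zpowers (a n x y 1 (-1))).pow_mem (Subgroup.mem_zpowers _) _

theorem commutator_eq [Finite S] : commutator S = Subgroup.zpowers (a n x y 1 (-1)) := by
  apply le_antisymm
  · rw [commutator_def, Subgroup.commutator_le]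
    intro g₁ _ g₂ _
    rw [commutatorElement_def]
    rcases hw.exists_rep g₁ with ⟨k, l, rfl⟩ | ⟨k, l, rfl⟩ <;>
      rcases hw.exists_rep g₂ with ⟨i, j, rfl⟩ | ⟨i, j, rfl⟩
    · rw [hw.a_conj_a, mul_inv_cancel]; exact Subgroup.one_mem _
    · rw [hw.a_conj_b, hw.b_inv, hw.b_mul_b]
      exact hw.anti_mem _ _ (by ring)
    · rw [hw.b_conj_a, ← hw.a_neg, ← hw.a_add]
      exact hw.anti_mem _ _ (by ring)
    · rw [hw.b_conj_b, hw.b_inv, hw.b_mul_b]
      exact hw.anti_mem _ _ (by ring)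
  · rw [Subgroup.zpowers_le]
    have h1 : a n x y 1 (-1) = ⁅a n x y 1 0, b n x y z 0 0⁆ := by
      rw [commutatorElement_def, hw.a_conj_b, hw.b_inv, hw.b_mul_b]
      congr 1 <;> ring
    rw [h1, commutator_def]
    exact Subgroup.commutator_mem_commutator (Subgroup.mem_top _) (Subgroup.mem_top _)

theorem card_commutator [Finite S] : Nat.card (commutator S) = 2 ^ n := by
  rw [hw.commutator_eq, Nat.card_zpowers, hw.orderOf_a_one]

theorem A_comm : IsMulCommutative hw.A := by
  refine ⟨⟨fun p q => ?_⟩⟩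
  obtain ⟨p, i, j, rfl⟩ := p
  obtain ⟨q, k, l, rfl⟩ := q
  apply Subtype.ext
  exact hw.a_comm _ _ _ _

/-- `A ≅ C × C`. -/
theorem A_equiv : Nonempty (hw.A ≃* Multiplicative (ZMod (2 ^ n) × ZMod (2 ^ n))) := by
  let f : Multiplicative (ZMod (2 ^ n) × ZMod (2 ^ n)) →* hw.A :=
    { toFun := fun p => ⟨a n x y (Multiplicative.toAdd p).1 (Multiplicative.toAdd p).2,
        hw.a_mem _ _⟩
      map_one' := by
        apply Subtype.ext
        show a n x y 0 0 = 1
        exact hw.a_zero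
      map_mul' := by
        intro p q
        apply Subtype.ext
        show a n x y ((Multiplicative.toAdd p).1 + (Multiplicative.toAdd q).1)
          ((Multiplicative.toAdd p).2 + (Multiplicative.toAdd q).2) = _
        exact hw.a_add _ _ _ _ }
  have hbij : Function.Bijective f := by
    constructor
    · intro p q hpq
      have := hw.a_inj (congrArg Subtype.val hpq)
      exact Multiplicative.toAdd.injective (Prod.ext this.1 this.2)
    · rintro ⟨g, i, j, rfl⟩
      exact ⟨Multiplicative.ofAdd (i, j), rfl⟩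
  exact ⟨(MulEquiv.ofBijective f hbij).symm⟩

theorem A_normal [Finite S] : hw.A.Normal := Subgroup.normal_of_index_eq_two hw.index_A

end WR

end Cfsg.Agent.Lib.Lead.WRCore
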