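import Mathlib
import Cfsg.Agent.Lib.Lead.BurnsidePrime

/-! Transitive groups of prime degree: the Sylow `p`-subgroup and its normaliser. -/

namespace Cfsg.Agent.Lib.Lead.BurnsidePrime

variable {p : ℕ} [Fact p.Prime] {α : Type*} [Fintype α] [DecidableEq α]

/-- a Sylow `p`-subgroup of a transitive group of degree `p` has order `p` -/
theorem card_sylow_eq (hα : Fintype.card α = p) (G : Subgroup (Equiv.Perm α))
    [MulAction.IsPretransitive G α] (P : Sylow p G) : Nat.card (P : Subgroup G) = p := by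
  have hp := (Fact.out : p.Prime)
  haveI : Nonempty α := by
    rw [← Fintype.card_pos_iff, hα]
    exact hp.pos
  obtain ⟨x0⟩ := ‹Nonempty α›
  have hdvd : p ∣ Nat.card G := by
    have h1 := MulAction.index_stabilizer_of_transitive G x0
    rw [Nat.card_eq_fintype_card, hα] at h1
    rw [← h1]
    exact Subgroup.index_dvd_card _
  have h1 : p ∣ Nat.card (P : Subgroup G) := P.dvd_card_of_dvd_card hdvd
  obtain ⟨m, hm⟩ := IsPGroup.iff_card.mp P.isPGroup'
  have h2 : Nat.card (P : Subgroup G) ∣ p.factorial := by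
    have h3 : Nat.card (P : Subgroup G) ∣ Nat.card G := Subgroup.card_subgroup_dvd_card _
    have h4 : Nat.card G ∣ Nat.card (Equiv.Perm α) := Subgroup.card_subgroup_dvd_card G
    rw [Nat.card_eq_fintype_card (α := Equiv.Perm α), Fintype.card_perm, hα] at h4
    exact h3.trans h4
  rw [hm] at h1 h2 ⊢
  have hm1 : m ≠ 0 := by
    rintro rfl
    rw [pow_zero] at h1
    exact hp.one_lt.ne' (Nat.eq_one_of_dvd_one h1 ▸ rfl)
  have hm2 : m < 2 := by
    by_contra hcon
    have h5 : p ^ 2 ∣ p.factorial := (pow_dvd_pow p (by omega)).trans h2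
    obtain ⟨q, hq⟩ : ∃ q, p = q + 1 := ⟨p - 1, by have := hp.pos; omega⟩
    rw [hq, Nat.factorial_succ, ← hq, pow_two] at h5
    have h6 : p ∣ q.factorial := Nat.dvd_of_mul_dvd_mul_left hp.pos h5
    have h7 := (hp.dvd_factorial).mp h6
    omega
  have : m = 1 := by omega
  rw [this, pow_one]

/-- coordinates in which a given element of order `p` is `x ↦ x + 1` -/
theorem exists_equiv_of_orderOf (hα : Fintype.card α = p) (σ : Equiv.Perm α)
    (hσo : orderOf σ = p) : ∃ e : α ≃ ZMod p, ∀ x, e (σ x) = e x + 1 := by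
  have hp := (Fact.out : p.Prime)
  haveI : Nonempty α := by
    rw [← Fintype.card_pos_iff, hα]
    exact hp.pos
  obtain ⟨x0⟩ := ‹Nonempty α›
  have hcyc : σ.IsCycle := by
    apply Equiv.Perm.isCycle_of_prime_order'
    · rw [hσo]; exact hp
    · rw [hσo, hα]
      have := hp.pos
      omega
  have hsupp : σ.support = Finset.univ := by
    apply Finset.eq_univ_of_card
    rw [← hcyc.orderOf, hσo, hα]
  have hmoved : ∀ x, σ x ≠ x := by
    intro x
    rw [← Equiv.Perm.mem_support, hsupp]
    exact Finset.mem_univ x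
  let φ : ZMod p → α := fun k => (σ ^ k.val) x0
  have hφsurj : Function.Surjective φ := by
    intro y
    obtain ⟨i, hi⟩ := hcyc.exists_pow_eq (hmoved x0) (hmoved y)
    refine ⟨(i : ZMod p), ?_⟩
    show (σ ^ ((i : ZMod p)).val) x0 = y
    have h1 : σ ^ (i % p) = σ ^ i := by
      rw [pow_eq_pow_iff_modEq, hσo]
      exact Nat.mod_modEq _ _
    rw [ZMod.val_natCast, h1, hi]
  have hφbij : Function.Bijective φ := by
    rw [Fintype.bijective_iff_surjective_and_card]
    exact ⟨hφsurj, by rw [ZMod.card, hα]⟩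
  have hφsucc : ∀ k : ZMod p, φ (k + 1) = σ (φ k) := by
    intro k
    show (σ ^ (k + 1).val) x0 = σ ((σ ^ k.val) x0)
    have h1 : σ ^ ((k.val + 1) % p) = σ ^ (k.val + 1) := by
      rw [pow_eq_pow_iff_modEq, hσo]
      exact Nat.mod_modEq _ _
    rw [ZMod.val_add, ZMod.val_one'' hp.ne_one, h1, pow_succ', Equiv.Perm.mul_apply]
  refine ⟨(Equiv.ofBijective φ hφbij).symm, fun x => ?_⟩
  obtain ⟨k, rfl⟩ := hφsurj x
  have h1 : (Equiv.ofBijective φ hφbij).symm (φ k) = k := by
    rw [Equiv.symm_apply_eq]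
    rfl
  rw [← hφsucc, h1, Equiv.symm_apply_eq]
  rfl


/-- if the Sylow `p`-normaliser has even order, then in suitable coordinates `G` contains
`x ↦ x + 1` and a reflection `x ↦ c - x` -/
theorem exists_reflection (hα : Fintype.card α = p) (hp2 : p ≠ 2) (G : Subgroup (Equiv.Perm α))
    [MulAction.IsPretransitive G α] (P : Sylow p G)
    (heven : Even (Nat.card (Subgroup.normalizer ((P : Subgroup G) : Set G)))) :
    ∃ e : α ≃ ZMod p, ∃ σ ∈ G, ∃ t ∈ G, ∃ c : ZMod p,
      (∀ x, e (σ x) = e x + 1) ∧ (∀ x, e (t x) = c - e x) := by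
  have hp := (Fact.out : p.Prime)
  have hPcard := card_sylow_eq hα G P
  obtain ⟨s, hs⟩ := exists_prime_orderOf_dvd_card' (G := ↥(P : Subgroup G)) p
    (dvd_of_eq hPcard.symm)
  set σG : G := s.1 with hσG
  set σ : Equiv.Perm α := σG.1 with hσ
  have hσGo : orderOf σG = p := by rw [hσG, Subgroup.orderOf_coe]; exact hs
  have hσo : orderOf σ = p := by rw [hσ, Subgroup.orderOf_coe]; exact hσGo
  have hPz : (P : Subgroup G) = Subgroup.zpowers σG := by
    symm
    apply Subgroup.eq_of_le_of_card_ge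
    · rw [Subgroup.zpowers_le]
      exact s.2
    · rw [Nat.card_zpowers, hσGo, hPcard]
  obtain ⟨tN, htN⟩ := exists_prime_orderOf_dvd_card'
    (G := ↥(Subgroup.normalizer ((P : Subgroup G) : Set G))) 2 heven.two_dvd
  set tG : G := tN.1 with htG
  set t : Equiv.Perm α := tG.1 with ht
  have htGo : orderOf tG = 2 := by rw [htG, Subgroup.orderOf_coe]; exact htN
  have hto : orderOf t = 2 := by rw [ht, Subgroup.orderOf_coe]; exact htGo
  have htt : t * t = 1 := by
    have := pow_orderOf_eq_one t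
    rw [hto, pow_two] at this
    exact this
  have hconj : tG * σG * tG⁻¹ ∈ (P : Subgroup G) := by
    have := tN.2
    rw [Subgroup.mem_normalizer_iff] at this
    exact (this σG).1 s.2
  rw [hPz, Subgroup.mem_zpowers_iff] at hconj
  obtain ⟨k, hk⟩ := hconj
  have hn : ∃ n : ℕ, tG * σG * tG⁻¹ = σG ^ n := by
    refine ⟨(k % (p : ℤ)).toNat, ?_⟩
    rw [← hk, ← zpow_natCast, Int.toNat_of_nonneg (Int.emod_nonneg _ (by exact_mod_cast hp.ne_zero)),
      ← hσGo, zpow_mod_orderOf]
  obtain ⟨n, hn⟩ := hn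
  have hn' : t * σ = σ ^ n * t := by
    have h1 := congrArg (fun g : G => (g : Equiv.Perm α)) hn
    simp only [Subgroup.coe_mul, Subgroup.coe_inv, Subgroup.coe_pow] at h1
    have h2 : t * σ * t⁻¹ = σ ^ n := h1
    rw [← h2]
    group
  obtain ⟨e, he⟩ := exists_equiv_of_orderOf hα σ hσo
  have hpow : ∀ (m : ℕ) (y : α), e ((σ ^ m) y) = e y + m := by
    intro m
    induction m with
    | zero => intro y; simp
    | succ m ih =>
      intro y
      rw [pow_succ', Equiv.Perm.mul_apply, he, ih]
      push_cast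
      ring
  let τ : ZMod p → ZMod p := fun x => e (t (e.symm x))
  have hτ1 : ∀ x, τ (x + 1) = τ x + n := by
    intro x
    have h1 : σ (e.symm x) = e.symm (x + 1) := by
      rw [Equiv.eq_symm_apply, he, Equiv.apply_symm_apply]
    show e (t (e.symm (x + 1))) = e (t (e.symm x)) + n
    rw [← h1, ← Equiv.Perm.mul_apply, hn', Equiv.Perm.mul_apply, hpow]
  have hτ2 : ∀ m : ℕ, τ (m : ZMod p) = τ 0 + n * m := by
    intro m
    induction m with
    | zero => simp
    | succ m ih =>
      rw [Nat.cast_succ, hτ1, ih]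
      ring
  have hτ3 : ∀ x : ZMod p, τ x = τ 0 + n * x := by
    intro x
    have := hτ2 x.val
    rw [ZMod.natCast_zmod_val] at this
    exact this
  have hττ : ∀ x, τ (τ x) = x := by
    intro x
    show e (t (e.symm (e (t (e.symm x))))) = x
    rw [Equiv.symm_apply_apply, ← Equiv.Perm.mul_apply, htt, Equiv.Perm.one_apply,
      Equiv.apply_symm_apply]
  have h0 := hττ 0
  have h1 := hττ 1
  rw [hτ3 (τ 0)] at h0
  rw [hτ3 (τ 1), hτ3 1, mul_one] at h1
  have hkk : (n : ZMod p) * n = 1 := by
    have : τ 0 + (n : ZMod p) * (τ 0 + n) = (τ 0 + n * τ 0) + n * n := by ring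
    rw [this, h0, zero_add] at h1
    exact h1
  have h2ne : (2 : ZMod p) ≠ 0 := by
    intro h
    have h3 : ((2 : ℕ) : ZMod p) = 0 := by exact_mod_cast h
    rw [ZMod.natCast_eq_zero_iff] at h3
    have := (Nat.prime_dvd_prime_iff_eq hp Nat.prime_two).mp h3
    exact hp2 this
  rcases mul_self_eq_one_iff.mp hkk with hk1 | hk1
  · exfalso
    rw [hk1, one_mul] at h0
    have hτ0 : τ 0 = 0 := by
      have : (2 : ZMod p) * τ 0 = 0 := by rw [two_mul]; exact h0
      rcases mul_eq_zero.mp this with h | h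
      · exact absurd h h2ne
      · exact h
    have htone : t = 1 := by
      ext y
      have := hτ3 (e y)
      rw [hτ0, hk1, one_mul, zero_add] at this
      have h5 : e (t y) = e y := by
        have h6 : τ (e y) = e (t y) := by
          show e (t (e.symm (e y))) = _
          rw [Equiv.symm_apply_apply]
        rw [← h6, this]
      rw [Equiv.Perm.one_apply]
      exact e.injective h5
    rw [htone, orderOf_one] at hto
    omega
  · refine ⟨e, σ, σG.2, t, tG.2, τ 0, he, fun y => ?_⟩
    have h6 : τ (e y) = e (t y) := by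
      show e (t (e.symm (e y))) = _
      rw [Equiv.symm_apply_apply]
    rw [← h6, hτ3, hk1]
    ring

end Cfsg.Agent.Lib.Lead.BurnsidePrime
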