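import Mathlib

/-!
# The "Schmidt–Sylow" property (for S4394)

`SSP p R` records what we use about the nonabelian normal Sylow `p`-subgroup `R` of a minimal
non-nilpotent group: class two, `p`-th powers central, every noncentral element has commutator
image equal to the whole centre, and the two small exclusions when `R / Z(R)` has order `p ^ 2`.
-/

set_option autoImplicit false

open scoped commutatorElement

namespace Cfsg.Agent.Lib.Lead.SchSyl

structure SSP (p : ℕ) (R : Type*) [Group R] : Prop where
  comm_central : ∀ a b : R, ⁅a, b⁆ ∈ Subgroup.center R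
  pow_central : ∀ a : R, a ^ p ∈ Subgroup.center R
  surj : ∀ a : R, a ∉ Subgroup.center R → ∀ z ∈ Subgroup.center R, ∃ b : R, ⁅a, b⁆ = z
  small : (Subgroup.center R).index = p ^ 2 →
    p ≠ 3 ∧ (p = 2 → ∀ a : R, a ^ 2 = 1 → a ∈ Subgroup.center R)

theorem mem_center_map_iff {R R' : Type*} [Group R] [Group R'] (e : R ≃* R') (a : R) :
    e a ∈ Subgroup.center R' ↔ a ∈ Subgroup.center R := by
  rw [Subgroup.mem_center_iff, Subgroup.mem_center_iff]
  constructor
  · intro h g
    apply e.injective
    rw [map_mul, map_mul]
    exact h (e g)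
  · intro h g
    obtain ⟨g', rfl⟩ := e.surjective g
    rw [← map_mul, ← map_mul, h g']

theorem center_index_eq {R R' : Type*} [Group R] [Group R'] (e : R ≃* R') :
    (Subgroup.center R').index = (Subgroup.center R).index := by
  have h : (Subgroup.center R').comap e.toMonoidHom = Subgroup.center R := by
    ext a
    rw [Subgroup.mem_comap]
    exact mem_center_map_iff e a
  rw [← h]
  exact (Subgroup.index_comap_of_surjective _ e.surjective).symm

theorem SSP.of_mulEquiv {p : ℕ} {R R' : Type*} [Group R] [Group R'] (e : R ≃* R')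
    (h : SSP p R) : SSP p R' := by
  refine ⟨?_, ?_, ?_, ?_⟩
  · intro a b
    obtain ⟨a', rfl⟩ := e.surjective a
    obtain ⟨b', rfl⟩ := e.surjective b
    rw [← map_commutatorElement e a' b']
    exact (mem_center_map_iff e _).mpr (h.comm_central a' b')
  · intro a
    obtain ⟨a', rfl⟩ := e.surjective a
    rw [← map_pow]
    exact (mem_center_map_iff e _).mpr (h.pow_central a')
  · intro a ha z hz
    obtain ⟨a', rfl⟩ := e.surjective a
    obtain ⟨z', rfl⟩ := e.surjective z
    obtain ⟨b, hb⟩ := h.surj a' (fun h' => ha ((mem_center_map_iff e _).mpr h')) z'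
      ((mem_center_map_iff e _).mp hz)
    exact ⟨e b, by rw [← map_commutatorElement e a' b, hb]⟩
  · intro hidx
    rw [center_index_eq e] at hidx
    obtain ⟨h3, h2⟩ := h.small hidx
    refine ⟨h3, fun hp a ha => ?_⟩
    obtain ⟨a', rfl⟩ := e.surjective a
    rw [← map_pow] at ha
    have : a' ^ 2 = 1 := e.injective (by rw [ha, map_one])
    exact (mem_center_map_iff e _).mpr (h2 hp a' this)

end Cfsg.Agent.Lib.Lead.SchSyl
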