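import Mathlib
import Cfsg.Agent.Lib.Lead.WRCore2
import Cfsg.Agent.Lib.Lead.QuatRecog

set_option autoImplicit false

namespace Cfsg.Agent.Lib.Lead.WRCore

open Cfsg.Agent.Lib.Lead.QDArith

section quat

variable {k : ℕ}

theorem quat_mem_closure (q : QuaternionGroup k) :
    q ∈ Subgroup.closure (Set.range (QuaternionGroup.xa : ZMod (2 * k) → QuaternionGroup k)) := by
  cases q with
  | a i =>
    have h1 : QuaternionGroup.a i = QuaternionGroup.xa 0 * QuaternionGroup.xa (i - (k : ZMod (2 * k))) := by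
      rw [QuaternionGroup.xa_mul_xa]; congr 1; ring
    rw [h1]
    exact Subgroup.mul_mem _ (Subgroup.subset_closure ⟨0, rfl⟩) (Subgroup.subset_closure ⟨_, rfl⟩)
  | xa i => exact Subgroup.subset_closure ⟨i, rfl⟩

theorem quat_xa_sq (i : ZMod (2 * k)) :
    (QuaternionGroup.xa i : QuaternionGroup k) * QuaternionGroup.xa i = QuaternionGroup.a k := by
  rw [QuaternionGroup.xa_mul_xa]; congr 1; ring

theorem quat_ak_ne_one (hk : 2 ≤ k) : (QuaternionGroup.a k : QuaternionGroup k) ≠ 1 := by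
  rw [QuaternionGroup.one_def]
  intro h
  have h1 : ((k : ℕ) : ZMod (2 * k)) = 0 := by
    injection h
  rw [ZMod.natCast_eq_zero_iff] at h1
  have := Nat.le_of_dvd (by omega) h1
  omega

theorem quat_ak_sq : (QuaternionGroup.a k : QuaternionGroup k) * QuaternionGroup.a k = 1 := by
  rw [QuaternionGroup.a_mul_a, QuaternionGroup.one_def]
  congr 1
  have : ((2 * k : ℕ) : ZMod (2 * k)) = 0 := ZMod.natCast_self _
  push_cast at this
  linear_combination this

theorem quat_xa_not_comm (hk : 2 ≤ k) (i : ZMod (2 * k)) :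
    (QuaternionGroup.xa i : QuaternionGroup k) * QuaternionGroup.xa (i + 1) ≠
      QuaternionGroup.xa (i + 1) * QuaternionGroup.xa i := by
  rw [QuaternionGroup.xa_mul_xa, QuaternionGroup.xa_mul_xa]
  intro h
  have h1 : (k : ZMod (2 * k)) + (i + 1) - i = (k : ZMod (2 * k)) + i - (i + 1) := by
    injection h
  have h2 : ((2 : ℕ) : ZMod (2 * k)) = 0 := by
    push_cast
    linear_combination h1
  rw [ZMod.natCast_eq_zero_iff] at h2
  have := Nat.le_of_dvd (by omega) h2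
  omega

end quat

variable {S : Type*} [Group S]

namespace WR

variable {n : ℕ} {x y z : S} (hw : WR S n x y z)
include hw

/-- The generalized quaternion subgroup. -/
def Y : Subgroup S where
  carrier := {g | ∃ i j, (g = a n x y i j ∧ i + j = 0) ∨ (g = b n x y z i j ∧ i + j = hh n)}
  one_mem' := ⟨0, 0, Or.inl ⟨hw.a_zero.symm, by ring⟩⟩
  mul_mem' := by
    have h2h := two_hh (n := n) hw.n1
    rintro _ _ ⟨i, j, (⟨rfl, h1⟩ | ⟨rfl, h1⟩)⟩ ⟨k, l, (⟨rfl, h2⟩ | ⟨rfl, h2⟩)⟩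
    · exact ⟨i + k, j + l, Or.inl ⟨(hw.a_add _ _ _ _).symm, by linear_combination h1 + h2⟩⟩
    · exact ⟨i + k, j + l, Or.inr ⟨hw.a_mul_b _ _ _ _, by linear_combination h1 + h2⟩⟩
    · exact ⟨i + l, j + k, Or.inr ⟨hw.b_mul_a _ _ _ _, by linear_combination h1 + h2⟩⟩
    · exact ⟨i + l, j + k, Or.inl ⟨hw.b_mul_b _ _ _ _, by linear_combination h1 + h2 + h2h⟩⟩
  inv_mem' := by
    have h2h := two_hh (n := n) hw.n1
    rintro _ ⟨i, j, (⟨rfl, h1⟩ | ⟨rfl, h1⟩)⟩
    · exact ⟨-i, -j, Or.inl ⟨(hw.a_neg _ _).symm, by linear_combination -h1⟩⟩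
    · exact ⟨-j, -i, Or.inr ⟨hw.b_inv _ _, by linear_combination -h1 - h2h⟩⟩

theorem a_mem_Y {i j : ZMod (2 ^ n)} (h : i + j = 0) : a n x y i j ∈ hw.Y :=
  ⟨i, j, Or.inl ⟨rfl, h⟩⟩

theorem b_mem_Y {i j : ZMod (2 ^ n)} (h : i + j = hh n) : b n x y z i j ∈ hw.Y :=
  ⟨i, j, Or.inr ⟨rfl, h⟩⟩

theorem Y_normal [Finite S] : hw.Y.Normal := by
  refine ⟨?_⟩
  rintro _ ⟨i, j, (⟨rfl, h1⟩ | ⟨rfl, h1⟩)⟩ c
  · rcases hw.exists_rep c with ⟨k, l, rfl⟩ | ⟨k, l, rfl⟩
    · rw [hw.a_conj_a]; exact hw.a_mem_Y h1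
    · rw [hw.b_conj_a]; exact hw.a_mem_Y (by linear_combination h1)
  · rcases hw.exists_rep c with ⟨k, l, rfl⟩ | ⟨k, l, rfl⟩
    · rw [hw.a_conj_b]; exact hw.b_mem_Y (by linear_combination h1)
    · rw [hw.b_conj_b]; exact hw.b_mem_Y (by linear_combination h1)

theorem card_Y : Nat.card hw.Y = 2 ^ (n + 1) := by
  classical
  let F : ZMod (2 ^ n) × Bool → hw.Y := fun p =>
    if p.2 then ⟨b n x y z p.1 (hh n - p.1), hw.b_mem_Y (by ring)⟩
    else ⟨a n x y p.1 (-p.1), hw.a_mem_Y (by ring)⟩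
  have hFt : ∀ i, (F (i, true) : S) = b n x y z i (hh n - i) := fun i => rfl
  have hFf : ∀ i, (F (i, false) : S) = a n x y i (-i) := fun i => rfl
  have hbij : Function.Bijective F := by
    constructor
    · rintro ⟨i, f⟩ ⟨i', f'⟩ h
      have h' := congrArg Subtype.val h
      cases f <;> cases f'
      · rw [hFf, hFf] at h'
        rw [(hw.a_inj h').1]
      · rw [hFf, hFt] at h'
        exact absurd h'.symm (hw.b_ne_a _ _ _ _)
      · rw [hFt, hFf] at h'
        exact absurd h' (hw.b_ne_a _ _ _ _)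
      · rw [hFt, hFt] at h'
        rw [(hw.b_inj h').1]
    · rintro ⟨g, i, j, (⟨rfl, h⟩ | ⟨rfl, h⟩)⟩
      · refine ⟨(i, false), Subtype.ext ?_⟩
        rw [hFf]
        congr 1
        linear_combination -h
      · refine ⟨(i, true), Subtype.ext ?_⟩
        rw [hFt]
        congr 1
        linear_combination -h
  rw [← Nat.card_congr (Equiv.ofBijective F hbij), Nat.card_prod,
    Nat.card_eq_fintype_card, Nat.card_eq_fintype_card, ZMod.card, Fintype.card_bool]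
  ring

theorem Y_quat [Finite S] : Nonempty (hw.Y ≃* QuaternionGroup (2 ^ (n - 1))) := by
  have hn1 := hw.n1
  have h2h := two_hh (n := n) hn1
  have hpow : 2 ^ n = 2 * 2 ^ (n - 1) := by rw [← pow_succ']; congr 1; omega
  apply Cfsg.Agent.Lib.Lead.QuatRecog.nonempty_mulEquiv_quaternionGroup (2 ^ (n - 1))
    (⟨a n x y 1 (-1), hw.a_mem_Y (by ring)⟩ : hw.Y) ⟨b n x y z 0 (hh n), hw.b_mem_Y (by ring)⟩
  · rw [Subgroup.orderOf_mk, hw.orderOf_a_one, hpow]
  · intro h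
    obtain ⟨k, hk⟩ := Subgroup.mem_zpowers_iff.1 h
    have h1 := congrArg Subtype.val hk
    rw [Subgroup.coe_zpow] at h1
    have h2 : a n x y 1 (-1) ^ k ∈ hw.A := hw.A.zpow_mem (hw.a_mem _ _) k
    have h3 : (a n x y 1 (-1)) ^ k = b n x y z 0 (hh n) := h1
    rw [h3] at h2
    exact hw.b_not_mem _ _ h2
  · apply Subtype.ext
    rw [Subgroup.coe_mul, Subgroup.coe_pow]
    show b n x y z 0 (hh n) * b n x y z 0 (hh n) = a n x y 1 (-1) ^ 2 ^ (n - 1)
    rw [hw.b_mul_b, hw.a_pow_half]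
    congr 1
    · ring
    · linear_combination h2h
  · apply Subtype.ext
    rw [Subgroup.coe_mul, Subgroup.coe_mul, Subgroup.coe_inv, Subgroup.coe_inv]
    show b n x y z 0 (hh n) * a n x y 1 (-1) * (b n x y z 0 (hh n))⁻¹ = (a n x y 1 (-1))⁻¹
    rw [hw.b_conj_a, ← hw.a_neg, neg_neg]
  · rw [hw.card_Y]
    have : n + 1 = 2 + (n - 1) := by omega
    rw [this, pow_add]
    norm_num

theorem quat_le_Y [Finite S] (k : ℕ) (hk : 2 ≤ k) (ψ : QuaternionGroup k →* S)
    (hinj : Function.Injective ψ) : ψ.range ≤ hw.Y := by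
  have hn1 := hw.n1
  have h2h := two_hh (n := n) hn1
  have hsq : ∀ i, ψ (QuaternionGroup.xa i) * ψ (QuaternionGroup.xa i) =
      ψ (QuaternionGroup.a k) := by
    intro i; rw [← map_mul, quat_xa_sq]
  have hu1 : ψ (QuaternionGroup.a k) ≠ 1 := by
    intro h
    apply quat_ak_ne_one hk
    apply hinj
    rw [map_one]; exact h
  have huu : ψ (QuaternionGroup.a k) * ψ (QuaternionGroup.a k) = 1 := by
    rw [← map_mul, quat_ak_sq, map_one]
  have hnc : ∀ i, ψ (QuaternionGroup.xa i) * ψ (QuaternionGroup.xa (i + 1)) ≠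
      ψ (QuaternionGroup.xa (i + 1)) * ψ (QuaternionGroup.xa i) := by
    intro i h
    rw [← map_mul, ← map_mul] at h
    exact quat_xa_not_comm hk i (hinj h)
  have hA : ∃ t, ψ (QuaternionGroup.xa t) ∉ hw.A := by
    by_contra hcon
    push Not at hcon
    obtain ⟨i, j, h1⟩ := hcon 0
    obtain ⟨i', j', h2⟩ := hcon (0 + 1)
    apply hnc 0
    rw [h1, h2]
    exact hw.a_comm _ _ _ _
  obtain ⟨t, ht⟩ := hA
  have huh : ψ (QuaternionGroup.a k) = a n x y (hh n) (hh n) := by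
    rcases hw.exists_rep (ψ (QuaternionGroup.xa t)) with ⟨k', l', h⟩ | ⟨k', l', h⟩
    · exact absurd ⟨k', l', h⟩ ht
    · have h1 := hsq t
      rw [h, hw.b_sq] at h1
      have h2 := huu
      rw [← h1, hw.a_mul_self_eq_one_iff] at h2
      rcases h2.1 with h0 | h0
      · exfalso; apply hu1; rw [← h1, h0]; exact hw.a_zero
      · rw [← h1, h0]
  have hall : ∀ i, ψ (QuaternionGroup.xa i) ∈ hw.Y := by
    intro i
    have h1 := hsq i
    rcases hw.exists_rep (ψ (QuaternionGroup.xa i)) with ⟨k', l', h⟩ | ⟨k', l', h⟩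
    · rw [h, hw.a_sq, huh] at h1
      obtain ⟨h2, h3⟩ := hw.a_inj h1
      have h4 : 2 * (k' - l') = 0 := by linear_combination h2 - h3
      rcases (two_mul_eq_zero_iff hn1 _).1 h4 with h5 | h5
      · exfalso
        have h6 : k' = l' := sub_eq_zero.1 h5
        apply hnc i
        rw [h, h6]
        exact ((Subgroup.mem_center_iff.1 (hw.diag_mem_center l')) _).symm
      · rw [h]; exact hw.a_mem_Y (by linear_combination h5 + h3 + h2h)
    · rw [h, hw.b_sq, huh] at h1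
      rw [h]; exact hw.b_mem_Y (hw.a_inj h1).1
  have h1 : Subgroup.closure (Set.range
      (QuaternionGroup.xa : ZMod (2 * k) → QuaternionGroup k)) ≤ hw.Y.comap ψ := by
    rw [Subgroup.closure_le]
    rintro _ ⟨i, rfl⟩
    exact hall i
  rintro _ ⟨q, rfl⟩
  exact h1 (quat_mem_closure q)

end WR

theorem s1199 {S : Type*} [Group S] [Finite S] (hS : Cfsg.IsWreathed S) (n : ℕ)
    (hn : Nat.card S = 2 ^ (2 * n + 1)) :
    (∃! Y : Subgroup S, Nat.card Y = 2 ^ (n + 1) ∧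
        Nonempty (Y ≃* QuaternionGroup (2 ^ (n - 1)))) ∧
      ∀ Y : Subgroup S, Nat.card Y = 2 ^ (n + 1) →
        Nonempty (Y ≃* QuaternionGroup (2 ^ (n - 1))) → Y.Normal := by
  obtain ⟨m, x, y, z, hw⟩ := exists_WR hS
  obtain rfl := hw.n_eq hn
  have key : ∀ Y' : Subgroup S, Nat.card Y' = 2 ^ (n + 1) →
      Nonempty (Y' ≃* QuaternionGroup (2 ^ (n - 1))) → Y' = hw.Y := by
    rintro Y' hc ⟨φ⟩
    have hk : 2 ≤ 2 ^ (n - 1) := by
      have h1 : 1 ≤ n - 1 := by have := hw.hn; omega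
      calc 2 = 2 ^ 1 := rfl
        _ ≤ 2 ^ (n - 1) := Nat.pow_le_pow_right (by norm_num) h1
    let ψ : QuaternionGroup (2 ^ (n - 1)) →* S := Y'.subtype.comp φ.symm.toMonoidHom
    have hinj : Function.Injective ψ := Y'.subtype_injective.comp φ.symm.injective
    have hle : Y' ≤ hw.Y := by
      intro w hw'
      apply hw.quat_le_Y _ hk ψ hinj
      exact ⟨φ ⟨w, hw'⟩, by simp [ψ]⟩
    exact Subgroup.eq_of_le_of_card_ge hle (by rw [hc, hw.card_Y])
  refine ⟨⟨hw.Y, ⟨hw.card_Y, hw.Y_quat⟩, fun Y' h => key Y' h.1 h.2⟩, ?_⟩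
  intro Y' hc hq
  rw [key Y' hc hq]
  exact hw.Y_normal

end Cfsg.Agent.Lib.Lead.WRCore
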