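import Mathlib
import Cfsg.Agent.Lib.Lead.WRCore2

set_option autoImplicit false

namespace Cfsg.Agent.Lib.Lead.WRCore

open Cfsg.Agent.Lib.Lead.QDArith

/-- `0` or `2^(n-1)` according to a boolean. -/
def cb (n : ℕ) (e : Bool) : ZMod (2 ^ n) := if e then hh n else 0

theorem two_cb {n : ℕ} (hn : 1 ≤ n) (e : Bool) : 2 * cb n e = 0 := by
  cases e
  · show 2 * (0 : ZMod (2 ^ n)) = 0; ring
  · exact two_hh hn

theorem cb_inj {n : ℕ} (hn : 1 ≤ n) {e e' : Bool} (h : cb n e = cb n e') : e = e' := by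
  have hh0 := hh_ne_zero (n := n) hn
  cases e <;> cases e'
  · rfl
  · exact absurd h.symm hh0
  · exact absurd h hh0
  · rfl

theorem exists_cb {n : ℕ} (hn : 1 ≤ n) {k : ZMod (2 ^ n)} (h : 2 * k = 0) : ∃ e, k = cb n e := by
  rcases (two_mul_eq_zero_iff hn k).1 h with h0 | h0
  · exact ⟨false, h0⟩
  · exact ⟨true, h0⟩

variable {S : Type*} [Group S]

namespace WR

variable {n : ℕ} {x y z : S} (hw : WR S n x y z)
include hw

/-- The normal four-group. -/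
def T : Subgroup S where
  carrier := {g | ∃ i j, g = a n x y i j ∧ 2 * i = 0 ∧ 2 * j = 0}
  one_mem' := ⟨0, 0, hw.a_zero.symm, by ring, by ring⟩
  mul_mem' := by
    rintro _ _ ⟨i, j, rfl, h1, h2⟩ ⟨k, l, rfl, h3, h4⟩
    exact ⟨i + k, j + l, (hw.a_add _ _ _ _).symm, by linear_combination h1 + h3,
      by linear_combination h2 + h4⟩
  inv_mem' := by
    rintro _ ⟨i, j, rfl, h1, h2⟩
    exact ⟨-i, -j, (hw.a_neg _ _).symm, by linear_combination -h1, by linear_combination -h2⟩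

theorem T_le_A : hw.T ≤ hw.A := by
  rintro _ ⟨i, j, rfl, -, -⟩; exact hw.a_mem i j

theorem T_normal [Finite S] : hw.T.Normal := by
  refine ⟨?_⟩
  rintro _ ⟨i, j, rfl, h1, h2⟩ c
  rcases hw.exists_rep c with ⟨k, l, rfl⟩ | ⟨k, l, rfl⟩
  · rw [hw.a_conj_a]; exact ⟨i, j, rfl, h1, h2⟩
  · rw [hw.b_conj_a]; exact ⟨j, i, rfl, h2, h1⟩

theorem card_T : Nat.card hw.T = 4 := by
  classical
  have hn1 := hw.n1
  let F : Bool × Bool → hw.T := fun p =>
    ⟨a n x y (cb n p.1) (cb n p.2), ⟨_, _, rfl, two_cb hn1 _, two_cb hn1 _⟩⟩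
  have hbij : Function.Bijective F := by
    constructor
    · rintro ⟨e, f⟩ ⟨e', f'⟩ h
      have h' : a n x y (cb n e) (cb n f) = a n x y (cb n e') (cb n f') :=
        congrArg Subtype.val h
      obtain ⟨h1, h2⟩ := hw.a_inj h'
      rw [cb_inj hn1 h1, cb_inj hn1 h2]
    · rintro ⟨g, i, j, rfl, h1, h2⟩
      obtain ⟨e, rfl⟩ := exists_cb hn1 h1
      obtain ⟨f, rfl⟩ := exists_cb hn1 h2
      exact ⟨(e, f), rfl⟩
  rw [← Nat.card_congr (Equiv.ofBijective F hbij), Nat.card_prod, Nat.card_eq_fintype_card,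
    Fintype.card_bool]

theorem T_klein : IsKleinFour hw.T := by
  apply isKleinFour_of_card_of_sq hw.card_T
  rintro ⟨g, i, j, rfl, h1, h2⟩
  apply Subtype.ext
  show a n x y i j * a n x y i j = 1
  rw [hw.a_sq, h1, h2, hw.a_zero]

/-- The non-normal four-groups. -/
def V (i : ZMod (2 ^ n)) : Subgroup S where
  carrier := {g | (∃ k, g = a n x y k k ∧ 2 * k = 0) ∨
    (∃ k, g = b n x y z (i + k) (-i + k) ∧ 2 * k = 0)}
  one_mem' := Or.inl ⟨0, hw.a_zero.symm, by ring⟩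
  mul_mem' := by
    rintro _ _ (⟨k, rfl, h1⟩ | ⟨k, rfl, h1⟩) (⟨l, rfl, h2⟩ | ⟨l, rfl, h2⟩)
    · exact Or.inl ⟨k + l, (hw.a_add _ _ _ _).symm, by linear_combination h1 + h2⟩
    · refine Or.inr ⟨k + l, ?_, by linear_combination h1 + h2⟩
      rw [hw.a_mul_b]; congr 1 <;> ring
    · refine Or.inr ⟨k + l, ?_, by linear_combination h1 + h2⟩
      rw [hw.b_mul_a]; congr 1 <;> ring
    · refine Or.inl ⟨k + l, ?_, by linear_combination h1 + h2⟩
      rw [hw.b_mul_b]; congr 1 <;> ring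
  inv_mem' := by
    rintro _ (⟨k, rfl, h1⟩ | ⟨k, rfl, h1⟩)
    · exact Or.inl ⟨-k, (hw.a_neg _ _).symm, by linear_combination -h1⟩
    · refine Or.inr ⟨-k, ?_, by linear_combination -h1⟩
      rw [hw.b_inv]; congr 1 <;> ring

theorem card_V (i : ZMod (2 ^ n)) : Nat.card (hw.V i) = 4 := by
  classical
  have hn1 := hw.n1
  let F : Bool × Bool → hw.V i := fun p =>
    if p.2 then ⟨b n x y z (i + cb n p.1) (-i + cb n p.1), Or.inr ⟨_, rfl, two_cb hn1 _⟩⟩
    else ⟨a n x y (cb n p.1) (cb n p.1), Or.inl ⟨_, rfl, two_cb hn1 _⟩⟩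
  have hFt : ∀ e, (F (e, true) : S) = b n x y z (i + cb n e) (-i + cb n e) := fun e => rfl
  have hFf : ∀ e, (F (e, false) : S) = a n x y (cb n e) (cb n e) := fun e => rfl
  have hbij : Function.Bijective F := by
    constructor
    · rintro ⟨e, f⟩ ⟨e', f'⟩ h
      have h' := congrArg Subtype.val h
      cases f <;> cases f'
      · rw [hFf, hFf] at h'
        rw [cb_inj hn1 (hw.a_inj h').1]
      · rw [hFf, hFt] at h'
        exact absurd h'.symm (hw.b_ne_a _ _ _ _)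
      · rw [hFt, hFf] at h'
        exact absurd h' (hw.b_ne_a _ _ _ _)
      · rw [hFt, hFt] at h'
        rw [cb_inj hn1 (add_left_cancel (hw.b_inj h').1)]
    · rintro ⟨g, (⟨k, rfl, h1⟩ | ⟨k, rfl, h1⟩)⟩
      · obtain ⟨e, rfl⟩ := exists_cb hn1 h1
        exact ⟨(e, false), rfl⟩
      · obtain ⟨e, rfl⟩ := exists_cb hn1 h1
        exact ⟨(e, true), rfl⟩
  rw [← Nat.card_congr (Equiv.ofBijective F hbij), Nat.card_prod, Nat.card_eq_fintype_card,
    Fintype.card_bool]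

theorem V_klein (i : ZMod (2 ^ n)) : IsKleinFour (hw.V i) := by
  apply isKleinFour_of_card_of_sq (hw.card_V i)
  rintro ⟨g, (⟨k, rfl, h1⟩ | ⟨k, rfl, h1⟩)⟩
  · apply Subtype.ext
    show a n x y k k * a n x y k k = 1
    rw [hw.a_sq, h1, hw.a_zero]
  · apply Subtype.ext
    show b n x y z (i + k) (-i + k) * b n x y z (i + k) (-i + k) = 1
    rw [hw.b_mul_self_eq_one_iff]
    linear_combination h1

theorem V_ne_T (i : ZMod (2 ^ n)) : hw.V i ≠ hw.T := by
  intro h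
  have h1 : b n x y z (i + 0) (-i + 0) ∈ hw.V i := Or.inr ⟨0, rfl, by ring⟩
  rw [h] at h1
  exact hw.b_not_mem _ _ (hw.T_le_A h1)

theorem klein_mul_self (P : Subgroup S) (hP : IsKleinFour P) (g : S) (hg : g ∈ P) :
    g * g = 1 := by
  haveI := hP
  have := IsKleinFour.mul_self (⟨g, hg⟩ : P)
  exact congrArg Subtype.val this

theorem klein_comm (P : Subgroup S) (hP : IsKleinFour P) (g h : S) (hg : g ∈ P) (hh' : h ∈ P) :
    g * h = h * g := by
  haveI := hP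
  haveI : IsMulCommutative P := IsKleinFour.isMulCommutative
  have := IsMulCommutative.is_comm.comm (⟨g, hg⟩ : P) ⟨h, hh'⟩
  exact congrArg Subtype.val this

theorem klein_eq_V [Finite S] (P : Subgroup S) (hP : IsKleinFour P) (hPT : P ≠ hw.T) :
    ∃ i, P = hw.V i := by
  have hc4 : Nat.card P = 4 := hP.card_four
  have h1 : ¬ P ≤ hw.T := by
    intro hle
    exact hPT (Subgroup.eq_of_le_of_card_ge hle (by rw [hc4, hw.card_T]))
  obtain ⟨g, hgP, hgT⟩ := SetLike.not_le_iff_exists.1 h1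
  have hgg := hw.klein_mul_self P hP g hgP
  rcases hw.exists_rep g with ⟨i, j, rfl⟩ | ⟨i, j, rfl⟩
  · exfalso
    rw [hw.a_sq, hw.a_eq_one_iff] at hgg
    exact hgT ⟨i, j, rfl, hgg.1, hgg.2⟩
  · rw [hw.b_mul_self_eq_one_iff] at hgg
    refine ⟨i, Subgroup.eq_of_le_of_card_ge ?_ (by rw [hc4, hw.card_V])⟩
    intro v hv
    have hvv := hw.klein_mul_self P hP v hv
    have hcomm := hw.klein_comm P hP v _ hv hgP
    rcases hw.exists_rep v with ⟨k, l, rfl⟩ | ⟨k, l, rfl⟩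
    · left
      rw [hw.a_mul_b, hw.b_mul_a] at hcomm
      have h2 := (hw.b_inj hcomm).1
      have h3 : k = l := by linear_combination h2
      rw [hw.a_sq, hw.a_eq_one_iff] at hvv
      exact ⟨l, by rw [h3], hvv.2⟩
    · right
      rw [hw.b_mul_self_eq_one_iff] at hvv
      rw [hw.b_mul_b, hw.b_mul_b] at hcomm
      have h2 := (hw.a_inj hcomm).1
      refine ⟨k - i, ?_, ?_⟩
      · congr 1
        · ring
        · linear_combination -h2 + hgg
      · linear_combination h2 + hvv - hgg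

theorem map_V [Finite S] (i j : ZMod (2 ^ n)) :
    (hw.V i).map (MulAut.conj (a n x y (j - i) 0)).toMonoidHom = hw.V j := by
  apply Subgroup.eq_of_le_of_card_ge
  · rw [Subgroup.map_le_iff_le_comap]
    rintro _ (⟨k, rfl, h1⟩ | ⟨k, rfl, h1⟩)
    · show a n x y (j - i) 0 * a n x y k k * (a n x y (j - i) 0)⁻¹ ∈ hw.V j
      rw [hw.a_conj_a]
      exact Or.inl ⟨k, rfl, h1⟩
    · show a n x y (j - i) 0 * b n x y z (i + k) (-i + k) * (a n x y (j - i) 0)⁻¹ ∈ hw.V j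
      rw [hw.a_conj_b]
      refine Or.inr ⟨k, ?_, h1⟩
      congr 1 <;> ring
  · rw [Subgroup.card_map_of_injective (MulAut.conj (a n x y (j - i) 0)).injective, hw.card_V,
      hw.card_V]

end WR

theorem s1198 {S : Type*} [Group S] [Finite S] (hS : Cfsg.IsWreathed S) :
    ∃ T : Subgroup S, IsKleinFour T ∧ T.Normal ∧ (∃ T₀ : Subgroup S, IsKleinFour T₀ ∧ T₀ ≠ T) ∧
      ∀ T₁ T₂ : Subgroup S, IsKleinFour T₁ → IsKleinFour T₂ → T₁ ≠ T → T₂ ≠ T →
        ∃ s : S, T₁.map (MulAut.conj s).toMonoidHom = T₂ := by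
  obtain ⟨n, x, y, z, hw⟩ := exists_WR hS
  refine ⟨hw.T, hw.T_klein, hw.T_normal, ⟨hw.V 0, hw.V_klein 0, hw.V_ne_T 0⟩, ?_⟩
  intro T₁ T₂ h1 h2 h1T h2T
  obtain ⟨i, rfl⟩ := hw.klein_eq_V T₁ h1 h1T
  obtain ⟨j, rfl⟩ := hw.klein_eq_V T₂ h2 h2T
  exact ⟨_, hw.map_V i j⟩

end Cfsg.Agent.Lib.Lead.WRCore
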