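import Mathlib
import Cfsg.Agent.Lib.Lead.WRCore2

set_option autoImplicit false

namespace Cfsg.Agent.Lib.Lead.WRCore

open Cfsg.Agent.Lib.Lead.QDArith

theorem s1196 {S : Type*} [Group S] [Finite S] (hS : Cfsg.IsWreathed S) (n : ℕ)
    (hn : Nat.card S = 2 ^ (2 * n + 1)) :
    (∃! U : Subgroup S, IsMulCommutative U ∧ Nat.card U = 2 ^ (2 * n)) ∧
      ∀ U : Subgroup S, IsMulCommutative U → Nat.card U = 2 ^ (2 * n) →
        Nonempty (U ≃* Multiplicative (ZMod (2 ^ n) × ZMod (2 ^ n))) := by
  classical
  obtain ⟨m, x, y, z, hw⟩ := exists_WR hS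
  obtain rfl := hw.n_eq hn
  have hn2 := hw.hn
  have key : ∀ U : Subgroup S, IsMulCommutative U → Nat.card U = 2 ^ (2 * n) → U = hw.A := by
    intro U hU hc
    have hUA : U ≤ hw.A := by
      by_contra hne
      obtain ⟨g, hgU, hgA⟩ := SetLike.not_le_iff_exists.1 hne
      rcases hw.exists_rep g with ⟨i, j, rfl⟩ | ⟨i, j, rfl⟩
      · exact hgA (hw.a_mem i j)
      · have hsub : (U : Set S) ⊆ (Subgroup.center S : Set S) ∪
            (fun c => b n x y z i j * c) '' (Subgroup.center S : Set S) := by
          intro u hu
          have hcomm : u * b n x y z i j = b n x y z i j * u := by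
            have := hU.is_comm.comm (⟨u, hu⟩ : U) ⟨_, hgU⟩
            exact congrArg Subtype.val this
          rcases hw.exists_rep u with ⟨k, l, rfl⟩ | ⟨k, l, rfl⟩
          · left
            rw [hw.a_mul_b, hw.b_mul_a] at hcomm
            have h2 := (hw.b_inj hcomm).1
            have : k = l := by linear_combination h2
            rw [this]; exact hw.diag_mem_center l
          · right
            rw [hw.b_mul_b, hw.b_mul_b] at hcomm
            have h2 := (hw.a_inj hcomm).1
            refine ⟨a n x y (k - i) (k - i), hw.diag_mem_center _, ?_⟩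
            show b n x y z i j * a n x y (k - i) (k - i) = b n x y z k l
            rw [hw.b_mul_a]
            congr 1
            · ring
            · linear_combination h2
        have hcU : Nat.card U = (U : Set S).ncard := Nat.card_coe_set_eq (U : Set S)
        have hcZ : Nat.card (Subgroup.center S) = (Subgroup.center S : Set S).ncard :=
          Nat.card_coe_set_eq (Subgroup.center S : Set S)
        have h1 : (U : Set S).ncard ≤ 2 ^ n + 2 ^ n := by
          calc (U : Set S).ncard ≤ ((Subgroup.center S : Set S) ∪
                (fun c => b n x y z i j * c) '' (Subgroup.center S : Set S)).ncard :=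
                Set.ncard_le_ncard hsub (Set.toFinite _)
            _ ≤ (Subgroup.center S : Set S).ncard +
                ((fun c => b n x y z i j * c) '' (Subgroup.center S : Set S)).ncard :=
                Set.ncard_union_le _ _
            _ ≤ (Subgroup.center S : Set S).ncard + (Subgroup.center S : Set S).ncard :=
                Nat.add_le_add_left (Set.ncard_image_le (Set.toFinite _)) _
            _ = 2 ^ n + 2 ^ n := by rw [← hcZ, hw.card_center]
        rw [← hcU, hc] at h1
        have h3 : 2 ^ (n + 2) ≤ 2 ^ (2 * n) :=
          Nat.pow_le_pow_right (by norm_num) (by omega)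
        have h4 : 2 ^ (n + 2) = 4 * 2 ^ n := by ring
        have h5 : 0 < 2 ^ n := by positivity
        omega
    exact Subgroup.eq_of_le_of_card_ge hUA (by rw [hc, hw.card_A])
  refine ⟨⟨hw.A, ⟨hw.A_comm, hw.card_A⟩, fun U hU => key U hU.1 hU.2⟩, ?_⟩
  intro U hU hc
  have h := key U hU hc
  subst h
  exact hw.A_equiv

end Cfsg.Agent.Lib.Lead.WRCore
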