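import Mathlib
import Cfsg.Agent.Lib.Lead.FpfLinear

set_option autoImplicit false

namespace Cfsg.Agent.Lib.Lead.FpfLinear

section Lin2

variable {p : ℕ} [Fact p.Prime] {V : Type*} [AddCommGroup V] [Module (ZMod p) V] [Finite V]
  (H : Subgroup (V ≃ₗ[ZMod p] V))

theorem finite_H : Finite H :=
  Finite.of_injective (fun h : H => ((h : V ≃ₗ[ZMod p] V) : V → V))
    (fun _ _ hab => Subtype.ext (LinearEquiv.ext (congrFun hab)))

/-- a regular linear group has order `|V| - 1` -/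
theorem card_H (hreg : ∀ v w : V, v ≠ 0 → w ≠ 0 → ∃! h : H, (h : V ≃ₗ[ZMod p] V) v = w)
    [Nontrivial V] : Nat.card H + 1 = Nat.card V := by
  classical
  obtain ⟨v₀, hv₀⟩ := exists_ne (0 : V)
  have hbij : Function.Bijective (fun h : H => (⟨(h : V ≃ₗ[ZMod p] V) v₀, fun h0 =>
      hv₀ ((LinearEquiv.map_eq_zero_iff _).mp h0)⟩ : {v : V // v ≠ 0})) := by
    constructor
    · intro a b hab
      have h1 : (a : V ≃ₗ[ZMod p] V) v₀ = (b : V ≃ₗ[ZMod p] V) v₀ := congrArg Subtype.val hab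
      have hne : (b : V ≃ₗ[ZMod p] V) v₀ ≠ 0 := fun h0 =>
        hv₀ ((LinearEquiv.map_eq_zero_iff _).mp h0)
      obtain ⟨h₀, -, huniq⟩ := hreg v₀ _ hv₀ hne
      exact (huniq a h1).trans (huniq b rfl).symm
    · rintro ⟨w, hw⟩
      obtain ⟨h, hh, -⟩ := hreg v₀ w hv₀ hw
      exact ⟨h, Subtype.ext hh⟩
  rw [Nat.card_eq_of_bijective _ hbij]
  haveI : Fintype V := Fintype.ofFinite V
  rw [Nat.card_eq_fintype_card, Nat.card_eq_fintype_card, Fintype.card_subtype_compl,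
    Fintype.card_subtype_eq]
  have : 0 < Fintype.card V := Fintype.card_pos
  omega

/-- if a cyclic subgroup is self-centralising then `|H| ≤ |A|²` -/
theorem card_le_sq {G : Type*} [Group G] [Finite G] (A : Subgroup G) [hAn : A.Normal]
    (hcyc : IsCyclic A) (hC : Subgroup.centralizer (A : Set G) = A) :
    Nat.card G ≤ Nat.card A * Nat.card A := by
  classical
  obtain ⟨g, hg⟩ := hcyc.exists_generator
  -- ψ h = h g h⁻¹
  let ψ : G → A := fun h => ⟨h * g.1 * h⁻¹, hAn.conj_mem g.1 g.2 h⟩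
  -- representatives
  let rep : A → G := fun x => if hx : ∃ h, ψ h = x then hx.choose else 1
  have hrep : ∀ h : G, ψ (rep (ψ h)) = ψ h := by
    intro h
    have hx : ∃ h', ψ h' = ψ h := ⟨h, rfl⟩
    simp only [rep, dif_pos hx]
    exact hx.choose_spec
  have hmem : ∀ h : G, (rep (ψ h))⁻¹ * h ∈ A := by
    intro h
    rw [← hC, Subgroup.mem_centralizer_iff]
    intro x hx
    -- x is a power of g
    obtain ⟨k, hk⟩ := Subgroup.mem_zpowers_iff.mp (hg ⟨x, hx⟩)
    have hxk : x = g.1 ^ k := by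
      have := congrArg Subtype.val hk
      simpa using this.symm
    have h1 : rep (ψ h) * g.1 * (rep (ψ h))⁻¹ = h * g.1 * h⁻¹ := congrArg Subtype.val (hrep h)
    have h2 : ((rep (ψ h))⁻¹ * h) * g.1 = g.1 * ((rep (ψ h))⁻¹ * h) := by
      have : g.1 = (rep (ψ h))⁻¹ * (h * g.1 * h⁻¹) * rep (ψ h) := by rw [← h1]; group
      calc ((rep (ψ h))⁻¹ * h) * g.1 = (rep (ψ h))⁻¹ * (h * g.1 * h⁻¹) * rep (ψ h) *
            ((rep (ψ h))⁻¹ * h) := by group
        _ = g.1 * ((rep (ψ h))⁻¹ * h) := by rw [← this]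
    have h3 : Commute ((rep (ψ h))⁻¹ * h) g.1 := h2
    rw [hxk]
    exact (h3.zpow_right k).eq.symm
  have hinj : Function.Injective (fun h : G => ((ψ h, ⟨(rep (ψ h))⁻¹ * h, hmem h⟩) : A × A)) := by
    intro h h' hh
    have h1 : ψ h = ψ h' := congrArg Prod.fst hh
    have h2 : (rep (ψ h))⁻¹ * h = (rep (ψ h'))⁻¹ * h' :=
      congrArg (fun z : A × A => (z.2 : G)) hh
    rw [h1] at h2
    exact mul_left_cancel h2
  have := Nat.card_le_card_of_injective _ hinj
  rwa [Nat.card_prod] at this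

/-- a second, independent, copy of a minimal invariant subspace -/
theorem two_mul_finrank_le
    (hreg : ∀ v w : V, v ≠ 0 → w ≠ 0 → ∃! h : H, (h : V ≃ₗ[ZMod p] V) v = w)
    (A : Subgroup H) [hAn : A.Normal] (W : Submodule (ZMod p) V) (hW0 : W ≠ ⊥) (hWt : W ≠ ⊤)
    (hWinv : InvSub H A W)
    (hWmin : ∀ W' ≤ W, InvSub H A W' → W' = ⊥ ∨ W' = W) :
    2 * Module.finrank (ZMod p) W ≤ Module.finrank (ZMod p) V := by
  classical
  haveI : Fintype V := Fintype.ofFinite V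
  haveI : Module.Finite (ZMod p) V := Module.Finite.of_finite
  obtain ⟨w, hwW, hw0⟩ := (Submodule.ne_bot_iff W).mp hW0
  obtain ⟨v, hv⟩ : ∃ v : V, v ∉ W := by
    by_contra hcon
    push Not at hcon
    exact hWt (eq_top_iff.mpr fun x _ => hcon x)
  have hv0 : v ≠ 0 := by rintro rfl; exact hv (Submodule.zero_mem W)
  obtain ⟨h, hh, -⟩ := hreg w v hw0 hv0
  -- the translate `h W`
  set W₂ : Submodule (ZMod p) V := W.map ((h : V ≃ₗ[ZMod p] V) : V →ₗ[ZMod p] V) with hW₂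
  have hvW₂ : v ∈ W₂ := by
    rw [hW₂, Submodule.mem_map]; exact ⟨w, hwW, hh⟩
  have hW₂inv : InvSub H A W₂ := by
    intro a ha x hx
    rw [hW₂, Submodule.mem_map] at hx ⊢
    obtain ⟨y, hy, rfl⟩ := hx
    have hmem : h⁻¹ * a * h ∈ A := by
      have := hAn.conj_mem a ha h⁻¹
      rwa [inv_inv] at this
    refine ⟨((h⁻¹ * a * h : H) : V ≃ₗ[ZMod p] V) y, hWinv _ hmem y hy, ?_⟩
    show (h : V ≃ₗ[ZMod p] V) (((h⁻¹ * a * h : H) : V ≃ₗ[ZMod p] V) y) = _
    have : (h : V ≃ₗ[ZMod p] V) (((h⁻¹ * a * h : H) : V ≃ₗ[ZMod p] V) y) =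
        ((h * (h⁻¹ * a * h) : H) : V ≃ₗ[ZMod p] V) y := rfl
    rw [this]
    have e : h * (h⁻¹ * a * h) = a * h := by group
    rw [e]
    rfl
  have hinf : W ⊓ W₂ = ⊥ := by
    have hinv' : InvSub H A (W ⊓ W₂) := fun a ha x hx =>
      ⟨hWinv a ha x hx.1, hW₂inv a ha x hx.2⟩
    rcases hWmin _ inf_le_left hinv' with h0 | h1
    · exact h0
    · exfalso
      -- then `W ≤ W₂`, equal dimensions, so `W = W₂ ∋ v`
      have hle : W ≤ W₂ := by rw [← h1]; exact inf_le_right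
      have hdim : Module.finrank (ZMod p) W₂ = Module.finrank (ZMod p) W :=
        LinearEquiv.finrank_map_eq (h : V ≃ₗ[ZMod p] V) W
      have : W = W₂ := Submodule.eq_of_le_of_finrank_eq hle hdim.symm
      exact hv (this ▸ hvW₂)
  have hdim : Module.finrank (ZMod p) W₂ = Module.finrank (ZMod p) W :=
    LinearEquiv.finrank_map_eq (h : V ≃ₗ[ZMod p] V) W
  have h1 := Submodule.finrank_sup_add_finrank_inf_eq W W₂
  rw [hinf, finrank_bot, add_zero, hdim] at h1
  have h2 := Submodule.finrank_le (W ⊔ W₂)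
  omega

/-- self-centralising maximal normal abelian subgroups do not occur -/
theorem centralizer_ne
    (hreg : ∀ v w : V, v ≠ 0 → w ≠ 0 → ∃! h : H, (h : V ≃ₗ[ZMod p] V) v = w)
    (hI : ∀ A : Subgroup H, A.Normal → IsCyclic A → ∃ W : Submodule (ZMod p) V, W ≠ ⊥ ∧ W ≠ ⊤ ∧
      ∀ a ∈ A, ∀ v ∈ W, ((a : H) : V ≃ₗ[ZMod p] V) v ∈ W)
    (A : Subgroup H) (hAn : A.Normal) (hAc : IsMulCommutative A) :
    Subgroup.centralizer (A : Set H) ≠ A := by
  classical
  intro hC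
  haveI := finite_H H
  obtain ⟨W₁, hW₁, -, -⟩ := hI ⊥ inferInstance inferInstance
  haveI : Nontrivial V := by
    by_contra hnt
    rw [not_nontrivial_iff_subsingleton] at hnt
    apply hW₁
    rw [eq_bot_iff]
    intro v _
    rw [Submodule.mem_bot]
    exact Subsingleton.elim v 0
  have hcyc : IsCyclic A := cyclic_of_regular H hreg A hAc
  obtain ⟨W₀, hW₀b, hW₀t, hW₀inv⟩ := hI A hAn hcyc
  obtain ⟨W, hWle, hW0, hWinv, hWmin⟩ := exists_min_inv H A W₀ hW₀b hW₀inv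
  have hWt : W ≠ ⊤ := by
    intro h
    apply hW₀t
    rw [eq_top_iff, ← h]
    exact hWle
  have h1 := card_dvd H hreg A W hWinv
  have h2 := two_mul_finrank_le H hreg A W hW0 hWt hWinv hWmin
  have h3 := card_le_sq A hcyc hC
  have h4 := card_H H hreg
  haveI : Fintype V := Fintype.ofFinite V
  have h5 : Nat.card V = p ^ Module.finrank (ZMod p) V := by
    rw [Nat.card_eq_fintype_card, Module.card_eq_pow_finrank (K := ZMod p) (V := V), ZMod.card]
  set k := Module.finrank (ZMod p) W with hk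
  set n := Module.finrank (ZMod p) V with hn
  have hp2 : 2 ≤ p := (Fact.out : p.Prime).two_le
  have hk1 : 1 ≤ k := by
    rw [hk]
    by_contra h0
    push Not at h0
    have : Module.finrank (ZMod p) W = 0 := by omega
    rw [Submodule.finrank_eq_zero] at this
    exact hW0 this
  have hpk : 2 ≤ p ^ k := by
    calc 2 ≤ p := hp2
      _ = p ^ 1 := (pow_one p).symm
      _ ≤ p ^ k := Nat.pow_le_pow_right (by omega) hk1
  have ha : Nat.card A ≤ p ^ k - 1 := Nat.le_of_dvd (by omega) h1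
  have hpn : p ^ (2 * k) ≤ p ^ n := Nat.pow_le_pow_right (by omega) h2
  have hsq : p ^ (2 * k) = p ^ k * p ^ k := by rw [two_mul, pow_add]
  have h6 : Nat.card H ≤ (p ^ k - 1) * (p ^ k - 1) := h3.trans (Nat.mul_le_mul ha ha)
  -- numeric contradiction
  obtain ⟨q, hq⟩ : ∃ q, p ^ k = q + 2 := ⟨p ^ k - 2, by omega⟩
  rw [hq] at h6 hsq
  have h7 : (q + 2 - 1) * (q + 2 - 1) = q * q + 2 * q + 1 := by
    have : q + 2 - 1 = q + 1 := by omega
    rw [this]; ring
  have h8 : (q + 2) * (q + 2) = q * q + 4 * q + 4 := by ring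
  rw [h7] at h6
  rw [h8] at hsq
  omega

end Lin2

end Cfsg.Agent.Lib.Lead.FpfLinear
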