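import Mathlib
import Cfsg.Agent.Lib.Lead.FpfLinear2

set_option autoImplicit false

namespace Cfsg.Agent.Lib.Lead.FpfLinear

/-- A subring of endomorphisms of a finite module in which every nonzero element is injective
is commutative (Wedderburn). -/
theorem comm_of_injective {R V : Type*} [CommRing R] [AddCommGroup V] [Module R V] [Finite V]
    (D : Subring (Module.End R V))
    (hD : ∀ φ ∈ D, φ ≠ 0 → Function.Injective φ) :
    ∀ φ ∈ D, ∀ ψ ∈ D, φ * ψ = ψ * φ := by
  classical
  rcases subsingleton_or_nontrivial V with hs | hnt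
  · intro φ _ ψ _
    apply LinearMap.ext
    intro v
    exact Subsingleton.elim _ _
  haveI : Finite (Module.End R V) :=
    Finite.of_injective (fun f : Module.End R V => (f : V → V)) DFunLike.coe_injective
  haveI : Fintype D := Fintype.ofFinite D
  haveI : Nontrivial D := by
    refine ⟨⟨0, 1, fun h => ?_⟩⟩
    have h1 : ((0 : D) : Module.End R V) = (1 : Module.End R V) := congrArg Subtype.val h
    obtain ⟨u, hu⟩ := exists_ne (0 : V)
    have := congrArg (fun g : Module.End R V => g u) h1
    simp at this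
    exact hu this.symm
  haveI : NoZeroDivisors D := by
    constructor
    intro f g hfg
    by_cases hf : f = 0
    · left; exact hf
    · right
      have hf' : (f : Module.End R V) ≠ 0 := fun h => hf (Subtype.ext h)
      have hfi := hD f.1 f.2 hf'
      apply Subtype.ext
      apply LinearMap.ext
      intro u
      apply hfi
      have h1 : (f : Module.End R V) * (g : Module.End R V) = 0 := congrArg Subtype.val hfg
      have := congrArg (fun h : Module.End R V => h u) h1
      simp only [Module.End.mul_apply] at this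
      rw [this]
      simp
  haveI : IsDomain D := NoZeroDivisors.to_isDomain _
  letI : DivisionRing D := Fintype.divisionRingOfIsDomain D
  letI : Field D := littleWedderburn D
  intro φ hφ ψ hψ
  have := mul_comm (⟨φ, hφ⟩ : D) ⟨ψ, hψ⟩
  exact congrArg Subtype.val this

section Lin3

variable {p : ℕ} [Fact p.Prime] {V : Type*} [AddCommGroup V] [Module (ZMod p) V] [Finite V]
  (H : Subgroup (V ≃ₗ[ZMod p] V))

/-- a reducible normal subgroup of a regular linear group is abelian -/
theorem comm_of_reducible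
    (hreg : ∀ v w : V, v ≠ 0 → w ≠ 0 → ∃! h : H, (h : V ≃ₗ[ZMod p] V) v = w)
    (N : Subgroup H) [hNn : N.Normal] (W₀ : Submodule (ZMod p) V) (hW₀b : W₀ ≠ ⊥)
    (hW₀t : W₀ ≠ ⊤) (hW₀inv : InvSub H N W₀) :
    ∀ x ∈ N, ∀ y ∈ N, x * y = y * x := by
  classical
  haveI : Fintype V := Fintype.ofFinite V
  haveI : Module.Finite (ZMod p) V := Module.Finite.of_finite
  obtain ⟨W, hWle, hW0, hWinv, hWmin⟩ := exists_min_inv H N W₀ hW₀b hW₀inv
  have hWt : W ≠ ⊤ := by
    intro h
    apply hW₀t
    rw [eq_top_iff, ← h]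
    exact hWle
  -- translates
  let tr : H → Submodule (ZMod p) V := fun h =>
    W.map ((h : V ≃ₗ[ZMod p] V) : V →ₗ[ZMod p] V)
  have htr_mem : ∀ (h : H) (x : V), x ∈ tr h ↔ ∃ y ∈ W, (h : V ≃ₗ[ZMod p] V) y = x := by
    intro h x
    exact Submodule.mem_map
  have htr_dim : ∀ h : H, Module.finrank (ZMod p) (tr h) = Module.finrank (ZMod p) W :=
    fun h => LinearEquiv.finrank_map_eq (h : V ≃ₗ[ZMod p] V) W
  have htr_inv : ∀ h : H, InvSub H N (tr h) := by
    intro h a ha x hx
    rw [htr_mem] at hx ⊢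
    obtain ⟨y, hy, rfl⟩ := hx
    have hmem : h⁻¹ * a * h ∈ N := by
      have := hNn.conj_mem a ha h⁻¹
      rwa [inv_inv] at this
    refine ⟨((h⁻¹ * a * h : H) : V ≃ₗ[ZMod p] V) y, hWinv _ hmem y hy, ?_⟩
    have : (h : V ≃ₗ[ZMod p] V) (((h⁻¹ * a * h : H) : V ≃ₗ[ZMod p] V) y) =
        ((h * (h⁻¹ * a * h) : H) : V ≃ₗ[ZMod p] V) y := rfl
    rw [this]
    have e : h * (h⁻¹ * a * h) = a * h := by group
    rw [e]
    rfl
  -- minimality of the translates
  have htr_min : ∀ (h : H) (W' : Submodule (ZMod p) V), W' ≤ tr h → InvSub H N W' →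
      W' = ⊥ ∨ W' = tr h := by
    intro h W' hle hinv
    -- pull back
    have hle' : W'.comap ((h : V ≃ₗ[ZMod p] V) : V →ₗ[ZMod p] V) ≤ W := by
      intro x hx
      rw [Submodule.mem_comap] at hx
      have := hle hx
      rw [htr_mem] at this
      obtain ⟨y, hy, hyx⟩ := this
      have : y = x := (h : V ≃ₗ[ZMod p] V).injective hyx
      rwa [← this]
    have hinv' : InvSub H N (W'.comap ((h : V ≃ₗ[ZMod p] V) : V →ₗ[ZMod p] V)) := by
      intro a ha x hx
      rw [Submodule.mem_comap] at hx ⊢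
      have hmem : h * a * h⁻¹ ∈ N := hNn.conj_mem a ha h
      have h1 : ((h * a * h⁻¹ : H) : V ≃ₗ[ZMod p] V) ((h : V ≃ₗ[ZMod p] V) x) ∈ W' :=
        hinv _ hmem _ hx
      have e : ((h * a * h⁻¹ : H) : V ≃ₗ[ZMod p] V) ((h : V ≃ₗ[ZMod p] V) x) =
          (h : V ≃ₗ[ZMod p] V) (((a : H) : V ≃ₗ[ZMod p] V) x) := by
        have : ((h * a * h⁻¹ * h : H) : V ≃ₗ[ZMod p] V) x = ((h * a : H) : V ≃ₗ[ZMod p] V) x := by
          rw [inv_mul_cancel_right]
        exact this
      show (h : V ≃ₗ[ZMod p] V) (((a : H) : V ≃ₗ[ZMod p] V) x) ∈ W'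
      rw [← e]
      exact h1
    rcases hWmin _ hle' hinv' with h0 | h1
    · left
      rw [eq_bot_iff]
      intro x hx
      have hx' := hle hx
      rw [htr_mem] at hx'
      obtain ⟨y, hy, rfl⟩ := hx'
      have : y ∈ W'.comap ((h : V ≃ₗ[ZMod p] V) : V →ₗ[ZMod p] V) := hx
      rw [h0, Submodule.mem_bot] at this
      rw [this, map_zero]
      exact Submodule.zero_mem _
    · right
      apply le_antisymm hle
      intro x hx
      rw [htr_mem] at hx
      obtain ⟨y, hy, rfl⟩ := hx
      have : y ∈ W'.comap ((h : V ≃ₗ[ZMod p] V) : V →ₗ[ZMod p] V) := by rw [h1]; exact hy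
      exact this
  -- (S-a)
  obtain ⟨w, hwW, hw0⟩ := (Submodule.ne_bot_iff W).mp hW0
  have hcover : ∀ v : V, v ≠ 0 → ∃ h : H, v ∈ tr h := by
    intro v hv
    obtain ⟨h, hh, -⟩ := hreg w v hw0 hv
    exact ⟨h, (htr_mem h v).mpr ⟨w, hwW, hh⟩⟩
  -- (S-b)
  have hdisj : ∀ h₁ h₂ : H, tr h₁ = tr h₂ ∨ tr h₁ ⊓ tr h₂ = ⊥ := by
    intro h₁ h₂
    have hinv' : InvSub H N (tr h₁ ⊓ tr h₂) := fun a ha x hx =>
      ⟨htr_inv h₁ a ha x hx.1, htr_inv h₂ a ha x hx.2⟩
    rcases htr_min h₁ _ inf_le_left hinv' with h0 | h1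
    · right; exact h0
    · left
      have hle : tr h₁ ≤ tr h₂ := by rw [← h1]; exact inf_le_right
      exact Submodule.eq_of_le_of_finrank_eq hle ((htr_dim h₁).trans (htr_dim h₂).symm)
  have htr_ne_top : ∀ h : H, tr h ≠ ⊤ := by
    intro h htop
    apply hWt
    apply Submodule.eq_top_of_finrank_eq
    rw [← htr_dim h, htop, finrank_top]
  -- the kernel ring
  let D : Subring (Module.End (ZMod p) V) :=
    { carrier := {φ | ∀ h : H, ∀ x ∈ tr h, φ x ∈ tr h}
      mul_mem' := by
        intro φ ψ hφ hψ h x hx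
        exact hφ h _ (hψ h x hx)
      one_mem' := by
        intro h x hx
        exact hx
      add_mem' := by
        intro φ ψ hφ hψ h x hx
        exact Submodule.add_mem _ (hφ h x hx) (hψ h x hx)
      zero_mem' := by
        intro h x _
        exact Submodule.zero_mem _
      neg_mem' := by
        intro φ hφ h x hx
        exact Submodule.neg_mem _ (hφ h x hx) }
  have hDinj : ∀ φ ∈ D, φ ≠ 0 → Function.Injective φ := by
    intro φ hφ hφ0
    rw [← LinearMap.ker_eq_bot, eq_bot_iff]
    intro u hu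
    rw [LinearMap.mem_ker] at hu
    rw [Submodule.mem_bot]
    by_contra hu0
    apply hφ0
    obtain ⟨h₁, hu1⟩ := hcover u hu0
    -- φ kills everything outside `tr h₁`
    have hout : ∀ v : V, v ∉ tr h₁ → φ v = 0 := by
      intro v hv
      have hv0 : v ≠ 0 := by rintro rfl; exact hv (Submodule.zero_mem _)
      obtain ⟨h₂, hv2⟩ := hcover v hv0
      have huv0 : u + v ≠ 0 := by
        intro h
        apply hv
        have : v = -u := by rw [eq_neg_iff_add_eq_zero, add_comm]; exact h
        rw [this]; exact Submodule.neg_mem _ hu1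
      obtain ⟨h₃, huv3⟩ := hcover (u + v) huv0
      have h12 : tr h₁ ≠ tr h₂ := by
        intro h; rw [← h] at hv2; exact hv hv2
      have h23 : tr h₂ ≠ tr h₃ := by
        intro h
        rw [← h] at huv3
        have hu2 : u ∈ tr h₂ := by
          have : u = (u + v) - v := by abel
          rw [this]; exact Submodule.sub_mem _ huv3 hv2
        rcases hdisj h₁ h₂ with h' | h'
        · exact h12 h'
        · have : u ∈ tr h₁ ⊓ tr h₂ := ⟨hu1, hu2⟩
          rw [h', Submodule.mem_bot] at this
          exact hu0 this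
      have hφv2 : φ v ∈ tr h₂ := hφ h₂ v hv2
      have hφv3 : φ v ∈ tr h₃ := by
        have := hφ h₃ (u + v) huv3
        rwa [map_add, hu, zero_add] at this
      rcases hdisj h₂ h₃ with h' | h'
      · exact absurd h' h23
      · have : φ v ∈ tr h₂ ⊓ tr h₃ := ⟨hφv2, hφv3⟩
        rwa [h', Submodule.mem_bot] at this
    obtain ⟨v, hv⟩ : ∃ v : V, v ∉ tr h₁ := by
      by_contra hcon
      push Not at hcon
      exact htr_ne_top h₁ (eq_top_iff.mpr fun x _ => hcon x)
    apply LinearMap.ext
    intro x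
    rw [LinearMap.zero_apply]
    by_cases hx : x ∈ tr h₁
    · have hxv : x + v ∉ tr h₁ := by
        intro h
        apply hv
        have : v = (x + v) - x := by abel
        rw [this]; exact Submodule.sub_mem _ h hx
      have h1 := hout _ hxv
      rw [map_add, hout v hv, add_zero] at h1
      exact h1
    · exact hout x hx
  have hcomm := comm_of_injective D hDinj
  intro x hx y hy
  have hxD : (((x : H) : V ≃ₗ[ZMod p] V) : V →ₗ[ZMod p] V) ∈ D := fun h v hv => htr_inv h x hx v hv
  have hyD : (((y : H) : V ≃ₗ[ZMod p] V) : V →ₗ[ZMod p] V) ∈ D := fun h v hv => htr_inv h y hy v hv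
  have := hcomm _ hxD _ hyD
  apply Subtype.ext
  apply LinearEquiv.ext
  intro v
  have h2 := congrArg (fun f : Module.End (ZMod p) V => f v) this
  exact h2

/-- the centraliser of an irreducible subgroup is abelian -/
theorem centralizer_comm_of_irreducible
    (N : Subgroup H)
    (hirr : ∀ W : Submodule (ZMod p) V, InvSub H N W → W = ⊥ ∨ W = ⊤) :
    ∀ x ∈ Subgroup.centralizer (N : Set H), ∀ y ∈ Subgroup.centralizer (N : Set H),
      x * y = y * x := by
  classical
  let D : Subring (Module.End (ZMod p) V) :=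
    { carrier := {φ | ∀ n ∈ N, ∀ v : V, φ (((n : H) : V ≃ₗ[ZMod p] V) v) =
        ((n : H) : V ≃ₗ[ZMod p] V) (φ v)}
      mul_mem' := by
        intro φ ψ hφ hψ n hn v
        rw [Module.End.mul_apply, hψ n hn, hφ n hn]
        rfl
      one_mem' := by
        intro n _ v
        rfl
      add_mem' := by
        intro φ ψ hφ hψ n hn v
        rw [LinearMap.add_apply, hφ n hn, hψ n hn, LinearMap.add_apply, map_add]
      zero_mem' := by
        intro n _ v
        simp
      neg_mem' := by
        intro φ hφ n hn v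
        rw [LinearMap.neg_apply, hφ n hn, LinearMap.neg_apply, map_neg] }
  have hDinj : ∀ φ ∈ D, φ ≠ 0 → Function.Injective φ := by
    intro φ hφ hφ0
    have hker : InvSub H N (LinearMap.ker φ) := by
      intro n hn v hv
      rw [LinearMap.mem_ker] at hv ⊢
      rw [hφ n hn, hv, map_zero]
    rcases hirr _ hker with h | h
    · exact LinearMap.ker_eq_bot.mp h
    · exfalso; apply hφ0; exact LinearMap.ker_eq_top.mp h
  have hcomm := comm_of_injective D hDinj
  intro x hx y hy
  have hmem : ∀ z ∈ Subgroup.centralizer (N : Set H),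
      (((z : H) : V ≃ₗ[ZMod p] V) : V →ₗ[ZMod p] V) ∈ D := by
    intro z hz n hn v
    have h1 := Subgroup.mem_centralizer_iff.mp hz n hn
    have h2 : ((z * n : H) : V ≃ₗ[ZMod p] V) v = ((n * z : H) : V ≃ₗ[ZMod p] V) v := by
      rw [h1]
    exact h2
  have := hcomm _ (hmem x hx) _ (hmem y hy)
  apply Subtype.ext
  apply LinearEquiv.ext
  intro v
  have h2 := congrArg (fun f : Module.End (ZMod p) V => f v) this
  exact h2

end Lin3

end Cfsg.Agent.Lib.Lead.FpfLinear
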