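import Mathlib
import Cfsg.Agent.Lib.Lead.Sz2C
import Cfsg.Prelude.Def_LieRecognition

set_option autoImplicit false

/-!
# The Suzuki 2-groups of type A as explicit sets of matrices, and a recognition lemma
-/

namespace Cfsg.Agent.Lib.Lead.Sz2M

open Cfsg.Agent.Lib.Lead

universe u v w

section Fiber

/-- Two central extensions with the same squaring map are isomorphic. -/
theorem iso_of_fiber {P : Type u} {A : Type v} [Group P] [Group A] [Finite P] [Finite A]
    {F : Type w} [AddCommGroup F]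
    (tP : P → F) (tA : A → F)
    (htP : ∀ p p', tP (p * p') = tP p + tP p') (htA : ∀ a a', tA (a * a') = tA a + tA a')
    (hsurjP : ∀ a, ∃ p, tP p = tA a) (hsurjA : ∀ p, ∃ a, tA a = tP p)
    (j : P → A)
    (hj_mul : ∀ z z', tP z = 0 → tP z' = 0 → j (z * z') = j z * j z')
    (hj_ker : ∀ z, tP z = 0 → tA (j z) = 0)
    (hj_inj : ∀ z, tP z = 0 → j z = 1 → z = 1)
    (hj_surj : ∀ a, tA a = 0 → ∃ z, tP z = 0 ∧ j z = a)
    (hcentP : ∀ z, tP z = 0 → ∀ p, z * p = p * z)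
    (hcentA : ∀ a, tA a = 0 → ∀ a', a * a' = a' * a)
    (hsq : ∀ p a, tP p = tA a → tP (p * p) = 0 ∧ j (p * p) = a * a) :
    Nonempty (P ≃* A) := by
  classical
  have htP1 : tP 1 = 0 := by
    have h1 := htP 1 1
    rw [mul_one] at h1
    have h3 : tP 1 + tP 1 = tP 1 + 0 := by rw [add_zero]; exact h1.symm
    exact add_left_cancel h3
  have htA1 : tA 1 = 0 := by
    have h1 := htA 1 1
    rw [mul_one] at h1
    have h3 : tA 1 + tA 1 = tA 1 + 0 := by rw [add_zero]; exact h1.symm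
    exact add_left_cancel h3
  have htPinv : ∀ p, tP p⁻¹ = - tP p := by
    intro p
    have h1 := htP p p⁻¹
    rw [mul_inv_cancel, htP1] at h1
    exact eq_neg_of_add_eq_zero_right h1.symm
  have htAinv : ∀ a, tA a⁻¹ = - tA a := by
    intro a
    have h1 := htA a a⁻¹
    rw [mul_inv_cancel, htA1] at h1
    exact eq_neg_of_add_eq_zero_right h1.symm
  have hj1 : j 1 = 1 := by
    have h1 := hj_mul 1 1 htP1 htP1
    rw [mul_one] at h1
    have h2 : j 1 * j 1 = j 1 * 1 := by rw [mul_one]; exact h1.symm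
    exact mul_left_cancel h2
  have hjinv : ∀ z, tP z = 0 → j z⁻¹ = (j z)⁻¹ := by
    intro z hz
    have hz' : tP z⁻¹ = 0 := by rw [htPinv, hz, neg_zero]
    have h1 := hj_mul z z⁻¹ hz hz'
    rw [mul_inv_cancel, hj1] at h1
    exact eq_inv_of_mul_eq_one_right h1.symm
  let E : Subgroup (P × A) :=
    { carrier := {g | tP g.1 = tA g.2}
      mul_mem' := by
        intro a b ha hb
        show tP (a.1 * b.1) = tA (a.2 * b.2)
        rw [htP, htA, ha, hb]
      one_mem' := by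
        show tP 1 = tA 1
        rw [htP1, htA1]
      inv_mem' := by
        intro a ha
        show tP a.1⁻¹ = tA a.2⁻¹
        rw [htPinv, htAinv, ha] }
  have hEmem : ∀ g : E, tP g.1.1 = tA g.1.2 := fun g => g.2
  let N : Subgroup E :=
    { carrier := {g | tP g.1.1 = 0 ∧ g.1.2 = j g.1.1}
      mul_mem' := by
        intro g g' hg hg'
        refine ⟨?_, ?_⟩
        · show tP (g.1.1 * g'.1.1) = 0
          rw [htP, hg.1, hg'.1, add_zero]
        · show g.1.2 * g'.1.2 = j (g.1.1 * g'.1.1)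
          rw [hj_mul _ _ hg.1 hg'.1, ← hg.2, ← hg'.2]
      one_mem' := ⟨htP1, hj1.symm⟩
      inv_mem' := by
        intro g hg
        refine ⟨?_, ?_⟩
        · show tP g.1.1⁻¹ = 0
          rw [htPinv, hg.1, neg_zero]
        · show g.1.2⁻¹ = j g.1.1⁻¹
          rw [hjinv _ hg.1, ← hg.2] }
  let W : Subgroup E :=
    { carrier := {g | tP g.1.1 = 0}
      mul_mem' := by
        intro g g' hg hg'
        show tP (g.1.1 * g'.1.1) = 0
        rw [htP, hg, hg', add_zero]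
      one_mem' := htP1
      inv_mem' := by
        intro g hg
        show tP g.1.1⁻¹ = 0
        rw [htPinv, hg, neg_zero] }
  have hNW : N ≤ W := fun g hg => hg.1
  haveI hNn : N.Normal := ⟨by
    intro n hn g
    have h1 : g * n * g⁻¹ = n := by
      apply Subtype.ext
      apply Prod.ext
      · show g.1.1 * n.1.1 * g.1.1⁻¹ = n.1.1
        rw [← hcentP n.1.1 hn.1 g.1.1, mul_assoc, mul_inv_cancel, mul_one]
      · show g.1.2 * n.1.2 * g.1.2⁻¹ = n.1.2
        have h2 : tA n.1.2 = 0 := by rw [hn.2]; exact hj_ker _ hn.1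
        rw [← hcentA n.1.2 h2 g.1.2, mul_assoc, mul_inv_cancel, mul_one]
    rw [h1]
    exact hn⟩
  have hsqE : ∀ g : E, g * g ∈ N := by
    intro g
    have h1 := hsq g.1.1 g.1.2 (hEmem g)
    exact ⟨h1.1, h1.2.symm⟩
  obtain ⟨C, hC1, hC2, hC3⟩ := Sz2C.compl N W hNW hsqE
  let f₁ : C →* P := (MonoidHom.fst P A).comp (E.subtype.comp C.subtype)
  let f₂ : C →* A := (MonoidHom.snd P A).comp (E.subtype.comp C.subtype)
  have hf₁ : ∀ c : C, f₁ c = c.1.1.1 := fun _ => rfl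
  have hf₂ : ∀ c : C, f₂ c = c.1.1.2 := fun _ => rfl
  have hmemN : ∀ c : C, tP c.1.1.1 = 0 → c.1.1.2 = j c.1.1.1 := by
    intro c hc
    have h1 : c.1 ∈ C ⊓ W := Subgroup.mem_inf.mpr ⟨c.2, hc⟩
    rw [hC2] at h1
    exact h1.2
  have hinj₁ : Function.Injective f₁ := by
    rw [injective_iff_map_eq_one]
    intro c hc
    rw [hf₁] at hc
    have h1 : tP c.1.1.1 = 0 := by rw [hc, htP1]
    have h2 := hmemN c h1
    rw [hc, hj1] at h2
    exact Subtype.ext (Subtype.ext (Prod.ext hc h2))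
  have hinj₂ : Function.Injective f₂ := by
    rw [injective_iff_map_eq_one]
    intro c hc
    rw [hf₂] at hc
    have h1 : tP c.1.1.1 = 0 := by rw [hEmem c.1, hc, htA1]
    have h2 := hmemN c h1
    rw [hc] at h2
    have h3 := hj_inj _ h1 h2.symm
    exact Subtype.ext (Subtype.ext (Prod.ext h3 hc))
  have hsurj₁ : Function.Surjective f₁ := by
    intro p
    obtain ⟨a, ha⟩ := hsurjA p
    let e : E := ⟨(p, a), ha.symm⟩
    obtain ⟨c, hc, w, hw, hcw⟩ := hC3 e
    have hw0 : tP w.1.1 = 0 := hw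
    let n : E := ⟨(w.1.1, j w.1.1), by
      show tP w.1.1 = tA (j w.1.1)
      rw [hw0, hj_ker _ hw0]⟩
    have hn : n ∈ N := ⟨hw0, rfl⟩
    refine ⟨⟨c * n, C.mul_mem hc (hC1 hn)⟩, ?_⟩
    rw [hf₁]
    show c.1.1 * w.1.1 = p
    have h1 : e.1.1 = (c * w).1.1 := by rw [hcw]
    exact h1.symm
  have hsurj₂ : Function.Surjective f₂ := by
    intro a
    obtain ⟨p, hp⟩ := hsurjP a
    let e : E := ⟨(p, a), hp⟩
    obtain ⟨c, hc, w, hw, hcw⟩ := hC3 e
    have hw0 : tP w.1.1 = 0 := hw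
    have hw1 : tA w.1.2 = 0 := by rw [← hEmem w, hw0]
    obtain ⟨z', hz', hjz'⟩ := hj_surj _ hw1
    let n : E := ⟨(z', w.1.2), by
      show tP z' = tA w.1.2
      rw [hz', hw1]⟩
    have hn : n ∈ N := ⟨hz', hjz'.symm⟩
    refine ⟨⟨c * n, C.mul_mem hc (hC1 hn)⟩, ?_⟩
    rw [hf₂]
    show c.1.2 * w.1.2 = a
    have h1 : e.1.2 = (c * w).1.2 := by rw [hcw]
    exact h1.symm
  exact ⟨(MulEquiv.ofBijective f₁ ⟨hinj₁, hsurj₁⟩).symm.trans
    (MulEquiv.ofBijective f₂ ⟨hinj₂, hsurj₂⟩)⟩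

end Fiber

section Mat

variable {F : Type} [Field F] [CharP F 2]

/-- the matrix with rows `(1,0,0)`, `(x,1,0)`, `(y, φ x, 1)` -/
def mat (φ : F →+* F) (x y : F) : Matrix (Fin 3) (Fin 3) F := !![1, 0, 0; x, 1, 0; y, φ x, 1]

theorem mat_mul (φ : F →+* F) (x y x' y' : F) :
    mat φ x y * mat φ x' y' = mat φ (x + x') (y + y' + φ x * x') := by
  ext i j
  fin_cases i <;> fin_cases j <;>
    simp [mat, Matrix.mul_apply, Fin.sum_univ_three, map_add] <;> ring

theorem mat_one (φ : F →+* F) : mat φ 0 0 = 1 := by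
  ext i j
  fin_cases i <;> fin_cases j <;> simp [mat]

theorem mat_10 (φ : F →+* F) (x y : F) : mat φ x y 1 0 = x := by simp [mat]

theorem mat_20 (φ : F →+* F) (x y : F) : mat φ x y 2 0 = y := by simp [mat]

theorem mat_mul_inv (φ : F →+* F) (x y : F) : mat φ x y * mat φ x (y + φ x * x) = 1 := by
  have h2 : (2 : F) = 0 := CharTwo.two_eq_zero
  have h1 : x + x = 0 := CharTwo.add_self_eq_zero x
  have h3 : y + (y + φ x * x) + φ x * x = 0 := by linear_combination (y + φ x * x) * h2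
  rw [mat_mul, h1, h3, mat_one]

theorem mat_inv_mul (φ : F →+* F) (x y : F) : mat φ x (y + φ x * x) * mat φ x y = 1 := by
  have h2 : (2 : F) = 0 := CharTwo.two_eq_zero
  have h1 : x + x = 0 := CharTwo.add_self_eq_zero x
  have h3 : y + φ x * x + y + φ x * x = 0 := by linear_combination (y + φ x * x) * h2
  rw [mat_mul, h1, h3, mat_one]

/-- the matrix as an element of the general linear group -/
def mA (φ : F →+* F) (x y : F) : GL (Fin 3) F :=
  ⟨mat φ x y, mat φ x (y + φ x * x), mat_mul_inv φ x y, mat_inv_mul φ x y⟩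

theorem mA_val (φ : F →+* F) (x y : F) :
    ((mA φ x y : GL (Fin 3) F) : Matrix (Fin 3) (Fin 3) F) = mat φ x y := rfl

theorem mA_mul (φ : F →+* F) (x y x' y' : F) :
    mA φ x y * mA φ x' y' = mA φ (x + x') (y + y' + φ x * x') :=
  Units.ext (mat_mul φ x y x' y')

theorem mA_one (φ : F →+* F) : mA φ 0 0 = 1 := Units.ext (mat_one φ)

theorem mA_inv (φ : F →+* F) (x y : F) : (mA φ x y)⁻¹ = mA φ x (y + φ x * x) :=
  inv_eq_of_mul_eq_one_right (Units.ext (mat_mul_inv φ x y))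

theorem mA_inj (φ : F →+* F) {x y x' y' : F} (h : mA φ x y = mA φ x' y') : x = x' ∧ y = y' := by
  have h1 : mat φ x y = mat φ x' y' := congrArg Units.val h
  constructor
  · have h2 := congrFun (congrFun h1 1) 0
    rw [mat_10, mat_10] at h2
    exact h2
  · have h2 := congrFun (congrFun h1 2) 0
    rw [mat_20, mat_20] at h2
    exact h2

/-- the explicit subgroup -/
def SA (φ : F →+* F) : Subgroup (GL (Fin 3) F) where
  carrier := {g | ∃ x y, g = mA φ x y}
  mul_mem' := by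
    rintro _ _ ⟨x, y, rfl⟩ ⟨x', y', rfl⟩
    exact ⟨_, _, mA_mul φ x y x' y'⟩
  one_mem' := ⟨0, 0, (mA_one φ).symm⟩
  inv_mem' := by
    rintro _ ⟨x, y, rfl⟩
    exact ⟨_, _, mA_inv φ x y⟩

theorem suzukiTypeA_eq (φ : F →+* F) : Cfsg.suzukiTypeA F φ = SA φ := by
  unfold Cfsg.suzukiTypeA
  apply Subgroup.closure_eq_of_le
  · rintro g ⟨x, y, hg⟩
    exact ⟨x, y, Units.ext hg⟩
  · rintro _ ⟨x, y, rfl⟩
    exact Subgroup.subset_closure ⟨x, y, rfl⟩

/-- elements of `SA` -/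
def mk' (φ : F →+* F) (x y : F) : SA φ := ⟨mA φ x y, x, y, rfl⟩

/-- the `x`-coordinate -/
def xc {φ : F →+* F} (a : SA φ) : F := (a.1 : Matrix (Fin 3) (Fin 3) F) 1 0

theorem exists_mk' {φ : F →+* F} (a : SA φ) : ∃ x y, a = mk' φ x y := by
  obtain ⟨x, y, h⟩ := a.2
  exact ⟨x, y, Subtype.ext h⟩

theorem xc_mk' (φ : F →+* F) (x y : F) : xc (mk' φ x y) = x := mat_10 φ x y

theorem mk'_mul (φ : F →+* F) (x y x' y' : F) :
    mk' φ x y * mk' φ x' y' = mk' φ (x + x') (y + y' + φ x * x') :=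
  Subtype.ext (mA_mul φ x y x' y')

theorem mk'_one (φ : F →+* F) : mk' φ 0 0 = 1 := Subtype.ext (mA_one φ)

theorem mk'_inj (φ : F →+* F) {x y x' y' : F} (h : mk' φ x y = mk' φ x' y') :
    x = x' ∧ y = y' := mA_inj φ (congrArg Subtype.val h)

instance SA_finite [Finite F] (φ : F →+* F) : Finite (SA φ) :=
  Finite.of_surjective (fun p : F × F => mk' φ p.1 p.2) (fun a => by
    obtain ⟨x, y, rfl⟩ := exists_mk' a
    exact ⟨(x, y), rfl⟩)

/-- Recognition of the group of type A. -/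
theorem iso_SA [Finite F] (φ : F →+* F) {P : Type u} [Group P] [Finite P]
    (tP : P → F) (htP : ∀ p p', tP (p * p') = tP p + tP p') (hsurj : ∀ u, ∃ p, tP p = u)
    (ιP : P → F)
    (hker_mul : ∀ z z', tP z = 0 → tP z' = 0 → ιP (z * z') = ιP z + ιP z')
    (hker_inj : ∀ z, tP z = 0 → ιP z = 0 → z = 1)
    (hker_surj : ∀ y, ∃ z, tP z = 0 ∧ ιP z = y)
    (hcent : ∀ z, tP z = 0 → ∀ p, z * p = p * z)
    (hsq : ∀ p, ιP (p * p) = tP p * φ (tP p)) :
    Nonempty (P ≃* SA φ) := by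
  apply iso_of_fiber tP (xc (φ := φ)) htP ?_ (fun a => hsurj _)
    (fun p => ⟨mk' φ (tP p) 0, xc_mk' φ _ _⟩) (fun z => mk' φ 0 (ιP z))
  · intro z z' hz hz'
    rw [mk'_mul, hker_mul _ _ hz hz', map_zero, zero_mul, add_zero, add_zero]
  · intro z _
    exact xc_mk' φ _ _
  · intro z hz h1
    rw [← mk'_one φ] at h1
    exact hker_inj z hz (mk'_inj φ h1).2
  · intro a ha
    obtain ⟨x, y, rfl⟩ := exists_mk' a
    rw [xc_mk'] at ha
    obtain ⟨z, hz, hιz⟩ := hker_surj y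
    exact ⟨z, hz, by rw [hιz, ha]⟩
  · exact hcent
  · intro a ha a'
    obtain ⟨x, y, rfl⟩ := exists_mk' a
    obtain ⟨x', y', rfl⟩ := exists_mk' a'
    rw [xc_mk'] at ha
    subst ha
    have h1 : (0 : F) + x' = x' + 0 := by ring
    have h2 : y + y' + φ 0 * x' = y' + y + φ x' * 0 := by rw [map_zero]; ring
    rw [mk'_mul, mk'_mul, h1, h2]
  · intro p a hpa
    obtain ⟨x, y, rfl⟩ := exists_mk' a
    rw [xc_mk'] at hpa
    subst hpa
    have h1 : tP p + tP p = 0 := CharTwo.add_self_eq_zero _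
    refine ⟨by rw [htP, h1], ?_⟩
    have h3 : y + y + φ (tP p) * tP p = tP p * φ (tP p) := by
      rw [CharTwo.add_self_eq_zero, zero_add, mul_comm]
    rw [mk'_mul, hsq, h1, h3]
  · intro a a'
    obtain ⟨x, y, rfl⟩ := exists_mk' a
    obtain ⟨x', y', rfl⟩ := exists_mk' a'
    rw [mk'_mul, xc_mk', xc_mk', xc_mk']

end Mat

end Cfsg.Agent.Lib.Lead.Sz2M
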