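import Mathlib
import Cfsg.Agent.Lib.Lead.Sz2D2
import Cfsg.Agent.Lib.Lead.Sz2M

set_option autoImplicit false

/-!
# Suzuki 2-groups of order `|Z|²` are of type A (Higman)
-/

namespace Cfsg.Agent.Lib.Lead.Sz2E

open Cfsg.Agent.Lib.Lead Cfsg.Agent.Lib.Lead.Sz2D

universe u

variable {P : Type u} [Group P]

theorem cm_central_right {a : P} (ha : a ∈ Subgroup.center P) (y : P) : cm y a = 1 := by
  rw [cm_inv a y, cm_central_left ha, inv_one]

set_option maxHeartbeats 1600000 in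
theorem typeA (hP : Cfsg.IsSuzukiTwoGroup P)
    (hcard : Nat.card P = Nat.card (Subgroup.center P) ^ 2) :
    ∃ (F : Type) (_ : Field F) (_ : Fintype F) (φ : F ≃+* F),
      Fintype.card F = Nat.card (Subgroup.center P) ∧
      φ ≠ RingEquiv.refl F ∧ Odd (orderOf φ) ∧
      Nonempty (P ≃* Cfsg.suzukiTypeA F (φ : F →+* F)) := by
  classical
  obtain ⟨K, h⟩ := suzuki_SD hP
  haveI := h.fin
  have hexp : ∀ z ∈ Subgroup.center P, z * z = 1 := (involutions_central hP).2
  obtain ⟨xn, yn, hnab⟩ := hP.2.2.1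
  have hOmc : Om P = Subgroup.center P := by
    ext x
    exact ⟨fun hx => hx.1, fun hx => ⟨hx, hexp x hx⟩⟩
  have hOm : ∀ x : P, x ∈ Om P ↔ x * x = 1 := fun x => h.mem_Om_iff
  have hOmcen : ∀ x ∈ Om P, ∀ p : P, x * p = p * x := fun x hx p =>
    (Subgroup.mem_center_iff.mp hx.1 p).symm
  have hqc : Nat.card (Subgroup.center P) = Nat.card (Om P) := by rw [hOmc]
  have hqpos : 0 < Nat.card (Om P) := Nat.card_pos
  have hVcard : Nat.card (P ⧸ Om P) = Nat.card (Om P) := by
    have h1 := Subgroup.card_eq_card_quotient_mul_card_subgroup (Om P)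
    rw [hcard, hqc, pow_two] at h1
    exact (Nat.eq_of_mul_eq_mul_right hqpos h1).symm
  -- semiregularity on the quotient
  have hVsemi : ∀ k ∈ K, ∀ v : P ⧸ Om P, v ≠ 1 → qAut P k v = v → k = 1 := by
    intro k hk v hv hfix
    obtain ⟨x, rfl⟩ := QuotientGroup.mk_surjective v
    rw [qAut_mk] at hfix
    have hw : (k x)⁻¹ * x ∈ Om P := QuotientGroup.eq.mp hfix
    have hxO : x ∉ Om P := fun hx => hv ((QuotientGroup.eq_one_iff x).mpr hx)
    have hxx : x * x ≠ 1 := fun h1 => hxO ((hOm x).mpr h1)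
    have h2 : k (x * x) = x * x := by
      rw [map_mul]
      obtain ⟨w, hwdef⟩ : ∃ w, w = (k x)⁻¹ * x := ⟨_, rfl⟩
      rw [← hwdef] at hw
      have hx : x = k x * w := by rw [hwdef]; group
      have hwc : w * k x = k x * w := hOmcen w hw (k x)
      have hww : w * w = 1 := hw.2
      calc k x * k x = k x * k x * (w * w) := by rw [hww, mul_one]
        _ = k x * (k x * w) * w := by group
        _ = k x * (w * k x) * w := by rw [hwc]
        _ = (k x * w) * (k x * w) := by group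
        _ = x * x := by rw [← hx]
    exact h.semi_gen hk hxx h2
  have hxnO : xn ∉ Om P := fun hx => hnab (hOmcen xn hx yn)
  haveI : Nontrivial (P ⧸ Om P) :=
    ⟨⟨(xn : P ⧸ Om P), 1, fun h1 => hxnO ((QuotientGroup.eq_one_iff xn).mp h1)⟩⟩
  obtain ⟨v0, hv0c, hv01, hv02⟩ :=
    exists_central_involution (P ⧸ Om P) (h.pg.to_quotient _)
  obtain ⟨x0, _, _, hx01, hx02, _⟩ := h.two
  have hx0O : x0 ∈ Om P := (hOm x0).mpr hx02
  have hKinj : ∀ z : P, z ≠ 1 → z * z = 1 → ∀ k k' : K, k.1 z = k'.1 z → k = k' := by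
    intro z hz1 hz2 k k' hval
    have h1 : (k'.1⁻¹ * k.1) z = z := by
      rw [MulAut.mul_apply, hval, MulAut.inv_apply_self]
    have h2 := h.semi _ (K.mul_mem (K.inv_mem k'.2) k.2) z hz1 hz2 h1
    exact Subtype.ext (inv_mul_eq_one.mp h2).symm
  have hVinj : ∀ k k' : K, qAut P k.1 v0 = qAut P k'.1 v0 → k = k' := by
    intro k k' hval
    have h1 : qAut P (k'.1⁻¹ * k.1) v0 = v0 := by
      rw [map_mul, MulAut.mul_apply, hval, map_inv, MulAut.inv_apply_self]
    have h2 := hVsemi _ (K.mul_mem (K.inv_mem k'.2) k.2) v0 hv01 h1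
    exact Subtype.ext (inv_mul_eq_one.mp h2).symm
  have hVtrans : ∀ v : P ⧸ Om P, v ≠ 1 → ∃ k : K, qAut P k.1 v0 = v := by
    apply Sz2C.surj_of_inj_card (Kt := K) (Z := Om P) (V := P ⧸ Om P)
      (fun k => (⟨k.1 x0, map_Om k.1 hx0O⟩ : Om P)) 1 ?_ ?_ ?_
      (fun k => qAut P k.1 v0) 1 ?_ ?_ hVcard
    · intro k k' hkk
      exact hKinj x0 hx01 hx02 k k' (congrArg Subtype.val hkk)
    · intro k hk
      have h1 : k.1 x0 = 1 := congrArg Subtype.val hk
      exact hx01 (EmbeddingLike.map_eq_one_iff.mp h1)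
    · intro z hz
      have hz1 : z.1 ≠ 1 := fun h1 => hz (Subtype.ext h1)
      obtain ⟨k, hk, hkz⟩ := h.trans x0 z.1 hx01 hx02 hz1 z.2.2
      exact ⟨⟨k, hk⟩, Subtype.ext hkz⟩
    · intro k k' hkk
      exact hVinj k k' hkk
    · intro k hk
      exact hv01 (EmbeddingLike.map_eq_one_iff.mp hk)
  have hVsq : ∀ v : P ⧸ Om P, v * v = 1 := by
    intro v
    by_cases hv : v = 1
    · rw [hv, mul_one]
    · obtain ⟨k, rfl⟩ := hVtrans v hv
      rw [← map_mul, hv02, map_one]
  have hVcomm : ∀ v w : P ⧸ Om P, v * w = w * v := by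
    intro v w
    by_cases hw : w = 1
    · rw [hw, mul_one, one_mul]
    · obtain ⟨k, rfl⟩ := hVtrans w hw
      exact Subgroup.mem_center_iff.mp (map_center (qAut P k.1) hv0c) v
  have hsqO : ∀ x : P, x * x ∈ Om P := by
    intro x
    apply (QuotientGroup.eq_one_iff _).mp
    rw [QuotientGroup.mk_mul]
    exact hVsq _
  have hcl : ∀ x y : P, cm x y ∈ Om P := by
    intro x y
    have h1 : ((y * x : P) : P ⧸ Om P) = ((x * y : P) : P ⧸ Om P) :=
      hVcomm (y : P ⧸ Om P) (x : P ⧸ Om P)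
    exact QuotientGroup.eq.mp h1
  have hclc : ∀ x y : P, cm x y ∈ Subgroup.center P := fun x y => (hcl x y).1
  -- the maps
  let actZ : K → Om P → Om P := fun k z => ⟨k.1 z.1, map_Om k.1 z.2⟩
  let actV : K → (P ⧸ Om P) → (P ⧸ Om P) := fun k v => qAut P k.1 v
  let s : (P ⧸ Om P) → Om P := fun v => ⟨Quotient.out v * Quotient.out v, hsqO _⟩
  have hs_mk : ∀ x : P, (s (x : P ⧸ Om P)).1 = x * x := by
    intro x
    obtain ⟨w, hw⟩ := QuotientGroup.mk_out_eq_mul (Om P) x
    show Quotient.out (x : P ⧸ Om P) * Quotient.out (x : P ⧸ Om P) = x * x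
    rw [hw]
    have hwc : (w : P) * x = x * w := hOmcen w.1 w.2 x
    calc x * ↑w * (x * ↑w) = x * (↑w * x) * ↑w := by group
      _ = x * (x * ↑w) * ↑w := by rw [hwc]
      _ = x * x * (↑w * ↑w) := by group
      _ = x * x := by rw [w.2.2, mul_one]
  let c : (P ⧸ Om P) → (P ⧸ Om P) → Om P :=
    fun v w => ⟨cm (Quotient.out w) (Quotient.out v), hcl _ _⟩
  have hcm_l : ∀ (x y : P) (w : Om P), cm (x * w) y = cm x y := by
    intro x y w
    rw [cm_mul_left hclc, cm_central_left w.2.1, mul_one]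
  have hcm_r : ∀ (x y : P) (w : Om P), cm x (y * w) = cm x y := by
    intro x y w
    rw [cm_mul_right hclc, cm_central_right w.2.1, mul_one]
  have hc_mk : ∀ x y : P, (c (x : P ⧸ Om P) (y : P ⧸ Om P)).1 = cm y x := by
    intro x y
    obtain ⟨w, hw⟩ := QuotientGroup.mk_out_eq_mul (Om P) x
    obtain ⟨w', hw'⟩ := QuotientGroup.mk_out_eq_mul (Om P) y
    show cm (Quotient.out (y : P ⧸ Om P)) (Quotient.out (x : P ⧸ Om P)) = cm y x
    rw [hw, hw', hcm_l, hcm_r]
  have hseq : ∀ (k : K) (v : P ⧸ Om P), s (actV k v) = actZ k (s v) := by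
    intro k v
    obtain ⟨x, rfl⟩ := QuotientGroup.mk_surjective v
    apply Subtype.ext
    have h1 : actV k (x : P ⧸ Om P) = ((k.1 x : P) : P ⧸ Om P) := qAut_mk k.1 x
    show (s (actV k (x : P ⧸ Om P))).1 = k.1 (s (x : P ⧸ Om P)).1
    rw [h1, hs_mk, hs_mk, map_mul]
  have hsmul : ∀ v w : P ⧸ Om P, s (v * w) = s v * s w * c v w := by
    intro v w
    obtain ⟨x, rfl⟩ := QuotientGroup.mk_surjective v
    obtain ⟨y, rfl⟩ := QuotientGroup.mk_surjective w
    apply Subtype.ext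
    rw [← QuotientGroup.mk_mul, Subgroup.coe_mul, Subgroup.coe_mul, hs_mk, hs_mk, hs_mk, hc_mk]
    have e1 : y * x = x * y * cm y x := mul_eq_cm y x
    have hcy : cm y x * y = y * cm y x := (Subgroup.mem_center_iff.mp (hclc y x) y).symm
    calc x * y * (x * y) = x * (y * x) * y := by group
      _ = x * (x * y * cm y x) * y := by rw [← e1]
      _ = x * x * y * (cm y x * y) := by group
      _ = x * x * y * (y * cm y x) := by rw [hcy]
      _ = x * x * (y * y) * cm y x := by group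
  have hc1 : ∀ x y z : P ⧸ Om P, c (x * y) z = c x z * c y z := by
    intro x y z
    obtain ⟨x, rfl⟩ := QuotientGroup.mk_surjective x
    obtain ⟨y, rfl⟩ := QuotientGroup.mk_surjective y
    obtain ⟨z, rfl⟩ := QuotientGroup.mk_surjective z
    apply Subtype.ext
    rw [← QuotientGroup.mk_mul, Subgroup.coe_mul, hc_mk, hc_mk, hc_mk, cm_mul_right hclc]
  have hc2 : ∀ x y z : P ⧸ Om P, c x (y * z) = c x y * c x z := by
    intro x y z
    obtain ⟨x, rfl⟩ := QuotientGroup.mk_surjective x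
    obtain ⟨y, rfl⟩ := QuotientGroup.mk_surjective y
    obtain ⟨z, rfl⟩ := QuotientGroup.mk_surjective z
    apply Subtype.ext
    rw [← QuotientGroup.mk_mul, Subgroup.coe_mul, hc_mk, hc_mk, hc_mk, cm_mul_left hclc]
  have hcne : ∃ v w : P ⧸ Om P, c v w ≠ 1 := by
    refine ⟨(yn : P ⧸ Om P), (xn : P ⧸ Om P), fun h1 => hnab ?_⟩
    have h2 : cm xn yn = 1 := (hc_mk yn xn).symm.trans (congrArg Subtype.val h1)
    rw [mul_eq_cm xn yn, h2, mul_one]
  -- the base points
  obtain ⟨y0, hy0⟩ := QuotientGroup.mk_surjective v0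
  have hy0O : y0 ∉ Om P := fun hy => hv01 (by rw [← hy0]; exact (QuotientGroup.eq_one_iff y0).mpr hy)
  have hz0val : (s v0).1 = y0 * y0 := by rw [← hy0]; exact hs_mk y0
  have hz01 : (s v0).1 ≠ 1 := by
    rw [hz0val]
    exact fun h1 => hy0O ((hOm y0).mpr h1)
  have hz02 : (s v0).1 * (s v0).1 = 1 := (s v0).2.2
  -- instances
  let instZ : CommGroup (Om P) :=
    { (inferInstance : Group (Om P)) with
      mul_comm := fun a b => Subtype.ext (hOmcen a.1 a.2 b.1) }
  let instK : CommGroup K :=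
    { (inferInstance : Group K) with
      mul_comm := fun a b => Subtype.ext (h.comm a.1 a.2 b.1 b.2) }
  let instV : CommGroup (P ⧸ Om P) :=
    { (inferInstance : Group (P ⧸ Om P)) with mul_comm := hVcomm }
  have hRZ : @Sz2C.RAct K instK (Om P) instZ actZ (s v0) :=
    { act_one := fun z => Subtype.ext rfl
      act_mul := fun k k' z => Subtype.ext rfl
      act_hom := fun k x y => Subtype.ext (map_mul k.1 x.1 y.1)
      ne := fun he => hz01 (congrArg Subtype.val he)
      ex := by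
        intro z hz
        have hz1 : z.1 ≠ 1 := fun h1 => hz (Subtype.ext h1)
        obtain ⟨k, hk, hkz⟩ := h.trans (s v0).1 z.1 hz01 hz02 hz1 z.2.2
        exact ⟨⟨k, hk⟩, Subtype.ext hkz⟩
      uniq := by
        intro k k' hkk
        exact hKinj (s v0).1 hz01 hz02 k k' (congrArg Subtype.val hkk)
      two := fun z => Subtype.ext z.2.2 }
  have hRV : @Sz2C.RAct K instK (P ⧸ Om P) instV actV v0 :=
    { act_one := fun v =>
        (show qAut P (1 : MulAut P) v = v from by rw [map_one]; rfl)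
      act_mul := fun k k' v =>
        (show qAut P (k.1 * k'.1) v = qAut P k.1 (qAut P k'.1 v) from by rw [map_mul]; rfl)
      act_hom := fun k x y => map_mul (qAut P k.1) x y
      ne := hv01
      ex := hVtrans
      uniq := hVinj
      two := hVsq }
  obtain ⟨n, θ, t, ιZ, hn, hθ, hodd, htbij, htadd, hιbij, hιadd, hform⟩ :=
    @Sz2C.quad K instK (Om P) instZ _ (P ⧸ Om P) instV _ actZ (s v0) hRZ actV v0 hRV s hseq rfl
      c hsmul hc1 hc2 hcne hVcard
  have htadd' : ∀ v w : P ⧸ Om P, t (v * w) = t v + t w := htadd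
  have hιadd' : ∀ x y : Om P, ιZ (x * y) = ιZ x + ιZ y := hιadd
  have ht1 : t 1 = 0 := by
    have h1 := htadd' 1 1
    rw [mul_one] at h1
    have h3 : t 1 + t 1 = t 1 + 0 := by rw [add_zero]; exact h1.symm
    exact add_left_cancel h3
  have hιZ1 : ιZ 1 = 0 := by
    have h1 := hιadd' 1 1
    rw [mul_one] at h1
    have h3 : ιZ 1 + ιZ 1 = ιZ 1 + 0 := by rw [add_zero]; exact h1.symm
    exact add_left_cancel h3
  have ht0 : ∀ p : P, t (p : P ⧸ Om P) = 0 ↔ p ∈ Om P := by
    intro p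
    constructor
    · intro h1
      rw [← ht1] at h1
      exact (QuotientGroup.eq_one_iff p).mp (htbij.1 h1)
    · intro hp
      rw [(QuotientGroup.eq_one_iff p).mpr hp, ht1]
  refine ⟨GaloisField 2 n, inferInstance, Fintype.ofFinite _, θ, ?_, hθ, hodd, ?_⟩
  · have h1 : @Fintype.card (GaloisField 2 n) (Fintype.ofFinite _) = Nat.card (GaloisField 2 n) :=
      (@Nat.card_eq_fintype_card (GaloisField 2 n) (Fintype.ofFinite _)).symm
    rw [h1, hqc, Nat.card_eq_of_bijective ιZ hιbij]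
  · rw [Sz2M.suzukiTypeA_eq]
    let ιP : P → GaloisField 2 n := fun p => if hp : p ∈ Om P then ιZ ⟨p, hp⟩ else 0
    have hιP : ∀ (p : P) (hp : p ∈ Om P), ιP p = ιZ ⟨p, hp⟩ := fun p hp => dif_pos hp
    apply Sz2M.iso_SA (θ : GaloisField 2 n →+* GaloisField 2 n)
      (fun p : P => t (p : P ⧸ Om P)) ?_ ?_ ιP ?_ ?_ ?_ ?_ ?_
    · intro p p'
      show t ((p * p' : P) : P ⧸ Om P) = t (p : P ⧸ Om P) + t (p' : P ⧸ Om P)
      rw [QuotientGroup.mk_mul]
      exact htadd' _ _
    · intro u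
      obtain ⟨v, hv⟩ := htbij.2 u
      obtain ⟨p, rfl⟩ := QuotientGroup.mk_surjective v
      exact ⟨p, hv⟩
    · intro z z' hz hz'
      have hzO := (ht0 z).mp hz
      have hz'O := (ht0 z').mp hz'
      rw [hιP _ hzO, hιP _ hz'O, hιP _ ((Om P).mul_mem hzO hz'O)]
      exact hιadd' ⟨z, hzO⟩ ⟨z', hz'O⟩
    · intro z hz h1
      have hzO := (ht0 z).mp hz
      rw [hιP _ hzO, ← hιZ1] at h1
      exact congrArg Subtype.val (hιbij.1 h1)
    · intro y
      obtain ⟨z, hz⟩ := hιbij.2 y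
      refine ⟨z.1, (ht0 z.1).mpr z.2, ?_⟩
      rw [hιP z.1 z.2]
      exact hz
    · intro z hz p
      exact hOmcen z ((ht0 z).mp hz) p
    · intro p
      rw [hιP _ (hsqO p)]
      have h1 : (⟨p * p, hsqO p⟩ : Om P) = s (p : P ⧸ Om P) := Subtype.ext (hs_mk p).symm
      rw [h1, hform]
      rfl

end Cfsg.Agent.Lib.Lead.Sz2E
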