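import Mathlib
import Cfsg.Agent.S0144

/-! A solvable group with the same set of element orders as `PSL(3,3)`: the Frobenius group
`13^4 : 2O` (binary octahedral group acting on `𝔽₁₃⁴ = 𝔽₁₆₉²`). -/

set_option autoImplicit false
set_option maxRecDepth 100000
set_option maxHeartbeats 4000000

namespace Cfsg.Agent.Lib.Lead.Spec33

open Polynomial

/-! ## Generalities -/

theorem mem_spec_of_pow {G : Type*} [Monoid G] (x : G) (n : ℕ) (hn : n ∈ [2, 3, 4, 6, 8, 13])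
    (h : x ^ n = 1) : orderOf x ∈ ({1, 2, 3, 4, 6, 8, 13} : Set ℕ) := by
  have hd : orderOf x ∣ n := orderOf_dvd_of_pow_eq_one h
  have hnpos : 0 < n := by
    simp only [List.mem_cons, List.not_mem_nil, or_false] at hn
    omega
  have hpos : 0 < orderOf x := Nat.pos_of_dvd_of_pos hd hnpos
  have hle : orderOf x ≤ n := Nat.le_of_dvd hnpos hd
  simp only [Set.mem_insert_iff, Set.mem_singleton_iff]
  simp only [List.mem_cons, List.not_mem_nil, or_false] at hn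
  obtain ⟨k, hk⟩ : ∃ k, k = orderOf x := ⟨_, rfl⟩
  rw [← hk] at hd hpos hle ⊢
  rcases hn with rfl | rfl | rfl | rfl | rfl | rfl <;> interval_cases k <;> omega

theorem range_eq_of {G : Type*} [Group G]
    (h1 : ∀ x : G, orderOf x ∈ ({1, 2, 3, 4, 6, 8, 13} : Set ℕ)) (a b c : G)
    (ha : orderOf a = 8) (hb : orderOf b = 6) (hc : orderOf c = 13) :
    Set.range (orderOf : G → ℕ) = ({1, 2, 3, 4, 6, 8, 13} : Set ℕ) := by
  ext n
  constructor
  · rintro ⟨x, rfl⟩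
    exact h1 x
  · intro hn
    simp only [Set.mem_insert_iff, Set.mem_singleton_iff] at hn
    rcases hn with rfl | rfl | rfl | rfl | rfl | rfl | rfl
    · exact ⟨1, orderOf_one⟩
    · refine ⟨a ^ 4, ?_⟩
      rw [orderOf_pow_of_dvd (by norm_num) (by rw [ha]; norm_num), ha]
    · refine ⟨b ^ 2, ?_⟩
      rw [orderOf_pow_of_dvd (by norm_num) (by rw [hb]; norm_num), hb]
    · refine ⟨a ^ 2, ?_⟩
      rw [orderOf_pow_of_dvd (by norm_num) (by rw [ha]; norm_num), ha]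
    · exact ⟨b, hb⟩
    · exact ⟨a, ha⟩
    · exact ⟨c, hc⟩

theorem two_three (n : ℕ) (hn : n ≠ 0) (h : ∀ p : ℕ, p.Prime → p ∣ n → p = 2 ∨ p = 3) :
    ∃ a b, n = 2 ^ a * 3 ^ b := by
  obtain ⟨a, m, hm, rfl⟩ := Nat.exists_eq_two_pow_mul_odd hn
  refine ⟨a, m.primeFactorsList.length, ?_⟩
  congr 1
  apply Nat.eq_prime_pow_of_unique_prime_dvd
  · rintro rfl
    simp at hm
  · intro d hd hdm
    rcases h d hd (Dvd.dvd.mul_left hdm _) with rfl | rfl
    · exfalso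
      exact (Nat.not_even_iff_odd.mpr hm) (even_iff_two_dvd.mpr hdm)
    · rfl

/-! ## Part A: the element orders of `PSL(3,3)` -/

section PSL

variable {F : Type*} [Field F] [Fintype F]

theorem three_eq_zero (hF : Fintype.card F = 3) : (3 : F) = 0 := by
  have := Nat.cast_card_eq_zero F
  rw [hF] at this
  exact_mod_cast this

theorem elt_cases (hF : Fintype.card F = 3) (x : F) : x = 0 ∨ x = 1 ∨ x = -1 := by
  let e := ZMod.ringEquivOfPrime F Nat.prime_three hF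
  obtain ⟨y, rfl⟩ := e.surjective x
  have hy : y = 0 ∨ y = 1 ∨ y = -1 := by revert y; decide
  rcases hy with rfl | rfl | rfl
  · left; exact map_zero e
  · right; left; exact map_one e
  · right; right; rw [map_neg, map_one]

theorem cayley3 {R : Type*} [CommRing R] (M : Matrix (Fin 3) (Fin 3) R) :
    M ^ 3 - M.trace • M ^ 2 + (M 0 0 * M 1 1 - M 0 1 * M 1 0 + M 0 0 * M 2 2 - M 0 2 * M 2 0 +
      M 1 1 * M 2 2 - M 1 2 * M 2 1) • M - M.det • (1 : Matrix (Fin 3) (Fin 3) R) = 0 := by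
  ext i j
  fin_cases i <;> fin_cases j <;>
    simp [pow_succ, Matrix.mul_apply, Fin.sum_univ_three, Matrix.det_fin_three,
      Matrix.trace_fin_three, Matrix.one_apply] <;> ring

theorem pow_eq_one_of_poly (h3 : (3 : F) = 0) (M : Matrix (Fin 3) (Fin 3) F) (P Q R : F[X])
    (m : ℕ) (hid : (X ^ m - 1 : F[X]) = P * Q + 3 * R) (hP : aeval M P = 0) : M ^ m = 1 := by
  have h3' : (3 : F[X]) = 0 := by
    calc (3 : F[X]) = C (3 : F) := (map_ofNat (C : F →+* F[X]) 3).symm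
      _ = 0 := by rw [h3, map_zero]
  have := congrArg (aeval M) hid
  rw [h3', zero_mul, add_zero, map_mul, hP, zero_mul, map_sub, map_pow, aeval_X, map_one] at this
  exact sub_eq_zero.mp this

theorem sl3_pow (hF : Fintype.card F = 3) (g : Matrix.SpecialLinearGroup (Fin 3) F) :
    g ^ 6 = 1 ∨ g ^ 8 = 1 ∨ g ^ 13 = 1 := by
  have h3 := three_eq_zero hF
  obtain ⟨M, hM⟩ : ∃ M, M = g.1 := ⟨_, rfl⟩
  have hdet : M.det = 1 := by rw [hM]; exact g.2
  have hch := cayley3 M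
  rw [hdet, one_smul] at hch
  obtain ⟨t, ht⟩ : ∃ t, t = M.trace := ⟨_, rfl⟩
  obtain ⟨s, hs⟩ : ∃ s, s = (M 0 0 * M 1 1 - M 0 1 * M 1 0 + M 0 0 * M 2 2 - M 0 2 * M 2 0 +
      M 1 1 * M 2 2 - M 1 2 * M 2 1) := ⟨_, rfl⟩
  rw [← ht, ← hs] at hch
  have hP : aeval M (X ^ 3 - C t * X ^ 2 + C s * X - 1 : F[X]) = 0 := by
    rw [← hch]
    simp [Algebra.smul_def]
  have key : ∀ m : ℕ, M ^ m = 1 → g ^ m = 1 := by
    intro m hm
    apply Subtype.ext
    rw [Matrix.SpecialLinearGroup.coe_pow, ← hM, hm]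
    rfl
  clear hch ht hs
  rcases elt_cases hF t with rfl | rfl | rfl <;> rcases elt_cases hF s with rfl | rfl | rfl
  · refine (Or.inl) (key 6 (pow_eq_one_of_poly h3 M _
      ((1) + (1) * X ^ 3 : F[X])
      (0 : F[X]) 6 ?_ hP))
    simp only [map_zero, map_one, map_neg]
    ring
  · refine (fun h => Or.inr (Or.inl h)) (key 8 (pow_eq_one_of_poly h3 M _
      ((-2) + (1) * X + (1) * X ^ 2 + (-1) * X ^ 3 + (1) * X ^ 5 : F[X])
      ((-1) + (1) * X : F[X]) 8 ?_ hP))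
    simp only [map_zero, map_one, map_neg]
    ring
  · refine (fun h => Or.inr (Or.inr h)) (key 13 (pow_eq_one_of_poly h3 M _
      ((7) + (5) * X + (4) * X ^ 2 + (3) * X ^ 3 + (2) * X ^ 4 + (2) * X ^ 5 + (1) * X ^ 6 + (1) * X ^ 7 + (1) * X ^ 8 + (1) * X ^ 10 : F[X])
      ((2) + (4) * X + (3) * X ^ 2 : F[X]) 13 ?_ hP))
    simp only [map_zero, map_one, map_neg]
    ring
  · refine (fun h => Or.inr (Or.inl h)) (key 8 (pow_eq_one_of_poly h3 M _
      ((4) + (3) * X + (2) * X ^ 2 + (1) * X ^ 3 + (1) * X ^ 4 + (1) * X ^ 5 : F[X])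
      ((1) + (1) * X + (2) * X ^ 2 : F[X]) 8 ?_ hP))
    simp only [map_zero, map_one, map_neg]
    ring
  · refine (fun h => Or.inr (Or.inl h)) (key 8 (pow_eq_one_of_poly h3 M _
      ((1) + (1) * X + (1) * X ^ 4 + (1) * X ^ 5 : F[X])
      (0 : F[X]) 8 ?_ hP))
    simp only [map_zero, map_one, map_neg]
    ring
  · refine (fun h => Or.inr (Or.inr h)) (key 13 (pow_eq_one_of_poly h3 M _
      ((274) + (149) * X + (81) * X ^ 2 + (44) * X ^ 3 + (24) * X ^ 4 + (13) * X ^ 5 + (7) * X ^ 6 + (4) * X ^ 7 + (2) * X ^ 8 + (1) * X ^ 9 + (1) * X ^ 10 : F[X])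
      ((91) + (141) * X + (168) * X ^ 2 : F[X]) 13 ?_ hP))
    simp only [map_zero, map_one, map_neg]
    ring
  · refine (fun h => Or.inr (Or.inr h)) (key 13 (pow_eq_one_of_poly h3 M _
      ((4) + (-3) * X + (1) * X ^ 2 + (1) * X ^ 3 + (-2) * X ^ 4 + (2) * X ^ 5 + (-1) * X ^ 6 + (1) * X ^ 8 + (-1) * X ^ 9 + (1) * X ^ 10 : F[X])
      ((1) + (-1) * X + (-1) * X ^ 2 : F[X]) 13 ?_ hP))
    simp only [map_zero, map_one, map_neg]
    ring
  · refine (fun h => Or.inr (Or.inr h)) (key 13 (pow_eq_one_of_poly h3 M _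
      ((-20) + (7) * X + (5) * X ^ 2 + (-8) * X ^ 3 + (4) * X ^ 4 + (1) * X ^ 5 + (-3) * X ^ 6 + (2) * X ^ 7 + (-1) * X ^ 9 + (1) * X ^ 10 : F[X])
      ((-7) + (9) * X + (6) * X ^ 2 : F[X]) 13 ?_ hP))
    simp only [map_zero, map_one, map_neg]
    ring
  · refine (Or.inl) (key 6 (pow_eq_one_of_poly h3 M _
      ((-2) + (2) * X + (-1) * X ^ 2 + (1) * X ^ 3 : F[X])
      ((-1) + (1) * X ^ 2 : F[X]) 6 ?_ hP))
    simp only [map_zero, map_one, map_neg]
    ring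

theorem psl_orderOf_mem (hF : Fintype.card F = 3)
    (x : Matrix.ProjectiveSpecialLinearGroup (Fin 3) F) :
    orderOf x ∈ ({1, 2, 3, 4, 6, 8, 13} : Set ℕ) := by
  obtain ⟨g, rfl⟩ := QuotientGroup.mk_surjective x
  have key : ∀ m : ℕ, g ^ m = 1 →
      (QuotientGroup.mk g : Matrix.ProjectiveSpecialLinearGroup (Fin 3) F) ^ m = 1 := by
    intro m hm
    rw [← QuotientGroup.mk_pow, hm]
    rfl
  rcases sl3_pow hF g with h | h | h
  · exact mem_spec_of_pow _ 6 (by simp) (key 6 h)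
  · exact mem_spec_of_pow _ 8 (by simp) (key 8 h)
  · exact mem_spec_of_pow _ 13 (by simp) (key 13 h)

theorem center_eq_bot (hF : Fintype.card F = 3) :
    Subgroup.center (Matrix.SpecialLinearGroup (Fin 3) F) = ⊥ := by
  rw [eq_bot_iff]
  intro g hg
  rw [Matrix.SpecialLinearGroup.mem_center_iff] at hg
  obtain ⟨r, hr, hg⟩ := hg
  rw [Subgroup.mem_bot]
  have hr1 : r = 1 := by
    simp only [Fintype.card_fin] at hr
    rcases elt_cases hF r with rfl | rfl | rfl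
    · simp at hr
    · rfl
    · exfalso
      have h3 := three_eq_zero hF
      have h1 : (-1 : F) = 1 := by
        rw [Odd.neg_one_pow (by decide : Odd 3)] at hr
        exact hr
      have h2 : (1 : F) = 0 := by linear_combination h3 + h1
      exact one_ne_zero h2
  apply Subtype.ext
  rw [← hg, hr1]
  simp

def c13 : Matrix.SpecialLinearGroup (Fin 3) (ZMod 3) := ⟨!![0, 0, 1; 1, 0, 1; 0, 1, 0], by decide⟩
def c8 : Matrix.SpecialLinearGroup (Fin 3) (ZMod 3) := ⟨!![0, 0, 1; 1, 0, 2; 0, 1, 0], by decide⟩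
def c6 : Matrix.SpecialLinearGroup (Fin 3) (ZMod 3) := ⟨!![0, 0, 1; 1, 0, 1; 0, 1, 2], by decide⟩

theorem orderOf_c13 : orderOf c13 = 13 := by
  haveI : Fact (Nat.Prime 13) := ⟨by norm_num⟩
  exact orderOf_eq_prime (by decide) (by decide)

theorem orderOf_c8 : orderOf c8 = 8 := by
  haveI : Fact (Nat.Prime 2) := ⟨Nat.prime_two⟩
  exact orderOf_eq_prime_pow (p := 2) (n := 2) (by decide) (by decide)

theorem orderOf_c6 : orderOf c6 = 6 := by
  apply orderOf_eq_of_pow_and_pow_div_prime (by norm_num) (by decide)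
  intro p hp hd
  have hle : p ≤ 6 := Nat.le_of_dvd (by norm_num) hd
  interval_cases p
  · exact absurd hp (by norm_num)
  · exact absurd hp (by norm_num)
  · decide
  · decide
  · exact absurd hp (by norm_num)
  · exact absurd hd (by norm_num)
  · exact absurd hp (by norm_num)

theorem range_psl (hF : Fintype.card F = 3) :
    Set.range (orderOf : Matrix.ProjectiveSpecialLinearGroup (Fin 3) F → ℕ) =
      ({1, 2, 3, 4, 6, 8, 13} : Set ℕ) := by
  let e := ZMod.ringEquivOfPrime F Nat.prime_three hF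
  let φ : Matrix.SpecialLinearGroup (Fin 3) (ZMod 3) →* Matrix.SpecialLinearGroup (Fin 3) F :=
    Matrix.SpecialLinearGroup.map (e : ZMod 3 →+* F)
  have hφ : Function.Injective φ := by
    intro a b hab
    apply Subtype.ext
    ext i j
    have := congrArg (fun g : Matrix.SpecialLinearGroup (Fin 3) F => g.1 i j) hab
    simp only [φ, Matrix.SpecialLinearGroup.map_apply_coe, RingHom.mapMatrix_apply,
      Matrix.map_apply] at this
    exact e.injective this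
  let q : Matrix.SpecialLinearGroup (Fin 3) F →* Matrix.ProjectiveSpecialLinearGroup (Fin 3) F :=
    QuotientGroup.mk' (Subgroup.center (Matrix.SpecialLinearGroup (Fin 3) F))
  have hq : Function.Injective q := by
    rw [← MonoidHom.ker_eq_bot_iff, QuotientGroup.ker_mk', center_eq_bot hF]
  have hψ : Function.Injective (q.comp φ) := hq.comp hφ
  refine range_eq_of (psl_orderOf_mem hF) ((q.comp φ) c8) ((q.comp φ) c6) ((q.comp φ) c13) ?_ ?_ ?_
  · rw [orderOf_injective _ hψ, orderOf_c8]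
  · rw [orderOf_injective _ hψ, orderOf_c6]
  · rw [orderOf_injective _ hψ, orderOf_c13]

end PSL

/-! ## Part B: the Frobenius group `13^4 : 2O` -/

def ent (a : List ℕ) (i j : ℕ) : ℕ := a.getD (4 * i + j) 0

def dot (a b : List ℕ) (i j : ℕ) : ℕ :=
  (ent a i 0 * ent b 0 j + ent a i 1 * ent b 1 j + ent a i 2 * ent b 2 j +
    ent a i 3 * ent b 3 j) % 13

def mulL (a b : List ℕ) : List ℕ :=
  [dot a b 0 0, dot a b 0 1, dot a b 0 2, dot a b 0 3, dot a b 1 0, dot a b 1 1, dot a b 1 2, dot a b 1 3, dot a b 2 0, dot a b 2 1, dot a b 2 2, dot a b 2 3, dot a b 3 0, dot a b 3 1, dot a b 3 2, dot a b 3 3]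

def addL (a b : List ℕ) : List ℕ :=
  [(ent a 0 0 + ent b 0 0) % 13, (ent a 0 1 + ent b 0 1) % 13, (ent a 0 2 + ent b 0 2) % 13, (ent a 0 3 + ent b 0 3) % 13, (ent a 1 0 + ent b 1 0) % 13, (ent a 1 1 + ent b 1 1) % 13, (ent a 1 2 + ent b 1 2) % 13, (ent a 1 3 + ent b 1 3) % 13, (ent a 2 0 + ent b 2 0) % 13, (ent a 2 1 + ent b 2 1) % 13, (ent a 2 2 + ent b 2 2) % 13, (ent a 2 3 + ent b 2 3) % 13, (ent a 3 0 + ent b 3 0) % 13, (ent a 3 1 + ent b 3 1) % 13, (ent a 3 2 + ent b 3 2) % 13, (ent a 3 3 + ent b 3 3) % 13]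

def idL : List ℕ := [1, 0, 0, 0, 0, 1, 0, 0, 0, 0, 1, 0, 0, 0, 0, 1]
def zeroL : List ℕ := [0, 0, 0, 0, 0, 0, 0, 0, 0, 0, 0, 0, 0, 0, 0, 0]

def powL (a : List ℕ) : ℕ → List ℕ
  | 0 => idL
  | n + 1 => mulL (powL a n) a

def geomL (a : List ℕ) : ℕ → List ℕ
  | 0 => zeroL
  | n + 1 => addL (geomL a n) (powL a n)

def wL : List ℕ := [0, 0, 6, 0, 0, 0, 0, 9, 3, 0, 0, 0, 0, 11, 0, 0]
def xL : List ℕ := [3, 3, 0, 0, 2, 11, 0, 0, 0, 0, 3, 3, 0, 0, 2, 11]
def wiL : List ℕ := [0, 0, 9, 0, 0, 0, 0, 6, 11, 0, 0, 0, 0, 3, 0, 0]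
def xiL : List ℕ := [11, 10, 0, 0, 11, 3, 0, 0, 0, 0, 11, 10, 0, 0, 11, 3]

def elemsL : List (List ℕ) :=
  [[1, 0, 0, 0, 0, 1, 0, 0, 0, 0, 1, 0, 0, 0, 0, 1],
  [0, 0, 6, 0, 0, 0, 0, 9, 3, 0, 0, 0, 0, 11, 0, 0],
  [3, 3, 0, 0, 2, 11, 0, 0, 0, 0, 3, 3, 0, 0, 2, 11],
  [5, 0, 0, 0, 0, 8, 0, 0, 0, 0, 5, 0, 0, 0, 0, 8],
  [0, 0, 5, 1, 0, 0, 12, 8, 9, 7, 0, 0, 6, 4, 0, 0],
  [0, 0, 5, 5, 0, 0, 5, 8, 9, 9, 0, 0, 9, 4, 0, 0],
  [2, 3, 0, 0, 2, 10, 0, 0, 0, 0, 2, 3, 0, 0, 2, 10],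
  [0, 0, 4, 0, 0, 0, 0, 7, 2, 0, 0, 0, 0, 10, 0, 0],
  [2, 11, 0, 0, 10, 10, 0, 0, 0, 0, 2, 11, 0, 0, 10, 10],
  [0, 0, 12, 1, 0, 0, 12, 12, 6, 7, 0, 0, 6, 6, 0, 0],
  [2, 2, 0, 0, 3, 10, 0, 0, 0, 0, 2, 2, 0, 0, 3, 10],
  [0, 0, 12, 5, 0, 0, 5, 12, 6, 9, 0, 0, 9, 6, 0, 0],
  [12, 0, 0, 0, 0, 12, 0, 0, 0, 0, 12, 0, 0, 0, 0, 12],
  [0, 0, 12, 8, 0, 0, 8, 12, 6, 4, 0, 0, 4, 6, 0, 0],
  [10, 11, 0, 0, 10, 2, 0, 0, 0, 0, 10, 11, 0, 0, 10, 2],
  [10, 3, 0, 0, 2, 2, 0, 0, 0, 0, 10, 3, 0, 0, 2, 2],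
  [0, 0, 7, 0, 0, 0, 0, 4, 10, 0, 0, 0, 0, 2, 0, 0],
  [0, 0, 12, 12, 0, 0, 1, 12, 6, 6, 0, 0, 7, 6, 0, 0],
  [2, 10, 0, 0, 11, 10, 0, 0, 0, 0, 2, 10, 0, 0, 11, 10],
  [10, 2, 0, 0, 3, 2, 0, 0, 0, 0, 10, 2, 0, 0, 3, 2],
  [10, 10, 0, 0, 11, 2, 0, 0, 0, 0, 10, 10, 0, 0, 11, 2],
  [0, 0, 8, 8, 0, 0, 8, 5, 4, 4, 0, 0, 4, 9, 0, 0],
  [0, 0, 8, 1, 0, 0, 12, 5, 4, 7, 0, 0, 6, 9, 0, 0],
  [8, 0, 0, 0, 0, 5, 0, 0, 0, 0, 8, 0, 0, 0, 0, 5],
  [0, 0, 8, 5, 0, 0, 5, 5, 4, 9, 0, 0, 9, 9, 0, 0],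
  [0, 0, 8, 12, 0, 0, 1, 5, 4, 6, 0, 0, 7, 9, 0, 0],
  [0, 0, 0, 7, 0, 0, 9, 0, 0, 10, 0, 0, 11, 0, 0, 0],
  [0, 8, 0, 0, 8, 0, 0, 0, 0, 0, 0, 8, 0, 0, 8, 0],
  [0, 12, 0, 0, 1, 0, 0, 0, 0, 0, 0, 12, 0, 0, 1, 0],
  [11, 10, 0, 0, 11, 3, 0, 0, 0, 0, 11, 10, 0, 0, 11, 3],
  [11, 11, 0, 0, 10, 3, 0, 0, 0, 0, 11, 11, 0, 0, 10, 3],
  [0, 0, 9, 0, 0, 0, 0, 6, 11, 0, 0, 0, 0, 3, 0, 0],
  [11, 3, 0, 0, 2, 3, 0, 0, 0, 0, 11, 3, 0, 0, 2, 3],
  [11, 2, 0, 0, 3, 3, 0, 0, 0, 0, 11, 2, 0, 0, 3, 3],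
  [0, 0, 0, 4, 0, 0, 6, 0, 0, 2, 0, 0, 3, 0, 0, 0],
  [0, 0, 1, 12, 0, 0, 1, 1, 7, 6, 0, 0, 7, 7, 0, 0],
  [0, 0, 1, 8, 0, 0, 8, 1, 7, 4, 0, 0, 4, 7, 0, 0],
  [0, 0, 0, 9, 0, 0, 7, 0, 0, 11, 0, 0, 10, 0, 0, 0],
  [3, 10, 0, 0, 11, 11, 0, 0, 0, 0, 3, 10, 0, 0, 11, 11],
  [0, 0, 1, 1, 0, 0, 12, 1, 7, 7, 0, 0, 6, 7, 0, 0],
  [0, 0, 1, 5, 0, 0, 5, 1, 7, 9, 0, 0, 9, 7, 0, 0],
  [0, 5, 0, 0, 5, 0, 0, 0, 0, 0, 0, 5, 0, 0, 5, 0],
  [3, 2, 0, 0, 3, 11, 0, 0, 0, 0, 3, 2, 0, 0, 3, 11],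
  [0, 0, 5, 12, 0, 0, 1, 8, 9, 6, 0, 0, 7, 4, 0, 0],
  [3, 11, 0, 0, 10, 11, 0, 0, 0, 0, 3, 11, 0, 0, 10, 11],
  [0, 1, 0, 0, 12, 0, 0, 0, 0, 0, 0, 1, 0, 0, 12, 0],
  [0, 0, 5, 8, 0, 0, 8, 8, 9, 4, 0, 0, 4, 4, 0, 0],
  [0, 0, 0, 6, 0, 0, 4, 0, 0, 3, 0, 0, 2, 0, 0, 0]]

theorem elemsL_closed : ∀ a ∈ elemsL, mulL wL a ∈ elemsL ∧ mulL xL a ∈ elemsL ∧
    mulL wiL a ∈ elemsL ∧ mulL xiL a ∈ elemsL := by
  decide +kernel

theorem elemsL_id : ∀ a ∈ elemsL, a = idL ∨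
    ∃ n ∈ [2, 3, 4, 6, 8], powL a n = idL ∧ geomL a n = zeroL := by
  decide +kernel

abbrev M4 := Matrix (Fin 4) (Fin 4) (ZMod 13)

def toM (a : List ℕ) : M4 := Matrix.of fun i j => ((ent a i.val j.val : ℕ) : ZMod 13)

theorem toM_mul (a b : List ℕ) : toM (mulL a b) = toM a * toM b := by
  ext i j
  fin_cases i <;> fin_cases j <;>
    simp [toM, mulL, dot, ent, Matrix.mul_apply, Fin.sum_univ_four]

theorem toM_add (a b : List ℕ) : toM (addL a b) = toM a + toM b := by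
  ext i j
  fin_cases i <;> fin_cases j <;>
    simp [toM, addL, ent]

theorem toM_id : toM idL = 1 := by
  ext i j
  fin_cases i <;> fin_cases j <;> simp [toM, idL, ent]

theorem toM_zero : toM zeroL = 0 := by
  ext i j
  fin_cases i <;> fin_cases j <;> simp [toM, zeroL, ent]

theorem toM_pow (a : List ℕ) (n : ℕ) : toM (powL a n) = toM a ^ n := by
  induction n with
  | zero => rw [pow_zero]; exact toM_id
  | succ n ih => rw [pow_succ, ← ih, ← toM_mul]; rfl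

theorem toM_geom (a : List ℕ) (n : ℕ) :
    toM (geomL a n) = ∑ j ∈ Finset.range n, toM a ^ j := by
  induction n with
  | zero => rw [Finset.sum_range_zero]; exact toM_zero
  | succ n ih => rw [Finset.sum_range_succ, ← ih, ← toM_pow, ← toM_add]; rfl

def gw : M4ˣ := ⟨toM wL, toM wiL,
  by rw [← toM_mul, show mulL wL wiL = idL by decide +kernel, toM_id],
  by rw [← toM_mul, show mulL wiL wL = idL by decide +kernel, toM_id]⟩

def gx : M4ˣ := ⟨toM xL, toM xiL,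
  by rw [← toM_mul, show mulL xL xiL = idL by decide +kernel, toM_id],
  by rw [← toM_mul, show mulL xiL xL = idL by decide +kernel, toM_id]⟩

/-- the binary octahedral group -/
def K : Subgroup M4ˣ := Subgroup.closure {gw, gx}

theorem mem_elems (k : M4ˣ) (hk : k ∈ K) : ∃ a ∈ elemsL, (k : M4) = toM a := by
  refine Subgroup.closure_induction_left (p := fun (g : M4ˣ) _ => ∃ a ∈ elemsL, (g : M4) = toM a)
    ?_ ?_ ?_ (show k ∈ Subgroup.closure {gw, gx} from hk)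
  · exact ⟨idL, by decide +kernel, by rw [Units.val_one, toM_id]⟩
  · rintro x hx y _ ⟨a, ha, hya⟩
    obtain ⟨h1, h2, -, -⟩ := elemsL_closed a ha
    rcases hx with rfl | rfl
    · exact ⟨_, h1, by rw [Units.val_mul, hya, toM_mul]; rfl⟩
    · exact ⟨_, h2, by rw [Units.val_mul, hya, toM_mul]; rfl⟩
  · rintro x hx y _ ⟨a, ha, hya⟩
    obtain ⟨-, -, h3, h4⟩ := elemsL_closed a ha
    rcases hx with rfl | rfl
    · exact ⟨_, h3, by rw [Units.val_mul, hya, toM_mul]; rfl⟩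
    · exact ⟨_, h4, by rw [Units.val_mul, hya, toM_mul]; rfl⟩

theorem K_identity (k : K) : k = 1 ∨ ∃ n ∈ [2, 3, 4, 6, 8],
    ((k : M4ˣ) : M4) ^ n = 1 ∧ ∑ j ∈ Finset.range n, ((k : M4ˣ) : M4) ^ j = 0 := by
  obtain ⟨a, ha, hka⟩ := mem_elems k.1 k.2
  rcases elemsL_id a ha with rfl | ⟨n, hn, h1, h2⟩
  · left
    apply Subtype.ext
    apply Units.ext
    rw [hka, toM_id]
    rfl
  · right
    refine ⟨n, hn, ?_, ?_⟩
    · rw [hka, ← toM_pow, h1, toM_id]
    · rw [hka, ← toM_geom, h2, toM_zero]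

theorem K_pow (k : K) (n : ℕ) (h : ((k : M4ˣ) : M4) ^ n = 1) : k ^ n = 1 := by
  apply Subtype.ext
  apply Units.ext
  rw [Subgroup.coe_pow, Units.val_pow_eq_pow_val, h]
  rfl

instance : Finite K := inferInstance

theorem K_solvable : Group.IsSolvable K := by
  have hprime : ∀ p : ℕ, p.Prime → p ∣ Nat.card K → p = 2 ∨ p = 3 := by
    intro p hp hd
    haveI : Fact p.Prime := ⟨hp⟩
    obtain ⟨k, hk⟩ := exists_prime_orderOf_dvd_card' (G := K) p hd
    rcases K_identity k with rfl | ⟨n, hn, h1, -⟩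
    · rw [orderOf_one] at hk
      exact absurd hk.symm hp.ne_one
    · have hdvd : p ∣ n := by
        rw [← hk]
        exact orderOf_dvd_of_pow_eq_one (K_pow k n h1)
      simp only [List.mem_cons, List.not_mem_nil, or_false] at hn
      have hle : p ≤ 8 := by
        rcases hn with rfl | rfl | rfl | rfl | rfl <;>
          exact (Nat.le_of_dvd (by norm_num) hdvd).trans (by norm_num)
      have h2 := hp.two_le
      interval_cases p
      · left; rfl
      · right; rfl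
      · exact absurd hp (by norm_num)
      · exfalso; rcases hn with rfl | rfl | rfl | rfl | rfl <;> omega
      · exact absurd hp (by norm_num)
      · exfalso; rcases hn with rfl | rfl | rfl | rfl | rfl <;> omega
      · exact absurd hp (by norm_num)
  obtain ⟨a, b, hab⟩ := two_three (Nat.card K) Nat.card_pos.ne' hprime
  exact Cfsg.Agent.S0144.result 2 3 a b Nat.prime_two Nat.prime_three hab

/-- the group `13^4 : 2O` -/
@[ext] structure HG where
  v : Fin 4 → ZMod 13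
  k : K

instance : Mul HG := ⟨fun a b => ⟨a.v + Matrix.mulVec ((a.k : M4ˣ) : M4) b.v, a.k * b.k⟩⟩
instance : One HG := ⟨⟨0, 1⟩⟩
instance : Inv HG := ⟨fun a => ⟨-Matrix.mulVec (((a.k⁻¹ : K) : M4ˣ) : M4) a.v, a.k⁻¹⟩⟩

@[simp] theorem mul_v (a b : HG) : (a * b).v = a.v + Matrix.mulVec ((a.k : M4ˣ) : M4) b.v := rfl
@[simp] theorem mul_k (a b : HG) : (a * b).k = a.k * b.k := rfl
@[simp] theorem one_v : (1 : HG).v = 0 := rfl
@[simp] theorem one_k : (1 : HG).k = 1 := rfl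
@[simp] theorem inv_v (a : HG) : (a⁻¹).v = -Matrix.mulVec (((a.k⁻¹ : K) : M4ˣ) : M4) a.v := rfl
@[simp] theorem inv_k (a : HG) : (a⁻¹).k = a.k⁻¹ := rfl

instance instGroupHG : Group HG :=
  Group.ofLeftAxioms
    (by
      intro a b c
      ext1
      · simp only [mul_v, mul_k, Subgroup.coe_mul, Units.val_mul, Matrix.mulVec_add,
          Matrix.mulVec_mulVec, add_assoc]
      · simp only [mul_k, mul_assoc])
    (by
      intro a
      ext1
      · simp only [mul_v, one_v, one_k, Subgroup.coe_one, Units.val_one, Matrix.one_mulVec,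
          zero_add]
      · simp only [mul_k, one_k, one_mul])
    (by
      intro a
      ext1
      · simp only [mul_v, inv_v, inv_k, one_v, neg_add_cancel]
      · simp only [mul_k, inv_k, inv_mul_cancel, one_k])

theorem pow_k (a : HG) (n : ℕ) : (a ^ n).k = a.k ^ n := by
  induction n with
  | zero => rw [pow_zero, pow_zero]; rfl
  | succ n ih => rw [pow_succ, pow_succ, mul_k, ih]

theorem pow_v (a : HG) (n : ℕ) :
    (a ^ n).v = Matrix.mulVec (∑ j ∈ Finset.range n, ((a.k : M4ˣ) : M4) ^ j) a.v := by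
  induction n with
  | zero => rw [pow_zero, Finset.sum_range_zero, Matrix.zero_mulVec]; rfl
  | succ n ih =>
    rw [pow_succ, mul_v, ih, pow_k, Finset.sum_range_succ, Matrix.add_mulVec, Subgroup.coe_pow,
      Units.val_pow_eq_pow_val]

theorem hg_orderOf_mem (a : HG) : orderOf a ∈ ({1, 2, 3, 4, 6, 8, 13} : Set ℕ) := by
  rcases K_identity a.k with h | ⟨n, hn, h1, h2⟩
  · refine mem_spec_of_pow a 13 (by simp) ?_
    ext1
    · rw [pow_v, h, one_v]
      have : ∑ j ∈ Finset.range 13, (((1 : K) : M4ˣ) : M4) ^ j = 0 := by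
        rw [Subgroup.coe_one, Units.val_one, ← toM_id, ← toM_geom,
          show geomL idL 13 = zeroL by decide +kernel, toM_zero]
      rw [this, Matrix.zero_mulVec]
    · rw [pow_k, h, one_pow]
      rfl
  · refine mem_spec_of_pow a n ?_ ?_
    · simp only [List.mem_cons, List.not_mem_nil, or_false] at hn ⊢
      tauto
    · ext1
      · rw [pow_v, h2, Matrix.zero_mulVec]
        rfl
      · rw [pow_k, K_pow a.k n h1]
        rfl

def incl : K →* HG where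
  toFun k := ⟨0, k⟩
  map_one' := rfl
  map_mul' x y := by
    ext1
    · simp only [mul_v, Matrix.mulVec_zero, add_zero]
    · rfl

theorem incl_injective : Function.Injective incl := by
  intro x y h
  exact congrArg HG.k h

def proj : HG →* K where
  toFun a := a.k
  map_one' := rfl
  map_mul' _ _ := rfl

theorem orderOf_gw : orderOf gw = 8 := by
  haveI : Fact (Nat.Prime 2) := ⟨Nat.prime_two⟩
  rw [← orderOf_units]
  refine orderOf_eq_prime_pow (p := 2) (n := 2) ?_ ?_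
  · show ¬ toM wL ^ 2 ^ 2 = 1
    rw [← toM_pow, show powL wL (2 ^ 2) = [12, 0, 0, 0, 0, 12, 0, 0, 0, 0, 12, 0, 0, 0, 0, 12] by
      decide +kernel]
    intro h
    have := congrFun (congrFun h 0) 0
    simp [toM, ent] at this
    revert this
    decide
  · show toM wL ^ 2 ^ (2 + 1) = 1
    rw [← toM_pow, show powL wL (2 ^ (2 + 1)) = idL by decide +kernel, toM_id]

theorem orderOf_gx : orderOf gx = 6 := by
  rw [← orderOf_units]
  apply orderOf_eq_of_pow_and_pow_div_prime (by norm_num)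
  · show toM xL ^ 6 = 1
    rw [← toM_pow, show powL xL 6 = idL by decide +kernel, toM_id]
  · intro p hp hd
    have hle : p ≤ 6 := Nat.le_of_dvd (by norm_num) hd
    have h2 := hp.two_le
    interval_cases p
    · show toM xL ^ (6 / 2) ≠ 1
      rw [← toM_pow, show powL xL (6 / 2) = [12, 0, 0, 0, 0, 12, 0, 0, 0, 0, 12, 0, 0, 0, 0, 12] by
        decide +kernel]
      intro h
      have := congrFun (congrFun h 0) 0
      simp [toM, ent] at this
      revert this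
      decide
    · show toM xL ^ (6 / 3) ≠ 1
      rw [← toM_pow, show powL xL (6 / 3) = [2, 3, 0, 0, 2, 10, 0, 0, 0, 0, 2, 3, 0, 0, 2, 10] by
        decide +kernel]
      intro h
      have := congrFun (congrFun h 0) 0
      simp [toM, ent] at this
      revert this
      decide
    · exact absurd hp (by norm_num)
    · exact absurd hd (by norm_num)
    · exact absurd hp (by norm_num)

theorem gw_mem : gw ∈ K := Subgroup.subset_closure (by simp)
theorem gx_mem : gx ∈ K := Subgroup.subset_closure (by simp)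
def hw : HG := incl ⟨gw, gw_mem⟩
def hx : HG := incl ⟨gx, gx_mem⟩
def ht : HG := ⟨Pi.single 0 1, 1⟩

theorem orderOf_hw : orderOf hw = 8 := by
  rw [hw, orderOf_injective incl incl_injective, Subgroup.orderOf_mk, orderOf_gw]

theorem orderOf_hx : orderOf hx = 6 := by
  rw [hx, orderOf_injective incl incl_injective, Subgroup.orderOf_mk, orderOf_gx]

theorem orderOf_ht : orderOf ht = 13 := by
  haveI : Fact (Nat.Prime 13) := ⟨by norm_num⟩
  apply orderOf_eq_prime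
  · ext1
    · rw [pow_v]
      have : ∑ j ∈ Finset.range 13, (((ht.k : K) : M4ˣ) : M4) ^ j = 0 := by
        show ∑ j ∈ Finset.range 13, (((1 : K) : M4ˣ) : M4) ^ j = 0
        rw [Subgroup.coe_one, Units.val_one, ← toM_id, ← toM_geom,
          show geomL idL 13 = zeroL by decide +kernel, toM_zero]
      rw [this, Matrix.zero_mulVec]
      rfl
    · rw [pow_k]
      show (1 : K) ^ 13 = 1
      rw [one_pow]
  · intro h
    have := congrFun (congrArg HG.v h) 0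
    simp [ht] at this

theorem range_hg : Set.range (orderOf : HG → ℕ) = ({1, 2, 3, 4, 6, 8, 13} : Set ℕ) :=
  range_eq_of hg_orderOf_mem hw hx ht orderOf_hw orderOf_hx orderOf_ht

instance : Finite HG :=
  Finite.of_injective (fun a : HG => (a.v, a.k)) (by
    intro a b h
    have h1 := congrArg Prod.fst h
    have h2 := congrArg Prod.snd h
    exact HG.ext h1 h2)

theorem hg_solvable : Group.IsSolvable HG := by
  haveI := K_solvable
  haveI : Group.IsSolvable proj.ker := by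
    apply Group.isSolvable_of_comm
    intro a b
    have ha : a.1.k = 1 := a.2
    have hb : b.1.k = 1 := b.2
    apply Subtype.ext
    show a.1 * b.1 = b.1 * a.1
    ext1
    · simp only [mul_v, ha, hb, Subgroup.coe_one, Units.val_one, Matrix.one_mulVec, add_comm]
    · simp only [mul_k, ha, hb]
  exact Group.isSolvable_of_ker_le_range proj.ker.subtype proj (by rw [Subgroup.range_subtype])

theorem main {F : Type*} [Field F] [Fintype F] (hF : Fintype.card F = 3) :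
    ∃ (H : Type) (_ : Group H) (_ : Fintype H), Group.IsSolvable H ∧
      Set.range (orderOf : H → ℕ) =
        Set.range (orderOf : Matrix.ProjectiveSpecialLinearGroup (Fin 3) F → ℕ) := by
  classical
  refine ⟨HG, instGroupHG, Fintype.ofFinite HG, hg_solvable, ?_⟩
  rw [range_hg, range_psl hF]

end Cfsg.Agent.Lib.Lead.Spec33
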