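import Mathlib
import Cfsg.Prelude.Def_SporadicB
import Cfsg.Prelude.Def_Solvable

set_option autoImplicit false

namespace Cfsg.Agent.Lib.Lead.TTA

variable {G : Type*} [Group G]

/-- A generating conjugacy class of 3-transpositions on which commuting is transitive. -/
structure TT (D : Set G) : Prop where
  sq : ∀ x ∈ D, x * x = 1
  ord : ∀ x ∈ D, ∀ y ∈ D, (x * y) ^ 2 = 1 ∨ (x * y) ^ 3 = 1
  conj : ∀ g : G, ∀ x ∈ D, g * x * g⁻¹ ∈ D
  trans : ∀ x ∈ D, ∀ y ∈ D, ∃ g : G, y = g * x * g⁻¹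
  gen : Subgroup.closure D = ⊤
  eqv : ∀ x ∈ D, ∀ y ∈ D, ∀ z ∈ D, Commute x y → Commute y z → Commute x z

theorem TT.inv_eq {D : Set G} (h : TT D) {x : G} (hx : x ∈ D) : x⁻¹ = x :=
  inv_eq_of_mul_eq_one_left (h.sq x hx)

theorem TT.commute_or_mem {D : Set G} (h : TT D) (N : Subgroup G) {x y : G} (hx : x ∈ D)
    (hy : y ∈ D) (hc : (x * y) ^ 2 ∈ N) : Commute x y ∨ x * y ∈ N := by
  rcases h.ord x hx y hy with h2 | h3
  · left
    have h1 : x * y * (x * y) = 1 := by rw [← pow_two]; exact h2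
    have h4 : x * y = (x * y)⁻¹ := eq_inv_of_mul_eq_one_left h1
    rw [mul_inv_rev, h.inv_eq hx, h.inv_eq hy] at h4
    exact h4
  · right
    have h1 : (x * y) ^ 2 * (x * y) = 1 := by rw [← pow_succ]; exact h3
    have h4 : x * y = ((x * y) ^ 2)⁻¹ := eq_inv_of_mul_eq_one_right h1
    rw [h4]
    exact N.inv_mem hc

theorem TT.commute_or_eq_quot {D : Set G} (h : TT D) (N : Subgroup G) [N.Normal] {a b : G}
    (ha : a ∈ D) (hb : b ∈ D)
    (hab : Commute (QuotientGroup.mk' N a) (QuotientGroup.mk' N b)) :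
    Commute a b ∨ QuotientGroup.mk' N a = QuotientGroup.mk' N b := by
  have hm : (a * b) ^ 2 ∈ N := by
    rw [← QuotientGroup.eq_one_iff]
    have e1 : (((a * b) ^ 2 : G) : G ⧸ N)
        = (QuotientGroup.mk' N a * QuotientGroup.mk' N b) ^ 2 := by
      simp
    rw [e1, hab.mul_pow, pow_two, pow_two, ← map_mul, ← map_mul, h.sq a ha, h.sq b hb, map_one,
      mul_one]
  rcases h.commute_or_mem N ha hb hm with hc | hm2
  · left; exact hc
  · right
    have e2 : QuotientGroup.mk' N (a * b) = 1 := by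
      rw [QuotientGroup.mk'_apply]; exact (QuotientGroup.eq_one_iff _).2 hm2
    rw [map_mul] at e2
    have e3 : QuotientGroup.mk' N a = (QuotientGroup.mk' N b)⁻¹ := eq_inv_of_mul_eq_one_left e2
    rw [e3, ← map_inv, h.inv_eq hb]

theorem TT.quot {D : Set G} (h : TT D) (N : Subgroup G) [N.Normal] :
    TT ((QuotientGroup.mk' N) '' D) := by
  have hπ : Function.Surjective (QuotientGroup.mk' N) := QuotientGroup.mk'_surjective N
  refine ⟨?_, ?_, ?_, ?_, ?_, ?_⟩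
  · rintro _ ⟨x, hx, rfl⟩
    rw [← map_mul, h.sq x hx, map_one]
  · rintro _ ⟨x, hx, rfl⟩ _ ⟨y, hy, rfl⟩
    rcases h.ord x hx y hy with h2 | h3
    · left; rw [← map_mul, ← map_pow, h2, map_one]
    · right; rw [← map_mul, ← map_pow, h3, map_one]
  · rintro g _ ⟨x, hx, rfl⟩
    obtain ⟨g', rfl⟩ := hπ g
    exact ⟨g' * x * g'⁻¹, h.conj g' x hx, by simp⟩
  · rintro _ ⟨x, hx, rfl⟩ _ ⟨y, hy, rfl⟩
    obtain ⟨g, hg⟩ := h.trans x hx y hy
    exact ⟨QuotientGroup.mk' N g, by rw [hg]; simp⟩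
  · rw [← MonoidHom.map_closure, h.gen, ← MonoidHom.range_eq_map, MonoidHom.range_eq_top]
    exact hπ
  · rintro _ ⟨x, hx, rfl⟩ _ ⟨y, hy, rfl⟩ _ ⟨z, hz, rfl⟩ hxy hyz
    rcases h.commute_or_eq_quot N hx hy hxy with c1 | e1
    · rcases h.commute_or_eq_quot N hy hz hyz with c2 | e2
      · exact (h.eqv x hx y hy z hz c1 c2).map (QuotientGroup.mk' N)
      · rw [← e2]; exact hxy
    · rw [e1]; exact hyz

theorem TT.sub {D : Set G} (h : TT D) (H : Subgroup G) {d : G} (hd : d ∈ D) (hdH : d ∈ H)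
    (hgen : Subgroup.closure {x : G | ∃ g ∈ H, x = g * d * g⁻¹} = H) :
    TT {x : ↥H | ∃ g : ↥H, x = g * ⟨d, hdH⟩ * g⁻¹} := by
  have hmem : ∀ x : ↥H, (∃ g : ↥H, x = g * ⟨d, hdH⟩ * g⁻¹) → (x : G) ∈ D := by
    rintro x ⟨g, rfl⟩
    simpa using h.conj (g : G) d hd
  refine ⟨?_, ?_, ?_, ?_, ?_, ?_⟩
  · intro x hx
    apply Subtype.ext
    simpa using h.sq _ (hmem x hx)
  · intro x hx y hy
    rcases h.ord _ (hmem x hx) _ (hmem y hy) with h2 | h3
    · left; apply Subtype.ext; simpa using h2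
    · right; apply Subtype.ext; simpa using h3
  · rintro g x ⟨k, rfl⟩
    exact ⟨g * k, by group⟩
  · rintro x ⟨k, rfl⟩ y ⟨l, rfl⟩
    exact ⟨l * k⁻¹, by group⟩
  · apply Subgroup.map_injective H.subtype_injective
    rw [MonoidHom.map_closure, ← MonoidHom.range_eq_map, Subgroup.range_subtype]
    conv_rhs => rw [← hgen]
    congr 1
    ext x
    constructor
    · rintro ⟨y, ⟨g, rfl⟩, rfl⟩
      exact ⟨g, g.2, by simp⟩
    · rintro ⟨g, hg, rfl⟩
      exact ⟨⟨g, hg⟩ * ⟨d, hdH⟩ * ⟨g, hg⟩⁻¹, ⟨⟨g, hg⟩, rfl⟩, by simp⟩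
  · intro x hx y hy z hz hxy hyz
    have := h.eqv _ (hmem x hx) _ (hmem y hy) _ (hmem z hz) (hxy.map H.subtype)
      (hyz.map H.subtype)
    show x * z = z * x
    apply Subtype.ext
    exact this.eq

theorem TT.hV {D : Set G} (h : TT D) {x : G} (hx : x ∈ D) :
    {y : G | y ∈ D ∧ Commute x y}
      = {v : G | v ∈ D ∧ ∀ e ∈ D, Commute v e ↔ Commute x e} := by
  ext y
  constructor
  · rintro ⟨hy, hc⟩
    exact ⟨hy, fun e he => ⟨fun hye => h.eqv x hx y hy e he hc hye,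
      fun hxe => h.eqv y hy x hx e he hc.symm hxe⟩⟩
  · rintro ⟨hy, hall⟩
    exact ⟨hy, ((hall x hx).2 (Commute.refl x)).symm⟩

theorem TT.to_class {D : Set G} (h : TT D) {d : G} (hd : d ∈ D) (hne : d ≠ 1) :
    Cfsg.IsThreeTranspositionClass D := by
  refine ⟨⟨?_, h.ord⟩, ⟨d, hd, ?_⟩, h.gen⟩
  · intro x hx
    obtain ⟨g, rfl⟩ := h.trans d hd x hx
    have hne' : g * d * g⁻¹ ≠ 1 := by
      intro e
      apply hne
      have e2 : d = g⁻¹ * (g * d * g⁻¹) * g := by group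
      rw [e2, e]; group
    exact orderOf_eq_prime (by rw [pow_two]; exact h.sq _ hx) hne'
  · ext x
    constructor
    · intro hx
      obtain ⟨g, rfl⟩ := h.trans d hd x hx
      exact isConj_iff.2 ⟨g, rfl⟩
    · intro hx
      obtain ⟨g, rfl⟩ := isConj_iff.1 hx
      exact h.conj g d hd

theorem TT.of_class {D : Set G} (hD : Cfsg.IsThreeTranspositionClass D) {d : G} (hd : d ∈ D)
    (hV : {y : G | y ∈ D ∧ Commute d y}
      = {v : G | v ∈ D ∧ ∀ e ∈ D, Commute v e ↔ Commute d e}) : TT D := by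
  obtain ⟨⟨hord, hprod⟩, ⟨d0, hd0, hcl⟩, hgen⟩ := hD
  have hconj : ∀ g : G, ∀ x ∈ D, g * x * g⁻¹ ∈ D := by
    intro g x hx
    rw [hcl] at hx ⊢
    have hx' : IsConj d0 x := hx
    exact hx'.trans (isConj_iff.2 ⟨g, rfl⟩)
  have htrans : ∀ x ∈ D, ∀ y ∈ D, ∃ g : G, y = g * x * g⁻¹ := by
    intro x hx y hy
    rw [hcl] at hx hy
    have hx' : IsConj d0 x := hx
    have hy' : IsConj d0 y := hy
    obtain ⟨g, hg⟩ := isConj_iff.1 (hx'.symm.trans hy')
    exact ⟨g, hg.symm⟩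
  refine ⟨?_, hprod, hconj, htrans, hgen, ?_⟩
  · intro x hx
    have := pow_orderOf_eq_one x
    rw [hord x hx, pow_two] at this
    exact this
  · intro x hx y hy z hz hxy hyz
    obtain ⟨g, rfl⟩ := htrans d hd y hy
    have hx' : g⁻¹ * x * g ∈ D := by simpa using hconj g⁻¹ x hx
    have hz' : g⁻¹ * z * g ∈ D := by simpa using hconj g⁻¹ z hz
    have hxy' : Commute d (g⁻¹ * x * g) := by
      have := (Commute.conj_iff g⁻¹).2 hxy.symm
      simpa [mul_assoc] using this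
    have hyz' : Commute d (g⁻¹ * z * g) := by
      have := (Commute.conj_iff g⁻¹).2 hyz
      simpa [mul_assoc] using this
    have hmem : g⁻¹ * x * g ∈ {y : G | y ∈ D ∧ Commute d y} := ⟨hx', hxy'⟩
    rw [hV] at hmem
    have hc : Commute (g⁻¹ * x * g) (g⁻¹ * z * g) := (hmem.2 _ hz').2 hyz'
    have := (Commute.conj_iff g).2 hc
    simpa [mul_assoc] using this

end Cfsg.Agent.Lib.Lead.TTA
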