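import Mathlib
import Cfsg.Agent.Lib.Lead.TTA
import Cfsg.Agent.Lib.Helper3.TT5
import Cfsg.Agent.Lib.Helper1.PCore

set_option autoImplicit false

namespace Cfsg.Agent.Lib.Lead.TTA


variable {G : Type*} [Group G]

theorem TT.commute_of_sq {D : Set G} (h : TT D) {x y : G} (hx : x ∈ D) (hy : y ∈ D)
    (h2 : (x * y) ^ 2 = 1) : x * y = y * x := by
  have h1 : x * y * (x * y) = 1 := by rw [← pow_two]; exact h2
  have h4 : x * y = (x * y)⁻¹ := eq_inv_of_mul_eq_one_left h1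
  rw [mul_inv_rev, h.inv_eq hx, h.inv_eq hy] at h4
  exact h4

theorem TT.ne_one_of {D : Set G} (h : TT D) {d : G} (hd : d ∈ D) (hne : d ≠ 1) :
    ∀ x ∈ D, x ≠ 1 := by
  intro x hx e
  obtain ⟨g, hg⟩ := h.trans x hx d hd
  apply hne
  rw [hg, e]; group

theorem TT.tset {D : Set G} (h : TT D) {d : G} (hd : d ∈ D) (hne : d ≠ 1) :
    Cfsg.Agent.Lib.Helper3.TT.TSet D :=
  ⟨h.sq, h.ne_one_of hd hne, h.conj, fun a ha b hb => by
    rcases h.ord a ha b hb with h2 | h3
    · left; exact h.commute_of_sq ha hb h2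
    · right; exact h3⟩

/-- Structure: `G/O_2(G)` is a normal 3-group extended by `⟨d⟩`. -/
theorem TT.structure [Finite G] {D : Set G} (h : TT D) {d : G} (hd : d ∈ D) :
    ∃ R : Subgroup G, R.Normal ∧ Cfsg.pCore 2 G ≤ R ∧
      (∀ g ∈ R, ∃ k : ℕ, g ^ (3 ^ k) ∈ Cfsg.pCore 2 G) ∧ R ⊔ Subgroup.zpowers d = ⊤ := by
  haveI hQn : (Cfsg.pCore 2 G).Normal := Cfsg.Agent.Lib.Helper1.pCore_normal (G := G) 2
  haveI : Fact (Nat.Prime 3) := ⟨by norm_num⟩
  by_cases hdQ : d ∈ Cfsg.pCore 2 G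
  · have hQtop : Cfsg.pCore 2 G = ⊤ := by
      rw [eq_top_iff, ← h.gen, Subgroup.closure_le]
      intro x hx
      obtain ⟨g, rfl⟩ := h.trans d hd x hx
      exact hQn.conj_mem d hdQ g
    refine ⟨⊤, inferInstance, le_top, fun g _ => ⟨0, ?_⟩, top_sup_eq _⟩
    rw [hQtop]; exact Subgroup.mem_top _
  · have hd1 : d ≠ 1 := fun e => hdQ (e ▸ one_mem _)
    have hπ : Function.Surjective (QuotientGroup.mk' (Cfsg.pCore 2 G)) :=
      QuotientGroup.mk'_surjective _
    have hTq : TT ((QuotientGroup.mk' (Cfsg.pCore 2 G)) '' D) := h.quot _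
    have hπd : QuotientGroup.mk' (Cfsg.pCore 2 G) d ∈ (QuotientGroup.mk' (Cfsg.pCore 2 G)) '' D :=
      Set.mem_image_of_mem _ hd
    have hπd1 : QuotientGroup.mk' (Cfsg.pCore 2 G) d ≠ 1 := by
      intro e; apply hdQ; exact (QuotientGroup.eq_one_iff d).1 e
    have hT : Cfsg.Agent.Lib.Helper3.TT.TSet D := h.tset hd hd1
    have nocomm : ∀ a ∈ (QuotientGroup.mk' (Cfsg.pCore 2 G)) '' D,
        ∀ b ∈ (QuotientGroup.mk' (Cfsg.pCore 2 G)) '' D, a * b = b * a → a = b := by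
      rintro _ ⟨x, hx, rfl⟩ _ ⟨y, hy, rfl⟩ hc
      rcases h.commute_or_eq_quot _ hx hy hc with hc' | he
      · have hs : Cfsg.Agent.Lib.Helper3.TT.SameP D x y := by
          intro e he
          constructor
          · intro hye; exact (h.eqv x hx y hy e he hc' hye).eq
          · intro hxe; exact (h.eqv y hy x hx e he hc'.symm hxe).eq
        have hm := hT.sameP_mul_mem_pCore hx hy hs
        rw [QuotientGroup.mk'_apply, QuotientGroup.mk'_apply, QuotientGroup.eq, h.inv_eq hx]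
        exact hm
      · exact he
    refine ⟨(Cfsg.pCore 3 (G ⧸ Cfsg.pCore 2 G)).comap (QuotientGroup.mk' (Cfsg.pCore 2 G)),
      (Cfsg.Agent.Lib.Helper1.pCore_normal (G := G ⧸ Cfsg.pCore 2 G) 3).comap _, ?_, ?_, ?_⟩
    · intro x hx
      rw [Subgroup.mem_comap, QuotientGroup.mk'_apply, (QuotientGroup.eq_one_iff x).2 hx]
      exact one_mem _
    · intro g hg
      rw [Subgroup.mem_comap] at hg
      obtain ⟨k, hk⟩ := (Cfsg.Agent.Lib.Helper1.pCore_isPGroup (G := G ⧸ Cfsg.pCore 2 G) 3) ⟨_, hg⟩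
      refine ⟨k, ?_⟩
      have hk' := congrArg Subtype.val hk
      rw [← QuotientGroup.eq_one_iff]
      simpa using hk'
    · have hmap : ((Cfsg.pCore 3 (G ⧸ Cfsg.pCore 2 G)).comap (QuotientGroup.mk' (Cfsg.pCore 2 G))
          ⊔ Subgroup.zpowers d).map (QuotientGroup.mk' (Cfsg.pCore 2 G)) = ⊤ := by
        rw [Subgroup.map_sup, Subgroup.map_comap_eq_self_of_surjective hπ, MonoidHom.map_zpowers,
          eq_top_iff, ← hTq.gen, Subgroup.closure_le]
        rintro _ ⟨x, hx, rfl⟩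
        have hw : QuotientGroup.mk' (Cfsg.pCore 2 G) x ∈ Cfsg.Agent.Lib.Helper3.TT.Wc
            ((QuotientGroup.mk' (Cfsg.pCore 2 G)) '' D) (QuotientGroup.mk' (Cfsg.pCore 2 G) d) := by
          refine ⟨Set.mem_image_of_mem _ hx, ?_⟩
          ext y
          simp only [Cfsg.Agent.Lib.Helper3.TT.mem_Dm]
          constructor
          · rintro ⟨hy, hne, hc⟩
            exact absurd (nocomm _ hπd _ hy hc).symm hne
          · rintro ⟨hy, hne, hc⟩
            exact absurd (nocomm _ (Set.mem_image_of_mem _ hx) _ hy hc).symm hne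
        have hm := Cfsg.Agent.Lib.Helper3.TT.Wc_mul_mem_pCore (hTq.to_class hπd hπd1) hπd hw
        have e : QuotientGroup.mk' (Cfsg.pCore 2 G) x
            = (QuotientGroup.mk' (Cfsg.pCore 2 G) d)⁻¹ *
              (QuotientGroup.mk' (Cfsg.pCore 2 G) d * QuotientGroup.mk' (Cfsg.pCore 2 G) x) := by
          group
        rw [SetLike.mem_coe, e]
        exact mul_mem (Subgroup.mem_sup_right (inv_mem (Subgroup.mem_zpowers _)))
          (Subgroup.mem_sup_left hm)
      have hcm := Subgroup.comap_map_eq (QuotientGroup.mk' (Cfsg.pCore 2 G))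
        ((Cfsg.pCore 3 (G ⧸ Cfsg.pCore 2 G)).comap (QuotientGroup.mk' (Cfsg.pCore 2 G))
          ⊔ Subgroup.zpowers d)
      rw [hmap, Subgroup.comap_top, QuotientGroup.ker_mk'] at hcm
      rw [hcm]
      symm
      apply sup_eq_left.2
      refine le_trans ?_ le_sup_left
      intro x hx
      rw [Subgroup.mem_comap, QuotientGroup.mk'_apply, (QuotientGroup.eq_one_iff x).2 hx]
      exact one_mem _

theorem index_dvd_card_of_sup_eq_top [Finite G] (H Q : Subgroup G) [Q.Normal]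
    (h : H ⊔ Q = ⊤) : H.index ∣ Nat.card Q := by
  have e1 := Subgroup.relIndex_sup_right H Q
  rw [h, Subgroup.relIndex_top_right] at e1
  have c1 := Q.index_mul_card
  have c2 := H.index_mul_card
  have c3 : Q.relIndex H * Nat.card (Q.subgroupOf H) = Nat.card H :=
    (Q.subgroupOf H).index_mul_card
  have key : Q.index * Nat.card Q = Q.index * (H.index * Nat.card (Q.subgroupOf H)) := by
    rw [c1, ← c2, ← c3, e1]; ring
  have hpos : 0 < Q.index := Nat.pos_of_ne_zero Subgroup.index_ne_zero_of_finite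
  exact ⟨_, Nat.eq_of_mul_eq_mul_left hpos key⟩

theorem le_of_not_dvd_index [Finite G] {p : ℕ} [Fact p.Prime] (N Y : Subgroup G) [N.Normal]
    (hN : IsPGroup p N) (hY : ¬ p ∣ Y.index) : N ≤ Y := by
  obtain ⟨PY⟩ : Nonempty (Sylow p ↥Y) := inferInstance
  have hP : IsPGroup p ((PY : Subgroup ↥Y).map Y.subtype) := PY.isPGroup'.map _
  have hidx : ¬ p ∣ ((PY : Subgroup ↥Y).map Y.subtype).index := by
    rw [Subgroup.index_map_subtype]
    intro hdvd
    rcases (Nat.Prime.dvd_mul Fact.out).1 hdvd with h1 | h2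
    · exact PY.not_dvd_index h1
    · exact hY h2
  have := hN.le_sylow_of_normal (hP.toSylow hidx)
  rw [IsPGroup.toSylow_coe] at this
  exact this.trans (Subgroup.map_subtype_le _)

theorem TT.sup_eq_top_of_index [Finite G] {D : Set G} (h : TT D) {d : G} (hd : d ∈ D)
    (Y : Subgroup G) (hY : ¬ 3 ∣ Y.index) :
    Y ⊔ Cfsg.pCore 2 G ⊔ Subgroup.zpowers d = ⊤ := by
  haveI : Fact (Nat.Prime 3) := ⟨by norm_num⟩
  obtain ⟨R, hRn, hQR, hR3, hRd⟩ := h.structure hd
  haveI := hRn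
  haveI hQn : (Cfsg.pCore 2 G).Normal := Cfsg.Agent.Lib.Helper1.pCore_normal (G := G) 2
  have hπ : Function.Surjective (QuotientGroup.mk' (Cfsg.pCore 2 G)) :=
    QuotientGroup.mk'_surjective _
  haveI : (R.map (QuotientGroup.mk' (Cfsg.pCore 2 G))).Normal := hRn.map _ hπ
  have hR3' : IsPGroup 3 (R.map (QuotientGroup.mk' (Cfsg.pCore 2 G))) := by
    rintro ⟨_, r, hr, rfl⟩
    obtain ⟨k, hk⟩ := hR3 r hr
    refine ⟨k, Subtype.ext ?_⟩
    show (QuotientGroup.mk' (Cfsg.pCore 2 G) r) ^ 3 ^ k = 1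
    rw [← map_pow]; exact (QuotientGroup.eq_one_iff _).2 hk
  have hYi : ¬ 3 ∣ (Y.map (QuotientGroup.mk' (Cfsg.pCore 2 G))).index :=
    fun hdvd => hY (hdvd.trans (Y.index_map_dvd hπ))
  have hle := le_of_not_dvd_index (R.map (QuotientGroup.mk' (Cfsg.pCore 2 G)))
    (Y.map (QuotientGroup.mk' (Cfsg.pCore 2 G))) hR3' hYi
  have hRY : R ≤ Y ⊔ Cfsg.pCore 2 G := by
    calc R ≤ (R.map (QuotientGroup.mk' (Cfsg.pCore 2 G))).comap
          (QuotientGroup.mk' (Cfsg.pCore 2 G)) := Subgroup.le_comap_map _ _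
      _ ≤ (Y.map (QuotientGroup.mk' (Cfsg.pCore 2 G))).comap
          (QuotientGroup.mk' (Cfsg.pCore 2 G)) := Subgroup.comap_mono hle
      _ = Y ⊔ Cfsg.pCore 2 G := by rw [Subgroup.comap_map_eq, QuotientGroup.ker_mk']
  rw [eq_top_iff, ← hRd]
  exact sup_le_sup_right hRY _

end Cfsg.Agent.Lib.Lead.TTA
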