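import Mathlib
import Cfsg.Agent.Lib.Lead.TTB

set_option autoImplicit false

namespace Cfsg.Agent.Lib.Lead.TTA

universe u

/-- `d` normalizes a Sylow 3-subgroup. -/
def Good {G : Type*} [Group G] (d : G) : Prop :=
  ∃ P : Subgroup G, IsPGroup 3 P ∧ ¬ 3 ∣ P.index ∧ ∀ g ∈ P, d * g * d⁻¹ ∈ P

def IHyp (n : ℕ) : Prop :=
  ∀ (H : Type u) [Group H] [Finite H] (E : Set H), TT E → Nat.card H < n → ∀ e ∈ E, Good e

variable {G : Type u} [Group G]

theorem exists_of_quot [Finite G] {D : Set G} (h : TT D) {d : G} (hd : d ∈ D)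
    (ih : IHyp.{u} (Nat.card G)) (N : Subgroup G) [N.Normal] (hN : N ≠ ⊥) :
    ∃ X : Subgroup G, N ≤ X ∧ (∀ x ∈ X, ∃ k : ℕ, x ^ 3 ^ k ∈ N) ∧ ¬ 3 ∣ X.index ∧
      ∀ x ∈ X, d * x * d⁻¹ ∈ X := by
  have hlt : Nat.card (G ⧸ N) < Nat.card G := by
    have h1 := Subgroup.card_eq_card_quotient_mul_card_subgroup N
    have h2 : 1 < Nat.card N := (Subgroup.one_lt_card_iff_ne_bot N).2 hN
    have h3 : 0 < Nat.card (G ⧸ N) := Nat.card_pos
    rw [h1]
    exact lt_mul_of_one_lt_right h3 h2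
  obtain ⟨P, hP, hidx, hinv⟩ := ih (G ⧸ N) _ (h.quot N) hlt _ (Set.mem_image_of_mem _ hd)
  refine ⟨P.comap (QuotientGroup.mk' N), ?_, ?_, ?_, ?_⟩
  · intro x hx
    rw [Subgroup.mem_comap, QuotientGroup.mk'_apply, (QuotientGroup.eq_one_iff x).2 hx]
    exact one_mem _
  · intro x hx
    rw [Subgroup.mem_comap] at hx
    obtain ⟨k, hk⟩ := hP ⟨_, hx⟩
    refine ⟨k, ?_⟩
    have hk' := congrArg Subtype.val hk
    rw [← QuotientGroup.eq_one_iff]
    simpa using hk'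
  · rw [Subgroup.index_comap_of_surjective _ (QuotientGroup.mk'_surjective N)]
    exact hidx
  · intro x hx
    rw [Subgroup.mem_comap] at hx ⊢
    have := hinv _ hx
    simpa using this

theorem good_of_normal_three [Finite G] {D : Set G} (h : TT D) {d : G} (hd : d ∈ D)
    (ih : IHyp.{u} (Nat.card G)) (N : Subgroup G) [N.Normal] (hN : N ≠ ⊥)
    (hN3 : IsPGroup 3 N) : Good d := by
  obtain ⟨X, hNX, hX3, hidx, hinv⟩ := exists_of_quot h hd ih N hN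
  refine ⟨X, ?_, hidx, hinv⟩
  rintro ⟨x, hx⟩
  obtain ⟨k, hk⟩ := hX3 x hx
  obtain ⟨l, hl⟩ := hN3 ⟨_, hk⟩
  refine ⟨k + l, Subtype.ext ?_⟩
  have hl' := congrArg Subtype.val hl
  simp only [Subgroup.coe_pow, Subgroup.coe_one] at hl' ⊢
  rw [pow_add, pow_mul]
  exact hl'

theorem good_of_sub [Finite G] {D : Set G} (h : TT D) {d : G} (hd : d ∈ D)
    (ih : IHyp.{u} (Nat.card G)) (Q : Subgroup G) [Q.Normal] (hQ : IsPGroup 2 Q)
    (H : Subgroup G) (hdH : d ∈ H) (hHQ : H ⊔ Q = ⊤)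
    (hgen : Subgroup.closure {x : G | ∃ g ∈ H, x = g * d * g⁻¹} = H) (hne : H ≠ ⊤) :
    Good d := by
  haveI : Fact (Nat.Prime 2) := ⟨Nat.prime_two⟩
  have hcard : Nat.card H < Nat.card G := by
    have h1 := H.index_mul_card
    have h2 : H.index ≠ 1 := fun e => hne (Subgroup.index_eq_one.1 e)
    have h3 : H.index ≠ 0 := Subgroup.index_ne_zero_of_finite
    have h4 : 0 < Nat.card H := Nat.card_pos
    have h5 : 2 ≤ H.index := by omega
    nlinarith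
  obtain ⟨P, hP, hidx, hinv⟩ := ih ↥H _ (h.sub H hd hdH hgen) hcard ⟨d, hdH⟩ ⟨1, by simp⟩
  refine ⟨P.map H.subtype, hP.map _, ?_, ?_⟩
  · rw [Subgroup.index_map_subtype]
    intro hdvd
    rcases (Nat.Prime.dvd_mul (by norm_num : Nat.Prime 3)).1 hdvd with h1 | h2
    · exact hidx h1
    · have h3 := h2.trans (index_dvd_card_of_sup_eq_top H Q hHQ)
      obtain ⟨n, hn⟩ := (IsPGroup.iff_card.1 hQ)
      rw [hn] at h3
      have := (Nat.Prime.dvd_of_dvd_pow (by norm_num : Nat.Prime 3) h3)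
      omega
  · rintro _ ⟨g, hg, rfl⟩
    exact ⟨⟨d, hdH⟩ * g * ⟨d, hdH⟩⁻¹, hinv g hg, by simp⟩

theorem top_or_good [Finite G] {D : Set G} (h : TT D) {d : G} (hd : d ∈ D)
    (ih : IHyp.{u} (Nat.card G)) (Q : Subgroup G) [hQn : Q.Normal] (hQ : IsPGroup 2 Q)
    (G1 : Subgroup G) (hd1 : d ∈ G1) (h1Q : G1 ⊔ Q = ⊤) : G1 = ⊤ ∨ Good d := by
  obtain ⟨H, hH, hmin⟩ := WellFounded.has_min
    (InvImage.wf (fun H : Subgroup G => Nat.card H) Nat.lt_wfRel.wf)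
    {H : Subgroup G | d ∈ H ∧ H ≤ G1 ∧ H ⊔ Q = ⊤} ⟨G1, hd1, le_rfl, h1Q⟩
  obtain ⟨hdH, hHG1, hHQ⟩ := hH
  have hH'H : Subgroup.closure {x : G | ∃ g ∈ H, x = g * d * g⁻¹} ≤ H := by
    rw [Subgroup.closure_le]
    rintro _ ⟨g, hg, rfl⟩
    exact H.mul_mem (H.mul_mem hg hdH) (H.inv_mem hg)
  have hdH' : d ∈ Subgroup.closure {x : G | ∃ g ∈ H, x = g * d * g⁻¹} :=
    Subgroup.subset_closure ⟨1, H.one_mem, by simp⟩
  have hH'Q : Subgroup.closure {x : G | ∃ g ∈ H, x = g * d * g⁻¹} ⊔ Q = ⊤ := by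
    rw [eq_top_iff, ← h.gen, Subgroup.closure_le]
    intro x hx
    obtain ⟨g, rfl⟩ := h.trans d hd x hx
    have hg : g ∈ H ⊔ Q := hHQ ▸ Subgroup.mem_top g
    obtain ⟨a, ha, q, hq, rfl⟩ := Subgroup.mem_sup_of_normal_right.1 hg
    have e : a * q * d * (a * q)⁻¹
        = (a * (q * (d * q⁻¹ * d⁻¹)) * a⁻¹) * (a * d * a⁻¹) := by group
    rw [SetLike.mem_coe, e]
    refine mul_mem (Subgroup.mem_sup_right ?_)
      (Subgroup.mem_sup_left (Subgroup.subset_closure ⟨a, ha, rfl⟩))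
    exact hQn.conj_mem _ (Q.mul_mem hq (hQn.conj_mem _ (Q.inv_mem hq) d)) a
  have hcard : ¬ Nat.card (Subgroup.closure {x : G | ∃ g ∈ H, x = g * d * g⁻¹}) < Nat.card H :=
    hmin _ ⟨hdH', hH'H.trans hHG1, hH'Q⟩
  have hEq : Subgroup.closure {x : G | ∃ g ∈ H, x = g * d * g⁻¹} = H :=
    Subgroup.eq_of_le_of_card_ge hH'H (not_lt.1 hcard)
  by_cases hT : H = ⊤
  · left; exact top_le_iff.1 (hT ▸ hHG1)
  · right; exact good_of_sub h hd ih Q hQ H hdH hHQ hEq hT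

theorem normal_of_gens (B : Subgroup G) (S : Set G) (hS : Subgroup.closure S = ⊤)
    (hB : ∀ g ∈ S, ∀ c ∈ B, g * c * g⁻¹ ∈ B ∧ g⁻¹ * c * g ∈ B) : B.Normal := by
  have key : ∀ g ∈ Subgroup.closure S, ∀ c ∈ B, g * c * g⁻¹ ∈ B ∧ g⁻¹ * c * g ∈ B := by
    intro g hg
    induction hg using Subgroup.closure_induction with
    | mem x hx => exact hB x hx
    | one => intro c hc; simpa using hc
    | mul x y _ _ ihx ihy =>
      intro c hc
      constructor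
      · have := (ihx _ (ihy c hc).1).1
        have e : x * y * c * (x * y)⁻¹ = x * (y * c * y⁻¹) * x⁻¹ := by group
        rw [e]; exact this
      · have := (ihy _ (ihx c hc).2).2
        have e : (x * y)⁻¹ * c * (x * y) = y⁻¹ * (x⁻¹ * c * x) * y := by group
        rw [e]; exact this
    | inv x _ ihx =>
      intro c hc
      constructor
      · have := (ihx c hc).2
        rwa [inv_inv]
      · have := (ihx c hc).1
        rwa [inv_inv]
  constructor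
  intro n hn g
  exact (key g (hS ▸ Subgroup.mem_top g) n hn).1

theorem exists_central_order_p [Finite G] {p : ℕ} [Fact p.Prime] (P : Subgroup G)
    (hP : IsPGroup p P) (hne : P ≠ ⊥) :
    ∃ z ∈ P, z ≠ 1 ∧ z ^ p = 1 ∧ ∀ x ∈ P, x * z = z * x := by
  haveI : Nontrivial ↥P := (Subgroup.nontrivial_iff_ne_bot P).2 hne
  haveI := hP.center_nontrivial
  have hZp : IsPGroup p (Subgroup.center ↥P) := hP.to_subgroup _
  obtain ⟨k, hk⟩ := IsPGroup.iff_card.mp hZp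
  have hk0 : k ≠ 0 := by
    rintro rfl
    rw [pow_zero] at hk
    have := Finite.one_lt_card (α := Subgroup.center ↥P)
    omega
  have h2 : p ∣ Nat.card (Subgroup.center ↥P) := by rw [hk]; exact dvd_pow_self p hk0
  obtain ⟨z, hz⟩ := exists_prime_orderOf_dvd_card' (G := Subgroup.center ↥P) p h2
  have hzG : orderOf (((z : ↥P) : G)) = p := by
    rw [Subgroup.orderOf_coe, Subgroup.orderOf_coe]; exact hz
  refine ⟨((z : ↥P) : G), (z : ↥P).2, ?_, ?_, ?_⟩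
  · intro e
    rw [e, orderOf_one] at hzG
    exact (Nat.Prime.one_lt Fact.out).ne hzG
  · rw [← hzG]; exact pow_orderOf_eq_one _
  · intro x hx
    have := Subgroup.mem_center_iff.mp z.2 ⟨x, hx⟩
    exact congrArg Subtype.val this

theorem exists_minimal_normal [Finite G] (Q : Subgroup G) [hQn : Q.Normal] (hQ : IsPGroup 2 Q)
    (hQ1 : Q ≠ ⊥) :
    ∃ A : Subgroup G, A.Normal ∧ A ≤ Q ∧ A ≠ ⊥ ∧ (∀ x ∈ A, ∀ y ∈ A, x * y = y * x) ∧
      (∀ x ∈ A, x * x = 1) ∧ ∀ B : Subgroup G, B.Normal → B ≤ A → B = ⊥ ∨ B = A := by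
  haveI : Fact (Nat.Prime 2) := ⟨Nat.prime_two⟩
  let Z1 : Subgroup G :=
    { carrier := {x | x ∈ Q ∧ (∀ q ∈ Q, q * x = x * q) ∧ x * x = 1}
      mul_mem' := by
        rintro x y ⟨hx, hxc, hx2⟩ ⟨hy, hyc, hy2⟩
        refine ⟨Q.mul_mem hx hy, fun q hq => ?_, ?_⟩
        · rw [← mul_assoc, hxc q hq, mul_assoc, hyc q hq, ← mul_assoc]
        · have e1 : x * y * (x * y) = x * (y * x) * y := by group
          have e2 : x * (x * y) * y = (x * x) * (y * y) := by group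
          rw [e1, hxc y hy, e2, hx2, hy2, one_mul]
      one_mem' := ⟨Q.one_mem, fun q _ => by simp, by simp⟩
      inv_mem' := by
        rintro x ⟨hx, hxc, hx2⟩
        have hxi : x⁻¹ = x := inv_eq_of_mul_eq_one_left hx2
        rw [Set.mem_setOf_eq, hxi]
        exact ⟨hx, hxc, hx2⟩ }
  have hZ1mem : ∀ x, x ∈ Z1 ↔ x ∈ Q ∧ (∀ q ∈ Q, q * x = x * q) ∧ x * x = 1 := fun x => Iff.rfl
  have hZ1Q : Z1 ≤ Q := fun x hx => ((hZ1mem x).1 hx).1
  have hZ1n : Z1.Normal := by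
    constructor
    intro x hx g
    obtain ⟨hxQ, hxc, hx2⟩ := (hZ1mem x).1 hx
    rw [hZ1mem]
    refine ⟨hQn.conj_mem x hxQ g, fun q hq => ?_, ?_⟩
    · have hq' : g⁻¹ * q * g ∈ Q := by
        have := hQn.conj_mem q hq g⁻¹
        rwa [inv_inv] at this
      have hc := hxc _ hq'
      calc q * (g * x * g⁻¹) = g * ((g⁻¹ * q * g) * x) * g⁻¹ := by group
        _ = g * (x * (g⁻¹ * q * g)) * g⁻¹ := by rw [hc]
        _ = g * x * g⁻¹ * q := by group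
    · have e : g * x * g⁻¹ * (g * x * g⁻¹) = g * (x * x) * g⁻¹ := by group
      rw [e, hx2]; group
  have hZ1ne : Z1 ≠ ⊥ := by
    obtain ⟨z, hzQ, hz1, hz2, hzc⟩ := exists_central_order_p Q hQ hQ1
    intro e
    apply hz1
    have hz : z ∈ Z1 := by
      rw [hZ1mem]
      exact ⟨hzQ, hzc, by rw [← pow_two]; exact hz2⟩
    rw [e, Subgroup.mem_bot] at hz
    exact hz
  obtain ⟨A, hA, hmin⟩ := WellFounded.has_min
    (InvImage.wf (fun H : Subgroup G => Nat.card H) Nat.lt_wfRel.wf)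
    {A : Subgroup G | A.Normal ∧ A ≤ Z1 ∧ A ≠ ⊥} ⟨Z1, hZ1n, le_rfl, hZ1ne⟩
  obtain ⟨hAn, hAZ, hA1⟩ := hA
  refine ⟨A, hAn, hAZ.trans hZ1Q, hA1, ?_, ?_, ?_⟩
  · intro x hx y hy
    exact (((hZ1mem x).1 (hAZ hx)).2.1 y (hZ1Q (hAZ hy))).symm
  · intro x hx
    exact ((hZ1mem x).1 (hAZ hx)).2.2
  · intro B hBn hBA
    by_cases hB : B = ⊥
    · left; exact hB
    · right
      have hcard : ¬ Nat.card B < Nat.card A := hmin B ⟨hBn, hBA.trans hAZ, hB⟩
      exact Subgroup.eq_of_le_of_card_ge hBA (not_lt.1 hcard)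

end Cfsg.Agent.Lib.Lead.TTA
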