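import Mathlib
import Cfsg.Agent.Lib.Lead.TTC

set_option autoImplicit false

namespace Cfsg.Agent.Lib.Lead.TTA

section Module

variable {M : Type*} [Group M]

theorem modA (hcomm : ∀ s t : M, s * t = t * s) (hexp : ∀ s : M, s * s = 1)
    (α ζ : M ≃* M) (u : M) (hαu : α u = u) (hζ3 : ∀ s, ζ (ζ (ζ s)) = s)
    (hαζ : ∀ s, α (ζ s) = ζ.symm (α s)) (hfix : ∀ s, ζ s = s → s = 1) :
    ∃ v, u = v * α v := by
  haveI : Std.Commutative (α := M) (· * ·) := ⟨hcomm⟩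
  have hζζ : ∀ s, ζ (ζ s) = ζ.symm s := by
    intro s
    apply ζ.injective
    rw [hζ3, MulEquiv.apply_symm_apply]
  have hN : ζ (u * ζ u * ζ.symm u) = u * ζ u * ζ.symm u := by
    rw [map_mul, map_mul, MulEquiv.apply_symm_apply, hζζ]
    ac_rfl
  have hN1 := hfix _ hN
  refine ⟨ζ u, ?_⟩
  rw [hαζ, hαu]
  have h2 := hexp (ζ u * ζ.symm u)
  calc u = u * ((ζ u * ζ.symm u) * (ζ u * ζ.symm u)) := by rw [h2, mul_one]
    _ = (u * ζ u * ζ.symm u) * (ζ u * ζ.symm u) := by group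
    _ = ζ u * ζ.symm u := by rw [hN1, one_mul]

theorem modB (hcomm : ∀ s t : M, s * t = t * s) (hexp : ∀ s : M, s * s = 1)
    (α η ζ : M ≃* M) (u : M) (hαu : α u = u) (hη3 : ∀ s, η (η (η s)) = s)
    (hαη : ∀ s, α (η s) = η.symm (α s)) (hηζ : ∀ s, η (ζ s) = ζ (η s))
    (hfix : ∀ s, ζ s = s → s = 1)
    (hc : (u * ζ u) * η (u * ζ u) * η (η (u * ζ u)) = 1) : ∃ v, u = v * α v := by
  haveI : Std.Commutative (α := M) (· * ·) := ⟨hcomm⟩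
  have hηη : ∀ s, η (η s) = η.symm s := by
    intro s
    apply η.injective
    rw [hη3, MulEquiv.apply_symm_apply]
  have e : (u * ζ u) * η (u * ζ u) * η (η (u * ζ u))
      = (u * η u * η (η u)) * ζ (u * η u * η (η u)) := by
    simp only [map_mul, hηζ]
    ac_rfl
  rw [e] at hc
  have h1 : ζ (u * η u * η (η u)) = (u * η u * η (η u))⁻¹ := eq_inv_of_mul_eq_one_right hc
  have h2 : (u * η u * η (η u))⁻¹ = u * η u * η (η u) := inv_eq_of_mul_eq_one_left (hexp _)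
  have hN1 := hfix _ (h1.trans h2)
  refine ⟨η u, ?_⟩
  rw [hαη, hαu, ← hηη]
  have h3 := hexp (η u * η (η u))
  calc u = u * ((η u * η (η u)) * (η u * η (η u))) := by rw [h3, mul_one]
    _ = (u * η u * η (η u)) * (η u * η (η u)) := by group
    _ = η u * η (η u) := by rw [hN1, one_mul]

end Module

variable {G : Type*} [Group G]

theorem exists_pow_eq (A : Subgroup G) [hA : A.Normal] (g : G) :
    ∀ n : ℕ, ∀ s ∈ A, ∃ s' ∈ A, (s * g) ^ n = s' * g ^ n := by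
  intro n
  induction n with
  | zero => intro s _; exact ⟨1, A.one_mem, by simp⟩
  | succ n ih =>
    intro s hs
    obtain ⟨s', hs', e⟩ := ih s hs
    refine ⟨s' * (g ^ n * s * (g ^ n)⁻¹), A.mul_mem hs' (hA.conj_mem s hs _), ?_⟩
    rw [pow_succ, e, pow_succ]; group

theorem pow_eq_one_of_mul (A P : Subgroup G) [A.Normal] (hdisj : ∀ x ∈ A, x ∈ P → x = 1)
    {s g : G} (hs : s ∈ A) (hg : g ∈ P) {n : ℕ} (h : (s * g) ^ n = 1) : g ^ n = 1 := by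
  obtain ⟨s', hs', e⟩ := exists_pow_eq A g n s hs
  rw [h] at e
  have e2 : g ^ n = s'⁻¹ := eq_inv_of_mul_eq_one_right e.symm
  refine hdisj _ ?_ (P.pow_mem hg n)
  rw [e2]; exact A.inv_mem hs'

theorem eq_one_of_pow_four {y : G} {k : ℕ} (h1 : y ^ 3 ^ k = 1) (h2 : y ^ 4 = 1) : y = 1 := by
  have := pow_gcd_eq_one.2 ⟨h1, h2⟩
  have hc : (3 ^ k).gcd 4 = 1 := Nat.Coprime.pow_left k (by norm_num)
  rw [hc, pow_one] at this
  exact this

theorem cube_eq_one_of_pow_six {y : G} {k : ℕ} (h1 : y ^ 3 ^ k = 1) (h2 : y ^ 6 = 1) :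
    y ^ 3 = 1 := by
  have h1' : (y ^ 3) ^ 3 ^ k = 1 := by rw [← pow_mul, mul_comm, pow_mul, h1, one_pow]
  have h2' : (y ^ 3) ^ 2 = 1 := by rw [← pow_mul]; exact h2
  have := pow_gcd_eq_one.2 ⟨h1', h2'⟩
  have hc : (3 ^ k).gcd 2 = 1 := Nat.Coprime.pow_left k (by norm_num)
  rw [hc, pow_one] at this
  exact this

theorem caseB_core (A P : Subgroup G) [hAn : A.Normal]
    (hAc : ∀ x ∈ A, ∀ y ∈ A, x * y = y * x) (hdisj : ∀ x ∈ A, x ∈ P → x = 1)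
    {s c y : G} {k : ℕ} (hs : s ∈ A) (hc : c ∈ A) (hy : y ∈ P) (hy1 : y ≠ 1)
    (hk : y ^ 3 ^ k = 1) (hx3 : (s * (y⁻¹ * y⁻¹)) ^ 3 = 1)
    (hcx : (c * (s * (y⁻¹ * y⁻¹))) ^ 2 = 1 ∨ (c * (s * (y⁻¹ * y⁻¹))) ^ 3 = 1) :
    y ^ 3 = 1 ∧ c * (y * c * y⁻¹) * (y * (y * c * y⁻¹) * y⁻¹) = 1 := by
  have hg : y⁻¹ * y⁻¹ ∈ P := P.mul_mem (P.inv_mem hy) (P.inv_mem hy)
  have hgpow : ∀ n : ℕ, (y⁻¹ * y⁻¹) ^ n = 1 → y ^ (2 * n) = 1 := by
    intro n hn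
    have e : y⁻¹ * y⁻¹ = (y ^ 2)⁻¹ := by rw [pow_two, mul_inv_rev]
    rw [e, inv_pow, inv_eq_one, ← pow_mul] at hn
    exact hn
  have hy3 : y ^ 3 = 1 :=
    cube_eq_one_of_pow_six hk (hgpow 3 (pow_eq_one_of_mul A P hdisj hs hg hx3))
  refine ⟨hy3, ?_⟩
  have hcx3 : (c * (s * (y⁻¹ * y⁻¹))) ^ 3 = 1 := by
    rcases hcx with h2 | h3
    · exfalso
      rw [← mul_assoc] at h2
      have := hgpow 2 (pow_eq_one_of_mul A P hdisj (A.mul_mem hc hs) hg h2)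
      exact hy1 (eq_one_of_pow_four hk this)
    · exact h3
  have hyyy : y * y * y = 1 := by rw [← hy3, pow_succ, pow_two]
  have hgy : y⁻¹ * y⁻¹ = y := by
    calc y⁻¹ * y⁻¹ = y⁻¹ * y⁻¹ * (y * y * y) := by rw [hyyy, mul_one]
      _ = y := by group
  rw [hgy] at hx3 hcx3
  -- conjugation by x = s * y on A equals conjugation by y
  have hconj : ∀ t ∈ A, (s * y) * t * (s * y)⁻¹ = y * t * y⁻¹ := by
    intro t ht
    have hyt : y * t * y⁻¹ ∈ A := hAn.conj_mem t ht y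
    have e1 : (s * y) * t * (s * y)⁻¹ = s * (y * t * y⁻¹) * s⁻¹ := by group
    rw [e1, hAc s hs _ hyt]; group
  have hexp : ∀ x : G, (c * x) ^ 3
      = c * (x * c * x⁻¹) * (x * (x * c * x⁻¹) * x⁻¹) * x ^ 3 := by
    intro x
    simp only [pow_succ, pow_zero, one_mul]
    group
  rw [hexp (s * y), hx3, mul_one, hconj c hc, hconj _ (hAn.conj_mem c hc y)] at hcx3
  exact hcx3

theorem caseB_key {D : Set G} (h : TT D) (A P : Subgroup G) [hAn : A.Normal]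
    (hAc : ∀ x ∈ A, ∀ y ∈ A, x * y = y * x) (hA2 : ∀ x ∈ A, x * x = 1)
    (hdisj : ∀ x ∈ A, x ∈ P → x = 1) (hP3 : IsPGroup 3 P)
    {a u y z : G} (hd : a * u ∈ D) (hu : u ∈ A) (hau : a * u = u * a)
    (hy : y ∈ P) (hy1 : y ≠ 1) (hay : a * y * a⁻¹ = y⁻¹) (hza : a * z = z * a) :
    y ^ 3 = 1 ∧
      (u * (z * u * z⁻¹)) * (y * (u * (z * u * z⁻¹)) * y⁻¹)
        * (y * (y * (u * (z * u * z⁻¹)) * y⁻¹) * y⁻¹) = 1 := by
  have hdinv : (a * u)⁻¹ = a * u := h.inv_eq hd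
  obtain ⟨k, hk⟩ := hP3 ⟨y, hy⟩
  have hk' : y ^ 3 ^ k = 1 := by simpa using congrArg Subtype.val hk
  have hg : y⁻¹ * y⁻¹ ∈ P := P.mul_mem (P.inv_mem hy) (P.inv_mem hy)
  have hgpow : ∀ n : ℕ, (y⁻¹ * y⁻¹) ^ n = 1 → y ^ (2 * n) = 1 := by
    intro n hn
    have e : y⁻¹ * y⁻¹ = (y ^ 2)⁻¹ := by rw [pow_two, mul_inv_rev]
    rw [e, inv_pow, inv_eq_one, ← pow_mul] at hn
    exact hn
  have he : y * (a * u) * y⁻¹ ∈ D := h.conj y _ hd
  have hs : a * (u * (y * u⁻¹ * y⁻¹)) * a⁻¹ ∈ A :=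
    hAn.conj_mem _ (A.mul_mem hu (hAn.conj_mem _ (A.inv_mem hu) y)) a
  have hx : (a * u) * (y * (a * u) * y⁻¹)
      = (a * (u * (y * u⁻¹ * y⁻¹)) * a⁻¹) * (y⁻¹ * y⁻¹) := by
    have e1 : (a * u) * (y * (a * u) * y⁻¹) = (a * u) * y * (a * u)⁻¹ * y⁻¹ := by
      rw [hdinv]; group
    have e2 : (a * u) * y * (a * u)⁻¹ * y⁻¹
        = (a * (u * (y * u⁻¹ * y⁻¹)) * a⁻¹) * ((a * y * a⁻¹) * y⁻¹) := by group
    rw [e1, e2, hay]
  have hx3 : ((a * (u * (y * u⁻¹ * y⁻¹)) * a⁻¹) * (y⁻¹ * y⁻¹)) ^ 3 = 1 := by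
    rcases h.ord _ hd _ he with h2 | h3
    · exfalso
      rw [hx] at h2
      have := hgpow 2 (pow_eq_one_of_mul A P hdisj hs hg h2)
      exact hy1 (eq_one_of_pow_four hk' this)
    · rw [hx] at h3; exact h3
  have hzu : z * u * z⁻¹ ∈ A := hAn.conj_mem u hu z
  have hc : u * (z * u * z⁻¹) ∈ A := A.mul_mem hu hzu
  have hd' : z * (a * u) * z⁻¹ = (a * u) * (u * (z * u * z⁻¹)) := by
    have e1 : z * (a * u) * z⁻¹ = (z * a) * u * z⁻¹ := by group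
    have e2 : (a * u) * (u * (z * u * z⁻¹)) = a * (u * u) * (z * u * z⁻¹) := by group
    rw [e1, ← hza, e2, hA2 u hu]; group
  have hcau : Commute a u := hau
  have hcaz : Commute a z := hza
  have hca1 : Commute a (z * u * z⁻¹) := (hcaz.mul_right hcau).mul_right hcaz.inv_right
  have hcac : Commute a (u * (z * u * z⁻¹)) := hcau.mul_right hca1
  have hcuc : Commute u (u * (z * u * z⁻¹)) := hAc u hu _ hc
  have hcdc : Commute (a * u) (u * (z * u * z⁻¹)) := hcac.mul_left hcuc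
  have hd'D : z * (a * u) * z⁻¹ ∈ D := h.conj z _ hd
  have hx' : (z * (a * u) * z⁻¹) * (y * (a * u) * y⁻¹)
      = (u * (z * u * z⁻¹)) * ((a * (u * (y * u⁻¹ * y⁻¹)) * a⁻¹) * (y⁻¹ * y⁻¹)) := by
    rw [hd', hcdc.eq, mul_assoc, hx]
  have hcx := h.ord _ hd'D _ he
  rw [hx'] at hcx
  exact caseB_core A P hAc hdisj hs hc hy hy1 hk' hx3 hcx

theorem good_of_v (A P : Subgroup G) (hAc : ∀ x ∈ A, ∀ y ∈ A, x * y = y * x)
    (hA2 : ∀ x ∈ A, x * x = 1) (hP3 : IsPGroup 3 P) (hPidx : ¬ 3 ∣ P.index) {a u v : G}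
    (ha2 : a * a = 1) (hnorm : ∀ p ∈ P, a * p * a⁻¹ ∈ P) (hv : v ∈ A)
    (hav : a * v * a⁻¹ ∈ A) (huv : u = v * (a * v * a⁻¹)) : Good (a * u) := by
  have hainv : a⁻¹ = a := inv_eq_of_mul_eq_one_left ha2
  have key : (a * u) * v = v * a := by
    have e1 : u * v = a * v * a⁻¹ := by
      rw [huv, mul_assoc, hAc _ hav _ hv, ← mul_assoc, hA2 v hv, one_mul]
    calc (a * u) * v = a * (u * v) := by rw [mul_assoc]
      _ = a * (a * v * a⁻¹) := by rw [e1]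
      _ = (a * a) * v * a⁻¹ := by group
      _ = v * a := by rw [ha2, one_mul, hainv]
  refine ⟨P.map (MulAut.conj v).toMonoidHom, hP3.map _, ?_, ?_⟩
  · have := Subgroup.index_map_equiv P (MulAut.conj v)
    rw [← this] at hPidx
    exact hPidx
  · rintro _ ⟨p, hp, rfl⟩
    refine ⟨a * p * a⁻¹, hnorm p hp, ?_⟩
    simp only [MulEquiv.coe_toMonoidHom, MulAut.conj_apply]
    have e2 : (a * u) * (v * p * v⁻¹) * (a * u)⁻¹
        = ((a * u) * v) * p * ((a * u) * v)⁻¹ := by group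
    rw [e2, key]; group

end Cfsg.Agent.Lib.Lead.TTA
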