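import Mathlib
import Cfsg.Agent.Lib.Lead.TTD

set_option autoImplicit false

namespace Cfsg.Agent.Lib.Lead.TTA

universe u

variable {G : Type u} [Group G]

theorem exists_complement [Finite G] (A X : Subgroup G) [hAn : A.Normal] [hXn : X.Normal]
    (hA2g : IsPGroup 2 A) (hAX : A ≤ X) (hX3 : ∀ x ∈ X, ∃ k : ℕ, x ^ 3 ^ k ∈ A)
    (hXidx : ¬ 3 ∣ X.index) :
    ∃ P : Subgroup G, IsPGroup 3 P ∧ ¬ 3 ∣ P.index ∧ P ≤ X ∧ (∀ x ∈ A, x ∈ P → x = 1) ∧
      A ⊔ P = X ∧ Subgroup.normalizer (P : Set G) ⊔ X = ⊤ := by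
  haveI : Fact (Nat.Prime 2) := ⟨Nat.prime_two⟩
  haveI : Fact (Nat.Prime 3) := ⟨by norm_num⟩
  have hN2 : IsPGroup 2 (A.subgroupOf X) := by
    rintro ⟨⟨x, hxX⟩, hxA⟩
    rw [Subgroup.mem_subgroupOf] at hxA
    obtain ⟨k, hk⟩ := hA2g ⟨x, hxA⟩
    refine ⟨k, ?_⟩
    have hk' := congrArg Subtype.val hk
    apply Subtype.ext; apply Subtype.ext
    simpa using hk'
  have hQ3 : IsPGroup 3 (↥X ⧸ A.subgroupOf X) := by
    intro q
    refine QuotientGroup.induction_on q (fun x => ?_)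
    obtain ⟨k, hk⟩ := hX3 x.1 x.2
    refine ⟨k, ?_⟩
    rw [← QuotientGroup.mk_pow, QuotientGroup.eq_one_iff, Subgroup.mem_subgroupOf,
      Subgroup.coe_pow]
    exact hk
  obtain ⟨a', ha'⟩ := IsPGroup.iff_card.1 hN2
  obtain ⟨b', hb'⟩ := IsPGroup.iff_card.1 hQ3
  have hcop : Nat.Coprime (Nat.card (A.subgroupOf X)) (A.subgroupOf X).index := by
    rw [ha', Subgroup.index_eq_card, hb']
    exact Nat.Coprime.pow _ _ (by norm_num)
  obtain ⟨K, hK⟩ := Subgroup.exists_right_complement'_of_coprime hcop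
  have hKcard : Nat.card K = 3 ^ b' := by
    rw [← hK.symm.index_eq_card, Subgroup.index_eq_card, hb']
  have hK3 : IsPGroup 3 K := IsPGroup.of_card hKcard
  have hKnd : ¬ 3 ∣ K.index := by
    rw [hK.index_eq_card, ha']
    intro hdvd
    have := Nat.Prime.dvd_of_dvd_pow (by norm_num : Nat.Prime 3) hdvd
    omega
  refine ⟨K.map X.subtype, hK3.map _, ?_, Subgroup.map_subtype_le K, ?_, ?_, ?_⟩
  · rw [Subgroup.index_map_subtype]
    intro hdvd
    rcases (Nat.Prime.dvd_mul (by norm_num : Nat.Prime 3)).1 hdvd with h1 | h2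
    · exact hKnd h1
    · exact hXidx h2
  · rintro x hxA ⟨k, hk, rfl⟩
    have hkA : k ∈ A.subgroupOf X := by rw [Subgroup.mem_subgroupOf]; exact hxA
    have := (Subgroup.disjoint_def.1 hK.disjoint) hkA hk
    rw [this, map_one]
  · have h2 := congrArg (Subgroup.map X.subtype) hK.sup_eq_top
    rw [Subgroup.map_sup, Subgroup.subgroupOf_map_subtype, inf_of_le_left hAX,
      ← MonoidHom.range_eq_map, Subgroup.range_subtype] at h2
    exact h2
  · have := Sylow.normalizer_sup_eq_top (hK3.toSylow hKnd)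
    rwa [IsPGroup.toSylow_coe] at this

theorem no_central_a {D : Set G} (h : TT D) {d : G} (hd : d ∈ D) (A P : Subgroup G)
    [hAn : A.Normal] (hA2g : IsPGroup 2 A) (hAPd : A ⊔ P ⊔ Subgroup.zpowers d = ⊤) {a w z : G}
    (hw : w ∈ A) (hdaw : d = a * w) (hcent : ∀ p ∈ P, a * p * a⁻¹ = p) (hzP : z ∈ P)
    (hz1 : z ≠ 1) (hz3 : z ^ 3 = 1) : False := by
  haveI : Fact (Nat.Prime 2) := ⟨Nat.prime_two⟩
  -- the image of d is central in G ⧸ A
  have hZ : ∀ g : G, (QuotientGroup.mk' A d) * (QuotientGroup.mk' A g)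
      = (QuotientGroup.mk' A g) * (QuotientGroup.mk' A d) := by
    have hgen : Subgroup.closure ((A : Set G) ∪ (P : Set G) ∪ {a}) = ⊤ := by
      rw [eq_top_iff, ← hAPd]
      have hAcl : A ≤ Subgroup.closure ((A : Set G) ∪ (P : Set G) ∪ {a}) :=
        fun x hx => Subgroup.subset_closure (Or.inl (Or.inl hx))
      have hPcl : P ≤ Subgroup.closure ((A : Set G) ∪ (P : Set G) ∪ {a}) :=
        fun x hx => Subgroup.subset_closure (Or.inl (Or.inr hx))
      have hacl : a ∈ Subgroup.closure ((A : Set G) ∪ (P : Set G) ∪ {a}) :=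
        Subgroup.subset_closure (Or.inr rfl)
      refine sup_le (sup_le hAcl hPcl) ?_
      rw [Subgroup.zpowers_le, hdaw]
      exact mul_mem hacl (hAcl hw)
    have hle : Subgroup.closure ((A : Set G) ∪ (P : Set G) ∪ {a})
        ≤ (Subgroup.centralizer ({QuotientGroup.mk' A d} : Set (G ⧸ A))).comap
          (QuotientGroup.mk' A) := by
      rw [Subgroup.closure_le]
      intro g hg
      rw [SetLike.mem_coe, Subgroup.mem_comap, Subgroup.mem_centralizer_iff]
      intro x hx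
      rw [Set.mem_singleton_iff.1 hx, ← map_mul, ← map_mul, QuotientGroup.mk'_apply,
        QuotientGroup.mk'_apply, QuotientGroup.eq]
      rcases hg with (hgA | hgP) | hga
      · have e : (d * g)⁻¹ * (g * d) = g⁻¹ * (d⁻¹ * g * d⁻¹⁻¹) := by group
        rw [e]
        exact A.mul_mem (A.inv_mem hgA) (hAn.conj_mem g hgA d⁻¹)
      · have hag : a⁻¹ * g * a = g := by
          have := hcent g hgP
          calc a⁻¹ * g * a = a⁻¹ * (a * g * a⁻¹) * a := by rw [this]
            _ = g := by group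
        have e : (d * g)⁻¹ * (g * d) = g⁻¹ * w⁻¹ * (a⁻¹ * g * a) * w := by
          rw [hdaw]; group
        rw [e, hag]
        have := hAn.conj_mem w⁻¹ (A.inv_mem hw) g⁻¹
        rw [inv_inv] at this
        exact A.mul_mem this hw
      · rw [Set.mem_singleton_iff] at hga
        have e : (d * g)⁻¹ * (g * d) = (a⁻¹ * w⁻¹ * a⁻¹⁻¹) * w := by
          rw [hga, hdaw]; group
        rw [e]
        exact A.mul_mem (hAn.conj_mem w⁻¹ (A.inv_mem hw) a⁻¹) hw
    intro g
    have hg : g ∈ (Subgroup.centralizer ({QuotientGroup.mk' A d} : Set (G ⧸ A))).comap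
        (QuotientGroup.mk' A) := hle (hgen ▸ Subgroup.mem_top g)
    rw [Subgroup.mem_comap, Subgroup.mem_centralizer_iff] at hg
    exact hg _ rfl
  -- D ⊆ A ⊔ zpowers d
  have hT0 : A ⊔ Subgroup.zpowers d = ⊤ := by
    rw [eq_top_iff, ← h.gen, Subgroup.closure_le]
    intro x hx
    obtain ⟨g, rfl⟩ := h.trans d hd x hx
    have h1 : QuotientGroup.mk' A (g * d * g⁻¹) = QuotientGroup.mk' A d := by
      rw [map_mul, map_mul, ← hZ g, map_inv]; group
    rw [QuotientGroup.mk'_apply, QuotientGroup.mk'_apply, QuotientGroup.eq] at h1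
    have h2 := A.inv_mem h1
    rw [SetLike.mem_coe]
    have e2 : g * d * g⁻¹ = d * (((g * d * g⁻¹)⁻¹ * d)⁻¹) := by group
    rw [e2]
    exact mul_mem (Subgroup.mem_sup_right (Subgroup.mem_zpowers d)) (Subgroup.mem_sup_left h2)
  have hzd : IsPGroup 2 (Subgroup.zpowers d) := by
    rintro ⟨x, hx⟩
    obtain ⟨k, rfl⟩ := Subgroup.mem_zpowers_iff.1 hx
    refine ⟨1, Subtype.ext ?_⟩
    show (d ^ k) ^ 2 ^ 1 = 1
    rw [pow_one, ← zpow_natCast, ← zpow_mul, mul_comm, zpow_mul, zpow_natCast, pow_two,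
      h.sq d hd, one_zpow]
  have hT2 : IsPGroup 2 (A ⊔ Subgroup.zpowers d : Subgroup G) :=
    IsPGroup.to_sup_of_normal_left hA2g hzd
  have hzT : z ∈ A ⊔ Subgroup.zpowers d := hT0 ▸ Subgroup.mem_top z
  obtain ⟨k, hk⟩ := hT2 ⟨z, hzT⟩
  have hk' : z ^ 2 ^ k = 1 := by simpa using congrArg Subtype.val hk
  have := pow_gcd_eq_one.2 ⟨hk', hz3⟩
  have hc : (2 ^ k).gcd 3 = 1 := Nat.Coprime.pow_left k (by norm_num)
  rw [hc, pow_one] at this
  exact hz1 this

end Cfsg.Agent.Lib.Lead.TTA
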