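import Mathlib
import Cfsg.Agent.Lib.Lead.TTE

set_option autoImplicit false

namespace Cfsg.Agent.Lib.Lead.TTA

universe u

variable {G : Type u} [Group G]

theorem good_final [Finite G] {D : Set G} (h : TT D) {d : G} (hd : d ∈ D)
    (ih : IHyp.{u} (Nat.card G)) (A : Subgroup G) [hAn : A.Normal] (hA1 : A ≠ ⊥)
    (hA2g : IsPGroup 2 A) (hAc : ∀ x ∈ A, ∀ y ∈ A, x * y = y * x) (hA2 : ∀ x ∈ A, x * x = 1)
    (hAmin : ∀ B : Subgroup G, B.Normal → B ≤ A → B = ⊥ ∨ B = A)
    (X : Subgroup G) (hAX : A ≤ X) (hX3 : ∀ x ∈ X, ∃ k : ℕ, x ^ 3 ^ k ∈ A)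
    (hXidx : ¬ 3 ∣ X.index) (hXinv : ∀ x ∈ X, d * x * d⁻¹ ∈ X)
    (hG1 : X ⊔ Subgroup.zpowers d = ⊤) : Good d := by
  haveI : Fact (Nat.Prime 2) := ⟨Nat.prime_two⟩
  haveI : Fact (Nat.Prime 3) := ⟨by norm_num⟩
  have hd2 : d * d = 1 := h.sq d hd
  have hdinv : d⁻¹ = d := h.inv_eq hd
  have hodd : ∀ (w : G), w * w = 1 → ∀ k : ℕ, w ^ 3 ^ k = w := by
    intro w hw k
    obtain ⟨m, hm⟩ : Odd (3 ^ k) := Odd.pow (by decide)
    rw [hm, pow_succ, pow_mul, pow_two, hw, one_pow, one_mul]
  -- X is normal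
  have hXn : X.Normal := by
    rw [← Subgroup.normalizer_eq_top_iff, eq_top_iff, ← hG1]
    refine sup_le Subgroup.le_normalizer ?_
    rw [Subgroup.zpowers_le, Subgroup.mem_normalizer_iff]
    intro x
    constructor
    · exact hXinv x
    · intro hx
      have := hXinv _ hx
      have e : d * (d * x * d⁻¹) * d⁻¹ = x := by
        rw [hdinv]
        have e' : d * (d * x * d) * d = (d * d) * x * (d * d) := by group
        rw [e', hd2]; group
      rwa [e] at this
  haveI := hXn
  obtain ⟨P, hP3, hPidx, hPX, hdisj, hAPX, hfr⟩ :=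
    exists_complement A X hA2g hAX hX3 hXidx
  -- the centralizer of X in A
  rcases hAmin (A ⊓ Subgroup.centralizer (X : Set G)) inferInstance inf_le_left with hC | hC
  swap
  · -- A is central in X
    have hAcent : ∀ w ∈ A, ∀ x ∈ X, x * w = w * x := by
      intro w hw x hx
      have : w ∈ A ⊓ Subgroup.centralizer (X : Set G) := by rw [hC]; exact hw
      exact (Subgroup.mem_centralizer_iff.1 (Subgroup.mem_inf.1 this).2) x hx
    refine ⟨P, hP3, hPidx, fun p hp => ?_⟩
    have hdp : d * p * d⁻¹ ∈ A ⊔ P := by rw [hAPX]; exact hXinv p (hPX hp)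
    obtain ⟨w, hw, p', hp', hwp⟩ := Subgroup.mem_sup_of_normal_left.1 hdp
    obtain ⟨k, hk⟩ := hP3 ⟨p, hp⟩
    have hk' : p ^ 3 ^ k = 1 := by simpa using congrArg Subtype.val hk
    have h1 : (w * p') ^ 3 ^ k = 1 := by rw [hwp, conj_pow, hk']; group
    have hcomm : Commute w p' := (hAcent w hw p' (hPX hp')).symm
    rw [hcomm.mul_pow, hodd w (hA2 w hw)] at h1
    have hw1 : w = 1 := by
      have e : w = (p' ^ 3 ^ k)⁻¹ := eq_inv_of_mul_eq_one_left h1
      refine hdisj w hw ?_
      rw [e]; exact P.inv_mem (P.pow_mem hp' _)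
    rw [← hwp, hw1, one_mul]
    exact hp'
  -- now C_A(X) = 1
  have hCbot : ∀ t ∈ A, (∀ x ∈ X, x * t = t * x) → t = 1 := by
    intro t ht hcomm
    have : t ∈ A ⊓ Subgroup.centralizer (X : Set G) :=
      Subgroup.mem_inf.2 ⟨ht, Subgroup.mem_centralizer_iff.2 hcomm⟩
    rw [hC, Subgroup.mem_bot] at this
    exact this
  -- Frattini
  have hdmem : d ∈ Subgroup.normalizer (P : Set G) ⊔ X := hfr ▸ Subgroup.mem_top d
  obtain ⟨n, hn, x, hx, hnx⟩ := Subgroup.mem_sup_of_normal_right.1 hdmem
  have hx' : x ∈ P ⊔ A := by rw [sup_comm, hAPX]; exact hx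
  obtain ⟨p, hp, w, hw, hpw⟩ := Subgroup.mem_sup_of_normal_right.1 hx'
  obtain ⟨a, hadef⟩ : ∃ a, a = n * p := ⟨_, rfl⟩
  have haN : a ∈ Subgroup.normalizer (P : Set G) := by
    rw [hadef]; exact mul_mem hn (Subgroup.le_normalizer hp)
  have hdaw : d = a * w := by rw [hadef, mul_assoc, hpw, hnx]
  have hnorm : ∀ q ∈ P, a * q * a⁻¹ ∈ P :=
    fun q hq => (Subgroup.mem_normalizer_iff.1 haN q).1 hq
  have hnorm' : ∀ q ∈ P, a⁻¹ * q * a ∈ P := by
    intro q hq
    have := (Subgroup.mem_normalizer_iff.1 (inv_mem haN) q).1 hq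
    rwa [inv_inv] at this
  have hNA : ∀ t ∈ A, (∀ q ∈ P, t * q * t⁻¹ ∈ P) → t = 1 := by
    intro t ht hnt
    apply hCbot t ht
    intro x hx
    rw [← hAPX] at hx
    obtain ⟨w', hw', q, hq, rfl⟩ := Subgroup.mem_sup_of_normal_left.1 hx
    have h1 : t * q * t⁻¹ * q⁻¹ = 1 := by
      apply hdisj
      · have e : t * q * t⁻¹ * q⁻¹ = t * (q * t⁻¹ * q⁻¹) := by group
        rw [e]; exact A.mul_mem ht (hAn.conj_mem _ (A.inv_mem ht) q)
      · exact P.mul_mem (hnt q hq) (P.inv_mem hq)
    have h2 : t * q = q * t := by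
      have e : t * q = (t * q * t⁻¹ * q⁻¹) * (q * t) := by group
      rw [e, h1, one_mul]
    calc w' * q * t = w' * (q * t) := by rw [mul_assoc]
      _ = w' * (t * q) := by rw [h2]
      _ = (w' * t) * q := by rw [mul_assoc]
      _ = (t * w') * q := by rw [hAc w' hw' t ht]
      _ = t * (w' * q) := by rw [mul_assoc]
  have ha2 : a * a = 1 := by
    have haA : a * a ∈ A := by
      have e : a = d * w⁻¹ := by rw [hdaw]; group
      have e2 : a * a = (d * w⁻¹ * d⁻¹) * w⁻¹ := by
        rw [hdinv]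
        nth_rewrite 1 [e]
        nth_rewrite 1 [e]
        group
      rw [e2]
      exact A.mul_mem (hAn.conj_mem _ (A.inv_mem hw) d) (A.inv_mem hw)
    apply hNA _ haA
    intro q hq
    have e : a * a * q * (a * a)⁻¹ = a * (a * q * a⁻¹) * a⁻¹ := by group
    rw [e]
    exact hnorm _ (hnorm q hq)
  have hainv : a⁻¹ = a := inv_eq_of_mul_eq_one_left ha2
  have haw : a * w = w * a := by
    have hwinv : w⁻¹ = w := inv_eq_of_mul_eq_one_left (hA2 w hw)
    have h1 : (a * w) * (a * w) = 1 := by rw [← hdaw]; exact hd2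
    have h2 : a * w = (a * w)⁻¹ := eq_inv_of_mul_eq_one_left h1
    rw [mul_inv_rev, hainv, hwinv] at h2
    exact h2
  have hPne : P ≠ ⊥ := by
    intro hP
    apply hA1
    rw [eq_bot_iff]
    intro t ht
    rw [Subgroup.mem_bot]
    apply hCbot t ht
    intro x hx
    rw [← hAPX, hP, sup_bot_eq] at hx
    exact hAc x hx t ht
  obtain ⟨z0, hz0P, hz01, hz03, hz0c⟩ := exists_central_order_p P hP3 hPne
  have hzex : ∃ z ∈ P, z ≠ 1 ∧ z ^ 3 = 1 ∧ (∀ x ∈ P, x * z = z * x) ∧
      (a * z = z * a ∨ a * z * a⁻¹ = z⁻¹) := by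
    by_cases ht : a * z0 * a⁻¹ = z0
    · refine ⟨z0, hz0P, hz01, hz03, hz0c, Or.inl ?_⟩
      calc a * z0 = (a * z0 * a⁻¹) * a := by group
        _ = z0 * a := by rw [ht]
    · have htP : a * z0 * a⁻¹ ∈ P := hnorm z0 hz0P
      have htc : ∀ x ∈ P, Commute x (a * z0 * a⁻¹) := by
        intro x hx
        have hx' := hnorm' x hx
        have hc : Commute (a⁻¹ * x * a) z0 := hz0c _ hx'
        have := (Commute.conj_iff a).2 hc
        have e : a * (a⁻¹ * x * a) * a⁻¹ = x := by group
        rwa [e] at this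
      have hz0t : Commute z0 (a * z0 * a⁻¹) := htc z0 hz0P
      refine ⟨z0⁻¹ * (a * z0 * a⁻¹), P.mul_mem (P.inv_mem hz0P) htP, ?_, ?_, ?_, Or.inr ?_⟩
      · intro e
        apply ht
        have := eq_inv_of_mul_eq_one_right e
        rw [inv_inv] at this
        exact this
      · have hc : Commute z0⁻¹ (a * z0 * a⁻¹) := hz0t.inv_left
        rw [hc.mul_pow, inv_pow, hz03, inv_one, one_mul, conj_pow, hz03]; group
      · intro x hx
        have h1 : Commute x z0⁻¹ := (show Commute x z0 from hz0c x hx).inv_right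
        exact (h1.mul_right (htc x hx)).eq
      · have e : a * (z0⁻¹ * (a * z0 * a⁻¹)) * a⁻¹
            = (a * z0 * a⁻¹)⁻¹ * ((a * a) * z0 * (a * a)⁻¹) := by group
        rw [e, ha2]; group
  obtain ⟨z, hzP, hz1, hz3, hzc, hza⟩ := hzex
  have hzzz : z * z * z = 1 := by rw [← hz3, pow_succ, pow_two]
  -- generators
  have hgen : Subgroup.closure ((A : Set G) ∪ (P : Set G) ∪ {a}) = ⊤ := by
    rw [eq_top_iff, ← hG1]
    have hAcl : A ≤ Subgroup.closure ((A : Set G) ∪ (P : Set G) ∪ {a}) :=
      fun x hx => Subgroup.subset_closure (Or.inl (Or.inl hx))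
    have hPcl : P ≤ Subgroup.closure ((A : Set G) ∪ (P : Set G) ∪ {a}) :=
      fun x hx => Subgroup.subset_closure (Or.inl (Or.inr hx))
    have hacl : a ∈ Subgroup.closure ((A : Set G) ∪ (P : Set G) ∪ {a}) :=
      Subgroup.subset_closure (Or.inr rfl)
    refine sup_le ?_ ?_
    · rw [← hAPX]; exact sup_le hAcl hPcl
    · rw [Subgroup.zpowers_le, hdaw]; exact mul_mem hacl (hAcl hw)
  have hginv : ∀ g ∈ (A : Set G) ∪ (P : Set G) ∪ {a}, g⁻¹ ∈ (A : Set G) ∪ (P : Set G) ∪ {a} := by
    rintro g ((hgA | hgP) | hga)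
    · exact Or.inl (Or.inl (A.inv_mem hgA))
    · exact Or.inl (Or.inr (P.inv_mem hgP))
    · rw [Set.mem_singleton_iff] at hga
      rw [hga, hainv]; exact Or.inr rfl
  -- conjugates of z by generators
  have hzconj : ∀ g ∈ (A : Set G) ∪ (P : Set G) ∪ {a}, (∀ t ∈ A, Commute z t) →
      (g * z * g⁻¹ = z ∨ g * z * g⁻¹ = z⁻¹) := by
    rintro g ((hgA | hgP) | hga) hzA
    · left
      have := (hzA g hgA).eq
      rw [← this]; group
    · left
      have := hzc g hgP
      rw [this]; group
    · rw [Set.mem_singleton_iff] at hga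
      rw [hga]
      rcases hza with hza | hza
      · left; rw [hza]; group
      · right; exact hza
  have hCzmem : ∀ t, t ∈ A → Commute z t → t ∈ A ⊓ Subgroup.centralizer ({z} : Set G) := by
    intro t ht hc
    refine Subgroup.mem_inf.2 ⟨ht, Subgroup.mem_centralizer_iff.2 (fun x hx => ?_)⟩
    rw [Set.mem_singleton_iff.1 hx]; exact hc.eq
  have hCzn : (A ⊓ Subgroup.centralizer ({z} : Set G)).Normal := by
    have key : ∀ g ∈ (A : Set G) ∪ (P : Set G) ∪ {a},
        ∀ c ∈ A ⊓ Subgroup.centralizer ({z} : Set G),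
        g * c * g⁻¹ ∈ A ⊓ Subgroup.centralizer ({z} : Set G) := by
      intro g hg c hc
      obtain ⟨hcA, hcz⟩ := Subgroup.mem_inf.1 hc
      have hcz' : Commute z c := (Subgroup.mem_centralizer_iff.1 hcz) z rfl
      apply hCzmem _ (hAn.conj_mem c hcA g)
      rcases hg with (hgA | hgP) | hga
      · have e : g * c * g⁻¹ = c := by rw [hAc g hgA c hcA]; group
        rw [e]; exact hcz'
      · have hzg : Commute z g := (show Commute g z from hzc g hgP).symm
        exact (hzg.mul_right hcz').mul_right hzg.inv_right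
      · rw [Set.mem_singleton_iff] at hga
        rw [hga]
        rcases hza with hza | hza
        · have hzg : Commute z a := (show Commute a z from hza).symm
          exact (hzg.mul_right hcz').mul_right hzg.inv_right
        · have := (Commute.conj_iff a).2 hcz'
          rw [hza] at this
          exact Commute.inv_left_iff.1 this
    apply normal_of_gens _ _ hgen
    intro g hg c hc
    refine ⟨key g hg c hc, ?_⟩
    have := key g⁻¹ (hginv g hg) c hc
    rwa [inv_inv] at this
  rcases hAmin _ hCzn inf_le_left with hCz | hCz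
  · -- C_A(z) = 1
    have hfix : ∀ s ∈ A, z * s = s * z → s = 1 := by
      intro s hs hzs
      have := hCzmem s hs hzs
      rw [hCz, Subgroup.mem_bot] at this
      exact this
    have hcommA : ∀ s t : ↥A, s * t = t * s := fun s t => Subtype.ext (hAc s s.2 t t.2)
    have hexpA : ∀ s : ↥A, s * s = 1 := fun s => Subtype.ext (hA2 s s.2)
    have hαu : (MulAut.conjNormal a : MulAut ↥A) ⟨w, hw⟩ = ⟨w, hw⟩ := by
      apply Subtype.ext
      rw [MulAut.conjNormal_apply]
      show a * w * a⁻¹ = w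
      rw [haw]; group
    have hfixA : ∀ s : ↥A, (MulAut.conjNormal z : MulAut ↥A) s = s → s = 1 := by
      intro s hs
      have h1 := congrArg Subtype.val hs
      rw [MulAut.conjNormal_apply] at h1
      have h2 : z * (s : G) = s * z := by
        calc z * (s : G) = (z * s * z⁻¹) * z := by group
          _ = s * z := by rw [h1]
      exact Subtype.ext (hfix s s.2 h2)
    have hv : ∃ v ∈ A, w = v * (a * v * a⁻¹) := by
      rcases hza with hza | hza
      · -- case B: a centralizes z
        have hex : ∃ p ∈ P, a * p * a⁻¹ ≠ p := by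
          by_contra hcon
          push_neg at hcon
          have hAPd : A ⊔ P ⊔ Subgroup.zpowers d = ⊤ := by rw [hAPX]; exact hG1
          exact no_central_a h hd A P hA2g hAPd hw hdaw hcon hzP hz1 hz3
        obtain ⟨p0, hp0, hp0ne⟩ := hex
        have hyP : p0⁻¹ * (a * p0 * a⁻¹) ∈ P := P.mul_mem (P.inv_mem hp0) (hnorm p0 hp0)
        have hy1 : p0⁻¹ * (a * p0 * a⁻¹) ≠ 1 := by
          intro e
          apply hp0ne
          have := eq_inv_of_mul_eq_one_right e
          rw [inv_inv] at this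
          exact this
        have hay : a * (p0⁻¹ * (a * p0 * a⁻¹)) * a⁻¹ = (p0⁻¹ * (a * p0 * a⁻¹))⁻¹ := by
          have e : a * (p0⁻¹ * (a * p0 * a⁻¹)) * a⁻¹
              = (a * p0 * a⁻¹)⁻¹ * ((a * a) * p0 * (a * a)⁻¹) := by group
          rw [e, ha2]; group
        have hdD : a * w ∈ D := hdaw ▸ hd
        obtain ⟨hy3, hrel⟩ := caseB_key h A P hAc hA2 hdisj hP3 hdD hw haw hyP hy1 hay hza
        obtain ⟨y, hydef⟩ : ∃ y, y = p0⁻¹ * (a * p0 * a⁻¹) := ⟨_, rfl⟩
        rw [← hydef] at hyP hy1 hay hy3 hrel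
        have hyyy : y * y * y = 1 := by rw [← hy3, pow_succ, pow_two]
        have hyz : y * z = z * y := hzc y hyP
        obtain ⟨v, hv⟩ := modB hcommA hexpA (MulAut.conjNormal a : MulAut ↥A)
          (MulAut.conjNormal y : MulAut ↥A) (MulAut.conjNormal z : MulAut ↥A) ⟨w, hw⟩ hαu
          (by
            intro s
            apply Subtype.ext
            simp only [MulAut.conjNormal_apply]
            have e : y * (y * (y * (s : G) * y⁻¹) * y⁻¹) * y⁻¹
                = (y * y * y) * s * (y * y * y)⁻¹ := by group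
            rw [e, hyyy]; group)
          (by
            intro s
            apply Subtype.ext
            simp only [MulAut.conjNormal_apply, MulAut.conjNormal_symm_apply]
            have e : a * (y * (s : G) * y⁻¹) * a⁻¹
                = (a * y * a⁻¹) * (a * s * a⁻¹) * (a * y * a⁻¹)⁻¹ := by group
            rw [e, hay, inv_inv])
          (by
            intro s
            apply Subtype.ext
            simp only [MulAut.conjNormal_apply]
            have e : y * (z * (s : G) * z⁻¹) * y⁻¹ = (y * z) * s * (y * z)⁻¹ := by group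
            rw [e, hyz]; group)
          hfixA
          (by
            apply Subtype.ext
            simp only [Subgroup.coe_mul, MulAut.conjNormal_apply, Subgroup.coe_one]
            exact hrel)
        refine ⟨v, v.2, ?_⟩
        have := congrArg Subtype.val hv
        simpa [MulAut.conjNormal_apply] using this
      · -- case A: a inverts z
        obtain ⟨v, hv⟩ := modA hcommA hexpA (MulAut.conjNormal a : MulAut ↥A)
          (MulAut.conjNormal z : MulAut ↥A) ⟨w, hw⟩ hαu
          (by
            intro s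
            apply Subtype.ext
            simp only [MulAut.conjNormal_apply]
            have e : z * (z * (z * (s : G) * z⁻¹) * z⁻¹) * z⁻¹
                = (z * z * z) * s * (z * z * z)⁻¹ := by group
            rw [e, hzzz]; group)
          (by
            intro s
            apply Subtype.ext
            simp only [MulAut.conjNormal_apply, MulAut.conjNormal_symm_apply]
            have e : a * (z * (s : G) * z⁻¹) * a⁻¹
                = (a * z * a⁻¹) * (a * s * a⁻¹) * (a * z * a⁻¹)⁻¹ := by group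
            rw [e, hza, inv_inv])
          hfixA
        refine ⟨v, v.2, ?_⟩
        have := congrArg Subtype.val hv
        simpa [MulAut.conjNormal_apply] using this
    obtain ⟨v, hvA, hwv⟩ := hv
    rw [hdaw]
    exact good_of_v A P hAc hA2 hP3 hPidx ha2 hnorm hvA (hAn.conj_mem v hvA a) hwv
  · -- z centralizes A: ⟨z⟩ is a normal 3-subgroup
    have hzA : ∀ t ∈ A, Commute z t := by
      intro t ht
      have : t ∈ A ⊓ Subgroup.centralizer ({z} : Set G) := by rw [hCz]; exact ht
      exact (Subgroup.mem_centralizer_iff.1 (Subgroup.mem_inf.1 this).2) z rfl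
    have hZn : (Subgroup.zpowers z).Normal := by
      have key : ∀ g ∈ (A : Set G) ∪ (P : Set G) ∪ {a}, ∀ c ∈ Subgroup.zpowers z,
          g * c * g⁻¹ ∈ Subgroup.zpowers z := by
        intro g hg c hc
        obtain ⟨k, rfl⟩ := Subgroup.mem_zpowers_iff.1 hc
        rw [← conj_zpow]
        rcases hzconj g hg hzA with e | e
        · rw [e]; exact Subgroup.zpow_mem_zpowers z k
        · rw [e]; exact (Subgroup.zpowers z).zpow_mem (inv_mem (Subgroup.mem_zpowers z)) k
      apply normal_of_gens _ _ hgen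
      intro g hg c hc
      refine ⟨key g hg c hc, ?_⟩
      have := key g⁻¹ (hginv g hg) c hc
      rwa [inv_inv] at this
    haveI := hZn
    have hZne : Subgroup.zpowers z ≠ ⊥ := Subgroup.zpowers_ne_bot.2 hz1
    have hZ3 : IsPGroup 3 (Subgroup.zpowers z) := by
      apply IsPGroup.of_card (n := 1)
      rw [Nat.card_zpowers, pow_one]
      exact orderOf_eq_prime hz3 hz1
    exact good_of_normal_three h hd ih (Subgroup.zpowers z) hZne hZ3

end Cfsg.Agent.Lib.Lead.TTA
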