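import Mathlib
import Cfsg.Agent.Lib.Lead.TTF

set_option autoImplicit false

namespace Cfsg.Agent.Lib.Lead.TTA

universe u

variable {G : Type u} [Group G]

theorem good_step [Finite G] {D : Set G} (h : TT D) {d : G} (hd : d ∈ D)
    (ih : IHyp.{u} (Nat.card G)) : Good d := by
  haveI : Fact (Nat.Prime 2) := ⟨Nat.prime_two⟩
  haveI : Fact (Nat.Prime 3) := ⟨by norm_num⟩
  haveI hQn : (Cfsg.pCore 2 G).Normal := Cfsg.Agent.Lib.Helper1.pCore_normal (G := G) 2
  have hQ2 : IsPGroup 2 (Cfsg.pCore 2 G) := Cfsg.Agent.Lib.Helper1.pCore_isPGroup (G := G) 2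
  have hd2 : d * d = 1 := h.sq d hd
  by_cases hdQ : d ∈ Cfsg.pCore 2 G
  · have hQtop : Cfsg.pCore 2 G = ⊤ := by
      rw [eq_top_iff, ← h.gen, Subgroup.closure_le]
      intro x hx
      obtain ⟨g, rfl⟩ := h.trans d hd x hx
      exact hQn.conj_mem d hdQ g
    refine ⟨⊥, IsPGroup.of_bot, ?_, fun g hg => ?_⟩
    · rw [Subgroup.index_bot]
      obtain ⟨n, hn⟩ := IsPGroup.iff_card.1 hQ2
      have hc : Nat.card G = 2 ^ n := by rw [← hn, hQtop, Subgroup.card_top]
      rw [hc]
      intro hdvd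
      have := Nat.Prime.dvd_of_dvd_pow (by norm_num : Nat.Prime 3) hdvd
      omega
    · rw [Subgroup.mem_bot] at hg ⊢
      rw [hg]; group
  by_cases hQ1 : Cfsg.pCore 2 G = ⊥
  · obtain ⟨R, hRn, hQR, hR3, hRd⟩ := h.structure hd
    haveI := hRn
    refine ⟨R, ?_, ?_, fun g hg => hRn.conj_mem g hg d⟩
    · rintro ⟨r, hr⟩
      obtain ⟨k, hk⟩ := hR3 r hr
      rw [hQ1, Subgroup.mem_bot] at hk
      exact ⟨k, Subtype.ext hk⟩
    · have e1 := Subgroup.relIndex_sup_right (Subgroup.zpowers d) R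
      rw [sup_comm, hRd, Subgroup.relIndex_top_right] at e1
      have e2 : R.index ∣ Nat.card (Subgroup.zpowers d) := by
        rw [e1]; exact Subgroup.relIndex_dvd_card _ _
      rw [Nat.card_zpowers] at e2
      have e3 : orderOf d ∣ 2 := orderOf_dvd_of_pow_eq_one (by rw [pow_two]; exact hd2)
      intro hdvd
      have := (hdvd.trans e2).trans e3
      omega
  · obtain ⟨A, hAn, hAQ, hA1, hAc, hA2, hAmin⟩ :=
      exists_minimal_normal (Cfsg.pCore 2 G) hQ2 hQ1
    haveI := hAn
    obtain ⟨X, hAX, hX3, hXidx, hXinv⟩ := exists_of_quot h hd ih A hA1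
    have hsup := h.sup_eq_top_of_index hd X hXidx
    have hdX1 : d ∈ X ⊔ Subgroup.zpowers d :=
      Subgroup.mem_sup_right (Subgroup.mem_zpowers d)
    have h1Q : (X ⊔ Subgroup.zpowers d) ⊔ Cfsg.pCore 2 G = ⊤ := by
      rw [sup_right_comm]; exact hsup
    rcases top_or_good h hd ih (Cfsg.pCore 2 G) hQ2 (X ⊔ Subgroup.zpowers d) hdX1 h1Q
      with hG1 | hgood
    · exact good_final h hd ih A hA1 (hQ2.to_le hAQ) hAc hA2 hAmin X hAX hX3 hXidx hXinv hG1
    · exact hgood

theorem good_all : ∀ (n : ℕ) (G : Type u) [Group G] [Finite G] (D : Set G), TT D →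
    Nat.card G = n → ∀ d ∈ D, Good d := by
  intro n
  induction n using Nat.strong_induction_on with
  | _ n ih =>
    intro G _ _ D h hcard d hd
    apply good_step h hd
    intro H _ _ E hE hlt e he
    rw [hcard] at hlt
    exact ih (Nat.card H) hlt H E hE rfl e he

/-- Main theorem: the Sylow 3-subgroup normalized by `d` and the generation statement. -/
theorem exists_sylow_of_perp {G : Type u} [Group G] [Finite G] {D : Set G}
    (hD : Cfsg.IsThreeTranspositionClass D) {d : G} (hd : d ∈ D)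
    (hV : {y : G | y ∈ D ∧ Commute d y}
      = {v : G | v ∈ D ∧ ∀ e ∈ D, Commute v e ↔ Commute d e}) :
    ∃ P : Sylow 3 G, d ∈ Subgroup.normalizer (P : Set G) ∧
      Subgroup.zpowers d ⊔ (P : Subgroup G) ⊔ Cfsg.pCore 2 G = ⊤ := by
  haveI : Fact (Nat.Prime 3) := ⟨by norm_num⟩
  have h : TT D := TT.of_class hD hd hV
  obtain ⟨P, hP3, hPidx, hinv⟩ := good_all (Nat.card G) G D h rfl d hd
  refine ⟨hP3.toSylow hPidx, ?_, ?_⟩
  · have hcoe : ((hP3.toSylow hPidx : Sylow 3 G) : Subgroup G) = P := IsPGroup.toSylow_coe hP3 hPidx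
    have hmem : d ∈ Subgroup.normalizer ((P : Subgroup G) : Set G) := by
      rw [Subgroup.mem_normalizer_iff]
      intro x
      constructor
      · exact hinv x
      · intro hx
        have := hinv _ hx
        have hdinv : d⁻¹ = d := h.inv_eq hd
        have hd2 : d * d = 1 := h.sq d hd
        have e : d * (d * x * d⁻¹) * d⁻¹ = x := by
          rw [hdinv]
          have e' : d * (d * x * d) * d = (d * d) * x * (d * d) := by group
          rw [e', hd2]; group
        rwa [e] at this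
    rw [← hcoe] at hmem
    exact hmem
  · rw [IsPGroup.toSylow_coe]
    have := h.sup_eq_top_of_index hd P hPidx
    rw [← this]
    rw [sup_comm (Subgroup.zpowers d) P, sup_right_comm]

end Cfsg.Agent.Lib.Lead.TTA
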