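import Mathlib
import Cfsg.Agent.Lib.Helper6.AvgIntegral

set_option autoImplicit false
set_option linter.unusedSectionVars false
set_option linter.unusedVariables false

open scoped ComplexConjugate
open Classical

namespace Cfsg.Agent.Lib.Lead.Hecke

section basic

variable {G : Type*} [Group G] [Fintype G]
variable {V : Type*} [AddCommGroup V] [Module ℂ V]

/-- sum of `ρ` over a finite set of group elements -/
noncomputable def opS (ρ : Representation ℂ G V) (D : Finset G) : Module.End ℂ V := ∑ g ∈ D, ρ g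

/-- left invariance under `H` -/
def LInv (H : Subgroup G) (D : Finset G) : Prop := ∀ h ∈ H, ∀ g ∈ D, h * g ∈ D

/-- right invariance under `H` -/
def RInv (H : Subgroup G) (D : Finset G) : Prop := ∀ h ∈ H, ∀ g ∈ D, g * h ∈ D

/-- the elements of `H` as a finset -/
noncomputable def fs (H : Subgroup G) : Finset G := Finset.univ.filter (fun g => g ∈ H)

@[simp] theorem mem_fs {H : Subgroup G} {g : G} : g ∈ fs H ↔ g ∈ H := by
  simp [fs]

theorem card_fs (H : Subgroup G) : (fs H).card = Nat.card H := by
  have e : (H : Type _) ≃ {g // g ∈ fs H} := Equiv.subtypeEquivRight (fun g => mem_fs.symm)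
  rw [Nat.card_congr e, Nat.card_eq_fintype_card, Fintype.card_coe]

theorem cardH_ne (H : Subgroup G) : (Nat.card H : ℂ) ≠ 0 := by
  have : Nat.card H ≠ 0 := Nat.card_pos.ne'
  exact_mod_cast this

theorem LInv_fs (H : Subgroup G) : LInv H (fs H) := by
  intro h hh g hg
  exact mem_fs.mpr (H.mul_mem hh (mem_fs.mp hg))

theorem RInv_fs (H : Subgroup G) : RInv H (fs H) := by
  intro h hh g hg
  exact mem_fs.mpr (H.mul_mem (mem_fs.mp hg) hh)

theorem rho_mul_opS (ρ : Representation ℂ G V) {H : Subgroup G} {D : Finset G} (hD : LInv H D)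
    {h : G} (hh : h ∈ H) : ρ h * opS ρ D = opS ρ D := by
  unfold opS
  rw [Finset.mul_sum]
  apply Finset.sum_nbij' (fun g => h * g) (fun g => h⁻¹ * g)
  · intro g hg; exact hD h hh g hg
  · intro g hg; exact hD h⁻¹ (H.inv_mem hh) g hg
  · intro g _; simp
  · intro g _; simp
  · intro g _; rw [map_mul]

theorem opS_mul_rho (ρ : Representation ℂ G V) {H : Subgroup G} {D : Finset G} (hD : RInv H D)
    {h : G} (hh : h ∈ H) : opS ρ D * ρ h = opS ρ D := by
  unfold opS
  rw [Finset.sum_mul]
  apply Finset.sum_nbij' (fun g => g * h) (fun g => g * h⁻¹)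
  · intro g hg; exact hD h hh g hg
  · intro g hg; exact hD h⁻¹ (H.inv_mem hh) g hg
  · intro g _; simp
  · intro g _; simp
  · intro g _; rw [map_mul]

theorem opS_fs_mul (ρ : Representation ℂ G V) {H : Subgroup G} {D : Finset G} (hD : LInv H D) :
    opS ρ (fs H) * opS ρ D = (Nat.card H : ℂ) • opS ρ D := by
  conv_lhs => unfold opS
  rw [Finset.sum_mul]
  have : ∀ h ∈ fs H, ρ h * ∑ g ∈ D, ρ g = opS ρ D := by
    intro h hh
    exact rho_mul_opS ρ hD (mem_fs.mp hh)
  rw [Finset.sum_congr rfl this, Finset.sum_const, card_fs, Nat.cast_smul_eq_nsmul]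

theorem opS_mul_fs (ρ : Representation ℂ G V) {H : Subgroup G} {D : Finset G} (hD : RInv H D) :
    opS ρ D * opS ρ (fs H) = (Nat.card H : ℂ) • opS ρ D := by
  conv_lhs => rw [show opS ρ (fs H) = ∑ g ∈ fs H, ρ g from rfl]
  rw [Finset.mul_sum]
  have : ∀ h ∈ fs H, opS ρ D * ρ h = opS ρ D := by
    intro h hh
    exact opS_mul_rho ρ hD (mem_fs.mp hh)
  rw [Finset.sum_congr rfl this, Finset.sum_const, card_fs, Nat.cast_smul_eq_nsmul]

/-- normalised operator -/
noncomputable def opX (ρ : Representation ℂ G V) (H : Subgroup G) (D : Finset G) :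
    Module.End ℂ V := (Nat.card H : ℂ)⁻¹ • opS ρ D

/-- the idempotent of `H` -/
noncomputable def opE (ρ : Representation ℂ G V) (H : Subgroup G) : Module.End ℂ V :=
  opX ρ H (fs H)

theorem opE_mul_opX (ρ : Representation ℂ G V) {H : Subgroup G} {D : Finset G} (hD : LInv H D) :
    opE ρ H * opX ρ H D = opX ρ H D := by
  unfold opE opX
  rw [smul_mul_assoc, mul_smul_comm, opS_fs_mul ρ hD, smul_smul, smul_smul]
  congr 1
  have := cardH_ne H
  field_simp

theorem opX_mul_opE (ρ : Representation ℂ G V) {H : Subgroup G} {D : Finset G} (hD : RInv H D) :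
    opX ρ H D * opE ρ H = opX ρ H D := by
  unfold opE opX
  rw [smul_mul_assoc, mul_smul_comm, opS_mul_fs ρ hD, smul_smul, smul_smul]
  congr 1
  have := cardH_ne H
  field_simp

theorem opE_idem (ρ : Representation ℂ G V) (H : Subgroup G) : IsIdempotentElem (opE ρ H) :=
  opE_mul_opX ρ (LInv_fs H)

theorem opX_mem_span (ρ : Representation ℂ G V) (H : Subgroup G) :
    ∀ (n : ℕ) (D : Finset G), D.card = n → RInv H D → ∀ g0 : G,
      ρ g0 * opX ρ H D ∈ Submodule.span ℤ (Set.range fun g : G => ρ g * opE ρ H) := by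
  intro n
  induction n using Nat.strong_induction_on with
  | _ n ih =>
    intro D hn hD g0
    rcases D.eq_empty_or_nonempty with rfl | ⟨t, ht⟩
    · simp [opX, opS]
    · obtain ⟨C, hCdef⟩ : ∃ C : Finset G, C = (fs H).image (fun h => t * h) := ⟨_, rfl⟩
      have hCD : C ⊆ D := by
        intro x hx
        rw [hCdef] at hx
        obtain ⟨h, hh, rfl⟩ := Finset.mem_image.mp hx
        exact hD h (mem_fs.mp hh) t ht
      have hCne : C.Nonempty := by
        rw [hCdef]
        exact ⟨t * 1, Finset.mem_image.mpr ⟨1, mem_fs.mpr H.one_mem, rfl⟩⟩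
      have hcard : (D \ C).card < n := by
        rw [← hn]
        exact Finset.card_lt_card (Finset.sdiff_ssubset hCD hCne)
      have hD' : RInv H (D \ C) := by
        intro h hh g hg
        rw [Finset.mem_sdiff] at hg ⊢
        refine ⟨hD h hh g hg.1, ?_⟩
        intro hc
        apply hg.2
        rw [hCdef] at hc ⊢
        obtain ⟨h', hh', he⟩ := Finset.mem_image.mp hc
        refine Finset.mem_image.mpr ⟨h' * h⁻¹,
          mem_fs.mpr (H.mul_mem (mem_fs.mp hh') (H.inv_mem hh)), ?_⟩
        have he' : t * h' = g * h := he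
        rw [← mul_assoc, he', mul_inv_cancel_right]
      have hsplit : opS ρ D = opS ρ (D \ C) + opS ρ C := by
        unfold opS
        exact (Finset.sum_sdiff hCD).symm
      have hC : opS ρ C = ρ t * opS ρ (fs H) := by
        unfold opS
        rw [hCdef, Finset.sum_image (by intro x _ y _ hxy; exact mul_left_cancel hxy),
          Finset.mul_sum]
        apply Finset.sum_congr rfl
        intro h _
        rw [map_mul]
      have hkey : ρ g0 * opX ρ H D = ρ g0 * opX ρ H (D \ C) + ρ (g0 * t) * opE ρ H := by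
        unfold opE opX
        rw [hsplit, hC, smul_add, mul_add, map_mul, mul_assoc]
        congr 2
        rw [mul_smul_comm]
      rw [hkey]
      exact Submodule.add_mem _ (ih _ hcard (D \ C) rfl hD' g0)
        (Submodule.subset_span ⟨g0 * t, rfl⟩)

/-- the Hecke operators are integral over `ℤ` -/
theorem isIntegral_opX (ρ : Representation ℂ G V) (H : Subgroup G) (D : Finset G)
    (hL : LInv H D) (hR : RInv H D) : IsIntegral ℤ (opX ρ H D) := by
  obtain ⟨x, hx⟩ : ∃ x : Module.End ℂ V, x = opX ρ H D := ⟨_, rfl⟩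
  obtain ⟨N, hN⟩ : ∃ N : Submodule ℤ (Module.End ℂ V),
      N = Submodule.span ℤ (Set.range fun g : G => ρ g * opE ρ H) := ⟨_, rfl⟩
  have hgen : ∀ g0 : G, ρ g0 * x ∈ N := by
    intro g0
    rw [hx, hN]
    exact opX_mem_span ρ H _ D rfl hR g0
  have hNx : ∀ y ∈ N, y * x ∈ N := by
    intro y hy
    rw [hN] at hy
    induction hy using Submodule.span_induction with
    | mem y hy =>
      obtain ⟨g, rfl⟩ := hy
      have : ρ g * opE ρ H * x = ρ g * x := by
        rw [mul_assoc, hx, opE_mul_opX ρ hL]
      rw [this]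
      exact hgen g
    | zero => rw [zero_mul]; exact N.zero_mem
    | add y z _ _ hy hz => rw [add_mul]; exact N.add_mem hy hz
    | smul c y _ hy => rw [smul_mul_assoc]; exact N.smul_mem c hy
  have heN : opE ρ H ∈ N := by
    rw [hN]
    refine Submodule.subset_span ⟨1, ?_⟩
    simp
  obtain ⟨R, hRdef⟩ : ∃ R : N →ₗ[ℤ] N, ∀ y : N, ((R y : N) : Module.End ℂ V) = (y : Module.End ℂ V) * x :=
    ⟨(LinearMap.mulRight ℤ x).restrict (fun y hy => by
      rw [LinearMap.mulRight_apply]; exact hNx y hy), fun y => rfl⟩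
  haveI : Module.Finite ℤ N := by
    rw [Module.Finite.iff_fg, hN]
    exact Submodule.fg_span (Set.finite_range _)
  obtain ⟨p, hp, hpR⟩ := LinearMap.exists_monic_and_aeval_eq_zero ℤ R
  have hpow : ∀ (i : ℕ) (y : N), (((R ^ i) y : N) : Module.End ℂ V) = (y : Module.End ℂ V) * x ^ i := by
    intro i
    induction i with
    | zero => intro y; simp
    | succ i ih =>
      intro y
      rw [pow_succ, Module.End.mul_apply, ih, hRdef, pow_succ', mul_assoc]
  have heval : ∀ y : N, (((Polynomial.aeval R p) y : N) : Module.End ℂ V)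
      = (y : Module.End ℂ V) * Polynomial.aeval x p := by
    intro y
    rw [Polynomial.aeval_eq_sum_range, Polynomial.aeval_eq_sum_range]
    simp only [LinearMap.sum_apply, LinearMap.smul_apply, Submodule.coe_sum, Submodule.coe_smul,
      hpow, Finset.mul_sum, mul_smul_comm]
  have h0 : opE ρ H * Polynomial.aeval x p = 0 := by
    have := heval ⟨opE ρ H, heN⟩
    rw [hpR] at this
    simpa using this.symm
  have h1 : x * Polynomial.aeval x p = 0 := by
    have hxe : x * opE ρ H = x := by rw [hx, opX_mul_opE ρ hR]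
    calc x * Polynomial.aeval x p = (x * opE ρ H) * Polynomial.aeval x p := by rw [hxe]
      _ = x * (opE ρ H * Polynomial.aeval x p) := mul_assoc _ _ _
      _ = 0 := by rw [h0, mul_zero]
  rw [← hx]
  refine ⟨Polynomial.X * p, Polynomial.monic_X.mul hp, ?_⟩
  rw [← Polynomial.aeval_def, map_mul, Polynomial.aeval_X]
  exact h1

theorem trace_opX (ρ : Representation ℂ G V) (H : Subgroup G) (D : Finset G) :
    LinearMap.trace ℂ V (opX ρ H D) = (Nat.card H : ℂ)⁻¹ * ∑ g ∈ D, ρ.character g := by
  unfold opX opS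
  rw [map_smul, map_sum, smul_eq_mul]
  rfl

theorem trace_opX_mul (ρ : Representation ℂ G V) (H : Subgroup G) (D D' : Finset G) :
    LinearMap.trace ℂ V (opX ρ H D * opX ρ H D')
      = (Nat.card H : ℂ)⁻¹ * (Nat.card H : ℂ)⁻¹ * ∑ g ∈ D, ∑ g' ∈ D', ρ.character (g * g') := by
  unfold opX opS
  rw [smul_mul_assoc, mul_smul_comm, map_smul, map_smul, smul_eq_mul, smul_eq_mul, ← mul_assoc]
  congr 1
  rw [Finset.sum_mul, map_sum]
  apply Finset.sum_congr rfl
  intro g _
  rw [Finset.mul_sum, map_sum]
  apply Finset.sum_congr rfl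
  intro g' _
  unfold Representation.character
  rw [map_mul ρ g g']

end basic

section rank

variable {V : Type*} [AddCommGroup V] [Module ℂ V] [FiniteDimensional ℂ V]

theorem idem_eq_zero_of_trace (e : Module.End ℂ V) (he : IsIdempotentElem e)
    (h : LinearMap.trace ℂ V e = 0) : e = 0 :=
  (LinearMap.IsIdempotentElem.trace_eq_zero_iff he).mp h

theorem rank_one_idem (e y : Module.End ℂ V) (he : IsIdempotentElem e)
    (htr : LinearMap.trace ℂ V e = 1) : e * y * e = (LinearMap.trace ℂ V (e * y)) • e := by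
  have hproj := LinearMap.IsIdempotentElem.isProj_range e he
  have htr2 := hproj.trace
  have hfr : Module.finrank ℂ (LinearMap.range e) = 1 := by
    rw [htr] at htr2
    exact_mod_cast htr2.symm
  obtain ⟨v, hv0, hv⟩ := finrank_eq_one_iff'.mp hfr
  obtain ⟨lam, hlam⟩ := hv ⟨e (y (v : V)), LinearMap.mem_range_self e _⟩
  have hlam' : e (y (v : V)) = lam • (v : V) := by
    have := congrArg Subtype.val hlam
    simpa using this.symm
  have key : e * y * e = lam • e := by
    apply LinearMap.ext
    intro w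
    obtain ⟨c, hc⟩ := hv ⟨e w, LinearMap.mem_range_self e w⟩
    have hc' : e w = c • (v : V) := by
      have := congrArg Subtype.val hc
      simpa using this.symm
    simp only [Module.End.mul_apply, LinearMap.smul_apply]
    rw [hc', map_smul, map_smul, hlam', smul_comm]
  have h1 : LinearMap.trace ℂ V (e * y * e) = lam := by
    rw [key, map_smul, htr, smul_eq_mul, mul_one]
  rw [LinearMap.trace_mul_comm, ← mul_assoc, he.eq] at h1
  rw [h1]
  exact key

end rank

end Cfsg.Agent.Lib.Lead.Hecke
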