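import Mathlib
import Cfsg.Agent.Lib.Lead.Hecke1
import Cfsg.Agent.Lib.Helper6.SecondOrth
import Cfsg.Agent.Lib.Helper6.Auto
import Cfsg.Agent.Lib.Helper6.Multiplicity

set_option autoImplicit false
set_option linter.unusedSectionVars false
set_option linter.unusedVariables false

open scoped ComplexConjugate
open Classical
open Cfsg.Agent.Lib.Helper6

namespace Cfsg.Agent.Lib.Lead.Hecke

section chars

variable {G : Type*} [Group G] [Fintype G]

/-- normalised sum of a function over a finset -/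
noncomputable def th (H : Subgroup G) (χ : G → ℂ) (D : Finset G) : ℂ :=
  (Nat.card H : ℂ)⁻¹ * ∑ g ∈ D, χ g

/-- normalised double sum -/
noncomputable def th2 (H : Subgroup G) (χ : G → ℂ) (D D' : Finset G) : ℂ :=
  (Nat.card H : ℂ)⁻¹ * (Nat.card H : ℂ)⁻¹ * ∑ g ∈ D, ∑ g' ∈ D', χ (g * g')

theorem isIntegral_th {χ : G → ℂ} (hχ : Cfsg.IsCharacter G χ) (H : Subgroup G) (D : Finset G)
    (hL : LInv H D) (hR : RInv H D) : IsIntegral ℤ (th H χ D) := by
  obtain ⟨n, ρ, rfl⟩ := hχ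
  unfold th
  rw [← trace_opX ρ H D]
  exact isIntegral_trace_of_isIntegral _ (isIntegral_opX ρ H D hL hR)

theorem th_eq_zero {χ : G → ℂ} (hχ : Cfsg.IsCharacter G χ) {H : Subgroup G}
    (h0 : th H χ (fs H) = 0) {D : Finset G} (hL : LInv H D) : th H χ D = 0 := by
  obtain ⟨n, ρ, rfl⟩ := hχ
  have he : opE ρ H = 0 := idem_eq_zero_of_trace _ (opE_idem ρ H) (by
    unfold opE; rw [trace_opX]; exact h0)
  have hX : opX ρ H D = 0 := by rw [← opE_mul_opX ρ hL, he, zero_mul]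
  unfold th
  rw [← trace_opX ρ H D, hX, map_zero]

theorem th2_eq_zero {χ : G → ℂ} (hχ : Cfsg.IsCharacter G χ) {H : Subgroup G}
    (h0 : th H χ (fs H) = 0) {D : Finset G} (hL : LInv H D) (D' : Finset G) :
    th2 H χ D D' = 0 := by
  obtain ⟨n, ρ, rfl⟩ := hχ
  have he : opE ρ H = 0 := idem_eq_zero_of_trace _ (opE_idem ρ H) (by
    unfold opE; rw [trace_opX]; exact h0)
  have hX : opX ρ H D = 0 := by rw [← opE_mul_opX ρ hL, he, zero_mul]
  unfold th2
  rw [← trace_opX_mul ρ H D D', hX, zero_mul, map_zero]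

theorem th2_eq_mul {χ : G → ℂ} (hχ : Cfsg.IsCharacter G χ) {H : Subgroup G}
    (h1 : th H χ (fs H) = 1) {D D' : Finset G} (hL : LInv H D) (hR : RInv H D)
    (hL' : LInv H D') (hR' : RInv H D') : th2 H χ D D' = th H χ D * th H χ D' := by
  obtain ⟨n, ρ, rfl⟩ := hχ
  have htr : LinearMap.trace ℂ (Fin n → ℂ) (opE ρ H) = 1 := by
    unfold opE; rw [trace_opX]; exact h1
  have hX : ∀ D : Finset G, LInv H D → RInv H D →
      opX ρ H D = th H ρ.character D • opE ρ H := by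
    intro D hL hR
    have := rank_one_idem (opE ρ H) (opX ρ H D) (opE_idem ρ H) htr
    rw [opE_mul_opX ρ hL, opX_mul_opE ρ hR, trace_opX] at this
    exact this
  unfold th2
  rw [← trace_opX_mul ρ H D D', hX D hL hR, hX D' hL' hR', smul_mul_smul_comm,
    (opE_idem ρ H).eq, map_smul, htr, smul_eq_mul, mul_one]

variable [Fintype (Cfsg.IrrCharacter G)]

theorem sum_irr_deg_mul (g : G) :
    ∑ χ : Cfsg.IrrCharacter G, (χ : G → ℂ) 1 * (χ : G → ℂ) g
      = if g = 1 then (Nat.card G : ℂ) else 0 := by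
  have h := sum_irr_mul_conj g (1 : G)
  have hconj : ∀ χ : Cfsg.IrrCharacter G, conj ((χ : G → ℂ) 1) = (χ : G → ℂ) 1 := by
    intro χ
    obtain ⟨n, hn⟩ := IsCharacter.apply_one_eq_natCast (IsIrrCharacter.isCharacter χ.2)
    rw [hn]
    exact Complex.conj_natCast n
  have hsum : ∑ χ : Cfsg.IrrCharacter G, (χ : G → ℂ) 1 * (χ : G → ℂ) g
      = ∑ χ : Cfsg.IrrCharacter G, (χ : G → ℂ) g * conj ((χ : G → ℂ) 1) := by
    apply Finset.sum_congr rfl
    intro χ _
    rw [hconj, mul_comm]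
  rw [hsum]
  split_ifs with hg
  · subst hg
    rw [h.1 (IsConj.refl 1)]
    have : Subgroup.centralizer ({1} : Set G) = ⊤ := by
      rw [Subgroup.centralizer_eq_top_iff_subset]
      exact Set.singleton_subset_iff.mpr (Subgroup.one_mem _)
    rw [this, Subgroup.card_top]
  · exact h.2 (by rw [isConj_one_left]; exact hg)

theorem sum_deg_sum {ι : Type*} (S : Finset ι) (f : ι → G) :
    ∑ χ : Cfsg.IrrCharacter G, (χ : G → ℂ) 1 * ∑ i ∈ S, (χ : G → ℂ) (f i)
      = ∑ i ∈ S, if f i = 1 then (Nat.card G : ℂ) else 0 := by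
  simp_rw [Finset.mul_sum]
  rw [Finset.sum_comm]
  apply Finset.sum_congr rfl
  intro i _
  exact sum_irr_deg_mul (f i)

theorem sum_deg_th (H : Subgroup G) (D : Finset G) :
    ∑ χ : Cfsg.IrrCharacter G, (χ : G → ℂ) 1 * th H χ D
      = (Nat.card H : ℂ)⁻¹ * (if (1 : G) ∈ D then (Nat.card G : ℂ) else 0) := by
  unfold th
  have : ∀ χ : Cfsg.IrrCharacter G, (χ : G → ℂ) 1 * ((Nat.card H : ℂ)⁻¹ * ∑ g ∈ D, (χ : G → ℂ) g)
      = (Nat.card H : ℂ)⁻¹ * ((χ : G → ℂ) 1 * ∑ g ∈ D, (χ : G → ℂ) g) := by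
    intro χ; ring
  rw [Finset.sum_congr rfl (fun χ _ => this χ), ← Finset.mul_sum, sum_deg_sum D (fun g => g)]
  congr 1
  rw [Finset.sum_ite_eq' D (1 : G)]

theorem sum_deg_th2 (H : Subgroup G) (D D' : Finset G) :
    ∑ χ : Cfsg.IrrCharacter G, (χ : G → ℂ) 1 * th2 H χ D D'
      = (Nat.card H : ℂ)⁻¹ * (Nat.card H : ℂ)⁻¹ *
        ((Nat.card G : ℂ) * ((D.filter (fun g => g⁻¹ ∈ D')).card : ℂ)) := by
  unfold th2
  have h1 : ∀ χ : Cfsg.IrrCharacter G,
      (χ : G → ℂ) 1 * ((Nat.card H : ℂ)⁻¹ * (Nat.card H : ℂ)⁻¹ *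
        ∑ g ∈ D, ∑ g' ∈ D', (χ : G → ℂ) (g * g'))
      = (Nat.card H : ℂ)⁻¹ * (Nat.card H : ℂ)⁻¹ *
        ((χ : G → ℂ) 1 * ∑ p ∈ D ×ˢ D', (χ : G → ℂ) (p.1 * p.2)) := by
    intro χ
    rw [Finset.sum_product]
    ring
  rw [Finset.sum_congr rfl (fun χ _ => h1 χ), ← Finset.mul_sum,
    sum_deg_sum (D ×ˢ D') (fun p => p.1 * p.2)]
  congr 1
  rw [Finset.sum_product]
  have h2 : ∀ g ∈ D, ∑ g' ∈ D', (if g * g' = 1 then (Nat.card G : ℂ) else 0)
      = if g⁻¹ ∈ D' then (Nat.card G : ℂ) else 0 := by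
    intro g _
    simp only [mul_eq_one_iff_eq_inv']
    rw [Finset.sum_ite_eq' D' g⁻¹]
  rw [Finset.sum_congr rfl h2, ← Finset.sum_filter, Finset.sum_const, nsmul_eq_mul, mul_comm]

end chars

section inv

variable {G : Type*} [Group G] [Fintype G]

/-- the set of inverses -/
noncomputable def dinv (D : Finset G) : Finset G := D.image (fun g => g⁻¹)

theorem mem_dinv {D : Finset G} {g : G} : g ∈ dinv D ↔ g⁻¹ ∈ D := by
  unfold dinv
  rw [Finset.mem_image]
  constructor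
  · rintro ⟨x, hx, rfl⟩
    simpa using hx
  · intro h
    exact ⟨g⁻¹, h, inv_inv g⟩

theorem LInv_dinv {H : Subgroup G} {D : Finset G} (hR : RInv H D) : LInv H (dinv D) := by
  intro h hh g hg
  rw [mem_dinv] at hg ⊢
  rw [mul_inv_rev]
  exact hR h⁻¹ (H.inv_mem hh) _ hg

theorem RInv_dinv {H : Subgroup G} {D : Finset G} (hL : LInv H D) : RInv H (dinv D) := by
  intro h hh g hg
  rw [mem_dinv] at hg ⊢
  rw [mul_inv_rev]
  exact hL h⁻¹ (H.inv_mem hh) _ hg

theorem th_dinv {χ : G → ℂ} (hχ : Cfsg.IsCharacter G χ) (H : Subgroup G) (D : Finset G) :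
    th H χ (dinv D) = conj (th H χ D) := by
  unfold th dinv
  rw [Finset.sum_image (by intro x _ y _ h; exact inv_injective h), map_mul, map_inv₀,
    Complex.conj_natCast, map_sum]
  congr 1
  apply Finset.sum_congr rfl
  intro g _
  exact IsCharacter.apply_inv hχ g

theorem card_dinv (D : Finset G) : (dinv D).card = D.card :=
  Finset.card_image_of_injective _ inv_injective

theorem filter_dinv (D : Finset G) : D.filter (fun g => g⁻¹ ∈ dinv D) = D := by
  apply Finset.filter_true_of_mem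
  intro g hg
  rw [mem_dinv, inv_inv]
  exact hg

theorem th_one (H : Subgroup G) (D : Finset G) :
    th H (fun _ => (1 : ℂ)) D = (Nat.card H : ℂ)⁻¹ * (D.card : ℂ) := by
  unfold th
  rw [Finset.sum_const, nsmul_eq_mul, mul_one]

theorem th2_one (H : Subgroup G) (D D' : Finset G) :
    th2 H (fun _ => (1 : ℂ)) D D'
      = (Nat.card H : ℂ)⁻¹ * (D.card : ℂ) * ((Nat.card H : ℂ)⁻¹ * (D'.card : ℂ)) := by
  unfold th2
  simp only [Finset.sum_const, nsmul_eq_mul, mul_one]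
  ring

end inv

end Cfsg.Agent.Lib.Lead.Hecke
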