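import Mathlib
import Cfsg.Agent.Lib.Lead.Hecke2
import Cfsg.Agent.Lib.Helper6.PermChar
import Cfsg.Agent.Lib.Helper6.Mult
import Cfsg.Agent.Lib.Helper6.ClassFun
import Cfsg.Agent.Lib.Helper6.DegreeDvd
import Cfsg.Agent.Lib.Helper6.Norm
import Cfsg.Agent.Lib.Helper6.Constituent

set_option autoImplicit false
set_option linter.unusedSectionVars false
set_option linter.unusedVariables false

open scoped ComplexConjugate
open Classical
open Cfsg.Agent.Lib.Helper6

namespace Cfsg.Agent.Lib.Lead.Hecke

section action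

variable {G : Type*} [Group G] [Fintype G] {Ω : Type*} [Fintype Ω] [MulAction G Ω]

theorem permChar_eq_sum (g : G) :
    permChar G Ω g = ∑ ω : Ω, if g • ω = ω then (1 : ℂ) else 0 := by
  classical
  unfold permChar
  rw [Finset.sum_boole, Nat.card_eq_fintype_card, Fintype.card_subtype]
  rfl

theorem card_fibre [MulAction.IsPretransitive G Ω] (a ω : Ω) :
    (Finset.univ.filter (fun g : G => g • a = ω)).card
      = Nat.card (MulAction.stabilizer G a) := by
  obtain ⟨g0, hg0⟩ := MulAction.exists_smul_eq G a ω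
  rw [← card_fs, ← Finset.card_image_of_injective (fs (MulAction.stabilizer G a))
    (mul_right_injective g0)]
  congr 1
  ext g
  simp only [Finset.mem_filter, Finset.mem_univ, true_and, Finset.mem_image, mem_fs,
    MulAction.mem_stabilizer_iff]
  constructor
  · intro hg
    refine ⟨g0⁻¹ * g, ?_, by group⟩
    rw [mul_smul, hg, ← hg0, inv_smul_smul]
  · rintro ⟨h, hh, rfl⟩
    rw [mul_smul, hh, hg0]

theorem card_eq_mul [MulAction.IsPretransitive G Ω] (a : Ω) :
    Fintype.card G = Fintype.card Ω * Nat.card (MulAction.stabilizer G a) := by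
  have h := Finset.card_eq_sum_card_fiberwise (f := fun g : G => g • a) (s := Finset.univ)
    (t := Finset.univ) (by intro g _; exact Finset.mem_coe.mpr (Finset.mem_univ _))
  rw [Finset.card_univ] at h
  rw [h, Finset.sum_congr rfl (fun ω _ => card_fibre a ω), Finset.sum_const, Finset.card_univ,
    smul_eq_mul]

/-- the union of the cosets carrying `a` into the suborbit of `b` -/
noncomputable def dset (a b : Ω) : Finset G :=
  Finset.univ.filter (fun g : G => g • a ∈ MulAction.orbit (MulAction.stabilizer G a) b)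

theorem mem_dset {a b : Ω} {g : G} :
    g ∈ dset (G := G) a b ↔ g • a ∈ MulAction.orbit (MulAction.stabilizer G a) b := by
  simp [dset]

theorem LInv_dset (a b : Ω) : LInv (MulAction.stabilizer G a) (dset (G := G) a b) := by
  intro h hh g hg
  rw [mem_dset] at hg ⊢
  obtain ⟨x, hx⟩ := MulAction.mem_orbit_iff.mp hg
  refine MulAction.mem_orbit_iff.mpr ⟨⟨h, hh⟩ * x, ?_⟩
  rw [mul_smul, hx, mul_smul]
  rfl

theorem RInv_dset (a b : Ω) : RInv (MulAction.stabilizer G a) (dset (G := G) a b) := by
  intro h hh g hg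
  rw [mem_dset] at hg ⊢
  rw [mul_smul, MulAction.mem_stabilizer_iff.mp hh]
  exact hg

theorem one_not_mem_dset {a b : Ω} (hab : b ≠ a) : (1 : G) ∉ dset (G := G) a b := by
  intro h
  rw [mem_dset, one_smul] at h
  obtain ⟨x, hx⟩ := MulAction.mem_orbit_iff.mp h
  apply hab
  have h1 : (x : G) • b = a := hx
  have h2 : (x : G) • a = a := MulAction.mem_stabilizer_iff.mp x.2
  have : (x : G) • b = (x : G) • a := by rw [h1, h2]
  exact smul_left_cancel _ this

theorem mem_dset_of_smul {a b : Ω} {g : G} (h : g • a = b) : g ∈ dset (G := G) a b := by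
  rw [mem_dset, h]
  exact MulAction.mem_orbit_self b

theorem card_dset [MulAction.IsPretransitive G Ω] (a b : Ω) :
    (dset (G := G) a b).card
      = Nat.card (MulAction.stabilizer G a)
        * Nat.card (MulAction.orbit (MulAction.stabilizer G a) b) := by
  have h := Finset.card_eq_sum_card_fiberwise (f := fun g : G => g • a) (s := dset (G := G) a b)
    (t := (MulAction.orbit (MulAction.stabilizer G a) b).toFinset) (by
      intro g hg
      have := mem_dset.mp (Finset.mem_coe.mp hg)
      simpa using this)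
  rw [h]
  have : ∀ ω ∈ (MulAction.orbit (MulAction.stabilizer G a) b).toFinset,
      ((dset (G := G) a b).filter (fun g => g • a = ω)).card
        = Nat.card (MulAction.stabilizer G a) := by
    intro ω hω
    rw [← card_fibre a ω]
    congr 1
    ext g
    simp only [Finset.mem_filter, Finset.mem_univ, true_and, mem_dset]
    constructor
    · exact fun h => h.2
    · intro h
      refine ⟨?_, h⟩
      rw [h]
      exact Set.mem_toFinset.mp hω
  rw [Finset.sum_congr rfl this, Finset.sum_const, smul_eq_mul, Set.toFinset_card,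
    ← Nat.card_eq_fintype_card, mul_comm]

theorem sum_permChar_mul [MulAction.IsPretransitive G Ω] (a : Ω) {F : G → ℂ}
    (hF : Cfsg.IsClassFunction G F) :
    ∑ g : G, permChar G Ω g * F g
      = (Fintype.card Ω : ℂ) * ∑ h ∈ fs (MulAction.stabilizer G a), F h := by
  simp_rw [permChar_eq_sum, Finset.sum_mul]
  rw [Finset.sum_comm]
  have : ∀ ω : Ω, ∑ g : G, (if g • ω = ω then (1 : ℂ) else 0) * F g
      = ∑ h ∈ fs (MulAction.stabilizer G a), F h := by
    intro ω
    obtain ⟨x, hx⟩ := MulAction.exists_smul_eq G a ω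
    rw [← Equiv.sum_comp (MulAut.conj x).toEquiv]
    unfold fs
    rw [Finset.sum_filter]
    apply Finset.sum_congr rfl
    intro h _
    have h1 : ((MulAut.conj x).toEquiv h) = x * h * x⁻¹ := rfl
    rw [h1, hF h x]
    have h2 : ((x * h * x⁻¹) • ω = ω) ↔ h ∈ MulAction.stabilizer G a := by
      rw [MulAction.mem_stabilizer_iff, ← hx]
      constructor
      · intro h3
        have : x • (h • a) = x • a := by
          rw [← h3]
          simp [mul_smul]
        exact smul_left_cancel x this
      · intro h3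
        simp [mul_smul, h3]
    by_cases hh : h ∈ MulAction.stabilizer G a
    · rw [if_pos (h2.mpr hh), if_pos hh, one_mul]
    · rw [if_neg (fun h' => hh (h2.mp h')), if_neg hh, zero_mul]
  rw [Finset.sum_congr rfl (fun ω _ => this ω), Finset.sum_const, Finset.card_univ, nsmul_eq_mul]

theorem classInner_permChar_eq [MulAction.IsPretransitive G Ω] (a : Ω) {χ : G → ℂ}
    (hχ : Cfsg.IsClassFunction G χ) :
    Cfsg.classInner (permChar G Ω) χ
      = conj (th (MulAction.stabilizer G a) χ (fs (MulAction.stabilizer G a))) := by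
  unfold Cfsg.classInner th
  have hF : Cfsg.IsClassFunction G (fun g => conj (χ g)) := fun g h => by
    simp only
    rw [hχ g h]
  rw [sum_permChar_mul a hF, map_mul, map_inv₀, Complex.conj_natCast, map_sum]
  have hc := card_eq_mul (G := G) a
  have hH := cardH_ne (MulAction.stabilizer G a)
  have hΩ : (Fintype.card Ω : ℂ) ≠ 0 := by
    haveI : Nonempty Ω := ⟨a⟩
    have : Fintype.card Ω ≠ 0 := Fintype.card_ne_zero
    exact_mod_cast this
  rw [Nat.card_eq_fintype_card, hc]
  push_cast
  field_simp

theorem th_fs_eq [MulAction.IsPretransitive G Ω] (a : Ω) {χ : G → ℂ}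
    (hχ : Cfsg.IsClassFunction G χ) :
    th (MulAction.stabilizer G a) χ (fs (MulAction.stabilizer G a))
      = conj (Cfsg.classInner (permChar G Ω) χ) := by
  rw [classInner_permChar_eq a hχ, Complex.conj_conj]

theorem th_one_dset [MulAction.IsPretransitive G Ω] (a b : Ω) :
    th (MulAction.stabilizer G a) (fun _ => (1 : ℂ)) (dset (G := G) a b)
      = (Nat.card (MulAction.orbit (MulAction.stabilizer G a) b) : ℂ) := by
  rw [th_one, card_dset]
  have hH := cardH_ne (MulAction.stabilizer G a)
  push_cast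
  field_simp

/-- common divisors of the non-principal constituent degrees divide the subdegrees -/
theorem dvd_subdegree [MulAction.IsPretransitive G Ω] (f : ℕ)
    (hf : ∀ χ : G → ℂ, Cfsg.IsIrrCharacter G χ → χ ≠ (fun _ => 1) →
      Cfsg.classInner (permChar G Ω) χ ≠ 0 → ∃ m : ℕ, χ 1 = (f : ℂ) * m) (a b : Ω) (hab : b ≠ a) :
    f ∣ Nat.card (MulAction.orbit (MulAction.stabilizer G a) b) := by
  haveI : Fintype (Cfsg.IrrCharacter G) := Fintype.ofFinite _
  obtain ⟨n, hn⟩ : ∃ n : ℕ, n = Nat.card (MulAction.orbit (MulAction.stabilizer G a) b) :=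
    ⟨_, rfl⟩
  rw [← hn]
  have hL := LInv_dset (G := G) a b
  have hR := RInv_dset (G := G) a b
  have h1 := one_not_mem_dset (G := G) hab
  have hG1 := sum_deg_th (MulAction.stabilizer G a) (dset (G := G) a b)
  rw [if_neg h1, mul_zero] at hG1
  obtain ⟨triv, htriv⟩ : ∃ t : Cfsg.IrrCharacter G, (t : G → ℂ) = fun _ => (1 : ℂ) :=
    ⟨⟨fun _ => 1, isIrrCharacter_one⟩, rfl⟩
  have hsplit := Finset.add_sum_erase Finset.univ
    (fun χ : Cfsg.IrrCharacter G => (χ : G → ℂ) 1 *
      th (MulAction.stabilizer G a) (χ : G → ℂ) (dset (G := G) a b)) (Finset.mem_univ triv)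
  have htv : (triv : G → ℂ) 1 * th (MulAction.stabilizer G a) (triv : G → ℂ) (dset (G := G) a b)
      = (n : ℂ) := by
    rw [htriv, th_one_dset, one_mul, hn]
  have hw : ∀ χ : Cfsg.IrrCharacter G, ∃ w : ℂ, IsIntegral ℤ w ∧ (χ ≠ triv →
      (χ : G → ℂ) 1 * th (MulAction.stabilizer G a) (χ : G → ℂ) (dset (G := G) a b)
        = (f : ℂ) * w) := by
    intro χ
    by_cases hχt : χ = triv
    · exact ⟨0, isIntegral_zero, fun h => absurd hχt h⟩
    · by_cases h0 : Cfsg.classInner (permChar G Ω) (χ : G → ℂ) = 0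
      · refine ⟨0, isIntegral_zero, fun _ => ?_⟩
        have h2 : th (MulAction.stabilizer G a) (χ : G → ℂ) (fs (MulAction.stabilizer G a)) = 0 := by
          rw [th_fs_eq a (IsIrrCharacter.isClassFunction χ.2), h0, map_zero]
        rw [th_eq_zero (IsIrrCharacter.isCharacter χ.2) h2 hL]
        simp
      · obtain ⟨k, hk⟩ := hf χ χ.2 (by
          intro h
          apply hχt
          apply Subtype.ext
          rw [h, htriv]) h0
        refine ⟨k * th (MulAction.stabilizer G a) (χ : G → ℂ) (dset (G := G) a b),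
          IsIntegral.mul (by simpa using (isIntegral_algebraMap (R := ℤ) (A := ℂ) (x := (k : ℤ))))
            (isIntegral_th (IsIrrCharacter.isCharacter χ.2) _ _ hL hR), fun _ => ?_⟩
        rw [hk]
        ring
  choose w hw1 hw2 using hw
  have hsum : ∑ χ ∈ Finset.univ.erase triv, (χ : G → ℂ) 1 *
      th (MulAction.stabilizer G a) (χ : G → ℂ) (dset (G := G) a b)
      = (f : ℂ) * ∑ χ ∈ Finset.univ.erase triv, w χ := by
    rw [Finset.mul_sum]
    apply Finset.sum_congr rfl
    intro χ hχ
    exact hw2 χ (Finset.ne_of_mem_erase hχ)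
  have hW : IsIntegral ℤ (∑ χ ∈ Finset.univ.erase triv, w χ) :=
    IsIntegral.sum _ (fun χ _ => hw1 χ)
  have heq : (n : ℂ) + (f : ℂ) * ∑ χ ∈ Finset.univ.erase triv, w χ = 0 := by
    rw [← htv, ← hsum]
    rw [← hG1]
    exact hsplit
  by_cases hf0 : f = 0
  · subst hf0
    simp only [Nat.cast_zero, zero_mul, add_zero] at heq
    have : n = 0 := by exact_mod_cast heq
    rw [this]
  · apply nat_dvd_of_isIntegral_div hf0
    have hfc : (f : ℂ) ≠ 0 := by exact_mod_cast hf0
    have : (n : ℂ) / (f : ℂ) = -∑ χ ∈ Finset.univ.erase triv, w χ := by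
      field_simp
      linear_combination heq
    rw [this]
    exact hW.neg

theorem card_eq_sum_orbits (H : Subgroup G) :
    Fintype.card Ω = ∑ q : MulAction.orbitRel.Quotient H Ω, Nat.card q.orbit := by
  rw [← Nat.card_eq_fintype_card, Nat.card_congr (MulAction.selfEquivSigmaOrbits' H Ω),
    Nat.card_sigma]

theorem sum_permChar_sq [MulAction.IsPretransitive G Ω] (a : Ω) :
    ∑ g : G, permChar G Ω g * permChar G Ω g
      = (Fintype.card G : ℂ)
        * (Nat.card (MulAction.orbitRel.Quotient (MulAction.stabilizer G a) Ω) : ℂ) := by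
  rw [sum_permChar_mul a (IsCharacter.isClassFunction (isCharacter_permChar (G := G) Ω))]
  have h1 : ∑ h ∈ fs (MulAction.stabilizer G a), permChar G Ω h
      = ∑ h : MulAction.stabilizer G a, permChar (MulAction.stabilizer G a) Ω h := by
    rw [Finset.sum_subtype (fs (MulAction.stabilizer G a)) (fun x => mem_fs)]
    rfl
  rw [h1, sum_permChar, card_eq_mul (G := G) a]
  push_cast
  ring

theorem classInner_permChar_self_eq [MulAction.IsPretransitive G Ω] (a : Ω) :
    Cfsg.classInner (permChar G Ω) (permChar G Ω)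
      = (Nat.card (MulAction.orbitRel.Quotient (MulAction.stabilizer G a) Ω) : ℂ) := by
  unfold Cfsg.classInner
  simp_rw [permChar_conj]
  rw [sum_permChar_sq a, Nat.card_eq_fintype_card]
  have : (Fintype.card G : ℂ) ≠ 0 := by
    have : Fintype.card G ≠ 0 := Fintype.card_ne_zero
    exact_mod_cast this
  field_simp

theorem permChar_one : permChar G Ω 1 = (Fintype.card Ω : ℂ) := by
  rw [permChar_eq_sum]
  simp

/-- the multiplicities of the irreducible constituents of a transitive permutation character -/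
theorem exists_mult_data [MulAction.IsPretransitive G Ω] [Fintype (Cfsg.IrrCharacter G)] (a : Ω) :
    ∃ m : Cfsg.IrrCharacter G → ℕ,
      (∀ θ : Cfsg.IrrCharacter G, Cfsg.classInner (permChar G Ω) (θ : G → ℂ) = m θ) ∧
      (∀ θ : Cfsg.IrrCharacter G, (θ : G → ℂ) = (fun _ => (1 : ℂ)) → m θ = 1) ∧
      Fintype.card Ω = ∑ θ, m θ * Cfsg.charDegree (θ : G → ℂ) ∧
      Nat.card (MulAction.orbitRel.Quotient (MulAction.stabilizer G a) Ω) = ∑ θ, m θ * m θ ∧
      (∀ g : G, permChar G Ω g = ∑ θ : Cfsg.IrrCharacter G, (m θ : ℂ) * (θ : G → ℂ) g) := by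
  obtain ⟨m, hm, hmi⟩ := IsCharacter.exists_mult (isCharacter_permChar (G := G) Ω)
  refine ⟨m, hmi, ?_, ?_, ?_, fun g => apply_eq_sum_mult hm g⟩
  · intro θ hθ
    have h1 := hmi θ
    rw [hθ, classInner_permChar_one] at h1
    have h2 : Nat.card (Quotient (MulAction.orbitRel G Ω)) = 1 := by
      haveI : Subsingleton (MulAction.orbitRel.Quotient G Ω) :=
        (MulAction.pretransitive_iff_subsingleton_quotient G Ω).mp inferInstance
      haveI : Nonempty (MulAction.orbitRel.Quotient G Ω) := ⟨Quotient.mk'' a⟩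
      exact Nat.card_eq_one_iff_unique.mpr ⟨inferInstance, inferInstance⟩
    rw [h2] at h1
    exact_mod_cast h1.symm
  · have h1 := apply_eq_sum_mult hm (1 : G)
    rw [permChar_one] at h1
    have h2 : ∑ θ : Cfsg.IrrCharacter G, (m θ : ℂ) * (θ : G → ℂ) 1
        = ((∑ θ, m θ * Cfsg.charDegree (θ : G → ℂ) : ℕ) : ℂ) := by
      push_cast
      apply Finset.sum_congr rfl
      intro θ _
      rw [IsCharacter.apply_one_eq_charDegree (IsIrrCharacter.isCharacter θ.2)]
    rw [h2] at h1
    exact_mod_cast h1
  · have h1 := classInner_permChar_self_eq (G := G) a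
    have h2 : Cfsg.classInner (permChar G Ω) (permChar G Ω)
        = ((∑ θ, m θ * m θ : ℕ) : ℂ) := by
      conv_lhs => rw [hm]
      exact classInner_sum_irr m m
    rw [h2] at h1
    exact_mod_cast h1.symm

end action

section prim

variable {G : Type*} [Group G] [Fintype G] {Ω : Type*} [Fintype Ω] [MulAction G Ω]

theorem fixes_all_of_prim (hprim : MulAction.IsPreprimitive G Ω) (a b : Ω) (hab : b ≠ a)
    (hfix : ∀ h ∈ MulAction.stabilizer G a, h • b = b) :
    ∀ h ∈ MulAction.stabilizer G a, ∀ ω : Ω, h • ω = ω := by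
  haveI : Nontrivial Ω := ⟨⟨b, a, hab⟩⟩
  haveI := hprim
  have hco := MulAction.IsPreprimitive.isCoatom_stabilizer_of_isPreprimitive (G := G) a
  have hle : MulAction.stabilizer G a ≤ MulAction.stabilizer G b :=
    fun h hh => MulAction.mem_stabilizer_iff.mpr (hfix h hh)
  have hb_top : MulAction.stabilizer G b ≠ ⊤ := by
    intro ht
    obtain ⟨x, hx⟩ := MulAction.exists_smul_eq G b a
    have hx' : x ∈ MulAction.stabilizer G b := by rw [ht]; exact Subgroup.mem_top x
    rw [MulAction.mem_stabilizer_iff] at hx'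
    exact hab (by rw [← hx', hx])
  have heq : MulAction.stabilizer G b = MulAction.stabilizer G a := by
    rcases eq_or_lt_of_le hle with h | h
    · exact h.symm
    · exact absurd ((hco.lt_iff).mp h) hb_top
  obtain ⟨g, hg⟩ := MulAction.exists_smul_eq G a b
  have hginv : g⁻¹ • b = a := by rw [← hg, inv_smul_smul]
  have hgN : g ∈ Subgroup.normalizer (MulAction.stabilizer G a : Set G) := by
    rw [Subgroup.mem_normalizer_iff]
    intro h
    constructor
    · intro hh
      rw [← heq, MulAction.mem_stabilizer_iff, mul_smul, mul_smul, hginv,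
        MulAction.mem_stabilizer_iff.mp hh, hg]
    · intro hh
      rw [← heq, MulAction.mem_stabilizer_iff, mul_smul, mul_smul, hginv] at hh
      rw [MulAction.mem_stabilizer_iff]
      have : g • (h • a) = g • a := by rw [hh, hg]
      exact smul_left_cancel g this
  have hgH : g ∉ MulAction.stabilizer G a := by
    intro h
    rw [MulAction.mem_stabilizer_iff] at h
    exact hab (by rw [← hg, h])
  have hlt : MulAction.stabilizer G a < Subgroup.normalizer (MulAction.stabilizer G a : Set G) := by
    refine lt_of_le_of_ne Subgroup.le_normalizer ?_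
    intro h
    apply hgH
    rw [h]
    exact hgN
  have hN : (MulAction.stabilizer G a).Normal :=
    Subgroup.normalizer_eq_top_iff.mp ((hco.lt_iff).mp hlt)
  intro h hh ω
  obtain ⟨x, hx⟩ := MulAction.exists_smul_eq G a ω
  have hc : x⁻¹ * h * x ∈ MulAction.stabilizer G a := by
    have := hN.conj_mem h hh x⁻¹
    simpa using this
  rw [← hx]
  calc h • x • a = (x * (x⁻¹ * h * x)) • a := by
        rw [← mul_smul]
        congr 1
        group
    _ = x • a := by rw [mul_smul, MulAction.mem_stabilizer_iff.mp hc]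

theorem rank_eq_card_of_trivial (H : Subgroup G) (hH : ∀ h ∈ H, ∀ ω : Ω, h • ω = ω) :
    Nat.card (MulAction.orbitRel.Quotient H Ω) = Fintype.card Ω := by
  have hinj : Function.Injective (Quotient.mk'' : Ω → MulAction.orbitRel.Quotient H Ω) := by
    intro x y hxy
    have h1 := Quotient.eq''.mp hxy
    rw [MulAction.orbitRel_apply] at h1
    obtain ⟨h, hh⟩ := MulAction.mem_orbit_iff.mp h1
    have : (h : G) • y = x := hh
    rw [← this, hH h h.2]
  have hsurj : Function.Surjective (Quotient.mk'' : Ω → MulAction.orbitRel.Quotient H Ω) :=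
    Quotient.mk''_surjective
  rw [← Nat.card_congr (Equiv.ofBijective _ ⟨hinj, hsurj⟩), Nat.card_eq_fintype_card]

theorem two_le_card_orbit (hprim : MulAction.IsPreprimitive G Ω) (a b : Ω) (hab : b ≠ a)
    (hrank : Nat.card (MulAction.orbitRel.Quotient (MulAction.stabilizer G a) Ω)
      ≠ Fintype.card Ω) :
    2 ≤ Nat.card (MulAction.orbit (MulAction.stabilizer G a) b) := by
  have hpos : 0 < Nat.card (MulAction.orbit (MulAction.stabilizer G a) b) := by
    haveI : Nonempty (MulAction.orbit (MulAction.stabilizer G a) b) :=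
      ⟨⟨b, MulAction.mem_orbit_self b⟩⟩
    exact Nat.card_pos
  by_contra hlt
  have h1 : Nat.card (MulAction.orbit (MulAction.stabilizer G a) b) = 1 := by omega
  apply hrank
  apply rank_eq_card_of_trivial
  apply fixes_all_of_prim hprim a b hab
  intro h hh
  have hsub : Subsingleton (MulAction.orbit (MulAction.stabilizer G a) b) :=
    (Nat.card_eq_one_iff_unique.mp h1).1
  have hm : h • b ∈ MulAction.orbit (MulAction.stabilizer G a) b :=
    MulAction.mem_orbit_iff.mpr ⟨⟨h, hh⟩, rfl⟩
  have := Subsingleton.elim (⟨h • b, hm⟩ : MulAction.orbit (MulAction.stabilizer G a) b)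
    ⟨b, MulAction.mem_orbit_self b⟩
  exact Subtype.ext_iff.mp this

end prim

end Cfsg.Agent.Lib.Lead.Hecke
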