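import Mathlib
import Cfsg.Prelude.Def_Perm
import Cfsg.Agent.Lib.Helper6.Schur
import Cfsg.Agent.Lib.Helper6.Complete
import Cfsg.Agent.Lib.Helper6.EquivOfChar
import Cfsg.Agent.Lib.Helper6.Multiplicity
import Cfsg.Agent.Lib.Helper6.CharOps
import Cfsg.Agent.Lib.Helper6.IrrBasis
import Cfsg.Agent.Lib.Helper6.Orthogonality
import Cfsg.Agent.Lib.Helper6.Constituent
import Cfsg.Agent.Lib.Helper6.ClassFun
import Cfsg.Agent.Lib.Helper6.Auto
import Cfsg.Agent.Lib.Lead.Hecke3

set_option autoImplicit false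
set_option linter.unusedSectionVars false
set_option linter.unusedVariables false
set_option maxHeartbeats 800000

open scoped ComplexConjugate
open Classical
open Cfsg.Agent.Lib.Helper6

namespace Cfsg.Agent.Lib.Lead.CentRing

section gen

variable {G : Type*} [Group G] [Fintype G] {V : Type*} [AddCommGroup V] [Module ℂ V]

theorem mem_inv_iff (ρ : Representation ℂ G V) (S : V →ₗ[ℂ] V) :
    S ∈ (ρ.linHom ρ).invariants ↔ ∀ g : G, S ∘ₗ ρ g = ρ g ∘ₗ S := by
  rw [Representation.mem_invariants]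
  constructor
  · intro h g
    have h1 := h g
    rw [Representation.linHom_apply] at h1
    ext v
    have h2 := LinearMap.congr_fun h1 (ρ g v)
    simp only [LinearMap.comp_apply] at h2 ⊢
    rw [Representation.inv_self_apply] at h2
    exact h2.symm
  · intro h g
    rw [Representation.linHom_apply]
    ext v
    have h1 := LinearMap.congr_fun (h g) (ρ g⁻¹ v)
    simp only [LinearMap.comp_apply] at h1 ⊢
    rw [Representation.self_inv_apply] at h1
    exact h1.symm

theorem finrank_inv_eq [FiniteDimensional ℂ V] (ρ : Representation ℂ G V) :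
    (Module.finrank ℂ (ρ.linHom ρ).invariants : ℂ)
      = Cfsg.classInner ρ.character ρ.character := by
  haveI : Invertible (Nat.card G : ℂ) := invertibleOfNonzero (card_ne_zero_complex G)
  rw [← Representation.card_inv_mul_sum_char_eq_finrank]
  unfold Cfsg.classInner
  congr 1
  apply Finset.sum_congr rfl
  intro g _
  rw [Representation.char_linHom, character_inv, mul_comm]

theorem opSum_mul (ρ : Representation ℂ G V) (f₁ f₂ : G → ℂ) :
    opSum ρ f₁ * opSum ρ f₂ = opSum ρ (fun k => ∑ g, f₁ g * f₂ (g⁻¹ * k)) := by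
  unfold opSum
  rw [Finset.sum_mul]
  have h1 : ∀ g : G, (f₁ g • ρ g) * ∑ h, f₂ h • ρ h
      = ∑ k, (f₁ g * f₂ (g⁻¹ * k)) • ρ k := by
    intro g
    rw [Finset.mul_sum]
    refine Fintype.sum_equiv (Equiv.mulLeft g) _ _ ?_
    intro h
    rw [Equiv.coe_mulLeft, inv_mul_cancel_left, smul_mul_smul_comm, ← map_mul]
  rw [Finset.sum_congr rfl (fun g _ => h1 g), Finset.sum_comm]
  apply Finset.sum_congr rfl
  intro k _
  rw [Finset.sum_smul]

theorem opSum_smul (ρ : Representation ℂ G V) (c : ℂ) (f : G → ℂ) :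
    opSum ρ (fun k => c * f k) = c • opSum ρ f := by
  unfold opSum
  rw [Finset.smul_sum]
  apply Finset.sum_congr rfl
  intro g _
  rw [mul_smul]

theorem sum_mul_char_shift {W : Type*} [AddCommGroup W] [Module ℂ W] [FiniteDimensional ℂ W]
    (σ : Representation ℂ G W) [σ.IsIrreducible] (f : G → ℂ) (hf : Cfsg.IsClassFunction G f)
    (k : G) :
    ∑ g, f g * σ.character (g * k)
      = (∑ g, f g * σ.character g) / (Module.finrank ℂ W : ℂ) * σ.character k := by
  have h1 := eq_trace_div_smul_id_of_comm σ (opSum σ f) (opSum_comm σ f hf)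
  rw [trace_opSum] at h1
  have h2 : ∑ g, f g * σ.character (g * k) = LinearMap.trace ℂ W (opSum σ f * σ k) := by
    unfold opSum
    rw [Finset.sum_mul, map_sum]
    apply Finset.sum_congr rfl
    intro g _
    rw [smul_mul_assoc, map_smul, smul_eq_mul, ← map_mul]
    rfl
  rw [h2, h1, smul_mul_assoc, map_smul, smul_eq_mul]
  have : LinearMap.trace ℂ W ((LinearMap.id : W →ₗ[ℂ] W) * σ k) = σ.character k := rfl
  rw [this]

theorem isClassFunction_conj {θ : G → ℂ} (hθ : Cfsg.IsClassFunction G θ) :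
    Cfsg.IsClassFunction G (fun g => conj (θ g)) := by
  intro g h
  show conj (θ (h * g * h⁻¹)) = conj (θ g)
  rw [hθ g h]

theorem sum_conj_mul_shift {χ ψ : G → ℂ} (hχ : Cfsg.IsIrrCharacter G χ)
    (hψ : Cfsg.IsIrrCharacter G ψ) (k : G) :
    ∑ g, conj (χ g) * ψ (g * k)
      = (if χ = ψ then (Nat.card G : ℂ) / ψ 1 * ψ k else 0) := by
  have hcf := isClassFunction_conj (IsIrrCharacter.isClassFunction hχ)
  have hin := classInner_isIrrCharacter hψ hχ
  unfold Cfsg.classInner at hin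
  have hG := card_ne_zero_complex G
  have hψ1 := IsIrrCharacter.apply_one_ne_zero hψ
  obtain ⟨n, σ, hirr, rfl⟩ := hψ
  haveI := hirr
  have h1 := sum_mul_char_shift σ (fun g => conj (χ g)) hcf k
  have hsum : ∑ g, conj (χ g) * σ.character g
      = (Nat.card G : ℂ) * (if σ.character = χ then 1 else 0) := by
    have h3 : ∑ g, conj (χ g) * σ.character g = ∑ g, σ.character g * conj (χ g) :=
      Finset.sum_congr rfl (fun g _ => mul_comm _ _)
    rw [h3, ← hin]
    field_simp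
  rw [h1, hsum, ← Representation.char_one σ]
  by_cases h : χ = σ.character
  · rw [if_pos h, if_pos h.symm]
    ring
  · rw [if_neg h, if_neg (fun h' => h h'.symm)]
    ring

/-- the central "idempotent" operator attached to a class function -/
noncomputable def cE (ρ : Representation ℂ G V) (θ : G → ℂ) : Module.End ℂ V :=
  ((Nat.card G : ℂ)⁻¹ * θ 1) • opSum ρ (fun g => conj (θ g))

theorem cE_comm (ρ : Representation ℂ G V) {θ : G → ℂ} (hθ : Cfsg.IsClassFunction G θ) (h : G) :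
    cE ρ θ * ρ h = ρ h * cE ρ θ := by
  unfold cE
  rw [smul_mul_assoc, mul_smul_comm]
  congr 1
  exact opSum_comm ρ _ (isClassFunction_conj hθ) h

theorem comm_cE (ρ : Representation ℂ G V) (S : Module.End ℂ V)
    (hS : ∀ g : G, S * ρ g = ρ g * S) (θ : G → ℂ) :
    S * cE ρ θ = cE ρ θ * S := by
  unfold cE opSum
  rw [mul_smul_comm, smul_mul_assoc, Finset.mul_sum, Finset.sum_mul]
  congr 1
  apply Finset.sum_congr rfl
  intro g _
  rw [mul_smul_comm, smul_mul_assoc, hS g]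

theorem cE_mul (ρ : Representation ℂ G V) (θ₁ θ₂ : Cfsg.IrrCharacter G) :
    cE ρ (θ₁ : G → ℂ) * cE ρ (θ₂ : G → ℂ) = if θ₁ = θ₂ then cE ρ (θ₁ : G → ℂ) else 0 := by
  unfold cE
  rw [smul_mul_smul_comm, opSum_mul]
  have hG := card_ne_zero_complex G
  have h2ne := IsIrrCharacter.apply_one_ne_zero θ₂.2
  have hconv : (fun k => ∑ g, conj ((θ₁ : G → ℂ) g) * conj ((θ₂ : G → ℂ) (g⁻¹ * k)))
      = fun k => (if θ₁ = θ₂ then (Nat.card G : ℂ) / (θ₂ : G → ℂ) 1 else 0)
          * conj ((θ₂ : G → ℂ) k) := by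
    funext k
    have h1 : ∀ g : G, conj ((θ₂ : G → ℂ) (g⁻¹ * k)) = (θ₂ : G → ℂ) (g * k⁻¹) := by
      intro g
      rw [← IsCharacter.apply_inv (IsIrrCharacter.isCharacter θ₂.2), mul_inv_rev, inv_inv]
      have := IsIrrCharacter.isClassFunction θ₂.2 (k⁻¹ * g) k
      rw [← this]
      congr 1
      group
    have h2 : ∑ g, conj ((θ₁ : G → ℂ) g) * conj ((θ₂ : G → ℂ) (g⁻¹ * k))
        = ∑ g, conj ((θ₁ : G → ℂ) g) * (θ₂ : G → ℂ) (g * k⁻¹) :=
      Finset.sum_congr rfl (fun g _ => by rw [h1 g])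
    rw [h2, sum_conj_mul_shift θ₁.2 θ₂.2 k⁻¹]
    by_cases h : θ₁ = θ₂
    · rw [if_pos h, if_pos (by rw [h]),
        IsCharacter.apply_inv (IsIrrCharacter.isCharacter θ₂.2)]
    · rw [if_neg h, if_neg (fun h' => h (Subtype.ext h')), zero_mul]
  rw [hconv, opSum_smul, smul_smul]
  by_cases h : θ₁ = θ₂
  · subst h
    rw [if_pos rfl, if_pos rfl]
    congr 1
    field_simp
  · rw [if_neg h, if_neg h, mul_zero, zero_smul]

theorem trace_cE (ρ : Representation ℂ G V) (θ : G → ℂ) :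
    LinearMap.trace ℂ V (cE ρ θ) = θ 1 * Cfsg.classInner ρ.character θ := by
  unfold cE Cfsg.classInner
  rw [map_smul, trace_opSum, smul_eq_mul]
  have h3 : ∑ g, conj (θ g) * ρ.character g = ∑ g, ρ.character g * conj (θ g) :=
    Finset.sum_congr rfl (fun g _ => mul_comm _ _)
  rw [h3]
  ring

theorem comm_of_multfree [FiniteDimensional ℂ V] (ρ : Representation ℂ G V)
    (hmf : ∀ χ : G → ℂ, Cfsg.IsIrrCharacter G χ →
      Cfsg.classInner ρ.character χ = 0 ∨ Cfsg.classInner ρ.character χ = 1)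
    (S T : Module.End ℂ V) (hS : S ∈ (ρ.linHom ρ).invariants)
    (hT : T ∈ (ρ.linHom ρ).invariants) : S * T = T * S := by
  haveI : Fintype (Cfsg.IrrCharacter G) := Fintype.ofFinite _
  obtain ⟨m, hm, hmi⟩ := IsCharacter.exists_mult (isCharacter_character ρ)
  have hm01 : ∀ θ : Cfsg.IrrCharacter G, m θ = 0 ∨ m θ = 1 := by
    intro θ
    rcases hmf θ θ.2 with h | h
    · left
      rw [hmi θ] at h
      exact_mod_cast h
    · right
      rw [hmi θ] at h
      exact_mod_cast h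
  have hEne : ∀ j : {θ : Cfsg.IrrCharacter G // m θ = 1}, cE ρ (j.1 : G → ℂ) ≠ 0 := by
    intro j h
    have h1 := trace_cE ρ (j.1 : G → ℂ)
    rw [h, map_zero, hmi j.1, j.2, Nat.cast_one, mul_one] at h1
    exact IsIrrCharacter.apply_one_ne_zero j.1.2 h1.symm
  have hli : LinearIndependent ℂ
      (fun j : {θ : Cfsg.IrrCharacter G // m θ = 1} => cE ρ (j.1 : G → ℂ)) := by
    rw [Fintype.linearIndependent_iff]
    intro c hc j
    have h1 : (∑ i, c i • cE ρ (i.1 : G → ℂ)) * cE ρ (j.1 : G → ℂ) = 0 := by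
      rw [hc, zero_mul]
    rw [Finset.sum_mul, Finset.sum_eq_single j] at h1
    · rw [smul_mul_assoc, cE_mul, if_pos rfl] at h1
      rcases smul_eq_zero.mp h1 with h | h
      · exact h
      · exact absurd h (hEne j)
    · intro i _ hij
      rw [smul_mul_assoc, cE_mul, if_neg (fun h => hij (Subtype.ext h)), smul_zero]
    · intro h
      exact absurd (Finset.mem_univ j) h
  have hA := finrank_inv_eq ρ
  have hcardI : Module.finrank ℂ (ρ.linHom ρ).invariants
      = Fintype.card {θ : Cfsg.IrrCharacter G // m θ = 1} := by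
    have h1 : Cfsg.classInner ρ.character ρ.character = ((∑ θ, m θ * m θ : ℕ) : ℂ) := by
      conv_lhs => rw [hm]
      exact classInner_sum_irr m m
    rw [h1] at hA
    have h2 : Module.finrank ℂ (ρ.linHom ρ).invariants = ∑ θ, m θ * m θ := by
      exact_mod_cast hA
    rw [h2, Fintype.card_subtype, Finset.card_filter]
    apply Finset.sum_congr rfl
    intro θ _
    rcases hm01 θ with h | h <;> simp [h]
  have hle : Submodule.span ℂ (Set.range
      (fun j : {θ : Cfsg.IrrCharacter G // m θ = 1} => cE ρ (j.1 : G → ℂ)))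
      ≤ (ρ.linHom ρ).invariants := by
    rw [Submodule.span_le]
    rintro _ ⟨j, rfl⟩
    rw [SetLike.mem_coe, mem_inv_iff]
    intro g
    exact cE_comm ρ (IsIrrCharacter.isClassFunction j.1.2) g
  have hfr : Module.finrank ℂ (Submodule.span ℂ (Set.range
      (fun j : {θ : Cfsg.IrrCharacter G // m θ = 1} => cE ρ (j.1 : G → ℂ))))
      = Module.finrank ℂ (ρ.linHom ρ).invariants := by
    rw [finrank_span_eq_card hli, hcardI]
  have heq := Submodule.eq_of_le_of_finrank_eq hle hfr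
  have hT' : T ∈ Submodule.span ℂ (Set.range
      (fun j : {θ : Cfsg.IrrCharacter G // m θ = 1} => cE ρ (j.1 : G → ℂ))) := by
    rw [heq]
    exact hT
  have hSc := (mem_inv_iff ρ S).mp hS
  refine Submodule.span_induction (p := fun x _ => S * x = x * S) ?_ ?_ ?_ ?_ hT'
  · rintro _ ⟨j, rfl⟩
    exact comm_cE ρ S hSc _
  · rw [mul_zero, zero_mul]
  · intro x y _ _ hx hy
    rw [mul_add, add_mul, hx, hy]
  · intro a x _ hx
    rw [mul_smul_comm, smul_mul_assoc, hx]

end gen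

section model

variable {G : Type*} [Group G] [Fintype G]

theorem prod_character {W₁ W₂ : Type*} [AddCommGroup W₁] [Module ℂ W₁] [FiniteDimensional ℂ W₁]
    [AddCommGroup W₂] [Module ℂ W₂] [FiniteDimensional ℂ W₂]
    (ρ₁ : Representation ℂ G W₁) (ρ₂ : Representation ℂ G W₂) :
    (ρ₁.prod ρ₂).character = ρ₁.character + ρ₂.character := by
  funext g
  exact LinearMap.trace_prodMap' (ρ₁ g) (ρ₂ g)

/-- `((a, b), c) ↦ ((b, 0), 0)` -/
def opS0 (W R : Type*) [AddCommGroup W] [Module ℂ W] [AddCommGroup R] [Module ℂ R] :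
    ((W × W) × R) →ₗ[ℂ] ((W × W) × R) :=
  LinearMap.inl ℂ (W × W) R ∘ₗ LinearMap.inl ℂ W W ∘ₗ LinearMap.snd ℂ W W ∘ₗ
    LinearMap.fst ℂ (W × W) R

/-- `((a, b), c) ↦ ((a, 0), 0)` -/
def opT0 (W R : Type*) [AddCommGroup W] [Module ℂ W] [AddCommGroup R] [Module ℂ R] :
    ((W × W) × R) →ₗ[ℂ] ((W × W) × R) :=
  LinearMap.inl ℂ (W × W) R ∘ₗ LinearMap.inl ℂ W W ∘ₗ LinearMap.fst ℂ W W ∘ₗ
    LinearMap.fst ℂ (W × W) R

theorem opS0_apply {W R : Type*} [AddCommGroup W] [Module ℂ W] [AddCommGroup R] [Module ℂ R]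
    (x : (W × W) × R) : opS0 W R x = ((x.1.2, 0), 0) := rfl

theorem opT0_apply {W R : Type*} [AddCommGroup W] [Module ℂ W] [AddCommGroup R] [Module ℂ R]
    (x : (W × W) × R) : opT0 W R x = ((x.1.1, 0), 0) := rfl

theorem conj_mem {V X : Type*} [AddCommGroup V] [Module ℂ V] [AddCommGroup X] [Module ℂ X]
    (ρ : Representation ℂ G V) (σ : Representation ℂ G X) (e : V ≃ₗ[ℂ] X)
    (he : ∀ (g : G) (v : V), e (ρ g v) = σ g (e v)) (S₀ : X →ₗ[ℂ] X)
    (hS₀ : ∀ (g : G) (y : X), S₀ (σ g y) = σ g (S₀ y)) :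
    ((e.symm : X →ₗ[ℂ] V) ∘ₗ S₀ ∘ₗ (e : V →ₗ[ℂ] X)) ∈ (ρ.linHom ρ).invariants := by
  rw [mem_inv_iff]
  intro g
  ext v
  simp only [LinearMap.comp_apply, LinearEquiv.coe_coe]
  rw [he, hS₀]
  apply e.injective
  rw [e.apply_symm_apply, he, e.apply_symm_apply]

theorem conj_ne {V W R : Type*} [AddCommGroup V] [Module ℂ V] [AddCommGroup W] [Module ℂ W]
    [AddCommGroup R] [Module ℂ R] (e : V ≃ₗ[ℂ] ((W × W) × R)) (w : W) (hw : w ≠ 0) :
    ((e.symm : ((W × W) × R) →ₗ[ℂ] V) ∘ₗ opS0 W R ∘ₗ (e : V →ₗ[ℂ] ((W × W) × R))) ∘ₗ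
      ((e.symm : ((W × W) × R) →ₗ[ℂ] V) ∘ₗ opT0 W R ∘ₗ (e : V →ₗ[ℂ] ((W × W) × R)))
    ≠ ((e.symm : ((W × W) × R) →ₗ[ℂ] V) ∘ₗ opT0 W R ∘ₗ (e : V →ₗ[ℂ] ((W × W) × R))) ∘ₗ
      ((e.symm : ((W × W) × R) →ₗ[ℂ] V) ∘ₗ opS0 W R ∘ₗ (e : V →ₗ[ℂ] ((W × W) × R))) := by
  intro hST
  have h3 := LinearMap.congr_fun hST (e.symm ((0, w), 0))
  simp only [LinearMap.comp_apply, LinearEquiv.coe_coe, LinearEquiv.apply_symm_apply] at h3
  have h4 := e.symm.injective h3
  have h5 : (0 : W) = w := congrArg (fun x => x.1.1) h4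
  exact hw h5.symm

theorem multfree_of_comm {V : Type*} [AddCommGroup V] [Module ℂ V] [FiniteDimensional ℂ V]
    (ρ : Representation ℂ G V)
    (hcomm : ∀ S T : V →ₗ[ℂ] V, S ∈ (ρ.linHom ρ).invariants → T ∈ (ρ.linHom ρ).invariants →
      S ∘ₗ T = T ∘ₗ S)
    (χ : G → ℂ) (hχ : Cfsg.IsIrrCharacter G χ) :
    Cfsg.classInner ρ.character χ = 0 ∨ Cfsg.classInner ρ.character χ = 1 := by
  haveI : Fintype (Cfsg.IrrCharacter G) := Fintype.ofFinite _
  obtain ⟨m, hm, hmi⟩ := IsCharacter.exists_mult (isCharacter_character ρ)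
  obtain ⟨θ, hθ⟩ : ∃ θ : Cfsg.IrrCharacter G, (θ : G → ℂ) = χ := ⟨⟨χ, hχ⟩, rfl⟩
  rw [← hθ, hmi θ]
  by_contra hcon
  push Not at hcon
  have hm2 : 2 ≤ m θ := by
    have h0 : m θ ≠ 0 := by
      intro h
      apply hcon.1
      rw [h]
      simp
    have h1 : m θ ≠ 1 := by
      intro h
      apply hcon.2
      rw [h]
      simp
    omega
  obtain ⟨R, hR⟩ : ∃ R : G → ℂ, R = ∑ ψ : Cfsg.IrrCharacter G,
      (if ψ = θ then m θ - 2 else m ψ) • (ψ : G → ℂ) := ⟨_, rfl⟩
  have hRchar : Cfsg.IsCharacter G R := by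
    rw [hR]
    apply IsCharacter.sum
    intro ψ _
    exact IsCharacter.nsmul (IsIrrCharacter.isCharacter ψ.2) _
  have hsplit : ρ.character = χ + χ + R := by
    rw [hm, hR, ← hθ]
    have hterm : ∀ ψ : Cfsg.IrrCharacter G, m ψ • (ψ : G → ℂ)
        = (if ψ = θ then (2 : ℕ) • (ψ : G → ℂ) else 0)
          + (if ψ = θ then m θ - 2 else m ψ) • (ψ : G → ℂ) := by
      intro ψ
      by_cases h : ψ = θ
      · rw [if_pos h, if_pos h, ← add_smul, h]
        congr 1
        omega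
      · rw [if_neg h, if_neg h, zero_add]
    rw [Finset.sum_congr rfl (fun ψ _ => hterm ψ), Finset.sum_add_distrib,
      Finset.sum_ite_eq' Finset.univ θ]
    simp only [Finset.mem_univ, if_true, two_smul]
  obtain ⟨nR, ρR, hρR⟩ := hRchar
  obtain ⟨nW, ρW, hirr, hρW⟩ := hχ
  haveI := hirr
  have hσchar : ρ.character = ((ρW.prod ρW).prod ρR).character := by
    rw [hsplit, prod_character, prod_character, hρW, hρR]
  obtain ⟨φ⟩ := equiv_of_character_eq ρ ((ρW.prod ρW).prod ρR) hσchar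
  haveI := nontrivial_of_isIrreducible ρW
  obtain ⟨w, hw⟩ := exists_ne (0 : Fin nW → ℂ)
  have he : ∀ (g : G) (v : V), φ.toLinearEquiv (ρ g v)
      = ((ρW.prod ρW).prod ρR) g (φ.toLinearEquiv v) := by
    intro g v
    exact Representation.IntertwiningMap.isIntertwining _ _ φ.toIntertwiningMap g v
  have hS := conj_mem ρ ((ρW.prod ρW).prod ρR) φ.toLinearEquiv he
    (opS0 (Fin nW → ℂ) (Fin nR → ℂ)) (by
      intro g y
      obtain ⟨⟨a, b⟩, c⟩ := y
      simp [opS0_apply])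
  have hT := conj_mem ρ ((ρW.prod ρW).prod ρR) φ.toLinearEquiv he
    (opT0 (Fin nW → ℂ) (Fin nR → ℂ)) (by
      intro g y
      obtain ⟨⟨a, b⟩, c⟩ := y
      simp [opT0_apply])
  have hST := hcomm _ _ hS hT
  exact conj_ne φ.toLinearEquiv w hw hST

end model

section perm

variable {G : Type*} [Group G] [Fintype G] {Ω : Type*} [Fintype Ω] [MulAction G Ω]

theorem permRep_character (g : G) :
    (Cfsg.permRep ℂ G Ω).character g = (Nat.card (MulAction.fixedBy Ω g) : ℂ) := by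
  have h0 := Cfsg.Agent.Lib.Lead.Hecke.permChar_eq_sum (G := G) (Ω := Ω) g
  unfold permChar at h0
  rw [h0]
  unfold Representation.character
  rw [LinearMap.trace_eq_matrix_trace ℂ (Pi.basisFun ℂ Ω), Matrix.trace]
  apply Finset.sum_congr rfl
  intro i _
  rw [Matrix.diag_apply, LinearMap.toMatrix_apply, Pi.basisFun_apply, Pi.basisFun_repr]
  show (Pi.single i (1 : ℂ) : Ω → ℂ) (g⁻¹ • i) = _
  rw [Pi.single_apply]
  by_cases h : g • i = i
  · rw [if_pos h, if_pos]
    rw [inv_smul_eq_iff, h]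
  · rw [if_neg h, if_neg]
    intro h'
    apply h
    rw [inv_smul_eq_iff] at h'
    exact h'.symm

/-- multiplicity-freeness of the permutation character is equivalent to commutativity of the
centraliser ring -/
theorem centraliser_comm_iff :
    (∀ χ : G → ℂ, Cfsg.IsIrrCharacter G χ →
      Cfsg.classInner (fun g : G => (Nat.card (MulAction.fixedBy Ω g) : ℂ)) χ = 0 ∨
      Cfsg.classInner (fun g : G => (Nat.card (MulAction.fixedBy Ω g) : ℂ)) χ = 1) ↔
    ∀ S T : (Ω → ℂ) →ₗ[ℂ] (Ω → ℂ),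
      S ∈ ((Cfsg.permRep ℂ G Ω).linHom (Cfsg.permRep ℂ G Ω)).invariants →
      T ∈ ((Cfsg.permRep ℂ G Ω).linHom (Cfsg.permRep ℂ G Ω)).invariants → S ∘ₗ T = T ∘ₗ S := by
  have hc : (Cfsg.permRep ℂ G Ω).character
      = fun g : G => (Nat.card (MulAction.fixedBy Ω g) : ℂ) := funext permRep_character
  rw [← hc]
  constructor
  · intro h S T hS hT
    exact comm_of_multfree _ h S T hS hT
  · intro h χ hχ
    exact multfree_of_comm _ h χ hχ

end perm

end Cfsg.Agent.Lib.Lead.CentRing
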