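import Mathlib
import Cfsg.Agent.Lib.Lead.WRCore2
import Cfsg.Agent.Lib.Helper1.DihedralRecognition

set_option autoImplicit false

namespace Cfsg.Agent.Lib.Lead.WRCore

open Cfsg.Agent.Lib.Lead.QDArith

theorem s1197 {S : Type*} [Group S] [Finite S] (hS : Cfsg.IsWreathed S) (n : ℕ)
    (hn : Nat.card S = 2 ^ (2 * n + 1)) :
    IsCyclic (Subgroup.center S) ∧ Nat.card (Subgroup.center S) = 2 ^ n ∧
      IsCyclic (commutator S) ∧ Nat.card (commutator S) = 2 ^ n ∧
      Nonempty (S ⧸ Subgroup.center S ≃* DihedralGroup (2 ^ n)) := by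
  obtain ⟨m, x, y, z, hw⟩ := exists_WR hS
  obtain rfl := hw.n_eq hn
  have hn1 := hw.n1
  refine ⟨?_, hw.card_center, ?_, hw.card_commutator, ?_⟩
  · rw [hw.center_eq]; infer_instance
  · rw [hw.commutator_eq]; infer_instance
  · have hmk1 : ∀ g : S, ((g : S) : S ⧸ Subgroup.center S) = 1 ↔ ∃ k, g = a n x y k k := by
      intro g
      rw [QuotientGroup.eq_one_iff, hw.mem_center_iff]
    have hZA : Subgroup.center S ≤ hw.A := by
      intro g hg
      obtain ⟨k, rfl⟩ := (hw.mem_center_iff g).1 hg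
      exact hw.a_mem k k
    have hpow : ∀ k : ℕ, ((a n x y 1 0 : S) : S ⧸ Subgroup.center S) ^ k = 1 ↔
        (k : ZMod (2 ^ n)) = 0 := by
      intro k
      rw [← QuotientGroup.mk_pow, hw.a_pow, hmk1, mul_one, mul_zero]
      constructor
      · rintro ⟨t, ht⟩
        obtain ⟨h1, h2⟩ := hw.a_inj ht
        rw [h1, ← h2]
      · intro h; exact ⟨0, by rw [h]⟩
    haveI : NeZero (2 ^ n) := ⟨by positivity⟩
    apply Cfsg.Agent.Lib.Helper1.nonempty_mulEquiv_dihedralGroup (2 ^ n)
      ((a n x y 1 0 : S) : S ⧸ Subgroup.center S) ((b n x y z 0 0 : S) : S ⧸ Subgroup.center S)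
    · apply orderOf_eq_of_pow_and_pow_div_prime (by positivity)
      · rw [hpow]; exact ZMod.natCast_self _
      · intro p hp hdvd
        have hp2 : p = 2 :=
          (Nat.prime_dvd_prime_iff_eq hp Nat.prime_two).1 (hp.dvd_of_dvd_pow hdvd)
        subst hp2
        have h3 : 2 ^ n / 2 = 2 ^ (n - 1) := by
          have : 2 ^ n = 2 * 2 ^ (n - 1) := by rw [← pow_succ']; congr 1; omega
          rw [this, Nat.mul_div_cancel_left _ (by norm_num)]
        rw [h3, Ne, hpow]
        exact hh_ne_zero hn1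
    · intro hmem
      obtain ⟨k, hk⟩ := Subgroup.mem_zpowers_iff.1 hmem
      rw [← QuotientGroup.mk_zpow, QuotientGroup.eq] at hk
      have h1 : a n x y 1 0 ^ k ∈ hw.A := hw.A.zpow_mem (hw.a_mem 1 0) k
      have h2 := hZA hk
      have h3 : b n x y z 0 0 ∈ hw.A := by
        have := hw.A.mul_mem h1 h2
        rwa [mul_inv_cancel_left] at this
      exact hw.b_not_mem 0 0 h3
    · rw [← QuotientGroup.mk_mul, hw.b_mul_b, add_zero, hw.a_zero]
      rfl
    · rw [← QuotientGroup.mk_inv, ← QuotientGroup.mk_mul, ← QuotientGroup.mk_mul,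
        ← QuotientGroup.mk_inv, hw.b_conj_a, ← hw.a_neg, QuotientGroup.eq, ← hw.a_neg,
        ← hw.a_add]
      rw [hw.mem_center_iff]
      exact ⟨-1, by congr 1 <;> ring⟩
    · rw [← Subgroup.index_eq_card]
      have h1 := (Subgroup.center S).card_mul_index
      rw [hw.card_center, hw.card] at h1
      have h2 : 2 ^ (2 * n + 1) = 2 ^ n * (2 * 2 ^ n) := by ring
      rw [h2] at h1
      exact Nat.eq_of_mul_eq_mul_left (by positivity) h1

end Cfsg.Agent.Lib.Lead.WRCore
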