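import Mathlib
import Cfsg.Agent.Lib.Lead.WRCore2

set_option autoImplicit false

namespace Cfsg.Agent.Lib.Lead.WRCore

open Cfsg.Agent.Lib.Lead.QDArith

variable {S : Type*} [Group S]

namespace WR

variable {n : ℕ} {x y z : S} (hw : WR S n x y z)
include hw

/-- The subgroup generated by involutions. -/
def Om : Subgroup S where
  carrier := {g | ∃ i j, (g = a n x y i j ∨ g = b n x y z i j) ∧ 2 * (i + j) = 0}
  one_mem' := ⟨0, 0, Or.inl hw.a_zero.symm, by ring⟩
  mul_mem' := by
    rintro _ _ ⟨i, j, (rfl | rfl), h1⟩ ⟨k, l, (rfl | rfl), h2⟩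
    · exact ⟨i + k, j + l, Or.inl (hw.a_add _ _ _ _).symm, by linear_combination h1 + h2⟩
    · exact ⟨i + k, j + l, Or.inr (hw.a_mul_b _ _ _ _), by linear_combination h1 + h2⟩
    · exact ⟨i + l, j + k, Or.inr (hw.b_mul_a _ _ _ _), by linear_combination h1 + h2⟩
    · exact ⟨i + l, j + k, Or.inl (hw.b_mul_b _ _ _ _), by linear_combination h1 + h2⟩
  inv_mem' := by
    rintro _ ⟨i, j, (rfl | rfl), h1⟩
    · exact ⟨-i, -j, Or.inl (hw.a_neg _ _).symm, by linear_combination -h1⟩
    · exact ⟨-j, -i, Or.inr (hw.b_inv _ _), by linear_combination -h1⟩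

theorem a_mem_Om {i j : ZMod (2 ^ n)} (h : 2 * (i + j) = 0) : a n x y i j ∈ hw.Om :=
  ⟨i, j, Or.inl rfl, h⟩

theorem b_mem_Om {i j : ZMod (2 ^ n)} (h : 2 * (i + j) = 0) : b n x y z i j ∈ hw.Om :=
  ⟨i, j, Or.inr rfl, h⟩

theorem orderOf_b_anti (i j : ZMod (2 ^ n)) (h : i + j = 0) : orderOf (b n x y z i j) = 2 := by
  rw [hw.orderOf_two_iff, hw.b_mul_self_eq_one_iff]
  exact ⟨h, hw.b_ne_one _ _⟩

theorem orderOf_a_zero_hh : orderOf (a n x y 0 (hh n)) = 2 := by
  rw [hw.orderOf_two_iff, hw.a_mul_self_eq_one_iff]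
  refine ⟨⟨Or.inl rfl, Or.inr rfl⟩, ?_⟩
  intro h
  exact hh_ne_zero hw.n1 ((hw.a_eq_one_iff _ _).1 h).2

theorem closure_invol_eq [Finite S] : Subgroup.closure {t : S | orderOf t = 2} = hw.Om := by
  have hn1 := hw.n1
  have h2h := two_hh (n := n) hn1
  apply le_antisymm
  · rw [Subgroup.closure_le]
    intro t ht
    have ht' : orderOf t = 2 := ht
    rw [hw.orderOf_two_iff] at ht'
    obtain ⟨ht1, -⟩ := ht'
    rcases hw.exists_rep t with ⟨i, j, rfl⟩ | ⟨i, j, rfl⟩
    · rw [hw.a_sq, hw.a_eq_one_iff] at ht1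
      exact hw.a_mem_Om (by linear_combination ht1.1 + ht1.2)
    · rw [hw.b_mul_self_eq_one_iff] at ht1
      exact hw.b_mem_Om (by rw [ht1, mul_zero])
  · have hb : ∀ i j : ZMod (2 ^ n), i + j = 0 →
        b n x y z i j ∈ Subgroup.closure {t : S | orderOf t = 2} := fun i j h =>
      Subgroup.subset_closure (hw.orderOf_b_anti i j h)
    have hah : a n x y 0 (hh n) ∈ Subgroup.closure {t : S | orderOf t = 2} :=
      Subgroup.subset_closure hw.orderOf_a_zero_hh
    have ha : ∀ i j : ZMod (2 ^ n), i + j = 0 →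
        a n x y i j ∈ Subgroup.closure {t : S | orderOf t = 2} := by
      intro i j h
      have h1 : a n x y i j = b n x y z i j * b n x y z 0 0 := by
        rw [hw.b_mul_b, add_zero, add_zero]
      rw [h1]
      exact Subgroup.mul_mem _ (hb i j h) (hb 0 0 (by ring))
    rintro g ⟨i, j, (rfl | rfl), h⟩
    · rcases (two_mul_eq_zero_iff hn1 _).1 h with h0 | h0
      · exact ha i j h0
      · have h1 : a n x y i j = a n x y i (j - hh n) * a n x y 0 (hh n) := by
          rw [← hw.a_add]; congr 1 <;> ring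
        rw [h1]
        exact Subgroup.mul_mem _ (ha _ _ (by linear_combination h0)) hah
    · rcases (two_mul_eq_zero_iff hn1 _).1 h with h0 | h0
      · exact hb i j h0
      · have h1 : b n x y z i j = a n x y 0 (hh n) * b n x y z i (j - hh n) := by
          rw [hw.a_mul_b]; congr 1 <;> ring
        rw [h1]
        exact Subgroup.mul_mem _ hah (hb _ _ (by linear_combination h0))

theorem card_Om [Finite S] : Nat.card hw.Om = 2 ^ (n + 2) := by
  classical
  have hn1 := hw.n1
  have h2h := two_hh (n := n) hn1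
  have hh0 := hh_ne_zero (n := n) hn1
  let c : Bool → ZMod (2 ^ n) := fun e => if e then hh n else 0
  have hc2 : ∀ e, 2 * c e = 0 := by
    intro e; cases e
    · show 2 * (0 : ZMod (2 ^ n)) = 0; ring
    · exact h2h
  have hcinj : ∀ e e', c e = c e' → e = e' := by
    intro e e' h
    cases e <;> cases e'
    · rfl
    · exact absurd h.symm hh0
    · exact absurd h hh0
    · rfl
  let F : ZMod (2 ^ n) × Bool × Bool → hw.Om := fun p =>
    if p.2.2 then ⟨b n x y z p.1 (-p.1 + c p.2.1), hw.b_mem_Om (by linear_combination hc2 p.2.1)⟩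
    else ⟨a n x y p.1 (-p.1 + c p.2.1), hw.a_mem_Om (by linear_combination hc2 p.2.1)⟩
  have hFt : ∀ i e, (F (i, e, true) : S) = b n x y z i (-i + c e) := fun i e => rfl
  have hFf : ∀ i e, (F (i, e, false) : S) = a n x y i (-i + c e) := fun i e => rfl
  have hbij : Function.Bijective F := by
    constructor
    · rintro ⟨i, e, f⟩ ⟨i', e', f'⟩ h
      have h' := congrArg Subtype.val h
      cases f <;> cases f'
      · rw [hFf, hFf] at h'
        obtain ⟨h1, h2⟩ := hw.a_inj h'
        subst h1
        have := hcinj e e' (by linear_combination h2)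
        rw [this]
      · rw [hFf, hFt] at h'
        exact absurd h'.symm (hw.b_ne_a _ _ _ _)
      · rw [hFt, hFf] at h'
        exact absurd h' (hw.b_ne_a _ _ _ _)
      · rw [hFt, hFt] at h'
        obtain ⟨h1, h2⟩ := hw.b_inj h'
        subst h1
        have := hcinj e e' (by linear_combination h2)
        rw [this]
    · rintro ⟨g, i, j, (rfl | rfl), h⟩
      · rcases (two_mul_eq_zero_iff hn1 _).1 h with h0 | h0
        · refine ⟨(i, false, false), Subtype.ext ?_⟩
          rw [hFf]
          congr 1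
          show -i + 0 = j
          linear_combination -h0
        · refine ⟨(i, true, false), Subtype.ext ?_⟩
          rw [hFf]
          congr 1
          show -i + hh n = j
          linear_combination -h0
      · rcases (two_mul_eq_zero_iff hn1 _).1 h with h0 | h0
        · refine ⟨(i, false, true), Subtype.ext ?_⟩
          rw [hFt]
          congr 1
          show -i + 0 = j
          linear_combination -h0
        · refine ⟨(i, true, true), Subtype.ext ?_⟩
          rw [hFt]
          congr 1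
          show -i + hh n = j
          linear_combination -h0
  rw [← Nat.card_congr (Equiv.ofBijective F hbij), Nat.card_prod, Nat.card_prod,
    Nat.card_eq_fintype_card, Nat.card_eq_fintype_card, ZMod.card, Fintype.card_bool]
  ring

theorem sup_zpowers_eq_top [Finite S] : hw.Om ⊔ Subgroup.zpowers (a n x y 1 0) = ⊤ := by
  haveI : NeZero (2 ^ n) := ⟨by positivity⟩
  have hz : ∀ k : ZMod (2 ^ n), a n x y k 0 ∈ Subgroup.zpowers (a n x y 1 0) := by
    intro k
    have h1 : a n x y k 0 = a n x y 1 0 ^ k.val := by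
      rw [hw.a_pow, ZMod.natCast_zmod_val, mul_one, mul_zero]
    rw [h1]
    exact (Subgroup.zpowers (a n x y 1 0)).pow_mem (Subgroup.mem_zpowers _) _
  rw [eq_top_iff]
  intro g _
  rcases hw.exists_rep g with ⟨i, j, rfl⟩ | ⟨i, j, rfl⟩
  · have h1 : a n x y i j = a n x y (-j) j * a n x y (i + j) 0 := by
      rw [← hw.a_add]; congr 1 <;> ring
    rw [h1]
    exact Subgroup.mul_mem_sup (hw.a_mem_Om (by ring)) (hz _)
  · have h1 : b n x y z i j = a n x y (i + j) 0 * b n x y z (-j) j := by
      rw [hw.a_mul_b]; congr 1 <;> ring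
    rw [h1]
    exact Subgroup.mul_mem _ (Subgroup.mem_sup_right (hz _))
      (Subgroup.mem_sup_left (hw.b_mem_Om (by ring)))

end WR

theorem s1200 {S : Type*} [Group S] [Finite S] (hS : Cfsg.IsWreathed S) (n : ℕ)
    (hn : Nat.card S = 2 ^ (2 * n + 1)) :
    Nat.card (Subgroup.closure {x : S | orderOf x = 2}) = 2 ^ (n + 2) ∧
      ∃ s : S, Subgroup.closure {x : S | orderOf x = 2} ⊔ Subgroup.zpowers s = ⊤ := by
  obtain ⟨m, x, y, z, hw⟩ := exists_WR hS
  obtain rfl := hw.n_eq hn
  rw [hw.closure_invol_eq]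
  exact ⟨hw.card_Om, _, hw.sup_zpowers_eq_top⟩

end Cfsg.Agent.Lib.Lead.WRCore
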