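import Mathlib
import Cfsg.Prelude.Def_OddOrderChar
import Cfsg.Agent.S1498

set_option autoImplicit false

/-! The Dade hypothesis: basic consequences. -/

namespace Cfsg.Agent.Lib.Lead.Dade

variable {G : Type*} [Group G] [Finite G]
variable {A : Set G} {L : Subgroup G} {H : G → Subgroup G}

/-- the centraliser in `L`. -/
abbrev CL (L : Subgroup G) (a : G) : Subgroup G := L ⊓ Subgroup.centralizer ({a} : Set G)

omit [Finite G] in
theorem commute_of_mem (hD : Cfsg.DadeHypothesis A L H) {a : G} (ha : a ∈ A) {u : G}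
    (hu : u ∈ H a) : Commute a u := by
  have := hD.le_centralizer a ha hu
  rw [Subgroup.mem_centralizer_singleton_iff] at this
  exact this.symm

theorem orderOf_dvd_CL (hD : Cfsg.DadeHypothesis A L H) {a : G} (ha : a ∈ A) :
    orderOf a ∣ Nat.card (CL L a) := by
  have hc : a ∈ Subgroup.centralizer ({a} : Set G) := by
    rw [Subgroup.mem_centralizer_singleton_iff]
  have hmem : a ∈ CL L a := ⟨hD.subset ha, hc⟩
  have := orderOf_dvd_natCard (⟨a, hmem⟩ : CL L a)
  rwa [Subgroup.orderOf_mk] at this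

theorem orderOf_dvd_H {a u : G} (hu : u ∈ H a) : orderOf u ∣ Nat.card (H a) := by
  have := orderOf_dvd_natCard (⟨u, hu⟩ : H a)
  rwa [Subgroup.orderOf_mk] at this

/-- the power argument: conjugate elements of the cosets have conjugate leading terms. -/
theorem conj_eq_of_conj_mul (hD : Cfsg.DadeHypothesis A L H) {a b : G} (ha : a ∈ A) (hb : b ∈ A)
    {u v g : G} (hu : u ∈ H a) (hv : v ∈ H b) (hg : g * (a * u) * g⁻¹ = b * v) :
    g * a * g⁻¹ = b := by
  have hcop : Nat.Coprime (orderOf a * orderOf b) (orderOf u * orderOf v) := by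
    have h1 := Nat.Coprime.coprime_dvd_left (orderOf_dvd_H hu)
      (Nat.Coprime.coprime_dvd_right (orderOf_dvd_CL hD ha) (hD.coprime a ha a ha))
    have h2 := Nat.Coprime.coprime_dvd_left (orderOf_dvd_H hu)
      (Nat.Coprime.coprime_dvd_right (orderOf_dvd_CL hD hb) (hD.coprime a ha b hb))
    have h3 := Nat.Coprime.coprime_dvd_left (orderOf_dvd_H hv)
      (Nat.Coprime.coprime_dvd_right (orderOf_dvd_CL hD ha) (hD.coprime b hb a ha))
    have h4 := Nat.Coprime.coprime_dvd_left (orderOf_dvd_H hv)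
      (Nat.Coprime.coprime_dvd_right (orderOf_dvd_CL hD hb) (hD.coprime b hb b hb))
    exact Nat.Coprime.mul_left (Nat.Coprime.mul_right h1.symm h3.symm)
      (Nat.Coprime.mul_right h2.symm h4.symm)
  obtain ⟨n, hn1, hn0⟩ := Nat.chineseRemainder hcop 1 0
  have han : a ^ n = a := by
    have : a ^ n = a ^ 1 := pow_eq_pow_iff_modEq.2 (hn1.of_dvd (dvd_mul_right _ _))
    rwa [pow_one] at this
  have hbn : b ^ n = b := by
    have : b ^ n = b ^ 1 := pow_eq_pow_iff_modEq.2 (hn1.of_dvd (dvd_mul_left _ _))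
    rwa [pow_one] at this
  have hun : u ^ n = 1 := by
    have : u ^ n = u ^ 0 := pow_eq_pow_iff_modEq.2 (hn0.of_dvd (dvd_mul_right _ _))
    rwa [pow_zero] at this
  have hvn : v ^ n = 1 := by
    have : v ^ n = v ^ 0 := pow_eq_pow_iff_modEq.2 (hn0.of_dvd (dvd_mul_left _ _))
    rwa [pow_zero] at this
  have h1 : (g * (a * u) * g⁻¹) ^ n = g * a * g⁻¹ := by
    rw [conj_pow, (commute_of_mem hD ha hu).mul_pow, han, hun, mul_one]
  have h2 : (b * v) ^ n = b := by
    rw [(commute_of_mem hD hb hv).mul_pow, hbn, hvn, mul_one]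
  rw [← h1, hg, h2]

theorem s1499 (hD : Cfsg.DadeHypothesis A L H) (a b : G) (ha : a ∈ A) (hb : b ∈ A) :
    ((∃ u ∈ H a, ∃ v ∈ H b, ∃ g : G, g * (a * u) * g⁻¹ = b * v) → ∃ x ∈ L, x * a * x⁻¹ = b) ∧
    Subgroup.normalizer ((fun u : G => a * u) '' (H a : Set G))
      = Subgroup.centralizer ({a} : Set G) := by
  constructor
  · rintro ⟨u, hu, v, hv, g, hg⟩
    have h1 := conj_eq_of_conj_mul hD ha hb hu hv hg
    obtain ⟨x, hx, hxa⟩ := hD.fusion a ha g (by rw [h1]; exact hb)
    exact ⟨x, hx, hxa.trans h1⟩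
  · ext g
    rw [Subgroup.mem_set_normalizer_iff]
    constructor
    · intro hg
      have h1 : a ∈ (fun u : G => a * u) '' (H a : Set G) := ⟨1, one_mem _, mul_one a⟩
      obtain ⟨u', hu', hu'e⟩ := (hg a).1 h1
      have h2 := conj_eq_of_conj_mul hD ha ha (one_mem (H a)) hu' (g := g)
        (by rw [mul_one]; exact hu'e.symm)
      rw [Subgroup.mem_centralizer_singleton_iff]
      calc g * a = (g * a * g⁻¹) * g := by group
        _ = a * g := by rw [h2]
    · intro hg n
      have hg' : g * a = a * g := Subgroup.mem_centralizer_singleton_iff.1 hg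
      constructor
      · rintro ⟨u, hu, rfl⟩
        refine ⟨g * u * g⁻¹, hD.conj_mem_H a ha g hg u hu, ?_⟩
        change a * (g * u * g⁻¹) = g * (a * u) * g⁻¹
        calc a * (g * u * g⁻¹) = (a * g) * u * g⁻¹ := by group
          _ = g * (a * u) * g⁻¹ := by rw [← hg']; group
      · rintro ⟨u, hu, hue⟩
        change a * u = g * n * g⁻¹ at hue
        have hginv : g⁻¹ ∈ Subgroup.centralizer ({a} : Set G) := inv_mem hg
        refine ⟨g⁻¹ * u * g⁻¹⁻¹, hD.conj_mem_H a ha g⁻¹ hginv u hu, ?_⟩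
        change a * (g⁻¹ * u * g⁻¹⁻¹) = n
        have hn : n = g⁻¹ * (a * u) * g := by rw [hue]; group
        rw [hn, inv_inv]
        have hg'' : g⁻¹ * a = a * g⁻¹ := Subgroup.mem_centralizer_singleton_iff.1 hginv
        calc a * (g⁻¹ * u * g) = (a * g⁻¹) * u * g := by group
          _ = g⁻¹ * (a * u) * g := by rw [← hg'']; group

end Cfsg.Agent.Lib.Lead.Dade
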