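import Mathlib
import Cfsg.Agent.Lib.Lead.Dade1

set_option autoImplicit false

/-! The Dade map: values, class function property, counting. -/

namespace Cfsg.Agent.Lib.Lead.Dade

open scoped ComplexConjugate

variable {G : Type*} [Group G] [Finite G]
variable {A : Set G} {L : Subgroup G} {H : G → Subgroup G}

/-- class functions of `L` agree on `G`-conjugate elements of `A`. -/
theorem alpha_conj (hD : Cfsg.DadeHypothesis A L H) {α : L → ℂ} (hα : Cfsg.IsClassFunction L α)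
    (a a' : L) (ha : (a : G) ∈ A) (y : G) (hy : (a' : G) = y * a * y⁻¹) (ha' : (a' : G) ∈ A) :
    α a' = α a := by
  obtain ⟨l, hl, hle⟩ := hD.fusion a ha y (by rw [← hy]; exact ha')
  have : a' = ⟨l, hl⟩ * a * ⟨l, hl⟩⁻¹ := by
    apply Subtype.ext
    rw [hy, ← hle]
    rfl
  rw [this]
  exact hα a ⟨l, hl⟩

/-- the value of the Dade map. -/
theorem dade_apply (hD : Cfsg.DadeHypothesis A L H) {α : L → ℂ} (hα : Cfsg.IsClassFunction L α)
    (a : L) (ha : (a : G) ∈ A) {x u g : G} (hu : u ∈ H a) (hx : x * g * x⁻¹ = a * u) :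
    Cfsg.dadeIsometry A L H α g = α a := by
  have h : ∃ a : ↥L, (a : G) ∈ A ∧ ∃ x : G, ∃ u ∈ H (a : G), x * g * x⁻¹ = (a : G) * u :=
    ⟨a, ha, x, u, hu, hx⟩
  unfold Cfsg.dadeIsometry
  rw [dif_pos h]
  obtain ⟨ha', x', u', hu', hx'⟩ := Classical.choose_spec h
  set a' := Classical.choose h
  have hg : g = x'⁻¹ * (a' * u') * x' := by rw [← hx']; group
  have h1 : (x * x'⁻¹) * ((a' : G) * u') * (x * x'⁻¹)⁻¹ = a * u := by
    rw [← hx, hg]; group
  have h2 := conj_eq_of_conj_mul hD ha' ha hu' hu h1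
  exact (alpha_conj hD hα a' a ha' (x * x'⁻¹) h2.symm ha).symm

/-- the Dade map vanishes off the support. -/
theorem dade_apply_of_not {α : L → ℂ} {g : G}
    (h : ¬ ∃ a : ↥L, (a : G) ∈ A ∧ ∃ x : G, ∃ u ∈ H (a : G), x * g * x⁻¹ = (a : G) * u) :
    Cfsg.dadeIsometry A L H α g = 0 := by
  unfold Cfsg.dadeIsometry
  rw [dif_neg h]

/-- the Dade map of a class function is a class function. -/
theorem dade_isClassFunction (hD : Cfsg.DadeHypothesis A L H) {α : L → ℂ}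
    (hα : Cfsg.IsClassFunction L α) : Cfsg.IsClassFunction G (Cfsg.dadeIsometry A L H α) := by
  intro g h
  by_cases hs : ∃ a : ↥L, (a : G) ∈ A ∧ ∃ x : G, ∃ u ∈ H (a : G), x * g * x⁻¹ = (a : G) * u
  · obtain ⟨a, ha, x, u, hu, hx⟩ := hs
    rw [dade_apply hD hα a ha hu hx]
    apply dade_apply hD hα a ha hu (x := x * h⁻¹)
    rw [← hx]; group
  · rw [dade_apply_of_not hs]
    apply dade_apply_of_not
    rintro ⟨a, ha, x, u, hu, hx⟩
    apply hs
    refine ⟨a, ha, x * h, u, hu, ?_⟩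
    rw [← hx]; group

/-- conjugation of the attached subgroups by arbitrary elements. -/
theorem conj_mem_H_of_conj (hD : Cfsg.DadeHypothesis A L H) {a : G} (ha : a ∈ A) (y : G)
    (hy : y * a * y⁻¹ ∈ A) :
    (∀ u ∈ H a, y * u * y⁻¹ ∈ H (y * a * y⁻¹)) ∧ Nat.card (H (y * a * y⁻¹)) = Nat.card (H a) := by
  obtain ⟨x, hx, hxe⟩ := hD.fusion a ha y hy
  have hH := Cfsg.Agent.S1498.result A L H hD a ha x hx
  rw [hxe] at hH
  have hc : x⁻¹ * y ∈ Subgroup.centralizer ({a} : Set G) := by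
    rw [Subgroup.mem_centralizer_singleton_iff]
    have : y * a = x * a * x⁻¹ * y := by rw [hxe]; group
    calc x⁻¹ * y * a = x⁻¹ * (y * a) := by group
      _ = x⁻¹ * (x * a * x⁻¹ * y) := by rw [this]
      _ = a * (x⁻¹ * y) := by group
  constructor
  · intro u hu
    rw [hH]
    refine ⟨(x⁻¹ * y) * u * (x⁻¹ * y)⁻¹, hD.conj_mem_H a ha _ hc u hu, ?_⟩
    change x * ((x⁻¹ * y) * u * (x⁻¹ * y)⁻¹) * x⁻¹ = y * u * y⁻¹
    group
  · rw [hH]
    exact Nat.card_congr ((H a).equivMapOfInjective _ (MulAut.conj x).injective).symm.toEquiv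

/-- the number of elements conjugating `a` into `A`. -/
theorem card_conj_mem (hD : Cfsg.DadeHypothesis A L H) {a : G} (ha : a ∈ A) :
    Nat.card {y : G // y * a * y⁻¹ ∈ A} = Nat.card L * Nat.card (H a) := by
  rw [← Nat.card_prod]
  symm
  apply Nat.card_congr
  refine Equiv.ofBijective (fun p : L × H a => ⟨(p.1 : G) * (p.2 : G), ?_⟩) ⟨?_, ?_⟩
  · have hc := commute_of_mem hD ha p.2.2
    have : (p.1 : G) * (p.2 : G) * a * ((p.1 : G) * (p.2 : G))⁻¹ = (p.1 : G) * a * (p.1 : G)⁻¹ := by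
      calc (p.1 : G) * (p.2 : G) * a * ((p.1 : G) * (p.2 : G))⁻¹
          = (p.1 : G) * ((p.2 : G) * a) * (p.2 : G)⁻¹ * (p.1 : G)⁻¹ := by group
        _ = (p.1 : G) * (a * (p.2 : G)) * (p.2 : G)⁻¹ * (p.1 : G)⁻¹ := by rw [hc.eq]
        _ = (p.1 : G) * a * (p.1 : G)⁻¹ := by group
    rw [this]
    exact hD.conj_mem _ p.1.2 a ha
  · rintro ⟨x, u⟩ ⟨x', u'⟩ hp
    have hp' : (x : G) * (u : G) = (x' : G) * (u' : G) := congrArg Subtype.val hp
    have h1 : (x' : G)⁻¹ * (x : G) = (u' : G) * (u : G)⁻¹ := by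
      calc (x' : G)⁻¹ * (x : G) = (x' : G)⁻¹ * ((x : G) * (u : G)) * (u : G)⁻¹ := by group
        _ = (u' : G) * (u : G)⁻¹ := by rw [hp']; group
    have h2 : (u' : G) * (u : G)⁻¹ ∈ H a ⊓ (L ⊓ Subgroup.centralizer ({a} : Set G)) := by
      have hH : (u' : G) * (u : G)⁻¹ ∈ H a := (H a).mul_mem u'.2 ((H a).inv_mem u.2)
      refine ⟨hH, ?_, hD.le_centralizer a ha hH⟩
      rw [← h1]
      exact L.mul_mem (L.inv_mem x'.2) x.2
    rw [hD.inf_eq_bot a ha, Subgroup.mem_bot] at h2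
    have hu : u' = u := by
      apply Subtype.ext
      exact mul_inv_eq_one.1 h2
    have hx : x = x' := by
      apply Subtype.ext
      rw [h2] at h1
      have := inv_mul_eq_one.1 h1
      exact this.symm
    rw [hx, hu]
  · rintro ⟨y, hy⟩
    obtain ⟨x, hx, hxe⟩ := hD.fusion a ha y hy
    have hc : y⁻¹ * x ∈ Subgroup.centralizer ({a} : Set G) := by
      rw [Subgroup.mem_centralizer_singleton_iff]
      have : x * a = y * a * y⁻¹ * x := by rw [← hxe]; group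
      calc y⁻¹ * x * a = y⁻¹ * (x * a) := by group
        _ = y⁻¹ * (y * a * y⁻¹ * x) := by rw [this]
        _ = a * (y⁻¹ * x) := by group
    rw [← hD.sup_eq a ha] at hc
    obtain ⟨n, hn, k, hk, hnk⟩ := Cfsg.Agent.S1498.mem_sup_of_conj (H a)
      (L ⊓ Subgroup.centralizer ({a} : Set G))
      (fun c hc u hu => hD.conj_mem_H a ha c hc.2 u hu) _ hc
    -- y⁻¹ x = n k, so y = x k⁻¹ n⁻¹
    refine ⟨(⟨x * k⁻¹, mul_mem hx (inv_mem hk.1)⟩, ⟨n⁻¹, inv_mem hn⟩), ?_⟩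
    apply Subtype.ext
    change x * k⁻¹ * n⁻¹ = y
    have : x = y * (n * k) := by rw [← hnk]; group
    rw [this]; group

end Cfsg.Agent.Lib.Lead.Dade
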