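import Mathlib
import Cfsg.Agent.Lib.Helper2.SylowNormal

set_option autoImplicit false

/-! Groups whose Sylow 2-subgroup is homocyclic of type `(2^m, 2^m)`: automizer of order 1 or 3. -/

namespace Cfsg.Agent.Lib.Lead.Homocyc

open Cfsg.Agent.Lib.Helper2

section coords

variable (m : ℕ)

/-- the element of order two of `ZMod (2^m)` -/
def hh : ZMod (2 ^ m) := ((2 ^ (m - 1) : ℕ) : ZMod (2 ^ m))

theorem two_pow_split (hm : 1 ≤ m) : 2 ^ (m - 1) + 2 ^ (m - 1) = 2 ^ m := by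
  obtain ⟨k, rfl⟩ : ∃ k, m = k + 1 := ⟨m - 1, by omega⟩
  rw [Nat.add_sub_cancel, pow_succ]; ring

theorem hh_add_self (hm : 1 ≤ m) : hh m + hh m = 0 := by
  unfold hh
  rw [← Nat.cast_add, two_pow_split m hm, ZMod.natCast_self]

theorem hh_ne_zero (hm : 1 ≤ m) : hh m ≠ 0 := by
  unfold hh
  intro h
  rw [ZMod.natCast_eq_zero_iff] at h
  have h1 : 2 ^ m ≤ 2 ^ (m - 1) := Nat.le_of_dvd (by positivity) h
  have h2 := two_pow_split m hm
  have h3 : 0 < 2 ^ (m - 1) := by positivity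
  omega

theorem two_tors (hm : 1 ≤ m) (x : ZMod (2 ^ m)) (hx : x + x = 0) : x = 0 ∨ x = hh m := by
  haveI : NeZero (2 ^ m) := ⟨by positivity⟩
  have hv : ((x.val + x.val : ℕ) : ZMod (2 ^ m)) = 0 := by
    rw [Nat.cast_add, ZMod.natCast_zmod_val]; exact hx
  rw [ZMod.natCast_eq_zero_iff] at hv
  have hlt := ZMod.val_lt x
  have hsp := two_pow_split m hm
  obtain ⟨A, hA⟩ : ∃ A : ℕ, A = 2 ^ (m - 1) := ⟨_, rfl⟩
  rw [← hA] at hsp
  obtain ⟨c, hc⟩ := hv
  have hc' : x.val + x.val = (A + A) * c := by rw [hsp]; exact hc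
  have hlt' : x.val < A + A := by rw [hsp]; exact hlt
  clear hc hlt
  have hc2 : c = 0 ∨ c = 1 := by
    rcases Nat.lt_or_ge c 2 with h | h
    · omega
    · exfalso
      have : (A + A) * 2 ≤ (A + A) * c := Nat.mul_le_mul_left _ h
      omega
  rcases hc2 with rfl | rfl
  · left
    have : x.val = 0 := by omega
    exact (ZMod.val_eq_zero x).mp this
  · right
    have h1 : x.val = A := by omega
    unfold hh
    rw [← hA, ← h1, ZMod.natCast_zmod_val]

theorem mem_T (hm : 1 ≤ m) (x : ZMod (2 ^ m) × ZMod (2 ^ m)) (hx : x + x = 0) :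
    x ∈ (({0, hh m} : Finset (ZMod (2 ^ m))) ×ˢ ({0, hh m} : Finset (ZMod (2 ^ m)))) := by
  rw [Finset.mem_product]
  have h1 : x.1 + x.1 = 0 := by have := congrArg Prod.fst hx; simpa using this
  have h2 : x.2 + x.2 = 0 := by have := congrArg Prod.snd hx; simpa using this
  constructor
  · rcases two_tors m hm x.1 h1 with h | h <;> simp [h]
  · rcases two_tors m hm x.2 h2 with h | h <;> simp [h]

theorem S_add (hm : 1 ≤ m) (u v w : ZMod (2 ^ m) × ZMod (2 ^ m)) (hu : u + u = 0)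
    (hv : v + v = 0) (hw : w + w = 0) (hu0 : u ≠ 0) (hv0 : v ≠ 0) (huv : u ≠ v) :
    w = 0 ∨ w = u ∨ w = v ∨ w = u + v := by
  classical
  obtain ⟨T, hT⟩ : ∃ T, T = (({0, hh m} : Finset (ZMod (2 ^ m))) ×ˢ
      ({0, hh m} : Finset (ZMod (2 ^ m)))) := ⟨_, rfl⟩
  have hTc : T.card = 4 := by
    rw [hT, Finset.card_product, Finset.card_pair (hh_ne_zero m hm).symm]
  have hneg : u = -u := eq_neg_of_add_eq_zero_left hu
  have huv0 : u + v ≠ 0 := by
    intro h
    apply huv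
    have : v = -u := eq_neg_of_add_eq_zero_right h
    rw [this, ← hneg]
  have huvu : u + v ≠ u := by
    intro h; apply hv0; simpa using h
  have huvv : u + v ≠ v := by
    intro h; apply hu0; simpa using h
  have huvuv : (u + v) + (u + v) = 0 := by
    calc (u + v) + (u + v) = (u + u) + (v + v) := by abel
      _ = 0 := by rw [hu, hv, add_zero]
  have h1 : v ≠ u + v := fun h => huvv h.symm
  have h2 : u ∉ ({v, u + v} : Finset (ZMod (2 ^ m) × ZMod (2 ^ m))) := by
    simp only [Finset.mem_insert, Finset.mem_singleton, not_or]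
    exact ⟨huv, fun h => huvu h.symm⟩
  have h3 : (0 : ZMod (2 ^ m) × ZMod (2 ^ m)) ∉
      ({u, v, u + v} : Finset (ZMod (2 ^ m) × ZMod (2 ^ m))) := by
    simp only [Finset.mem_insert, Finset.mem_singleton, not_or]
    exact ⟨fun h => hu0 h.symm, fun h => hv0 h.symm, fun h => huv0 h.symm⟩
  obtain ⟨s, hs⟩ : ∃ s : Finset (ZMod (2 ^ m) × ZMod (2 ^ m)), s = {0, u, v, u + v} := ⟨_, rfl⟩
  have hsc : s.card = 4 := by
    rw [hs, Finset.card_insert_of_notMem h3, Finset.card_insert_of_notMem h2, Finset.card_pair h1]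
  have hsub : s ⊆ T := by
    intro x hx
    rw [hs] at hx
    simp only [Finset.mem_insert, Finset.mem_singleton] at hx
    rw [hT]
    rcases hx with rfl | rfl | rfl | rfl
    · exact mem_T m hm 0 (by simp)
    · exact mem_T m hm _ hu
    · exact mem_T m hm _ hv
    · exact mem_T m hm _ huvuv
  have hst : s = T := Finset.eq_of_subset_of_card_le hsub (by rw [hTc, hsc])
  have hwT : w ∈ s := by rw [hst, hT]; exact mem_T m hm w hw
  rw [hs] at hwT
  simpa only [Finset.mem_insert, Finset.mem_singleton] using hwT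

end coords

section main

variable {G : Type*} [Group G]

/-- abstract properties of a homocyclic `2`-group of rank two used below -/
structure Hyp (P : Subgroup G) : Prop where
  comm : ∀ x ∈ P, ∀ y ∈ P, x * y = y * x
  pw : ∀ x ∈ P, ∃ i : ℕ, x ^ (2 ^ i) = 1
  ex : ∃ a b : G, a ∈ P ∧ b ∈ P ∧ a ^ 2 = 1 ∧ b ^ 2 = 1 ∧ a ≠ 1 ∧ b ≠ 1 ∧ a ≠ b
  str : ∀ t t' w : G, t ∈ P → t' ∈ P → w ∈ P → t ^ 2 = 1 → t' ^ 2 = 1 → w ^ 2 = 1 →
    t ≠ 1 → t' ≠ 1 → t ≠ t' → w = 1 ∨ w = t ∨ w = t' ∨ w = t * t'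

theorem hyp_of_equiv (P : Subgroup G) (hP : IsPGroup 2 P) (m : ℕ) (hm : 1 ≤ m)
    (e : P ≃* Multiplicative (ZMod (2 ^ m) × ZMod (2 ^ m))) : Hyp P := by
  obtain ⟨v, hv⟩ : ∃ v : P → ZMod (2 ^ m) × ZMod (2 ^ m),
      v = fun w => Multiplicative.toAdd (e w) := ⟨_, rfl⟩
  have v_mul : ∀ x y : P, v (x * y) = v x + v y := by intro x y; simp [hv]
  have v_one : v 1 = 0 := by simp [hv]
  have v_inj : ∀ x y : P, v x = v y → x = y := by
    intro x y hxy
    rw [hv] at hxy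
    exact e.injective (Multiplicative.toAdd.injective hxy)
  have v_sq : ∀ x : P, x ^ 2 = 1 ↔ v x + v x = 0 := by
    intro x
    rw [pow_two, ← v_mul, ← v_one]
    exact ⟨fun hx => by rw [hx], fun hx => v_inj _ _ hx⟩
  have v_surj : ∀ u, ∃ x : P, v x = u := by
    intro u; exact ⟨e.symm (Multiplicative.ofAdd u), by simp [hv]⟩
  have sq_sub : ∀ (t : G) (ht : t ∈ P), t ^ 2 = 1 → (⟨t, ht⟩ : P) ^ 2 = 1 := by
    intro t ht h2
    apply Subtype.ext
    rw [Subgroup.coe_pow]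
    exact h2
  have ne_sub : ∀ (t : G) (ht : t ∈ P), t ≠ 1 → v ⟨t, ht⟩ ≠ 0 := by
    intro t ht h1 h0
    apply h1
    have := v_inj ⟨t, ht⟩ 1 (by rw [h0, v_one])
    exact congrArg Subtype.val this
  refine ⟨?_, ?_, ?_, ?_⟩
  · intro x hx y hy
    have := v_inj (⟨x, hx⟩ * ⟨y, hy⟩) (⟨y, hy⟩ * ⟨x, hx⟩) (by rw [v_mul, v_mul, add_comm])
    exact congrArg Subtype.val this
  · intro x hx
    obtain ⟨k, hk⟩ := hP ⟨x, hx⟩
    refine ⟨k, ?_⟩
    have := congrArg Subtype.val hk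
    simpa using this
  · obtain ⟨a, ha⟩ := v_surj (hh m, 0)
    obtain ⟨b, hb⟩ := v_surj (0, hh m)
    have ha2 : a ^ 2 = 1 := (v_sq a).mpr (by rw [ha]; ext <;> simp [hh_add_self m hm])
    have hb2 : b ^ 2 = 1 := (v_sq b).mpr (by rw [hb]; ext <;> simp [hh_add_self m hm])
    refine ⟨a, b, a.2, b.2, ?_, ?_, ?_, ?_, ?_⟩
    · have := congrArg Subtype.val ha2; simpa using this
    · have := congrArg Subtype.val hb2; simpa using this
    · intro h
      have h1 : a = 1 := Subtype.ext h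
      rw [h1, v_one] at ha
      have := congrArg Prod.fst ha
      exact hh_ne_zero m hm (by simpa using this.symm)
    · intro h
      have h1 : b = 1 := Subtype.ext h
      rw [h1, v_one] at hb
      have := congrArg Prod.snd hb
      exact hh_ne_zero m hm (by simpa using this.symm)
    · intro h
      have h1 : a = b := Subtype.ext h
      rw [h1, hb] at ha
      have := congrArg Prod.fst ha
      exact hh_ne_zero m hm (by simpa using this.symm)
  · intro t t' w htP ht'P hwP ht2 ht'2 hw2 ht1 ht'1 htt'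
    have hne : v ⟨t, htP⟩ ≠ v ⟨t', ht'P⟩ := by
      intro h
      apply htt'
      exact congrArg Subtype.val (v_inj _ _ h)
    have := S_add m hm (v ⟨t, htP⟩) (v ⟨t', ht'P⟩) (v ⟨w, hwP⟩)
      ((v_sq _).mp (sq_sub t htP ht2)) ((v_sq _).mp (sq_sub t' ht'P ht'2))
      ((v_sq _).mp (sq_sub w hwP hw2)) (ne_sub t htP ht1) (ne_sub t' ht'P ht'1) hne
    rcases this with h | h | h | h
    · left
      have := v_inj ⟨w, hwP⟩ 1 (by rw [h, v_one])
      exact congrArg Subtype.val this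
    · right; left; exact congrArg Subtype.val (v_inj _ _ h)
    · right; right; left; exact congrArg Subtype.val (v_inj _ _ h)
    · right; right; right
      have := v_inj ⟨w, hwP⟩ (⟨t, htP⟩ * ⟨t', ht'P⟩) (by rw [h, v_mul])
      exact congrArg Subtype.val this

theorem conj_eq_iff (n x : G) : n * x * n⁻¹ = x ↔ x * n = n * x := by
  rw [mul_inv_eq_iff_eq_mul]; exact eq_comm

theorem mem_cent_iff (P : Subgroup G) (n : G) :
    n ∈ Subgroup.centralizer (P : Set G) ↔ ∀ x ∈ P, n * x * n⁻¹ = x := by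
  rw [Subgroup.mem_centralizer_iff]
  constructor
  · intro h x hx; exact (conj_eq_iff n x).mpr (h x hx)
  · intro h x hx; exact (conj_eq_iff n x).mp (h x hx)

theorem conj_mem_of_mem_normalizer (P : Subgroup G) {n x : G}
    (hn : n ∈ Subgroup.normalizer (P : Set G)) (hx : x ∈ P) : n * x * n⁻¹ ∈ P :=
  (Subgroup.mem_normalizer_iff.mp hn x).mp hx

theorem conj_even_pow_fix (n x : G) (h2 : n * (n * x * n⁻¹) * n⁻¹ = x) (k : ℕ) :
    n ^ (2 * k) * x * (n ^ (2 * k))⁻¹ = x := by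
  induction k with
  | zero => simp
  | succ k ih =>
    have e : n ^ (2 * (k + 1)) = n ^ (2 * k) * (n * n) := by
      rw [show 2 * (k + 1) = 2 * k + 2 by ring, pow_add, pow_two]
    rw [e]
    obtain ⟨g, hg⟩ : ∃ g, g = n ^ (2 * k) := ⟨_, rfl⟩
    rw [← hg] at ih ⊢
    calc g * (n * n) * x * (g * (n * n))⁻¹
        = g * (n * (n * x * n⁻¹) * n⁻¹) * g⁻¹ := by group
      _ = g * x * g⁻¹ := by rw [h2]
      _ = x := ih

theorem mem_of_sq_mem (C : Subgroup G) {n : G} {r : ℕ} (hr : Odd r) (h2 : n ^ 2 ∈ C)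
    (hnr : n ^ r ∈ C) : n ∈ C := by
  obtain ⟨k, rfl⟩ := hr
  have h1 : n = ((n ^ 2) ^ k)⁻¹ * n ^ (2 * k + 1) := by
    rw [← pow_mul, pow_succ, ← mul_assoc, inv_mul_cancel, one_mul]
  have h3 : ((n ^ 2) ^ k)⁻¹ * n ^ (2 * k + 1) ∈ C :=
    C.mul_mem (C.inv_mem (C.pow_mem h2 k)) hnr
  rw [← h1] at h3
  exact h3

/-- an element of the normalizer fixing every element of order `≤ 2` centralizes `P` -/
theorem mem_cent_of_fix_omega (P : Subgroup G) (h : Hyp P) {n : G}
    (hn : n ∈ Subgroup.normalizer (P : Set G)) {r : ℕ} (hr : Odd r)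
    (hnr : n ^ r ∈ Subgroup.centralizer (P : Set G))
    (hfix : ∀ w ∈ P, w ^ 2 = 1 → n * w * n⁻¹ = w) :
    n ∈ Subgroup.centralizer (P : Set G) := by
  have key : ∀ i : ℕ, ∀ x ∈ P, x ^ (2 ^ i) = 1 → n * x * n⁻¹ = x := by
    intro i
    induction i with
    | zero =>
      intro x _ hx
      rw [pow_zero, pow_one] at hx
      subst hx
      group
    | succ i ih =>
      intro x hx hxi
      have hx2 : n * x ^ 2 * n⁻¹ = x ^ 2 := by
        apply ih _ (P.pow_mem hx 2)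
        rw [← pow_mul, ← pow_succ']; exact hxi
      have hfxP : n * x * n⁻¹ ∈ P := conj_mem_of_mem_normalizer P hn hx
      have hyP : n * x * n⁻¹ * x⁻¹ ∈ P := P.mul_mem hfxP (P.inv_mem hx)
      have hsq : (n * x * n⁻¹) ^ 2 = x ^ 2 := by rw [conj_pow]; exact hx2
      have hy2 : (n * x * n⁻¹ * x⁻¹) ^ 2 = 1 := by
        have hc : n * x * n⁻¹ * x⁻¹ = x⁻¹ * (n * x * n⁻¹) :=
          h.comm _ hfxP _ (P.inv_mem hx)
        obtain ⟨f, hf⟩ : ∃ f, f = n * x * n⁻¹ := ⟨_, rfl⟩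
        rw [← hf] at hc hsq ⊢
        calc (f * x⁻¹) ^ 2 = f * x⁻¹ * (f * x⁻¹) := pow_two _
          _ = f * (x⁻¹ * f) * x⁻¹ := by group
          _ = f * (f * x⁻¹) * x⁻¹ := by rw [hc]
          _ = f ^ 2 * (x ^ 2)⁻¹ := by rw [pow_two, pow_two, mul_inv_rev]; simp only [mul_assoc]
          _ = 1 := by rw [hsq, mul_inv_cancel]
      have hyfix := hfix _ hyP hy2
      -- n (n x n⁻¹) n⁻¹ = x
      have h2 : n * (n * x * n⁻¹) * n⁻¹ = x := by
        obtain ⟨f, hf⟩ : ∃ f, f = n * x * n⁻¹ := ⟨_, rfl⟩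
        rw [← hf] at hyfix hy2 ⊢
        have hfy : f = (f * x⁻¹) * x := by group
        calc n * f * n⁻¹ = n * ((f * x⁻¹) * x) * n⁻¹ := by rw [← hfy]
          _ = (n * (f * x⁻¹) * n⁻¹) * (n * x * n⁻¹) := by group
          _ = (f * x⁻¹) * f := by rw [hyfix, hf]
          _ = (f * x⁻¹) * ((f * x⁻¹) * x) := by rw [← hfy]
          _ = (f * x⁻¹) ^ 2 * x := by rw [pow_two]; simp only [mul_assoc]
          _ = x := by rw [hy2, one_mul]
      have h2' : n * (n * (n * x * n⁻¹) * n⁻¹) * n⁻¹ = n * x * n⁻¹ := by rw [h2]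
      obtain ⟨k, rfl⟩ := hr
      have h4 := (mem_cent_iff P _).mp hnr x hx
      have h5 := conj_even_pow_fix n (n * x * n⁻¹) h2' k
      have h6 : n ^ (2 * k + 1) * x * (n ^ (2 * k + 1))⁻¹ =
          n ^ (2 * k) * (n * x * n⁻¹) * (n ^ (2 * k))⁻¹ := by
        rw [pow_succ]; group
      rw [h6, h5] at h4
      exact h4
  rw [mem_cent_iff]
  intro x hx
  obtain ⟨i, hi⟩ := h.pw x hx
  exact key i x hx hi

/-- an element of the normalizer fixing one involution centralizes `P` -/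
theorem mem_cent_of_fix_one (P : Subgroup G) (h : Hyp P) {n : G}
    (hn : n ∈ Subgroup.normalizer (P : Set G)) {r : ℕ} (hr : Odd r)
    (hnr : n ^ r ∈ Subgroup.centralizer (P : Set G))
    {t : G} (htP : t ∈ P) (ht2 : t ^ 2 = 1) (ht1 : t ≠ 1) (hfix : n * t * n⁻¹ = t) :
    n ∈ Subgroup.centralizer (P : Set G) := by
  obtain ⟨t', ht'P, ht'2, ht'1, htt'⟩ : ∃ t' ∈ P, t' ^ 2 = 1 ∧ t' ≠ 1 ∧ t ≠ t' := by
    obtain ⟨a, b, haP, hbP, ha2, hb2, ha1, hb1, hab⟩ := h.ex
    by_cases hta : t = a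
    · exact ⟨b, hbP, hb2, hb1, by rw [hta]; exact hab⟩
    · exact ⟨a, haP, ha2, ha1, hta⟩
  have hsP : n * t' * n⁻¹ ∈ P := conj_mem_of_mem_normalizer P hn ht'P
  have hs2 : (n * t' * n⁻¹) ^ 2 = 1 := by rw [conj_pow, ht'2]; group
  rcases h.str t t' (n * t' * n⁻¹) htP ht'P hsP ht2 ht'2 hs2 ht1 ht'1 htt' with hs | hs | hs | hs
  · exfalso; apply ht'1
    have h1 : t' = n⁻¹ * (n * t' * n⁻¹) * n := by group
    rw [h1, hs]; group
  · exfalso; apply htt'
    have h1 : n * t' * n⁻¹ = n * t * n⁻¹ := by rw [hs, hfix]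
    exact (mul_left_cancel (mul_right_cancel h1)).symm
  · apply mem_cent_of_fix_omega P h hn hr hnr
    intro w hwP hw2
    rcases h.str t t' w htP ht'P hwP ht2 ht'2 hw2 ht1 ht'1 htt' with rfl | rfl | rfl | rfl
    · group
    · exact hfix
    · exact hs
    · calc n * (t * t') * n⁻¹ = (n * t * n⁻¹) * (n * t' * n⁻¹) := by group
        _ = t * t' := by rw [hfix, hs]
  · have hn2 : n ^ 2 ∈ Subgroup.normalizer (P : Set G) := Subgroup.pow_mem _ hn 2
    have htt'fix : n * (t * t') * n⁻¹ = t' := by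
      calc n * (t * t') * n⁻¹ = (n * t * n⁻¹) * (n * t' * n⁻¹) := by group
        _ = t * (t * t') := by rw [hfix, hs]
        _ = t ^ 2 * t' := by rw [pow_two, mul_assoc]
        _ = t' := by rw [ht2, one_mul]
    have hfix2 : ∀ w ∈ P, w ^ 2 = 1 → n ^ 2 * w * (n ^ 2)⁻¹ = w := by
      intro w hwP hw2
      have e : ∀ z : G, n ^ 2 * z * (n ^ 2)⁻¹ = n * (n * z * n⁻¹) * n⁻¹ := by
        intro z; rw [pow_two]; group
      rw [e]
      rcases h.str t t' w htP ht'P hwP ht2 ht'2 hw2 ht1 ht'1 htt' with rfl | rfl | rfl | rfl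
      · group
      · rw [hfix, hfix]
      · rw [hs, htt'fix]
      · rw [htt'fix, hs]
    have hn2C : n ^ 2 ∈ Subgroup.centralizer (P : Set G) := by
      apply mem_cent_of_fix_omega P h hn2 hr _ hfix2
      rw [← pow_mul, mul_comm, pow_mul]
      exact Subgroup.pow_mem _ hnr 2
    exact mem_of_sq_mem _ hr hn2C hnr

theorem pow_relIndex_mem [Finite G] (P : Subgroup G) {n : G}
    (hn : n ∈ Subgroup.normalizer (P : Set G)) :
    n ^ ((Subgroup.centralizer (P : Set G)).relIndex (Subgroup.normalizer (P : Set G))) ∈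
      Subgroup.centralizer (P : Set G) := by
  obtain ⟨N, hN⟩ : ∃ N, N = Subgroup.normalizer (P : Set G) := ⟨_, rfl⟩
  obtain ⟨C, hC⟩ : ∃ C, C = Subgroup.centralizer (P : Set G) := ⟨_, rfl⟩
  rw [← hN, ← hC]
  rw [← hN] at hn
  haveI : (C.subgroupOf N).Normal := by
    constructor
    intro c hc g
    rw [Subgroup.mem_subgroupOf] at hc ⊢
    rw [hC, mem_cent_iff] at hc ⊢
    intro x hx
    have hg : (g : G)⁻¹ ∈ Subgroup.normalizer (P : Set G) := by
      rw [← hN]; exact N.inv_mem g.2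
    have hx' : (g : G)⁻¹ * x * ((g : G)⁻¹)⁻¹ ∈ P := conj_mem_of_mem_normalizer P hg hx
    have h1 := hc _ hx'
    simp only [Subgroup.coe_mul, Subgroup.coe_inv]
    obtain ⟨a, ha⟩ : ∃ a : G, a = (g : G) := ⟨_, rfl⟩
    obtain ⟨b, hb⟩ : ∃ b : G, b = (c : G) := ⟨_, rfl⟩
    rw [← ha, ← hb] at h1 ⊢
    calc a * b * a⁻¹ * x * (a * b * a⁻¹)⁻¹
        = a * (b * (a⁻¹ * x * a⁻¹⁻¹) * b⁻¹) * a⁻¹ := by group
      _ = a * (a⁻¹ * x * a⁻¹⁻¹) * a⁻¹ := by rw [h1]
      _ = x := by group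
  have h1 : ((⟨n, hn⟩ : N) : N ⧸ C.subgroupOf N) ^ (Nat.card (N ⧸ C.subgroupOf N)) = 1 :=
    pow_card_eq_one'
  rw [← Subgroup.index_eq_card] at h1
  have h2 : (C.subgroupOf N).index = C.relIndex N := rfl
  rw [h2, ← QuotientGroup.mk_pow, QuotientGroup.eq_one_iff, Subgroup.mem_subgroupOf] at h1
  simpa using h1

variable [Finite G]

theorem odd_relIndex (P : Sylow 2 G)
    (hc : ∀ x ∈ (P : Subgroup G), ∀ y ∈ (P : Subgroup G), x * y = y * x) :
    Odd ((Subgroup.centralizer ((P : Subgroup G) : Set G)).relIndex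
      (Subgroup.normalizer ((P : Subgroup G) : Set G))) := by
  haveI : Fact (Nat.Prime 2) := ⟨Nat.prime_two⟩
  have hPC : (P : Subgroup G) ≤ Subgroup.centralizer ((P : Subgroup G) : Set G) := by
    intro x hx; rw [Subgroup.mem_centralizer_iff]; intro y hy; exact hc y hy x hx
  have hCN := Subgroup.centralizer_le_normalizer ((P : Subgroup G) : Set G)
  have h1 := Subgroup.relIndex_mul_relIndex _ _ _ hPC hCN
  have h2 : (P : Subgroup G).relIndex (Subgroup.normalizer ((P : Subgroup G) : Set G)) ∣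
      (P : Subgroup G).index := Subgroup.relIndex_dvd_index_of_le (hPC.trans hCN)
  rw [← Nat.not_even_iff_odd, even_iff_two_dvd]
  intro h3
  apply P.not_dvd_index
  exact (h3.trans (Dvd.intro_left _ h1)).trans h2

/-- if the automizer is nontrivial, the three involutions of `P` are permuted transitively -/
theorem trans_of_not_le (P : Sylow 2 G) (h : Hyp (P : Subgroup G))
    (hNC : ¬ Subgroup.normalizer ((P : Subgroup G) : Set G) ≤
      Subgroup.centralizer ((P : Subgroup G) : Set G)) :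
    ∃ t ∈ (P : Subgroup G), t ^ 2 = 1 ∧ t ≠ 1 ∧
      ∃ n0 ∈ Subgroup.normalizer ((P : Subgroup G) : Set G),
        n0 ∉ Subgroup.centralizer ((P : Subgroup G) : Set G) ∧
        ∀ w ∈ (P : Subgroup G), w ^ 2 = 1 → w ≠ 1 →
          w = t ∨ w = n0 * t * n0⁻¹ ∨ w = n0 ^ 2 * t * (n0 ^ 2)⁻¹ := by
  have hr := odd_relIndex P h.comm
  have hpow := fun (n : G) (hn : n ∈ Subgroup.normalizer ((P : Subgroup G) : Set G)) =>
    pow_relIndex_mem (P : Subgroup G) hn
  obtain ⟨n0, hn0N, hn0C⟩ := SetLike.not_le_iff_exists.mp hNC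
  obtain ⟨a, b, haP, hbP, ha2, hb2, ha1, hb1, hab⟩ := h.ex
  have ht1P : n0 * a * n0⁻¹ ∈ (P : Subgroup G) := conj_mem_of_mem_normalizer _ hn0N haP
  have ht12 : (n0 * a * n0⁻¹) ^ 2 = 1 := by rw [conj_pow, ha2]; group
  have ht11 : n0 * a * n0⁻¹ ≠ 1 := by
    intro h1; apply ha1
    have h2 : a = n0⁻¹ * (n0 * a * n0⁻¹) * n0 := by group
    rw [h2, h1]; group
  have htt1 : a ≠ n0 * a * n0⁻¹ := by
    intro h1; apply hn0C
    exact mem_cent_of_fix_one _ h hn0N hr (hpow n0 hn0N) haP ha2 ha1 h1.symm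
  have ht2P : n0 * (n0 * a * n0⁻¹) * n0⁻¹ ∈ (P : Subgroup G) :=
    conj_mem_of_mem_normalizer _ hn0N ht1P
  have ht22 : (n0 * (n0 * a * n0⁻¹) * n0⁻¹) ^ 2 = 1 := by rw [conj_pow, ht12]; group
  have ht21 : n0 * (n0 * a * n0⁻¹) * n0⁻¹ ≠ 1 := by
    intro h1; apply ht11
    have h2 : n0 * a * n0⁻¹ = n0⁻¹ * (n0 * (n0 * a * n0⁻¹) * n0⁻¹) * n0 := by group
    rw [h2, h1]; group
  have ht2t1 : n0 * (n0 * a * n0⁻¹) * n0⁻¹ ≠ n0 * a * n0⁻¹ := by
    intro h1; apply hn0C
    exact mem_cent_of_fix_one _ h hn0N hr (hpow n0 hn0N) ht1P ht12 ht11 h1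
  have hn02N : n0 ^ 2 ∈ Subgroup.normalizer ((P : Subgroup G) : Set G) :=
    Subgroup.pow_mem _ hn0N 2
  have e2 : n0 ^ 2 * a * (n0 ^ 2)⁻¹ = n0 * (n0 * a * n0⁻¹) * n0⁻¹ := by rw [pow_two]; group
  have ht2a : n0 * (n0 * a * n0⁻¹) * n0⁻¹ ≠ a := by
    intro h1; apply hn0C
    have h2 : n0 ^ 2 ∈ Subgroup.centralizer ((P : Subgroup G) : Set G) :=
      mem_cent_of_fix_one _ h hn02N hr (hpow _ hn02N) haP ha2 ha1 (by rw [e2, h1])
    exact mem_of_sq_mem _ hr h2 (hpow n0 hn0N)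
  have ht2eq : n0 * (n0 * a * n0⁻¹) * n0⁻¹ = a * (n0 * a * n0⁻¹) := by
    rcases h.str a (n0 * a * n0⁻¹) _ haP ht1P ht2P ha2 ht12 ht22 ha1 ht11 htt1 with
      h1 | h1 | h1 | h1
    · exact absurd h1 ht21
    · exact absurd h1 ht2a
    · exact absurd h1 ht2t1
    · exact h1
  refine ⟨a, haP, ha2, ha1, n0, hn0N, hn0C, ?_⟩
  intro w hwP hw2 hw1
  rcases h.str a (n0 * a * n0⁻¹) w haP ht1P hwP ha2 ht12 hw2 ha1 ht11 htt1 with
    h1 | h1 | h1 | h1
  · exact absurd h1 hw1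
  · left; exact h1
  · right; left; exact h1
  · right; right; rw [h1, e2, ht2eq]

theorem relIndex_cases (P : Sylow 2 G) (h : Hyp (P : Subgroup G)) :
    (Subgroup.centralizer ((P : Subgroup G) : Set G)).relIndex
        (Subgroup.normalizer ((P : Subgroup G) : Set G)) = 1 ∨
    (Subgroup.centralizer ((P : Subgroup G) : Set G)).relIndex
        (Subgroup.normalizer ((P : Subgroup G) : Set G)) = 3 := by
  have hr := odd_relIndex P h.comm
  have hpow := fun (n : G) (hn : n ∈ Subgroup.normalizer ((P : Subgroup G) : Set G)) =>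
    pow_relIndex_mem (P : Subgroup G) hn
  by_cases hNC : Subgroup.normalizer ((P : Subgroup G) : Set G) ≤
      Subgroup.centralizer ((P : Subgroup G) : Set G)
  · left; exact Subgroup.relIndex_eq_one.mpr hNC
  · right
    obtain ⟨t, htP, ht2, ht1, n0, hn0N, hn0C, hall⟩ := trans_of_not_le P h hNC
    -- covering by three cosets
    have hcov : ∀ n ∈ Subgroup.normalizer ((P : Subgroup G) : Set G),
        n ∈ Subgroup.centralizer ((P : Subgroup G) : Set G) ∨
        n0⁻¹ * n ∈ Subgroup.centralizer ((P : Subgroup G) : Set G) ∨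
        (n0 ^ 2)⁻¹ * n ∈ Subgroup.centralizer ((P : Subgroup G) : Set G) := by
      intro n hn
      have hwP : n * t * n⁻¹ ∈ (P : Subgroup G) := conj_mem_of_mem_normalizer _ hn htP
      have hw2 : (n * t * n⁻¹) ^ 2 = 1 := by rw [conj_pow, ht2]; group
      have hw1 : n * t * n⁻¹ ≠ 1 := by
        intro h1; apply ht1
        have h2 : t = n⁻¹ * (n * t * n⁻¹) * n := by group
        rw [h2, h1]; group
      rcases hall _ hwP hw2 hw1 with h1 | h1 | h1
      · left
        exact mem_cent_of_fix_one _ h hn hr (hpow n hn) htP ht2 ht1 h1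
      · right; left
        have hm : n0⁻¹ * n ∈ Subgroup.normalizer ((P : Subgroup G) : Set G) :=
          Subgroup.mul_mem _ (Subgroup.inv_mem _ hn0N) hn
        apply mem_cent_of_fix_one _ h hm hr (hpow _ hm) htP ht2 ht1
        calc n0⁻¹ * n * t * (n0⁻¹ * n)⁻¹ = n0⁻¹ * (n * t * n⁻¹) * n0 := by group
          _ = n0⁻¹ * (n0 * t * n0⁻¹) * n0 := by rw [h1]
          _ = t := by group
      · right; right
        have hm : (n0 ^ 2)⁻¹ * n ∈ Subgroup.normalizer ((P : Subgroup G) : Set G) :=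
          Subgroup.mul_mem _ (Subgroup.inv_mem _ (Subgroup.pow_mem _ hn0N 2)) hn
        apply mem_cent_of_fix_one _ h hm hr (hpow _ hm) htP ht2 ht1
        calc (n0 ^ 2)⁻¹ * n * t * ((n0 ^ 2)⁻¹ * n)⁻¹
            = (n0 ^ 2)⁻¹ * (n * t * n⁻¹) * n0 ^ 2 := by group
          _ = (n0 ^ 2)⁻¹ * (n0 ^ 2 * t * (n0 ^ 2)⁻¹) * n0 ^ 2 := by rw [h1]
          _ = t := by group
    have hle : (Subgroup.centralizer ((P : Subgroup G) : Set G)).relIndex
        (Subgroup.normalizer ((P : Subgroup G) : Set G)) ≤ 3 := by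
      obtain ⟨N, hN⟩ : ∃ N, N = Subgroup.normalizer ((P : Subgroup G) : Set G) := ⟨_, rfl⟩
      obtain ⟨C, hC⟩ : ∃ C, C = Subgroup.centralizer ((P : Subgroup G) : Set G) := ⟨_, rfl⟩
      rw [← hN, ← hC] at hcov ⊢
      rw [← hN] at hn0N
      let n0' : N := ⟨n0, hn0N⟩
      let f : Fin 3 → N ⧸ C.subgroupOf N :=
        fun i => ((n0' ^ (i : ℕ) : N) : N ⧸ C.subgroupOf N)
      have hf : Function.Surjective f := by
        intro q
        obtain ⟨⟨n, hn⟩, rfl⟩ := QuotientGroup.mk_surjective q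
        rcases hcov n hn with h1 | h1 | h1
        · refine ⟨0, ?_⟩
          show ((n0' ^ ((0 : Fin 3) : ℕ) : N) : N ⧸ C.subgroupOf N) = _
          rw [QuotientGroup.eq, Subgroup.mem_subgroupOf]
          simpa [n0'] using h1
        · refine ⟨1, ?_⟩
          show ((n0' ^ ((1 : Fin 3) : ℕ) : N) : N ⧸ C.subgroupOf N) = _
          rw [QuotientGroup.eq, Subgroup.mem_subgroupOf]
          simpa [n0'] using h1
        · refine ⟨2, ?_⟩
          show ((n0' ^ ((2 : Fin 3) : ℕ) : N) : N ⧸ C.subgroupOf N) = _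
          rw [QuotientGroup.eq, Subgroup.mem_subgroupOf]
          simpa [n0'] using h1
      have h3 := Nat.card_le_card_of_surjective f hf
      rw [Nat.card_fin, ← Subgroup.index_eq_card] at h3
      exact h3
    have hne : (Subgroup.centralizer ((P : Subgroup G) : Set G)).relIndex
        (Subgroup.normalizer ((P : Subgroup G) : Set G)) ≠ 1 :=
      fun h1 => hNC (Subgroup.relIndex_eq_one.mp h1)
    obtain ⟨k, hk⟩ := hr
    omega

theorem cent_inf_norm (P : Sylow 2 G) (h : Hyp (P : Subgroup G)) {z : G}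
    (hz : z ∈ (P : Subgroup G)) (hz1 : z ≠ 1) :
    Subgroup.centralizer ({z} : Set G) ⊓ Subgroup.normalizer ((P : Subgroup G) : Set G) =
      Subgroup.centralizer ((P : Subgroup G) : Set G) := by
  have hr := odd_relIndex P h.comm
  apply le_antisymm
  · intro n hn
    rw [Subgroup.mem_inf] at hn
    obtain ⟨hnz, hnN⟩ := hn
    have hcz : z * n = n * z := Subgroup.mem_centralizer_iff.mp hnz z (Set.mem_singleton z)
    have hex := h.pw z hz
    classical
    have hj0 := Nat.find_spec hex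
    obtain ⟨j0, hj0def⟩ : ∃ j0, j0 = Nat.find hex := ⟨_, rfl⟩
    rw [← hj0def] at hj0
    have hj0pos : j0 ≠ 0 := by
      intro h0; rw [h0, pow_zero, pow_one] at hj0; exact hz1 hj0
    obtain ⟨i, hi⟩ : ∃ i, j0 = i + 1 := ⟨j0 - 1, by omega⟩
    have hti : z ^ (2 ^ i) ≠ 1 := by
      have : i < Nat.find hex := by rw [← hj0def]; omega
      exact Nat.find_min hex this
    have ht2 : (z ^ (2 ^ i)) ^ 2 = 1 := by
      rw [← pow_mul, ← pow_succ, ← hi]; exact hj0
    have hfix : n * z ^ (2 ^ i) * n⁻¹ = z ^ (2 ^ i) := by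
      rw [← conj_pow]
      have : n * z * n⁻¹ = z := (conj_eq_iff n z).mpr hcz
      rw [this]
    exact mem_cent_of_fix_one _ h hnN hr (pow_relIndex_mem _ hnN) (Subgroup.pow_mem _ hz _)
      ht2 hti hfix
  · intro c hc
    rw [Subgroup.mem_inf]
    refine ⟨?_, Subgroup.centralizer_le_normalizer _ hc⟩
    rw [Subgroup.mem_centralizer_iff]
    intro y hy
    rw [Set.mem_singleton_iff] at hy
    subst hy
    exact Subgroup.mem_centralizer_iff.mp hc y hz

theorem main946 (P : Sylow 2 G) (h : Hyp (P : Subgroup G)) :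
    (∃ N : Subgroup G, N.Normal ∧ Subgroup.IsComplement' N (P : Subgroup G)) ∨
      ∀ s t : G, orderOf s = 2 → orderOf t = 2 → IsConj s t := by
  haveI : Fact (Nat.Prime 2) := ⟨Nat.prime_two⟩
  by_cases hNC : Subgroup.normalizer ((P : Subgroup G) : Set G) ≤
      Subgroup.centralizer ((P : Subgroup G) : Set G)
  · left
    exact ⟨(MonoidHom.transferSylow P hNC).ker, inferInstance,
      MonoidHom.ker_transferSylow_isComplement' P hNC⟩
  · right
    obtain ⟨t, htP, ht2, ht1, n0, hn0N, hn0C, hall⟩ := trans_of_not_le P h hNC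
    have key : ∀ s : G, orderOf s = 2 → IsConj s t := by
      intro s hs
      have hz : IsPGroup 2 ↥(Subgroup.zpowers s) :=
        IsPGroup.of_card (n := 1) (by rw [Nat.card_zpowers, hs, pow_one])
      obtain ⟨g, hg⟩ := exists_conj_le_of_not_dvd_index hz P.not_dvd_index
      have hwP := hg s (Subgroup.mem_zpowers s)
      have hw2 : (g⁻¹ * s * g) ^ 2 = 1 := by
        have e : g⁻¹ * s * g = g⁻¹ * s * g⁻¹⁻¹ := by rw [inv_inv]
        rw [e, conj_pow, ← hs, pow_orderOf_eq_one]; group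
      have hw1 : g⁻¹ * s * g ≠ 1 := by
        intro h1
        have h2 : s = g * (g⁻¹ * s * g) * g⁻¹ := by group
        have h3 : s = 1 := by rw [h2, h1]; group
        rw [h3, orderOf_one] at hs
        exact absurd hs (by norm_num)
      have hconj : IsConj s (g⁻¹ * s * g) := isConj_iff.mpr ⟨g⁻¹, by rw [inv_inv]⟩
      rcases hall _ hwP hw2 hw1 with h1 | h1 | h1
      · rw [h1] at hconj; exact hconj
      · rw [h1] at hconj
        exact hconj.trans (isConj_iff.mpr ⟨n0⁻¹, by group⟩)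
      · rw [h1] at hconj
        exact hconj.trans (isConj_iff.mpr ⟨(n0 ^ 2)⁻¹, by group⟩)
    intro s s' hs hs'
    exact (key s hs).trans (key s' hs').symm

end main

end Cfsg.Agent.Lib.Lead.Homocyc
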