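import Mathlib
import Cfsg.Agent.Lib.Lead.Dade2

set_option autoImplicit false

/-! The Dade map: inner products. -/

namespace Cfsg.Agent.Lib.Lead.Dade

open scoped ComplexConjugate

variable {G : Type*} [Group G] [Fintype G]
variable {A : Set G} {L : Subgroup G} [Fintype L] {H : G → Subgroup G}

open Classical in
/-- the weight function. -/
noncomputable def wgt (A : Set G) (L : Subgroup G) (H : G → Subgroup G) (α : L → ℂ) (a : L) : ℂ :=
  if (a : G) ∈ A then α a * (Nat.card (H a) : ℂ)⁻¹ else 0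

open Classical in
/-- the averaged function. -/
noncomputable def Wfun (A : Set G) (L : Subgroup G) [Fintype L] (H : G → Subgroup G) (α : L → ℂ)
    (g : G) : ℂ :=
  ∑ x : G, ∑ a : L, if (a : G)⁻¹ * (x * g * x⁻¹) ∈ H a then wgt A L H α a else 0

omit [Fintype G] [Fintype L] in
theorem conj_eq_of_term [Finite G] (hD : Cfsg.DadeHypothesis A L H) {a1 : G} (ha1 : a1 ∈ A) {u1 : G}
    (hu1 : u1 ∈ H a1) {a : G} (ha : a ∈ A) {y : G}
    (hmem : a⁻¹ * (y * (a1 * u1) * y⁻¹) ∈ H a) : y * a1 * y⁻¹ = a :=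
  conj_eq_of_conj_mul hD ha1 ha hu1 hmem (g := y) (by group)

open Classical in
theorem Wfun_eq (hD : Cfsg.DadeHypothesis A L H) {α : L → ℂ} (hα : Cfsg.IsClassFunction L α)
    (g : G) : Wfun A L H α g = (Nat.card L : ℂ) * Cfsg.dadeIsometry A L H α g := by
  by_cases hs : ∃ a : ↥L, (a : G) ∈ A ∧ ∃ x : G, ∃ u ∈ H (a : G), x * g * x⁻¹ = (a : G) * u
  · obtain ⟨a1, ha1, x1, u1, hu1, hx1⟩ := hs
    rw [dade_apply hD hα a1 ha1 hu1 hx1]
    unfold Wfun
    rw [← Equiv.sum_comp (Equiv.mulRight x1)]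
    have hre : ∀ y : G, (Equiv.mulRight x1 y) * g * (Equiv.mulRight x1 y)⁻¹
        = y * ((a1 : G) * u1) * y⁻¹ := by
      intro y
      rw [← hx1]
      simp only [Equiv.coe_mulRight]
      group
    simp only [hre]
    have hB : ∀ y : G, (∑ a : L, if (a : G)⁻¹ * (y * ((a1 : G) * u1) * y⁻¹) ∈ H a
        then wgt A L H α a else 0)
        = if y * (a1 : G) * y⁻¹ ∈ A then α a1 * (Nat.card (H a1) : ℂ)⁻¹ else 0 := by
      intro y
      by_cases hy : y * (a1 : G) * y⁻¹ ∈ A
      · rw [if_pos hy]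
        set a' : L := ⟨y * (a1 : G) * y⁻¹, hD.subset hy⟩ with ha'
        obtain ⟨hconj, hcard⟩ := conj_mem_H_of_conj hD ha1 y hy
        rw [Finset.sum_eq_single a']
        · have hc : (a' : G)⁻¹ * (y * ((a1 : G) * u1) * y⁻¹) ∈ H a' := by
            have : (a' : G)⁻¹ * (y * ((a1 : G) * u1) * y⁻¹) = y * u1 * y⁻¹ := by
              change (y * (a1 : G) * y⁻¹)⁻¹ * (y * ((a1 : G) * u1) * y⁻¹) = y * u1 * y⁻¹
              group
            rw [this]
            exact hconj u1 hu1
          rw [if_pos hc]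
          unfold wgt
          rw [if_pos (show (a' : G) ∈ A from hy)]
          rw [alpha_conj hD hα a1 a' ha1 y rfl hy]
          congr 2
          exact_mod_cast hcard
        · intro a _ hne
          by_cases hc : (a : G)⁻¹ * (y * ((a1 : G) * u1) * y⁻¹) ∈ H a
          · rw [if_pos hc]
            unfold wgt
            by_cases haA : (a : G) ∈ A
            · exfalso
              apply hne
              apply Subtype.ext
              exact (conj_eq_of_term hD ha1 hu1 haA hc).symm
            · rw [if_neg haA]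
          · rw [if_neg hc]
        · intro h
          exact absurd (Finset.mem_univ a') h
      · rw [if_neg hy]
        apply Finset.sum_eq_zero
        intro a _
        by_cases hc : (a : G)⁻¹ * (y * ((a1 : G) * u1) * y⁻¹) ∈ H a
        · rw [if_pos hc]
          unfold wgt
          by_cases haA : (a : G) ∈ A
          · exfalso
            apply hy
            rw [conj_eq_of_term hD ha1 hu1 haA hc]
            exact haA
          · rw [if_neg haA]
        · rw [if_neg hc]
    simp only [hB]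
    rw [Finset.sum_ite, Finset.sum_const_zero, add_zero, Finset.sum_const, nsmul_eq_mul]
    have hcount : (Finset.univ.filter (fun y : G => y * (a1 : G) * y⁻¹ ∈ A)).card
        = Nat.card L * Nat.card (H a1) := by
      rw [← card_conj_mem hD ha1, Nat.card_eq_fintype_card, Fintype.card_subtype]
    rw [hcount]
    have hH0 : (Nat.card (H a1) : ℂ) ≠ 0 := by
      exact_mod_cast (Nat.card_pos (α := H a1)).ne'
    push_cast
    field_simp
  · rw [dade_apply_of_not hs, mul_zero]
    unfold Wfun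
    apply Finset.sum_eq_zero
    intro x _
    apply Finset.sum_eq_zero
    intro a _
    by_cases hc : (a : G)⁻¹ * (x * g * x⁻¹) ∈ H a
    · rw [if_pos hc]
      unfold wgt
      by_cases haA : (a : G) ∈ A
      · exfalso
        apply hs
        exact ⟨a, haA, x, _, hc, by group⟩
      · rw [if_neg haA]
    · rw [if_neg hc]

open Classical in
theorem sum_Wfun_mul (hD : Cfsg.DadeHypothesis A L H) {α : L → ℂ}
    (hαA : ∀ x : L, (x : G) ∉ A → α x = 0) (χ : G → ℂ) (ψ : L → ℂ)
    (hχ : Cfsg.IsClassFunction G χ)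
    (hψ : ∀ a : L, (a : G) ∈ A →
      ψ a = (Nat.card (H a) : ℂ)⁻¹ * ∑ᶠ u ∈ (H a : Set G), χ (a * u)) :
    ∑ g : G, Wfun A L H α g * conj (χ g)
      = (Nat.card G : ℂ) * ∑ a : L, α a * conj (ψ a) := by
  unfold Wfun
  simp only [Finset.sum_mul]
  rw [Finset.sum_comm]
  have h1 : ∀ x : G, (∑ g : G, ∑ a : L,
      (if (a : G)⁻¹ * (x * g * x⁻¹) ∈ H a then wgt A L H α a else 0) * conj (χ g))
      = ∑ a : L, α a * conj (ψ a) := by
    intro x
    rw [Finset.sum_comm]
    apply Finset.sum_congr rfl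
    intro a _
    -- reindex g ↦ x g x⁻¹
    have e1 : (∑ g : G, (if (a : G)⁻¹ * (x * g * x⁻¹) ∈ H a then wgt A L H α a else 0)
        * conj (χ g))
        = ∑ h : G, (if (a : G)⁻¹ * h ∈ H a then wgt A L H α a else 0) * conj (χ h) := by
      apply Fintype.sum_equiv (MulAut.conj x).toEquiv
      intro g
      have : (MulAut.conj x).toEquiv g = x * g * x⁻¹ := rfl
      rw [this, hχ g x]
    have e2 : (∑ h : G, (if (a : G)⁻¹ * h ∈ H a then wgt A L H α a else 0) * conj (χ h))
        = ∑ u : G, (if u ∈ H a then wgt A L H α a else 0) * conj (χ ((a : G) * u)) := by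
      symm
      apply Fintype.sum_equiv (Equiv.mulLeft (a : G))
      intro u
      simp only [Equiv.coe_mulLeft, inv_mul_cancel_left]
    rw [e1, e2]
    by_cases haA : (a : G) ∈ A
    · rw [hψ a haA]
      unfold wgt
      rw [if_pos haA]
      have hS : ((H a : Subgroup G) : Set G)
          = ↑(Finset.univ.filter (fun u : G => u ∈ H a)) := by
        ext u; simp
      rw [hS, finsum_mem_coe_finset, map_mul, map_inv₀, Complex.conj_natCast, map_sum,
        Finset.sum_filter]
      rw [Finset.mul_sum, Finset.mul_sum]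
      apply Finset.sum_congr rfl
      intro u _
      by_cases hu : u ∈ H a
      · rw [if_pos hu, if_pos hu]
        ring
      · rw [if_neg hu, if_neg hu]
        simp
    · rw [hαA a haA, zero_mul]
      apply Finset.sum_eq_zero
      intro u _
      unfold wgt
      rw [if_neg haA]
      simp
  rw [Finset.sum_congr rfl (fun x _ => h1 x), Finset.sum_const, Finset.card_univ, nsmul_eq_mul,
    Nat.card_eq_fintype_card]

/-- the inner product of a Dade image with a class function. -/
theorem dade_inner (hD : Cfsg.DadeHypothesis A L H) {α : L → ℂ} (hα : Cfsg.IsClassFunction L α)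
    (hαA : ∀ x : L, (x : G) ∉ A → α x = 0) (χ : G → ℂ) (ψ : L → ℂ)
    (hχ : Cfsg.IsClassFunction G χ)
    (hψ : ∀ a : L, (a : G) ∈ A →
      ψ a = (Nat.card (H a) : ℂ)⁻¹ * ∑ᶠ u ∈ (H a : Set G), χ (a * u)) :
    Cfsg.classInner (Cfsg.dadeIsometry A L H α) χ = Cfsg.classInner α ψ := by
  have hL : (Nat.card L : ℂ) ≠ 0 := by exact_mod_cast (Nat.card_pos (α := L)).ne'
  have hG : (Nat.card G : ℂ) ≠ 0 := by exact_mod_cast (Nat.card_pos (α := G)).ne'
  have h1 : ∀ g, Cfsg.dadeIsometry A L H α g = (Nat.card L : ℂ)⁻¹ * Wfun A L H α g := by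
    intro g
    rw [Wfun_eq hD hα g, ← mul_assoc, inv_mul_cancel₀ hL, one_mul]
  unfold Cfsg.classInner
  simp only [h1, mul_assoc]
  rw [← Finset.mul_sum, sum_Wfun_mul hD hαA χ ψ hχ hψ]
  field_simp

theorem s1500 (hD : Cfsg.DadeHypothesis A L H) (α : L → ℂ) (hα : Cfsg.IsClassFunction L α)
    (hαA : ∀ x : L, (x : G) ∉ A → α x = 0) :
    (∀ β : L → ℂ, Cfsg.IsClassFunction L β → (∀ x : L, (x : G) ∉ A → β x = 0) →
      Cfsg.classInner (Cfsg.dadeIsometry A L H α) (Cfsg.dadeIsometry A L H β)
        = Cfsg.classInner α β) ∧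
    (∀ (χ : G → ℂ) (ψ : L → ℂ), Cfsg.IsClassFunction G χ →
      (∀ a : L, (a : G) ∈ A →
        ψ a = (Nat.card (H a) : ℂ)⁻¹ * ∑ᶠ u ∈ (H a : Set G), χ (a * u)) →
      Cfsg.classInner (Cfsg.dadeIsometry A L H α) χ = Cfsg.classInner α ψ) := by
  classical
  refine ⟨?_, fun χ ψ hχ hψ => dade_inner hD hα hαA χ ψ hχ hψ⟩
  intro β hβ hβA
  apply dade_inner hD hα hαA _ β (dade_isClassFunction hD hβ)
  intro a haA
  have hS : ((H a : Subgroup G) : Set G)
      = ↑(Finset.univ.filter (fun u : G => u ∈ H a)) := by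
    ext u; simp
  rw [hS, finsum_mem_coe_finset]
  have h1 : ∀ u ∈ Finset.univ.filter (fun u : G => u ∈ H a),
      Cfsg.dadeIsometry A L H β ((a : G) * u) = β a := by
    intro u hu
    have hu' : u ∈ H a := (Finset.mem_filter.1 hu).2
    exact dade_apply hD hβ a haA hu' (x := 1) (by group)
  rw [Finset.sum_congr rfl h1, Finset.sum_const, nsmul_eq_mul]
  have hcard : (Finset.univ.filter (fun u : G => u ∈ H a)).card = Nat.card (H a) := by
    rw [Nat.card_eq_fintype_card, Fintype.card_subtype]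
  rw [hcard]
  have hH0 : (Nat.card (H a) : ℂ) ≠ 0 := by
    exact_mod_cast (Nat.card_pos (α := H a)).ne'
  field_simp

end Cfsg.Agent.Lib.Lead.Dade
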