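import Mathlib

set_option autoImplicit false
set_option maxHeartbeats 400000

namespace Cfsg.Agent.Lib.Lead.AutOrbA

open Polynomial

/-- If `S ^ q = 1` and `S` has no nonzero fixed vector then the `q`-th cyclotomic polynomial kills `S`. -/
theorem aeval_cyclotomic_eq_zero {K : Type*} [Field K] {V : Type*} [AddCommGroup V] [Module K V]
    (q : ℕ) [hq : Fact q.Prime] (S : Module.End K V) (hS : S ^ q = 1)
    (hfix : ∀ v, S v = v → v = 0) : aeval S (cyclotomic q K) = 0 := by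
  have h1 : (X - 1 : K[X]) * cyclotomic q K = X ^ q - 1 := by
    rw [mul_comm]; exact cyclotomic_prime_mul_X_sub_one K q
  have h2 : (S - 1) * aeval S (cyclotomic q K) = 0 := by
    have := congrArg (aeval S) h1
    rw [map_mul, map_sub, map_sub, map_pow, aeval_X, map_one, hS, sub_self] at this
    exact this
  apply LinearMap.ext
  intro v
  have h3 := LinearMap.congr_fun h2 v
  rw [Module.End.mul_apply, LinearMap.sub_apply, Module.End.one_apply, LinearMap.zero_apply,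
    sub_eq_zero] at h3
  rw [LinearMap.zero_apply]
  exact hfix _ h3

section finiteField

variable (p q : ℕ) [hp : Fact p.Prime] [hq : Fact q.Prime]

theorem dvd_X_pow_sub_one {g : (ZMod p)[X]} (hdvd : g ∣ cyclotomic q (ZMod p)) :
    g ∣ X ^ q - 1 :=
  dvd_trans hdvd ⟨X - 1, (cyclotomic_prime_mul_X_sub_one (ZMod p) q).symm⟩

theorem root_pow_eq_one {g : (ZMod p)[X]} (hdvd : g ∣ cyclotomic q (ZMod p)) :
    (AdjoinRoot.root g) ^ q = 1 := by
  have h2 : AdjoinRoot.mk g (X ^ q - 1) = 0 := AdjoinRoot.mk_eq_zero.mpr (dvd_X_pow_sub_one p q hdvd)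
  rw [map_sub, map_pow, AdjoinRoot.mk_X, map_one, sub_eq_zero] at h2
  exact h2

theorem root_ne_one {g : (ZMod p)[X]} (hg : Irreducible g) (hdvd : g ∣ cyclotomic q (ZMod p))
    (hpq : p ≠ q) : AdjoinRoot.root g ≠ 1 := by
  intro h
  have h1 : AdjoinRoot.mk g (X - 1) = 0 := by
    rw [map_sub, AdjoinRoot.mk_X, map_one, h, sub_self]
  rw [AdjoinRoot.mk_eq_zero] at h1
  have e : (X - 1 : (ZMod p)[X]) = X - C 1 := by rw [C_1]
  rw [e] at h1
  have h2 : (X - C 1 : (ZMod p)[X]) ∣ g := hg.dvd_symm (irreducible_X_sub_C 1) h1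
  have h3 : (cyclotomic q (ZMod p)).IsRoot 1 := dvd_iff_isRoot.mp (dvd_trans h2 hdvd)
  rw [IsRoot, eval_one_cyclotomic_prime] at h3
  have h4 : p ∣ q := (ZMod.natCast_eq_zero_iff q p).mp h3
  exact hpq ((Nat.prime_dvd_prime_iff_eq hp.out hq.out).mp h4)

theorem natDegree_dvd_orderOf {g : (ZMod p)[X]} (hg : Irreducible g)
    (hdvd : g ∣ cyclotomic q (ZMod p)) :
    g.natDegree ∣ orderOf (p : ZMod q) := by
  set d := orderOf (p : ZMod q) with hd_def
  have hd : ((p : ZMod q)) ^ d = 1 := pow_orderOf_eq_one _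
  have hpos : 1 ≤ p ^ d := Nat.one_le_pow _ _ hp.out.pos
  have hq_dvd : q ∣ p ^ d - 1 := by
    have : ((p ^ d - 1 : ℕ) : ZMod q) = 0 := by
      rw [Nat.cast_sub hpos, Nat.cast_pow, hd, Nat.cast_one, sub_self]
    exact (ZMod.natCast_eq_zero_iff _ _).mp this
  obtain ⟨m, hm⟩ := hq_dvd
  have h1 : g ∣ X ^ q - 1 := dvd_X_pow_sub_one p q hdvd
  have h2 : (X ^ q - 1 : (ZMod p)[X]) ∣ X ^ (p ^ d - 1) - 1 := by
    rw [hm, pow_mul]
    have := sub_dvd_pow_sub_pow ((X : (ZMod p)[X]) ^ q) 1 m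
    rwa [one_pow] at this
  have h3 : (X ^ (p ^ d - 1) - 1 : (ZMod p)[X]) ∣ X ^ (p ^ d) - X := by
    refine ⟨X, ?_⟩
    have e : p ^ d = (p ^ d - 1) + 1 := (Nat.sub_add_cancel hpos).symm
    calc (X : (ZMod p)[X]) ^ (p ^ d) - X = X ^ ((p ^ d - 1) + 1) - X := by rw [← e]
      _ = (X ^ (p ^ d - 1) - 1) * X := by rw [pow_succ]; ring
  have h4 : g ∣ X ^ (Nat.card (ZMod p)) ^ d - X := by
    rw [Nat.card_zmod]; exact dvd_trans h1 (dvd_trans h2 h3)
  exact hg.natDegree_dvd_of_dvd_X_pow_card_pow_sub_X h4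

theorem orderOf_dvd_natDegree {g : (ZMod p)[X]} (hg : Irreducible g)
    (hdvd : g ∣ cyclotomic q (ZMod p)) (hpq : p ≠ q) :
    orderOf (p : ZMod q) ∣ g.natDegree := by
  haveI : Fact (Irreducible g) := ⟨hg⟩
  set m := g.natDegree with hm_def
  have hpos : 1 ≤ p ^ m := Nat.one_le_pow _ _ hp.out.pos
  have h1 : g ∣ X ^ (Nat.card (ZMod p)) ^ m - X :=
    hg.natDegree_dvd_iff_dvd_X_pow_card_pow_sub_X.mp dvd_rfl
  rw [Nat.card_zmod] at h1
  have h2 : (AdjoinRoot.root g) ^ (p ^ m) = AdjoinRoot.root g := by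
    have := AdjoinRoot.mk_eq_zero.mpr h1
    rw [map_sub, map_pow, AdjoinRoot.mk_X, sub_eq_zero] at this
    exact this
  have hθq : (AdjoinRoot.root g) ^ q = 1 := root_pow_eq_one p q hdvd
  have hθ1 : AdjoinRoot.root g ≠ 1 := root_ne_one p q hg hdvd hpq
  have hord : orderOf (AdjoinRoot.root g) = q := orderOf_eq_prime hθq hθ1
  have hθ0 : AdjoinRoot.root g ≠ 0 := by
    intro h
    rw [h, zero_pow hq.out.ne_zero] at hθq
    exact zero_ne_one hθq
  have h3 : (AdjoinRoot.root g) ^ (p ^ m - 1) = 1 := by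
    have : (AdjoinRoot.root g) ^ (p ^ m - 1) * AdjoinRoot.root g = 1 * AdjoinRoot.root g := by
      rw [← pow_succ, Nat.sub_add_cancel hpos, h2, one_mul]
    exact mul_right_cancel₀ hθ0 this
  have h4 : q ∣ p ^ m - 1 := by rw [← hord]; exact orderOf_dvd_of_pow_eq_one h3
  apply orderOf_dvd_of_pow_eq_one
  have : ((p ^ m - 1 : ℕ) : ZMod q) = 0 := (ZMod.natCast_eq_zero_iff _ _).mpr h4
  rw [Nat.cast_sub hpos, Nat.cast_pow, Nat.cast_one, sub_eq_zero] at this
  exact this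

theorem cyclotomic_irreducible (hpq : p ≠ q) (hprim : orderOf (p : ZMod q) = q - 1) :
    Irreducible (cyclotomic q (ZMod p)) := by
  have hdeg : (cyclotomic q (ZMod p)).natDegree = q - 1 := by
    rw [natDegree_cyclotomic, Nat.totient_prime hq.out]
  have h2le := hq.out.two_le
  have hnu : ¬ IsUnit (cyclotomic q (ZMod p)) := by
    intro h
    have := natDegree_eq_zero_of_isUnit h
    rw [hdeg] at this
    omega
  have hne : cyclotomic q (ZMod p) ≠ 0 := cyclotomic_ne_zero q _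
  obtain ⟨g, hg, hgd⟩ := WfDvdMonoid.exists_irreducible_factor hnu hne
  have h1 := orderOf_dvd_natDegree p q hg hgd hpq
  rw [hprim] at h1
  have h2 : g.natDegree ≤ q - 1 := by rw [← hdeg]; exact natDegree_le_of_dvd hgd hne
  have hg0 : 0 < g.natDegree := hg.natDegree_pos
  have h3 : g.natDegree = q - 1 := le_antisymm h2 (Nat.le_of_dvd hg0 h1)
  obtain ⟨c, hc⟩ := hgd
  have hc0 : c ≠ 0 := by rintro rfl; rw [mul_zero] at hc; exact hne hc
  have hg_ne : g ≠ 0 := hg.ne_zero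
  have h4 : c.natDegree = 0 := by
    have := natDegree_mul hg_ne hc0
    rw [← hc, hdeg, h3] at this
    omega
  have hcu : IsUnit c := by
    rw [natDegree_eq_zero] at h4
    obtain ⟨a, rfl⟩ := h4
    have ha : a ≠ 0 := by rintro rfl; exact hc0 C_0
    exact isUnit_C.mpr (isUnit_iff_ne_zero.mpr ha)
  rw [hc]
  exact (associated_mul_unit_right g c hcu).irreducible hg

end finiteField

/-- Two finite-dimensional spaces of the same dimension: a linear equivalence with a prescribed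
value at a nonzero vector. -/
theorem exists_linearEquiv_apply {F M₁ M₂ : Type*} [Field F] [AddCommGroup M₁] [Module F M₁]
    [AddCommGroup M₂] [Module F M₂] [FiniteDimensional F M₁] [FiniteDimensional F M₂]
    (h : Module.finrank F M₁ = Module.finrank F M₂) (x₁ : M₁) (x₂ : M₂) (h₁ : x₁ ≠ 0)
    (h₂ : x₂ ≠ 0) : ∃ σ : M₁ ≃ₗ[F] M₂, σ x₁ = x₂ := by
  obtain ⟨W₁, hW₁⟩ := Submodule.exists_isCompl (Submodule.span F {x₁})
  obtain ⟨W₂, hW₂⟩ := Submodule.exists_isCompl (Submodule.span F {x₂})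
  have f1 := Submodule.finrank_add_eq_of_isCompl hW₁
  have f2 := Submodule.finrank_add_eq_of_isCompl hW₂
  rw [finrank_span_singleton h₁] at f1
  rw [finrank_span_singleton h₂] at f2
  have hW : Module.finrank F W₁ = Module.finrank F W₂ := by omega
  let e₂ : W₁ ≃ₗ[F] W₂ := LinearEquiv.ofFinrankEq _ _ hW
  let e₁ : (Submodule.span F {x₁}) ≃ₗ[F] (Submodule.span F {x₂}) :=
    (LinearEquiv.toSpanNonzeroSingleton F M₁ x₁ h₁).symm.trans
      (LinearEquiv.toSpanNonzeroSingleton F M₂ x₂ h₂)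
  refine ⟨(Submodule.prodEquivOfIsCompl _ _ hW₁).symm.trans
    ((e₁.prodCongr e₂).trans (Submodule.prodEquivOfIsCompl _ _ hW₂)), ?_⟩
  have hx₁ : (Submodule.prodEquivOfIsCompl _ _ hW₁).symm x₁ =
      (⟨x₁, Submodule.mem_span_singleton_self x₁⟩, 0) := by
    rw [LinearEquiv.symm_apply_eq, Submodule.coe_prodEquivOfIsCompl']
    simp
  have he₁ : e₁ ⟨x₁, Submodule.mem_span_singleton_self x₁⟩ =
      ⟨x₂, Submodule.mem_span_singleton_self x₂⟩ := by
    have h3 : (LinearEquiv.toSpanNonzeroSingleton F M₁ x₁ h₁).symm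
        ⟨x₁, Submodule.mem_span_singleton_self x₁⟩ = 1 := by
      rw [LinearEquiv.symm_apply_eq, LinearEquiv.toSpanNonzeroSingleton_one]
    show (LinearEquiv.toSpanNonzeroSingleton F M₂ x₂ h₂)
      ((LinearEquiv.toSpanNonzeroSingleton F M₁ x₁ h₁).symm _) = _
    rw [h3, LinearEquiv.toSpanNonzeroSingleton_one]
  show (Submodule.prodEquivOfIsCompl _ _ hW₂) ((e₁.prodCongr e₂)
    ((Submodule.prodEquivOfIsCompl _ _ hW₁).symm x₁)) = x₂
  rw [hx₁, Submodule.coe_prodEquivOfIsCompl', LinearEquiv.prodCongr_apply]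
  simp only [he₁, map_zero, Submodule.coe_zero, add_zero]

section twist

variable {K : Type*} [Field K] {V : Type*} [AddCommGroup V] [Module K V]

/-- The ring homomorphism `K[X]/(Φ) → End V` sending the root to `S`. -/
noncomputable def rho (Φ : K[X]) (S : Module.End K V) (hS : aeval S Φ = 0) :
    AdjoinRoot Φ →+* Module.End K V :=
  Ideal.Quotient.lift (Ideal.span {Φ})
    ((aeval S : K[X] →ₐ[K] Module.End K V) : K[X] →+* Module.End K V)
    (by
      intro a ha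
      rw [Ideal.mem_span_singleton] at ha
      obtain ⟨c, rfl⟩ := ha
      rw [RingHom.coe_coe, map_mul, hS, zero_mul])

theorem rho_mk (Φ : K[X]) (S : Module.End K V) (hS : aeval S Φ = 0) (f : K[X]) :
    rho Φ S hS (AdjoinRoot.mk Φ f) = aeval S f :=
  Ideal.Quotient.lift_mk _ _ _

theorem rho_root (Φ : K[X]) (S : Module.End K V) (hS : aeval S Φ = 0) :
    rho Φ S hS (AdjoinRoot.root Φ) = S := by
  rw [← AdjoinRoot.mk_X, rho_mk, aeval_X]

/-- `V` regarded as a module over `K[X]/(Φ)` through `S`. -/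
def Tw (Φ : K[X]) (S : Module.End K V) (_hS : aeval S Φ = 0) : Type _ := V

noncomputable instance instAddCommGroupTw (Φ : K[X]) (S : Module.End K V) (hS : aeval S Φ = 0) :
    AddCommGroup (Tw Φ S hS) := inferInstanceAs (AddCommGroup V)

noncomputable instance instModuleTw (Φ : K[X]) (S : Module.End K V) (hS : aeval S Φ = 0) :
    Module (AdjoinRoot Φ) (Tw Φ S hS) := Module.compHom V (rho Φ S hS)

instance instFiniteTw [Finite V] (Φ : K[X]) (S : Module.End K V) (hS : aeval S Φ = 0) :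
    Finite (Tw Φ S hS) := inferInstanceAs (Finite V)

/-- The identity map `V → Tw`. -/
def toTw (Φ : K[X]) (S : Module.End K V) (hS : aeval S Φ = 0) : V → Tw Φ S hS := id

theorem tw_smul (Φ : K[X]) (S : Module.End K V) (hS : aeval S Φ = 0) (a : AdjoinRoot Φ)
    (v : Tw Φ S hS) : a • v = (rho Φ S hS a) (v : V) := rfl

theorem exists_addEquiv_intertwine [Finite K] [Finite V] (Φ : K[X]) (hΦ : Irreducible Φ)
    (S₁ S₂ : Module.End K V) (h₁ : aeval S₁ Φ = 0) (h₂ : aeval S₂ Φ = 0)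
    (x₁ x₂ : V) (hx₁ : x₁ ≠ 0) (hx₂ : x₂ ≠ 0) :
    ∃ σ : V ≃+ V, σ x₁ = x₂ ∧ ∀ v, σ (S₁ v) = S₂ (σ v) := by
  haveI : Fact (Irreducible Φ) := ⟨hΦ⟩
  haveI : Module.Finite K (AdjoinRoot Φ) := (AdjoinRoot.powerBasis hΦ.ne_zero).finite
  haveI : Finite (AdjoinRoot Φ) := Module.finite_of_finite K
  haveI : Module.Finite (AdjoinRoot Φ) (Tw Φ S₁ h₁) := Module.Finite.of_finite
  haveI : Module.Finite (AdjoinRoot Φ) (Tw Φ S₂ h₂) := Module.Finite.of_finite
  have hc₁ : Nat.card (Tw Φ S₁ h₁) =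
      Nat.card (AdjoinRoot Φ) ^ Module.finrank (AdjoinRoot Φ) (Tw Φ S₁ h₁) :=
    Module.natCard_eq_pow_finrank
  have hc₂ : Nat.card (Tw Φ S₂ h₂) =
      Nat.card (AdjoinRoot Φ) ^ Module.finrank (AdjoinRoot Φ) (Tw Φ S₂ h₂) :=
    Module.natCard_eq_pow_finrank
  have hcard : Nat.card (Tw Φ S₁ h₁) = Nat.card (Tw Φ S₂ h₂) := rfl
  have hF : 2 ≤ Nat.card (AdjoinRoot Φ) := Finite.one_lt_card
  have hfr : Module.finrank (AdjoinRoot Φ) (Tw Φ S₁ h₁) =
      Module.finrank (AdjoinRoot Φ) (Tw Φ S₂ h₂) := by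
    apply Nat.pow_right_injective hF
    show Nat.card (AdjoinRoot Φ) ^ _ = Nat.card (AdjoinRoot Φ) ^ _
    rw [← hc₁, ← hc₂, hcard]
  obtain ⟨σ, hσ⟩ := exists_linearEquiv_apply hfr (x₁ : Tw Φ S₁ h₁) (x₂ : Tw Φ S₂ h₂) hx₁ hx₂
  have e1 : ∀ w : V, AdjoinRoot.root Φ • toTw Φ S₁ h₁ w = toTw Φ S₁ h₁ (S₁ w) := fun w => by
    show (rho Φ S₁ h₁ (AdjoinRoot.root Φ)) w = S₁ w
    rw [rho_root]
  have e2 : ∀ w : Tw Φ S₂ h₂, AdjoinRoot.root Φ • w = toTw Φ S₂ h₂ (S₂ w) := fun w => by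
    show (rho Φ S₂ h₂ (AdjoinRoot.root Φ)) w = S₂ w
    rw [rho_root]
  refine ⟨σ.toAddEquiv, hσ, ?_⟩
  intro v
  show σ (toTw Φ S₁ h₁ (S₁ v)) = toTw Φ S₂ h₂ (S₂ (σ (toTw Φ S₁ h₁ v)))
  rw [← e1 v, σ.map_smul, e2]

end twist

section LemmaA

variable {p q : ℕ} [hp : Fact p.Prime] [hq : Fact q.Prime]
variable {V : Type*} [AddCommGroup V] [Module (ZMod p) V] [Finite V] [Nontrivial V]

theorem primitive_root_of_transitive (hpq : p ≠ q) (T : Module.End (ZMod p) V) (hTq : T ^ q = 1)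
    (hfix : ∀ v, T v = v → v = 0)
    (H1 : ∀ v w : V, v ≠ 0 → w ≠ 0 → ∃ (σ : V ≃ₗ[ZMod p] V) (j : ℕ),
      ¬ q ∣ j ∧ σ v = w ∧ ∀ x, σ (T x) = (T ^ j) (σ x))
    (H2 : ∀ j : ℕ, ¬ q ∣ j → ∃ σ : V ≃ₗ[ZMod p] V, ∀ x, σ (T x) = (T ^ j) (σ x)) :
    orderOf (p : ZMod q) = q - 1 := by
  classical
  -- invariance
  have inv_pow : ∀ (S : Module.End (ZMod p) V) (W : Submodule (ZMod p) V),
      (∀ x ∈ W, S x ∈ W) → ∀ n : ℕ, ∀ x ∈ W, (S ^ n) x ∈ W := by
    intro S W h n
    induction n with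
    | zero => intro x hx; rw [pow_zero, Module.End.one_apply]; exact hx
    | succ n ih => intro x hx; rw [pow_succ, Module.End.mul_apply]; exact ih _ (h x hx)
  have inv_aeval : ∀ (W : Submodule (ZMod p) V), (∀ x ∈ W, T x ∈ W) →
      ∀ (f : (ZMod p)[X]), ∀ x ∈ W, aeval T f x ∈ W := by
    intro W h f
    refine Polynomial.induction_on' f ?_ ?_
    · intro f g hf hg x hx
      rw [map_add, LinearMap.add_apply]
      exact W.add_mem (hf x hx) (hg x hx)
    · intro n a x hx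
      rw [aeval_monomial, Module.End.mul_apply, Module.algebraMap_end_apply]
      exact W.smul_mem a (inv_pow T W h n x hx)
  have pow_inv : ∀ j : ℕ, ¬ q ∣ j → ∃ j' : ℕ, (T ^ j) ^ j' = T := by
    intro j hj
    have hcop : Nat.Coprime j q :=
      (Nat.Coprime.symm ((Nat.Prime.coprime_iff_not_dvd hq.out).mpr hj))
    obtain ⟨j', _, hj'⟩ := Nat.exists_mul_mod_eq_one_of_coprime hcop hq.out.one_lt
    refine ⟨j', ?_⟩
    rw [← pow_mul, pow_eq_pow_mod _ hTq, hj', pow_one]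
  have inv_map : ∀ (σ : V ≃ₗ[ZMod p] V) (j : ℕ), ¬ q ∣ j → (∀ x, σ (T x) = (T ^ j) (σ x)) →
      ∀ W : Submodule (ZMod p) V, (∀ x ∈ W, T x ∈ W) →
        ∀ x ∈ W.map (σ : V →ₗ[ZMod p] V), T x ∈ W.map (σ : V →ₗ[ZMod p] V) := by
    intro σ j hj hσ W hW
    obtain ⟨j', hj'⟩ := pow_inv j hj
    have h1 : ∀ x ∈ W.map (σ : V →ₗ[ZMod p] V), (T ^ j) x ∈ W.map (σ : V →ₗ[ZMod p] V) := by
      rintro x ⟨y, hy, rfl⟩
      exact ⟨T y, hW y hy, hσ y⟩
    have h2 := inv_pow (T ^ j) _ h1 j'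
    rw [hj'] at h2
    exact h2
  have inv_comap : ∀ (σ : V ≃ₗ[ZMod p] V) (j : ℕ), (∀ x, σ (T x) = (T ^ j) (σ x)) →
      ∀ W : Submodule (ZMod p) V, (∀ x ∈ W, T x ∈ W) →
        ∀ x ∈ W.comap (σ : V →ₗ[ZMod p] V), T x ∈ W.comap (σ : V →ₗ[ZMod p] V) := by
    intro σ j hσ W hW x hx
    rw [Submodule.mem_comap] at hx ⊢
    show σ (T x) ∈ W
    rw [hσ x]
    exact inv_pow T W hW j _ hx
  -- minimal invariant subspaces
  let MinInv : Submodule (ZMod p) V → Prop := fun W =>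
    W ≠ ⊥ ∧ (∀ x ∈ W, T x ∈ W) ∧
      ∀ W' : Submodule (ZMod p) V, W' ≤ W → (∀ x ∈ W', T x ∈ W') → W' = ⊥ ∨ W' = W
  have exW₀ : ∃ W₀, MinInv W₀ := by
    have hne : {W : Submodule (ZMod p) V | W ≠ ⊥ ∧ (∀ x ∈ W, T x ∈ W)}.Nonempty :=
      ⟨⊤, top_ne_bot, fun x _ => Submodule.mem_top⟩
    obtain ⟨W₀, hW₀, hmin⟩ := wellFounded_lt.has_min _ hne
    refine ⟨W₀, hW₀.1, hW₀.2, ?_⟩
    intro W' hle hinv
    by_cases hb : W' = ⊥
    · exact Or.inl hb
    · right
      by_contra hne'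
      exact hmin W' ⟨hb, hinv⟩ (lt_of_le_of_ne hle hne')
  have min_eq : ∀ W₁ W₂, MinInv W₁ → MinInv W₂ → ∀ x, x ∈ W₁ → x ∈ W₂ → x ≠ 0 → W₁ = W₂ := by
    intro W₁ W₂ h₁ h₂ x hx₁ hx₂ hx0
    have hinv : ∀ y ∈ W₁ ⊓ W₂, T y ∈ W₁ ⊓ W₂ := fun y hy => ⟨h₁.2.1 y hy.1, h₂.2.1 y hy.2⟩
    have hnb : W₁ ⊓ W₂ ≠ ⊥ := by
      intro hb
      have : x ∈ W₁ ⊓ W₂ := ⟨hx₁, hx₂⟩
      rw [hb, Submodule.mem_bot] at this
      exact hx0 this
    have e₁ := (h₁.2.2 _ inf_le_left hinv).resolve_left hnb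
    have e₂ := (h₂.2.2 _ inf_le_right hinv).resolve_left hnb
    exact e₁.symm.trans e₂
  obtain ⟨W₀, hW₀⟩ := exW₀
  obtain ⟨w₀, hw₀W, hw₀⟩ := Submodule.exists_mem_ne_zero_of_ne_bot hW₀.1
  have cover : ∀ v : V, v ≠ 0 → ∃ W, MinInv W ∧ v ∈ W := by
    intro v hv
    obtain ⟨σ, j, hj, hσv, hσ⟩ := H1 w₀ v hw₀ hv
    have hvmem : v ∈ W₀.map (σ : V →ₗ[ZMod p] V) := ⟨w₀, hw₀W, hσv⟩
    refine ⟨W₀.map (σ : V →ₗ[ZMod p] V), ⟨?_, inv_map σ j hj hσ W₀ hW₀.2.1, ?_⟩, hvmem⟩
    · intro hb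
      rw [hb, Submodule.mem_bot] at hvmem
      exact hv hvmem
    · intro W' hle hinv
      have h1 : W'.comap (σ : V →ₗ[ZMod p] V) ≤ W₀ := by
        intro x hx
        obtain ⟨y, hy, hyx⟩ := hle hx
        have : y = x := σ.injective hyx
        rw [← this]; exact hy
      have hsurj : Function.Surjective (σ : V →ₗ[ZMod p] V) := σ.surjective
      rcases hW₀.2.2 _ h1 (inv_comap σ j hσ W' hinv) with h | h
      · left
        rw [← Submodule.map_comap_eq_of_surjective hsurj W', h, Submodule.map_bot]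
      · right
        rw [← Submodule.map_comap_eq_of_surjective hsurj W', h]
  have lemH : ∀ W₁, MinInv W₁ → ∀ f : (ZMod p)[X], (∀ x ∈ W₁, aeval T f x = 0) →
      ∀ v, aeval T f v = 0 := by
    intro W₁ h₁ f hf v
    by_cases hv : v = 0
    · rw [hv, map_zero]
    obtain ⟨W₂, h₂, hvW₂⟩ := cover v hv
    by_cases hWW : W₁ = W₂
    · exact hf v (hWW ▸ hvW₂)
    obtain ⟨w₁, hw₁W, hw₁⟩ := Submodule.exists_mem_ne_zero_of_ne_bot h₁.1
    have hu : w₁ + v ≠ 0 := by
      intro h0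
      have hv' : v = -w₁ := by
        rw [eq_neg_iff_add_eq_zero, add_comm]; exact h0
      have : v ∈ W₁ := by rw [hv']; exact W₁.neg_mem hw₁W
      exact hWW (min_eq W₁ W₂ h₁ h₂ v this hvW₂ hv)
    obtain ⟨N, hN, huN⟩ := cover _ hu
    by_contra hFv
    have h1 : aeval T f (w₁ + v) ∈ N := inv_aeval N hN.2.1 f _ huN
    have h2 : aeval T f (w₁ + v) = aeval T f v := by rw [map_add, hf w₁ hw₁W, zero_add]
    rw [h2] at h1
    have h3 : aeval T f v ∈ W₂ := inv_aeval W₂ h₂.2.1 f _ hvW₂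
    have hNW : N = W₂ := min_eq N W₂ hN h₂ _ h1 h3 hFv
    have : w₁ ∈ W₂ := by
      have h4 : w₁ + v ∈ W₂ := hNW ▸ huN
      have := W₂.sub_mem h4 hvW₂
      rwa [add_sub_cancel_right] at this
    exact hWW (min_eq W₁ W₂ h₁ h₂ w₁ hw₁W this hw₁)
  -- the minimal polynomial is irreducible
  haveI : Module.Finite (ZMod p) V := Module.Finite.of_finite
  have hint : IsIntegral (ZMod p) T := Algebra.IsIntegral.isIntegral T
  have hμT : aeval T (minpoly (ZMod p) T) = 0 := minpoly.aeval (ZMod p) T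
  have hμ0 : minpoly (ZMod p) T ≠ 0 := minpoly.ne_zero hint
  have kill : ∀ f : (ZMod p)[X], (∀ x ∈ W₀, aeval T f x = 0) → minpoly (ZMod p) T ∣ f := by
    intro f hf
    apply minpoly.dvd
    apply LinearMap.ext
    intro v
    rw [lemH W₀ hW₀ f hf v, LinearMap.zero_apply]
  have hirr : Irreducible (minpoly (ZMod p) T) := by
    rw [irreducible_iff]
    refine ⟨minpoly.not_isUnit (ZMod p) T, ?_⟩
    intro a b hab
    have hAB : aeval T a * aeval T b = 0 := by rw [← map_mul, ← hab]; exact hμT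
    have hcomm : ∀ x, aeval T a (T x) = T (aeval T a x) := by
      intro x
      have h1 : aeval T (a * X) = aeval T (X * a) := by rw [mul_comm]
      rw [map_mul, map_mul, aeval_X] at h1
      have h2 := LinearMap.congr_fun h1 x
      rw [Module.End.mul_apply, Module.End.mul_apply] at h2
      exact h2
    have hWinv : ∀ x ∈ W₀ ⊓ LinearMap.ker (aeval T a), T x ∈ W₀ ⊓ LinearMap.ker (aeval T a) := by
      intro x hx
      rw [Submodule.mem_inf] at hx ⊢
      refine ⟨hW₀.2.1 x hx.1, ?_⟩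
      rw [LinearMap.mem_ker, hcomm, (LinearMap.mem_ker.mp hx.2), map_zero]
    have helper : ∀ c d : (ZMod p)[X], minpoly (ZMod p) T = c * d → minpoly (ZMod p) T ∣ c →
        IsUnit d := by
      intro c d hcd hdvd
      obtain ⟨e, he⟩ := hdvd
      have h1 : minpoly (ZMod p) T * 1 = minpoly (ZMod p) T * (e * d) := by
        rw [mul_one, ← mul_assoc, ← he, ← hcd]
      have h2 := mul_left_cancel₀ hμ0 h1
      exact IsUnit.of_mul_eq_one_right e h2.symm
    rcases hW₀.2.2 _ inf_le_left hWinv with h | h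
    · left
      have hb : minpoly (ZMod p) T ∣ b := by
        apply kill
        intro x hx
        have h1 : aeval T b x ∈ W₀ := inv_aeval W₀ hW₀.2.1 b x hx
        have h2 : aeval T a (aeval T b x) = 0 := by
          have := LinearMap.congr_fun hAB x
          rw [Module.End.mul_apply, LinearMap.zero_apply] at this
          exact this
        have h3 : aeval T b x ∈ W₀ ⊓ LinearMap.ker (aeval T a) :=
          Submodule.mem_inf.mpr ⟨h1, LinearMap.mem_ker.mpr h2⟩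
        rw [h, Submodule.mem_bot] at h3
        exact h3
      exact helper b a (by rw [hab, mul_comm]) hb
    · right
      have ha : minpoly (ZMod p) T ∣ a := by
        apply kill
        intro x hx
        have : x ∈ W₀ ⊓ LinearMap.ker (aeval T a) := by rw [h]; exact hx
        exact LinearMap.mem_ker.mp (Submodule.mem_inf.mp this).2
      exact helper a b hab ha
  have hμΦ : minpoly (ZMod p) T ∣ cyclotomic q (ZMod p) :=
    minpoly.dvd (ZMod p) T (aeval_cyclotomic_eq_zero q T hTq hfix)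
  have hle : (minpoly (ZMod p) T).natDegree ∣ orderOf (p : ZMod q) :=
    natDegree_dvd_orderOf p q hirr hμΦ
  -- roots
  haveI : Fact (Irreducible (minpoly (ZMod p) T)) := ⟨hirr⟩
  have hθq := root_pow_eq_one p q hμΦ
  have hθ1 := root_ne_one p q hirr hμΦ hpq
  have hord : orderOf (AdjoinRoot.root (minpoly (ZMod p) T)) = q := orderOf_eq_prime hθq hθ1
  have hroot : ∀ j : ℕ, ¬ q ∣ j →
      aeval ((AdjoinRoot.root (minpoly (ZMod p) T)) ^ j) (minpoly (ZMod p) T) = 0 := by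
    intro j hj
    obtain ⟨σ, hσ⟩ := H2 j hj
    have hpow : ∀ (n : ℕ) (x : V), ((T ^ j) ^ n) (σ x) = σ ((T ^ n) x) := by
      intro n
      induction n with
      | zero => intro x; rw [pow_zero, pow_zero, Module.End.one_apply, Module.End.one_apply]
      | succ n ih =>
        intro x
        rw [pow_succ, pow_succ, Module.End.mul_apply, Module.End.mul_apply, ← hσ, ih]
    have hconj : ∀ f : (ZMod p)[X], ∀ x, aeval (T ^ j) f (σ x) = σ (aeval T f x) := by
      intro f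
      refine Polynomial.induction_on' f ?_ ?_
      · intro f g hf hg x
        rw [map_add, map_add, LinearMap.add_apply, LinearMap.add_apply, hf, hg, map_add]
      · intro n a x
        rw [aeval_monomial, aeval_monomial, Module.End.mul_apply, Module.End.mul_apply,
          Module.algebraMap_end_apply, Module.algebraMap_end_apply, map_smul, hpow]
    have h1 : aeval (T ^ j) (minpoly (ZMod p) T) = 0 := by
      apply LinearMap.ext
      intro y
      obtain ⟨x, rfl⟩ := σ.surjective y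
      rw [hconj, LinearMap.congr_fun hμT x, LinearMap.zero_apply, LinearMap.zero_apply, map_zero]
    have h2 : minpoly (ZMod p) T ∣ (minpoly (ZMod p) T).comp (X ^ j) := by
      apply minpoly.dvd
      rw [aeval_comp, map_pow, aeval_X]; exact h1
    obtain ⟨c, hc⟩ := h2
    have h3 : aeval (AdjoinRoot.root (minpoly (ZMod p) T))
        ((minpoly (ZMod p) T).comp (X ^ j)) = 0 := by
      rw [hc, map_mul, AdjoinRoot.aeval_eq, AdjoinRoot.mk_self, zero_mul]
    rw [aeval_comp, map_pow, aeval_X] at h3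
    exact h3
  have h2le := hq.out.two_le
  have hdeg : q - 1 ≤ (minpoly (ZMod p) T).natDegree := by
    let Z : Finset (AdjoinRoot (minpoly (ZMod p) T)) :=
      (Finset.Icc 1 (q - 1)).image (fun j => (AdjoinRoot.root (minpoly (ZMod p) T)) ^ j)
    have hZcard : Z.card = q - 1 := by
      rw [Finset.card_image_of_injOn, Nat.card_Icc]
      · omega
      · intro a ha b hb hab
        have ha' : a ∈ Set.Iio (orderOf (AdjoinRoot.root (minpoly (ZMod p) T))) := by
          rw [hord]; simp only [Finset.coe_Icc, Set.mem_Icc] at ha; simp only [Set.mem_Iio]; omega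
        have hb' : b ∈ Set.Iio (orderOf (AdjoinRoot.root (minpoly (ZMod p) T))) := by
          rw [hord]; simp only [Finset.coe_Icc, Set.mem_Icc] at hb; simp only [Set.mem_Iio]; omega
        exact pow_injOn_Iio_orderOf ha' hb' hab
    have hmap0 : (minpoly (ZMod p) T).map
        (algebraMap (ZMod p) (AdjoinRoot (minpoly (ZMod p) T))) ≠ 0 :=
      Polynomial.map_ne_zero hμ0
    have hsub : Z.val ⊆ ((minpoly (ZMod p) T).map
        (algebraMap (ZMod p) (AdjoinRoot (minpoly (ZMod p) T)))).roots := by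
      intro z hz
      rw [Finset.mem_val, Finset.mem_image] at hz
      obtain ⟨j, hj, rfl⟩ := hz
      rw [mem_roots hmap0, IsRoot, eval_map, ← aeval_def]
      apply hroot
      intro hdiv
      rw [Finset.mem_Icc] at hj
      have := Nat.le_of_dvd (by omega) hdiv
      omega
    have := card_le_degree_of_subset_roots hsub
    rw [hZcard, natDegree_map] at this
    exact this
  have hp0 : (p : ZMod q) ≠ 0 := by
    intro h
    have h4 : q ∣ p := (ZMod.natCast_eq_zero_iff p q).mp h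
    exact hpq ((Nat.prime_dvd_prime_iff_eq hq.out hp.out).mp h4).symm
  have hd_dvd : orderOf (p : ZMod q) ∣ q - 1 := ZMod.orderOf_dvd_card_sub_one hp0
  have hd_pos : 0 < orderOf (p : ZMod q) := Nat.pos_of_dvd_of_pos hd_dvd (by omega)
  have h1 := Nat.le_of_dvd hd_pos hle
  have h2 := Nat.le_of_dvd (by omega) hd_dvd
  omega

end LemmaA

end Cfsg.Agent.Lib.Lead.AutOrbA
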