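import Mathlib
import Cfsg.Agent.Lib.Lead.AutOrbA

set_option autoImplicit false
set_option maxHeartbeats 400000

namespace Cfsg.Agent.Lib.Lead.AutOrbB

open Cfsg.Agent.Lib.Lead.AutOrbA Polynomial

section bridge

variable {D : Type*} [CommGroup D] {p : ℕ}

/-- The `ZMod p`-module structure on an abelian group of exponent `p`, written additively. -/
noncomputable def modOf (hexp : ∀ d : D, d ^ p = 1) : Module (ZMod p) (Additive D) :=
  AddCommGroup.zmodModule (n := p) (fun x => by
    apply Additive.toMul.injective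
    rw [toMul_nsmul, hexp, toMul_zero])

variable [Module (ZMod p) (Additive D)]

/-- The linear endomorphism attached to an automorphism. -/
noncomputable def linOf (σ : MulAut D) : Module.End (ZMod p) (Additive D) :=
  (MulEquiv.toAdditive σ).toAddMonoidHom.toZModLinearMap p

theorem linOf_apply (σ : MulAut D) (x : Additive D) :
    linOf (p := p) σ x = Additive.ofMul (σ (Additive.toMul x)) := rfl

theorem linOf_one : linOf (p := p) (1 : MulAut D) = 1 := by
  apply LinearMap.ext; intro x; rfl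

theorem linOf_mul (σ τ : MulAut D) : linOf (p := p) (σ * τ) = linOf σ * linOf τ := by
  apply LinearMap.ext; intro x; rfl

theorem linOf_pow (σ : MulAut D) (n : ℕ) : linOf (p := p) (σ ^ n) = (linOf σ) ^ n := by
  induction n with
  | zero => rw [pow_zero, pow_zero, linOf_one]
  | succ n ih => rw [pow_succ, pow_succ, linOf_mul, ih]

/-- The linear automorphism attached to an automorphism. -/
noncomputable def linEquivOf (σ : MulAut D) : Additive D ≃ₗ[ZMod p] Additive D :=
  AddEquiv.toLinearEquiv (MulEquiv.toAdditive σ) (fun c x => ZMod.map_smul _ c x)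

theorem linEquivOf_apply (σ : MulAut D) (x : Additive D) :
    linEquivOf (p := p) σ x = Additive.ofMul (σ (Additive.toMul x)) := rfl

end bridge

/-- Multiplicative form of the primitive root lemma. -/
theorem primitive_root_mul {D : Type*} [Group D] [Finite D] [Nontrivial D]
    (hcomm : ∀ a b : D, a * b = b * a)
    {p q : ℕ} [hp : Fact p.Prime] [hq : Fact q.Prime] (hpq : p ≠ q)
    (hexp : ∀ d : D, d ^ p = 1) (τ : MulAut D) (hτq : τ ^ q = 1) (hfix : ∀ d, τ d = d → d = 1)
    (H1 : ∀ v w : D, v ≠ 1 → w ≠ 1 → ∃ (σ : MulAut D) (j : ℕ),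
      ¬ q ∣ j ∧ σ v = w ∧ σ * τ = τ ^ j * σ)
    (H2 : ∀ j : ℕ, ¬ q ∣ j → ∃ σ : MulAut D, σ * τ = τ ^ j * σ) :
    orderOf (p : ZMod q) = q - 1 := by
  letI : CommGroup D := { ‹Group D› with mul_comm := hcomm }
  letI : Module (ZMod p) (Additive D) := modOf hexp
  have key : ∀ (σ : MulAut D) (j : ℕ), σ * τ = τ ^ j * σ → ∀ x : Additive D,
      linEquivOf (p := p) σ (linOf (p := p) τ x) = (linOf (p := p) τ ^ j) (linEquivOf (p := p) σ x) := by
    intro σ j hσ x
    rw [← linOf_pow]
    show Additive.ofMul (σ (τ (Additive.toMul x))) =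
      Additive.ofMul ((τ ^ j) (σ (Additive.toMul x)))
    have := DFunLike.congr_fun hσ (Additive.toMul x)
    rw [MulAut.mul_apply, MulAut.mul_apply] at this
    rw [this]
  apply primitive_root_of_transitive hpq (linOf (p := p) τ)
  · rw [← linOf_pow, hτq, linOf_one]
  · intro v hv
    have h1 : τ (Additive.toMul v) = Additive.toMul v := congrArg Additive.toMul hv
    have h2 := hfix _ h1
    exact Additive.toMul.injective (h2.trans toMul_zero.symm)
  · intro v w hv hw
    obtain ⟨σ, j, hj, hσv, hσ⟩ := H1 (Additive.toMul v) (Additive.toMul w)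
      (fun h => hv (Additive.toMul.injective (h.trans toMul_zero.symm)))
      (fun h => hw (Additive.toMul.injective (h.trans toMul_zero.symm)))
    refine ⟨linEquivOf σ, j, hj, ?_, key σ j hσ⟩
    show Additive.ofMul (σ (Additive.toMul v)) = w
    rw [hσv]; rfl
  · intro j hj
    obtain ⟨σ, hσ⟩ := H2 j hj
    exact ⟨linEquivOf σ, key σ j hσ⟩

/-- Multiplicative form of the intertwiner lemma. -/
theorem exists_intertwiner_mul {D : Type*} [Group D] [Finite D]
    (hcomm : ∀ a b : D, a * b = b * a)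
    {p q : ℕ} [hp : Fact p.Prime] [hq : Fact q.Prime] (hpq : p ≠ q)
    (hprim : orderOf (p : ZMod q) = q - 1)
    (hexp : ∀ d : D, d ^ p = 1) (τ₁ τ₂ : MulAut D) (h₁q : τ₁ ^ q = 1) (h₂q : τ₂ ^ q = 1)
    (hfix₁ : ∀ d, τ₁ d = d → d = 1) (hfix₂ : ∀ d, τ₂ d = d → d = 1)
    (x₁ x₂ : D) (hx₁ : x₁ ≠ 1) (hx₂ : x₂ ≠ 1) :
    ∃ σ : MulAut D, σ x₁ = x₂ ∧ σ * τ₁ = τ₂ * σ := by
  letI : CommGroup D := { ‹Group D› with mul_comm := hcomm }
  letI : Module (ZMod p) (Additive D) := modOf hexp
  have hΦ := cyclotomic_irreducible p q hpq hprim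
  have fixlin : ∀ τ : MulAut D, (∀ d, τ d = d → d = 1) → ∀ v : Additive D,
      linOf (p := p) τ v = v → v = 0 := by
    intro τ hfix v hv
    have h1 : τ (Additive.toMul v) = Additive.toMul v := congrArg Additive.toMul hv
    have h2 := hfix _ h1
    exact Additive.toMul.injective (h2.trans toMul_zero.symm)
  have a₁ : aeval (linOf (p := p) τ₁) (cyclotomic q (ZMod p)) = 0 :=
    aeval_cyclotomic_eq_zero q _ (by rw [← linOf_pow, h₁q, linOf_one]) (fixlin τ₁ hfix₁)
  have a₂ : aeval (linOf (p := p) τ₂) (cyclotomic q (ZMod p)) = 0 :=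
    aeval_cyclotomic_eq_zero q _ (by rw [← linOf_pow, h₂q, linOf_one]) (fixlin τ₂ hfix₂)
  have hx₁' : Additive.ofMul x₁ ≠ 0 := fun h => hx₁ (Additive.ofMul.injective h)
  have hx₂' : Additive.ofMul x₂ ≠ 0 := fun h => hx₂ (Additive.ofMul.injective h)
  obtain ⟨σ', hσx, hσ⟩ := exists_addEquiv_intertwine (cyclotomic q (ZMod p)) hΦ _ _ a₁ a₂
    (Additive.ofMul x₁) (Additive.ofMul x₂) hx₁' hx₂'
  refine ⟨MulEquiv.toAdditive.symm σ', ?_, ?_⟩
  · show Additive.toMul (σ' (Additive.ofMul x₁)) = x₂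
    rw [hσx]; rfl
  · apply MulEquiv.ext
    intro d
    show Additive.toMul (σ' (Additive.ofMul (τ₁ d))) =
      τ₂ (Additive.toMul (σ' (Additive.ofMul d)))
    exact congrArg Additive.toMul (hσ (Additive.ofMul d))

section groupHelpers

variable {G : Type*} [Group G]

/-- The class of `g` in the orbit quotient. -/
def cls (g : G) : MulAction.orbitRel.Quotient (MulAut G) G := Quotient.mk'' g

theorem cls_eq_iff (g h : G) : cls g = cls h ↔ ∃ α : MulAut G, α h = g := by
  unfold cls
  rw [Quotient.eq'']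
  show (MulAction.orbitRel (MulAut G) G) g h ↔ _
  rw [MulAction.orbitRel_apply, MulAction.mem_orbit_iff]
  constructor
  · rintro ⟨α, hα⟩; exact ⟨α, by rw [← MulAut.smul_def]; exact hα⟩
  · rintro ⟨α, hα⟩; exact ⟨α, by rw [MulAut.smul_def]; exact hα⟩

theorem cls_surj (x : MulAction.orbitRel.Quotient (MulAut G) G) : ∃ g : G, cls g = x :=
  Quotient.inductionOn' x (fun g => ⟨g, rfl⟩)

theorem three_cases {α : Type*} (h : Nat.card α = 3) (a b c : α) (hab : a ≠ b) (hac : a ≠ c)
    (hbc : b ≠ c) (x : α) : x = a ∨ x = b ∨ x = c := by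
  classical
  haveI : Finite α := Nat.finite_of_card_ne_zero (by omega)
  haveI := Fintype.ofFinite α
  have hs : ({a, b, c} : Finset α) = Finset.univ := by
    apply Finset.eq_univ_of_card
    rw [Finset.card_insert_of_notMem, Finset.card_insert_of_notMem, Finset.card_singleton,
      ← Nat.card_eq_fintype_card, h]
    · simpa using hbc
    · simp [hab, hac]
  have := Finset.mem_univ x
  rw [← hs] at this
  simpa using this

/-- Restriction of an automorphism to an invariant subgroup. -/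
def resAut (D : Subgroup G) (α : G ≃* G) (h : ∀ x, α x ∈ D ↔ x ∈ D) : MulAut D where
  toFun d := ⟨α (d : G), (h (d : G)).mpr d.2⟩
  invFun d := ⟨α.symm (d : G), (h _).mp (by rw [MulEquiv.apply_symm_apply]; exact d.2)⟩
  left_inv d := Subtype.ext (α.symm_apply_apply (d : G))
  right_inv d := Subtype.ext (α.apply_symm_apply (d : G))
  map_mul' a b := Subtype.ext (map_mul α (a : G) (b : G))

theorem resAut_coe (D : Subgroup G) (α : G ≃* G) (h : ∀ x, α x ∈ D ↔ x ∈ D) (d : D) :
    ((resAut D α h d : D) : G) = α (d : G) := rfl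

theorem resAut_semiconj (D : Subgroup G) [D.Normal] (α : G ≃* G) (h : ∀ x, α x ∈ D ↔ x ∈ D)
    (c : G) :
    resAut D α h * MulAut.conjNormal c = MulAut.conjNormal (α c) * resAut D α h := by
  apply MulEquiv.ext
  intro d
  apply Subtype.ext
  rw [MulAut.mul_apply, MulAut.mul_apply, MulAut.conjNormal_apply, resAut_coe, resAut_coe,
    MulAut.conjNormal_apply, map_mul, map_mul, map_inv]

theorem conjNormal_mul_of_mem (D : Subgroup G) [hDn : D.Normal]
    (hcomm : ∀ a ∈ D, ∀ b ∈ D, a * b = b * a) (u x : G) (hu : u ∈ D) :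
    (MulAut.conjNormal (u * x) : MulAut D) = MulAut.conjNormal x := by
  apply MulEquiv.ext
  intro d
  apply Subtype.ext
  rw [MulAut.conjNormal_apply, MulAut.conjNormal_apply]
  have hmem : x * d * x⁻¹ ∈ D := hDn.conj_mem d d.2 x
  calc u * x * ↑d * (u * x)⁻¹ = u * (x * d * x⁻¹) * u⁻¹ := by group
    _ = (x * d * x⁻¹) * u * u⁻¹ := by rw [hcomm u hu _ hmem]
    _ = x * d * x⁻¹ := by group

theorem exists_decomp [Finite G] (D : Subgroup G) [hDn : D.Normal] {q : ℕ} [hq : Fact q.Prime]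
    (hidx : D.index = q) (c : G) (hcD : c ∉ D) (hc : orderOf c = q) (g : G) :
    ∃ u ∈ D, ∃ j : ℕ, g = u * c ^ j := by
  have hcard : Nat.card (G ⧸ D) = q := by rw [← Subgroup.index_eq_card, hidx]
  have hne : (c : G ⧸ D) ≠ 1 := by
    intro h
    exact hcD ((QuotientGroup.eq_one_iff c).mp h)
  have htop := zpowers_eq_top_of_prime_card hcard hne
  have hmem : (g : G ⧸ D) ∈ Subgroup.zpowers (c : G ⧸ D) := by rw [htop]; exact Subgroup.mem_top _
  obtain ⟨i, hi⟩ := Subgroup.mem_zpowers_iff.mp hmem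
  have h1 : ((c ^ i : G) : G ⧸ D) = (g : G ⧸ D) := by rw [QuotientGroup.mk_zpow]; exact hi
  have h2 : (c ^ i)⁻¹ * g ∈ D := QuotientGroup.eq.mp h1
  have hcq : (0 : ℤ) < (q : ℤ) := by exact_mod_cast hq.out.pos
  have h3 : c ^ i = c ^ (i % (q : ℤ)).toNat := by
    rw [← zpow_natCast, Int.toNat_of_nonneg (Int.emod_nonneg _ hcq.ne'), ← hc, zpow_mod_orderOf]
  refine ⟨c ^ i * ((c ^ i)⁻¹ * g) * (c ^ i)⁻¹, hDn.conj_mem _ h2 _, (i % (q : ℤ)).toNat, ?_⟩
  rw [← h3]; group

theorem exists_conj [Finite G] (D : Subgroup G) [hDn : D.Normal] (x : G)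
    (hfix : ∀ d ∈ D, x * d * x⁻¹ = d → d = 1) (u : G) (hu : u ∈ D) :
    ∃ w ∈ D, w * x * w⁻¹ = u * x := by
  let ψ : D → D := fun w =>
    ⟨(w : G) * (x * (w : G)⁻¹ * x⁻¹), D.mul_mem w.2 (hDn.conj_mem _ (D.inv_mem w.2) _)⟩
  have hinj : Function.Injective ψ := by
    intro w w' h
    have h' : (w : G) * (x * (w : G)⁻¹ * x⁻¹) = (w' : G) * (x * (w' : G)⁻¹ * x⁻¹) :=
      congrArg Subtype.val h
    have hd : (w' : G)⁻¹ * w ∈ D := D.mul_mem (D.inv_mem w'.2) w.2
    have h1 : (w' : G)⁻¹ * w = (x * (w' : G)⁻¹ * x⁻¹) * (x * (w : G)⁻¹ * x⁻¹)⁻¹ := by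
      rw [eq_mul_inv_iff_mul_eq, mul_assoc, h']; group
    have h2 : x * ((w' : G)⁻¹ * w) * x⁻¹ = (w' : G)⁻¹ * w := by
      calc x * ((w' : G)⁻¹ * w) * x⁻¹
          = (x * (w' : G)⁻¹ * x⁻¹) * (x * (w : G)⁻¹ * x⁻¹)⁻¹ := by group
        _ = (w' : G)⁻¹ * w := h1.symm
    have h3 := hfix _ hd h2
    apply Subtype.ext
    have : (w : G) = w' * ((w' : G)⁻¹ * w) := by group
    rw [this, h3, mul_one]
  have hsurj : Function.Surjective ψ := Finite.injective_iff_surjective.mp hinj
  obtain ⟨w, hw⟩ := hsurj ⟨u, hu⟩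
  have hw' : (w : G) * (x * (w : G)⁻¹ * x⁻¹) = u := congrArg Subtype.val hw
  refine ⟨w, w.2, ?_⟩
  calc (w : G) * x * (w : G)⁻¹ = ((w : G) * (x * (w : G)⁻¹ * x⁻¹)) * x := by group
    _ = u * x := by rw [hw']

theorem exists_extension (D : Subgroup G) [hDn : D.Normal] (c : G) {q : ℕ}
    (hq : q.Prime) (hc : orderOf c = q) (hcompl : D.IsComplement' (Subgroup.zpowers c))
    (σ : MulAut D) (k : ℕ) (hk : ¬ q ∣ k)
    (hσ : σ * MulAut.conjNormal c = (MulAut.conjNormal c) ^ k * σ) :
    ∃ α : MulAut G, (∀ d : D, α (d : G) = (σ d : G)) ∧ α c = c ^ k := by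
  have hKcard : Nat.card (Subgroup.zpowers c) = q := by rw [Nat.card_zpowers, hc]
  have hcop : (Nat.card (Subgroup.zpowers c)).Coprime k := by
    rw [hKcard]; exact (Nat.Prime.coprime_iff_not_dvd hq).mpr hk
  let fg : Subgroup.zpowers c ≃* Subgroup.zpowers c :=
    { toEquiv := powCoprime hcop
      map_mul' := fun a b => (Commute.mul_pow (mul_comm' a b) k) }
  have hfg : ∀ g : Subgroup.zpowers c, fg g = g ^ k := fun g => rfl
  have hsemi : ∀ i : ℤ, σ * (MulAut.conjNormal c) ^ i = ((MulAut.conjNormal c) ^ k) ^ i * σ := by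
    intro i
    have h0 : SemiconjBy σ (MulAut.conjNormal c) ((MulAut.conjNormal c) ^ k) := hσ
    exact h0.zpow_right i
  have hcompat : ∀ (g : Subgroup.zpowers c) (d : D),
      σ (MulAut.conjNormal (g : G) d) =
        MulAut.conjNormal ((fg g : Subgroup.zpowers c) : G) (σ d) := by
    intro g d
    obtain ⟨i, hi⟩ := Subgroup.mem_zpowers_iff.mp g.2
    have h1 : (MulAut.conjNormal (g : G) : MulAut D) = (MulAut.conjNormal c) ^ i := by
      rw [← hi, map_zpow]
    have h2 : (MulAut.conjNormal ((fg g : Subgroup.zpowers c) : G) : MulAut D) =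
        ((MulAut.conjNormal c) ^ k) ^ i := by
      rw [hfg, Subgroup.coe_pow, ← hi, map_pow, map_zpow, ← zpow_natCast, ← zpow_natCast,
        ← zpow_mul, ← zpow_mul, mul_comm]
    rw [h1, h2]
    have := DFunLike.congr_fun (hsemi i) d
    rw [MulAut.mul_apply, MulAut.mul_apply] at this
    exact this
  let e := SemidirectProduct.mulEquivSubgroup hcompl
  let cg := SemidirectProduct.congr (φ₁ := (D.normalizerMonoidHom).comp
      (Subgroup.inclusion (D.normalizer_eq_top ▸ le_top)))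
    (φ₂ := (D.normalizerMonoidHom).comp (Subgroup.inclusion (D.normalizer_eq_top ▸ le_top)))
    σ fg (by
      intro g
      apply MulEquiv.ext
      intro d
      have hφ : ∀ (g : Subgroup.zpowers c) (d : D),
          ((D.normalizerMonoidHom).comp (Subgroup.inclusion (D.normalizer_eq_top ▸ le_top))) g d =
            MulAut.conjNormal (g : G) d := fun g d => Subtype.ext rfl
      show σ (((D.normalizerMonoidHom).comp
        (Subgroup.inclusion (D.normalizer_eq_top ▸ le_top))) g d) =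
        ((D.normalizerMonoidHom).comp (Subgroup.inclusion (D.normalizer_eq_top ▸ le_top)))
          (fg g) (σ d)
      rw [hφ, hφ]
      exact hcompat g d)
  refine ⟨(e.symm.trans cg).trans e, ?_, ?_⟩
  · intro d
    have h1 : e.symm (d : G) = SemidirectProduct.inl d := by
      rw [MulEquiv.symm_apply_eq, SemidirectProduct.mulEquivSubgroup_apply]
      simp
    show e (cg (e.symm (d : G))) = σ d
    rw [h1, SemidirectProduct.mulEquivSubgroup_apply]
    show ((σ d : D) : G) * ((fg 1 : Subgroup.zpowers c) : G) = σ d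
    rw [map_one, Subgroup.coe_one, mul_one]
  · have h1 : e.symm c = SemidirectProduct.inr ⟨c, Subgroup.mem_zpowers c⟩ := by
      rw [MulEquiv.symm_apply_eq, SemidirectProduct.mulEquivSubgroup_apply]
      simp
    show e (cg (e.symm c)) = c ^ k
    rw [h1, SemidirectProduct.mulEquivSubgroup_apply]
    show ((σ 1 : D) : G) * ((fg ⟨c, Subgroup.mem_zpowers c⟩ : Subgroup.zpowers c) : G) = c ^ k
    rw [map_one, Subgroup.coe_one, one_mul, hfg]
    rfl

end groupHelpers

end Cfsg.Agent.Lib.Lead.AutOrbB
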