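import Mathlib
import Cfsg.Prelude.Def_Transfer
import Cfsg.Agent.Lib.Lead.AutOrbB
import Cfsg.Agent.Lib.Helper1.FpfCyclic
import Cfsg.Agent.S0144

set_option autoImplicit false
set_option maxHeartbeats 400000

namespace Cfsg.Agent.Lib.Lead.AutOrbC

open Cfsg.Agent.Lib.Lead.AutOrbA Cfsg.Agent.Lib.Lead.AutOrbB
open scoped commutatorElement

theorem two_primes {n : ℕ} (hn0 : n ≠ 0) (hn1 : n ≠ 1) (hnpp : ¬ IsPrimePow n) :
    ∃ p q : ℕ, p.Prime ∧ q.Prime ∧ p ≠ q ∧ p ∣ n ∧ q ∣ n := by
  obtain ⟨p, hp, hpn⟩ := Nat.exists_prime_and_dvd hn1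
  by_contra hcon
  have huniq : ∀ {r : ℕ}, r.Prime → r ∣ n → r = p := by
    intro r hr hrn
    by_contra hne
    exact hcon ⟨p, r, hp, hr, Ne.symm hne, hpn, hrn⟩
  apply hnpp
  have h := Nat.eq_prime_pow_of_unique_prime_dvd hn0 huniq
  rw [isPrimePow_nat_iff]
  refine ⟨p, n.primeFactorsList.length, hp, ?_, h.symm⟩
  rcases Nat.eq_zero_or_pos n.primeFactorsList.length with h0 | h0
  · rw [h0, pow_zero] at h; exact absurd h hn1
  · exact h0

theorem card_eq_two_prime_pows {n p q : ℕ} (hn : n ≠ 0) (hp : p.Prime)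
    (h : ∀ r : ℕ, r.Prime → r ∣ n → r = p ∨ r = q) : ∃ a b : ℕ, n = p ^ a * q ^ b := by
  obtain ⟨a, m, hpm, hnm⟩ := Nat.exists_eq_pow_mul_and_not_dvd hn p hp.ne_one
  have hm0 : m ≠ 0 := by
    rintro rfl
    rw [mul_zero] at hnm
    exact hn hnm
  have hm : m = q ^ m.primeFactorsList.length := by
    apply Nat.eq_prime_pow_of_unique_prime_dvd hm0
    intro r hr hrm
    have hrn : r ∣ n := by rw [hnm]; exact Dvd.dvd.mul_left hrm _
    rcases h r hr hrn with h1 | h1
    · exfalso
      apply hpm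
      rw [← h1]; exact hrm
    · exact h1
  refine ⟨a, m.primeFactorsList.length, ?_⟩
  rw [← hm]; exact hnm

theorem factorization_pow_mul {p q n : ℕ} (hp : p.Prime) (hq : q.Prime) (hpq : p ≠ q) :
    (p ^ n * q).factorization p = n := by
  rw [Nat.factorization_mul (pow_ne_zero _ hp.ne_zero) hq.ne_zero, Finsupp.add_apply,
    Nat.factorization_pow, Finsupp.smul_apply, hp.factorization_self,
    Nat.factorization_eq_zero_of_not_dvd (fun h => hpq ((Nat.prime_dvd_prime_iff_eq hp hq).mp h)),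
    smul_eq_mul, mul_one, add_zero]

theorem card_three {α : Type*} (a b c : α) (hab : a ≠ b) (hac : a ≠ c) (hbc : b ≠ c)
    (h : ∀ x, x = a ∨ x = b ∨ x = c) : Nat.card α = 3 := by
  classical
  letI : Fintype α := ⟨{a, b, c}, fun x => by rcases h x with rfl | rfl | rfl <;> simp⟩
  rw [Nat.card_eq_fintype_card]
  show (Finset.univ : Finset α).card = 3
  exact Finset.card_eq_three.mpr ⟨a, b, c, hab, hac, hbc, rfl⟩

section grp

variable {G : Type*} [Group G]

theorem orderOf_eq_of_cls {g h : G} (hgh : cls g = cls h) : orderOf g = orderOf h := by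
  obtain ⟨α, hα⟩ := (cls_eq_iff g h).mp hgh
  rw [← hα]
  exact MulEquiv.orderOf_eq α h

theorem char_mem_iff (D : Subgroup G) [hDc : D.Characteristic] (α : G ≃* G) (x : G) :
    α x ∈ D ↔ x ∈ D := by
  have h := hDc.fixed α
  constructor
  · intro hx
    have h1 : x ∈ D.comap α.toMonoidHom := hx
    rwa [h] at h1
  · intro hx
    have h1 : x ∈ D.comap α.toMonoidHom := by rw [h]; exact hx
    exact h1

theorem fix_eq_one (p q : ℕ) [hp : Fact p.Prime] (D : Subgroup G) [D.Normal]
    (hDexp : ∀ d ∈ D, d ^ p = 1)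
    (hfpf : ∀ x y : G, orderOf x = q → orderOf y = p → x * y * x⁻¹ ≠ y)
    (x : G) (hx : orderOf x = q) (d : D)
    (hd : (MulAut.conjNormal x : MulAut D) d = d) : d = 1 := by
  by_contra hne
  have hd' : x * (d : G) * x⁻¹ = d := by rw [← MulAut.conjNormal_apply, hd]
  have hord : orderOf (d : G) = p := by
    have h1 : orderOf (d : G) ∣ p := orderOf_dvd_of_pow_eq_one (hDexp d d.2)
    rcases (Nat.dvd_prime hp.out).mp h1 with h | h
    · exact absurd (Subtype.ext (orderOf_eq_one_iff.mp h)) hne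
    · exact h
  exact hfpf x d hx hord hd'

theorem conjNormal_pow_eq_one (D : Subgroup G) [D.Normal] (x : G) (q : ℕ)
    (hx : orderOf x = q) : (MulAut.conjNormal x : MulAut D) ^ q = 1 := by
  subst hx
  rw [← map_pow, pow_orderOf_eq_one, map_one]

theorem sylow_card_index [Finite G] {p q n : ℕ} [hp : Fact p.Prime]
    [hq : Fact q.Prime] (hpq : p ≠ q) (hcard : Nat.card G = p ^ n * q) (P : Sylow p G) :
    Nat.card (P : Subgroup G) = p ^ n ∧ (P : Subgroup G).index = q := by
  have h1 : Nat.card (P : Subgroup G) = p ^ n := by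
    rw [Sylow.card_eq_multiplicity, hcard, factorization_pow_mul hp.out hq.out hpq]
  refine ⟨h1, ?_⟩
  have h2 := Subgroup.card_mul_index (P : Subgroup G)
  rw [h1, hcard] at h2
  exact Nat.eq_of_mul_eq_mul_left (pow_pos hp.out.pos n) h2

theorem exists_char_abelian [Nontrivial G] [hs : Group.IsSolvable G] :
    ∃ D : Subgroup G, D.Characteristic ∧ D ≠ ⊥ ∧ ∀ x ∈ D, ∀ y ∈ D, x * y = y * x := by
  classical
  have hex := hs.solvable
  obtain ⟨m, hm, hmin⟩ : ∃ m, derivedSeries G m = ⊥ ∧ ∀ k < m, derivedSeries G k ≠ ⊥ :=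
    ⟨Nat.find hex, Nat.find_spec hex, fun k hk => Nat.find_min hex hk⟩
  cases m with
  | zero =>
    exfalso
    rw [derivedSeries_zero] at hm
    exact top_ne_bot hm
  | succ k =>
    refine ⟨derivedSeries G k, derivedSeries_characteristic G k, hmin k (Nat.lt_succ_self k), ?_⟩
    intro x hx y hy
    rw [derivedSeries_succ] at hm
    have h1 : ⁅x, y⁆ ∈ ⁅derivedSeries G k, derivedSeries G k⁆ :=
      Subgroup.commutator_mem_commutator hx hy
    rw [hm, Subgroup.mem_bot] at h1
    exact commutatorElement_eq_one_iff_mul_comm.mp h1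

theorem forward_core [Finite G] (p q : ℕ) [hp : Fact p.Prime]
    [hq : Fact q.Prime] (hpq : p ≠ q)
    (hO : ∀ g : G, g = 1 ∨ orderOf g = p ∨ orderOf g = q)
    (hTr : ∀ g h : G, orderOf g = orderOf h → ∃ α : MulAut G, α g = h)
    (a b : ℕ) (hcard : Nat.card G = p ^ a * q ^ b)
    (c : G) (hc : orderOf c = q)
    (D : Subgroup G) [hDc : D.Characteristic] (hDcomm : ∀ x ∈ D, ∀ y ∈ D, x * y = y * x)
    (d₀ : G) (hd₀D : d₀ ∈ D) (hd₀ : orderOf d₀ = p) :
    ∃ n : ℕ, 1 ≤ n ∧ Nat.card G = p ^ n * q ∧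
      (∀ P : Sylow p G, (P : Subgroup G).Normal ∧ Cfsg.IsElementaryAbelian p (P : Subgroup G)) ∧
      orderOf (p : ZMod q) = q - 1 ∧
      ∀ x y : G, orderOf x = q → orderOf y = p → x * y * x⁻¹ ≠ y := by
  have h2p := hp.out.two_le
  have h2q := hq.out.two_le
  haveI hDn : D.Normal := Subgroup.normal_of_characteristic D
  have no_pq : ∀ x y : G, orderOf x = p → orderOf y = q → x * y ≠ y * x := by
    intro x y hx hy hxy
    have hcop : (orderOf x).Coprime (orderOf y) := by
      rw [hx, hy]; exact (Nat.coprime_primes hp.out hq.out).mpr hpq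
    have hord := Commute.orderOf_mul_eq_mul_orderOf_of_coprime (show Commute x y from hxy) hcop
    rw [hx, hy] at hord
    have e1 := Nat.mul_le_mul h2p h2q
    have e2 := Nat.mul_le_mul_left p h2q
    have e3 := Nat.mul_le_mul_right q h2p
    rcases hO (x * y) with h | h | h
    · rw [h, orderOf_one] at hord; omega
    · rw [h] at hord; omega
    · rw [h] at hord; omega
  have hd₀ne : d₀ ≠ 1 := by
    intro h; rw [h, orderOf_one] at hd₀; omega
  have hDmem : ∀ g : G, g ∈ D ↔ g = 1 ∨ orderOf g = p := by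
    intro g
    constructor
    · intro hg
      rcases hO g with h | h | h
      · exact Or.inl h
      · exact Or.inr h
      · exact absurd (hDcomm d₀ hd₀D g hg) (no_pq d₀ g hd₀ h)
    · rintro (h | h)
      · rw [h]; exact D.one_mem
      · obtain ⟨α, hα⟩ := hTr d₀ g (hd₀.trans h.symm)
        rw [← hα]; exact (char_mem_iff D α d₀).mpr hd₀D
  have hDexp : ∀ d ∈ D, d ^ p = 1 := by
    intro d hd
    rcases (hDmem d).mp hd with h | h
    · rw [h, one_pow]
    · rw [← h]; exact pow_orderOf_eq_one d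
  have hcne : c ≠ 1 := by intro h; rw [h, orderOf_one] at hc; omega
  have hcD : c ∉ D := by
    intro h
    rcases (hDmem c).mp h with h | h
    · exact hcne h
    · rw [hc] at h; exact hpq h.symm
  have hfpf : ∀ x y : G, orderOf x = q → orderOf y = p → x * y * x⁻¹ ≠ y := by
    intro x y hx hy h
    rw [mul_inv_eq_iff_eq_mul] at h
    exact no_pq y x hy hx h.symm
  have hDp : IsPGroup p D := fun g => ⟨1, by
    rw [pow_one]
    exact Subtype.ext (by rw [Subgroup.coe_pow, Subgroup.coe_one]; exact hDexp g g.2)⟩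
  have hSyl : ∀ P : Sylow p G, (P : Subgroup G) = D := by
    intro P
    have hPD : (P : Subgroup G) ≤ D := by
      intro g hg
      obtain ⟨k, hk⟩ := P.isPGroup' ⟨g, hg⟩
      have hk' : g ^ p ^ k = 1 := by
        have := congrArg Subtype.val hk
        simpa using this
      rcases hO g with h | h | h
      · rw [h]; exact D.one_mem
      · exact (hDmem g).mpr (Or.inr h)
      · exfalso
        have h1 : q ∣ p ^ k := by rw [← h]; exact orderOf_dvd_of_pow_eq_one hk'
        have h2 : q ∣ p := hq.out.dvd_of_dvd_pow h1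
        exact hpq ((Nat.prime_dvd_prime_iff_eq hq.out hp.out).mp h2).symm
    exact (P.is_maximal' hDp hPD).symm
  have hb1 : 1 ≤ b := by
    by_contra hb
    have hb0 : b = 0 := by omega
    have h1 : q ∣ Nat.card G := by rw [← hc]; exact orderOf_dvd_natCard c
    rw [hcard, hb0, pow_zero, mul_one] at h1
    have h2 : q ∣ p := hq.out.dvd_of_dvd_pow h1
    exact hpq ((Nat.prime_dvd_prime_iff_eq hq.out hp.out).mp h2).symm
  have ha1 : 1 ≤ a := by
    by_contra ha
    have ha0 : a = 0 := by omega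
    have h1 : p ∣ Nat.card G := by rw [← hd₀]; exact orderOf_dvd_natCard d₀
    rw [hcard, ha0, pow_zero, one_mul] at h1
    have h2 : p ∣ q := hp.out.dvd_of_dvd_pow h1
    exact hpq ((Nat.prime_dvd_prime_iff_eq hp.out hq.out).mp h2)
  haveI hDmc : IsMulCommutative D := ⟨⟨fun a b => Subtype.ext (hDcomm a a.2 b b.2)⟩⟩
  have hDne : D ≠ ⊥ := fun h => hd₀ne (by rw [h] at hd₀D; exact Subgroup.mem_bot.mp hd₀D)
  have hb : b = 1 := by
    by_contra hbne
    have hb2 : 2 ≤ b := by omega
    have hdvd : q ^ 2 ∣ Nat.card G := by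
      rw [hcard]; exact Dvd.dvd.mul_left (pow_dvd_pow q hb2) _
    obtain ⟨E, hE⟩ := Sylow.exists_subgroup_card_pow_prime q hdvd
    have hEord : ∀ x ∈ E, x ≠ 1 → orderOf x = q := by
      intro x hx hx1
      have h1 : orderOf x ∣ q ^ 2 := by
        rw [← hE]; exact Subgroup.orderOf_dvd_natCard E hx
      rcases hO x with h | h | h
      · exact absurd h hx1
      · exfalso
        rw [h] at h1
        have h2 : p ∣ q := hp.out.dvd_of_dvd_pow h1
        exact hpq ((Nat.prime_dvd_prime_iff_eq hp.out hq.out).mp h2)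
      · exact h
    have hAV : E ≤ Subgroup.normalizer (D : Set G) := by
      rw [Subgroup.normalizer_eq_top]; exact le_top
    have hfpf' : ∀ x ∈ E, x ≠ 1 → D ⊓ Subgroup.centralizer {x} = ⊥ := by
      intro x hx hx1
      rw [Subgroup.eq_bot_iff_forall]
      intro y hy
      obtain ⟨hyD, hyC⟩ := Subgroup.mem_inf.mp hy
      rcases (hDmem y).mp hyD with h | h
      · exact h
      · exfalso
        have h1 := Subgroup.mem_centralizer_iff.mp hyC x (Set.mem_singleton x)
        exact no_pq y x h (hEord x hx hx1) h1.symm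
    haveI hcyc : IsCyclic E := Cfsg.Agent.Lib.Helper1.fpf_on_abelian_cyclic E D hDne hAV hfpf'
      (Or.inr ⟨q, q, hq.out, hq.out, by rw [hE, sq]⟩)
    obtain ⟨g, hg⟩ := IsCyclic.exists_ofOrder_eq_natCard (α := E)
    rw [hE, ← Subgroup.orderOf_coe] at hg
    have e1 := Nat.mul_le_mul h2q h2q
    have e2 := Nat.mul_le_mul_left q h2q
    rcases hO (g : G) with h | h | h
    · rw [h, orderOf_one, sq] at hg; omega
    · rw [h] at hg
      have h2 : q ∣ p := by rw [hg]; exact dvd_pow_self q two_ne_zero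
      exact hpq ((Nat.prime_dvd_prime_iff_eq hq.out hp.out).mp h2).symm
    · rw [h, sq] at hg; omega
  have hcard' : Nat.card G = p ^ a * q := by rw [hcard, hb, pow_one]
  obtain ⟨hDcard, hidx⟩ := sylow_card_index hpq hcard' (default : Sylow p G)
  rw [hSyl default] at hDcard hidx
  have hcommD : ∀ a b : D, a * b = b * a := fun a b => Subtype.ext (hDcomm a a.2 b b.2)
  have hexpD : ∀ d : D, d ^ p = 1 := fun d =>
    Subtype.ext (by rw [Subgroup.coe_pow, Subgroup.coe_one]; exact hDexp d d.2)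
  have hprim : orderOf (p : ZMod q) = q - 1 := by
    haveI : Nontrivial D := ⟨⟨⟨d₀, hd₀D⟩, 1, fun h => hd₀ne (congrArg Subtype.val h)⟩⟩
    apply primitive_root_mul (D := D) hcommD hpq hexpD (MulAut.conjNormal c)
      (conjNormal_pow_eq_one D c q hc) (fix_eq_one p q D hDexp hfpf c hc)
    · intro v w hv hw
      have hvG : (v : G) ≠ 1 := fun h => hv (Subtype.ext h)
      have hwG : (w : G) ≠ 1 := fun h => hw (Subtype.ext h)
      have hov : orderOf (v : G) = p := by
        rcases (hDmem v).mp v.2 with h | h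
        · exact absurd h hvG
        · exact h
      have how : orderOf (w : G) = p := by
        rcases (hDmem w).mp w.2 with h | h
        · exact absurd h hwG
        · exact h
      obtain ⟨α, hα⟩ := hTr v w (hov.trans how.symm)
      have hαc : orderOf (α c) = q := by rw [MulEquiv.orderOf_eq]; exact hc
      have hαcD : α c ∉ D := by
        intro h
        rcases (hDmem (α c)).mp h with h | h
        · rw [h, orderOf_one] at hαc; omega
        · rw [hαc] at h; exact hpq h.symm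
      obtain ⟨u, hu, j, hj⟩ := exists_decomp D hidx c hcD hc (α c)
      have hqj : ¬ q ∣ j := by
        intro hdvd
        have h1 : c ^ j = 1 := by rw [← hc] at hdvd; exact orderOf_dvd_iff_pow_eq_one.mp hdvd
        rw [h1, mul_one] at hj
        exact hαcD (by rw [hj]; exact hu)
      refine ⟨resAut D α (char_mem_iff D α), j, hqj, Subtype.ext ?_, ?_⟩
      · rw [resAut_coe]; exact hα
      · rw [resAut_semiconj, hj, conjNormal_mul_of_mem D hDcomm u (c ^ j) hu, map_pow]
    · intro j hj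
      have hcop : (orderOf c).Coprime j := by
        rw [hc]; exact (Nat.Prime.coprime_iff_not_dvd hq.out).mpr hj
      have hcj : orderOf c = orderOf (c ^ j) := (Nat.Coprime.orderOf_pow hcop).symm
      obtain ⟨α, hα⟩ := hTr c (c ^ j) hcj
      refine ⟨resAut D α (char_mem_iff D α), ?_⟩
      rw [resAut_semiconj, hα, map_pow]
  refine ⟨a, ha1, hcard', ?_, hprim, hfpf⟩
  intro P
  rw [hSyl P]
  exact ⟨hDn, And.intro hDmc hDexp⟩

theorem forward [Finite G] (hnpp : ¬ IsPrimePow (Nat.card G)) (hnt : Nat.card G ≠ 1)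
    (h3 : Nat.card (MulAction.orbitRel.Quotient (MulAut G) G) = 3) :
    ∃ (p q n : ℕ) (_ : Fact p.Prime) (_ : Fact q.Prime), p ≠ q ∧ 1 ≤ n ∧
      Nat.card G = p ^ n * q ∧
      (∀ P : Sylow p G, (P : Subgroup G).Normal ∧ Cfsg.IsElementaryAbelian p (P : Subgroup G)) ∧
      orderOf (p : ZMod q) = q - 1 ∧
      ∀ x y : G, orderOf x = q → orderOf y = p → x * y * x⁻¹ ≠ y := by
  have hn0 : Nat.card G ≠ 0 := Nat.card_pos.ne'
  obtain ⟨p₁, p₂, hp₁, hp₂, hne, hd₁, hd₂⟩ := two_primes hn0 hnt hnpp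
  haveI i₁ : Fact p₁.Prime := ⟨hp₁⟩
  haveI i₂ : Fact p₂.Prime := ⟨hp₂⟩
  obtain ⟨a₁, ha₁⟩ := exists_prime_orderOf_dvd_card' p₁ hd₁
  obtain ⟨a₂, ha₂⟩ := exists_prime_orderOf_dvd_card' p₂ hd₂
  have h2p₁ := hp₁.two_le
  have h2p₂ := hp₂.two_le
  have h1a₁ : cls (1 : G) ≠ cls a₁ := fun h => by
    have := orderOf_eq_of_cls h; rw [orderOf_one, ha₁] at this; omega
  have h1a₂ : cls (1 : G) ≠ cls a₂ := fun h => by
    have := orderOf_eq_of_cls h; rw [orderOf_one, ha₂] at this; omega
  have ha₁a₂ : cls a₁ ≠ cls a₂ := fun h => by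
    have := orderOf_eq_of_cls h; rw [ha₁, ha₂] at this; exact hne this
  have tri : ∀ g : G, cls g = cls 1 ∨ cls g = cls a₁ ∨ cls g = cls a₂ := fun g =>
    three_cases h3 _ _ _ h1a₁ h1a₂ ha₁a₂ (cls g)
  have hO : ∀ g : G, g = 1 ∨ orderOf g = p₁ ∨ orderOf g = p₂ := by
    intro g
    rcases tri g with h | h | h
    · left
      have := orderOf_eq_of_cls h
      rw [orderOf_one] at this
      exact orderOf_eq_one_iff.mp this
    · right; left; rw [orderOf_eq_of_cls h, ha₁]
    · right; right; rw [orderOf_eq_of_cls h, ha₂]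
  have hTr : ∀ g h : G, orderOf g = orderOf h → ∃ α : MulAut G, α g = h := by
    intro g h hgh
    have hcl : cls h = cls g := by
      rcases tri g with h1 | h1 | h1 <;> rcases tri h with h2 | h2 | h2
      all_goals first
        | exact h2.trans h1.symm
        | (exfalso
           have e1 := orderOf_eq_of_cls h1
           have e2 := orderOf_eq_of_cls h2
           simp only [orderOf_one, ha₁, ha₂] at e1 e2
           omega)
    exact (cls_eq_iff h g).mp hcl
  have hprimes : ∀ r : ℕ, r.Prime → r ∣ Nat.card G → r = p₁ ∨ r = p₂ := by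
    intro r hr hrd
    haveI : Fact r.Prime := ⟨hr⟩
    obtain ⟨x, hx⟩ := exists_prime_orderOf_dvd_card' r hrd
    rcases hO x with h | h | h
    · rw [h, orderOf_one] at hx; exact absurd hx.symm hr.ne_one
    · left; rw [← hx, h]
    · right; rw [← hx, h]
  obtain ⟨a, b, hab⟩ := card_eq_two_prime_pows hn0 hp₁ hprimes
  haveI hsol : Group.IsSolvable G := Cfsg.Agent.S0144.result p₁ p₂ a b hp₁ hp₂ hab
  haveI : Nontrivial G := Finite.one_lt_card_iff_nontrivial.mp (by omega)
  obtain ⟨D, hDc, hDne, hDcomm⟩ := exists_char_abelian (G := G)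
  obtain ⟨⟨d₀, hd₀D⟩, hd₀ne⟩ := (Subgroup.ne_bot_iff_exists_ne_one).mp hDne
  have hd₀ne' : d₀ ≠ 1 := fun h => hd₀ne (Subtype.ext h)
  rcases hO d₀ with h | h | h
  · exact absurd h hd₀ne'
  · obtain ⟨n, hn, hc, hS, hpr, hf⟩ :=
      forward_core p₁ p₂ hne hO hTr a b hab a₂ ha₂ D hDcomm d₀ hd₀D h
    exact ⟨p₁, p₂, n, i₁, i₂, hne, hn, hc, hS, hpr, hf⟩
  · obtain ⟨n, hn, hc, hS, hpr, hf⟩ :=
      forward_core p₂ p₁ hne.symm (fun g => (hO g).imp_right Or.symm) hTr b a
        (by rw [hab, mul_comm]) a₁ ha₁ D hDcomm d₀ hd₀D h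
    exact ⟨p₂, p₁, n, i₂, i₁, hne.symm, hn, hc, hS, hpr, hf⟩

theorem backward_core [Finite G] (p q n : ℕ) [hp : Fact p.Prime]
    [hq : Fact q.Prime] (hpq : p ≠ q) (hn : 1 ≤ n) (hcard : Nat.card G = p ^ n * q)
    (D : Subgroup G) [hDn : D.Normal] (hDcomm : ∀ x ∈ D, ∀ y ∈ D, x * y = y * x)
    (hDexp : ∀ d ∈ D, d ^ p = 1) (hDcard : Nat.card D = p ^ n) (hDidx : D.index = q)
    (hprim : orderOf (p : ZMod q) = q - 1)
    (hfpf : ∀ x y : G, orderOf x = q → orderOf y = p → x * y * x⁻¹ ≠ y) :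
    Nat.card (MulAction.orbitRel.Quotient (MulAut G) G) = 3 := by
  have h2p := hp.out.two_le
  have h2q := hq.out.two_le
  obtain ⟨c, hc⟩ := exists_prime_orderOf_dvd_card' (G := G) q
    (by rw [hcard]; exact dvd_mul_left q (p ^ n))
  obtain ⟨u₀, hu₀'⟩ := exists_prime_orderOf_dvd_card' (G := D) p
    (by rw [hDcard]; exact dvd_pow_self p (by omega))
  have hu₀ : orderOf (u₀ : G) = p := by rw [Subgroup.orderOf_coe]; exact hu₀'
  have hu₀ne : u₀ ≠ 1 := by
    intro h; rw [h, orderOf_one] at hu₀'; omega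
  have hcD : c ∉ D := by
    intro h
    have h1 : orderOf c ∣ p := orderOf_dvd_of_pow_eq_one (hDexp c h)
    rw [hc] at h1
    exact hpq ((Nat.prime_dvd_prime_iff_eq hq.out hp.out).mp h1).symm
  have hcompl : D.IsComplement' (Subgroup.zpowers c) := by
    apply Subgroup.isComplement'_of_coprime
    · rw [Nat.card_zpowers, hc, hDcard, hcard]
    · rw [Nat.card_zpowers, hc, hDcard]
      exact Nat.Coprime.pow_left n ((Nat.coprime_primes hp.out hq.out).mpr hpq)
  have hcommD : ∀ a b : D, a * b = b * a := fun a b => Subtype.ext (hDcomm a a.2 b b.2)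
  have hexpD : ∀ d : D, d ^ p = 1 := fun d =>
    Subtype.ext (by rw [Subgroup.coe_pow, Subgroup.coe_one]; exact hDexp d d.2)
  have hext : ∀ k : ℕ, ¬ q ∣ k → ∀ x₁ x₂ : D, x₁ ≠ 1 → x₂ ≠ 1 →
      ∃ α : MulAut G, α (x₁ : G) = (x₂ : G) ∧ α c = c ^ k := by
    intro k hk x₁ x₂ hx₁ hx₂
    have hcop : (orderOf c).Coprime k := by
      rw [hc]; exact (Nat.Prime.coprime_iff_not_dvd hq.out).mpr hk
    have hck : orderOf (c ^ k) = q := (Nat.Coprime.orderOf_pow hcop).trans hc
    have hτk : (MulAut.conjNormal (c ^ k) : MulAut D) = (MulAut.conjNormal c) ^ k :=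
      map_pow _ _ _
    obtain ⟨σ, hσx, hσ⟩ := exists_intertwiner_mul hcommD hpq hprim hexpD
      (MulAut.conjNormal c) (MulAut.conjNormal (c ^ k)) (conjNormal_pow_eq_one D c q hc)
      (conjNormal_pow_eq_one D _ q hck)
      (fix_eq_one p q D hDexp hfpf c hc) (fix_eq_one p q D hDexp hfpf _ hck) x₁ x₂ hx₁ hx₂
    rw [hτk] at hσ
    obtain ⟨α, hαD, hαc⟩ := exists_extension D c hq.out hc hcompl σ k hk hσ
    exact ⟨α, by rw [hαD, hσx], hαc⟩
  have hC : ∀ g : G, g ∉ D → ∃ α : MulAut G, α c = g := by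
    intro g hg
    obtain ⟨u, hu, j, hj⟩ := exists_decomp D hDidx c hcD hc g
    have hqj : ¬ q ∣ j := by
      intro hdvd
      have h1 : c ^ j = 1 := by rw [← hc] at hdvd; exact orderOf_dvd_iff_pow_eq_one.mp hdvd
      rw [h1, mul_one] at hj
      exact hg (by rw [hj]; exact hu)
    have hcop : (orderOf c).Coprime j := by
      rw [hc]; exact (Nat.Prime.coprime_iff_not_dvd hq.out).mpr hqj
    have hcj : orderOf (c ^ j) = q := (Nat.Coprime.orderOf_pow hcop).trans hc
    obtain ⟨α, -, hαc⟩ := hext j hqj u₀ u₀ hu₀ne hu₀ne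
    have hfixj : ∀ d ∈ D, c ^ j * d * (c ^ j)⁻¹ = d → d = 1 := by
      intro d hd h
      have h1 := fix_eq_one p q D hDexp hfpf (c ^ j) hcj ⟨d, hd⟩
        (Subtype.ext (by rw [MulAut.conjNormal_apply]; exact h))
      exact congrArg Subtype.val h1
    obtain ⟨w, hw, hwc⟩ := exists_conj D (c ^ j) hfixj u hu
    refine ⟨MulAut.conj w * α, ?_⟩
    rw [MulAut.mul_apply, hαc, MulAut.conj_apply, hwc, hj]
  have tri : ∀ g : G, cls g = cls 1 ∨ cls g = cls (u₀ : G) ∨ cls g = cls c := by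
    intro g
    by_cases hg : g ∈ D
    · by_cases hg1 : g = 1
      · left; rw [hg1]
      · right; left
        obtain ⟨α, hα, -⟩ := hext 1
          (fun h => by have := Nat.le_of_dvd one_pos h; omega) u₀ ⟨g, hg⟩ hu₀ne
          (fun h => hg1 (congrArg Subtype.val h))
        exact (cls_eq_iff g (u₀ : G)).mpr ⟨α, hα⟩
    · right; right
      obtain ⟨α, hα⟩ := hC g hg
      exact (cls_eq_iff g c).mpr ⟨α, hα⟩
  have h1 : cls (1 : G) ≠ cls (u₀ : G) := fun h => by
    have := orderOf_eq_of_cls h; rw [orderOf_one, hu₀] at this; omega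
  have h2 : cls (1 : G) ≠ cls c := fun h => by
    have := orderOf_eq_of_cls h; rw [orderOf_one, hc] at this; omega
  have h3 : cls (u₀ : G) ≠ cls c := fun h => by
    have := orderOf_eq_of_cls h; rw [hu₀, hc] at this; exact hpq this
  exact card_three (cls 1) (cls (u₀ : G)) (cls c) h1 h2 h3
    (fun x => by obtain ⟨g, rfl⟩ := cls_surj x; exact tri g)

theorem backward [Finite G] (p q n : ℕ) [hp : Fact p.Prime]
    [hq : Fact q.Prime] (hpq : p ≠ q) (hn : 1 ≤ n) (hcard : Nat.card G = p ^ n * q)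
    (hSyl : ∀ P : Sylow p G,
      (P : Subgroup G).Normal ∧ Cfsg.IsElementaryAbelian p (P : Subgroup G))
    (hprim : orderOf (p : ZMod q) = q - 1)
    (hfpf : ∀ x y : G, orderOf x = q → orderOf y = p → x * y * x⁻¹ ≠ y) :
    Nat.card (MulAction.orbitRel.Quotient (MulAut G) G) = 3 := by
  obtain ⟨hPn, hPc, hPe⟩ := hSyl default
  obtain ⟨h1, h2⟩ := sylow_card_index hpq hcard (default : Sylow p G)
  haveI := hPn
  haveI := hPc
  have hcomm : ∀ x ∈ ((default : Sylow p G) : Subgroup G),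
      ∀ y ∈ ((default : Sylow p G) : Subgroup G), x * y = y * x := by
    intro x hx y hy
    exact congrArg Subtype.val
      (mul_comm' (⟨x, hx⟩ : ((default : Sylow p G) : Subgroup G)) ⟨y, hy⟩)
  exact backward_core p q n hpq hn hcard _ hcomm hPe h1 h2 hprim hfpf

end grp

end Cfsg.Agent.Lib.Lead.AutOrbC
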