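import Mathlib
import Cfsg.Agent.Lib.Helper4.ES2D

/-!
# Groups of type `J₂`: fusion bookkeeping (piece P3 of S1721 / S5382)

`C = C_G(z)`, `Q` extraspecial of order 32 self-centralizing in `C`, the ten noncentral involutions
of `Q` labelled `u i`, `u i * z`, on which `C` acts through `phi` with image `A₅`; the involutions
of `C \ Q` form one `C`-class.  If `z` is not weakly closed in `Q` and `G` has more than one class
of involutions, then `G` has exactly two classes, `z^G ∩ C ⊆ Q`, and a Sylow 2-subgroup of `G`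
lies in `C`.
-/

set_option autoImplicit false
open Cfsg.Agent.Lib.Helper4.ES2

namespace Cfsg.Agent.Lib.Lead.J2F

variable {G : Type*} [Group G]

theorem alt5_trans : ∀ a b : Fin 5, ∃ σ : Equiv.Perm (Fin 5), σ ∈ alternatingGroup (Fin 5) ∧ σ a = b := by
  intro a b
  by_cases hab : a = b
  · exact ⟨1, Subgroup.one_mem _, by simp [hab]⟩
  · -- choose c different from a and b, and d different from a b c; use (a b)(c d)
    have : ∃ c d : Fin 5, c ≠ a ∧ c ≠ b ∧ d ≠ a ∧ d ≠ b ∧ c ≠ d := by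
      revert a b; decide
    obtain ⟨c, d, hca, hcb, hda, hdb, hcd⟩ := this
    refine ⟨Equiv.swap a b * Equiv.swap c d, ?_, ?_⟩
    · rw [Equiv.Perm.mem_alternatingGroup, Equiv.Perm.sign_mul, Equiv.Perm.sign_swap hab,
        Equiv.Perm.sign_swap hcd]
      rfl
    · rw [Equiv.Perm.mul_apply, Equiv.swap_apply_of_ne_of_ne hca.symm hda.symm]
      exact Equiv.swap_apply_left a b

/-- a Sylow 2-subgroup of `G` lies in `C`. -/
theorem sylow_le [Finite G] (C Q : Subgroup G) (z : G)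
    (hD : Data Q z) (hQ : Nat.card Q = 32) (hQC : Q ≤ C)
    (hC : ∀ g : G, g ∈ C ↔ g * z = z * g)
    (hself : ∀ c ∈ C, (∀ q ∈ Q, c * q = q * c) → c ∈ Q) :
    ∃ P : Sylow 2 G, (P : Subgroup G) ≤ C := by
  have : Fact (Nat.Prime 2) := ⟨Nat.prime_two⟩
  have hQp : IsPGroup 2 Q := IsPGroup.of_card (n := 5) (by rw [hQ]; norm_num)
  obtain ⟨P, hQP⟩ := hQp.exists_le_sylow
  refine ⟨P, ?_⟩
  have hzP : z ∈ (P : Subgroup G) := hQP hD.zQ
  have : Nontrivial (P : Subgroup G) :=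
    ⟨⟨⟨z, hzP⟩, 1, fun h => hD.z_ne (congrArg Subtype.val h)⟩⟩
  have := P.isPGroup'.center_nontrivial
  obtain ⟨y, hy⟩ := exists_ne (1 : Subgroup.center (P : Subgroup G))
  have hycomm : ∀ p ∈ (P : Subgroup G), p * (y : (P : Subgroup G)).1 = (y : (P : Subgroup G)).1 * p := by
    intro p hp
    have := Subgroup.mem_center_iff.mp y.2 ⟨p, hp⟩
    exact congrArg Subtype.val this
  set y0 : G := (y : (P : Subgroup G)).1 with hy0
  have hy0C : y0 ∈ C := (hC y0).mpr (hycomm z hzP).symm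
  have hy0Q : y0 ∈ Q := hself y0 hy0C (fun q hq => (hycomm q (hQP hq)).symm)
  have hy0z : y0 = z := by
    rcases hD.center_sub y0 hy0Q (fun q hq => hycomm q (hQP hq)) with h | h
    · exfalso; apply hy
      apply Subtype.ext; apply Subtype.ext; exact h
    · exact h
  intro p hp
  rw [hC]
  have := hycomm p hp
  rw [hy0z] at this
  exact this

/-- every involution of `G` is conjugate into `C`. -/
theorem invol_conj_mem [Finite G] (C Q : Subgroup G) (z : G)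
    (hD : Data Q z) (hQ : Nat.card Q = 32) (hQC : Q ≤ C)
    (hC : ∀ g : G, g ∈ C ↔ g * z = z * g)
    (hself : ∀ c ∈ C, (∀ q ∈ Q, c * q = q * c) → c ∈ Q)
    (x : G) (hx : orderOf x = 2) : ∃ g : G, g * x * g⁻¹ ∈ C := by
  have : Fact (Nat.Prime 2) := ⟨Nat.prime_two⟩
  obtain ⟨P, hPC⟩ := sylow_le C Q z hD hQ hQC hC hself
  have hxp : IsPGroup 2 (Subgroup.zpowers x) :=
    IsPGroup.of_card (n := 1) (by rw [Nat.card_zpowers, hx]; norm_num)
  obtain ⟨P', hP'⟩ := hxp.exists_le_sylow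
  obtain ⟨g, hg⟩ := MulAction.exists_smul_eq G P' P
  refine ⟨g, hPC ?_⟩
  have hxP' : x ∈ (P' : Subgroup G) := hP' (Subgroup.mem_zpowers x)
  have : g * x * g⁻¹ ∈ ((g • P' : Sylow 2 G) : Subgroup G) := by
    rw [Sylow.coe_subgroup_smul]
    exact Subgroup.smul_mem_pointwise_smul x (MulAut.conj g) _ hxP'
  rw [hg] at this
  exact this

/-- PIECE P3: the fusion bookkeeping. -/
theorem fusion [Finite G] (C Q : Subgroup G) (z : G) (hz : orderOf z = 2)
    (hD : Data Q z) (hQ : Nat.card Q = 32) (hQC : Q ≤ C)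
    (hC : ∀ g : G, g ∈ C ↔ g * z = z * g)
    (hself : ∀ c ∈ C, (∀ q ∈ Q, c * q = q * c) → c ∈ Q)
    (phi : ↥C →* Equiv.Perm (Fin 5)) (u : Fin 5 → G)
    (hran : phi.range = alternatingGroup (Fin 5))
    (hu : ∀ i, u i ∈ Q ∧ u i * u i = 1 ∧ u i ≠ 1 ∧ u i ≠ z)
    (hinv : ∀ x ∈ Q, x * x = 1 → x = 1 ∨ x = z ∨ ∃ i, x = u i ∨ x = u i * z)
    (hact : ∀ (c : ↥C) (i : Fin 5), (c : G) * u i * (c : G)⁻¹ = u (phi c i) ∨
      (c : G) * u i * (c : G)⁻¹ = u (phi c i) * z)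
    (hcls : ∀ v ∈ C, v ∉ Q → v * v = 1 → ∀ v' ∈ C, v' ∉ Q → v' * v' = 1 →
      ∃ c ∈ C, c * v' * c⁻¹ = v)
    (hnwc : ∃ g : G, g * z * g⁻¹ ∈ Q ∧ g * z * g⁻¹ ≠ z)
    (hcl : ∃ x y : G, orderOf x = 2 ∧ orderOf y = 2 ∧ ¬ IsConj x y) :
    (∀ i, ∃ h : G, h * z * h⁻¹ = u i) ∧
    (∀ i, ∃ h : G, h * z * h⁻¹ = u i * z) ∧
    (∀ g : G, g * z * g⁻¹ ∈ C → g * z * g⁻¹ ∈ Q) ∧
    (∀ x : G, orderOf x = 2 → ∃ g : G, g * x * g⁻¹ ∈ C) ∧
    (∃ t ∈ C, t ∉ Q ∧ t * t = 1) ∧
    (∀ t ∈ C, t ∉ Q → t * t = 1 →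
      ¬ IsConj t z ∧ (∀ x : G, orderOf x = 2 → IsConj x z ∨ IsConj x t)) ∧
    (∀ x : G, orderOf x = 2 → ¬ IsConj x z → ∃ g : G, g * x * g⁻¹ ∈ C ∧ g * x * g⁻¹ ∉ Q) := by
  classical
  have hzz : z * z = 1 := hD.z_sq
  -- swapping u i and u i * z inside Q
  have hswap : ∀ i, ∃ q ∈ Q, q * u i * q⁻¹ = u i * z := by
    intro i
    obtain ⟨huQ, hu2, hu1, huz⟩ := hu i
    by_contra hcon
    push_neg at hcon
    have hcen : ∀ q ∈ Q, q * u i = u i * q := by
      intro q hq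
      rcases hD.comm_mem q hq (u i) huQ with h | h
      · unfold cm at h
        calc q * u i = (q * u i * q⁻¹ * (u i)⁻¹) * u i * q := by group
          _ = u i * q := by rw [h, one_mul]
      · exfalso
        apply hcon q hq
        unfold cm at h
        calc q * u i * q⁻¹ = (q * u i * q⁻¹ * (u i)⁻¹) * u i := by group
          _ = z * u i := by rw [h]
          _ = u i * z := (hD.z_comm (u i) huQ).symm
    rcases hD.center_sub (u i) huQ hcen with h | h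
    · exact hu1 h
    · exact huz h
  -- the conjugates of z
  have hconj_closed : ∀ (x g : G), (∃ h : G, h * z * h⁻¹ = x) → ∃ h : G, h * z * h⁻¹ = g * x * g⁻¹ := by
    rintro x g ⟨h, rfl⟩
    exact ⟨g * h, by group⟩
  have hboth : ∀ i, (∃ h : G, h * z * h⁻¹ = u i) ↔ (∃ h : G, h * z * h⁻¹ = u i * z) := by
    intro i
    obtain ⟨q, hq, hqu⟩ := hswap i
    constructor
    · intro h
      have := hconj_closed _ q h
      rwa [hqu] at this
    · intro h
      have := hconj_closed _ q h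
      have h2 : q * (u i * z) * q⁻¹ = u i := by
        have hqz : q * z = z * q := hD.z_comm q hq
        calc q * (u i * z) * q⁻¹ = (q * u i * q⁻¹) * (q * z * q⁻¹) := by group
          _ = (u i * z) * (z * q * q⁻¹) := by rw [hqu, hqz]
          _ = u i * (z * z) := by group
          _ = u i := by rw [hzz, mul_one]
      rwa [h2] at this
  obtain ⟨g0, hg0Q, hg0z⟩ := hnwc
  have hw2 : (g0 * z * g0⁻¹) * (g0 * z * g0⁻¹) = 1 := by
    calc (g0 * z * g0⁻¹) * (g0 * z * g0⁻¹) = g0 * (z * z) * g0⁻¹ := by group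
      _ = 1 := by rw [hzz]; group
  have hw1 : g0 * z * g0⁻¹ ≠ 1 := by
    intro h
    apply hD.z_ne
    calc z = g0⁻¹ * (g0 * z * g0⁻¹) * g0 := by group
      _ = 1 := by rw [h]; group
  obtain ⟨i0, hi0⟩ : ∃ i0, ∃ h : G, h * z * h⁻¹ = u i0 := by
    rcases hinv _ hg0Q hw2 with h | h | ⟨i, h | h⟩
    · exact absurd h hw1
    · exact absurd h hg0z
    · exact ⟨i, g0, h⟩
    · exact ⟨i, (hboth i).mpr ⟨g0, h⟩⟩
  have hf1 : ∀ i, ∃ h : G, h * z * h⁻¹ = u i := by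
    intro i
    obtain ⟨σ, hσ, hσi⟩ := alt5_trans i0 i
    rw [← hran] at hσ
    obtain ⟨c, rfl⟩ := hσ
    have := hconj_closed _ (c : G) hi0
    rcases hact c i0 with h | h
    · rw [h, hσi] at this; exact this
    · rw [h, hσi] at this; exact (hboth i).mpr this
  have hf1' : ∀ i, ∃ h : G, h * z * h⁻¹ = u i * z := fun i => (hboth i).mp (hf1 i)
  -- involutions of Q are conjugate to z
  have hQz : ∀ x ∈ Q, x * x = 1 → x ≠ 1 → IsConj x z := by
    intro x hxQ hx2 hx1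
    rcases hinv x hxQ hx2 with h | h | ⟨i, h | h⟩
    · exact absurd h hx1
    · rw [h]
    · obtain ⟨k, hk⟩ := hf1 i
      rw [h]; exact (isConj_iff.mpr ⟨k, hk⟩).symm
    · obtain ⟨k, hk⟩ := hf1' i
      rw [h]; exact (isConj_iff.mpr ⟨k, hk⟩).symm
  have hinvol : ∀ x : G, orderOf x = 2 → x * x = 1 ∧ x ≠ 1 := by
    intro x hx
    constructor
    · have := pow_orderOf_eq_one x
      rw [hx, pow_two] at this; exact this
    · intro h; rw [h, orderOf_one] at hx; omega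
  have hconjinv : ∀ (x g : G), x * x = 1 → x ≠ 1 → (g * x * g⁻¹) * (g * x * g⁻¹) = 1 ∧ g * x * g⁻¹ ≠ 1 := by
    intro x g hx2 hx1
    constructor
    · calc (g * x * g⁻¹) * (g * x * g⁻¹) = g * (x * x) * g⁻¹ := by group
        _ = 1 := by rw [hx2]; group
    · intro h
      apply hx1
      calc x = g⁻¹ * (g * x * g⁻¹) * g := by group
        _ = 1 := by rw [h]; group
  have hmem := invol_conj_mem C Q z hD hQ hQC hC hself
  -- classification of involutions relative to an involution t of C \ Q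
  have hclass : ∀ t ∈ C, t ∉ Q → t * t = 1 → ∀ x : G, orderOf x = 2 → IsConj x z ∨ IsConj x t := by
    intro t htC htQ ht2 x hx
    obtain ⟨hx2, hx1⟩ := hinvol x hx
    obtain ⟨g, hg⟩ := hmem x hx
    obtain ⟨h2, h1⟩ := hconjinv x g hx2 hx1
    have hxc : IsConj x (g * x * g⁻¹) := isConj_iff.mpr ⟨g, rfl⟩
    by_cases hgQ : g * x * g⁻¹ ∈ Q
    · left; exact hxc.trans (hQz _ hgQ h2 h1)
    · right
      obtain ⟨c, _, hc⟩ := hcls t htC htQ ht2 _ hg hgQ h2
      exact hxc.trans (isConj_iff.mpr ⟨c, hc⟩)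
  have hf2 : ∀ g : G, g * z * g⁻¹ ∈ C → g * z * g⁻¹ ∈ Q := by
    intro g hgC
    by_contra hgQ
    obtain ⟨h2, h1⟩ := hconjinv z g hzz hD.z_ne
    obtain ⟨x, y, hx, hy, hxy⟩ := hcl
    have hvz : IsConj (g * z * g⁻¹) z := (isConj_iff.mpr ⟨g, rfl⟩ : IsConj z (g * z * g⁻¹)).symm
    have hall : ∀ w : G, orderOf w = 2 → IsConj w z := by
      intro w hw
      rcases hclass _ hgC hgQ h2 w hw with h | h
      · exact h
      · exact h.trans hvz
    exact hxy ((hall x hx).trans (hall y hy).symm)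
  have hex : ∃ t ∈ C, t ∉ Q ∧ t * t = 1 := by
    by_contra hcon
    push_neg at hcon
    obtain ⟨x, y, hx, hy, hxy⟩ := hcl
    have hall : ∀ w : G, orderOf w = 2 → IsConj w z := by
      intro w hw
      obtain ⟨hw2, hw1⟩ := hinvol w hw
      obtain ⟨g, hg⟩ := hmem w hw
      obtain ⟨h2, h1⟩ := hconjinv w g hw2 hw1
      have hgQ : g * w * g⁻¹ ∈ Q := by
        by_contra hgQ
        exact hcon _ hg hgQ h2
      exact (isConj_iff.mpr ⟨g, rfl⟩ : IsConj w (g * w * g⁻¹)).trans (hQz _ hgQ h2 h1)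
    exact hxy ((hall x hx).trans (hall y hy).symm)
  have htz : ∀ t ∈ C, t ∉ Q → t * t = 1 → ¬ IsConj t z := by
    intro t htC htQ ht2 hconj
    obtain ⟨g, hg⟩ := isConj_iff.mp hconj.symm
    apply htQ
    have := hf2 g (by rw [hg]; exact htC)
    rwa [hg] at this
  refine ⟨hf1, hf1', hf2, hmem, hex, fun t htC htQ ht2 => ⟨htz t htC htQ ht2, hclass t htC htQ ht2⟩, ?_⟩
  intro x hx hxz
  obtain ⟨hx2, hx1⟩ := hinvol x hx
  obtain ⟨g, hg⟩ := hmem x hx
  obtain ⟨h2, h1⟩ := hconjinv x g hx2 hx1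
  refine ⟨g, hg, fun hgQ => hxz ?_⟩
  exact (isConj_iff.mpr ⟨g, rfl⟩ : IsConj x (g * x * g⁻¹)).trans (hQz _ hgQ h2 h1)

end Cfsg.Agent.Lib.Lead.J2F
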