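import Mathlib
import Cfsg.Prelude.Def_Transfer
import Cfsg.Agent.Lib.Helper1.FrattiniP
import Cfsg.Agent.Lib.Helper1.CoprimeAbelian
import Cfsg.Agent.Lib.Helper2.CoprimeGen

set_option autoImplicit false

open scoped commutatorElement

namespace Cfsg.Agent.Lib.Lead.ES

variable {G : Type*} [Group G]

theorem gen_of_ne_one {p : ℕ} [hp : Fact p.Prime] {z y : G} (hz : orderOf z = p)
    (hy : y ∈ Subgroup.zpowers z) (hy1 : y ≠ 1) : z ∈ Subgroup.zpowers y := by
  have hcard : Nat.card (Subgroup.zpowers z) = p := by rw [Nat.card_zpowers, hz]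
  have hne : (⟨y, hy⟩ : Subgroup.zpowers z) ≠ 1 := by
    intro h
    exact hy1 (congrArg Subtype.val h)
  have htop := zpowers_eq_top_of_prime_card hcard hne
  have hzmem : (⟨z, Subgroup.mem_zpowers z⟩ : Subgroup.zpowers z) ∈
      Subgroup.zpowers (⟨y, hy⟩ : Subgroup.zpowers z) := by
    rw [htop]; exact Subgroup.mem_top _
  obtain ⟨k, hk⟩ := Subgroup.mem_zpowers_iff.mp hzmem
  rw [Subgroup.mem_zpowers_iff]
  refine ⟨k, ?_⟩
  have := congrArg Subtype.val hk
  simpa using this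

theorem cent_zpowers (u : G) :
    Subgroup.centralizer ((Subgroup.zpowers u : Subgroup G) : Set G) = Subgroup.centralizer {u} := by
  ext x
  rw [Subgroup.mem_centralizer_iff, Subgroup.mem_centralizer_singleton_iff]
  constructor
  · intro h
    exact (h u (Subgroup.mem_zpowers u)).symm
  · intro hx y hy
    obtain ⟨k, rfl⟩ := Subgroup.mem_zpowers_iff.mp hy
    have hc : Commute x u := hx
    exact (hc.zpow_right k).symm.eq

theorem comm_of_le {H K : Subgroup G} (hHK : H ≤ K) [hK : IsMulCommutative K] :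
    IsMulCommutative H :=
  ⟨⟨fun a b => Subtype.ext (by
    have h := congrArg Subtype.val (hK.is_comm.comm ⟨a.1, hHK a.2⟩ ⟨b.1, hHK b.2⟩)
    exact h)⟩⟩

theorem mem_normalizer_inf_centralizer {K : Subgroup G} {x t : G}
    (hx : x ∈ Subgroup.normalizer (K : Set G)) (hxt : Commute x t) :
    x ∈ Subgroup.normalizer ((K ⊓ Subgroup.centralizer {t} : Subgroup G) : Set G) := by
  rw [Subgroup.mem_normalizer_iff]
  intro a
  rw [Subgroup.mem_inf, Subgroup.mem_inf, Subgroup.mem_centralizer_singleton_iff,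
    Subgroup.mem_centralizer_singleton_iff]
  constructor
  · rintro ⟨haK, hat⟩
    refine ⟨(Subgroup.mem_normalizer_iff.mp hx a).mp haK, ?_⟩
    have hca : Commute a t := hat
    exact ((hxt.mul_left hca).mul_left hxt.inv_left).eq
  · rintro ⟨haK, hat⟩
    refine ⟨(Subgroup.mem_normalizer_iff.mp hx a).mpr haK, ?_⟩
    have hc' : Commute (x * a * x⁻¹) t := hat
    have e : a = x⁻¹ * (x * a * x⁻¹) * x := by group
    have hc2 : Commute (x⁻¹ * (x * a * x⁻¹) * x) t := (hxt.inv_left.mul_left hc').mul_left hxt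
    rw [← e] at hc2
    exact hc2.eq

theorem card_conj_centralizer (K : Subgroup G) (t u : G)
    (ht : t ∈ Subgroup.normalizer (K : Set G)) :
    Nat.card ↥(K ⊓ Subgroup.centralizer {t * u * t⁻¹}) =
      Nat.card ↥(K ⊓ Subgroup.centralizer {u}) := by
  have hmap : (K ⊓ Subgroup.centralizer {u}).map (MulAut.conj t).toMonoidHom =
      K ⊓ Subgroup.centralizer {t * u * t⁻¹} := by
    ext x
    rw [Subgroup.mem_map, Subgroup.mem_inf, Subgroup.mem_centralizer_singleton_iff]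
    constructor
    · rintro ⟨a, ha, rfl⟩
      rw [Subgroup.mem_inf, Subgroup.mem_centralizer_singleton_iff] at ha
      obtain ⟨haK, hau⟩ := ha
      refine ⟨(Subgroup.mem_normalizer_iff.mp ht a).mp haK, ?_⟩
      show t * a * t⁻¹ * (t * u * t⁻¹) = t * u * t⁻¹ * (t * a * t⁻¹)
      have e1 : t * a * t⁻¹ * (t * u * t⁻¹) = t * (a * u) * t⁻¹ := by group
      have e2 : t * u * t⁻¹ * (t * a * t⁻¹) = t * (u * a) * t⁻¹ := by group
      rw [e1, e2, hau]
    · rintro ⟨hxK, hxu⟩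
      refine ⟨t⁻¹ * x * t, ?_, ?_⟩
      · rw [Subgroup.mem_inf, Subgroup.mem_centralizer_singleton_iff]
        constructor
        · apply (Subgroup.mem_normalizer_iff.mp ht (t⁻¹ * x * t)).mpr
          have e : t * (t⁻¹ * x * t) * t⁻¹ = x := by group
          rw [e]; exact hxK
        · have e1 : t⁻¹ * x * t * u = t⁻¹ * (x * (t * u * t⁻¹)) * t := by group
          have e2 : u * (t⁻¹ * x * t) = t⁻¹ * ((t * u * t⁻¹) * x) * t := by group
          rw [e1, e2, hxu]
      · show t * (t⁻¹ * x * t) * t⁻¹ = x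
        group
  rw [← hmap]
  exact Subgroup.card_map_of_injective (MulAut.conj t).injective

theorem mem_normalizer_of_map_eq {H : Subgroup G} {x : G}
    (h : H.map (MulAut.conj x).toMonoidHom = H) : x ∈ Subgroup.normalizer (H : Set G) := by
  rw [Subgroup.mem_normalizer_iff]
  intro a
  constructor
  · intro ha
    rw [← h]
    exact ⟨a, ha, rfl⟩
  · intro ha
    rw [← h] at ha
    obtain ⟨b, hb, hbe⟩ := ha
    have hbe' : x * b * x⁻¹ = x * a * x⁻¹ := hbe
    have : b = a := by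
      have := congrArg (fun t => x⁻¹ * t * x) hbe'
      simpa [mul_assoc] using this
    rwa [← this]

theorem map_conj_eq_of_mem_normalizer {H : Subgroup G} {x : G}
    (hx : x ∈ Subgroup.normalizer (H : Set G)) : H.map (MulAut.conj x).toMonoidHom = H := by
  ext a
  constructor
  · rintro ⟨b, hb, rfl⟩
    exact (Subgroup.mem_normalizer_iff.mp hx b).mp hb
  · intro ha
    refine ⟨x⁻¹ * a * x, ?_, ?_⟩
    · apply (Subgroup.mem_normalizer_iff.mp hx _).mpr
      have e : x * (x⁻¹ * a * x) * x⁻¹ = a := by group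
      rw [e]; exact ha
    · show x * (x⁻¹ * a * x) * x⁻¹ = a
      group

theorem mul_pow_comm {x y c : G} (hyx : y * x = x * y * c) (hcx : Commute c x)
    (hcy : Commute c y) :
    ∀ n : ℕ, (x * y) ^ n = x ^ n * y ^ n * c ^ (n.choose 2) := by
  have hA : ∀ n : ℕ, y ^ n * x = x * y ^ n * c ^ n := by
    intro n
    induction n with
    | zero => simp
    | succ n ih =>
      calc y ^ (n + 1) * x = y * (y ^ n * x) := by rw [pow_succ', mul_assoc]
        _ = y * (x * y ^ n * c ^ n) := by rw [ih]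
        _ = (y * x) * (y ^ n * c ^ n) := by simp only [mul_assoc]
        _ = (x * y * c) * (y ^ n * c ^ n) := by rw [hyx]
        _ = x * y * (c * y ^ n) * c ^ n := by simp only [mul_assoc]
        _ = x * y * (y ^ n * c) * c ^ n := by rw [(hcy.pow_right n).eq]
        _ = x * (y * y ^ n) * (c * c ^ n) := by simp only [mul_assoc]
        _ = x * y ^ (n + 1) * c ^ (n + 1) := by rw [← pow_succ', ← pow_succ']
  intro n
  induction n with
  | zero => simp
  | succ n ih =>
    have hch : (n + 1).choose 2 = n + n.choose 2 := by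
      have h := Nat.choose_succ_succ' n 1
      rw [Nat.choose_one_right] at h
      exact h
    calc (x * y) ^ (n + 1) = (x * y) ^ n * (x * y) := pow_succ _ _
      _ = x ^ n * y ^ n * c ^ (n.choose 2) * (x * y) := by rw [ih]
      _ = x ^ n * y ^ n * ((x * y) * c ^ (n.choose 2)) := by
          rw [mul_assoc (x ^ n * y ^ n), ((hcx.mul_right hcy).pow_left _).eq]
      _ = x ^ n * (y ^ n * x) * y * c ^ (n.choose 2) := by simp only [mul_assoc]
      _ = x ^ n * (x * y ^ n * c ^ n) * y * c ^ (n.choose 2) := by rw [hA]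
      _ = x ^ n * x * y ^ n * (c ^ n * y) * c ^ (n.choose 2) := by simp only [mul_assoc]
      _ = x ^ n * x * y ^ n * (y * c ^ n) * c ^ (n.choose 2) := by
          rw [(hcy.pow_left n).eq]
      _ = (x ^ n * x) * (y ^ n * y) * (c ^ n * c ^ (n.choose 2)) := by simp only [mul_assoc]
      _ = x ^ (n + 1) * y ^ (n + 1) * c ^ ((n + 1).choose 2) := by
          rw [← pow_succ, ← pow_succ, ← pow_add, hch]

/-- "Extraspecial-like" subgroup with centre generated by `z`. -/
structure ESP (p : ℕ) (E₀ : Subgroup G) (z : G) : Prop where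
  z_mem : z ∈ E₀
  z_ord : orderOf z = p
  z_cent : ∀ x ∈ E₀, Commute z x
  comm_mem : ∀ x ∈ E₀, ∀ y ∈ E₀, ⁅x, y⁆ ∈ Subgroup.zpowers z
  pow_mem : ∀ x ∈ E₀, x ^ p ∈ Subgroup.zpowers z
  nondeg : ∀ x ∈ E₀, x ∉ Subgroup.zpowers z → ∃ y ∈ E₀, ⁅y, x⁆ ≠ 1

def sub (E₀ : Subgroup G) (g h : G) : Subgroup G :=
  E₀ ⊓ Subgroup.centralizer {g} ⊓ Subgroup.centralizer {h}

theorem mem_sub {E₀ : Subgroup G} {g h x : G} :
    x ∈ sub E₀ g h ↔ x ∈ E₀ ∧ x * g = g * x ∧ x * h = h * x := by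
  simp only [sub, Subgroup.mem_inf, Subgroup.mem_centralizer_singleton_iff, and_assoc]

namespace ESP

variable {p : ℕ} {E₀ : Subgroup G} {z : G} (hP : ESP p E₀ z)
include hP

theorem cent {c x : G} (hc : c ∈ Subgroup.zpowers z) (hx : x ∈ E₀) : Commute c x := by
  obtain ⟨k, rfl⟩ := Subgroup.mem_zpowers_iff.mp hc
  exact (hP.z_cent x hx).zpow_left k

theorem zpowers_le : Subgroup.zpowers z ≤ E₀ := Subgroup.zpowers_le.mpr hP.z_mem

theorem z_pow : z ^ p = 1 := by
  rw [← hP.z_ord]; exact pow_orderOf_eq_one z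

theorem comm_mul {a b t : G} (ha : a ∈ E₀) (hb : b ∈ E₀) (ht : t ∈ E₀) :
    ⁅a * b, t⁆ = ⁅a, t⁆ * ⁅b, t⁆ := by
  have hc : Commute ⁅b, t⁆ a := hP.cent (hP.comm_mem b hb t ht) ha
  have hc2 : Commute ⁅b, t⁆ ⁅a, t⁆ :=
    hP.cent (hP.comm_mem b hb t ht) (hP.zpowers_le (hP.comm_mem a ha t ht))
  have h1 : ⁅a * b, t⁆ = a * ⁅b, t⁆ * a⁻¹ * ⁅a, t⁆ := by
    simp only [commutatorElement_def]; group
  rw [h1, ← hc.eq, mul_inv_cancel_right, hc2.eq]

def kap (t : G) (ht : t ∈ E₀) : E₀ →* Subgroup.zpowers z :=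
  MonoidHom.mk' (fun x => ⟨⁅(x : G), t⁆, hP.comm_mem x x.2 t ht⟩) (by
    intro a b
    apply Subtype.ext
    show ⁅(a : G) * (b : G), t⁆ = ⁅(a : G), t⁆ * ⁅(b : G), t⁆
    exact hP.comm_mul a.2 b.2 ht)

@[simp] theorem kap_apply (t : G) (ht : t ∈ E₀) (x : E₀) :
    ((hP.kap t ht x : Subgroup.zpowers z) : G) = ⁅(x : G), t⁆ := rfl

theorem exists_pair [Fact p.Prime] {g : G} (hg : g ∈ E₀) (hgz : g ∉ Subgroup.zpowers z) :
    ∃ h ∈ E₀, ⁅h, g⁆ = z := by
  obtain ⟨y, hy, hne⟩ := hP.nondeg g hg hgz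
  have hmem := hP.comm_mem y hy g hg
  obtain ⟨m, hm⟩ := Subgroup.mem_zpowers_iff.mp (gen_of_ne_one hP.z_ord hmem hne)
  refine ⟨y ^ m, E₀.zpow_mem hy m, ?_⟩
  have h3 : ⁅y ^ m, g⁆ = ⁅y, g⁆ ^ m :=
    congrArg Subtype.val (map_zpow (hP.kap g hg) (⟨y, hy⟩ : E₀) m)
  rw [h3, hm]

theorem esp_sub [Fact p.Prime] {g h : G} (hg : g ∈ E₀) (hh : h ∈ E₀) (hgh : ⁅h, g⁆ = z) :
    ESP p (sub E₀ g h) z := by
  have hsub : sub E₀ g h ≤ E₀ := fun x hx => (mem_sub.mp hx).1
  refine ⟨?_, hP.z_ord, fun x hx => hP.z_cent x (hsub hx),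
    fun x hx y hy => hP.comm_mem x (hsub hx) y (hsub hy),
    fun x hx => hP.pow_mem x (hsub hx), ?_⟩
  · rw [mem_sub]
    exact ⟨hP.z_mem, (hP.z_cent g hg).eq, (hP.z_cent h hh).eq⟩
  · intro x hx hxz
    obtain ⟨hxE, hxg, hxh⟩ := mem_sub.mp hx
    obtain ⟨y, hy, hne⟩ := hP.nondeg x hxE hxz
    obtain ⟨k1, hk1⟩ := Subgroup.mem_zpowers_iff.mp (hP.comm_mem y hy g hg)
    obtain ⟨k2, hk2⟩ := Subgroup.mem_zpowers_iff.mp (hP.comm_mem y hy h hh)
    obtain ⟨y', hy'⟩ : ∃ y' : E₀, y' = ⟨y, hy⟩ * ⟨g, hg⟩ ^ k2 * ⟨h, hh⟩ ^ (-k1) := ⟨_, rfl⟩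
    have hval : ∀ (t : G) (ht : t ∈ E₀),
        ⁅(y' : G), t⁆ = ⁅y, t⁆ * ⁅g, t⁆ ^ k2 * ⁅h, t⁆ ^ (-k1) := by
      intro t ht
      have := congrArg Subtype.val
        (show hP.kap t ht y' = hP.kap t ht ⟨y, hy⟩ * (hP.kap t ht ⟨g, hg⟩) ^ k2 *
          (hP.kap t ht ⟨h, hh⟩) ^ (-k1) by
          rw [hy', map_mul, map_mul, map_zpow, map_zpow])
      simpa using this
    refine ⟨(y' : G), ?_, ?_⟩
    · rw [mem_sub]
      refine ⟨y'.2, ?_, ?_⟩
      · have h1 := hval g hg
        rw [commutatorElement_self, one_zpow, mul_one, hgh, ← hk1, ← zpow_add,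
          add_neg_cancel, zpow_zero] at h1
        exact (commutatorElement_eq_one_iff_commute.mp h1).eq
      · have h1 := hval h hh
        have hgh' : ⁅g, h⁆ = z⁻¹ := by rw [← hgh, commutatorElement_inv]
        rw [commutatorElement_self, one_zpow, mul_one, hgh', ← hk2, inv_zpow,
          mul_inv_cancel] at h1
        exact (commutatorElement_eq_one_iff_commute.mp h1).eq
    · have h1 := hval x hxE
      have hgx : ⁅g, x⁆ = 1 := commutatorElement_eq_one_iff_commute.mpr (Eq.symm hxg)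
      have hhx : ⁅h, x⁆ = 1 := commutatorElement_eq_one_iff_commute.mpr (Eq.symm hxh)
      rw [hgx, hhx, one_zpow, one_zpow, mul_one, mul_one] at h1
      rw [h1]; exact hne

theorem card_le_sub [Finite G] [Fact p.Prime] {g h : G} (hg : g ∈ E₀) (hh : h ∈ E₀) :
    Nat.card E₀ ≤ p ^ 2 * Nat.card (sub E₀ g h) := by
  obtain ⟨f, hf⟩ : ∃ f : E₀ →* Subgroup.zpowers z × Subgroup.zpowers z,
      f = (hP.kap g hg).prod (hP.kap h hh) := ⟨_, rfl⟩
  have hker : (f.ker).map E₀.subtype = sub E₀ g h := by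
    ext x
    rw [Subgroup.mem_map, mem_sub]
    constructor
    · rintro ⟨a, ha, rfl⟩
      rw [MonoidHom.mem_ker, hf] at ha
      have h1 : hP.kap g hg a = 1 := congrArg Prod.fst ha
      have h2 : hP.kap h hh a = 1 := congrArg Prod.snd ha
      have h1' : ⁅(a : G), g⁆ = 1 := congrArg Subtype.val h1
      have h2' : ⁅(a : G), h⁆ = 1 := congrArg Subtype.val h2
      exact ⟨a.2, (commutatorElement_eq_one_iff_commute.mp h1').eq,
        (commutatorElement_eq_one_iff_commute.mp h2').eq⟩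
    · rintro ⟨hxE, hxg, hxh⟩
      refine ⟨⟨x, hxE⟩, ?_, rfl⟩
      rw [MonoidHom.mem_ker, hf]
      apply Prod.ext
      · apply Subtype.ext
        show ⁅x, g⁆ = 1
        exact commutatorElement_eq_one_iff_commute.mpr hxg
      · apply Subtype.ext
        show ⁅x, h⁆ = 1
        exact commutatorElement_eq_one_iff_commute.mpr hxh
  have hcard1 : Nat.card (sub E₀ g h) = Nat.card f.ker := by
    rw [← hker]; exact Subgroup.card_map_of_injective E₀.subtype_injective
  have h3 : Nat.card f.ker * f.ker.index = Nat.card E₀ := Subgroup.card_mul_index f.ker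
  have h4 : f.ker.index ≤ p ^ 2 := by
    rw [Subgroup.index_ker]
    calc Nat.card f.range ≤ Nat.card (Subgroup.zpowers z × Subgroup.zpowers z) :=
          Subgroup.card_le_card_group _
      _ = p ^ 2 := by rw [Nat.card_prod, Nat.card_zpowers, hP.z_ord, sq]
  calc Nat.card E₀ = Nat.card f.ker * f.ker.index := h3.symm
    _ ≤ Nat.card f.ker * p ^ 2 := Nat.mul_le_mul_left _ h4
    _ = p ^ 2 * Nat.card (sub E₀ g h) := by rw [hcard1, mul_comm]

theorem pow_mul_of_odd [Fact p.Prime] (hp2 : p ≠ 2) {x y : G} (hx : x ∈ E₀) (hy : y ∈ E₀) :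
    (x * y) ^ p = x ^ p * y ^ p := by
  have hp : p.Prime := Fact.out
  obtain ⟨c, hc⟩ : ∃ c : G, c = ⁅y⁻¹, x⁻¹⁆ := ⟨_, rfl⟩
  have hcmem : c ∈ Subgroup.zpowers z := by
    rw [hc]; exact hP.comm_mem _ (E₀.inv_mem hy) _ (E₀.inv_mem hx)
  have hyx : y * x = x * y * c := by
    rw [hc, commutatorElement_def]; group
  have h := mul_pow_comm hyx (hP.cent hcmem hx) (hP.cent hcmem hy) p
  have hcp : c ^ p = 1 := by
    obtain ⟨k, rfl⟩ := Subgroup.mem_zpowers_iff.mp hcmem
    rw [← zpow_natCast, ← zpow_mul, mul_comm, zpow_mul, zpow_natCast, hP.z_pow, one_zpow]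
  have hdvd : p ∣ p.choose 2 := hp.dvd_choose_self (by norm_num) (by
    have := hp.two_le; omega)
  obtain ⟨m, hm⟩ := hdvd
  rw [h, hm, pow_mul, hcp, one_pow, mul_one]

def pw [Fact p.Prime] (hp2 : p ≠ 2) : E₀ →* Subgroup.zpowers z :=
  MonoidHom.mk' (fun x => ⟨(x : G) ^ p, hP.pow_mem x x.2⟩) (by
    intro a b
    apply Subtype.ext
    show ((a : G) * (b : G)) ^ p = (a : G) ^ p * (b : G) ^ p
    exact hP.pow_mul_of_odd hp2 a.2 b.2)

theorem exists_order_p_odd [Finite G] [Fact p.Prime] (hp2 : p ≠ 2)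
    (hcard : p ^ 3 ≤ Nat.card E₀) :
    ∃ g ∈ E₀, g ∉ Subgroup.zpowers z ∧ g ^ p = 1 := by
  have hp : p.Prime := Fact.out
  by_contra hcon
  push Not at hcon
  obtain ⟨f, hf⟩ : ∃ f : E₀ →* Subgroup.zpowers z, f = hP.pw hp2 := ⟨_, rfl⟩
  have hle : (f.ker).map E₀.subtype ≤ Subgroup.zpowers z := by
    intro x hx
    obtain ⟨a, ha, rfl⟩ := Subgroup.mem_map.mp hx
    by_contra hxz
    apply hcon a a.2 hxz
    rw [MonoidHom.mem_ker, hf] at ha
    exact congrArg Subtype.val ha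
  have h1 : Nat.card f.ker ≤ p := by
    calc Nat.card f.ker = Nat.card ((f.ker).map E₀.subtype) :=
          (Subgroup.card_map_of_injective E₀.subtype_injective).symm
      _ ≤ Nat.card (Subgroup.zpowers z) := Subgroup.card_le_of_le hle
      _ = p := by rw [Nat.card_zpowers, hP.z_ord]
  have h2 : f.ker.index ≤ p := by
    rw [Subgroup.index_ker]
    calc Nat.card f.range ≤ Nat.card (Subgroup.zpowers z) := Subgroup.card_le_card_group _
      _ = p := by rw [Nat.card_zpowers, hP.z_ord]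
  have h3 := Subgroup.card_mul_index f.ker
  have h4 : Nat.card E₀ ≤ p * p := by rw [← h3]; exact Nat.mul_le_mul h1 h2
  have h5 : p ^ 3 ≤ p * p := le_trans hcard h4
  have e : p ^ 3 = p * p * p := by ring
  have h6 : p * p * 2 ≤ p * p * p := Nat.mul_le_mul_left _ hp.two_le
  have h7 : 0 < p * p := Nat.mul_pos hp.pos hp.pos
  have h8 : p * p * 2 ≤ p * p := by
    calc p * p * 2 ≤ p * p * p := h6
      _ = p ^ 3 := e.symm
      _ ≤ p * p := h5
  omega

end ESP

theorem exists_order_two [Finite G] {E₀ : Subgroup G} {z : G} (hP : ESP 2 E₀ z)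
    (_hcard : 2 ^ 3 ≤ Nat.card E₀) :
    (∃ g ∈ E₀, g ∉ Subgroup.zpowers z ∧ g ^ 2 = 1) ∨ Nat.card E₀ ≤ 8 := by
  by_contra hcon
  push Not at hcon
  obtain ⟨hno, hbig⟩ := hcon
  have hz2 : z ^ 2 = 1 := hP.z_pow
  have mem2 : ∀ c ∈ Subgroup.zpowers z, c = 1 ∨ c = z := by
    intro c hc
    obtain ⟨k, rfl⟩ := Subgroup.mem_zpowers_iff.mp hc
    have h1 : z ^ k = z ^ (k % 2) := by
      have := zpow_mod_orderOf z k
      rw [hP.z_ord] at this
      exact_mod_cast this.symm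
    rcases Int.emod_two_eq_zero_or_one k with h | h
    · left; rw [h1, h, zpow_zero]
    · right; rw [h1, h, zpow_one]
  have hex : ∃ x ∈ E₀, x ∉ Subgroup.zpowers z := by
    by_contra h
    push Not at h
    have hle : E₀ ≤ Subgroup.zpowers z := h
    have := Subgroup.card_le_of_le hle
    rw [Nat.card_zpowers, hP.z_ord] at this
    omega
  obtain ⟨x, hx, hxz⟩ := hex
  have hx2 : x ^ 2 = z := by
    rcases mem2 _ (hP.pow_mem x hx) with h | h
    · exact absurd h (hno x hx hxz)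
    · exact h
  obtain ⟨f, hf⟩ : ∃ f : E₀ →* Subgroup.zpowers z, f = hP.kap x hx := ⟨_, rfl⟩
  have hidx : f.ker.index ≤ 2 := by
    rw [Subgroup.index_ker]
    calc Nat.card f.range ≤ Nat.card (Subgroup.zpowers z) := Subgroup.card_le_card_group _
      _ = 2 := by rw [Nat.card_zpowers, hP.z_ord]
  have h3 := Subgroup.card_mul_index f.ker
  have hk : 4 < Nat.card f.ker := by
    by_contra hk
    push Not at hk
    have : Nat.card f.ker * f.ker.index ≤ 4 * 2 := Nat.mul_le_mul hk hidx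
    omega
  have hx4 : x ^ 4 = 1 := by
    have : x ^ 4 = (x ^ 2) ^ 2 := by rw [← pow_mul]
    rw [this, hx2, hz2]
  have hcx : Nat.card (Subgroup.zpowers x) ≤ 4 := by
    rw [Nat.card_zpowers]; exact orderOf_le_of_pow_eq_one (by norm_num) hx4
  have hey : ∃ y : E₀, y ∈ f.ker ∧ (y : G) ∉ Subgroup.zpowers x := by
    by_contra h
    push Not at h
    have hle : (f.ker).map E₀.subtype ≤ Subgroup.zpowers x := by
      intro w hw
      obtain ⟨a, ha, rfl⟩ := Subgroup.mem_map.mp hw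
      exact h a ha
    have := Subgroup.card_le_of_le hle
    rw [Subgroup.card_map_of_injective E₀.subtype_injective] at this
    omega
  obtain ⟨y, hyk, hyx⟩ := hey
  have hcomm : Commute (y : G) x := by
    rw [MonoidHom.mem_ker, hf] at hyk
    have h : ⁅(y : G), x⁆ = 1 := congrArg Subtype.val hyk
    exact commutatorElement_eq_one_iff_commute.mp h
  have hzx : Subgroup.zpowers z ≤ Subgroup.zpowers x := by
    rw [Subgroup.zpowers_le, ← hx2]
    exact Subgroup.pow_mem _ (Subgroup.mem_zpowers x) 2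
  have hyz : (y : G) ∉ Subgroup.zpowers z := fun h => hyx (hzx h)
  have hy2 : (y : G) ^ 2 = z := by
    rcases mem2 _ (hP.pow_mem y y.2) with h | h
    · exact absurd h (hno y y.2 hyz)
    · exact h
  refine hno (x * y) (E₀.mul_mem hx y.2) ?_ ?_
  · intro hmem
    apply hyx
    have h1 : x * y ∈ Subgroup.zpowers x := hzx hmem
    have h2 : x⁻¹ ∈ Subgroup.zpowers x := inv_mem (Subgroup.mem_zpowers x)
    have := mul_mem h2 h1
    rwa [inv_mul_cancel_left] at this
  · rw [hcomm.symm.mul_pow, hx2, hy2, ← sq, hz2]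

theorem base_case [Finite G] {p r : ℕ} [Fact p.Prime] [Fact r.Prime] {z : G}
    (hz : orderOf z = p) (K : Subgroup G)
    (hKr : ∀ a ∈ K, a ^ r = 1) (hzK : z ∈ Subgroup.normalizer (K : Set G))
    (hfix : K ⊓ Subgroup.centralizer {z} = ⊥) (hK : K ≠ ⊥) (n : ℕ)
    (hmin : ∀ k : ℕ, 1 ≤ k → p ∣ r ^ k - 1 → n ≤ k) : r ^ n ≤ Nat.card K := by
  classical
  haveI : Fintype K := Fintype.ofFinite K
  have hr : r.Prime := Fact.out
  have hKp : IsPGroup r K := by
    intro a
    refine ⟨1, ?_⟩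
    rw [pow_one]
    apply Subtype.ext
    show (a : G) ^ r = 1
    exact hKr a a.2
  obtain ⟨m, hm⟩ := IsPGroup.iff_card.mp hKp
  have hm1 : 1 ≤ m := by
    by_contra h
    have h0 : m = 0 := by omega
    rw [h0, pow_zero] at hm
    exact hK (Subgroup.card_eq_one.mp hm)
  let σ : Equiv.Perm K :=
    { toFun := fun a => ⟨z * a * z⁻¹, (Subgroup.mem_normalizer_iff.mp hzK a).mp a.2⟩
      invFun := fun a => ⟨z⁻¹ * a * z, by
        apply (Subgroup.mem_normalizer_iff.mp hzK (z⁻¹ * a * z)).mpr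
        have e : z * (z⁻¹ * (a : G) * z) * z⁻¹ = a := by group
        rw [e]; exact a.2⟩
      left_inv := fun a => by
        apply Subtype.ext
        show z⁻¹ * (z * (a : G) * z⁻¹) * z = a
        group
      right_inv := fun a => by
        apply Subtype.ext
        show z * (z⁻¹ * (a : G) * z) * z⁻¹ = a
        group }
  have hσ1 : ∀ a : K, ((σ a : K) : G) = z * a * z⁻¹ := fun a => rfl
  have hσpow : ∀ k : ℕ, ∀ a : K, (((σ ^ k) a : K) : G) = z ^ k * a * (z ^ k)⁻¹ := by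
    intro k
    induction k with
    | zero => intro a; simp
    | succ k ih =>
      intro a
      rw [pow_succ', Equiv.Perm.mul_apply, hσ1, ih a, pow_succ']
      group
  have hσp : σ ^ p ^ 1 = 1 := by
    rw [pow_one]
    refine Equiv.Perm.ext (fun a => Subtype.ext ?_)
    rw [hσpow p a, ← hz, pow_orderOf_eq_one]
    simp
  have hmod := Equiv.Perm.card_compl_support_modEq hσp
  have hsupp : σ.supportᶜ = {1} := by
    ext a
    rw [Finset.mem_compl, Equiv.Perm.mem_support, not_not, Finset.mem_singleton]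
    constructor
    · intro h
      have h1 : z * (a : G) * z⁻¹ = a := congrArg Subtype.val h
      have h2 : (a : G) ∈ K ⊓ Subgroup.centralizer {z} := by
        rw [Subgroup.mem_inf]
        refine ⟨a.2, ?_⟩
        rw [Subgroup.mem_centralizer_singleton_iff]
        calc (a : G) * z = (z * a * z⁻¹) * z := by rw [h1]
          _ = z * a := by group
      rw [hfix, Subgroup.mem_bot] at h2
      exact Subtype.ext h2
    · intro h
      rw [h]
      apply Subtype.ext
      show z * (1 : G) * z⁻¹ = 1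
      group
  rw [hsupp, Finset.card_singleton, ← Nat.card_eq_fintype_card, hm] at hmod
  have hdvd : p ∣ r ^ m - 1 := (Nat.modEq_iff_dvd' (Nat.one_le_pow _ _ hr.pos)).mp hmod
  have hnm := hmin m hm1 hdvd
  rw [hm]
  exact Nat.pow_le_pow_right hr.pos hnm

theorem exceptional_case [Finite G] {r : ℕ} [Fact r.Prime] {E₀ : Subgroup G} {z : G}
    (hP : ESP 2 E₀ z) (hbig : 2 < Nat.card E₀) (K : Subgroup G)
    (hKr : ∀ a ∈ K, a ^ r = 1) (hEK : E₀ ≤ Subgroup.normalizer (K : Set G))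
    (hfix : K ⊓ Subgroup.centralizer {z} = ⊥) (hK : K ≠ ⊥) : r ^ 2 ≤ Nat.card K := by
  have hr : r.Prime := Fact.out
  have hKp : IsPGroup r K := by
    intro a
    refine ⟨1, ?_⟩
    rw [pow_one]
    apply Subtype.ext
    show (a : G) ^ r = 1
    exact hKr a a.2
  obtain ⟨m, hm⟩ := IsPGroup.iff_card.mp hKp
  rw [hm]
  apply Nat.pow_le_pow_right hr.pos
  by_contra hm2
  have hm1 : m = 1 := by
    have : m ≠ 0 := by
      intro h0
      rw [h0, pow_zero] at hm
      exact hK (Subgroup.card_eq_one.mp hm)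
    omega
  rw [hm1, pow_one] at hm
  -- K has order r
  obtain ⟨k, hkK, hk1⟩ : ∃ k ∈ K, k ≠ 1 := by
    by_contra h
    push Not at h
    apply hK
    rw [eq_bot_iff]
    intro a ha
    rw [Subgroup.mem_bot]; exact h a ha
  have hkord : orderOf k = r := orderOf_eq_prime (hKr k hkK) hk1
  have hKk : Subgroup.zpowers k = K := by
    apply Subgroup.eq_of_le_of_card_ge (Subgroup.zpowers_le.mpr hkK)
    rw [Nat.card_zpowers, hkord, hm]
  obtain ⟨x, hx, hxz⟩ : ∃ x ∈ E₀, x ∉ Subgroup.zpowers z := by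
    by_contra h
    push Not at h
    have hle : E₀ ≤ Subgroup.zpowers z := h
    have := Subgroup.card_le_of_le hle
    rw [Nat.card_zpowers, hP.z_ord] at this
    omega
  obtain ⟨y, hy, hne⟩ := hP.nondeg x hx hxz
  obtain ⟨c', hc'⟩ : ∃ c' : G, c' = x⁻¹ * y⁻¹ * x * y := ⟨_, rfl⟩
  have hc'comm : c' = ⁅x⁻¹, y⁻¹⁆ := by
    rw [hc', commutatorElement_def, inv_inv, inv_inv]
  have hc'mem : c' ∈ Subgroup.zpowers z := by
    rw [hc'comm]; exact hP.comm_mem _ (E₀.inv_mem hx) _ (E₀.inv_mem hy)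
  have hc'ne : c' ≠ 1 := by
    intro h1
    apply hne
    rw [hc'comm, commutatorElement_eq_one_iff_commute] at h1
    rw [commutatorElement_eq_one_iff_commute]
    have := h1.inv_left.inv_right
    rw [inv_inv, inv_inv] at this
    exact this.symm
  have hxk : ∃ a : ℤ, x * k * x⁻¹ = k ^ a := by
    have : x * k * x⁻¹ ∈ Subgroup.zpowers k := by
      rw [hKk]; exact (Subgroup.mem_normalizer_iff.mp (hEK hx) k).mp hkK
    obtain ⟨a, ha⟩ := Subgroup.mem_zpowers_iff.mp this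
    exact ⟨a, ha.symm⟩
  have hyk : ∃ b : ℤ, y * k * y⁻¹ = k ^ b := by
    have : y * k * y⁻¹ ∈ Subgroup.zpowers k := by
      rw [hKk]; exact (Subgroup.mem_normalizer_iff.mp (hEK hy) k).mp hkK
    obtain ⟨b, hb⟩ := Subgroup.mem_zpowers_iff.mp this
    exact ⟨b, hb.symm⟩
  obtain ⟨a, ha⟩ := hxk
  obtain ⟨b, hb⟩ := hyk
  have h1 : (x * y) * k * (x * y)⁻¹ = (k ^ a) ^ b := by
    calc (x * y) * k * (x * y)⁻¹ = x * (y * k * y⁻¹) * x⁻¹ := by group
      _ = x * k ^ b * x⁻¹ := by rw [hb]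
      _ = (x * k * x⁻¹) ^ b := conj_zpow.symm
      _ = (k ^ a) ^ b := by rw [ha]
  have h2 : (y * x) * k * (y * x)⁻¹ = (k ^ b) ^ a := by
    calc (y * x) * k * (y * x)⁻¹ = y * (x * k * x⁻¹) * y⁻¹ := by group
      _ = y * k ^ a * y⁻¹ := by rw [ha]
      _ = (y * k * y⁻¹) ^ a := conj_zpow.symm
      _ = (k ^ b) ^ a := by rw [hb]
  have heq : (x * y) * k * (x * y)⁻¹ = (y * x) * k * (y * x)⁻¹ := by
    rw [h1, h2, ← zpow_mul, ← zpow_mul, mul_comm]
  have hck : c' * k = k * c' := by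
    calc c' * k = x⁻¹ * y⁻¹ * ((x * y) * k * (x * y)⁻¹) * (x * y) := by rw [hc']; group
      _ = x⁻¹ * y⁻¹ * ((y * x) * k * (y * x)⁻¹) * (x * y) := by rw [heq]
      _ = k * c' := by rw [hc']; group
  have hzc : z ∈ Subgroup.zpowers c' := gen_of_ne_one hP.z_ord hc'mem hc'ne
  obtain ⟨j, hj⟩ := Subgroup.mem_zpowers_iff.mp hzc
  have hzk : Commute z k := by
    rw [← hj]
    have : Commute c' k := hck
    exact this.zpow_left j
  have hkmem : k ∈ K ⊓ Subgroup.centralizer {z} := by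
    rw [Subgroup.mem_inf]
    refine ⟨hkK, ?_⟩
    rw [Subgroup.mem_centralizer_singleton_iff]
    exact hzk.symm.eq
  rw [hfix, Subgroup.mem_bot] at hkmem
  exact hk1 hkmem

end Cfsg.Agent.Lib.Lead.ES
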