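import Mathlib
import Cfsg.Agent.S3975
import Cfsg.Agent.Lib.Lead.SylowCount

set_option autoImplicit false

/-!
# Counting tools for subgroups of prime power order modulo `p²`
-/

namespace Cfsg.Agent.Lib.Lead.Kul

open MulAction
open scoped Pointwise

/-! ### Orbit counting -/

section Orbit

variable {A α : Type*} [Group A] [MulAction A α] [Finite α]

/-- If all orbits meeting an invariant set `X` have size divisible by `d`, then `d ∣ |X|`. -/
theorem dvd_ncard_of_orbits (d : ℕ) :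
    ∀ (n : ℕ) (X : Set α), X.ncard = n → (∀ g : A, ∀ x ∈ X, g • x ∈ X) →
      (∀ x ∈ X, d ∣ (orbit A x).ncard) → d ∣ n := by
  intro n
  induction n using Nat.strong_induction_on with
  | _ n ih =>
    intro X hXn hX hd
    rcases Set.eq_empty_or_nonempty X with hemp | ⟨x, hx⟩
    · subst hemp
      rw [Set.ncard_empty] at hXn
      rw [← hXn]; exact dvd_zero d
    · have hsub : orbit A x ⊆ X := by
        rintro _ ⟨g, rfl⟩
        exact hX g x hx
      obtain ⟨r, hr⟩ : ∃ r, r = (orbit A x).ncard := ⟨_, rfl⟩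
      have hcard : (X \ orbit A x).ncard = n - r := by
        rw [Set.ncard_sdiff hsub (Set.toFinite _), hXn, hr]
      have hrpos : 0 < r := by
        rw [hr]; exact (Set.ncard_pos (Set.toFinite _)).mpr ⟨x, mem_orbit_self x⟩
      have hrle : r ≤ n := by
        rw [← hXn, hr]
        exact Set.ncard_le_ncard hsub (Set.toFinite _)
      have hinv : ∀ g : A, ∀ y ∈ X \ orbit A x, g • y ∈ X \ orbit A x := by
        rintro g y ⟨hyX, hyO⟩
        refine ⟨hX g y hyX, fun h => hyO ?_⟩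
        have := mem_orbit_of_mem_orbit g⁻¹ h
        rwa [inv_smul_smul] at this
      have h1 := ih (n - r) (by omega) (X \ orbit A x) hcard hinv (fun y hy => hd y hy.1)
      have h2 : n = (n - r) + r := by omega
      rw [h2]
      exact dvd_add h1 (hr ▸ hd x hx)

theorem orbit_ncard_eq_one_iff (x : α) : (orbit A x).ncard = 1 ↔ ∀ g : A, g • x = x := by
  constructor
  · intro h g
    obtain ⟨y, hy⟩ := Set.ncard_eq_one.1 h
    have h1 : x ∈ orbit A x := mem_orbit_self x
    have h2 : g • x ∈ orbit A x := mem_orbit x g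
    rw [hy, Set.mem_singleton_iff] at h1 h2
    rw [h2, h1]
  · intro h
    have h1 : orbit A x = {x} := by
      ext y
      constructor
      · rintro ⟨g, rfl⟩
        exact h g
      · intro hy
        rw [Set.mem_singleton_iff] at hy
        rw [hy]; exact mem_orbit_self x
    rw [h1, Set.ncard_singleton]

variable {p : ℕ} [hp : Fact p.Prime]

theorem orbit_ncard_cases (hA : IsPGroup p A) (x : α) :
    (orbit A x).ncard = 1 ∨ (orbit A x).ncard = p ∨ p ^ 2 ∣ (orbit A x).ncard := by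
  obtain ⟨j, hj⟩ := hA.card_orbit x
  rw [Nat.card_coe_set_eq] at hj
  rcases j with _ | _ | j
  · left; rw [hj, pow_zero]
  · right; left; rw [hj]; simp
  · right; right; rw [hj]; exact pow_dvd_pow p (by omega)

/-- Counting modulo `p²`: only the fixed points and the orbits of size `p` matter. -/
theorem ncard_modEq_sq (hA : IsPGroup p A) (X : Set α)
    (hinv : ∀ g : A, ∀ x ∈ X, g • x ∈ X) :
    X.ncard ≡ {x ∈ X | (orbit A x).ncard = 1}.ncard + {x ∈ X | (orbit A x).ncard = p}.ncard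
      [MOD p ^ 2] := by
  have hp1 : p ≠ 1 := hp.out.one_lt.ne'
  have hp2 : 2 ≤ p := hp.out.two_le
  obtain ⟨X1, hX1⟩ : ∃ X1, X1 = {x ∈ X | (orbit A x).ncard = 1} := ⟨_, rfl⟩
  obtain ⟨Xp, hXp⟩ : ∃ Xp, Xp = {x ∈ X | (orbit A x).ncard = p} := ⟨_, rfl⟩
  obtain ⟨Xr, hXr⟩ : ∃ Xr, Xr = {x ∈ X | p ^ 2 ∣ (orbit A x).ncard} := ⟨_, rfl⟩
  rw [← hX1, ← hXp]
  have hunion : X = (X1 ∪ Xp) ∪ Xr := by
    ext x
    constructor
    · intro hx
      rcases orbit_ncard_cases hA x with h | h | h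
      · exact Or.inl (Or.inl (hX1 ▸ ⟨hx, h⟩))
      · exact Or.inl (Or.inr (hXp ▸ ⟨hx, h⟩))
      · exact Or.inr (hXr ▸ ⟨hx, h⟩)
    · rintro ((h | h) | h)
      · rw [hX1] at h; exact h.1
      · rw [hXp] at h; exact h.1
      · rw [hXr] at h; exact h.1
  have hd1 : Disjoint X1 Xp := by
    rw [Set.disjoint_left]
    intro x h1 h2
    rw [hX1] at h1; rw [hXp] at h2
    have := h1.2
    rw [h2.2] at this
    exact hp1 this
  have hd2 : Disjoint (X1 ∪ Xp) Xr := by
    rw [Set.disjoint_left]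
    intro x h1 h2
    rw [hXr] at h2
    have h3 := h2.2
    have h4 : 2 * p ≤ p * p := Nat.mul_le_mul_right p hp2
    rcases h1 with h1 | h1
    · rw [hX1] at h1
      rw [h1.2] at h3
      have := Nat.le_of_dvd one_pos h3
      nlinarith [pow_two p]
    · rw [hXp] at h1
      rw [h1.2] at h3
      have := Nat.le_of_dvd hp.out.pos h3
      nlinarith [pow_two p]
  have hXr_inv : ∀ g : A, ∀ x ∈ Xr, g • x ∈ Xr := by
    intro g x hx
    rw [hXr] at hx ⊢
    exact ⟨hinv g x hx.1, by rw [orbit_smul]; exact hx.2⟩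
  have hdvd : p ^ 2 ∣ Xr.ncard :=
    dvd_ncard_of_orbits (A := A) (p ^ 2) _ Xr rfl hXr_inv (fun x hx => by
      rw [hXr] at hx; exact hx.2)
  have hcard : X.ncard = X1.ncard + Xp.ncard + Xr.ncard := by
    conv_lhs => rw [hunion]
    rw [Set.ncard_union_eq hd2 (Set.toFinite _) (Set.toFinite _),
      Set.ncard_union_eq hd1 (Set.toFinite _) (Set.toFinite _)]
  rw [hcard]
  obtain ⟨c, hc⟩ := hdvd
  rw [hc]
  exact ((Nat.modEq_iff_dvd' (Nat.le_add_right _ _)).2 ⟨c, Nat.add_sub_cancel_left _ _⟩).symm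

/-- Counting modulo `p`: only the fixed points matter. -/
theorem ncard_modEq_fixed (hA : IsPGroup p A) (X : Set α)
    (hinv : ∀ g : A, ∀ x ∈ X, g • x ∈ X) :
    X.ncard ≡ {x ∈ X | ∀ g : A, g • x = x}.ncard [MOD p] := by
  have hp1 : p ≠ 1 := hp.out.one_lt.ne'
  obtain ⟨X1, hX1⟩ : ∃ X1, X1 = {x ∈ X | ∀ g : A, g • x = x} := ⟨_, rfl⟩
  obtain ⟨Xr, hXr⟩ : ∃ Xr, Xr = {x ∈ X | p ∣ (orbit A x).ncard} := ⟨_, rfl⟩
  rw [← hX1]
  have hunion : X = X1 ∪ Xr := by
    ext x
    constructor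
    · intro hx
      obtain ⟨j, hj⟩ := hA.card_orbit x
      rw [Nat.card_coe_set_eq] at hj
      rcases j with _ | j
      · left
        rw [hX1]
        exact ⟨hx, (orbit_ncard_eq_one_iff x).1 (by rw [hj, pow_zero])⟩
      · right
        rw [hXr]
        exact ⟨hx, by rw [hj]; exact dvd_pow_self p (Nat.succ_ne_zero j)⟩
    · rintro (h | h)
      · rw [hX1] at h; exact h.1
      · rw [hXr] at h; exact h.1
  have hd : Disjoint X1 Xr := by
    rw [Set.disjoint_left]
    intro x h1 h2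
    rw [hX1] at h1; rw [hXr] at h2
    have h3 := h2.2
    rw [(orbit_ncard_eq_one_iff x).2 h1.2] at h3
    exact hp1 (Nat.dvd_one.1 h3)
  have hXr_inv : ∀ g : A, ∀ x ∈ Xr, g • x ∈ Xr := by
    intro g x hx
    rw [hXr] at hx ⊢
    exact ⟨hinv g x hx.1, by rw [orbit_smul]; exact hx.2⟩
  have hdvd : p ∣ Xr.ncard :=
    dvd_ncard_of_orbits (A := A) p _ Xr rfl hXr_inv (fun x hx => by
      rw [hXr] at hx; exact hx.2)
  conv_lhs => rw [hunion]
  rw [Set.ncard_union_eq hd (Set.toFinite _) (Set.toFinite _)]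
  obtain ⟨c, hc⟩ := hdvd
  rw [hc]
  exact ((Nat.modEq_iff_dvd' (Nat.le_add_right _ _)).2 ⟨c, Nat.add_sub_cancel_left _ _⟩).symm

/-- Two-level counting: if the invariant set `X` is fibred equivariantly over a set all of whose
orbits have size divisible by `p`, with all fibres of size divisible by `p`, then `p² ∣ |X|`. -/
theorem sq_dvd_ncard_of_fibers {β : Type*} [MulAction A β] [Finite β] (q : ℕ) (f : α → β)
    (hf : ∀ (g : A) (x : α), f (g • x) = g • f x) :
    ∀ (n : ℕ) (X : Set α), X.ncard = n → (∀ g : A, ∀ x ∈ X, g • x ∈ X) →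
      (∀ x ∈ X, q ∣ (orbit A (f x)).ncard) →
      (∀ x ∈ X, q ∣ {y ∈ X | f y = f x}.ncard) → q ^ 2 ∣ n := by
  intro n
  induction n using Nat.strong_induction_on with
  | _ n ih =>
    intro X hXn hX h1 h2
    rcases Set.eq_empty_or_nonempty X with hemp | ⟨x, hx⟩
    · subst hemp
      rw [Set.ncard_empty] at hXn
      rw [← hXn]; exact dvd_zero _
    · obtain ⟨O, hO⟩ : ∃ O, O = orbit A (f x) := ⟨_, rfl⟩
      obtain ⟨XO, hXO⟩ : ∃ XO, XO = {y ∈ X | f y ∈ O} := ⟨_, rfl⟩
      obtain ⟨Xb, hXb⟩ : ∃ Xb, Xb = {y ∈ X | f y = f x} := ⟨_, rfl⟩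
      have hO' : ∀ b : β, b ∈ O ↔ b ∈ orbit A (f x) := fun b => by rw [hO]
      have hXO' : ∀ y : α, y ∈ XO ↔ (y ∈ X ∧ f y ∈ O) := fun y => by rw [hXO]; rfl
      have hXb' : ∀ y : α, y ∈ Xb ↔ (y ∈ X ∧ f y = f x) := fun y => by rw [hXb]; rfl
      have hsub : XO ⊆ X := fun y hy => ((hXO' y).1 hy).1
      have hcount : XO.ncard = O.ncard * Xb.ncard := by
        have hg : ∀ b : ↥O, ∃ g : A, g • f x = (b : β) := fun b => (hO' b).1 b.2
        choose γ hγ using hg
        rw [← Nat.card_coe_set_eq, ← Nat.card_coe_set_eq O, ← Nat.card_coe_set_eq Xb,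
          ← Nat.card_prod]
        symm
        have hmem : ∀ bz : ↥O × ↥Xb, γ bz.1 • (bz.2 : α) ∈ XO := by
          intro bz
          have hz := (hXb' _).1 bz.2.2
          rw [hXO']
          refine ⟨hX _ _ hz.1, ?_⟩
          rw [hf, hz.2, hγ]; exact bz.1.2
        apply Nat.card_congr
        refine Equiv.ofBijective (fun bz : ↥O × ↥Xb => (⟨γ bz.1 • (bz.2 : α), hmem bz⟩ : ↥XO))
          ⟨?_, ?_⟩
        · rintro ⟨b, z⟩ ⟨b', z'⟩ h
          have h' : γ b • (z : α) = γ b' • (z' : α) := congrArg Subtype.val h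
          have hz := (hXb' _).1 z.2
          have hz' := (hXb' _).1 z'.2
          have hb : (b : β) = b' := by
            have h3 := congrArg f h'
            rw [hf, hf, hz.2, hz'.2, hγ, hγ] at h3
            exact h3
          have hbb : b = b' := Subtype.ext hb
          subst hbb
          have hzz : (z : α) = z' := MulAction.injective (γ b) h'
          rw [Subtype.ext hzz]
        · rintro ⟨y, hy⟩
          have hy' := (hXO' y).1 hy
          refine ⟨(⟨f y, hy'.2⟩, ⟨(γ ⟨f y, hy'.2⟩)⁻¹ • y, ?_⟩), ?_⟩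
          · rw [hXb']
            refine ⟨hX _ _ hy'.1, ?_⟩
            rw [hf, inv_smul_eq_iff, hγ]
          · apply Subtype.ext
            show γ ⟨f y, hy'.2⟩ • ((γ ⟨f y, hy'.2⟩)⁻¹ • y) = y
            rw [smul_inv_smul]
      have hXOinv : ∀ g : A, ∀ y ∈ XO, g • y ∈ XO := by
        intro g y hy
        have hy' := (hXO' y).1 hy
        rw [hXO']
        refine ⟨hX g y hy'.1, ?_⟩
        rw [hf, hO']
        exact mem_orbit_of_mem_orbit g ((hO' _).1 hy'.2)
      have hinv' : ∀ g : A, ∀ y ∈ X \ XO, g • y ∈ X \ XO := by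
        rintro g y ⟨hyX, hyO⟩
        refine ⟨hX g y hyX, fun h => hyO ?_⟩
        have := hXOinv g⁻¹ _ h
        rwa [inv_smul_smul] at this
      have hfib' : ∀ y ∈ X \ XO, {z ∈ X \ XO | f z = f y} = {z ∈ X | f z = f y} := by
        rintro y ⟨hyX, hyO⟩
        ext z
        constructor
        · rintro ⟨⟨hzX, _⟩, hz⟩; exact ⟨hzX, hz⟩
        · rintro ⟨hzX, hz⟩
          refine ⟨⟨hzX, fun h => hyO ?_⟩, hz⟩
          rw [hXO']
          exact ⟨hyX, hz ▸ ((hXO' z).1 h).2⟩
      obtain ⟨r, hr⟩ : ∃ r, r = XO.ncard := ⟨_, rfl⟩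
      have hxXO : x ∈ XO := by
        rw [hXO', hO']; exact ⟨hx, mem_orbit_self _⟩
      have hrpos : 0 < r := by
        rw [hr]; exact (Set.ncard_pos (Set.toFinite _)).mpr ⟨x, hxXO⟩
      have hrle : r ≤ n := by
        rw [← hXn, hr]; exact Set.ncard_le_ncard hsub (Set.toFinite _)
      have hcard : (X \ XO).ncard = n - r := by
        rw [Set.ncard_sdiff hsub (Set.toFinite _), hXn, hr]
      have h3 := ih (n - r) (by omega) (X \ XO) hcard hinv' (fun y hy => h1 y hy.1)
        (fun y hy => by rw [hfib' y hy]; exact h2 y hy.1)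
      have h4 : q ^ 2 ∣ r := by
        rw [hr, hcount, pow_two]
        have h5 := h1 x hx
        have h6 := h2 x hx
        rw [← hO] at h5
        rw [← hXb] at h6
        exact Nat.mul_dvd_mul h5 h6
      have h5 : n = (n - r) + r := by omega
      rw [h5]; exact dvd_add h3 h4

end Orbit

/-! ### Conjugation action on subgroups -/

section Conj

variable {G : Type*} [Group G]

/-- conjugation action of a subgroup on the lattice of subgroups -/
@[reducible] def conjAct (Q : Subgroup G) : MulAction ↥Q (Subgroup G) :=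
  MulAction.compHom (Subgroup G) ((MulAut.conj : G →* MulAut G).comp Q.subtype)

theorem conj_smul_eq_iff (g : G) (H : Subgroup G) :
    MulAut.conj g • H = H ↔ g ∈ Subgroup.normalizer (H : Set G) :=
  Subgroup.mem_normalizer_iff_map_conj_eq.symm

theorem card_conj_smul (g : G) (H : Subgroup G) :
    Nat.card ↥(MulAut.conj g • H) = Nat.card H :=
  (Nat.card_congr (Subgroup.equivSMul (MulAut.conj g) H).toEquiv).symm

theorem conj_normalizer (g : G) (H : Subgroup G) :
    MulAut.conj g • Subgroup.normalizer (H : Set G) =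
      Subgroup.normalizer ((MulAut.conj g • H : Subgroup G) : Set G) := by
  ext x
  rw [Subgroup.mem_pointwise_smul_iff_inv_smul_mem, Subgroup.mem_normalizer_iff,
    Subgroup.mem_normalizer_iff]
  have e1 : (MulAut.conj g)⁻¹ • x = g⁻¹ * x * g := by
    rw [MulAut.smul_def, MulAut.conj_inv_apply]
  have e2 : ∀ h : G, h ∈ MulAut.conj g • H ↔ g⁻¹ * h * g ∈ H := by
    intro h
    rw [Subgroup.mem_pointwise_smul_iff_inv_smul_mem, MulAut.smul_def, MulAut.conj_inv_apply]
  rw [e1]
  constructor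
  · intro hx h
    rw [e2, e2]
    have h1 := hx (g⁻¹ * h * g)
    have e3 : g⁻¹ * x * g * (g⁻¹ * h * g) * (g⁻¹ * x * g)⁻¹ = g⁻¹ * (x * h * x⁻¹) * g := by group
    rw [e3] at h1
    exact h1
  · intro hx h
    have h1 := hx (g * h * g⁻¹)
    rw [e2, e2] at h1
    have e3 : g⁻¹ * (g * h * g⁻¹) * g = h := by group
    have e4 : g⁻¹ * (x * (g * h * g⁻¹) * x⁻¹) * g = g⁻¹ * x * g * h * (g⁻¹ * x * g)⁻¹ := by group
    rw [e3, e4] at h1
    exact h1

/-- subgroups of `G` of order `m` contained in `M` -/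
def subs (M : Subgroup G) (m : ℕ) : Set (Subgroup G) := {H | H ≤ M ∧ Nat.card H = m}

theorem card_subs_eq (M : Subgroup G) (m : ℕ) :
    (subs M m).ncard = Nat.card {H' : Subgroup ↥M // Nat.card H' = m} := by
  rw [← Nat.card_coe_set_eq]
  apply Nat.card_congr
  exact
    { toFun := fun H => ⟨H.1.subgroupOf M, by
        rw [Nat.card_congr (Subgroup.subgroupOfEquivOfLe H.2.1).toEquiv]; exact H.2.2⟩
      invFun := fun H' => ⟨H'.1.map M.subtype, Subgroup.map_subtype_le _, by
        rw [Subgroup.card_map_of_injective M.subtype_injective]; exact H'.2⟩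
      left_inv := fun H => Subtype.ext (Subgroup.map_subgroupOf_eq_of_le H.2.1)
      right_inv := fun H' => Subtype.ext
        (Subgroup.comap_map_eq_self_of_injective M.subtype_injective H'.1) }

variable [Finite G] {p : ℕ} [hp : Fact p.Prime]

theorem subs_modEq_one (M : Subgroup G) (k : ℕ) (h : p ^ k ∣ Nat.card M) :
    (subs M (p ^ k)).ncard ≡ 1 [MOD p] := by
  rw [card_subs_eq]
  exact Cfsg.Agent.S3975.result (G := ↥M) p k hp.out h

theorem subs_invariant (Q M : Subgroup G) (hQM : Q ≤ Subgroup.normalizer (M : Set G)) (m : ℕ)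
    (g : G) (hg : g ∈ Q) (H : Subgroup G) (hH : H ∈ subs M m) :
    MulAut.conj g • H ∈ subs M m := by
  refine ⟨?_, ?_⟩
  · have h1 : MulAut.conj g • M = M := (conj_smul_eq_iff _ _).2 (hQM hg)
    have h2 : MulAut.conj g • H ≤ MulAut.conj g • M :=
      Subgroup.pointwise_smul_le_pointwise_smul_iff.2 hH.1
    rwa [h1] at h2
  · rw [card_conj_smul]; exact hH.2

/-- The number of subgroups of `M` of order `p^k` normalized by the `p`-group `Q` (which
normalizes `M`) is `≡ 1 (mod p)`. -/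
theorem normalized_subs_modEq_one (Q M : Subgroup G) (hQ : IsPGroup p Q)
    (hQM : Q ≤ Subgroup.normalizer (M : Set G)) (k : ℕ) (h : p ^ k ∣ Nat.card M) :
    {H ∈ subs M (p ^ k) | Q ≤ Subgroup.normalizer (H : Set G)}.ncard ≡ 1 [MOD p] := by
  letI : MulAction ↥Q (Subgroup G) := conjAct Q
  have hsm : ∀ (g : ↥Q) (H : Subgroup G), g • H = MulAut.conj (g : G) • H := fun _ _ => rfl
  have hinv : ∀ g : ↥Q, ∀ H ∈ subs M (p ^ k), g • H ∈ subs M (p ^ k) := by
    intro g H hH
    rw [hsm]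
    exact subs_invariant Q M hQM _ g g.2 H hH
  have h1 := ncard_modEq_fixed (A := ↥Q) hQ (subs M (p ^ k)) hinv
  have h2 : {H ∈ subs M (p ^ k) | ∀ g : ↥Q, g • H = H} =
      {H ∈ subs M (p ^ k) | Q ≤ Subgroup.normalizer (H : Set G)} := by
    ext H
    constructor
    · rintro ⟨hH, hfix⟩
      refine ⟨hH, fun g hg => ?_⟩
      exact (conj_smul_eq_iff g H).1 (hfix ⟨g, hg⟩)
    · rintro ⟨hH, hn⟩
      exact ⟨hH, fun g => (conj_smul_eq_iff _ H).2 (hn g.2)⟩
  rw [h2] at h1
  exact h1.symm.trans (subs_modEq_one M k h)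

end Conj

end Cfsg.Agent.Lib.Lead.Kul
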