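import Mathlib
import Cfsg.Agent.Lib.Lead.Kul1
import Cfsg.Agent.Lib.Helper1.MaxClassNormal2

set_option autoImplicit false

/-!
# The enumeration principle modulo `p²` in a finite `p`-group
-/

universe u

namespace Cfsg.Agent.Lib.Lead.Kul

open scoped Pointwise

/-! ### Arithmetic -/

theorem arith {p x y : ℕ} (hp : p.Prime) (hx : x ≡ 1 [MOD p])
    (h : x * x - x = y * ((p + 1) * p)) : x ≡ 1 + p * y [MOD p ^ 2] := by
  have hx1 : 1 ≤ x := by
    by_contra h0
    have h1 : x = 0 := by omega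
    rw [h1] at hx
    have h2 : p ∣ 1 := (Nat.modEq_zero_iff_dvd.1 hx.symm)
    exact hp.one_lt.ne' (Nat.dvd_one.1 h2)
  obtain ⟨u, hu⟩ := (Nat.modEq_iff_dvd' hx1).1 hx.symm
  have hxu : x = 1 + p * u := by omega
  subst hxu
  have h1 : (1 + p * u) * (1 + p * u) - (1 + p * u) = (1 + p * u) * u * p := by
    have h0 : (1 + p * u) * (1 + p * u) = (1 + p * u) * u * p + (1 + p * u) := by ring
    rw [h0, Nat.add_sub_cancel]
  rw [h1] at h
  have h2 : (1 + p * u) * u = y * (p + 1) := by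
    apply Nat.eq_of_mul_eq_mul_right hp.pos
    rw [h]; ring
  have e : u + p * (u * u) = p * y + y := by
    have h0 : (1 + p * u) * u = u + p * (u * u) := by ring
    rw [← h0, h2]; ring
  have huy : u ≡ y [MOD p] := by
    have h3 : u + p * (u * u) ≡ u [MOD p] := by
      have := Nat.ModEq.add_left u (Nat.modEq_zero_iff_dvd.2 (dvd_mul_right p (u * u)))
      simpa using this
    have h4 : p * y + y ≡ y [MOD p] := by
      have := Nat.ModEq.add_right y (Nat.modEq_zero_iff_dvd.2 (dvd_mul_right p y))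
      simpa using this
    have h4' : u + p * (u * u) ≡ y [MOD p] := by rw [e]; exact h4
    exact h3.symm.trans h4'
  have h5 : p * u ≡ p * y [MOD p * p] := Nat.ModEq.mul_left' p huy
  rw [pow_two]
  exact Nat.ModEq.add_left 1 h5

theorem sum_modEq {ι : Type*} (s : Finset ι) (f g : ι → ℕ) (m : ℕ)
    (h : ∀ i ∈ s, f i ≡ g i [MOD m]) : ∑ i ∈ s, f i ≡ ∑ i ∈ s, g i [MOD m] := by
  unfold Nat.ModEq
  rw [Finset.sum_nat_mod, Finset.sum_nat_mod s m g]
  congr 1
  exact Finset.sum_congr rfl h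

/-! ### Finite sets of subgroups -/

section Fs

variable {P : Type u} [Group P] [Finite P]

/-- a set of subgroups as a finset -/
noncomputable def fs (S : Set (Subgroup P)) : Finset (Subgroup P) := (Set.toFinite S).toFinset

theorem mem_fs {S : Set (Subgroup P)} {H : Subgroup P} : H ∈ fs S ↔ H ∈ S :=
  Set.Finite.mem_toFinset _

theorem card_fs (S : Set (Subgroup P)) : (fs S).card = S.ncard :=
  (Set.ncard_eq_toFinset_card S (Set.toFinite S)).symm

theorem coe_fs (S : Set (Subgroup P)) : ((fs S : Finset (Subgroup P)) : Set (Subgroup P)) = S :=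
  Set.Finite.coe_toFinset _

end Fs

section Lattice

variable {P : Type u} [Group P] [Finite P] {p : ℕ} [hp : Fact p.Prime]

/-- subgroups of index `p` -/
def maxs (P : Type u) [Group P] (p : ℕ) : Set (Subgroup P) := {L | L.index = p}

/-- normal subgroups of index `p²` with quotient of exponent `p` -/
def kers (P : Type u) [Group P] (p : ℕ) : Set (Subgroup P) :=
  {K | K.Normal ∧ K.index = p ^ 2 ∧ ∀ x : P, x ^ p ∈ K}

theorem eq_of_le_of_index_eq {K K' : Subgroup P} (h : K ≤ K') (hi : K.index = K'.index) :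
    K = K' := by
  have h1 := Subgroup.relIndex_mul_index h
  rw [hi] at h1
  have h2 : K'.index ≠ 0 := Subgroup.index_ne_zero_of_finite
  have h3 : K.relIndex K' = 1 := by
    have : K.relIndex K' * K'.index = 1 * K'.index := by rw [h1, one_mul]
    exact Nat.eq_of_mul_eq_mul_right (Nat.pos_of_ne_zero h2) this
  exact le_antisymm h (Subgroup.relIndex_eq_one.1 h3)

theorem normal_of_mem_maxs (hP : IsPGroup p P) {L : Subgroup P} (hL : L ∈ maxs P p) :
    L.Normal := by
  obtain ⟨n, hn⟩ := IsPGroup.iff_card.1 hP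
  have hL' : L.index = p := hL
  apply Subgroup.normal_of_index_eq_minFac_card
  have hn0 : n ≠ 0 := by
    intro h0
    have h1 := Subgroup.index_dvd_card L
    rw [hn, h0, pow_zero, hL'] at h1
    exact hp.out.one_lt.ne' (Nat.dvd_one.1 h1)
  rw [hn, Nat.Prime.pow_minFac hp.out hn0, hL']

theorem ncard_ge_index (N : Subgroup P) [N.Normal] (m : ℕ) :
    {L : Subgroup P | N ≤ L ∧ L.index = m}.ncard =
      {L' : Subgroup (P ⧸ N) | L'.index = m}.ncard := by
  have h : {L : Subgroup P | N ≤ L ∧ L.index = m} =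
      (Subgroup.comap (QuotientGroup.mk' N)) '' {L' : Subgroup (P ⧸ N) | L'.index = m} := by
    ext L
    constructor
    · rintro ⟨hNL, hL⟩
      refine ⟨L.map (QuotientGroup.mk' N), ?_, ?_⟩
      · show (L.map (QuotientGroup.mk' N)).index = m
        rw [← Subgroup.index_comap_of_surjective _ (QuotientGroup.mk'_surjective N),
          QuotientGroup.comap_map_mk', sup_eq_right.2 hNL]
        exact hL
      · rw [QuotientGroup.comap_map_mk', sup_eq_right.2 hNL]
    · rintro ⟨L', hL', rfl⟩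
      refine ⟨QuotientGroup.le_comap_mk' N L', ?_⟩
      show (Subgroup.comap (QuotientGroup.mk' N) L').index = m
      rw [Subgroup.index_comap_of_surjective _ (QuotientGroup.mk'_surjective N)]
      exact hL'
  rw [h, Set.ncard_image_of_injective _
    (Subgroup.comap_injective (QuotientGroup.mk'_surjective N))]

/-- (F1) a member of `kers` lies in exactly `p + 1` subgroups of index `p`. -/
theorem ncard_maxs_ge_of_mem_kers {K : Subgroup P} (hK : K ∈ kers P p) :
    {L : Subgroup P | K ≤ L ∧ L.index = p}.ncard = p + 1 := by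
  obtain ⟨hKn, hKi, hKe⟩ := hK
  haveI := hKn
  rw [ncard_ge_index K p]
  have hQ : Nat.card (P ⧸ K) = p ^ 2 := by rw [← Subgroup.index_eq_card]; exact hKi
  have hexp : ∀ a : P ⧸ K, a ^ p = 1 := by
    intro a
    induction a using QuotientGroup.induction_on with
    | H x =>
      rw [← QuotientGroup.mk_pow, QuotientGroup.eq_one_iff]
      exact hKe x
  have h1 := Cfsg.Agent.Lib.Helper1.card_subgroups_prime_of_sq hQ hexp
  have h2 : {L' : Subgroup (P ⧸ K) | L'.index = p} =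
      {L' : Subgroup (P ⧸ K) | Nat.card L' = p} := by
    ext L'
    have h3 := Subgroup.card_mul_index L'
    rw [hQ, pow_two] at h3
    constructor
    · intro h
      have h4 : L'.index = p := h
      rw [h4] at h3
      exact Nat.eq_of_mul_eq_mul_right hp.out.pos h3
    · intro h
      have h4 : Nat.card L' = p := h
      rw [h4] at h3
      exact Nat.eq_of_mul_eq_mul_left hp.out.pos h3
  rw [h2, ← Nat.card_coe_set_eq]
  exact h1

/-- (F2') -/
theorem ncard_maxs_ge_normal_modEq (hP : IsPGroup p P) (N : Subgroup P) [N.Normal]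
    (hN : N ≠ ⊤) : {L : Subgroup P | N ≤ L ∧ L.index = p}.ncard ≡ 1 [MOD p] := by
  rw [ncard_ge_index N p]
  have hQp : IsPGroup p (P ⧸ N) := hP.to_quotient N
  obtain ⟨k, hk⟩ := IsPGroup.iff_card.1 hQp
  have hk0 : k ≠ 0 := by
    intro h0
    apply hN
    rw [← Subgroup.index_eq_one, Subgroup.index_eq_card, hk, h0, pow_zero]
  have hpk : p ^ k = p ^ (k - 1) * p := by
    rw [← pow_succ]; congr 1; omega
  have h2 : {L' : Subgroup (P ⧸ N) | L'.index = p} =
      {L' : Subgroup (P ⧸ N) | Nat.card L' = p ^ (k - 1)} := by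
    ext L'
    have h3 := Subgroup.card_mul_index L'
    rw [hk, hpk] at h3
    constructor
    · intro h
      have h4 : L'.index = p := h
      rw [h4] at h3
      exact Nat.eq_of_mul_eq_mul_right hp.out.pos h3
    · intro h
      have h4 : Nat.card L' = p ^ (k - 1) := h
      rw [h4] at h3
      exact Nat.eq_of_mul_eq_mul_left (pow_pos hp.out.pos _) h3
  rw [h2, ← Nat.card_coe_set_eq]
  exact Cfsg.Agent.S3975.result (G := P ⧸ N) p (k - 1) hp.out
    (by rw [hk]; exact pow_dvd_pow p (by omega))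

/-- (F2) -/
theorem ncard_maxs_ge_modEq (hP : IsPGroup p P) (H L₀ : Subgroup P) (hL₀ : L₀ ∈ maxs P p)
    (hHL : H ≤ L₀) : {L : Subgroup P | L ∈ maxs P p ∧ H ≤ L}.ncard ≡ 1 [MOD p] := by
  haveI := normal_of_mem_maxs hP hL₀
  have hNL : Subgroup.normalClosure (H : Set P) ≤ L₀ := Subgroup.normalClosure_le_normal hHL
  have hN : Subgroup.normalClosure (H : Set P) ≠ ⊤ := by
    intro h
    rw [h, top_le_iff] at hNL
    have h1 : L₀.index = p := hL₀
    rw [hNL, Subgroup.index_top] at h1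
    exact hp.out.one_lt.ne h1
  have h2 : {L : Subgroup P | L ∈ maxs P p ∧ H ≤ L} =
      {L : Subgroup P | Subgroup.normalClosure (H : Set P) ≤ L ∧ L.index = p} := by
    ext L
    constructor
    · rintro ⟨hL, hHL'⟩
      haveI := normal_of_mem_maxs hP hL
      exact ⟨Subgroup.normalClosure_le_normal hHL', hL⟩
    · rintro ⟨hNL', hL⟩
      exact ⟨hL, Subgroup.le_normalClosure.trans hNL'⟩
  rw [h2]
  exact ncard_maxs_ge_normal_modEq hP _ hN

/-- (B2) -/
theorem inf_mem_kers (hP : IsPGroup p P) {L₁ L₂ : Subgroup P} (h₁ : L₁ ∈ maxs P p)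
    (h₂ : L₂ ∈ maxs P p) (hne : L₁ ≠ L₂) : L₁ ⊓ L₂ ∈ kers P p := by
  haveI := normal_of_mem_maxs hP h₁
  haveI := normal_of_mem_maxs hP h₂
  have hi₁ : L₁.index = p := h₁
  have hi₂ : L₂.index = p := h₂
  refine ⟨inferInstance, ?_, ?_⟩
  · have htop : L₁ ⊔ L₂ = ⊤ := by
      rw [← Subgroup.index_eq_one]
      have h1 : (L₁ ⊔ L₂).index ∣ p := hi₂ ▸ Subgroup.index_dvd_of_le le_sup_right
      rcases (Nat.dvd_prime hp.out).1 h1 with h | h
      · exact h
      · exfalso
        have h3 : L₂ = L₁ ⊔ L₂ := eq_of_le_of_index_eq le_sup_right (by rw [h, hi₂])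
        have h4 : L₁ ≤ L₂ := by rw [h3]; exact le_sup_left
        exact hne (eq_of_le_of_index_eq h4 (by rw [hi₁, hi₂]))
    have h5 : L₂.relIndex L₁ = p := by
      rw [← Subgroup.relIndex_sup_right L₁ L₂, htop, Subgroup.relIndex_top_right, hi₂]
    have h6 : (L₁ ⊓ L₂).relIndex L₁ = p := by
      rw [inf_comm, Subgroup.inf_relIndex_right, h5]
    have h7 := Subgroup.relIndex_mul_index (inf_le_left : L₁ ⊓ L₂ ≤ L₁)
    rw [h6, hi₁] at h7
    rw [← h7, pow_two]
  · intro x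
    refine ⟨?_, ?_⟩
    · have := Subgroup.pow_index_mem L₁ x
      rwa [hi₁] at this
    · have := Subgroup.pow_index_mem L₂ x
      rwa [hi₂] at this

/-- pair count -/
theorem pair_count (hP : IsPGroup p P) (H : Subgroup P) :
    {L : Subgroup P | L ∈ maxs P p ∧ H ≤ L}.ncard * {L : Subgroup P | L ∈ maxs P p ∧ H ≤ L}.ncard -
      {L : Subgroup P | L ∈ maxs P p ∧ H ≤ L}.ncard =
    {K : Subgroup P | K ∈ kers P p ∧ H ≤ K}.ncard * ((p + 1) * p) := by
  classical
  obtain ⟨MH, hMH⟩ : ∃ MH : Finset (Subgroup P),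
      MH = fs {L : Subgroup P | L ∈ maxs P p ∧ H ≤ L} := ⟨_, rfl⟩
  obtain ⟨KH, hKH⟩ : ∃ KH : Finset (Subgroup P),
      KH = fs {K : Subgroup P | K ∈ kers P p ∧ H ≤ K} := ⟨_, rfl⟩
  have hMHm : ∀ L, L ∈ MH ↔ (L ∈ maxs P p ∧ H ≤ L) := fun L => by rw [hMH, mem_fs]; rfl
  have hKHm : ∀ K, K ∈ KH ↔ (K ∈ kers P p ∧ H ≤ K) := fun K => by rw [hKH, mem_fs]; rfl
  rw [← card_fs, ← card_fs, ← hMH, ← hKH, ← Finset.offDiag_card]
  have hmaps : Set.MapsTo (fun x : Subgroup P × Subgroup P => x.1 ⊓ x.2)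
      (MH.offDiag : Set (Subgroup P × Subgroup P)) (KH : Set (Subgroup P)) := by
    rintro ⟨L₁, L₂⟩ hx
    have hx' := Finset.mem_offDiag.1 (Finset.mem_coe.1 hx)
    obtain ⟨h1, h2, h3⟩ := hx'
    rw [hMHm] at h1 h2
    apply Finset.mem_coe.2
    rw [hKHm]
    exact ⟨inf_mem_kers hP h1.1 h2.1 h3, le_inf h1.2 h2.2⟩
  rw [Finset.card_eq_sum_card_fiberwise hmaps]
  apply Finset.sum_const_nat
  intro K hK
  rw [hKHm] at hK
  have hfib : {x ∈ MH.offDiag | x.1 ⊓ x.2 = K} =
      (fs {L : Subgroup P | K ≤ L ∧ L.index = p}).offDiag := by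
    ext ⟨L₁, L₂⟩
    rw [Finset.mem_filter, Finset.mem_offDiag, Finset.mem_offDiag, hMHm, hMHm, mem_fs, mem_fs]
    constructor
    · rintro ⟨⟨h1, h2, h3⟩, h4⟩
      have h5 : K ≤ L₁ := by rw [← h4]; exact inf_le_left
      have h6 : K ≤ L₂ := by rw [← h4]; exact inf_le_right
      exact ⟨⟨h5, h1.1⟩, ⟨h6, h2.1⟩, h3⟩
    · rintro ⟨⟨h5, h1⟩, ⟨h6, h2⟩, h3⟩
      refine ⟨⟨⟨h1, hK.2.trans h5⟩, ⟨h2, hK.2.trans h6⟩, h3⟩, ?_⟩
      symm
      apply eq_of_le_of_index_eq (le_inf h5 h6)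
      have h7 := inf_mem_kers hP h1 h2 h3
      rw [hK.1.2.1, h7.2.1]
  rw [hfib, Finset.offDiag_card, card_fs, ncard_maxs_ge_of_mem_kers hK.1]
  have h0 : (p + 1) * (p + 1) = (p + 1) * p + (p + 1) := by ring
  rw [h0, Nat.add_sub_cancel]

/-- per-subgroup congruence -/
theorem perH (hP : IsPGroup p P) (H L₀ : Subgroup P) (hL₀ : L₀ ∈ maxs P p) (hHL : H ≤ L₀) :
    {L : Subgroup P | L ∈ maxs P p ∧ H ≤ L}.ncard ≡
      1 + p * {K : Subgroup P | K ∈ kers P p ∧ H ≤ K}.ncard [MOD p ^ 2] :=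
  arith hp.out (ncard_maxs_ge_modEq hP H L₀ hL₀ hHL) (pair_count hP H)

/-- every subgroup of order `p^a`, `a < n`, lies in a subgroup of index `p`. -/
theorem exists_maxs_ge (n a : ℕ) (hPc : Nat.card P = p ^ n) (ha : a < n) (H : Subgroup P)
    (hH : Nat.card H = p ^ a) : ∃ L₀ ∈ maxs P p, H ≤ L₀ := by
  obtain ⟨L₀, hL₀c, hHL⟩ := Sylow.exists_subgroup_card_pow_prime_le p
    (by rw [hPc]; exact pow_dvd_pow p (Nat.sub_le n 1)) H hH (by omega : a ≤ n - 1)
  refine ⟨L₀, ?_, hHL⟩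
  have h1 := Subgroup.card_mul_index L₀
  have hpn : p ^ n = p ^ (n - 1) * p := by
    rw [← pow_succ]; congr 1; omega
  rw [hL₀c, hPc, hpn] at h1
  exact Nat.eq_of_mul_eq_mul_left (pow_pos hp.out.pos _) h1

/-- The enumeration principle modulo `p²`. -/
theorem recursion (n a : ℕ) (hPc : Nat.card P = p ^ n) (ha : a < n) :
    ∑ L ∈ fs (maxs P p), (subs L (p ^ a)).ncard ≡
      (subs (⊤ : Subgroup P) (p ^ a)).ncard +
        p * ∑ K ∈ fs (kers P p), (subs K (p ^ a)).ncard [MOD p ^ 2] := by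
  classical
  have hP : IsPGroup p P := IsPGroup.of_card hPc
  obtain ⟨Sf, hSf⟩ : ∃ Sf : Finset (Subgroup P), Sf = fs (subs (⊤ : Subgroup P) (p ^ a)) :=
    ⟨_, rfl⟩
  have hSfm : ∀ H, H ∈ Sf ↔ Nat.card H = p ^ a := fun H => by
    rw [hSf, mem_fs]
    exact ⟨fun h => h.2, fun h => ⟨le_top, h⟩⟩
  have e1 : ∀ (X : Finset (Subgroup P)),
      ∑ L ∈ X, (subs L (p ^ a)).ncard = ∑ H ∈ Sf, {L ∈ X | H ≤ L}.card := by
    intro X
    have h1 := Finset.sum_card_bipartiteAbove_eq_sum_card_bipartiteBelow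
      (fun (H L : Subgroup P) => H ≤ L) (s := Sf) (t := X)
    have h2 : ∀ L ∈ X, (subs L (p ^ a)).ncard = (Finset.bipartiteBelow (fun (H L : Subgroup P) => H ≤ L) Sf L).card := by
      intro L _
      rw [← Set.ncard_coe_finset]
      congr 1
      ext H
      rw [Finset.mem_coe, Finset.bipartiteBelow, Finset.mem_filter, hSfm]
      exact ⟨fun h => ⟨h.2, h.1⟩, fun h => ⟨h.2, h.1⟩⟩
    rw [Finset.sum_congr rfl h2, ← h1]
    rfl
  rw [e1, e1, Finset.mul_sum]
  have hper : ∀ H ∈ Sf, {L ∈ fs (maxs P p) | H ≤ L}.card ≡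
      1 + p * {K ∈ fs (kers P p) | H ≤ K}.card [MOD p ^ 2] := by
    intro H hH
    rw [hSfm] at hH
    obtain ⟨L₀, hL₀, hHL⟩ := exists_maxs_ge n a hPc ha H hH
    have h1 := perH hP H L₀ hL₀ hHL
    have h2 : {L ∈ fs (maxs P p) | H ≤ L}.card =
        {L : Subgroup P | L ∈ maxs P p ∧ H ≤ L}.ncard := by
      rw [← Set.ncard_coe_finset]
      congr 1
      ext L
      rw [Finset.mem_coe, Finset.mem_filter, mem_fs]
      rfl
    have h3 : {K ∈ fs (kers P p) | H ≤ K}.card =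
        {K : Subgroup P | K ∈ kers P p ∧ H ≤ K}.ncard := by
      rw [← Set.ncard_coe_finset]
      congr 1
      ext K
      rw [Finset.mem_coe, Finset.mem_filter, mem_fs]
      rfl
    rw [h2, h3]
    exact h1
  have h4 := sum_modEq Sf _ _ (p ^ 2) hper
  rw [Finset.sum_add_distrib, Finset.sum_const, smul_eq_mul, mul_one] at h4
  rw [← card_fs, ← hSf]
  exact h4

end Lattice

end Cfsg.Agent.Lib.Lead.Kul
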