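import Mathlib
import Cfsg.Agent.Lib.Lead.Kul3
import Cfsg.Agent.Lib.Lead.ES1
import Cfsg.Agent.Lib.Helper7.GC2

set_option autoImplicit false

/-!
# Maximal subgroups of a finite `p`-group: their number, and the cyclic ones
-/

universe u

namespace Cfsg.Agent.Lib.Lead.Kul

open scoped Pointwise

theorem comm_of_cyc {H : Type*} [Group H] [IsCyclic H] (x y : H) : x * y = y * x := by
  obtain ⟨g, hg⟩ := IsCyclic.exists_generator (α := H)
  obtain ⟨m, rfl⟩ := Subgroup.mem_zpowers_iff.mp (hg x)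
  obtain ⟨n, rfl⟩ := Subgroup.mem_zpowers_iff.mp (hg y)
  exact (Commute.zpow_zpow_self g m n).eq

section Base

variable {p : ℕ} [hp : Fact p.Prime]

/-- elementary abelian case -/
theorem ncard_maxs_modEq_of_elem {E : Type u} [Group E] [Finite E]
    (hcomm : ∀ a b : E, a * b = b * a) (hexp : ∀ a : E, a ^ p = 1)
    (h2 : 1 < (maxs E p).ncard) : (maxs E p).ncard ≡ 1 + p [MOD p ^ 2] := by
  have hE : IsPGroup p E := fun a => ⟨1, by rw [pow_one]; exact hexp a⟩
  obtain ⟨d, hd⟩ := IsPGroup.iff_card.1 hE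
  obtain ⟨L₁, hL₁, L₂, hL₂, hne⟩ := (Set.one_lt_ncard (Set.toFinite _)).1 h2
  have hd2 : 2 ≤ d := by
    by_contra hlt
    have h1 : ∀ L ∈ maxs E p, L = ⊥ := by
      intro L hL
      have h3 := Subgroup.card_mul_index L
      rw [hd, (hL : L.index = p)] at h3
      have h4 : p ^ d ≤ p ^ 1 := Nat.pow_le_pow_right hp.out.pos (by omega)
      rw [pow_one] at h4
      have h5 : Nat.card L * p ≤ 1 * p := by rw [h3, one_mul]; exact h4
      have h6 : Nat.card L ≤ 1 := Nat.le_of_mul_le_mul_right h5 hp.out.pos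
      have h7 : Nat.card L = 1 := le_antisymm h6 Nat.card_pos
      exact Subgroup.card_eq_one.1 h7
    exact hne ((h1 L₁ hL₁).trans (h1 L₂ hL₂).symm)
  have h1 := perH hE ⊥ L₁ hL₁ bot_le
  have h3 : {L : Subgroup E | L ∈ maxs E p ∧ ⊥ ≤ L} = maxs E p := by
    ext L
    exact ⟨fun h => h.1, fun h => ⟨h, bot_le⟩⟩
  have h4 : {K : Subgroup E | K ∈ kers E p ∧ ⊥ ≤ K} =
      subs (⊤ : Subgroup E) (p ^ (d - 2)) := by
    ext K
    have h5 := Subgroup.card_mul_index K
    rw [hd] at h5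
    have hpd : p ^ d = p ^ (d - 2) * p ^ 2 := by
      rw [← pow_add]; congr 1; omega
    constructor
    · rintro ⟨⟨_, hKi, _⟩, _⟩
      refine ⟨le_top, ?_⟩
      rw [hKi, hpd] at h5
      exact Nat.eq_of_mul_eq_mul_right (pow_pos hp.out.pos 2) h5
    · rintro ⟨_, hKc⟩
      refine ⟨⟨?_, ?_, ?_⟩, bot_le⟩
      · exact ⟨fun n hn g => by rw [hcomm g n, mul_inv_cancel_right]; exact hn⟩
      · rw [hKc, hpd] at h5
        exact Nat.eq_of_mul_eq_mul_left (pow_pos hp.out.pos _) h5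
      · intro x
        rw [hexp x]; exact one_mem K
  rw [h3, h4] at h1
  have h6 : (subs (⊤ : Subgroup E) (p ^ (d - 2))).ncard ≡ 1 [MOD p] :=
    subs_modEq_one ⊤ (d - 2) (by
      rw [Subgroup.card_top, hd]; exact pow_dvd_pow p (by omega))
  have h7 : p * (subs (⊤ : Subgroup E) (p ^ (d - 2))).ncard ≡ p * 1 [MOD p * p] :=
    Nat.ModEq.mul_left' p h6
  rw [mul_one, ← pow_two] at h7
  exact h1.trans (Nat.ModEq.add_left 1 h7)

variable {P : Type u} [Group P] [Finite P]

/-- (B6) the number of maximal subgroups of a `p`-group with at least two of them. -/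
theorem ncard_maxs_modEq (hP : IsPGroup p P) (h2 : 1 < (maxs P p).ncard) :
    (maxs P p).ncard ≡ 1 + p [MOD p ^ 2] := by
  obtain ⟨Φ, hΦ⟩ : ∃ Φ : Subgroup P, Φ = ⨅ L : ↥(maxs P p), (L : Subgroup P) := ⟨_, rfl⟩
  haveI hΦn : Φ.Normal := by
    rw [hΦ]; exact Subgroup.normal_iInf_normal (fun L => normal_of_mem_maxs hP L.2)
  have hΦle : ∀ L ∈ maxs P p, Φ ≤ L := fun L hL => by
    rw [hΦ]; exact iInf_le (fun L : ↥(maxs P p) => (L : Subgroup P)) ⟨L, hL⟩
  have hmem : ∀ x : P, (∀ L ∈ maxs P p, x ∈ L) → x ∈ Φ := by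
    intro x hx
    rw [hΦ, Subgroup.mem_iInf]
    intro L
    exact hx L L.2
  have h1 : maxs P p = {L : Subgroup P | Φ ≤ L ∧ L.index = p} := by
    ext L
    exact ⟨fun h => ⟨hΦle L h, h⟩, fun h => h.2⟩
  have h3 : (maxs P p).ncard = (maxs (P ⧸ Φ) p).ncard := by
    conv_lhs => rw [h1]
    rw [ncard_ge_index Φ p]
    rfl
  have hcomm : ∀ a b : P ⧸ Φ, a * b = b * a := by
    intro a b
    obtain ⟨x, rfl⟩ := QuotientGroup.mk_surjective a
    obtain ⟨y, rfl⟩ := QuotientGroup.mk_surjective b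
    rw [← QuotientGroup.mk_mul, ← QuotientGroup.mk_mul, QuotientGroup.eq]
    apply hmem
    intro L hL
    haveI := normal_of_mem_maxs hP hL
    have hc : Nat.card (P ⧸ L) = p := by
      rw [← Subgroup.index_eq_card]; exact hL
    haveI : IsCyclic (P ⧸ L) := isCyclic_of_prime_card hc
    have h5 := comm_of_cyc (QuotientGroup.mk (s := L) x) (QuotientGroup.mk y)
    rw [← QuotientGroup.mk_mul, ← QuotientGroup.mk_mul, QuotientGroup.eq] at h5
    exact h5
  have hexp : ∀ a : P ⧸ Φ, a ^ p = 1 := by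
    intro a
    obtain ⟨x, rfl⟩ := QuotientGroup.mk_surjective a
    rw [← QuotientGroup.mk_pow, QuotientGroup.eq_one_iff]
    apply hmem
    intro L hL
    haveI := normal_of_mem_maxs hP hL
    have h5 := Subgroup.pow_index_mem L x
    rwa [(hL : L.index = p)] at h5
  rw [h3]
  exact ncard_maxs_modEq_of_elem hcomm hexp (by rw [← h3]; exact h2)

end Base

/-! ### Cyclic maximal subgroups -/

section Cyc

variable {P : Type u} [Group P] [Finite P] {p : ℕ} [hp : Fact p.Prime]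

theorem zpowers_pow_normal (x : P) (hC : (Subgroup.zpowers x).Normal) (k : ℕ) :
    (Subgroup.zpowers (x ^ k)).Normal := by
  constructor
  intro w hw g
  obtain ⟨i, rfl⟩ := Subgroup.mem_zpowers_iff.1 hw
  obtain ⟨m, hm⟩ := Subgroup.mem_zpowers_iff.1 (hC.conj_mem x (Subgroup.mem_zpowers x) g)
  have h1 : g * (x ^ k) * g⁻¹ = (x ^ k) ^ m := by
    rw [← conj_pow, ← hm, ← zpow_natCast, ← zpow_mul, mul_comm, zpow_mul, zpow_natCast]
  rw [← conj_zpow, h1]
  exact Subgroup.zpow_mem _ (Subgroup.zpow_mem _ (Subgroup.mem_zpowers _) m) i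

theorem orderOf_of_pow_orderOf (hP : IsPGroup p P) (g : P) (k : ℕ) (hk : 1 ≤ k)
    (h : orderOf (g ^ p) = p ^ k) : orderOf g = p ^ (k + 1) := by
  obtain ⟨e, he⟩ := IsPGroup.iff_orderOf.1 hP g
  have he1 : e ≠ 0 := by
    intro h0
    rw [h0, pow_zero, orderOf_eq_one_iff] at he
    rw [he, one_pow, orderOf_one] at h
    have : 1 < p ^ k := Nat.one_lt_pow (by omega) hp.out.one_lt
    omega
  have h1 : orderOf (g ^ p) = orderOf g / p :=
    orderOf_pow_of_dvd hp.out.pos.ne' (by rw [he]; exact dvd_pow_self p he1)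
  rw [he] at h1 ⊢
  rw [h] at h1
  have h2 : p ^ e = p ^ (e - 1) * p := by
    rw [← pow_succ]; congr 1; omega
  rw [h2, Nat.mul_div_cancel _ hp.out.pos] at h1
  have h3 : k = e - 1 := Nat.pow_right_injective hp.out.two_le h1
  congr 1
  omega

theorem exists_nat_pow_of_mem_zpowers {x w : P} (h : w ∈ Subgroup.zpowers x) :
    ∃ j : ℕ, x ^ j = w :=
  (Submonoid.mem_powers_iff _ _).1 (mem_powers_iff_mem_zpowers.2 h)

/-- Structure of a non-cyclic `p`-group (`p` odd, order at least `p³`) with a cyclic maximal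
subgroup: exactly one maximal subgroup is not cyclic. -/
theorem cyc_count (hp2 : p ≠ 2) (n : ℕ) (hn : 3 ≤ n) (hPc : Nat.card P = p ^ n)
    (hnc : ¬ IsCyclic P) (x : P) (hx : orderOf x = p ^ (n - 1)) :
    ∃ K₀ ∈ maxs P p, ∀ L ∈ maxs P p, (IsCyclic L ↔ L ≠ K₀) := by
  have hpp := hp.out
  have hP : IsPGroup p P := IsPGroup.of_card hPc
  have hpn : p ^ n = p ^ (n - 1) * p := by
    rw [← pow_succ]; congr 1; omega
  -- the cyclic maximal subgroup
  have hCc : Nat.card (Subgroup.zpowers x) = p ^ (n - 1) := by rw [Nat.card_zpowers, hx]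
  have hCi : (Subgroup.zpowers x).index = p := by
    have h1 := Subgroup.card_mul_index (Subgroup.zpowers x)
    rw [hCc, hPc, hpn] at h1
    exact Nat.eq_of_mul_eq_mul_left (pow_pos hpp.pos _) h1
  have hCn : (Subgroup.zpowers x).Normal := normal_of_mem_maxs hP hCi
  -- y = x^p, z = x^(p^2)
  have hyo : orderOf (x ^ p) = p ^ (n - 2) := by
    rw [orderOf_pow_of_dvd hpp.pos.ne' (by rw [hx]; exact dvd_pow_self p (by omega)), hx]
    have : p ^ (n - 1) = p ^ (n - 2) * p := by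
      rw [← pow_succ]; congr 1; omega
    rw [this, Nat.mul_div_cancel _ hpp.pos]
  have hzo : orderOf (x ^ p ^ 2) = p ^ (n - 3) := by
    rw [orderOf_pow_of_dvd (pow_pos hpp.pos 2).ne' (by rw [hx]; exact pow_dvd_pow p (by omega)),
      hx]
    have : p ^ (n - 1) = p ^ (n - 3) * p ^ 2 := by
      rw [← pow_add]; congr 1; omega
    rw [this, Nat.mul_div_cancel _ (pow_pos hpp.pos 2)]
  have hzy : x ^ p ^ 2 = (x ^ p) ^ p := by rw [← pow_mul, pow_two]
  haveI hDn : (Subgroup.zpowers (x ^ p)).Normal := zpowers_pow_normal x hCn p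
  haveI hD2n : (Subgroup.zpowers (x ^ p ^ 2)).Normal := zpowers_pow_normal x hCn (p ^ 2)
  have hD2D : Subgroup.zpowers (x ^ p ^ 2) ≤ Subgroup.zpowers (x ^ p) := by
    rw [Subgroup.zpowers_le, hzy]
    exact Subgroup.pow_mem _ (Subgroup.mem_zpowers _) p
  have hDc : Nat.card (Subgroup.zpowers (x ^ p)) = p ^ (n - 2) := by
    rw [Nat.card_zpowers, hyo]
  have hD2c : Nat.card (Subgroup.zpowers (x ^ p ^ 2)) = p ^ (n - 3) := by
    rw [Nat.card_zpowers, hzo]
  have hlt : p ^ (n - 3) < p ^ (n - 2) := Nat.pow_lt_pow_right hpp.one_lt (by omega)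
  -- D is not contained in D₂
  have hDnotle : ∀ T : Subgroup P, Subgroup.zpowers (x ^ p) ≤ T →
      T ≤ Subgroup.zpowers (x ^ p ^ 2) → False := by
    intro T h1 h2
    have h3 := Subgroup.card_le_of_le (h1.trans h2)
    rw [hDc, hD2c] at h3
    omega
  -- multiples of p
  have hpow_mem_D2 : ∀ j : ℕ, p ∣ j → (x ^ p) ^ j ∈ Subgroup.zpowers (x ^ p ^ 2) := by
    rintro j ⟨i, rfl⟩
    rw [pow_mul, ← hzy]
    exact Subgroup.pow_mem _ (Subgroup.mem_zpowers _) i
  -- (i) every p-th power lies in D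
  have hpowD : ∀ g : P, g ^ p ∈ Subgroup.zpowers (x ^ p) := by
    intro g
    have h1 : g ^ p ∈ Subgroup.zpowers x := by
      have := Subgroup.pow_index_mem (Subgroup.zpowers x) g
      rwa [hCi] at this
    obtain ⟨j, hj⟩ := exists_nat_pow_of_mem_zpowers h1
    by_cases hpj : p ∣ j
    · obtain ⟨i, rfl⟩ := hpj
      rw [← hj, pow_mul]
      exact Subgroup.pow_mem _ (Subgroup.mem_zpowers _) i
    · exfalso
      have hcop : (orderOf x).Coprime j := by
        rw [hx]
        exact Nat.Coprime.pow_left _ ((Nat.Prime.coprime_iff_not_dvd hpp).2 hpj)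
      have h2 : orderOf (g ^ p) = p ^ (n - 1) := by
        rw [← hj, hcop.orderOf_pow, hx]
      have h3 := orderOf_of_pow_orderOf hP g (n - 1) (by omega) h2
      apply hnc
      apply isCyclic_of_orderOf_eq_card g
      rw [h3, hPc]
      congr 1
      omega
  -- the quotient by D₂
  obtain ⟨φ, hφ⟩ : ∃ φ : P →* P ⧸ Subgroup.zpowers (x ^ p ^ 2),
      φ = QuotientGroup.mk' (Subgroup.zpowers (x ^ p ^ 2)) := ⟨_, rfl⟩
  have hφsurj : Function.Surjective φ := by
    rw [hφ]; exact QuotientGroup.mk'_surjective _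
  have hφone : ∀ g : P, φ g = 1 ↔ g ∈ Subgroup.zpowers (x ^ p ^ 2) := by
    intro g
    rw [hφ]
    exact QuotientGroup.eq_one_iff g
  have hQP : IsPGroup p (P ⧸ Subgroup.zpowers (x ^ p ^ 2)) := hP.to_quotient _
  obtain ⟨yb, hyb⟩ : ∃ yb : P ⧸ Subgroup.zpowers (x ^ p ^ 2), yb = φ (x ^ p) := ⟨_, rfl⟩
  have hybp : yb ^ p = 1 := by
    rw [hyb, ← map_pow, hφone, ← hzy]
    exact Subgroup.mem_zpowers _
  have hyb1 : yb ≠ 1 := by
    intro h
    rw [hyb, hφone] at h
    exact hDnotle (Subgroup.zpowers (x ^ p)) le_rfl (Subgroup.zpowers_le.2 h)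
  have hybo : orderOf yb = p := orderOf_eq_prime hybp hyb1
  have hybmap : Subgroup.zpowers yb = (Subgroup.zpowers (x ^ p)).map φ := by
    rw [hyb, MonoidHom.map_zpowers]
  haveI hybn : (Subgroup.zpowers yb).Normal := by
    rw [hybmap]
    exact Subgroup.Normal.map hDn φ hφsurj
  have hybc : Nat.card (Subgroup.zpowers yb) = p := by rw [Nat.card_zpowers, hybo]
  have hybZ : Subgroup.zpowers yb ≤ Subgroup.center (P ⧸ Subgroup.zpowers (x ^ p ^ 2)) :=
    Cfsg.Agent.Lib.Helper7.GC.le_center_of_normal_card_prime hQP _ hybc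
  have hcentral : ∀ (i : ℕ) (a : P ⧸ Subgroup.zpowers (x ^ p ^ 2)), Commute (yb ^ i) a := by
    intro i a
    have h1 : yb ^ i ∈ Subgroup.center (P ⧸ Subgroup.zpowers (x ^ p ^ 2)) :=
      hybZ (Subgroup.pow_mem _ (Subgroup.mem_zpowers _) i)
    exact (Subgroup.mem_center_iff.1 h1 a).symm
  -- commutators
  have hcommD : ∀ a' b' : P, (a' * b')⁻¹ * (b' * a') ∈ Subgroup.zpowers (x ^ p) := by
    intro a' b'
    have hc : Nat.card (P ⧸ Subgroup.zpowers (x ^ p)) = p ^ 2 := by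
      rw [← Subgroup.index_eq_card]
      have h1 := Subgroup.card_mul_index (Subgroup.zpowers (x ^ p))
      have h2 : p ^ n = p ^ (n - 2) * p ^ 2 := by
        rw [← pow_add]; congr 1; omega
      rw [hDc, hPc, h2] at h1
      exact Nat.eq_of_mul_eq_mul_left (pow_pos hpp.pos _) h1
    have h3 := IsPGroup.commutative_of_card_eq_prime_sq hc
      (QuotientGroup.mk (s := Subgroup.zpowers (x ^ p)) a') (QuotientGroup.mk b')
    rw [← QuotientGroup.mk_mul, ← QuotientGroup.mk_mul, QuotientGroup.eq] at h3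
    exact h3
  have hpowhom : ∀ a b : P ⧸ Subgroup.zpowers (x ^ p ^ 2), (a * b) ^ p = a ^ p * b ^ p := by
    intro a b
    obtain ⟨a', rfl⟩ := hφsurj a
    obtain ⟨b', rfl⟩ := hφsurj b
    obtain ⟨i, hi⟩ := exists_nat_pow_of_mem_zpowers (hcommD a' b')
    have hyx : φ b' * φ a' = φ a' * φ b' * yb ^ i := by
      rw [hyb, ← map_pow, hi, ← map_mul, ← map_mul, ← map_mul]
      congr 1
      group
    have h1 := Cfsg.Agent.Lib.Lead.ES.mul_pow_comm hyx (hcentral i _) (hcentral i _) p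
    have h2 : p ∣ p.choose 2 := Nat.Prime.dvd_choose_self hpp two_ne_zero (by
      have := hpp.two_le; omega)
    obtain ⟨t, ht⟩ := h2
    have h3 : (yb ^ i) ^ (p.choose 2) = 1 := by
      rw [ht, ← pow_mul, show i * (p * t) = p * (i * t) by ring, pow_mul, hybp, one_pow]
    rw [h1, h3, mul_one]
  obtain ⟨Ψ, hΨ⟩ : ∃ Ψ : P →* P ⧸ Subgroup.zpowers (x ^ p ^ 2), ∀ g, Ψ g = φ g ^ p :=
    ⟨{ toFun := fun g => φ g ^ p
       map_one' := by rw [map_one, one_pow]
       map_mul' := fun a b => by rw [map_mul, hpowhom] }, fun _ => rfl⟩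
  have hΨker : ∀ g : P, g ∈ Ψ.ker ↔ g ^ p ∈ Subgroup.zpowers (x ^ p ^ 2) := by
    intro g
    rw [MonoidHom.mem_ker, hΨ, ← map_pow, hφone]
  have hΨrange : Ψ.range ≤ Subgroup.zpowers yb := by
    rintro _ ⟨g, rfl⟩
    obtain ⟨j, hj⟩ := exists_nat_pow_of_mem_zpowers (hpowD g)
    rw [hΨ, ← map_pow, ← hj, map_pow, ← hyb]
    exact Subgroup.pow_mem _ (Subgroup.mem_zpowers _) j
  have hK0 : Ψ.ker ∈ maxs P p := by
    show Ψ.ker.index = p
    rw [Subgroup.index_ker]
    have h1 : Nat.card Ψ.range ∣ p := by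
      have h0 := Subgroup.card_dvd_of_le hΨrange
      rwa [hybc] at h0
    rcases (Nat.dvd_prime hpp).1 h1 with h | h
    · exfalso
      have h2 : Ψ.range = ⊥ := Subgroup.card_eq_one.1 h
      have h3 : Ψ x ∈ Ψ.range := ⟨x, rfl⟩
      rw [h2, Subgroup.mem_bot, hΨ, ← map_pow, ← hyb] at h3
      exact hyb1 h3
    · exact h
  refine ⟨Ψ.ker, hK0, ?_⟩
  intro L hL
  have hLi : L.index = p := hL
  have hLc : Nat.card L = p ^ (n - 1) := by
    have h1 := Subgroup.card_mul_index L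
    rw [hLi, hPc, hpn] at h1
    exact Nat.eq_of_mul_eq_mul_right hpp.pos h1
  -- (ii)
  have hii : IsCyclic L ↔ ∃ g ∈ L, g ^ p ∉ Subgroup.zpowers (x ^ p ^ 2) := by
    constructor
    · intro hcyc
      obtain ⟨g₀, hg₀⟩ := IsCyclic.exists_generator (α := L)
      have h1 : orderOf g₀ = Nat.card L := orderOf_eq_card_of_forall_mem_zpowers hg₀
      have h2 : orderOf (g₀ : P) = p ^ (n - 1) := by
        rw [Subgroup.orderOf_coe, h1, hLc]
      refine ⟨(g₀ : P), g₀.2, fun hmem => ?_⟩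
      have h3 : orderOf ((g₀ : P) ^ p) = p ^ (n - 2) := by
        rw [orderOf_pow_of_dvd hpp.pos.ne' (by rw [h2]; exact dvd_pow_self p (by omega)), h2]
        have : p ^ (n - 1) = p ^ (n - 2) * p := by
          rw [← pow_succ]; congr 1; omega
        rw [this, Nat.mul_div_cancel _ hpp.pos]
      have h4 : Subgroup.zpowers ((g₀ : P) ^ p) = Subgroup.zpowers (x ^ p) := by
        apply Subgroup.eq_of_le_of_card_ge (Subgroup.zpowers_le.2 (hpowD _))
        rw [Nat.card_zpowers, Nat.card_zpowers, h3, hyo]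
      exact hDnotle (Subgroup.zpowers ((g₀ : P) ^ p)) h4.ge (Subgroup.zpowers_le.2 hmem)
    · rintro ⟨g, hgL, hg⟩
      obtain ⟨j, hj⟩ := exists_nat_pow_of_mem_zpowers (hpowD g)
      have hpj : ¬ p ∣ j := fun h => hg (hj ▸ hpow_mem_D2 j h)
      have hcop : (orderOf (x ^ p)).Coprime j := by
        rw [hyo]
        exact Nat.Coprime.pow_left _ ((Nat.Prime.coprime_iff_not_dvd hpp).2 hpj)
      have h2 : orderOf (g ^ p) = p ^ (n - 2) := by
        rw [← hj, hcop.orderOf_pow, hyo]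
      have h3 := orderOf_of_pow_orderOf hP g (n - 2) (by omega) h2
      have h4 : orderOf (⟨g, hgL⟩ : L) = Nat.card L := by
        rw [Subgroup.orderOf_mk, h3, hLc]
        congr 1
        omega
      exact isCyclic_of_orderOf_eq_card _ h4
  rw [hii]
  constructor
  · rintro ⟨g, hgL, hg⟩ hLK
    apply hg
    rw [← hΨker, ← hLK]
    exact hgL
  · intro hne
    by_contra hcon
    push Not at hcon
    apply hne
    apply eq_of_le_of_index_eq
    · intro g hg
      rw [hΨker]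
      exact hcon g hg
    · rw [hLi, (hK0 : Ψ.ker.index = p)]

/-- (B7) the number of cyclic maximal subgroups is divisible by `p`. -/
theorem cyclic_maxs_dvd (hp2 : p ≠ 2) (n : ℕ) (hn : 3 ≤ n) (hPc : Nat.card P = p ^ n)
    (hnc : ¬ IsCyclic P) : p ∣ {L : Subgroup P | L ∈ maxs P p ∧ IsCyclic L}.ncard := by
  by_cases hex : ∃ C ∈ maxs P p, IsCyclic C
  · obtain ⟨C, hC, hCc⟩ := hex
    have hCcard : Nat.card C = p ^ (n - 1) := by
      have h1 := Subgroup.card_mul_index C
      have hpn : p ^ n = p ^ (n - 1) * p := by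
        rw [← pow_succ]; congr 1; omega
      rw [(hC : C.index = p), hPc, hpn] at h1
      exact Nat.eq_of_mul_eq_mul_right hp.out.pos h1
    obtain ⟨g₀, hg₀⟩ := IsCyclic.exists_generator (α := C)
    have h1 : orderOf g₀ = Nat.card C := orderOf_eq_card_of_forall_mem_zpowers hg₀
    have h2 : orderOf (g₀ : P) = p ^ (n - 1) := by
      rw [Subgroup.orderOf_coe, h1, hCcard]
    obtain ⟨K₀, hK₀, hall⟩ := cyc_count hp2 n hn hPc hnc (g₀ : P) h2
    have h3 : {L : Subgroup P | L ∈ maxs P p ∧ IsCyclic L} = maxs P p \ {K₀} := by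
      ext L
      constructor
      · rintro ⟨hL, hLc⟩
        exact ⟨hL, fun h => (hall L hL).1 hLc h⟩
      · rintro ⟨hL, hLK⟩
        exact ⟨hL, (hall L hL).2 hLK⟩
    rw [h3, Set.ncard_sdiff_singleton_of_mem hK₀]
    have h4 : (maxs P p).ncard ≡ 1 [MOD p] := by
      have h5 : maxs P p = subs (⊤ : Subgroup P) (p ^ (n - 1)) := by
        ext L
        have h6 := Subgroup.card_mul_index L
        have hpn : p ^ n = p ^ (n - 1) * p := by
          rw [← pow_succ]; congr 1; omega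
        rw [hPc, hpn] at h6
        constructor
        · intro hL
          refine ⟨le_top, ?_⟩
          rw [(hL : L.index = p)] at h6
          exact Nat.eq_of_mul_eq_mul_right hp.out.pos h6
        · rintro ⟨_, hLc⟩
          rw [hLc] at h6
          exact Nat.eq_of_mul_eq_mul_left (pow_pos hp.out.pos _) h6
      rw [h5]
      exact subs_modEq_one ⊤ (n - 1) (by
        rw [Subgroup.card_top, hPc]; exact pow_dvd_pow p (Nat.sub_le n 1))
    have h7 : 1 ≤ (maxs P p).ncard := (Set.ncard_pos (Set.toFinite _)).2 ⟨K₀, hK₀⟩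
    exact (Nat.modEq_iff_dvd' h7).1 h4.symm
  · have h3 : {L : Subgroup P | L ∈ maxs P p ∧ IsCyclic L} = ∅ := by
      rw [Set.eq_empty_iff_forall_notMem]
      rintro L ⟨hL, hLc⟩
      exact hex ⟨L, hL, hLc⟩
    rw [h3, Set.ncard_empty]
    exact dvd_zero p

end Cyc

end Cfsg.Agent.Lib.Lead.Kul
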