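import Mathlib
import Cfsg.Agent.Lib.Lead.Kul1

set_option autoImplicit false

/-!
# Reduction to a Sylow subgroup: `s_a(G) ≡ s_a(P) (mod p²)`
-/

namespace Cfsg.Agent.Lib.Lead.Kul

open MulAction
open scoped Pointwise

section StepA

variable {G : Type*} [Group G] [Finite G] {p : ℕ} [hp : Fact p.Prime]

theorem le_of_le_normalizer (PP : Subgroup G) (hPp : IsPGroup p PP)
    (hmax : ∀ Q : Subgroup G, IsPGroup p Q → PP ≤ Q → Q = PP) (H : Subgroup G)
    (hH : IsPGroup p H) (hPH : PP ≤ Subgroup.normalizer (H : Set G)) : H ≤ PP := by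
  have h1 : IsPGroup p ↥(PP ⊔ H) := IsPGroup.to_sup_of_normal_right' hPp hH hPH
  have h2 := hmax _ h1 le_sup_left
  exact le_sup_right.trans h2.le

theorem between {R X Y : Subgroup G} {n : ℕ} (hn : 1 ≤ n) (hRX : R ≤ X) (hXY : X ≤ Y)
    (hR : Nat.card R = p ^ (n - 1)) (hY : Nat.card Y = p ^ n) : X = R ∨ X = Y := by
  have h1 : Nat.card X ∣ p ^ n := hY ▸ Subgroup.card_dvd_of_le hXY
  obtain ⟨i, hi, hXi⟩ := (Nat.dvd_prime_pow hp.out).1 h1
  have h2 : p ^ (n - 1) ∣ p ^ i := by
    rw [← hR, ← hXi]; exact Subgroup.card_dvd_of_le hRX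
  have h3 : n - 1 ≤ i := (Nat.pow_dvd_pow_iff_le_right hp.out.one_lt).1 h2
  rcases Nat.lt_or_ge i n with hlt | hge
  · left
    have h4 : i = n - 1 := by omega
    symm
    apply Subgroup.eq_of_le_of_card_ge hRX
    rw [hXi, hR, h4]
  · right
    have h4 : i = n := by omega
    apply Subgroup.eq_of_le_of_card_ge hXY
    rw [hXi, hY, h4]

theorem orbit_ncard_eq_relIndex (PP H : Subgroup G) :
    letI : MulAction ↥PP (Subgroup G) := conjAct PP
    (orbit ↥PP H).ncard = (Subgroup.normalizer (H : Set G)).relIndex PP := by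
  letI : MulAction ↥PP (Subgroup G) := conjAct PP
  rw [← MulAction.index_stabilizer]
  have h1 : stabilizer ↥PP H = (Subgroup.normalizer (H : Set G)).subgroupOf PP := by
    ext g
    rw [mem_stabilizer_iff, Subgroup.mem_subgroupOf]
    exact conj_smul_eq_iff (g : G) H
  rw [h1]; rfl

theorem card_inf_normalizer (PP H : Subgroup G) :
    Nat.card ↥(PP ⊓ Subgroup.normalizer (H : Set G)) *
      (Subgroup.normalizer (H : Set G)).relIndex PP = Nat.card PP := by
  have h1 := SylowCount.card_mul_relIndex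
    (inf_le_left : PP ⊓ Subgroup.normalizer (H : Set G) ≤ PP)
  have e : (PP ⊓ Subgroup.normalizer (H : Set G)).relIndex PP =
      (Subgroup.normalizer (H : Set G)).relIndex PP := by
    rw [inf_comm, Subgroup.inf_relIndex_right]
  rwa [e] at h1

theorem stepA_aux (PP : Subgroup G) (hPp : IsPGroup p PP)
    (hmax : ∀ Q : Subgroup G, IsPGroup p Q → PP ≤ Q → Q = PP)
    (hdvd : ∀ Q : Subgroup G, IsPGroup p Q → Nat.card Q ∣ Nat.card PP)
    (a n : ℕ) (hP : Nat.card PP = p ^ n) (han : a < n) :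
    (subs (⊤ : Subgroup G) (p ^ a)).ncard ≡ (subs PP (p ^ a)).ncard [MOD p ^ 2] := by
  have hpp := hp.out
  have hn1 : 1 ≤ n := by omega
  letI : MulAction ↥PP (Subgroup G) := conjAct PP
  have hsm : ∀ (g : ↥PP) (H : Subgroup G), g • H = MulAut.conj (g : G) • H := fun _ _ => rfl
  have hconjP : ∀ g : ↥PP, MulAut.conj (g : G) • PP = PP := fun g =>
    (conj_smul_eq_iff _ _).2 (Subgroup.le_normalizer g.2)
  obtain ⟨Z, hZ⟩ : ∃ Z : Set (Subgroup G), Z = {H : Subgroup G | Nat.card H = p ^ a ∧ ¬ H ≤ PP} := ⟨_, rfl⟩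
  have hZ' : ∀ H : Subgroup G, H ∈ Z ↔ (Nat.card H = p ^ a ∧ ¬ H ≤ PP) := fun H => by rw [hZ]; rfl
  have hsplit : subs (⊤ : Subgroup G) (p ^ a) = subs PP (p ^ a) ∪ Z := by
    ext H
    rw [Set.mem_union, hZ']
    constructor
    · rintro ⟨_, hc⟩
      by_cases h : H ≤ PP
      · exact Or.inl ⟨h, hc⟩
      · exact Or.inr ⟨hc, h⟩
    · rintro (⟨_, hc⟩ | ⟨hc, _⟩) <;> exact ⟨le_top, hc⟩
  have hdisj : Disjoint (subs PP (p ^ a)) Z := by
    rw [Set.disjoint_left]
    intro H h1 h2
    exact ((hZ' H).1 h2).2 h1.1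
  have hle_iff : ∀ (g : ↥PP) (H : Subgroup G), g • H ≤ PP ↔ H ≤ PP := by
    intro g H
    rw [hsm]
    constructor
    · intro h
      have h' : MulAut.conj (g : G) • H ≤ MulAut.conj (g : G) • PP := by
        rw [hconjP g]; exact h
      exact Subgroup.pointwise_smul_le_pointwise_smul_iff.1 h'
    · intro h
      have h' : MulAut.conj (g : G) • H ≤ MulAut.conj (g : G) • PP :=
        Subgroup.pointwise_smul_le_pointwise_smul_iff.2 h
      rwa [hconjP g] at h'
  have hZinv : ∀ g : ↥PP, ∀ H ∈ Z, g • H ∈ Z := by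
    intro g H hH
    rw [hZ'] at hH ⊢
    exact ⟨by rw [hsm, card_conj_smul]; exact hH.1, fun h => hH.2 ((hle_iff g H).1 h)⟩
  suffices hmain : p ^ 2 ∣ Z.ncard by
    rw [hsplit, Set.ncard_union_eq hdisj (Set.toFinite _) (Set.toFinite _)]
    obtain ⟨c, hc⟩ := hmain
    rw [hc]
    exact ((Nat.modEq_iff_dvd' (Nat.le_add_right _ _)).2
      ⟨c, Nat.add_sub_cancel_left _ _⟩).symm
  have hT5 := ncard_modEq_sq (A := ↥PP) hPp Z hZinv
  have hZ1 : {H ∈ Z | (orbit ↥PP H).ncard = 1} = ∅ := by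
    rw [Set.eq_empty_iff_forall_notMem]
    rintro H ⟨hH, h1⟩
    have hH' := (hZ' H).1 hH
    apply hH'.2
    apply le_of_le_normalizer PP hPp hmax H (IsPGroup.of_card hH'.1)
    intro g hg
    exact (conj_smul_eq_iff g H).1 ((orbit_ncard_eq_one_iff H).1 h1 ⟨g, hg⟩)
  rw [hZ1, Set.ncard_empty, zero_add] at hT5
  obtain ⟨T, hT⟩ : ∃ T : Set (Subgroup G), T = {H ∈ Z | (orbit ↥PP H).ncard = p} := ⟨_, rfl⟩
  have hT' : ∀ H : Subgroup G, H ∈ T ↔ (H ∈ Z ∧ (orbit ↥PP H).ncard = p) := fun H => by rw [hT]; rfl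
  rw [← hT] at hT5
  suffices hT2 : p ^ 2 ∣ T.ncard from
    (Nat.modEq_zero_iff_dvd.1 (hT5.trans (Nat.modEq_zero_iff_dvd.2 hT2)))
  have hTinv : ∀ g : ↥PP, ∀ H ∈ T, g • H ∈ T := by
    intro g H hH
    rw [hT'] at hH ⊢
    exact ⟨hZinv g H hH.1, by rw [orbit_smul]; exact hH.2⟩
  obtain ⟨f, hfdef⟩ : ∃ f : Subgroup G → Subgroup G,
      ∀ H, f H = H ⊔ (PP ⊓ Subgroup.normalizer (H : Set G)) := ⟨_, fun _ => rfl⟩
  have hf : ∀ (g : ↥PP) (H : Subgroup G), f (g • H) = g • f H := by
    intro g H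
    rw [hfdef, hfdef, hsm, hsm, Subgroup.smul_sup, Subgroup.smul_inf, hconjP g, conj_normalizer]
  have key : ∀ H ∈ T, p ∣ (orbit ↥PP (f H)).ncard ∧ p ∣ {H' ∈ T | f H' = f H}.ncard := by
    intro H hH
    obtain ⟨hHZ, hHorb⟩ := (hT' H).1 hH
    obtain ⟨hHc, hHP⟩ := (hZ' H).1 hHZ
    have hHp : IsPGroup p H := IsPGroup.of_card hHc
    obtain ⟨R, hRdef⟩ : ∃ R : Subgroup G, R = PP ⊓ Subgroup.normalizer (H : Set G) := ⟨_, rfl⟩
    obtain ⟨Q, hQdef⟩ : ∃ Q : Subgroup G, Q = f H := ⟨_, rfl⟩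
    have hQ : Q = H ⊔ R := by rw [hQdef, hfdef, hRdef]
    have hRP : R ≤ PP := hRdef ▸ inf_le_left
    have hRN : R ≤ Subgroup.normalizer (H : Set G) := hRdef ▸ inf_le_right
    have hidx : (Subgroup.normalizer (H : Set G)).relIndex PP = p := by
      rw [← orbit_ncard_eq_relIndex]; exact hHorb
    have hRcard : Nat.card R = p ^ (n - 1) := by
      have h1 := card_inf_normalizer PP H
      rw [hidx, hP, ← hRdef] at h1
      have h2 : p ^ n = p ^ (n - 1) * p := by
        rw [← pow_succ]; congr 1; omega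
      rw [h2] at h1
      exact Nat.eq_of_mul_eq_mul_right hpp.pos h1
    have hRp : IsPGroup p R := IsPGroup.of_card hRcard
    have hQp : IsPGroup p Q := by
      rw [hQ, sup_comm]
      exact IsPGroup.to_sup_of_normal_right' hRp hHp hRN
    have hHQ : H ≤ Q := hQ ▸ le_sup_left
    have hRQ : R ≤ Q := hQ ▸ le_sup_right
    have hHR : ¬ H ≤ R := fun h => hHP (h.trans hRP)
    have hQnP : ¬ Q ≤ PP := fun h => hHP (hHQ.trans h)
    -- |Q| = p^n
    have hQcard : Nat.card Q = p ^ n := by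
      obtain ⟨j, hj⟩ := IsPGroup.iff_card.1 hQp
      have h1 : p ^ (n - 1) ∣ p ^ j := by
        rw [← hRcard, ← hj]; exact Subgroup.card_dvd_of_le hRQ
      have h2 : n - 1 ≤ j := (Nat.pow_dvd_pow_iff_le_right hpp.one_lt).1 h1
      have h3 : p ^ j ∣ p ^ n := by
        rw [← hj, ← hP]; exact hdvd Q hQp
      have h4 : j ≤ n := (Nat.pow_dvd_pow_iff_le_right hpp.one_lt).1 h3
      have h5 : j ≠ n - 1 := by
        intro h
        apply hHR
        have : R = Q := Subgroup.eq_of_le_of_card_ge hRQ (by rw [hj, hRcard, h])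
        rw [this]; exact hHQ
      have h6 : j = n := by omega
      rw [hj, h6]
    have hQR : Q ⊓ PP = R := by
      rcases between hn1 (le_inf hRQ hRP) (inf_le_right : Q ⊓ PP ≤ PP) hRcard hP with h | h
      · exact h
      · exfalso
        have h1 : PP ≤ Q := by rw [← h]; exact inf_le_left
        have h2 := hmax Q hQp h1
        exact hQnP h2.le
    have hQNR : Q ≤ Subgroup.normalizer (R : Set G) := by
      have h1 := SylowCount.card_mul_relIndex hRQ
      rw [hRcard, hQcard] at h1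
      have h2 : p ^ n = p ^ (n - 1) * p := by
        rw [← pow_succ]; congr 1; omega
      rw [h2] at h1
      have h3 : R.relIndex Q = p :=
        Nat.eq_of_mul_eq_mul_left (pow_pos hpp.pos _) h1
      have h4 : (R.subgroupOf Q).Normal := by
        apply Subgroup.normal_of_index_eq_minFac_card
        rw [hQcard, Nat.Prime.pow_minFac hpp (by omega)]
        exact h3
      exact (Subgroup.normal_subgroupOf_iff_le_normalizer hRQ).1 h4
    refine ⟨?_, ?_⟩
    · rw [← hQdef]
      rcases orbit_ncard_cases hPp Q with h | h | h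
      · exfalso
        apply hQnP
        apply le_of_le_normalizer PP hPp hmax Q hQp
        intro g hg
        exact (conj_smul_eq_iff g Q).1 ((orbit_ncard_eq_one_iff Q).1 h ⟨g, hg⟩)
      · rw [h]
      · exact dvd_trans (dvd_pow_self p two_ne_zero) h
    · rw [← hQdef]
      obtain ⟨A1, hA1⟩ : ∃ A1 : Set (Subgroup G),
          A1 = {H' ∈ subs Q (p ^ a) | Q ≤ Subgroup.normalizer (H' : Set G)} := ⟨_, rfl⟩
      obtain ⟨A2, hA2⟩ : ∃ A2 : Set (Subgroup G),
          A2 = {H' ∈ subs R (p ^ a) | Q ≤ Subgroup.normalizer (H' : Set G)} := ⟨_, rfl⟩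
      have hA1c : A1.ncard ≡ 1 [MOD p] := by
        rw [hA1]
        exact normalized_subs_modEq_one Q Q hQp Subgroup.le_normalizer a
          (by rw [hQcard]; exact pow_dvd_pow p (by omega))
      have hA2c : A2.ncard ≡ 1 [MOD p] := by
        rw [hA2]
        exact normalized_subs_modEq_one Q R hQp hQNR a
          (by rw [hRcard]; exact pow_dvd_pow p (by omega))
      have hsub : A2 ⊆ A1 := by
        intro H' hH'
        rw [hA2] at hH'
        rw [hA1]
        exact ⟨⟨hH'.1.1.trans hRQ, hH'.1.2⟩, hH'.2⟩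
      have hfiber : {H' ∈ T | f H' = Q} = A1 \ A2 := by
        ext H'
        constructor
        · rintro ⟨hH'T, hfeq⟩
          obtain ⟨hH'Z, _⟩ := (hT' H').1 hH'T
          obtain ⟨hH'c, hH'P⟩ := (hZ' H').1 hH'Z
          have hfeq' : H' ⊔ (PP ⊓ Subgroup.normalizer (H' : Set G)) = Q := by
            rw [← hfdef]; exact hfeq
          refine ⟨?_, ?_⟩
          · rw [hA1]
            refine ⟨⟨le_sup_left.trans hfeq'.le, hH'c⟩, ?_⟩
            rw [← hfeq']
            exact sup_le Subgroup.le_normalizer inf_le_right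
          · intro h
            rw [hA2] at h
            exact hH'P (h.1.1.trans hRP)
        · rintro ⟨h1, h2⟩
          rw [hA1] at h1
          obtain ⟨⟨hH'Q, hH'c⟩, hQN⟩ := h1
          have hH'R : ¬ H' ≤ R := by
            intro h
            apply h2
            rw [hA2]
            exact ⟨⟨h, hH'c⟩, hQN⟩
          have hH'P : ¬ H' ≤ PP := by
            intro h
            apply hH'R
            rw [← hQR]
            exact le_inf hH'Q h
          have hH'Z : H' ∈ Z := (hZ' H').2 ⟨hH'c, hH'P⟩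
          have hH'p : IsPGroup p H' := IsPGroup.of_card hH'c
          have hRR' : R ≤ PP ⊓ Subgroup.normalizer (H' : Set G) :=
            le_inf hRP (hRQ.trans hQN)
          have hR'eq : PP ⊓ Subgroup.normalizer (H' : Set G) = R := by
            rcases between hn1 hRR' (inf_le_left : PP ⊓ Subgroup.normalizer (H' : Set G) ≤ PP)
              hRcard hP with h | h
            · exact h
            · exfalso
              apply hH'P
              apply le_of_le_normalizer PP hPp hmax H' hH'p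
              rw [← h]; exact inf_le_right
          have hfH' : f H' = Q := by
            rw [hfdef, hR'eq]
            rcases between hn1 (le_sup_right : R ≤ H' ⊔ R) (sup_le hH'Q hRQ) hRcard hQcard
              with h | h
            · exfalso
              apply hH'R
              rw [← h]; exact le_sup_left
            · exact h
          refine ⟨?_, hfH'⟩
          rw [hT']
          refine ⟨hH'Z, ?_⟩
          rw [orbit_ncard_eq_relIndex]
          have h3 := card_inf_normalizer PP H'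
          rw [hR'eq, hRcard, hP] at h3
          have h4 : p ^ n = p ^ (n - 1) * p := by
            rw [← pow_succ]; congr 1; omega
          rw [h4] at h3
          exact Nat.eq_of_mul_eq_mul_left (pow_pos hpp.pos _) h3
      rw [hfiber, Set.ncard_sdiff hsub (Set.toFinite _)]
      exact (Nat.modEq_iff_dvd' (Set.ncard_le_ncard hsub (Set.toFinite _))).1
        (hA2c.trans hA1c.symm)
  exact sq_dvd_ncard_of_fibers (A := ↥PP) p f hf _ T rfl hTinv (fun H hH => (key H hH).1)
    (fun H hH => (key H hH).2)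

theorem stepA (P : Sylow p G) (a n : ℕ) (hP : Nat.card (P : Subgroup G) = p ^ n)
    (han : a < n) :
    (subs (⊤ : Subgroup G) (p ^ a)).ncard ≡ (subs (P : Subgroup G) (p ^ a)).ncard
      [MOD p ^ 2] :=
  stepA_aux (P : Subgroup G) P.isPGroup' (fun _ hQ hPQ => P.is_maximal' hQ hPQ)
    (fun Q hQ => by
      obtain ⟨P', hP'⟩ := hQ.exists_le_sylow
      have h1 : Nat.card Q ∣ Nat.card (P' : Subgroup G) := Subgroup.card_dvd_of_le hP'
      rwa [Sylow.card_eq_multiplicity P', ← Sylow.card_eq_multiplicity P] at h1) a n hP han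

end StepA

end Cfsg.Agent.Lib.Lead.Kul
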