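import Mathlib
import Cfsg.Agent.Lib.Lead.Kul2
import Cfsg.Agent.Lib.Lead.Kul4
import Cfsg.Agent.S3977

set_option autoImplicit false

/-!
# Kulakoff's theorem and Hall's congruence for the number of subgroups of order `p^a`
-/

universe u

namespace Cfsg.Agent.Lib.Lead.Kul

open scoped Pointwise

theorem subs_top_ncard {G : Type*} [Group G] (m : ℕ) :
    (subs (⊤ : Subgroup G) m).ncard = Nat.card {H : Subgroup G // Nat.card H = m} := by
  rw [← Nat.card_coe_set_eq]
  apply Nat.card_congr
  exact
    { toFun := fun H => ⟨H.1, H.2.2⟩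
      invFun := fun H => ⟨H.1, le_top, H.2⟩
      left_inv := fun H => Subtype.ext rfl
      right_inv := fun H => Subtype.ext rfl }

theorem arith2 {p c d m : ℕ} (hcd : c + d = m) (hc : p ∣ c) (hm : m ≡ 1 + p [MOD p ^ 2]) :
    c + d * (1 + p) ≡ 1 + p + p [MOD p ^ 2] := by
  have h1 : m ≡ 1 [MOD p] := by
    have h0 := hm.of_dvd (dvd_pow_self p two_ne_zero)
    exact h0.trans (by unfold Nat.ModEq; rw [Nat.add_mod_right])
  have h2 : c ≡ 0 [MOD p] := (Nat.modEq_zero_iff_dvd).2 hc
  have h3 : c + d ≡ 0 + d [MOD p] := h2.add_right d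
  rw [zero_add, hcd] at h3
  have hd : d ≡ 1 [MOD p] := h3.symm.trans h1
  have h4 : p * d ≡ p * 1 [MOD p * p] := hd.mul_left' p
  have hpp : p * p = p ^ 2 := (pow_two p).symm
  rw [hpp, mul_one] at h4
  have h5 : c + d * (1 + p) = m + p * d := by rw [← hcd]; ring
  rw [h5]
  exact hm.add h4

section Kulakoff

variable {p : ℕ} [hp : Fact p.Prime]

theorem mem_maxs_iff_card {P : Type u} [Group P] [Finite P] (n : ℕ) (hn : 1 ≤ n)
    (hPc : Nat.card P = p ^ n) (L : Subgroup P) :
    L ∈ maxs P p ↔ Nat.card L = p ^ (n - 1) := by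
  have h1 := Subgroup.card_mul_index L
  have hpn : p ^ n = p ^ (n - 1) * p := by
    rw [← pow_succ]; congr 1; omega
  rw [hPc, hpn] at h1
  constructor
  · intro hL
    have hL' : L.index = p := hL
    rw [hL'] at h1
    exact Nat.eq_of_mul_eq_mul_right hp.out.pos h1
  · intro hL
    rw [hL] at h1
    exact Nat.eq_of_mul_eq_mul_left (pow_pos hp.out.pos _) h1

/-- **Kulakoff's theorem**: in a non-cyclic group of order `p^n`, `p` odd, the number of
subgroups of order `p^a`, `1 ≤ a < n`, is `≡ 1 + p (mod p²)`. -/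
theorem kulakoff (hp2 : p ≠ 2) : ∀ n : ℕ, ∀ (P : Type u) [Group P] [Finite P],
    Nat.card P = p ^ n → ¬ IsCyclic P → ∀ a : ℕ, 1 ≤ a → a < n →
    Nat.card {H : Subgroup P // Nat.card H = p ^ a} ≡ 1 + p [MOD p ^ 2] := by
  intro n
  induction n using Nat.strong_induction_on with
  | _ n ih =>
    intro P _ _ hPc hnc a ha1 han
    classical
    have hpp : p.Prime := hp.out
    have hP : IsPGroup p P := IsPGroup.of_card hPc
    have hm2 : 1 < (maxs P p).ncard := by
      by_contra hle
      apply hnc
      have hle' : (maxs P p).ncard ≤ 1 := not_lt.1 hle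
      rw [Set.ncard_le_one_iff (Set.toFinite _)] at hle'
      refine Cfsg.Agent.S3977.result p n (n - 1) hpp hPc (by omega) (by omega) (Or.inl hp2) ?_
      intro H K hH hK
      exact hle' ((mem_maxs_iff_card n (by omega) hPc H).2 hH)
        ((mem_maxs_iff_card n (by omega) hPc K).2 hK)
    have hm : (maxs P p).ncard ≡ 1 + p [MOD p ^ 2] := ncard_maxs_modEq hP hm2
    rw [← subs_top_ncard]
    by_cases hcase : a = n - 1
    · have e : subs (⊤ : Subgroup P) (p ^ a) = maxs P p := by
        ext L
        rw [mem_maxs_iff_card n (by omega) hPc L, hcase]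
        exact ⟨fun h => h.2, fun h => ⟨le_top, h⟩⟩
      rw [e]
      exact hm
    · have han2 : a + 2 ≤ n := by omega
      obtain ⟨F, hF⟩ : ∃ F : Finset (Subgroup P), F = fs (maxs P p) := ⟨_, rfl⟩
      have hFmem : ∀ L, L ∈ F ↔ L ∈ maxs P p := fun L => by rw [hF]; exact mem_fs
      have hFcard : F.card = (maxs P p).ncard := by rw [hF]; exact card_fs _
      have hsum1 : ∑ L ∈ F, (subs L (p ^ a)).ncard ≡
          ∑ L ∈ F, (if IsCyclic L then 1 else 1 + p) [MOD p ^ 2] := by
        apply sum_modEq
        intro L hL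
        have hLm : L ∈ maxs P p := (hFmem L).1 hL
        have hLc : Nat.card L = p ^ (n - 1) := (mem_maxs_iff_card n (by omega) hPc L).1 hLm
        rw [card_subs_eq]
        by_cases hcyc : IsCyclic L
        · rw [if_pos hcyc]
          haveI := hcyc
          have h' : Nat.card {H' : Subgroup ↥L // Nat.card H' = p ^ a} = 1 :=
            Cfsg.Agent.S3975.card_subgroups_cyclic hpp
              (by rw [hLc]; exact pow_dvd_pow p (by omega))
          rw [h']
        · rw [if_neg hcyc]
          exact ih (n - 1) (by omega) (↥L) hLc hcyc a ha1 (by omega)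
      have hsum2 : ∑ L ∈ F, (if IsCyclic L then 1 else 1 + p) =
          (F.filter (fun L : Subgroup P => IsCyclic L)).card +
          (F.filter (fun L : Subgroup P => ¬ IsCyclic L)).card * (1 + p) := by
        rw [Finset.sum_ite, Finset.sum_const, Finset.sum_const, smul_eq_mul, smul_eq_mul,
          mul_one]
      have hcd : (F.filter (fun L : Subgroup P => IsCyclic L)).card +
          (F.filter (fun L : Subgroup P => ¬ IsCyclic L)).card = (maxs P p).ncard := by
        rw [← hFcard]
        exact Finset.card_filter_add_card_filter_not _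
      have hcdvd : p ∣ (F.filter (fun L : Subgroup P => IsCyclic L)).card := by
        have h1 := cyclic_maxs_dvd (P := P) hp2 n (by omega) hPc hnc
        have h2 : {L : Subgroup P | L ∈ maxs P p ∧ IsCyclic L} =
            ((F.filter (fun L : Subgroup P => IsCyclic L) : Finset (Subgroup P)) :
              Set (Subgroup P)) := by
          ext L
          simp only [Set.mem_ofPred_eq, Finset.coe_filter, hFmem]
        rw [h2, Set.ncard_coe_finset] at h1
        exact h1
      have hL : ∑ L ∈ F, (subs L (p ^ a)).ncard ≡ 1 + p + p [MOD p ^ 2] := by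
        refine hsum1.trans ?_
        rw [hsum2]
        exact arith2 hcd hcdvd hm
      have hKcard : ∀ K ∈ kers P p, Nat.card K = p ^ (n - 2) := by
        intro K hK
        have h1 := Subgroup.card_mul_index K
        have hpn : p ^ n = p ^ (n - 2) * p ^ 2 := by
          rw [← pow_add]; congr 1; omega
        rw [hK.2.1, hPc, hpn] at h1
        exact Nat.eq_of_mul_eq_mul_right (pow_pos hpp.pos 2) h1
      obtain ⟨FK, hFK⟩ : ∃ FK : Finset (Subgroup P), FK = fs (kers P p) := ⟨_, rfl⟩
      have hsumK : ∑ K ∈ FK, (subs K (p ^ a)).ncard ≡ FK.card [MOD p] := by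
        have h1 : ∑ K ∈ FK, (subs K (p ^ a)).ncard ≡ ∑ K ∈ FK, 1 [MOD p] := by
          apply sum_modEq
          intro K hK
          have hKm : K ∈ kers P p := by rw [hFK] at hK; exact mem_fs.1 hK
          exact subs_modEq_one K a (by rw [hKcard K hKm]; exact pow_dvd_pow p (by omega))
        rwa [Finset.sum_const, smul_eq_mul, mul_one] at h1
      obtain ⟨L₀, hL₀⟩ : (maxs P p).Nonempty := by
        apply Set.nonempty_of_ncard_ne_zero; omega
      have hper := perH hP ⊥ L₀ hL₀ bot_le
      have e1 : {L : Subgroup P | L ∈ maxs P p ∧ ⊥ ≤ L} = maxs P p :=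
        Set.ext fun L => ⟨fun h => h.1, fun h => ⟨h, bot_le⟩⟩
      have e2 : {K : Subgroup P | K ∈ kers P p ∧ ⊥ ≤ K} = kers P p :=
        Set.ext fun K => ⟨fun h => h.1, fun h => ⟨h, bot_le⟩⟩
      rw [e1, e2] at hper
      have hk : FK.card = (kers P p).ncard := by rw [hFK]; exact card_fs _
      have hpk : p * FK.card ≡ p [MOD p ^ 2] := by
        rw [hk]
        exact Nat.ModEq.add_left_cancel' 1 (hper.symm.trans hm)
      have hpK : p * ∑ K ∈ FK, (subs K (p ^ a)).ncard ≡ p [MOD p ^ 2] := by
        have h1 := hsumK.mul_left' p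
        have hpp2 : p * p = p ^ 2 := (pow_two p).symm
        rw [hpp2] at h1
        exact h1.trans hpk
      have hrec := recursion (P := P) (p := p) n a hPc han
      rw [← hF, ← hFK] at hrec
      have h3 : (subs (⊤ : Subgroup P) (p ^ a)).ncard + p ≡ 1 + p + p [MOD p ^ 2] :=
        ((Nat.ModEq.add_left _ hpK).symm.trans hrec.symm).trans hL
      exact Nat.ModEq.add_right_cancel' p h3

end Kulakoff

/-- **P. Hall**: if `p^(a+1)` divides `|G|` then the number of subgroups of order `p^a` is
`≡ 1` or `≡ 1 + p (mod p²)`. -/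
theorem hall_count {G : Type u} [Group G] [Finite G] (p a : ℕ) (hp : p.Prime)
    (hdvd : p ^ (a + 1) ∣ Nat.card G) :
    Nat.card {H : Subgroup G // Nat.card H = p ^ a} ≡ 1 [MOD p ^ 2] ∨
      Nat.card {H : Subgroup G // Nat.card H = p ^ a} ≡ 1 + p [MOD p ^ 2] := by
  haveI : Fact p.Prime := ⟨hp⟩
  by_cases hp2 : p = 2
  · subst hp2
    have h1 := Cfsg.Agent.S3975.result (G := G) 2 a hp
      (dvd_trans (pow_dvd_pow 2 (Nat.le_succ a)) hdvd)
    generalize Nat.card {H : Subgroup G // Nat.card H = 2 ^ a} = N at h1 ⊢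
    have h4 : (2 : ℕ) ^ 2 = 4 := by norm_num
    rw [h4]
    unfold Nat.ModEq at h1 ⊢
    omega
  · by_cases ha0 : a = 0
    · subst ha0
      left
      have h1 : Nat.card {H : Subgroup G // Nat.card H = p ^ 0} = 1 := by
        rw [Nat.card_eq_one_iff_unique]
        refine ⟨⟨?_⟩, ⟨⟨⊥, by rw [pow_zero]; exact Subgroup.card_bot⟩⟩⟩
        rintro ⟨H, hH⟩ ⟨H', hH'⟩
        rw [pow_zero] at hH hH'
        exact Subtype.ext ((Subgroup.card_eq_one.1 hH).trans (Subgroup.card_eq_one.1 hH').symm)
      rw [h1]
    · obtain ⟨P⟩ : Nonempty (Sylow p G) := inferInstance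
      obtain ⟨n, hn⟩ := (IsPGroup.iff_card.1 P.isPGroup')
      have han : a < n := by
        have h1 : Nat.card (P : Subgroup G) = p ^ (Nat.card G).factorization p :=
          Sylow.card_eq_multiplicity P
        have h2 : a + 1 ≤ (Nat.card G).factorization p :=
          (hp.pow_dvd_iff_le_factorization Nat.card_pos.ne').1 hdvd
        rw [hn] at h1
        have h3 := Nat.pow_right_injective hp.two_le h1
        omega
      have hA := stepA P a n hn han
      rw [subs_top_ncard, card_subs_eq] at hA
      by_cases hc : IsCyclic ↥(P : Subgroup G)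
      · left
        haveI := hc
        have h' : Nat.card {H' : Subgroup ↥(P : Subgroup G) // Nat.card H' = p ^ a} = 1 :=
          Cfsg.Agent.S3975.card_subgroups_cyclic (C := ↥(P : Subgroup G)) hp
            (by rw [hn]; exact pow_dvd_pow p han.le)
        rw [h'] at hA
        exact hA
      · right
        exact hA.trans (kulakoff hp2 n ↥(P : Subgroup G) hn hc a (by omega) han)

end Cfsg.Agent.Lib.Lead.Kul
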