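import Mathlib
import Cfsg.Agent.Lib.Lead.Hecke3

set_option autoImplicit false
set_option linter.unusedSectionVars false
set_option linter.unusedVariables false

open scoped ComplexConjugate
open Classical
open Cfsg.Agent.Lib.Helper6

namespace Cfsg.Agent.Lib.Lead.Hecke

section equal

variable {G : Type*} [Group G] [Fintype G] {Ω : Type*} [Fintype Ω] [MulAction G Ω]

theorem orbit_stab_self (a : Ω) :
    MulAction.orbit (MulAction.stabilizer G a) a = {a} := by
  ext x
  constructor
  · intro hx
    obtain ⟨h, hh⟩ := MulAction.mem_orbit_iff.mp hx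
    rw [Set.mem_singleton_iff, ← hh]
    exact MulAction.mem_stabilizer_iff.mp h.2
  · intro hx
    rw [Set.mem_singleton_iff] at hx
    rw [hx]
    exact MulAction.mem_orbit_self a

/-- if all non-principal constituents have the same degree, the character is multiplicity free
and all non-trivial subdegrees equal that degree -/
theorem equal_degrees [MulAction.IsPretransitive G Ω] (a : Ω) (f : ℕ)
    (hyp : ∀ χ : G → ℂ, Cfsg.IsIrrCharacter G χ → χ ≠ (fun _ => 1) →
      Cfsg.classInner (permChar G Ω) χ ≠ 0 → χ 1 = f) :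
    (∀ χ : G → ℂ, Cfsg.IsIrrCharacter G χ →
      Cfsg.classInner (permChar G Ω) χ = 0 ∨ Cfsg.classInner (permChar G Ω) χ = 1) ∧
    ∀ b : Ω, b ≠ a → Nat.card (MulAction.orbit (MulAction.stabilizer G a) b) = f := by
  haveI : Fintype (Cfsg.IrrCharacter G) := Fintype.ofFinite _
  obtain ⟨m, hmi, hm1, hcard, hrank, _⟩ := exists_mult_data (G := G) (Ω := Ω) a
  obtain ⟨triv, htriv⟩ : ∃ t : Cfsg.IrrCharacter G, (t : G → ℂ) = fun _ => (1 : ℂ) :=
    ⟨⟨fun _ => 1, isIrrCharacter_one⟩, rfl⟩
  have hmt : m triv = 1 := hm1 triv htriv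
  have hdeg : ∀ θ ∈ Finset.univ.erase triv, m θ * Cfsg.charDegree (θ : G → ℂ) = m θ * f := by
    intro θ hθ
    by_cases h0 : m θ = 0
    · rw [h0, zero_mul, zero_mul]
    · congr 1
      have hne : (θ : G → ℂ) ≠ fun _ => 1 := by
        intro h
        apply Finset.ne_of_mem_erase hθ
        apply Subtype.ext
        rw [h, htriv]
      have h1 : Cfsg.classInner (permChar G Ω) (θ : G → ℂ) ≠ 0 := by
        rw [hmi θ]
        exact_mod_cast h0
      have h2 := hyp θ θ.2 hne h1
      rw [IsCharacter.apply_one_eq_charDegree (IsIrrCharacter.isCharacter θ.2)] at h2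
      exact_mod_cast h2
  have hdt : Cfsg.charDegree (triv : G → ℂ) = 1 := by
    have := IsCharacter.apply_one_eq_charDegree (IsIrrCharacter.isCharacter triv.2)
    rw [htriv] at this ⊢
    simp only at this
    exact_mod_cast this.symm
  have hN : Fintype.card Ω = 1 + f * ∑ θ ∈ Finset.univ.erase triv, m θ := by
    rw [hcard, ← Finset.add_sum_erase Finset.univ _ (Finset.mem_univ triv), hmt, hdt, one_mul,
      Finset.sum_congr rfl hdeg, Finset.mul_sum]
    congr 1
    apply Finset.sum_congr rfl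
    intro θ _
    rw [mul_comm]
  have hr : Nat.card (MulAction.orbitRel.Quotient (MulAction.stabilizer G a) Ω)
      = 1 + ∑ θ ∈ Finset.univ.erase triv, m θ * m θ := by
    rw [hrank, ← Finset.add_sum_erase Finset.univ _ (Finset.mem_univ triv), hmt]
  -- orbits
  have hNq := card_eq_sum_orbits (Ω := Ω) (MulAction.stabilizer G a)
  obtain ⟨qa, hqadef⟩ : ∃ q : MulAction.orbitRel.Quotient (MulAction.stabilizer G a) Ω,
      q = Quotient.mk'' a := ⟨_, rfl⟩
  have hqa : Nat.card qa.orbit = 1 := by
    rw [hqadef, MulAction.orbitRel.Quotient.orbit_mk, orbit_stab_self]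
    simp
  have hmk_ne : ∀ b : Ω, b ≠ a →
      (Quotient.mk'' b : MulAction.orbitRel.Quotient (MulAction.stabilizer G a) Ω) ≠ qa := by
    intro b hba h
    rw [hqadef] at h
    have h1 := Quotient.eq''.mp h
    rw [MulAction.orbitRel_apply, orbit_stab_self, Set.mem_singleton_iff] at h1
    exact hba h1
  have hdiv : ∀ q : MulAction.orbitRel.Quotient (MulAction.stabilizer G a) Ω, q ≠ qa →
      f ∣ Nat.card q.orbit := by
    intro q hq
    obtain ⟨b, rfl⟩ := Quotient.mk''_surjective q
    rw [MulAction.orbitRel.Quotient.orbit_mk]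
    apply dvd_subdegree f ?_ a b ?_
    · intro χ hχ hne h0
      exact ⟨1, by rw [hyp χ hχ hne h0]; simp⟩
    · intro hba
      apply hq
      rw [hba, hqadef]
  have hpos : ∀ q : MulAction.orbitRel.Quotient (MulAction.stabilizer G a) Ω,
      0 < Nat.card q.orbit := by
    intro q
    obtain ⟨b, rfl⟩ := Quotient.mk''_surjective q
    rw [MulAction.orbitRel.Quotient.orbit_mk]
    haveI : Nonempty (MulAction.orbit (MulAction.stabilizer G a) b) :=
      ⟨⟨b, MulAction.mem_orbit_self b⟩⟩
    exact Nat.card_pos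
  have hNq' : Fintype.card Ω = 1 + ∑ q ∈ Finset.univ.erase qa, Nat.card q.orbit := by
    rw [hNq, ← Finset.add_sum_erase Finset.univ _ (Finset.mem_univ qa), hqa]
  have hrq : Nat.card (MulAction.orbitRel.Quotient (MulAction.stabilizer G a) Ω)
      = 1 + (Finset.univ.erase qa).card := by
    rw [Nat.card_eq_fintype_card, Finset.card_erase_of_mem (Finset.mem_univ qa), Finset.card_univ]
    have : 0 < Fintype.card (MulAction.orbitRel.Quotient (MulAction.stabilizer G a) Ω) :=
      Fintype.card_pos_iff.mpr ⟨qa⟩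
    omega
  by_cases hex : ∃ θ ∈ Finset.univ.erase triv, m θ ≠ 0
  · obtain ⟨θ0, hθ0, hm0⟩ := hex
    have hfpos : 0 < f := by
      have h1 := hdeg θ0 hθ0
      have h2 := IsIrrCharacter.charDegree_pos θ0.2
      have h3 : Cfsg.charDegree (θ0 : G → ℂ) = f :=
        Nat.eq_of_mul_eq_mul_left (Nat.pos_of_ne_zero hm0) h1
      omega
    have hge : ∀ q ∈ Finset.univ.erase qa, f ≤ Nat.card q.orbit := by
      intro q hq
      exact Nat.le_of_dvd (hpos q) (hdiv q (Finset.ne_of_mem_erase hq))
    have hineq : (Finset.univ.erase qa).card * f ≤ ∑ q ∈ Finset.univ.erase qa, Nat.card q.orbit := by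
      have := Finset.card_nsmul_le_sum (Finset.univ.erase qa) (fun q => Nat.card q.orbit) f hge
      simpa [smul_eq_mul] using this
    have hMQ : ∑ θ ∈ Finset.univ.erase triv, m θ ≤ ∑ θ ∈ Finset.univ.erase triv, m θ * m θ :=
      Finset.sum_le_sum (fun θ _ => Nat.le_mul_self (m θ))
    have hQc : ∑ θ ∈ Finset.univ.erase triv, m θ * m θ = (Finset.univ.erase qa).card := by
      omega
    have hS : ∑ q ∈ Finset.univ.erase qa, Nat.card q.orbit
        = f * ∑ θ ∈ Finset.univ.erase triv, m θ := by omega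
    have hQM : ∑ θ ∈ Finset.univ.erase triv, m θ * m θ ≤ ∑ θ ∈ Finset.univ.erase triv, m θ := by
      apply Nat.le_of_mul_le_mul_left _ hfpos
      calc f * ∑ θ ∈ Finset.univ.erase triv, m θ * m θ
          = (Finset.univ.erase qa).card * f := by rw [hQc, mul_comm]
        _ ≤ ∑ q ∈ Finset.univ.erase qa, Nat.card q.orbit := hineq
        _ = f * ∑ θ ∈ Finset.univ.erase triv, m θ := hS
    have hMeq : ∑ θ ∈ Finset.univ.erase triv, m θ = ∑ θ ∈ Finset.univ.erase triv, m θ * m θ :=
      le_antisymm hMQ hQM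
    have hmeach := (Finset.sum_eq_sum_iff_of_le (fun θ _ => Nat.le_mul_self (m θ))).mp hMeq
    have hSeq : ∑ q ∈ Finset.univ.erase qa, f = ∑ q ∈ Finset.univ.erase qa, Nat.card q.orbit := by
      rw [Finset.sum_const, smul_eq_mul, hS, hMeq, hQc, mul_comm]
    have hneach := (Finset.sum_eq_sum_iff_of_le hge).mp hSeq
    constructor
    · intro χ hχ
      by_cases ht : (⟨χ, hχ⟩ : Cfsg.IrrCharacter G) = triv
      · right
        have := hmi ⟨χ, hχ⟩
        rw [ht, hmt] at this
        have hχt : χ = (triv : G → ℂ) := congrArg Subtype.val ht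
        rw [hχt]
        exact_mod_cast this
      · have h1 := hmeach ⟨χ, hχ⟩ (Finset.mem_erase.mpr ⟨ht, Finset.mem_univ _⟩)
        have h2 := hmi ⟨χ, hχ⟩
        have h3 : m ⟨χ, hχ⟩ = 0 ∨ m ⟨χ, hχ⟩ = 1 := by
          rcases Nat.eq_zero_or_pos (m ⟨χ, hχ⟩) with h | h
          · exact Or.inl h
          · right
            have := Nat.eq_of_mul_eq_mul_left h (by rw [mul_one]; exact h1 : m ⟨χ, hχ⟩ * 1 = m ⟨χ, hχ⟩ * m ⟨χ, hχ⟩)
            exact this.symm
        rcases h3 with h | h
        · left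
          simp only at h2
          rw [h2, h]
          simp
        · right
          simp only at h2
          rw [h2, h]
          simp
    · intro b hba
      have := hneach (Quotient.mk'' b) (Finset.mem_erase.mpr ⟨hmk_ne b hba, Finset.mem_univ _⟩)
      rw [MulAction.orbitRel.Quotient.orbit_mk] at this
      exact this.symm
  · push Not at hex
    have hM0 : ∑ θ ∈ Finset.univ.erase triv, m θ = 0 :=
      Finset.sum_eq_zero hex
    have hN1 : Fintype.card Ω = 1 := by rw [hN, hM0, mul_zero, add_zero]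
    constructor
    · intro χ hχ
      by_cases ht : (⟨χ, hχ⟩ : Cfsg.IrrCharacter G) = triv
      · right
        have := hmi ⟨χ, hχ⟩
        rw [ht, hmt] at this
        have hχt : χ = (triv : G → ℂ) := congrArg Subtype.val ht
        rw [hχt]
        exact_mod_cast this
      · left
        have h1 := hex ⟨χ, hχ⟩ (Finset.mem_erase.mpr ⟨ht, Finset.mem_univ _⟩)
        have h2 := hmi ⟨χ, hχ⟩
        simp only at h2
        rw [h2, h1]
        simp
    · intro b hba
      exfalso
      have : Subsingleton Ω := Fintype.card_le_one_iff_subsingleton.mp (by rw [hN1])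
      exact hba (Subsingleton.elim b a)

theorem multfree_of_rank_le_five [MulAction.IsPretransitive G Ω] (a : Ω)
    (h5 : Nat.card (MulAction.orbitRel.Quotient (MulAction.stabilizer G a) Ω) ≤ 5) :
    ∀ χ : G → ℂ, Cfsg.IsIrrCharacter G χ →
      Cfsg.classInner (permChar G Ω) χ = 0 ∨ Cfsg.classInner (permChar G Ω) χ = 1 := by
  haveI : Fintype (Cfsg.IrrCharacter G) := Fintype.ofFinite _
  obtain ⟨m, hmi, hm1, hcard, hrank, _⟩ := exists_mult_data (G := G) (Ω := Ω) a
  obtain ⟨triv, htriv⟩ : ∃ t : Cfsg.IrrCharacter G, (t : G → ℂ) = fun _ => (1 : ℂ) :=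
    ⟨⟨fun _ => 1, isIrrCharacter_one⟩, rfl⟩
  have hmt : m triv = 1 := hm1 triv htriv
  intro χ hχ
  obtain ⟨θ0, hθ0⟩ : ∃ θ0 : Cfsg.IrrCharacter G, θ0 = ⟨χ, hχ⟩ := ⟨_, rfl⟩
  have hval : Cfsg.classInner (permChar G Ω) χ = m θ0 := by
    have := hmi θ0
    rw [hθ0] at this ⊢
    exact this
  by_contra hcon
  push Not at hcon
  have hm2 : 2 ≤ m θ0 := by
    have h0 : m θ0 ≠ 0 := by
      intro h
      apply hcon.1
      rw [hval, h]
      simp
    have h1 : m θ0 ≠ 1 := by
      intro h
      apply hcon.2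
      rw [hval, h]
      simp
    omega
  have hθt : θ0 ≠ triv := by
    intro h
    rw [h, hmt] at hm2
    omega
  have hsum : ∑ θ, m θ * m θ = m triv * m triv + (m θ0 * m θ0
      + ∑ θ ∈ (Finset.univ.erase triv).erase θ0, m θ * m θ) := by
    rw [← Finset.add_sum_erase Finset.univ _ (Finset.mem_univ triv),
      ← Finset.add_sum_erase (Finset.univ.erase triv) _
        (Finset.mem_erase.mpr ⟨hθt, Finset.mem_univ _⟩)]
  have h4 : m θ0 * m θ0 + ∑ θ ∈ (Finset.univ.erase triv).erase θ0, m θ * m θ ≤ 4 := by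
    rw [hrank, hsum, hmt] at h5
    omega
  have hm2' : m θ0 = 2 := by
    have hle : m θ0 ≤ 2 := by
      by_contra h
      push Not at h
      have : 3 * 3 ≤ m θ0 * m θ0 := Nat.mul_le_mul h h
      omega
    omega
  have hoth : ∑ θ ∈ (Finset.univ.erase triv).erase θ0, m θ * m θ = 0 := by
    rw [hm2'] at h4
    omega
  have hzero : ∀ θ : Cfsg.IrrCharacter G, θ ≠ triv → θ ≠ θ0 → m θ = 0 := by
    intro θ h1 h2
    have := Finset.sum_eq_zero_iff.mp hoth θ
      (Finset.mem_erase.mpr ⟨h2, Finset.mem_erase.mpr ⟨h1, Finset.mem_univ _⟩⟩)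
    exact mul_self_eq_zero.mp this
  have key := (equal_degrees (G := G) (Ω := Ω) a (Cfsg.charDegree χ) ?_).1 χ hχ
  · rcases key with h | h
    · exact hcon.1 h
    · exact hcon.2 h
  · intro ψ hψ hne h0
    have hψθ : (⟨ψ, hψ⟩ : Cfsg.IrrCharacter G) = θ0 := by
      by_contra hne2
      have hz := hzero ⟨ψ, hψ⟩ (by
        intro h
        apply hne
        have := congrArg Subtype.val h
        rw [htriv] at this
        exact this) hne2
      apply h0
      have := hmi ⟨ψ, hψ⟩
      simp only at this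
      rw [this, hz]
      simp
    have hψχ : ψ = χ := by
      have := congrArg Subtype.val hψθ
      rw [hθ0] at this
      exact this
    rw [hψχ]
    exact IsCharacter.apply_one_eq_charDegree (IsIrrCharacter.isCharacter hχ)

end equal

end Cfsg.Agent.Lib.Lead.Hecke
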