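import Mathlib
import Cfsg.Agent.Lib.Lead.Hecke4
import Cfsg.Agent.Lib.Helper6.FrobSchur

set_option autoImplicit false
set_option linter.unusedSectionVars false
set_option linter.unusedVariables false

open scoped ComplexConjugate
open Classical
open Cfsg.Agent.Lib.Helper6
open Matrix

namespace Cfsg.Agent.Lib.Lead.Hecke

section fs

variable {G : Type*} [Group G] [Fintype G]

/-- a nonzero Frobenius–Schur sum forces a real-valued character -/
theorem real_of_sum_sq_ne_zero {χ : G → ℂ} (hχ : Cfsg.IsIrrCharacter G χ)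
    (h : ∑ g : G, χ (g * g) ≠ 0) : ∀ g : G, conj (χ g) = χ g := by
  obtain ⟨n, ρ, hρ, rfl⟩ := hχ
  haveI := hρ
  obtain ⟨T, hT⟩ : ∃ T : Fin n → Fin n → Matrix (Fin n) (Fin n) ℂ,
      T = fun i j => ∑ g : G, repMat ρ g * Matrix.single i j (1 : ℂ) * (repMat ρ g)ᵀ := ⟨_, rfl⟩
  have hTinv : ∀ i j, IsInvForm ρ (T i j) := fun i j => by
    rw [hT]
    exact sum_isInvForm ρ _
  have hTent : ∀ i j k l, T i j k l = ∑ g : G, repMat ρ g k i * repMat ρ g l j := by
    intro i j k l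
    rw [hT]
    simp only [Matrix.sum_apply, mul_single_mul_transpose_apply]
  have hS2 : ∑ i, ∑ j, T i j j i = ∑ g : G, ρ.character (g * g) := by
    simp_rw [hTent, character_eq_trace_repMat, repMat_mul, Matrix.trace, Matrix.diag_apply,
      Matrix.mul_apply]
    rw [sum_comm3 (fun g i j => repMat ρ g j i * repMat ρ g i j)]
    apply Finset.sum_congr rfl
    intro g _
    rw [Finset.sum_comm]
  by_cases hex : ∃ i j, T i j ≠ 0
  · obtain ⟨i, j, hij⟩ := hex
    exact fun g => (hTinv i j).character_real hij g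
  · push Not at hex
    exfalso
    apply h
    rw [← hS2]
    simp [hex]

end fs

section swap

variable {G : Type*} [Group G] [Fintype G] {Ω : Type*} [Fintype Ω] [MulAction G Ω]

theorem sum_permChar_sq_eq_of_swap (hsw : ∀ a b : Ω, ∃ g : G, g • a = b ∧ g • b = a) :
    ∑ g : G, permChar G Ω (g * g) = ∑ g : G, permChar G Ω g * permChar G Ω g := by
  have hA : ∀ g : G, permChar G Ω (g * g)
      = ∑ ω : Ω, ∑ ω' : Ω, if g • ω = ω' ∧ g • ω' = ω then (1 : ℂ) else 0 := by
    intro g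
    rw [permChar_eq_sum]
    apply Finset.sum_congr rfl
    intro ω _
    rw [Finset.sum_eq_single (g • ω)]
    · simp [mul_smul]
    · intro ω' _ hne
      rw [if_neg]
      intro h
      exact hne h.1.symm
    · intro h
      exact absurd (Finset.mem_univ _) h
  have hB : ∀ g : G, permChar G Ω g * permChar G Ω g
      = ∑ ω : Ω, ∑ ω' : Ω, if g • ω = ω ∧ g • ω' = ω' then (1 : ℂ) else 0 := by
    intro g
    rw [permChar_eq_sum, Finset.sum_mul_sum]
    apply Finset.sum_congr rfl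
    intro ω _
    apply Finset.sum_congr rfl
    intro ω' _
    by_cases h1 : g • ω = ω <;> by_cases h2 : g • ω' = ω' <;> simp [h1, h2]
  simp_rw [hA, hB]
  rw [← sum_comm3 (fun (g : G) (ω ω' : Ω) => if g • ω = ω' ∧ g • ω' = ω then (1 : ℂ) else 0),
    ← sum_comm3 (fun (g : G) (ω ω' : Ω) => if g • ω = ω ∧ g • ω' = ω' then (1 : ℂ) else 0)]
  apply Finset.sum_congr rfl
  intro ω _
  apply Finset.sum_congr rfl
  intro ω' _
  obtain ⟨g0, h1, h2⟩ := hsw ω ω'
  rw [← Equiv.sum_comp (Equiv.mulLeft g0)]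
  apply Finset.sum_congr rfl
  intro g _
  have e1 : (g0 * g) • ω = ω' ↔ g • ω = ω := by
    rw [mul_smul]
    constructor
    · intro h
      exact smul_left_cancel g0 (by rw [h, h1])
    · intro h
      rw [h, h1]
  have e2 : (g0 * g) • ω' = ω ↔ g • ω' = ω' := by
    rw [mul_smul]
    constructor
    · intro h
      exact smul_left_cancel g0 (by rw [h, h2])
    · intro h
      rw [h, h2]
  simp only [Equiv.coe_mulLeft, e1, e2]

/-- forward direction of the self-paired criterion -/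
theorem multfree_real_of_swap [MulAction.IsPretransitive G Ω] [Nonempty Ω]
    (hsw : ∀ a b : Ω, ∃ g : G, g • a = b ∧ g • b = a) (χ : G → ℂ) (hχ : Cfsg.IsIrrCharacter G χ)
    (h0 : Cfsg.classInner (permChar G Ω) χ ≠ 0) :
    Cfsg.classInner (permChar G Ω) χ = 1 ∧ ∀ g : G, conj (χ g) = χ g := by
  haveI : Fintype (Cfsg.IrrCharacter G) := Fintype.ofFinite _
  obtain ⟨a⟩ := ‹Nonempty Ω›
  obtain ⟨m, hmi, hm1, hcard, hrank, hval⟩ := exists_mult_data (G := G) (Ω := Ω) a
  have hAB := sum_permChar_sq_eq_of_swap (G := G) (Ω := Ω) hsw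
  have hG : (Nat.card G : ℂ) ≠ 0 := by
    have : Nat.card G ≠ 0 := Nat.card_pos.ne'
    exact_mod_cast this
  -- the signs
  have hν : ∀ θ : Cfsg.IrrCharacter G, ∃ ν : ℤ, (ν = 1 ∨ ν = -1 ∨ ν = 0) ∧
      ∑ g : G, (θ : G → ℂ) (g * g) = (ν : ℂ) * (Nat.card G : ℂ) := by
    intro θ
    rcases IsIrrCharacter.sum_sq_cases θ.2 with h | h | h
    · exact ⟨1, Or.inl rfl, by rw [h]; simp⟩
    · exact ⟨-1, Or.inr (Or.inl rfl), by rw [h]; simp⟩
    · exact ⟨0, Or.inr (Or.inr rfl), by rw [h]; simp⟩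
  choose ν hν1 hν2 using hν
  have hA : ∑ g : G, permChar G Ω (g * g)
      = (Nat.card G : ℂ) * ((∑ θ, (m θ : ℤ) * ν θ : ℤ) : ℂ) := by
    simp_rw [hval]
    rw [Finset.sum_comm]
    push_cast
    rw [Finset.mul_sum]
    apply Finset.sum_congr rfl
    intro θ _
    rw [← Finset.mul_sum, hν2 θ]
    ring
  have hB : ∑ g : G, permChar G Ω g * permChar G Ω g
      = (Nat.card G : ℂ) * ((∑ θ, (m θ : ℤ) * (m θ : ℤ) : ℤ) : ℂ) := by
    rw [sum_permChar_sq a, hrank, Nat.card_eq_fintype_card]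
    push_cast
    rfl
  rw [hA, hB] at hAB
  have hZ : ∑ θ, (m θ : ℤ) * ν θ = ∑ θ, (m θ : ℤ) * (m θ : ℤ) := by
    have := mul_left_cancel₀ hG hAB
    exact_mod_cast this
  have hle : ∀ θ ∈ (Finset.univ : Finset (Cfsg.IrrCharacter G)),
      (m θ : ℤ) * ν θ ≤ (m θ : ℤ) * (m θ : ℤ) := by
    intro θ _
    rcases Nat.eq_zero_or_pos (m θ) with h | h
    · rw [h]
      simp
    · apply mul_le_mul_of_nonneg_left _ (by positivity)
      have h1 : (1 : ℤ) ≤ m θ := by exact_mod_cast h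
      rcases hν1 θ with h2 | h2 | h2 <;> rw [h2] <;> omega
  have heach := (Finset.sum_eq_sum_iff_of_le hle).mp hZ
  obtain ⟨θ0, hθ0⟩ : ∃ θ0 : Cfsg.IrrCharacter G, θ0 = ⟨χ, hχ⟩ := ⟨_, rfl⟩
  have hmθ : Cfsg.classInner (permChar G Ω) χ = m θ0 := by
    have := hmi θ0
    rw [hθ0] at this ⊢
    exact this
  have hm0 : m θ0 ≠ 0 := by
    intro h
    apply h0
    rw [hmθ, h]
    simp
  have h3 := heach θ0 (Finset.mem_univ _)
  have hm0' : (m θ0 : ℤ) ≠ 0 := by exact_mod_cast hm0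
  have h4 : ν θ0 = (m θ0 : ℤ) := mul_left_cancel₀ hm0' h3
  have hpos : (1 : ℤ) ≤ m θ0 := by
    have : 0 < m θ0 := Nat.pos_of_ne_zero hm0
    exact_mod_cast this
  have hν1' : ν θ0 = 1 := by
    rcases hν1 θ0 with h | h | h
    · exact h
    · omega
    · omega
  have hm1' : m θ0 = 1 := by
    have : (m θ0 : ℤ) = 1 := by rw [← h4, hν1']
    exact_mod_cast this
  constructor
  · rw [hmθ, hm1']
    simp
  · apply real_of_sum_sq_ne_zero hχ
    have := hν2 θ0
    rw [hθ0] at this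
    simp only at this
    rw [this, ← hθ0, hν1']
    simpa using hG

/-- backward direction of the self-paired criterion -/
theorem swap_of_multfree_real [MulAction.IsPretransitive G Ω]
    (hyp : ∀ χ : G → ℂ, Cfsg.IsIrrCharacter G χ → Cfsg.classInner (permChar G Ω) χ ≠ 0 →
      Cfsg.classInner (permChar G Ω) χ = 1 ∧ ∀ g : G, conj (χ g) = χ g) (a b : Ω) :
    ∃ g : G, g • a = b ∧ g • b = a := by
  haveI : Fintype (Cfsg.IrrCharacter G) := Fintype.ofFinite _
  obtain ⟨D, hD⟩ : ∃ D : Finset G, D = dset (G := G) a b := ⟨_, rfl⟩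
  have hL : LInv (MulAction.stabilizer G a) D := by rw [hD]; exact LInv_dset a b
  have hR : RInv (MulAction.stabilizer G a) D := by rw [hD]; exact RInv_dset a b
  have hL' := LInv_dinv hR
  have hR' := RInv_dinv hL
  have hterm : ∀ θ : Cfsg.IrrCharacter G,
      (θ : G → ℂ) 1 * th2 (MulAction.stabilizer G a) (θ : G → ℂ) D D
        = (θ : G → ℂ) 1 * th2 (MulAction.stabilizer G a) (θ : G → ℂ) D (dinv D) := by
    intro θ
    congr 1
    by_cases h0 : Cfsg.classInner (permChar G Ω) (θ : G → ℂ) = 0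
    · have h2 : th (MulAction.stabilizer G a) (θ : G → ℂ) (fs (MulAction.stabilizer G a)) = 0 := by
        rw [th_fs_eq a (IsIrrCharacter.isClassFunction θ.2), h0, map_zero]
      rw [th2_eq_zero (IsIrrCharacter.isCharacter θ.2) h2 hL,
        th2_eq_zero (IsIrrCharacter.isCharacter θ.2) h2 hL]
    · obtain ⟨h1, hreal⟩ := hyp θ θ.2 h0
      have hfs : th (MulAction.stabilizer G a) (θ : G → ℂ) (fs (MulAction.stabilizer G a)) = 1 := by
        rw [th_fs_eq a (IsIrrCharacter.isClassFunction θ.2), h1, map_one]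
      rw [th2_eq_mul (IsIrrCharacter.isCharacter θ.2) hfs hL hR hL hR,
        th2_eq_mul (IsIrrCharacter.isCharacter θ.2) hfs hL hR hL' hR',
        th_dinv (IsIrrCharacter.isCharacter θ.2)]
      congr 1
      unfold th
      rw [map_mul, map_inv₀, Complex.conj_natCast, map_sum]
      congr 1
      apply Finset.sum_congr rfl
      intro g _
      exact (hreal g).symm
  have hsum := Finset.sum_congr (s₁ := (Finset.univ : Finset (Cfsg.IrrCharacter G))) rfl
    (fun θ _ => hterm θ)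
  rw [sum_deg_th2, sum_deg_th2, filter_dinv] at hsum
  have hH := cardH_ne (MulAction.stabilizer G a)
  have hG : (Nat.card G : ℂ) ≠ 0 := by
    have : Nat.card G ≠ 0 := Nat.card_pos.ne'
    exact_mod_cast this
  have hcard : ((D.filter (fun g => g⁻¹ ∈ D)).card : ℂ) = (D.card : ℂ) := by
    have := mul_left_cancel₀ (mul_ne_zero (inv_ne_zero hH) (inv_ne_zero hH)) hsum
    exact mul_left_cancel₀ hG this
  have hDne : D.Nonempty := by
    obtain ⟨g0, hg0⟩ := MulAction.exists_smul_eq G a b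
    exact ⟨g0, by rw [hD]; exact mem_dset_of_smul hg0⟩
  have hfne : (D.filter (fun g => g⁻¹ ∈ D)).Nonempty := by
    rw [← Finset.card_pos]
    have : (D.filter (fun g => g⁻¹ ∈ D)).card = D.card := by exact_mod_cast hcard
    rw [this]
    exact Finset.card_pos.mpr hDne
  obtain ⟨g, hg⟩ := hfne
  rw [Finset.mem_filter, hD] at hg
  obtain ⟨x, hx⟩ := MulAction.mem_orbit_iff.mp (mem_dset.mp hg.1)
  obtain ⟨y, hy⟩ := MulAction.mem_orbit_iff.mp (mem_dset.mp hg.2)
  have hx' : (x : G) • b = g • a := hx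
  have hy' : (y : G) • b = g⁻¹ • a := hy
  refine ⟨(x : G)⁻¹ * g * (y : G), ?_, ?_⟩
  · rw [mul_smul, mul_smul, MulAction.mem_stabilizer_iff.mp y.2, ← hx', inv_smul_smul]
  · rw [mul_smul, mul_smul, hy', smul_inv_smul, inv_smul_eq_iff,
      MulAction.mem_stabilizer_iff.mp x.2]

end swap

section wielandt

theorem wielandt_params (m k : ℕ) (hm2 : 2 ≤ m) (hk : 2 ≤ k) (hk' : k + 3 ≤ 2 * m) (t : ℤ)
    (heq : 2 * (k : ℤ) * (k - 1) + 4 * ((m : ℤ) - 1) * k * t
      + (2 * (m : ℤ) - 1) * (m - 1) * t ^ 2 = 0) :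
    ∃ a : ℕ, 0 < a ∧ m = 2 * a ^ 2 + 2 * a + 1 ∧
      (k = a * (2 * a + 1) ∨ k = (a + 1) * (2 * a + 1)) := by
  have hkz : (2 : ℤ) ≤ k := by exact_mod_cast hk
  have hmz : (2 : ℤ) ≤ m := by exact_mod_cast hm2
  have hkmz : (k : ℤ) + 3 ≤ 2 * m := by exact_mod_cast hk'
  have ht_neg : t < 0 := by
    by_contra h
    push Not at h
    have h1 : (0 : ℤ) < 2 * k * (k - 1) := by nlinarith
    have h2 : (0 : ℤ) ≤ 4 * ((m : ℤ) - 1) * k * t := by
      have : (0 : ℤ) ≤ ((m : ℤ) - 1) * k := by nlinarith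
      nlinarith
    have h3 : (0 : ℤ) ≤ (2 * (m : ℤ) - 1) * (m - 1) * t ^ 2 := by
      have : (0 : ℤ) ≤ (2 * (m : ℤ) - 1) * (m - 1) := by nlinarith
      exact mul_nonneg this (sq_nonneg t)
    linarith
  have ht_ge : -2 ≤ t := by
    by_contra h
    push Not at h
    have h1 : 3 ≤ t * (t + 2) := by nlinarith
    have h2 : 6 ≤ 2 * ((m : ℤ) - 1) * (t * (t + 2)) := by nlinarith
    nlinarith [sq_nonneg (2 * (k : ℤ) + 2 * ((m : ℤ) - 1) * t - 1), h2, heq]
  have htcases : t = -1 ∨ t = -2 := by omega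
  rcases htcases with rfl | rfl
  · by_cases hkm : m ≤ k
    · obtain ⟨a, ha⟩ : ∃ a : ℕ, k = m + a := ⟨k - m, by omega⟩
      subst ha
      push_cast at heq
      have hmz' : (m : ℤ) = 2 * (a : ℤ) ^ 2 + 2 * a + 1 := by linear_combination (-1 : ℤ) * heq
      have hm' : m = 2 * a ^ 2 + 2 * a + 1 := by exact_mod_cast hmz'
      refine ⟨a, ?_, hm', Or.inr ?_⟩
      · rcases Nat.eq_zero_or_pos a with h | h
        · subst h
          omega
        · exact h
      · rw [hm']
        ring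
    · obtain ⟨a, ha⟩ : ∃ a : ℕ, m = k + a + 1 := ⟨m - k - 1, by omega⟩
      subst ha
      push_cast at heq
      have hkz' : (k : ℤ) = 2 * (a : ℤ) ^ 2 + a := by linear_combination (-1 : ℤ) * heq
      have hk'' : k = 2 * a ^ 2 + a := by exact_mod_cast hkz'
      refine ⟨a, ?_, ?_, Or.inl ?_⟩
      · rcases Nat.eq_zero_or_pos a with h | h
        · subst h
          omega
        · exact h
      · rw [hk'']
        ring
      · rw [hk'']
        ring
  · exfalso
    have h1 : (0 : ℤ) < (2 * (m : ℤ) - 1 - k) * (2 * (m : ℤ) - 2 - k) :=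
      mul_pos (by linarith) (by linarith)
    nlinarith [h1, heq]

theorem sum_three {ι : Type*} [Fintype ι] {M : Type*} [AddCommMonoid M] (F : ι → M)
    (x y z : ι) (hxy : x ≠ y) (hxz : x ≠ z) (hyz : y ≠ z)
    (h0 : ∀ i, i ≠ x → i ≠ y → i ≠ z → F i = 0) : ∑ i, F i = F x + F y + F z := by
  rw [← Finset.sum_subset (Finset.subset_univ ({x, y, z} : Finset ι)) (fun i _ hi => by
    simp only [Finset.mem_insert, Finset.mem_singleton, not_or] at hi
    exact h0 i hi.1 hi.2.1 hi.2.2)]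
  rw [Finset.sum_insert (by simp [hxy, hxz]), Finset.sum_insert (by simp [hyz]),
    Finset.sum_singleton, add_assoc]

end wielandt

end Cfsg.Agent.Lib.Lead.Hecke
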