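import Mathlib
import Cfsg.Prelude.Def_Perm
import Cfsg.Prelude.Def_Characters
import Cfsg.Agent.Lib.Helper5.TvGL
import Cfsg.Agent.Lib.Helper6.PermChar
import Cfsg.Agent.Lib.Helper6.Mult
import Cfsg.Agent.Lib.Helper6.Norm
import Cfsg.Agent.Lib.Helper6.Multiplicity
import Cfsg.Agent.Lib.Lead.CentRing

set_option autoImplicit false
set_option linter.unusedSectionVars false
set_option linter.unusedVariables false
set_option maxHeartbeats 800000

open Matrix
open Cfsg.Agent.Lib.Helper6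
open Cfsg.Agent.Lib.Helper5.TvGL

namespace Cfsg.Agent.Lib.Lead.SLPerm

variable {F : Type*} [Field F] {n : ℕ}

theorem inv_mulVec (g : Matrix.SpecialLinearGroup (Fin n) F) (v : Fin n → F) :
    (↑(g⁻¹) : Matrix (Fin n) (Fin n) F) *ᵥ ((g : Matrix (Fin n) (Fin n) F) *ᵥ v) = v := by
  rw [Matrix.mulVec_mulVec, ← Matrix.SpecialLinearGroup.coe_mul, inv_mul_cancel,
    Matrix.SpecialLinearGroup.coe_one, Matrix.one_mulVec]

theorem mulVec_inj (g : Matrix.SpecialLinearGroup (Fin n) F) {a b : Fin n → F}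
    (h : (g : Matrix (Fin n) (Fin n) F) *ᵥ a = (g : Matrix (Fin n) (Fin n) F) *ᵥ b) : a = b := by
  rw [← inv_mulVec g a, h, inv_mulVec]

theorem step (S : Submodule F (Fin n → F)) (x y : Fin n → F)
    (h : x ∉ S ⊔ Submodule.span F {y - x}) :
    ∃ g : Matrix.SpecialLinearGroup (Fin n) F,
      (∀ s ∈ S, (g : Matrix (Fin n) (Fin n) F) *ᵥ s = s) ∧
        (g : Matrix (Fin n) (Fin n) F) *ᵥ x = y := by
  obtain ⟨φ, hφ1, hφ2⟩ := exists_dual _ x h
  have hv : φ ⬝ᵥ (y - x) = 0 :=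
    hφ1 _ (Submodule.mem_sup_right (Submodule.mem_span_singleton_self _))
  refine ⟨⟨tvMat φ (y - x), det_tvMat φ _ hv⟩, fun s hs => ?_, ?_⟩
  · show tvMat φ (y - x) *ᵥ s = s
    rw [tvMat_mulVec, hφ1 s (Submodule.mem_sup_left hs), zero_smul, add_zero]
  · show tvMat φ (y - x) *ᵥ x = y
    rw [tvMat_mulVec, hφ2, one_smul]
    abel

theorem move (S : Submodule F (Fin n → F)) (x y z : Fin n → F) (hx : x ∉ S) (hy : y ∉ S)
    (hz : z ∉ S ⊔ Submodule.span F {x}) :
    ∃ g : Matrix.SpecialLinearGroup (Fin n) F,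
      (∀ s ∈ S, (g : Matrix (Fin n) (Fin n) F) *ᵥ s = s) ∧
        (g : Matrix (Fin n) (Fin n) F) *ᵥ x = y := by
  by_cases hA : x ∈ S ⊔ Submodule.span F {y - x}
  · obtain ⟨s, hs, t, ht, hst⟩ := Submodule.mem_sup.1 hA
    obtain ⟨c, rfl⟩ := Submodule.mem_span_singleton.1 ht
    have hc : c ≠ 0 := by
      rintro rfl
      apply hx
      have : x = s := by simpa using hst.symm
      rw [this]; exact hs
    obtain ⟨T, hT⟩ : ∃ T : Submodule F (Fin n → F), T = S ⊔ Submodule.span F {x} := ⟨_, rfl⟩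
    rw [← hT] at hz
    have hxT : x ∈ T := by
      rw [hT]; exact Submodule.mem_sup_right (Submodule.mem_span_singleton_self _)
    have hST : ∀ s ∈ S, s ∈ T := fun s hs => by rw [hT]; exact Submodule.mem_sup_left hs
    have hyT : y ∈ T := by
      rw [← T.smul_mem_iff hc]
      have h1 : c • (y - x) = x - s := eq_sub_of_add_eq' hst
      have h2 : c • y = (x - s) + c • x := by rw [← h1, ← smul_add, sub_add_cancel]
      rw [h2]
      exact T.add_mem (T.sub_mem hxT (hST s hs)) (T.smul_mem c hxT)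
    have h1' : x ∉ S ⊔ Submodule.span F {z - x} := by
      intro hm
      obtain ⟨s₁, hs₁, t₁, ht₁, hst₁⟩ := Submodule.mem_sup.1 hm
      obtain ⟨c₁, rfl⟩ := Submodule.mem_span_singleton.1 ht₁
      have hc₁ : c₁ ≠ 0 := by
        rintro rfl
        apply hx
        have : x = s₁ := by simpa using hst₁.symm
        rw [this]; exact hs₁
      have h2 : c₁ • (z - x) = x - s₁ := eq_sub_of_add_eq' hst₁
      have h3 : c₁ • z = (x - s₁) + c₁ • x := by rw [← h2, ← smul_add, sub_add_cancel]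
      apply hz
      rw [← T.smul_mem_iff hc₁, h3]
      exact T.add_mem (T.sub_mem hxT (hST _ hs₁)) (T.smul_mem _ hxT)
    have h2' : z ∉ S ⊔ Submodule.span F {y - z} := by
      intro hm
      obtain ⟨s₂, hs₂, t₂, ht₂, hst₂⟩ := Submodule.mem_sup.1 hm
      obtain ⟨c₂, rfl⟩ := Submodule.mem_span_singleton.1 ht₂
      by_cases h1c : 1 + c₂ = 0
      · have hc2 : c₂ = -1 := by linear_combination h1c
        rw [hc2, neg_one_smul, neg_sub] at hst₂
        apply hy
        have h5 : s₂ - y = 0 := by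
          have h := sub_eq_zero.2 hst₂
          rw [← h]; abel
        rw [← sub_eq_zero.1 h5]; exact hs₂
      · have h6 : (1 + c₂) • z = s₂ + c₂ • y := by
          rw [add_smul, one_smul]
          rw [smul_sub] at hst₂
          calc z + c₂ • z = (s₂ + (c₂ • y - c₂ • z)) + c₂ • z := by rw [hst₂]
            _ = s₂ + c₂ • y := by abel
        apply hz
        rw [← T.smul_mem_iff h1c, h6]
        exact T.add_mem (hST _ hs₂) (T.smul_mem _ hyT)
    obtain ⟨g₁, hg₁S, hg₁x⟩ := step S x z h1'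
    obtain ⟨g₂, hg₂S, hg₂z⟩ := step S z y h2'
    refine ⟨g₂ * g₁, fun s hs => ?_, ?_⟩
    · rw [Matrix.SpecialLinearGroup.coe_mul, ← Matrix.mulVec_mulVec, hg₁S s hs, hg₂S s hs]
    · rw [Matrix.SpecialLinearGroup.coe_mul, ← Matrix.mulVec_mulVec, hg₁x, hg₂z]
  · exact step S x y hA

theorem single_ne (i0 i1 : Fin n) (h01 : i0 ≠ i1) (c : F) :
    (Pi.single i1 (1 : F) : Fin n → F) ≠ c • Pi.single i0 1 := by
  intro h
  have := congrFun h i1
  simp [h01.symm] at this

theorem single_ne_zero' (i : Fin n) : (Pi.single i (1 : F) : Fin n → F) ≠ 0 := by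
  intro h
  have := congrFun h i
  simp at this

theorem trans1 (i0 i1 : Fin n) (h01 : i0 ≠ i1) (u : Fin n → F) (hu : u ≠ 0) :
    ∃ g : Matrix.SpecialLinearGroup (Fin n) F,
      (g : Matrix (Fin n) (Fin n) F) *ᵥ (Pi.single i0 1) = u := by
  obtain ⟨g, -, hg⟩ := move (⊥ : Submodule F (Fin n → F)) (Pi.single i0 1) u (Pi.single i1 1)
    (by rw [Submodule.mem_bot]; exact single_ne_zero' i0)
    (by rw [Submodule.mem_bot]; exact hu)
    (by
      rw [bot_sup_eq, Submodule.mem_span_singleton]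
      rintro ⟨c, hc⟩
      exact single_ne i0 i1 h01 c hc.symm)
  exact ⟨g, hg⟩

theorem trans2 (i0 i1 i2 : Fin n) (h01 : i0 ≠ i1) (h02 : i0 ≠ i2) (h12 : i1 ≠ i2)
    (u w : Fin n → F) (hu : u ≠ 0) (hw : ∀ c : F, w ≠ c • u) :
    ∃ g : Matrix.SpecialLinearGroup (Fin n) F,
      (g : Matrix (Fin n) (Fin n) F) *ᵥ (Pi.single i0 1) = u ∧
      (g : Matrix (Fin n) (Fin n) F) *ᵥ (Pi.single i1 1) = w := by
  obtain ⟨g₁, hg₁⟩ := trans1 i0 i1 h01 u hu
  obtain ⟨g₂, hg₂S, hg₂⟩ := move (Submodule.span F {u})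
    ((g₁ : Matrix (Fin n) (Fin n) F) *ᵥ (Pi.single i1 1)) w
    ((g₁ : Matrix (Fin n) (Fin n) F) *ᵥ (Pi.single i2 1))
    (by
      rw [Submodule.mem_span_singleton]
      rintro ⟨c, hc⟩
      rw [← hg₁, ← Matrix.mulVec_smul] at hc
      exact single_ne i0 i1 h01 c (mulVec_inj g₁ hc).symm)
    (by
      rw [Submodule.mem_span_singleton]
      rintro ⟨c, hc⟩
      exact hw c hc.symm)
    (by
      rw [Submodule.mem_sup]
      rintro ⟨s, hs, t, ht, hst⟩
      obtain ⟨a, rfl⟩ := Submodule.mem_span_singleton.1 hs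
      obtain ⟨b, rfl⟩ := Submodule.mem_span_singleton.1 ht
      rw [← hg₁, ← Matrix.mulVec_smul, ← Matrix.mulVec_smul, ← Matrix.mulVec_add] at hst
      have h := mulVec_inj g₁ hst
      have := congrFun h i2
      simp [h02.symm, h12.symm] at this)
  refine ⟨g₂ * g₁, ?_, ?_⟩
  · rw [Matrix.SpecialLinearGroup.coe_mul, ← Matrix.mulVec_mulVec, hg₁]
    exact hg₂S u (Submodule.mem_span_singleton_self u)
  · rw [Matrix.SpecialLinearGroup.coe_mul, ← Matrix.mulVec_mulVec, hg₂]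

/-- the non-zero vectors -/
abbrev Om (n : ℕ) (F : Type*) [Field F] := {v : Fin n → F // v ≠ 0}

instance instMulActionOm : MulAction (Matrix.SpecialLinearGroup (Fin n) F) (Om n F) where
  smul g v := ⟨(g : Matrix (Fin n) (Fin n) F) *ᵥ v.1,
    fun h => v.2 (mulVec_inj g (by rw [h, Matrix.mulVec_zero]))⟩
  one_smul v := Subtype.ext (by
    show ((1 : Matrix.SpecialLinearGroup (Fin n) F) : Matrix (Fin n) (Fin n) F) *ᵥ v.1 = v.1
    rw [Matrix.SpecialLinearGroup.coe_one, Matrix.one_mulVec])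
  mul_smul g h v := Subtype.ext (by
    show (↑(g * h) : Matrix (Fin n) (Fin n) F) *ᵥ v.1
      = (g : Matrix (Fin n) (Fin n) F) *ᵥ ((h : Matrix (Fin n) (Fin n) F) *ᵥ v.1)
    rw [Matrix.SpecialLinearGroup.coe_mul, Matrix.mulVec_mulVec])

noncomputable def kap (p : Om n F × Om n F) : F := by
  classical
  exact if h : ∃ c : F, p.2.1 = c • p.1.1 then h.choose else 0

theorem kap_of_smul {p : Om n F × Om n F} {c : F} (h : p.2.1 = c • p.1.1) : kap p = c := by
  classical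
  have hex : ∃ c : F, p.2.1 = c • p.1.1 := ⟨c, h⟩
  unfold kap
  rw [dif_pos hex]
  have h2 := hex.choose_spec
  have h3 : (hex.choose - c) • p.1.1 = 0 := by rw [sub_smul, ← h2, ← h, sub_self]
  rcases smul_eq_zero.1 h3 with h4 | h4
  · exact sub_eq_zero.1 h4
  · exact absurd h4 p.1.2

theorem kap_of_not {p : Om n F × Om n F} (h : ∀ c : F, p.2.1 ≠ c • p.1.1) : kap p = 0 := by
  classical
  unfold kap
  rw [dif_neg]
  rintro ⟨c, hc⟩
  exact h c hc

theorem kap_cases (p : Om n F × Om n F) :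
    (p.2.1 = kap p • p.1.1 ∧ kap p ≠ 0) ∨ (kap p = 0 ∧ ∀ c : F, p.2.1 ≠ c • p.1.1) := by
  by_cases h : ∃ c : F, p.2.1 = c • p.1.1
  · obtain ⟨c, hc⟩ := h
    left
    rw [kap_of_smul hc]
    refine ⟨hc, ?_⟩
    rintro rfl
    apply p.2.2
    rw [hc, zero_smul]
  · right
    push Not at h
    exact ⟨kap_of_not h, h⟩

theorem kap_smul (g : Matrix.SpecialLinearGroup (Fin n) F) (p : Om n F × Om n F) :
    kap (g • p) = kap p := by
  rcases kap_cases p with ⟨h1, h2⟩ | ⟨h1, h2⟩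
  · apply kap_of_smul
    show (g : Matrix (Fin n) (Fin n) F) *ᵥ p.2.1
      = kap p • ((g : Matrix (Fin n) (Fin n) F) *ᵥ p.1.1)
    rw [← Matrix.mulVec_smul, ← h1]
  · rw [h1]
    apply kap_of_not
    intro c hc
    apply h2 c
    apply mulVec_inj g
    rw [Matrix.mulVec_smul]
    exact hc

theorem same_orbit (i0 i1 i2 : Fin n) (h01 : i0 ≠ i1) (h02 : i0 ≠ i2) (h12 : i1 ≠ i2)
    (p q : Om n F × Om n F) (h : kap p = kap q) :
    ∃ g : Matrix.SpecialLinearGroup (Fin n) F, g • q = p := by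
  rcases kap_cases p with ⟨hp1, hp2⟩ | ⟨hp1, hp2⟩
  · have hq1 : q.2.1 = kap q • q.1.1 := by
      rcases kap_cases q with ⟨hq1, _⟩ | ⟨hq1, _⟩
      · exact hq1
      · exact absurd (h.trans hq1) hp2
    obtain ⟨g₁, hg₁⟩ := trans1 i0 i1 h01 p.1.1 p.1.2
    obtain ⟨g₂, hg₂⟩ := trans1 i0 i1 h01 q.1.1 q.1.2
    refine ⟨g₁ * g₂⁻¹, Prod.ext (Subtype.ext ?_) (Subtype.ext ?_)⟩
    · show (↑(g₁ * g₂⁻¹) : Matrix (Fin n) (Fin n) F) *ᵥ q.1.1 = p.1.1
      rw [← hg₂, Matrix.SpecialLinearGroup.coe_mul, ← Matrix.mulVec_mulVec, inv_mulVec, hg₁]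
    · show (↑(g₁ * g₂⁻¹) : Matrix (Fin n) (Fin n) F) *ᵥ q.2.1 = p.2.1
      rw [hq1, Matrix.mulVec_smul, ← hg₂, Matrix.SpecialLinearGroup.coe_mul, ← Matrix.mulVec_mulVec,
        inv_mulVec, hg₁, ← h, ← hp1]
  · have hq0 : kap q = 0 := h.symm.trans hp1
    have hq2 : ∀ c : F, q.2.1 ≠ c • q.1.1 := by
      rcases kap_cases q with ⟨_, hq2⟩ | ⟨_, hq2⟩
      · exact absurd hq0 hq2
      · exact hq2
    obtain ⟨g₁, hg₁a, hg₁b⟩ := trans2 i0 i1 i2 h01 h02 h12 p.1.1 p.2.1 p.1.2 hp2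
    obtain ⟨g₂, hg₂a, hg₂b⟩ := trans2 i0 i1 i2 h01 h02 h12 q.1.1 q.2.1 q.1.2 hq2
    refine ⟨g₁ * g₂⁻¹, Prod.ext (Subtype.ext ?_) (Subtype.ext ?_)⟩
    · show (↑(g₁ * g₂⁻¹) : Matrix (Fin n) (Fin n) F) *ᵥ q.1.1 = p.1.1
      rw [← hg₂a, Matrix.SpecialLinearGroup.coe_mul, ← Matrix.mulVec_mulVec, inv_mulVec, hg₁a]
    · show (↑(g₁ * g₂⁻¹) : Matrix (Fin n) (Fin n) F) *ᵥ q.2.1 = p.2.1
      rw [← hg₂b, Matrix.SpecialLinearGroup.coe_mul, ← Matrix.mulVec_mulVec, inv_mulVec, hg₁b]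

theorem card_orbits (i0 i1 i2 : Fin n) (h01 : i0 ≠ i1) (h02 : i0 ≠ i2) (h12 : i1 ≠ i2) :
    Nat.card (Quotient (MulAction.orbitRel (Matrix.SpecialLinearGroup (Fin n) F) (Om n F × Om n F)))
      = Nat.card F := by
  have hwd : ∀ p q : Om n F × Om n F,
      (MulAction.orbitRel (Matrix.SpecialLinearGroup (Fin n) F) (Om n F × Om n F)).r p q →
        kap p = kap q := by
    intro p q hpq
    obtain ⟨g, hg⟩ := hpq
    rw [← hg]
    exact kap_smul g q
  apply Nat.card_congr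
  refine Equiv.ofBijective (Quotient.lift (kap : Om n F × Om n F → F) hwd) ⟨?_, ?_⟩
  · intro a b
    induction a using Quotient.inductionOn with | _ p => ?_
    induction b using Quotient.inductionOn with | _ q => ?_
    intro hab
    change kap p = kap q at hab
    apply Quotient.sound
    obtain ⟨g, hg⟩ := same_orbit i0 i1 i2 h01 h02 h12 p q hab
    exact ⟨g, hg⟩
  · intro c
    by_cases hc : c = 0
    · refine ⟨Quotient.mk _ (⟨Pi.single i0 1, single_ne_zero' i0⟩,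
        ⟨Pi.single i1 1, single_ne_zero' i1⟩), ?_⟩
      show kap _ = c
      rw [hc]
      apply kap_of_not
      intro d
      exact single_ne i0 i1 h01 d
    · refine ⟨Quotient.mk _ (⟨Pi.single i0 1, single_ne_zero' i0⟩,
        ⟨c • Pi.single i0 1, smul_ne_zero hc (single_ne_zero' i0)⟩), ?_⟩
      show kap _ = c
      exact kap_of_smul rfl

theorem card_fix (g : Matrix.SpecialLinearGroup (Fin n) F) :
    Nat.card {v : Fin n → F // v ≠ 0 ∧ (g : Matrix (Fin n) (Fin n) F).mulVec v = v}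
      = Nat.card (MulAction.fixedBy (Om n F) g) := by
  apply Nat.card_congr
  exact
    { toFun := fun v => ⟨⟨v.1, v.2.1⟩, by
        rw [MulAction.mem_fixedBy]; exact Subtype.ext v.2.2⟩
      invFun := fun x => ⟨x.1.1, x.1.2, by
        have := x.2
        rw [MulAction.mem_fixedBy] at this
        exact congrArg Subtype.val this⟩
      left_inv := fun v => rfl
      right_inv := fun x => rfl }

section comm

variable [Fintype F] [DecidableEq F]

/-- scaling on the non-zero vectors -/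
def sc (c : Fˣ) (x : Om n F) : Om n F := ⟨(c : F) • x.1, smul_ne_zero c.ne_zero x.2⟩

def scEquiv (c : Fˣ) : Om n F ≃ Om n F where
  toFun := sc c
  invFun := sc c⁻¹
  left_inv x := Subtype.ext (by
    show ((c⁻¹ : Fˣ) : F) • ((c : F) • x.1) = x.1
    rw [smul_smul, Units.inv_mul, one_smul])
  right_inv x := Subtype.ext (by
    show ((c : Fˣ) : F) • (((c⁻¹ : Fˣ) : F) • x.1) = x.1
    rw [smul_smul, Units.mul_inv, one_smul])

noncomputable def P (c : Fˣ) : Module.End ℂ (Om n F → ℂ) := LinearMap.funLeft ℂ ℂ (sc c)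

noncomputable def J : Module.End ℂ (Om n F → ℂ) where
  toFun f := fun _ => ∑ y, f y
  map_add' f g := by funext x; simp [Finset.sum_add_distrib]
  map_smul' c f := by funext x; simp [Finset.mul_sum]

theorem P_comm (c d : Fˣ) : Commute (P c : Module.End ℂ (Om n F → ℂ)) (P d) := by
  show P c * P d = P d * P c
  apply LinearMap.ext; intro f; funext x
  show f (sc d (sc c x)) = f (sc c (sc d x))
  congr 1
  exact Subtype.ext (smul_comm _ _ _)

theorem P_J_comm (c : Fˣ) : Commute (P c : Module.End ℂ (Om n F → ℂ)) J := by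
  show P c * J = J * P c
  apply LinearMap.ext; intro f; funext x
  show ∑ y, f y = ∑ y, f (sc c y)
  exact (Equiv.sum_comp (scEquiv c) f).symm

noncomputable def comb (a : Fˣ → ℂ) (b : ℂ) : Module.End ℂ (Om n F → ℂ) :=
  ∑ c, a c • P c + b • J

theorem comb_comm (a a' : Fˣ → ℂ) (b b' : ℂ) :
    Commute (comb a b : Module.End ℂ (Om n F → ℂ)) (comb a' b') := by
  have hP : ∀ c, Commute (P c : Module.End ℂ (Om n F → ℂ)) (comb a' b') := fun c =>
    Commute.add_right (Commute.sum_right _ _ _ fun d _ => (P_comm c d).smul_right (a' d))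
      ((P_J_comm c).smul_right b')
  have hJ : Commute (J : Module.End ℂ (Om n F → ℂ)) (comb a' b') :=
    Commute.add_right (Commute.sum_right _ _ _ fun d _ => ((P_J_comm d).symm).smul_right (a' d))
      ((Commute.refl J).smul_right b')
  exact Commute.add_left (Commute.sum_left _ _ _ fun c _ => (hP c).smul_left (a c))
    (hJ.smul_left b)

theorem comb_apply (a : Fˣ → ℂ) (b : ℂ) (f : Om n F → ℂ) (x : Om n F) :
    comb a b f x = ∑ c, a c * f (sc c x) + b * ∑ z, f z := by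
  simp only [comb, LinearMap.add_apply, LinearMap.sum_apply, LinearMap.smul_apply, Pi.add_apply,
    Finset.sum_apply, Pi.smul_apply, smul_eq_mul]
  rfl

theorem rho_single (g : Matrix.SpecialLinearGroup (Fin n) F) (y : Om n F) :
    (Cfsg.permRep ℂ (Matrix.SpecialLinearGroup (Fin n) F) (Om n F)) g (Pi.single y (1 : ℂ))
      = Pi.single (g • y) 1 := by
  funext z
  show (Pi.single y (1 : ℂ) : Om n F → ℂ) (g⁻¹ • z) = (Pi.single (g • y) (1 : ℂ) : Om n F → ℂ) z
  rw [Pi.single_apply, Pi.single_apply]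
  simp only [inv_smul_eq_iff]

theorem ker_inv (S : Module.End ℂ (Om n F → ℂ))
    (hS : ∀ g : Matrix.SpecialLinearGroup (Fin n) F,
      S ∘ₗ (Cfsg.permRep ℂ (Matrix.SpecialLinearGroup (Fin n) F) (Om n F)) g
        = (Cfsg.permRep ℂ (Matrix.SpecialLinearGroup (Fin n) F) (Om n F)) g ∘ₗ S)
    (g : Matrix.SpecialLinearGroup (Fin n) F) (x y : Om n F) :
    S (Pi.single (g • y) 1) (g • x) = S (Pi.single y 1) x := by
  rw [← rho_single]
  have h := LinearMap.congr_fun (hS g) (Pi.single y 1)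
  simp only [LinearMap.comp_apply] at h
  rw [h]
  show S (Pi.single y 1) (g⁻¹ • g • x) = _
  rw [inv_smul_smul]

theorem inv_eq_comb (i0 i1 i2 : Fin n) (h01 : i0 ≠ i1) (h02 : i0 ≠ i2) (h12 : i1 ≠ i2)
    (S : Module.End ℂ (Om n F → ℂ))
    (hS : ∀ g : Matrix.SpecialLinearGroup (Fin n) F,
      S ∘ₗ (Cfsg.permRep ℂ (Matrix.SpecialLinearGroup (Fin n) F) (Om n F)) g
        = (Cfsg.permRep ℂ (Matrix.SpecialLinearGroup (Fin n) F) (Om n F)) g ∘ₗ S) :
    ∃ (a : Fˣ → ℂ) (b : ℂ), S = comb a b := by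
  obtain ⟨e0, he0⟩ : ∃ e0 : Om n F, e0.1 = Pi.single i0 1 :=
    ⟨⟨Pi.single i0 1, single_ne_zero' i0⟩, rfl⟩
  obtain ⟨e1, he1⟩ : ∃ e1 : Om n F, e1.1 = Pi.single i1 1 :=
    ⟨⟨Pi.single i1 1, single_ne_zero' i1⟩, rfl⟩
  obtain ⟨b, hb⟩ : ∃ b : ℂ, b = S (Pi.single e1 1) e0 := ⟨_, rfl⟩
  obtain ⟨a, ha⟩ : ∃ a : Fˣ → ℂ, ∀ c, a c = S (Pi.single (sc c e0) 1) e0 - b := ⟨_, fun _ => rfl⟩
  refine ⟨a, b, ?_⟩
  apply (Pi.basisFun ℂ (Om n F)).ext
  intro y
  rw [Pi.basisFun_apply]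
  funext x
  rw [comb_apply]
  have hsum1 : ∑ z : Om n F, (Pi.single y (1 : ℂ) : Om n F → ℂ) z = 1 := by
    rw [Finset.sum_pi_single']
    simp
  rw [hsum1, mul_one]
  rcases kap_cases (x, y) with ⟨hk1, hk2⟩ | ⟨hk1, hk2⟩
  · obtain ⟨c₀, hc₀⟩ : ∃ c₀ : Fˣ, (c₀ : F) = kap (x, y) := ⟨Units.mk0 _ hk2, rfl⟩
    have hy : y = sc c₀ x := Subtype.ext (by
      show y.1 = (c₀ : F) • x.1
      rw [hc₀]; exact hk1)
    rw [Finset.sum_eq_single c₀]
    · rw [hy, Pi.single_eq_same, mul_one, ha c₀, sub_add_cancel]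
      obtain ⟨g, hg⟩ := trans1 i0 i1 h01 x.1 x.2
      have hgx : g • e0 = x := Subtype.ext (by
        show (g : Matrix (Fin n) (Fin n) F) *ᵥ e0.1 = x.1
        rw [he0]; exact hg)
      have hgy : g • (sc c₀ e0) = sc c₀ x := Subtype.ext (by
        show (g : Matrix (Fin n) (Fin n) F) *ᵥ ((c₀ : F) • e0.1) = (c₀ : F) • x.1
        rw [Matrix.mulVec_smul, he0, hg])
      have h := ker_inv S hS g e0 (sc c₀ e0)
      rw [hgy, hgx] at h
      exact h
    · intro c _ hc
      rw [Pi.single_apply, if_neg, mul_zero]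
      intro heq
      apply hc
      rw [hy] at heq
      have h1 : (c : F) • x.1 = (c₀ : F) • x.1 := congrArg Subtype.val heq
      have h2 : ((c : F) - (c₀ : F)) • x.1 = 0 := by rw [sub_smul, h1, sub_self]
      rcases smul_eq_zero.1 h2 with h3 | h3
      · exact Units.ext (sub_eq_zero.1 h3)
      · exact absurd h3 x.2
    · intro h
      exact absurd (Finset.mem_univ _) h
  · rw [Finset.sum_eq_zero, zero_add]
    · obtain ⟨g, hg0, hg1⟩ := trans2 i0 i1 i2 h01 h02 h12 x.1 y.1 x.2 hk2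
      have hgx : g • e0 = x := Subtype.ext (by
        show (g : Matrix (Fin n) (Fin n) F) *ᵥ e0.1 = x.1
        rw [he0]; exact hg0)
      have hgy : g • e1 = y := Subtype.ext (by
        show (g : Matrix (Fin n) (Fin n) F) *ᵥ e1.1 = y.1
        rw [he1]; exact hg1)
      have h := ker_inv S hS g e0 e1
      rw [hgy, hgx] at h
      rw [hb]
      exact h
    · intro c _
      rw [Pi.single_apply, if_neg, mul_zero]
      intro heq
      exact hk2 c (congrArg Subtype.val heq).symm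

theorem central_comm (i0 i1 i2 : Fin n) (h01 : i0 ≠ i1) (h02 : i0 ≠ i2) (h12 : i1 ≠ i2) :
    ∀ S T : (Om n F → ℂ) →ₗ[ℂ] (Om n F → ℂ),
      S ∈ ((Cfsg.permRep ℂ (Matrix.SpecialLinearGroup (Fin n) F) (Om n F)).linHom
        (Cfsg.permRep ℂ (Matrix.SpecialLinearGroup (Fin n) F) (Om n F))).invariants →
      T ∈ ((Cfsg.permRep ℂ (Matrix.SpecialLinearGroup (Fin n) F) (Om n F)).linHom
        (Cfsg.permRep ℂ (Matrix.SpecialLinearGroup (Fin n) F) (Om n F))).invariants →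
      S ∘ₗ T = T ∘ₗ S := by
  intro S T hS hT
  obtain ⟨a, b, rfl⟩ := inv_eq_comb i0 i1 i2 h01 h02 h12 S
    ((Cfsg.Agent.Lib.Lead.CentRing.mem_inv_iff _ S).1 hS)
  obtain ⟨a', b', rfl⟩ := inv_eq_comb i0 i1 i2 h01 h02 h12 T
    ((Cfsg.Agent.Lib.Lead.CentRing.mem_inv_iff _ T).1 hT)
  exact (comb_comm a a' b b').eq

theorem main (hn : 3 ≤ n) :
    ∃ χ : Fin (Fintype.card F - 1) → (Matrix.SpecialLinearGroup (Fin n) F → ℂ),
      (∀ i, Cfsg.IsIrrCharacter (Matrix.SpecialLinearGroup (Fin n) F) (χ i)) ∧ Function.Injective χ ∧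
      ∀ g : Matrix.SpecialLinearGroup (Fin n) F,
        (Nat.card {v : Fin n → F // v ≠ 0 ∧ (g : Matrix (Fin n) (Fin n) F).mulVec v = v} : ℂ)
          = 1 + ∑ i, χ i g := by
  classical
  obtain ⟨i0, i1, i2, h01, h02, h12⟩ :
      ∃ i0 i1 i2 : Fin n, i0 ≠ i1 ∧ i0 ≠ i2 ∧ i1 ≠ i2 :=
    ⟨⟨0, by omega⟩, ⟨1, by omega⟩, ⟨2, by omega⟩, by simp [Fin.ext_iff], by simp [Fin.ext_iff],
      by simp [Fin.ext_iff]⟩
  haveI : Fintype (Cfsg.IrrCharacter (Matrix.SpecialLinearGroup (Fin n) F)) := Fintype.ofFinite _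
  have hπ : Cfsg.IsCharacter (Matrix.SpecialLinearGroup (Fin n) F)
      (permChar (Matrix.SpecialLinearGroup (Fin n) F) (Om n F)) := isCharacter_permChar _
  obtain ⟨m, hm, hmi⟩ := IsCharacter.exists_mult hπ
  have hcomm := central_comm (F := F) i0 i1 i2 h01 h02 h12
  have hmf := (Cfsg.Agent.Lib.Lead.CentRing.centraliser_comm_iff
    (G := Matrix.SpecialLinearGroup (Fin n) F) (Ω := Om n F)).2 hcomm
  have hmult : ∀ θ : Cfsg.IrrCharacter (Matrix.SpecialLinearGroup (Fin n) F), m θ = 0 ∨ m θ = 1 := by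
    intro θ
    have h := hmf θ.1 θ.2
    have h2 := hmi θ
    unfold permChar at h2
    rw [h2] at h
    rcases h with h | h
    · left; exact_mod_cast h
    · right; exact_mod_cast h
  have hnorm : ∑ θ, m θ * m θ = Nat.card F := by
    have h1 := classInner_permChar_self (G := Matrix.SpecialLinearGroup (Fin n) F) (Om n F)
    rw [card_orbits i0 i1 i2 h01 h02 h12] at h1
    have h2 := classInner_sum_irr m m
    rw [← hm, h1] at h2
    exact_mod_cast h2.symm
  obtain ⟨triv, htriv⟩ : ∃ t : Cfsg.IrrCharacter (Matrix.SpecialLinearGroup (Fin n) F),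
      (t : Matrix.SpecialLinearGroup (Fin n) F → ℂ) = fun _ => 1 := ⟨⟨_, isIrrCharacter_one⟩, rfl⟩
  have h1 : m triv = 1 := by
    rcases hmult triv with h | h
    · exfalso
      have h2 := hmi triv
      rw [h, htriv] at h2
      have h3 := classInner_permChar_one (G := Matrix.SpecialLinearGroup (Fin n) F) (Om n F)
      rw [h3] at h2
      have h5 : Nat.card (Quotient (MulAction.orbitRel (Matrix.SpecialLinearGroup (Fin n) F) (Om n F)))
          ≠ 0 := by
        haveI : Nonempty (Quotient (MulAction.orbitRel (Matrix.SpecialLinearGroup (Fin n) F) (Om n F))) :=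
          ⟨Quotient.mk _ ⟨Pi.single i0 1, single_ne_zero' i0⟩⟩
        exact Nat.card_pos.ne'
      exact h5 (by exact_mod_cast h2)
    · exact h
  obtain ⟨A, hA⟩ : ∃ A : Finset (Cfsg.IrrCharacter (Matrix.SpecialLinearGroup (Fin n) F)),
      A = Finset.univ.filter (fun θ => m θ = 1) := ⟨_, rfl⟩
  have hAcard : A.card = Nat.card F := by
    rw [← hnorm, hA, Finset.card_filter]
    apply Finset.sum_congr rfl
    intro θ _
    rcases hmult θ with h | h <;> simp [h]
  have htrivA : triv ∈ A := by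
    rw [hA, Finset.mem_filter]; exact ⟨Finset.mem_univ _, h1⟩
  have hB : (A.erase triv).card = Fintype.card F - 1 := by
    rw [Finset.card_erase_of_mem htrivA, hAcard, Nat.card_eq_fintype_card]
  obtain ⟨e, -⟩ : ∃ e : ↥(A.erase triv) ≃ Fin (Fintype.card F - 1), True :=
    ⟨Finset.equivFinOfCardEq hB, trivial⟩
  refine ⟨fun i => (e.symm i).1.1, fun i => (e.symm i).1.2, ?_, ?_⟩
  · intro i j hij
    have : e.symm i = e.symm j := Subtype.ext (Subtype.ext hij)
    exact e.symm.injective this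
  · intro g
    rw [card_fix g]
    have hval : (Nat.card (MulAction.fixedBy (Om n F) g) : ℂ) = ∑ θ, (m θ : ℂ) * θ.1 g := by
      have := congrFun hm g
      unfold permChar at this
      rw [this, Finset.sum_apply]
      apply Finset.sum_congr rfl
      intro θ _
      rw [Pi.smul_apply, nsmul_eq_mul]
    rw [hval]
    have h2 : ∑ θ, (m θ : ℂ) * θ.1 g = ∑ θ ∈ A, θ.1 g := by
      rw [hA, Finset.sum_filter]
      apply Finset.sum_congr rfl
      intro θ _
      rcases hmult θ with h | h <;> simp [h]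
    have ht1 : triv.1 g = 1 := by rw [htriv]
    rw [h2, ← Finset.add_sum_erase A (fun θ => θ.1 g) htrivA]
    show triv.1 g + _ = _
    rw [ht1]
    congr 1
    rw [← Finset.sum_coe_sort (A.erase triv)]
    exact (Equiv.sum_comp e.symm (fun b : ↥(A.erase triv) => b.1.1 g)).symm

end comm

end Cfsg.Agent.Lib.Lead.SLPerm
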