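import Mathlib
import Cfsg.Prelude.Def_SporadicB

/-!
Shared definitions for S1615 (twin blocks in the commuting graph of a class of
3-transpositions).
-/

namespace Cfsg.Agent.Lib.Lead.Tw

variable {G : Type*} [Group G]

/-- commuting neighbours of `x` in `D` -/
def Dn (D : Set G) (x : G) : Set G := {y : G | y ∈ D ∧ y ≠ x ∧ Commute x y}

/-- twin block of `y` inside `Dn D x` -/
def Tb (D : Set G) (x y : G) : Set G :=
  {u : G | u ∈ Dn D x ∧ (u = y ∨ (¬ Commute u y ∧ Dn D x ∩ Dn D u = Dn D x ∩ Dn D y))}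

theorem mem_Dn {D : Set G} {x y : G} : y ∈ Dn D x ↔ y ∈ D ∧ y ≠ x ∧ Commute x y := Iff.rfl

theorem mem_Tb {D : Set G} {x y u : G} : u ∈ Tb D x y ↔
    u ∈ Dn D x ∧ (u = y ∨ (¬ Commute u y ∧ Dn D x ∩ Dn D u = Dn D x ∩ Dn D y)) := Iff.rfl

/-- rank 3 context: a conjugation-closed set of 3-transpositions on which `G` acts with
rank 3 on the commuting graph, and without twins -/
structure Ctx (D : Set G) : Prop where
  tset : Cfsg.IsThreeTranspositionSet D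
  conj : ∀ g : G, ∀ d ∈ D, g * d * g⁻¹ ∈ D
  tr : ∀ a ∈ D, ∀ b ∈ D, ∃ g : G, g * a * g⁻¹ = b
  trD : ∀ d ∈ D, ∀ b ∈ Dn D d, ∀ b' ∈ Dn D d, ∃ g : G, Commute g d ∧ g * b * g⁻¹ = b'
  trA : ∀ d ∈ D, ∀ b ∈ D, ∀ b' ∈ D, ¬ Commute d b → ¬ Commute d b' →
    ∃ g : G, Commute g d ∧ g * b * g⁻¹ = b'
  noTwin : ∀ a ∈ D, ∀ b ∈ D, Dn D a = Dn D b → a = b

end Cfsg.Agent.Lib.Lead.Tw
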