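import Mathlib
import Cfsg.Prelude.Def_Perm
import Cfsg.Agent.Lib.Lead.BurnsidePrime

/-! Closures of subgroups of `AGL₁(p)` containing the translations. -/

set_option autoImplicit false

namespace Cfsg.Agent.Lib.Lead.AffClosure

variable {p : ℕ} [Fact p.Prime]

/-- the affine permutation `x ↦ a x + b` -/
def aff (a : (ZMod p)ˣ) (b : ZMod p) : Equiv.Perm (ZMod p) :=
  (Units.mulLeft a).trans (Equiv.addRight b)

theorem aff_apply (a : (ZMod p)ˣ) (b x : ZMod p) : aff a b x = (a : ZMod p) * x + b := by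
  simp [aff]

theorem aff_mem (a : (ZMod p)ˣ) (b : ZMod p) : aff a b ∈ Cfsg.affineGroup (ZMod p) :=
  ⟨a, b, fun x => aff_apply a b x⟩

theorem eq_of_forms (f g : ZMod p → ZMod p) (a b a' b' : ZMod p) (hf : ∀ x, f x = a * x + b)
    (hg : ∀ x, g x = a' * x + b') (h0 : f 0 = g 0) (h1 : f 1 = g 1) (x : ZMod p) : f x = g x := by
  rw [hf 0, hg 0] at h0
  rw [hf 1, hg 1] at h1
  rw [hf x, hg x]
  linear_combination x * (h1 - h0) + h0

theorem part2 (σ : Equiv.Perm (ZMod p)) (t : Fin 2 → ZMod p) :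
    ∃ g ∈ Cfsg.affineGroup (ZMod p), ∀ i, σ (t i) = g (t i) := by
  by_cases h : t 0 = t 1
  · refine ⟨aff 1 (σ (t 0) - t 0), aff_mem _ _, ?_⟩
    intro i
    have hi : t i = t 0 := by
      fin_cases i
      · rfl
      · exact h.symm
    rw [hi, aff_apply, Units.val_one, one_mul]
    ring
  · have hne : t 1 - t 0 ≠ 0 := sub_ne_zero.2 (Ne.symm h)
    have hne2 : σ (t 1) - σ (t 0) ≠ 0 := sub_ne_zero.2 (fun h' => h (σ.injective h').symm)
    obtain ⟨a, ha⟩ : ∃ a : ZMod p, a = (σ (t 1) - σ (t 0)) / (t 1 - t 0) := ⟨_, rfl⟩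
    have ha0 : a ≠ 0 := by rw [ha]; exact div_ne_zero hne2 hne
    have hmul : a * (t 1 - t 0) = σ (t 1) - σ (t 0) := by rw [ha]; exact div_mul_cancel₀ _ hne
    refine ⟨aff (Units.mk0 a ha0) (σ (t 0) - a * t 0), aff_mem _ _, ?_⟩
    intro i
    fin_cases i
    · show σ (t 0) = aff _ _ (t 0)
      rw [aff_apply, Units.val_mk0]; ring
    · show σ (t 1) = aff _ _ (t 1)
      rw [aff_apply, Units.val_mk0]
      linear_combination -hmul

theorem part3 (σ : Equiv.Perm (ZMod p))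
    (h : ∀ t : Fin 3 → ZMod p, ∃ g ∈ Cfsg.affineGroup (ZMod p), ∀ i, σ (t i) = g (t i)) :
    σ ∈ Cfsg.affineGroup (ZMod p) := by
  have h10 : σ 1 - σ 0 ≠ 0 := sub_ne_zero.2 (fun h' => one_ne_zero (σ.injective h'))
  refine ⟨Units.mk0 _ h10, σ 0, fun x => ?_⟩
  obtain ⟨g, ⟨a, b, hg⟩, hgt⟩ := h ![0, 1, x]
  have e0 : σ 0 = g 0 := by simpa using hgt 0
  have e1 : σ 1 = g 1 := by simpa using hgt 1
  have e2 : σ x = g x := by simpa using hgt 2
  rw [Units.val_mk0, e2, e0, e1, hg x, hg 0, hg 1]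
  ring

theorem part1 (G : Subgroup (Equiv.Perm (ZMod p))) (hG : G ≤ Cfsg.affineGroup (ZMod p))
    (htrans : ∀ b : ZMod p, ∃ g ∈ G, ∀ x, g x = x + b) (hne : G ≠ Cfsg.affineGroup (ZMod p))
    (σ : Equiv.Perm (ZMod p)) (hσ : ∀ t : Fin 2 → ZMod p, ∃ g ∈ G, ∀ i, σ (t i) = g (t i)) :
    σ ∈ G := by
  classical
  obtain ⟨P, hP⟩ : ∃ P : Equiv.Perm (ZMod p) → Prop,
      P = fun τ => ∀ x y, ∃ g ∈ G, τ x = g x ∧ τ y = g y := ⟨_, rfl⟩
  have hPσ : P σ := by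
    rw [hP]
    intro x y
    obtain ⟨g, hg, h⟩ := hσ ![x, y]
    exact ⟨g, hg, by simpa using h 0, by simpa using h 1⟩
  have hPG : ∀ g ∈ G, P g := by
    intro g hg
    rw [hP]
    exact fun x y => ⟨g, hg, rfl, rfl⟩
  have hPone : P 1 := hPG 1 G.one_mem
  have hPmul : ∀ τ₁ τ₂, P τ₁ → P τ₂ → P (τ₁ * τ₂) := by
    intro τ₁ τ₂ h1 h2
    rw [hP] at h1 h2 ⊢
    intro x y
    obtain ⟨g2, hg2, hx2, hy2⟩ := h2 x y
    obtain ⟨g1, hg1, hx1, hy1⟩ := h1 (g2 x) (g2 y)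
    refine ⟨g1 * g2, G.mul_mem hg1 hg2, ?_, ?_⟩
    · rw [Equiv.Perm.mul_apply, Equiv.Perm.mul_apply, hx2, hx1]
    · rw [Equiv.Perm.mul_apply, Equiv.Perm.mul_apply, hy2, hy1]
  have hPpow : ∀ τ, P τ → ∀ n : ℕ, P (τ ^ n) := by
    intro τ h n
    induction n with
    | zero => rw [pow_zero]; exact hPone
    | succ n ih => rw [pow_succ]; exact hPmul _ _ ih h
  have hPinv : ∀ τ, P τ → P τ⁻¹ := by
    intro τ h
    have hpos : 0 < orderOf τ := orderOf_pos τ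
    have hinv : τ⁻¹ = τ ^ (orderOf τ - 1) := by
      apply inv_eq_of_mul_eq_one_right
      rw [← pow_succ', Nat.sub_add_cancel hpos, pow_orderOf_eq_one]
    rw [hinv]
    exact hPpow τ h _
  have hPG2 : ∀ τ ∈ Subgroup.closure (insert σ (G : Set (Equiv.Perm (ZMod p)))), P τ := by
    intro τ hτ
    induction hτ using Subgroup.closure_induction with
    | mem x hx =>
      rcases hx with rfl | hx
      · exact hPσ
      · exact hPG x hx
    | one => exact hPone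
    | mul x y _ _ hx hy => exact hPmul x y hx hy
    | inv x _ hx => exact hPinv x hx
  obtain ⟨t, htG, ht⟩ := htrans 1
  have hsub : (G : Set (Equiv.Perm (ZMod p))) ⊆
      Subgroup.closure (insert σ (G : Set (Equiv.Perm (ZMod p)))) :=
    fun g hg => Subgroup.subset_closure (Or.inr hg)
  have h2 : ¬ ∀ a b a' b' : ZMod p, a ≠ b → a' ≠ b' →
      ∃ g ∈ Subgroup.closure (insert σ (G : Set (Equiv.Perm (ZMod p)))), g a = a' ∧ g b = b' := by
    intro h2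
    obtain ⟨ρ, hρA, hρG⟩ := SetLike.exists_of_lt (lt_of_le_of_ne hG hne)
    have h01 : (0 : ZMod p) ≠ 1 := zero_ne_one
    obtain ⟨τ, hτ, hτ0, hτ1⟩ := h2 0 1 (ρ 0) (ρ 1) h01 (fun h => h01 (ρ.injective h))
    have hPτ := hPG2 τ hτ
    rw [hP] at hPτ
    obtain ⟨g, hg, hg0, hg1⟩ := hPτ 0 1
    obtain ⟨a, b, hρ⟩ := hρA
    obtain ⟨a', b', hg'⟩ := hG hg
    have : g = ρ := by
      apply Equiv.ext
      intro x
      exact eq_of_forms g ρ a' b' a b hg' hρ (by rw [← hg0, hτ0]) (by rw [← hg1, hτ1]) x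
    exact hρG (this ▸ hg)
  have hmain := Cfsg.Agent.Lib.Lead.BurnsidePrime.main
    (Subgroup.closure (insert σ (G : Set (Equiv.Perm (ZMod p))))) t (hsub htG) ht h2
  obtain ⟨a, b, hσab⟩ := hmain σ (Subgroup.subset_closure (Or.inl rfl))
  rw [hP] at hPσ
  obtain ⟨g, hg, hg0, hg1⟩ := hPσ 0 1
  obtain ⟨a', b', hg'⟩ := hG hg
  have : σ = g := by
    apply Equiv.ext
    intro x
    exact eq_of_forms σ g a b a' b' hσab hg' hg0 hg1 x
  exact this ▸ hg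

theorem main518 (p : ℕ) [Fact p.Prime] (G : Subgroup (Equiv.Perm (ZMod p)))
    (hG : G ≤ Cfsg.affineGroup (ZMod p))
    (htrans : ∀ b : ZMod p, ∃ g ∈ G, ∀ x, g x = x + b) :
    (G ≠ Cfsg.affineGroup (ZMod p) → ∀ σ : Equiv.Perm (ZMod p),
      (∀ t : Fin 2 → ZMod p, ∃ g ∈ G, ∀ i, σ (t i) = g (t i)) → σ ∈ G) ∧
    (∀ σ : Equiv.Perm (ZMod p), (∀ t : Fin 2 → ZMod p,
      ∃ g ∈ Cfsg.affineGroup (ZMod p), ∀ i, σ (t i) = g (t i))) ∧
    (∀ σ : Equiv.Perm (ZMod p), (∀ t : Fin 3 → ZMod p,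
      ∃ g ∈ Cfsg.affineGroup (ZMod p), ∀ i, σ (t i) = g (t i)) →
        σ ∈ Cfsg.affineGroup (ZMod p)) :=
  ⟨fun hne σ hσ => part1 G hG htrans hne σ hσ, fun σ t => part2 σ t, fun σ h => part3 σ h⟩

end Cfsg.Agent.Lib.Lead.AffClosure
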