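import Mathlib

set_option autoImplicit false

/-!
# Solvable ambivalent groups with one class of involutions: commuting involutions coincide
-/

namespace Cfsg.Agent.Lib.Lead.Amb1

open scoped commutatorElement

universe u

section general

variable {G : Type*} [Group G]

/-- conjugation by powers of an inverting element -/
theorem conj_pow_neg (g y : G) (hg : g * y * g⁻¹ = y⁻¹) :
    ∀ m : ℕ, g ^ m * y * (g ^ m)⁻¹ = y ^ ((-1 : ℤ) ^ m) := by
  intro m
  induction m with
  | zero => simp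
  | succ m ih =>
    have h1 : g ^ (m + 1) * y * (g ^ (m + 1))⁻¹ = g * (g ^ m * y * (g ^ m)⁻¹) * g⁻¹ := by
      rw [pow_succ']; group
    rw [h1, ih, ← conj_zpow, hg, pow_succ, mul_neg_one, zpow_neg, inv_zpow]

/-- from an inverting element one gets an inverting `2`-element -/
theorem exists_two_elt_invert [Finite G] (c g : G) (h : g * c * g⁻¹ = c⁻¹) :
    ∃ (s : G) (a : ℕ), s ^ (2 ^ a) = 1 ∧ s * c * s⁻¹ = c⁻¹ := by
  obtain ⟨a, b, hbodd, hd⟩ := Nat.exists_eq_two_pow_mul_odd (orderOf_pos g).ne'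
  refine ⟨g ^ b, a, ?_, ?_⟩
  · rw [← pow_mul, mul_comm, ← hd, pow_orderOf_eq_one]
  · rw [conj_pow_neg g c h b, hbodd.neg_one_pow, zpow_neg_one]

/-- an element of odd order inverting an element of odd order: the latter is trivial -/
theorem eq_one_of_odd_invert (w c : G) (hw : Odd (orderOf w)) (hc : Odd (orderOf c))
    (h : w * c * w⁻¹ = c⁻¹) : c = 1 := by
  have h' : w * c⁻¹ * w⁻¹ = c := by
    calc w * c⁻¹ * w⁻¹ = (w * c * w⁻¹)⁻¹ := by group
      _ = c := by rw [h, inv_inv]
  have h2 : Commute (w ^ 2) c := by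
    have : w ^ 2 * c * (w ^ 2)⁻¹ = c := by
      calc w ^ 2 * c * (w ^ 2)⁻¹ = w * (w * c * w⁻¹) * w⁻¹ := by rw [pow_two]; group
        _ = w * c⁻¹ * w⁻¹ := by rw [h]
        _ = c := h'
    exact mul_inv_eq_iff_eq_mul.mp this
  obtain ⟨m, hm⟩ := hw
  have hw1 : w = (w ^ 2) ^ (m + 1) := by
    rw [← pow_mul]
    have : 2 * (m + 1) = orderOf w + 1 := by omega
    rw [this, pow_succ, pow_orderOf_eq_one, one_mul]
  have hwc : Commute w c := by
    have := h2.pow_left (m + 1)
    rwa [← hw1] at this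
  have hcc : c = c⁻¹ := by
    rw [← h, hwc.eq, mul_inv_cancel_right]
  have hc2 : c * c = 1 := mul_eq_one_iff_eq_inv.mpr hcc
  have hdvd : orderOf c ∣ 2 := orderOf_dvd_of_pow_eq_one (by rw [pow_two]; exact hc2)
  rcases (Nat.dvd_prime Nat.prime_two).mp hdvd with h1 | h1
  · exact orderOf_eq_one_iff.mp h1
  · rw [h1] at hc; exact absurd hc (by decide)

/-- odd order elements are powers of their squares -/
theorem mem_of_sq_mem (H : Subgroup G) (x : G) (hx : Odd (orderOf x)) (h : x * x ∈ H) : x ∈ H := by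
  obtain ⟨m, hm⟩ := hx
  have : x = (x * x) ^ (m + 1) := by
    rw [← pow_two, ← pow_mul]
    have : 2 * (m + 1) = orderOf x + 1 := by omega
    rw [this, pow_succ, pow_orderOf_eq_one, one_mul]
  rw [this]
  exact H.pow_mem h _

/-- the elements of order at most two of an abelian subgroup -/
def omegaTwo (A : Subgroup G) (hAc : ∀ a ∈ A, ∀ b ∈ A, a * b = b * a) : Subgroup G where
  carrier := {a | a ∈ A ∧ a * a = 1}
  one_mem' := ⟨A.one_mem, by simp⟩
  mul_mem' := by
    rintro a b ⟨ha, haa⟩ ⟨hb, hbb⟩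
    refine ⟨A.mul_mem ha hb, ?_⟩
    calc a * b * (a * b) = a * (b * a) * b := by group
      _ = a * (a * b) * b := by rw [hAc b hb a ha]
      _ = (a * a) * (b * b) := by group
      _ = 1 := by rw [haa, hbb, one_mul]
  inv_mem' := by
    rintro a ⟨ha, haa⟩
    refine ⟨A.inv_mem ha, ?_⟩
    rw [← mul_inv_rev, haa, inv_one]

theorem mem_omegaTwo (A : Subgroup G) (hAc : ∀ a ∈ A, ∀ b ∈ A, a * b = b * a) (x : G) :
    x ∈ omegaTwo A hAc ↔ x ∈ A ∧ x * x = 1 := Iff.rfl

end general

section semi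

variable {Γ V : Type*} [Group Γ] [CommGroup V]

/-- stabiliser inside `Z` of a point -/
def St (ρ : Γ →* MulAut V) (Z : Subgroup Γ) (u : V) : Subgroup Γ where
  carrier := {z | z ∈ Z ∧ ρ z u = u}
  one_mem' := ⟨Z.one_mem, by simp⟩
  mul_mem' := by
    rintro a b ⟨ha, ha'⟩ ⟨hb, hb'⟩
    refine ⟨Z.mul_mem ha hb, ?_⟩
    rw [map_mul, MulAut.mul_apply, hb', ha']
  inv_mem' := by
    rintro a ⟨ha, ha'⟩
    refine ⟨Z.inv_mem ha, ?_⟩
    rw [map_inv]
    calc (ρ a)⁻¹ u = (ρ a)⁻¹ (ρ a u) := by rw [ha']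
      _ = u := MulAut.inv_apply_self _ _ _

theorem mem_St (ρ : Γ →* MulAut V) (Z : Subgroup Γ) (u : V) (z : Γ) :
    z ∈ St ρ Z u ↔ z ∈ Z ∧ ρ z u = u := Iff.rfl

/-- a normal subgroup acting through an abelian group of odd order elements on an elementary
abelian `2`-group, inside a group transitive on the non-identity elements, is semiregular. -/
theorem semireg [Finite Γ]
    (ρ : Γ →* MulAut V) (hV2 : ∀ x : V, x * x = 1)
    (Z : Subgroup Γ) [hZ : Z.Normal]
    (hcomm : ∀ a ∈ Z, ∀ b ∈ Z, ∀ x : V, ρ a (ρ b x) = ρ b (ρ a x))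
    (htrans : ∀ u w : V, u ≠ 1 → w ≠ 1 → ∃ g : Γ, ρ g u = w)
    (y : Γ) (hy : y ∈ Z) (N0 : ℕ) (hN : Odd N0) (hyN : y ^ N0 = 1)
    (v : V) (hv : v ≠ 1) (hfix : ρ y v = v) : ∀ x : V, ρ y x = x := by
  classical
  by_contra hcon
  push Not at hcon
  obtain ⟨x0, hx0⟩ := hcon
  let τ : V → V := fun x => ∏ i ∈ Finset.range N0, ρ (y ^ i) x
  have τdef : ∀ x, τ x = ∏ i ∈ Finset.range N0, ρ (y ^ i) x := fun _ => rfl
  have τmul : ∀ a b, τ (a * b) = τ a * τ b := by
    intro a b
    rw [τdef, τdef, τdef, ← Finset.prod_mul_distrib]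
    exact Finset.prod_congr rfl (fun i _ => map_mul _ _ _)
  have τinv : ∀ a, τ a⁻¹ = (τ a)⁻¹ := by
    intro a
    rw [τdef, τdef, ← Finset.prod_inv_distrib]
    exact Finset.prod_congr rfl (fun i _ => map_inv _ _)
  have τfix : ∀ a, ρ y (τ a) = τ a := by
    intro a
    have h1 : ∀ i, ρ y (ρ (y ^ i) a) = ρ (y ^ (i + 1)) a := by
      intro i
      rw [pow_succ', map_mul, MulAut.mul_apply]
    calc ρ y (τ a) = ∏ i ∈ Finset.range N0, ρ y (ρ (y ^ i) a) := by rw [τdef, map_prod]
      _ = ∏ i ∈ Finset.range N0, ρ (y ^ (i + 1)) a := Finset.prod_congr rfl (fun i _ => h1 i)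
      _ = τ a := by
        rw [τdef]
        have h2 := Finset.prod_range_succ (fun i => ρ (y ^ i) a) N0
        have h3 := Finset.prod_range_succ' (fun i => ρ (y ^ i) a) N0
        rw [h2] at h3
        simp only [hyN, pow_zero, map_one, MulAut.one_apply] at h3
        exact (mul_right_cancel h3).symm
  have τfixed : ∀ a, ρ y a = a → τ a = a := by
    intro a ha
    have h1 : ∀ i : ℕ, ρ (y ^ i) a = a := by
      intro i
      induction i with
      | zero => simp
      | succ k ih => rw [pow_succ', map_mul, MulAut.mul_apply, ih, ha]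
    rw [τdef, Finset.prod_congr rfl (fun i _ => h1 i), Finset.prod_const, Finset.card_range]
    obtain ⟨m, rfl⟩ := hN
    rw [pow_succ, pow_mul, pow_two, hV2, one_pow, one_mul]
  have τZ : ∀ z ∈ Z, ∀ a, τ (ρ z a) = ρ z (τ a) := by
    intro z hz a
    rw [τdef, τdef, map_prod]
    exact Finset.prod_congr rfl (fun i _ => hcomm (y ^ i) (Z.pow_mem hy i) z hz a)
  have key : ∀ u, ρ y u = u → τ u = 1 → u = 1 := by
    intro u h1 h2
    rw [← τfixed u h1, h2]
  have hτw : τ ((τ x0)⁻¹ * x0) = 1 := by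
    rw [τmul, τinv, τfixed (τ x0) (τfix x0), inv_mul_cancel]
  have hw1 : (τ x0)⁻¹ * x0 ≠ 1 := by
    intro h
    apply hx0
    have h' : τ x0 = x0 := inv_mul_eq_one.mp h
    rw [← h']; exact τfix x0
  generalize (τ x0)⁻¹ * x0 = w at hτw hw1
  have hvw : v * w ≠ 1 := by
    intro h
    have h1 : v = w⁻¹ := eq_inv_of_mul_eq_one_left h
    have h2 : τ v = 1 := by rw [h1, τinv, hτw, inv_one]
    exact hv (key v hfix h2)
  obtain ⟨g, hg⟩ := htrans v (v * w) hv hvw
  have hcard : Nat.card (St ρ Z v) = Nat.card (St ρ Z (v * w)) := by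
    refine Nat.card_congr (Equiv.subtypeEquiv (MulAut.conj g).toEquiv ?_)
    intro z
    show z ∈ St ρ Z v ↔ g * z * g⁻¹ ∈ St ρ Z (v * w)
    rw [mem_St, mem_St, ← hg]
    constructor
    · rintro ⟨h1, h2⟩
      refine ⟨hZ.conj_mem z h1 g, ?_⟩
      rw [map_mul, map_mul, map_inv, MulAut.mul_apply, MulAut.mul_apply, MulAut.inv_apply_self, h2]
    · rintro ⟨h1, h2⟩
      constructor
      · have := hZ.conj_mem _ h1 g⁻¹
        have e : g⁻¹ * (g * z * g⁻¹) * g⁻¹⁻¹ = z := by group
        rwa [e] at this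
      · rw [map_mul, map_mul, map_inv, MulAut.mul_apply, MulAut.mul_apply,
          MulAut.inv_apply_self] at h2
        exact (ρ g).injective h2
  have hle : St ρ Z (v * w) ≤ St ρ Z v := by
    intro z hz
    rw [mem_St] at hz ⊢
    obtain ⟨hzZ, hzf⟩ := hz
    refine ⟨hzZ, ?_⟩
    rw [map_mul] at hzf
    have hu : v⁻¹ * ρ z v = w * (ρ z w)⁻¹ := by
      rw [eq_mul_inv_iff_mul_eq, mul_assoc, hzf, inv_mul_cancel_left]
    have hu1 : ρ y (v⁻¹ * ρ z v) = v⁻¹ * ρ z v := by
      rw [map_mul, map_inv, hfix, hcomm y hy z hzZ v, hfix]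
    have hu2 : τ (v⁻¹ * ρ z v) = 1 := by
      rw [hu, τmul, τinv, τZ z hzZ, hτw, map_one, inv_one, mul_one]
    have := key _ hu1 hu2
    exact (inv_mul_eq_one.mp this).symm
  have heq : St ρ Z (v * w) = St ρ Z v := Subgroup.eq_of_le_of_card_ge hle (le_of_eq hcard)
  have hyv : y ∈ St ρ Z v := (mem_St _ _ _ _).mpr ⟨hy, hfix⟩
  rw [← heq, mem_St] at hyv
  have h5 := hyv.2
  rw [map_mul, hfix] at h5
  have h6 : ρ y w = w := mul_left_cancel h5
  exact hw1 (key w h6 hτw)

end semi


section core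

/-- The case where all involutions lie in a normal elementary abelian `2`-subgroup. -/
theorem core_case {G : Type*} [Group G] [Finite G] [hsol : Group.IsSolvable G]
    (hamb : ∀ x : G, IsConj x x⁻¹)
    (hone : ∀ s t : G, orderOf s = 2 → orderOf t = 2 → IsConj s t)
    (V : Subgroup G) [hVn : V.Normal] (hV2 : ∀ x ∈ V, x * x = 1)
    (hVall : ∀ s : G, orderOf s = 2 → s ∈ V) :
    ∀ s t : G, orderOf s = 2 → orderOf t = 2 → s = t := by
  classical
  intro s t hs ht
  by_contra hst
  haveI : Fact (Nat.Prime 2) := ⟨Nat.prime_two⟩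
  have hsV := hVall s hs
  have htV := hVall t ht
  have hVc : ∀ a ∈ V, ∀ b ∈ V, a * b = b * a := by
    intro a ha b hb
    have h1 := hV2 (a * b) (V.mul_mem ha hb)
    have h2 := hV2 a ha
    have h3 := hV2 b hb
    calc a * b = a * (a * b * (a * b)) * b := by rw [h1, mul_one]
      _ = (a * a) * (b * a) * (b * b) := by group
      _ = b * a := by rw [h2, h3, one_mul, mul_one]
  have hVinv : ∀ x ∈ V, x ≠ 1 → orderOf x = 2 := fun x hx hx1 =>
    orderOf_eq_prime (by rw [pow_two]; exact hV2 x hx) hx1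
  have hconjV : ∀ u ∈ V, ∀ w ∈ V, u ≠ 1 → w ≠ 1 → ∃ g : G, g * u * g⁻¹ = w :=
    fun u hu w hw hu1 hw1 => isConj_iff.mp (hone u w (hVinv u hu hu1) (hVinv w hw hw1))
  have hnotC : ¬ (⊤ : Subgroup G) ≤ Subgroup.centralizer (V : Set G) := by
    intro h
    obtain ⟨g, hg⟩ := isConj_iff.mp (hone s t hs ht)
    have hgC : g ∈ Subgroup.centralizer (V : Set G) := h (Subgroup.mem_top g)
    have := Subgroup.mem_centralizer_iff.mp hgC s hsV
    apply hst
    rw [← hg, ← this, mul_inv_cancel_right]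
  obtain ⟨n, hn⟩ := (Group.isSolvable_def G).mp hsol
  have hex : ∃ k, derivedSeries G k ≤ Subgroup.centralizer (V : Set G) :=
    ⟨n, by rw [hn]; exact bot_le⟩
  have hk0spec : derivedSeries G (Nat.find hex) ≤ Subgroup.centralizer (V : Set G) :=
    Nat.find_spec hex
  have hk0pos : Nat.find hex ≠ 0 := by
    intro h
    rw [h, derivedSeries_zero] at hk0spec
    exact hnotC hk0spec
  obtain ⟨k, hk⟩ := Nat.exists_eq_succ_of_ne_zero hk0pos
  have hZ0C : ¬ derivedSeries G k ≤ Subgroup.centralizer (V : Set G) :=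
    Nat.find_min hex (by omega)
  have hcommC : ⁅derivedSeries G k, derivedSeries G k⁆ ≤ Subgroup.centralizer (V : Set G) := by
    rw [← derivedSeries_succ]
    rw [hk] at hk0spec
    exact hk0spec
  haveI hZ0n : (derivedSeries G k).Normal := derivedSeries_normal G k
  generalize derivedSeries G k = Z0 at hZ0C hcommC hZ0n
  have hcomm : ∀ a ∈ Z0, ∀ b ∈ Z0, ∀ x ∈ V,
      a * (b * x * b⁻¹) * a⁻¹ = b * (a * x * a⁻¹) * b⁻¹ := by
    intro a ha b hb x hx
    have hc : ⁅a⁻¹, b⁻¹⁆ ∈ Subgroup.centralizer (V : Set G) :=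
      hcommC (Subgroup.commutator_mem_commutator (Z0.inv_mem ha) (Z0.inv_mem hb))
    have hcx := Subgroup.mem_centralizer_iff.mp hc x hx
    rw [commutatorElement_def] at hcx
    have e1 : a * (b * x * b⁻¹) * a⁻¹ =
        b * a * ((a⁻¹ * b⁻¹ * a⁻¹⁻¹ * b⁻¹⁻¹) * x) * (a * b)⁻¹ := by group
    have e2 : b * (a * x * a⁻¹) * b⁻¹ =
        b * a * (x * (a⁻¹ * b⁻¹ * a⁻¹⁻¹ * b⁻¹⁻¹)) * (a * b)⁻¹ := by group
    rw [e1, e2, hcx]
  by_cases hA : ∃ y ∈ Z0, y ∉ Subgroup.centralizer (V : Set G) ∧ Odd (orderOf y)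
  · -- Case A
    obtain ⟨y, hyZ, hyC, hyodd⟩ := hA
    have hsemi : ∀ v ∈ V, v ≠ 1 → y * v * y⁻¹ ≠ v := by
      intro v hvV hv1 hfix
      apply hyC
      letI iV : CommGroup ↥V := { (inferInstance : Group ↥V) with
        mul_comm := fun a b => Subtype.ext (hVc a a.2 b b.2) }
      have key := semireg (Γ := G) (V := ↥V) (MulAut.conjNormal (H := V))
        (fun x => Subtype.ext (hV2 x x.2)) Z0
        (fun a ha b hb x => Subtype.ext (by
          simp only [MulAut.conjNormal_apply]
          exact hcomm a ha b hb x x.2))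
        (fun u w hu hw => by
          obtain ⟨g, hg⟩ := hconjV u u.2 w w.2 (fun h => hu (Subtype.ext h))
            (fun h => hw (Subtype.ext h))
          exact ⟨g, Subtype.ext (by rw [MulAut.conjNormal_apply]; exact hg)⟩)
        y hyZ (orderOf y) hyodd (pow_orderOf_eq_one y) ⟨v, hvV⟩
        (fun h => hv1 (congrArg Subtype.val h))
        (Subtype.ext (by rw [MulAut.conjNormal_apply]; exact hfix))
      rw [Subgroup.mem_centralizer_iff]
      intro x hx
      have := congrArg Subtype.val (key ⟨x, hx⟩)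
      rw [MulAut.conjNormal_apply] at this
      exact (mul_inv_eq_iff_eq_mul.mp this).symm
    have hy1 : y ≠ 1 := fun h => hyC (by rw [h]; exact Subgroup.one_mem _)
    obtain ⟨g, hg⟩ := isConj_iff.mp (hamb y)
    obtain ⟨s', a, hs'pow, hs'y⟩ := exists_two_elt_invert y g hg
    obtain ⟨j, -, hj⟩ := (Nat.dvd_prime_pow Nat.prime_two).mp (orderOf_dvd_of_pow_eq_one hs'pow)
    have hyne : y ≠ y⁻¹ := by
      intro hyy
      have hy2 : y * y = 1 := by
        have := mul_inv_cancel y
        rwa [← hyy] at this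
      have hdvd : orderOf y ∣ 2 := orderOf_dvd_of_pow_eq_one (by rw [pow_two]; exact hy2)
      rcases (Nat.dvd_prime Nat.prime_two).mp hdvd with h | h
      · exact hy1 (orderOf_eq_one_iff.mp h)
      · rw [h] at hyodd; exact absurd hyodd (by decide)
    rcases j with _ | _ | j
    · -- s' = 1
      rw [pow_zero, orderOf_eq_one_iff] at hj
      rw [hj] at hs'y
      apply hyne
      simpa using hs'y
    · -- s' is an involution
      rw [zero_add, pow_one] at hj
      have hs'V := hVall s' hj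
      have h1 : y * s' * y⁻¹ ∈ V := hVn.conj_mem s' hs'V y
      have h2 : y * s' * y⁻¹ * s'⁻¹ ∈ V := V.mul_mem h1 (V.inv_mem hs'V)
      have h3 : y * s' * y⁻¹ * s'⁻¹ = y * y := by
        have h4 : s' * y⁻¹ * s'⁻¹ = y := by
          calc s' * y⁻¹ * s'⁻¹ = (s' * y * s'⁻¹)⁻¹ := by group
            _ = y := by rw [hs'y, inv_inv]
        calc y * s' * y⁻¹ * s'⁻¹ = y * (s' * y⁻¹ * s'⁻¹) := by group
          _ = y * y := by rw [h4]
      rw [h3] at h2
      have h4 := hV2 _ h2
      have h5 : y ^ 4 = 1 := by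
        rw [← h4, show (4 : ℕ) = 2 + 2 by norm_num, pow_add, pow_two]
      have hdvd := orderOf_dvd_of_pow_eq_one h5
      have hcop : Nat.Coprime (orderOf y) 4 := by
        have : Nat.Coprime (orderOf y) (2 ^ 2) :=
          Nat.Coprime.pow_right 2 (Nat.coprime_two_right.mpr hyodd)
        simpa using this
      exact hy1 (orderOf_eq_one_iff.mp (Nat.Coprime.eq_one_of_dvd hcop hdvd))
    · -- order at least 4
      have hu2 : (s' ^ (2 ^ (j + 1))) ^ 2 = 1 := by
        rw [← pow_mul, ← pow_succ, ← hj, pow_orderOf_eq_one]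
      have hu1 : s' ^ (2 ^ (j + 1)) ≠ 1 := by
        intro h
        have := orderOf_dvd_of_pow_eq_one h
        rw [hj, Nat.pow_dvd_pow_iff_le_right (by norm_num)] at this
        omega
      have huo : orderOf (s' ^ (2 ^ (j + 1))) = 2 := orderOf_eq_prime hu2 hu1
      have huV := hVall _ huo
      have hs2 : s' ^ 2 * y * (s' ^ 2)⁻¹ = y := by
        calc s' ^ 2 * y * (s' ^ 2)⁻¹ = s' * (s' * y * s'⁻¹) * s'⁻¹ := by rw [pow_two]; group
          _ = s' * y⁻¹ * s'⁻¹ := by rw [hs'y]
          _ = (s' * y * s'⁻¹)⁻¹ := by group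
          _ = y := by rw [hs'y, inv_inv]
      have hc2 : Commute (s' ^ 2) y := mul_inv_eq_iff_eq_mul.mp hs2
      have hcu : Commute (s' ^ (2 ^ (j + 1))) y := by
        have : s' ^ (2 ^ (j + 1)) = (s' ^ 2) ^ (2 ^ j) := by rw [← pow_mul, ← pow_succ']
        rw [this]; exact hc2.pow_left _
      apply hsemi _ huV hu1
      rw [← hcu.eq, mul_inv_cancel_right]
  · -- Case B
    push Not at hA
    apply hZ0C
    let φ : ↥Z0 →* MulAut ↥V := (MulAut.conjNormal (H := V)).comp Z0.subtype
    have hker : ∀ c : ↥Z0, (c : G) ∈ Subgroup.centralizer (V : Set G) → φ c = 1 := by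
      intro c hc
      apply MulEquiv.ext
      intro x
      apply Subtype.ext
      show (c : G) * (x : G) * (c : G)⁻¹ = (x : G)
      have := Subgroup.mem_centralizer_iff.mp hc x x.2
      rw [← this, mul_inv_cancel_right]
    have hR : IsPGroup 2 φ.range := by
      rintro ⟨r, z, rfl⟩
      obtain ⟨a, b, hb, hd⟩ := Nat.exists_eq_two_pow_mul_odd (orderOf_pos z).ne'
      refine ⟨a, Subtype.ext ?_⟩
      show (φ z) ^ 2 ^ a = 1
      rw [← map_pow]
      apply hker
      by_contra hnc
      apply hA ((z ^ 2 ^ a : ↥Z0) : G) (z ^ 2 ^ a).2 hnc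
      have : ((z ^ 2 ^ a : ↥Z0) : G) ^ b = 1 := by
        rw [← Subgroup.coe_pow, ← pow_mul, ← hd, pow_orderOf_eq_one, Subgroup.coe_one]
      exact Odd.of_dvd_nat hb (orderOf_dvd_of_pow_eq_one this)
    have h2V : 2 ∣ Nat.card ↥V := by
      have e : orderOf (⟨s, hsV⟩ : ↥V) = 2 := by
        rw [← Subgroup.orderOf_coe]; exact hs
      rw [← e]; exact orderOf_dvd_natCard _
    obtain ⟨v0, hv0fix, hv0ne⟩ := hR.exists_fixed_point_of_prime_dvd_card_of_fixed_point
      (α := ↥V) h2V (a := (1 : ↥V)) (by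
        rw [MulAction.mem_fixedPoints]; intro m
        rw [Subgroup.smul_def, MulAut.smul_def, map_one])
    have hv0 : ∀ z ∈ Z0, z * (v0 : G) * z⁻¹ = v0 := by
      intro z hz
      have := MulAction.mem_fixedPoints.mp hv0fix ⟨φ ⟨z, hz⟩, ⟨⟨z, hz⟩, rfl⟩⟩
      rw [Subgroup.smul_def, MulAut.smul_def] at this
      exact congrArg Subtype.val this
    intro z hz
    rw [Subgroup.mem_centralizer_iff]
    intro x hx
    by_cases hx1 : x = 1
    · rw [hx1]; simp
    obtain ⟨g, hg⟩ := hconjV v0 v0.2 x hx (fun h => hv0ne (Subtype.ext h.symm)) hx1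
    have hz' : g⁻¹ * z * g ∈ Z0 := by
      have := hZ0n.conj_mem z hz g⁻¹
      rwa [inv_inv] at this
    have h1 := hv0 _ hz'
    have h2 : z * x * z⁻¹ = x := by
      rw [← hg]
      calc z * (g * v0 * g⁻¹) * z⁻¹
          = g * ((g⁻¹ * z * g) * v0 * (g⁻¹ * z * g)⁻¹) * g⁻¹ := by group
        _ = g * v0 * g⁻¹ := by rw [h1]
    exact (mul_inv_eq_iff_eq_mul.mp h2).symm

/-- In a finite solvable group in which every element is conjugate to its inverse and all
involutions are conjugate, commuting involutions coincide. -/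
theorem comm_invol_eq : ∀ (n : ℕ) (G : Type u) [Group G] [Finite G] [Group.IsSolvable G],
    Nat.card G = n →
    (∀ x : G, IsConj x x⁻¹) →
    (∀ s t : G, orderOf s = 2 → orderOf t = 2 → IsConj s t) →
    ∀ s t : G, orderOf s = 2 → orderOf t = 2 → s * t = t * s → s = t := by
  intro n
  induction n using Nat.strong_induction_on with
  | _ n ih =>
    intro G _ _ _ hn hamb hone s t hs ht hcomm
    classical
    haveI : Fact (Nat.Prime 2) := ⟨Nat.prime_two⟩
    have hs2 : s * s = 1 := by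
      have := pow_orderOf_eq_one s
      rwa [hs, pow_two] at this
    have ht2 : t * t = 1 := by
      have := pow_orderOf_eq_one t
      rwa [ht, pow_two] at this
    by_cases hN : ∃ N : Subgroup G, N.Normal ∧ Odd (Nat.card N) ∧ N ≠ ⊥
    · obtain ⟨N, hNn, hNodd, hNne⟩ := hN
      haveI := hNn
      have hlt : Nat.card (G ⧸ N) < n := by
        have h1 := Subgroup.card_eq_card_quotient_mul_card_subgroup N
        have h2 : 1 < Nat.card N := (Subgroup.one_lt_card_iff_ne_bot N).mpr hNne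
        have h3 : 0 < Nat.card (G ⧸ N) := Nat.card_pos
        rw [← hn, h1]
        nlinarith
      have hNinv : ∀ x ∈ N, x * x = 1 → x = 1 := by
        intro x hx hxx
        have h1 : orderOf x ∣ 2 := orderOf_dvd_of_pow_eq_one (by rw [pow_two]; exact hxx)
        have h2 : orderOf x ∣ Nat.card N := by
          have e : orderOf x = orderOf (⟨x, hx⟩ : ↥N) := Subgroup.orderOf_coe (⟨x, hx⟩ : ↥N)
          rw [e]; exact orderOf_dvd_natCard _
        have h3 : Nat.Coprime (Nat.card N) 2 := Nat.coprime_two_right.mpr hNodd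
        have h4 := Nat.dvd_gcd h2 h1
        rw [h3.gcd_eq_one] at h4
        exact orderOf_eq_one_iff.mp (Nat.dvd_one.mp h4)
      have hamb' : ∀ q : G ⧸ N, IsConj q q⁻¹ := by
        intro q
        obtain ⟨x, rfl⟩ := QuotientGroup.mk_surjective q
        have := (QuotientGroup.mk' N).map_isConj (hamb x)
        simpa using this
      have hlift : ∀ q : G ⧸ N, orderOf q = 2 → ∃ x : G, orderOf x = 2 ∧ (x : G ⧸ N) = q := by
        intro q hq
        obtain ⟨x, rfl⟩ := QuotientGroup.mk_surjective q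
        have hq2 : (x : G ⧸ N) ^ 2 = 1 := by rw [← hq]; exact pow_orderOf_eq_one _
        have hx2 : x ^ 2 ∈ N :=
          (QuotientGroup.eq_one_iff (x ^ 2)).mp (by rw [QuotientGroup.mk_pow]; exact hq2)
        have h1 : (x ^ 2) ^ (Nat.card N) = 1 := by
          have := pow_card_eq_one' (G := N) (x := ⟨x ^ 2, hx2⟩)
          have := congrArg Subtype.val this
          simpa only [Subgroup.coe_pow, Subgroup.coe_one] using this
        obtain ⟨k, hk⟩ := hNodd
        refine ⟨x ^ (Nat.card N), ?_, ?_⟩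
        · apply orderOf_eq_prime
          · rw [← pow_mul, mul_comm, pow_mul]; exact h1
          · intro h
            have h2 : ((x : G ⧸ N)) ^ (Nat.card N) = 1 := by
              rw [← QuotientGroup.mk_pow, h]; rfl
            have h3 : orderOf (x : G ⧸ N) ∣ Nat.card N := orderOf_dvd_of_pow_eq_one h2
            rw [hq, hk] at h3
            omega
        · rw [QuotientGroup.mk_pow, hk, pow_succ, pow_mul, hq2, one_pow, one_mul]
      have hone' : ∀ q r : G ⧸ N, orderOf q = 2 → orderOf r = 2 → IsConj q r := by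
        intro q r hq hr
        obtain ⟨x, hx, rfl⟩ := hlift q hq
        obtain ⟨y, hy, rfl⟩ := hlift r hr
        exact (QuotientGroup.mk' N).map_isConj (hone x y hx hy)
      have himg : ∀ x : G, orderOf x = 2 → orderOf (x : G ⧸ N) = 2 := by
        intro x hx
        have hx2 : x * x = 1 := by
          have := pow_orderOf_eq_one x
          rwa [hx, pow_two] at this
        apply orderOf_eq_prime
        · rw [← QuotientGroup.mk_pow, pow_two, hx2]; rfl
        · intro h
          have hxN := (QuotientGroup.eq_one_iff x).mp h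
          have := hNinv x hxN hx2
          rw [this, orderOf_one] at hx
          norm_num at hx
      have hq := ih _ hlt (G ⧸ N) rfl hamb' hone' (s : G ⧸ N) (t : G ⧸ N) (himg s hs) (himg t ht)
        (by rw [← QuotientGroup.mk_mul, hcomm, QuotientGroup.mk_mul])
      have h1 : s⁻¹ * t ∈ N := QuotientGroup.eq.mp hq
      have hsi : s⁻¹ = s := (eq_inv_of_mul_eq_one_left hs2).symm
      have h2 : (s⁻¹ * t) * (s⁻¹ * t) = 1 := by
        rw [hsi]
        calc s * t * (s * t) = s * (t * s) * t := by group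
          _ = s * (s * t) * t := by rw [← hcomm]
          _ = (s * s) * (t * t) := by group
          _ = 1 := by rw [hs2, ht2, one_mul]
      exact inv_mul_eq_one.mp (hNinv _ h1 h2)
    · push Not at hN
      obtain ⟨m, hm⟩ := (Group.isSolvable_def G).mp inferInstance
      have hex : ∃ k, derivedSeries G k = ⊥ := ⟨m, hm⟩
      have hk0 : derivedSeries G (Nat.find hex) = ⊥ := Nat.find_spec hex
      have hk0pos : Nat.find hex ≠ 0 := by
        intro h
        rw [h, derivedSeries_zero] at hk0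
        have : s ∈ (⊥ : Subgroup G) := hk0 ▸ Subgroup.mem_top s
        rw [Subgroup.mem_bot] at this
        rw [this, orderOf_one] at hs
        norm_num at hs
      obtain ⟨k, hk⟩ := Nat.exists_eq_succ_of_ne_zero hk0pos
      have hAne : derivedSeries G k ≠ ⊥ := Nat.find_min hex (by omega)
      have hAA : ⁅derivedSeries G k, derivedSeries G k⁆ = ⊥ := by
        rw [← derivedSeries_succ]
        rw [hk] at hk0
        exact hk0
      haveI hAn : (derivedSeries G k).Normal := derivedSeries_normal G k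
      generalize derivedSeries G k = A at hAne hAA hAn
      have hAc : ∀ a ∈ A, ∀ b ∈ A, a * b = b * a := by
        intro a ha b hb
        have : ⁅a, b⁆ ∈ ⁅A, A⁆ := Subgroup.commutator_mem_commutator ha hb
        rw [hAA, Subgroup.mem_bot] at this
        exact (commutatorElement_eq_one_iff_commute.mp this).eq
      have hAeven : 2 ∣ Nat.card A := by
        by_contra h
        exact hAne (hN A hAn (Nat.odd_iff.mpr (by omega)))
      obtain ⟨a0, ha0⟩ := exists_prime_orderOf_dvd_card' (G := A) 2 hAeven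
      have hVn : (omegaTwo A hAc).Normal := ⟨fun a ha g => by
        rw [mem_omegaTwo] at ha ⊢
        refine ⟨hAn.conj_mem a ha.1 g, ?_⟩
        calc g * a * g⁻¹ * (g * a * g⁻¹) = g * (a * a) * g⁻¹ := by group
          _ = 1 := by rw [ha.2]; group⟩
      have hV2 : ∀ x ∈ omegaTwo A hAc, x * x = 1 := fun x hx => hx.2
      have ha0G : orderOf (a0 : G) = 2 := by rw [Subgroup.orderOf_coe]; exact ha0
      have ha0V : (a0 : G) ∈ omegaTwo A hAc := by
        rw [mem_omegaTwo]
        refine ⟨a0.2, ?_⟩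
        have := pow_orderOf_eq_one (a0 : G)
        rwa [ha0G, pow_two] at this
      have hVall : ∀ x : G, orderOf x = 2 → x ∈ omegaTwo A hAc := by
        intro x hx
        obtain ⟨g, hg⟩ := isConj_iff.mp (hone (a0 : G) x ha0G hx)
        rw [← hg]; exact hVn.conj_mem _ ha0V g
      exact core_case hamb hone (omegaTwo A hAc) hV2 hVall s t hs ht

end core

end Cfsg.Agent.Lib.Lead.Amb1
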