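import Mathlib
import Cfsg.Prelude.Def_CaseTheorems
import Cfsg.Agent.Lib.Lead.Amb1
import Cfsg.Agent.Lib.Lead.UniqueP
import Cfsg.Agent.Lib.Helper1.PLengthOne

set_option autoImplicit false

/-!
# Solvable ambivalent groups with one class of involutions: the Sylow `2`-subgroup
-/

namespace Cfsg.Agent.Lib.Lead.Amb2

open scoped commutatorElement
open Cfsg.Agent.Lib.Lead.Amb1

universe u

variable {G : Type u} [Group G] [Finite G]

theorem uop_sylow
    (hP : ∀ s t : G, orderOf s = 2 → orderOf t = 2 → s * t = t * s → s = t) (S : Sylow 2 G) :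
    Cfsg.Agent.Lib.Lead.UniqueP.UOP 2 S := by
  haveI : Fact (Nat.Prime 2) := ⟨Nat.prime_two⟩
  intro x y hx hy hx1
  by_cases hy1 : y = 1
  · rw [hy1]; exact one_mem _
  have ox : orderOf x = 2 := orderOf_eq_prime hx hx1
  have oy : orderOf y = 2 := orderOf_eq_prime hy hy1
  haveI : Nontrivial S := ⟨⟨x, 1, hx1⟩⟩
  haveI := S.2.center_nontrivial
  have hZp : IsPGroup 2 (Subgroup.center S) := S.2.to_subgroup _
  obtain ⟨k, hk⟩ := IsPGroup.iff_card.mp hZp
  have hk0 : k ≠ 0 := by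
    rintro rfl
    rw [pow_zero] at hk
    have := Finite.one_lt_card (α := Subgroup.center S)
    omega
  have h2 : 2 ∣ Nat.card (Subgroup.center S) := by rw [hk]; exact dvd_pow_self 2 hk0
  obtain ⟨z, hz⟩ := exists_prime_orderOf_dvd_card' (G := Subgroup.center S) 2 h2
  have hzG : orderOf (((z : S) : G)) = 2 := by
    rw [Subgroup.orderOf_coe, Subgroup.orderOf_coe]; exact hz
  have hxG : orderOf (x : G) = 2 := by rw [Subgroup.orderOf_coe]; exact ox
  have hyG : orderOf (y : G) = 2 := by rw [Subgroup.orderOf_coe]; exact oy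
  have hzc : ∀ w : S, (w : G) * ((z : S) : G) = ((z : S) : G) * (w : G) := by
    intro w
    have := Subgroup.mem_center_iff.mp z.2 w
    exact congrArg Subtype.val this
  have e1 : (x : G) = ((z : S) : G) := hP _ _ hxG hzG (hzc x)
  have e2 : (y : G) = ((z : S) : G) := hP _ _ hyG hzG (hzc y)
  have : y = x := Subtype.ext (e2.trans e1.symm)
  rw [this]; exact Subgroup.mem_zpowers x

theorem card_two_of_cyclic (hamb : ∀ x : G, IsConj x x⁻¹) (heven : 2 ∣ Nat.card G)
    (S : Sylow 2 G) (hc : IsCyclic S) : Nat.card S = 2 := by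
  haveI : Fact (Nat.Prime 2) := ⟨Nat.prime_two⟩
  obtain ⟨x, hx⟩ := IsCyclic.exists_generator (α := S)
  have hox : orderOf x = Nat.card S := orderOf_eq_card_of_forall_mem_zpowers hx
  obtain ⟨g, hg⟩ := isConj_iff.mp (hamb (x : G))
  obtain ⟨s, a, hsa, hs⟩ := exists_two_elt_invert (x : G) g hg
  have hmemS : ∀ h : G, h ∈ S → ∃ k : ℤ, h = (x : G) ^ k := by
    intro h hh
    obtain ⟨k, hk⟩ := Subgroup.mem_zpowers_iff.mp (hx ⟨h, hh⟩)
    refine ⟨k, ?_⟩
    rw [← Subgroup.coe_zpow, hk]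
  have hconj : ∀ r : G, r * x * r⁻¹ = (x : G)⁻¹ → ∀ h ∈ S, r * h * r⁻¹ ∈ S := by
    intro r hr h hh
    obtain ⟨k, rfl⟩ := hmemS h hh
    rw [← conj_zpow, hr]
    exact (S : Subgroup G).zpow_mem ((S : Subgroup G).inv_mem x.2) k
  have hsinv : s⁻¹ * x * s⁻¹⁻¹ = (x : G)⁻¹ := by
    have h1 : (x : G) = s⁻¹ * (x : G)⁻¹ * s := by rw [← hs]; group
    calc s⁻¹ * x * s⁻¹⁻¹ = (s⁻¹ * (x : G)⁻¹ * s)⁻¹ := by group
      _ = (x : G)⁻¹ := by rw [← h1]
  have hsN : s ∈ Subgroup.normalizer ((S : Subgroup G) : Set G) := by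
    rw [Subgroup.mem_normalizer_iff]
    intro h
    constructor
    · exact hconj s hs h
    · intro hh
      have := hconj s⁻¹ hsinv _ hh
      have e : s⁻¹ * (s * h * s⁻¹) * s⁻¹⁻¹ = h := by group
      rwa [e] at this
  have hsP : IsPGroup 2 (Subgroup.zpowers s) := by
    have := orderOf_dvd_of_pow_eq_one hsa
    obtain ⟨j, -, hj⟩ := (Nat.dvd_prime_pow Nat.prime_two).mp this
    exact IsPGroup.of_card (n := j) (by rw [Nat.card_zpowers, hj])
  have hsS : s ∈ (S : Subgroup G) := by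
    have h2 : s ∈ Subgroup.zpowers s ⊓ (S : Subgroup G) := by
      rw [← hsP.inf_normalizer_sylow S]
      exact ⟨Subgroup.mem_zpowers s, hsN⟩
    exact h2.2
  obtain ⟨k, hk⟩ := hmemS s hsS
  have hcomm : s * x * s⁻¹ = (x : G) := by rw [hk]; group
  have hxx : (x : G) = (x : G)⁻¹ := hcomm.symm.trans hs
  have hx2 : (x : G) * x = 1 := mul_eq_one_iff_eq_inv.mpr hxx
  have hx2' : x ^ 2 = 1 := by
    apply Subtype.ext
    rw [pow_two]; exact hx2
  have hdvd : Nat.card S ∣ 2 := by rw [← hox]; exact orderOf_dvd_of_pow_eq_one hx2'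
  have hne : Nat.card S ≠ 1 := by
    intro h1
    exact S.ne_bot_of_dvd_card heven (Subgroup.card_eq_one.mp h1)
  rcases (Nat.dvd_prime Nat.prime_two).mp hdvd with h | h
  · exact absurd h hne
  · exact h

theorem sylow_struct [Group.IsSolvable G] (hamb : ∀ x : G, IsConj x x⁻¹)
    (heven : 2 ∣ Nat.card G)
    (hone : ∀ s t : G, orderOf s = 2 → orderOf t = 2 → IsConj s t) (S : Sylow 2 G) :
    Nat.card S = 2 ∨
      ∃ n : ℕ, Nonempty ((S : Subgroup G) ≃* QuaternionGroup (2 ^ (n + 1))) := by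
  haveI : Fact (Nat.Prime 2) := ⟨Nat.prime_two⟩
  have hP := comm_invol_eq (Nat.card G) G rfl hamb hone
  have hU := uop_sylow hP S
  rcases Cfsg.Agent.Lib.Lead.UniqueP.cyclic_or_quaternion 2 S.2 hU with hc | ⟨-, n, ⟨e⟩⟩
  · exact Or.inl (card_two_of_cyclic hamb heven S hc)
  · rcases n with _ | n
    · left
      have e1 : ↥(S : Subgroup G) ≃* QuaternionGroup 1 := e
      haveI := QuaternionGroup.quaternionGroup_one_isCyclic
      have hc : IsCyclic S := isCyclic_of_surjective e1.symm e1.symm.surjective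
      exact card_two_of_cyclic hamb heven S hc
    · exact Or.inr ⟨n, ⟨e⟩⟩

theorem part2 (hamb : ∀ x : G, IsConj x x⁻¹)
    (hone : ∀ s t : G, orderOf s = 2 → orderOf t = 2 → IsConj s t) (S : Sylow 2 G)
    (hS : Nat.card S = 2) :
    (S : Subgroup G).IsComplement' (Cfsg.oddCore G) ∧ Cfsg.oddCore G = commutator G ∧
      ∀ t : G, t ∈ S → t ≠ 1 → ∀ x : G, x ∈ Cfsg.oddCore G → t * x * t⁻¹ = x⁻¹ := by
  classical
  haveI : Fact (Nat.Prime 2) := ⟨Nat.prime_two⟩
  obtain ⟨t0, ht0ne, ht0uniq⟩ := (Nat.card_eq_two_iff' (1 : S)).mp hS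
  have hSmem : ∀ h ∈ S, h = 1 ∨ h = (t0 : G) := by
    intro h hh
    by_cases h1 : (⟨h, hh⟩ : S) = 1
    · left; exact congrArg Subtype.val h1
    · right; exact congrArg Subtype.val (ht0uniq ⟨h, hh⟩ h1)
  have ht0G1 : (t0 : G) ≠ 1 := fun h => ht0ne (Subtype.ext h)
  have ht0o : orderOf (t0 : G) = 2 := by
    have h1 : orderOf t0 ∣ Nat.card S := orderOf_dvd_natCard t0
    rw [hS] at h1
    rw [Subgroup.orderOf_coe]
    rcases (Nat.dvd_prime Nat.prime_two).mp h1 with h | h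
    · exact absurd (orderOf_eq_one_iff.mp h) ht0ne
    · exact h
  have ht0sq : (t0 : G) * t0 = 1 := by
    have := pow_orderOf_eq_one (t0 : G)
    rwa [ht0o, pow_two] at this
  have ht0inv : (t0 : G)⁻¹ = t0 := (eq_inv_of_mul_eq_one_left ht0sq).symm
  have hP : Subgroup.normalizer ((S : Subgroup G) : Set G) ≤
      Subgroup.centralizer ((S : Subgroup G) : Set G) := by
    intro g hg
    rw [Subgroup.mem_centralizer_iff]
    intro h hh
    have hg' := (Subgroup.mem_normalizer_iff.mp hg (t0 : G)).mp t0.2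
    have hgt : g * t0 * g⁻¹ = (t0 : G) := by
      rcases hSmem _ hg' with h1 | h1
      · exfalso; apply ht0G1
        have : (t0 : G) = g⁻¹ * (g * t0 * g⁻¹) * g := by group
        rw [this, h1]; group
      · exact h1
    rcases hSmem h hh with rfl | rfl
    · simp
    · exact (mul_inv_eq_iff_eq_mul.mp hgt).symm
  have hK : (MonoidHom.transferSylow S hP).ker.IsComplement' S :=
    MonoidHom.ker_transferSylow_isComplement' S hP
  haveI hKn : (MonoidHom.transferSylow S hP).ker.Normal := MonoidHom.normal_ker _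
  generalize (MonoidHom.transferSylow S hP).ker = K at hK hKn
  have hdisj : ∀ x, x ∈ K → x ∈ S → x = 1 := fun x hxK hxS => by
    have := hK.disjoint.le_bot ⟨hxK, hxS⟩
    exact (Subgroup.mem_bot).mp this
  have ht0K : (t0 : G) ∉ K := fun h => ht0G1 (hdisj _ h t0.2)
  have hKodd : Odd (Nat.card K) := by
    by_contra hne
    have h2 : 2 ∣ Nat.card K := even_iff_two_dvd.mp (Nat.not_odd_iff_even.mp hne)
    obtain ⟨k, hk⟩ := exists_prime_orderOf_dvd_card' (G := K) 2 h2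
    have hkG : orderOf (k : G) = 2 := by rw [Subgroup.orderOf_coe]; exact hk
    obtain ⟨g, hg⟩ := isConj_iff.mp (hone (k : G) t0 hkG ht0o)
    apply ht0K; rw [← hg]; exact hKn.conj_mem _ k.2 g
  have hidx : K.index = 2 := by rw [hK.symm.index_eq_card, hS]
  have hKoddElt : ∀ x ∈ K, Odd (orderOf x) := by
    intro x hx
    have e : orderOf x = orderOf (⟨x, hx⟩ : ↥K) := Subgroup.orderOf_coe (⟨x, hx⟩ : ↥K)
    rw [e]
    exact Odd.of_dvd_nat hKodd (orderOf_dvd_natCard _)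
  have hle1 : K ≤ Cfsg.oddCore G :=
    Cfsg.Agent.Lib.Helper1.le_pPrimeCore hKn (Nat.coprime_two_right.mpr hKodd)
  have hle2 : Cfsg.oddCore G ≤ K := by
    intro x hx
    have hOodd : Odd (Nat.card (Cfsg.oddCore G)) :=
      Nat.coprime_two_right.mp (Cfsg.Agent.Lib.Helper1.pPrimeCore_card_coprime (G := G) 2)
    have hxo : Odd (orderOf x) := by
      have e : orderOf x = orderOf (⟨x, hx⟩ : ↥(Cfsg.oddCore G)) :=
        Subgroup.orderOf_coe (⟨x, hx⟩ : ↥(Cfsg.oddCore G))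
      rw [e]
      exact Odd.of_dvd_nat hOodd (orderOf_dvd_natCard _)
    have hxx : x * x ∈ K := (Subgroup.mul_mem_iff_of_index_two hidx).mpr Iff.rfl
    exact mem_of_sq_mem K x hxo hxx
  have hOK : Cfsg.oddCore G = K := le_antisymm hle2 hle1
  have hfpf : ∀ c ∈ K, (t0 : G) * c * (t0 : G)⁻¹ = c → c = 1 := by
    intro c hcK hct
    have hco := hKoddElt c hcK
    obtain ⟨g, hg⟩ := isConj_iff.mp (hamb c)
    by_cases hgK : g ∈ K
    · exact eq_one_of_odd_invert g c (hKoddElt g hgK) hco hg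
    · have h1 : (t0 : G) * g ∈ K :=
        (Subgroup.mul_mem_iff_of_index_two hidx).mpr
          ⟨fun h => absurd h ht0K, fun h => absurd h hgK⟩
      have h2 : ((t0 : G) * g) * c * ((t0 : G) * g)⁻¹ = c⁻¹ := by
        calc ((t0 : G) * g) * c * ((t0 : G) * g)⁻¹
            = t0 * (g * c * g⁻¹) * (t0 : G)⁻¹ := by group
          _ = t0 * c⁻¹ * (t0 : G)⁻¹ := by rw [hg]
          _ = (t0 * c * (t0 : G)⁻¹)⁻¹ := by group
          _ = c⁻¹ := by rw [hct]
      exact eq_one_of_odd_invert _ c (hKoddElt _ h1) hco h2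
  have hinv : ∀ x ∈ K, (t0 : G) * x * (t0 : G)⁻¹ = x⁻¹ := by
    let F : K → K := fun y => ⟨(y : G)⁻¹ * ((t0 : G) * (y : G) * (t0 : G)⁻¹),
      K.mul_mem (K.inv_mem y.2) (hKn.conj_mem _ y.2 _)⟩
    have hFinj : Function.Injective F := by
      intro y z hyz
      have h' : (y : G)⁻¹ * ((t0 : G) * (y : G) * (t0 : G)⁻¹) =
          (z : G)⁻¹ * ((t0 : G) * (z : G) * (t0 : G)⁻¹) := congrArg Subtype.val hyz
      have h1 : (t0 : G) * ((z : G) * (y : G)⁻¹) * (t0 : G)⁻¹ = (z : G) * (y : G)⁻¹ := by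
        calc (t0 : G) * ((z : G) * (y : G)⁻¹) * (t0 : G)⁻¹
            = (z : G) * ((z : G)⁻¹ * ((t0 : G) * (z : G) * (t0 : G)⁻¹)) *
                ((t0 : G) * (y : G) * (t0 : G)⁻¹)⁻¹ := by group
          _ = (z : G) * ((y : G)⁻¹ * ((t0 : G) * (y : G) * (t0 : G)⁻¹)) *
                ((t0 : G) * (y : G) * (t0 : G)⁻¹)⁻¹ := by rw [h']
          _ = (z : G) * (y : G)⁻¹ := by group
      have := hfpf _ (K.mul_mem z.2 (K.inv_mem y.2)) h1
      exact Subtype.ext (mul_inv_eq_one.mp this).symm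
    have hFsurj := Finite.surjective_of_injective hFinj
    intro x hx
    obtain ⟨y, hy⟩ := hFsurj ⟨x, hx⟩
    have hxy : x = (y : G)⁻¹ * ((t0 : G) * (y : G) * (t0 : G)⁻¹) :=
      (congrArg Subtype.val hy).symm
    rw [hxy]
    have e1 : (t0 : G) * ((y : G)⁻¹ * ((t0 : G) * (y : G) * (t0 : G)⁻¹)) * (t0 : G)⁻¹ =
        (t0 : G) * (y : G)⁻¹ * (t0 : G) * (y : G) * ((t0 : G)⁻¹ * (t0 : G)⁻¹) := by group
    have e2 : ((y : G)⁻¹ * ((t0 : G) * (y : G) * (t0 : G)⁻¹))⁻¹ =
        (t0 : G) * (y : G)⁻¹ * (t0 : G)⁻¹ * (y : G) := by group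
    rw [e1, e2, ht0inv, ht0sq, mul_one]
  refine ⟨?_, ?_, ?_⟩
  · rw [hOK]; exact hK.symm
  · rw [hOK]
    apply le_antisymm
    · intro x hx
      have h1 : ⁅(t0 : G), x⁆ ∈ commutator G := by
        rw [commutator_def]
        exact Subgroup.commutator_mem_commutator (Subgroup.mem_top _) (Subgroup.mem_top _)
      have h2 : ⁅(t0 : G), x⁆ = (x * x)⁻¹ := by
        rw [commutatorElement_def, hinv x hx]; group
      have h3 : x * x ∈ commutator G := by
        have := (commutator G).inv_mem h1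
        rwa [h2, inv_inv] at this
      exact mem_of_sq_mem _ x (hKoddElt x hx) h3
    · rw [commutator_def, Subgroup.commutator_le]
      intro a _ b _
      rw [commutatorElement_def]
      simp only [Subgroup.mul_mem_iff_of_index_two hidx, inv_mem_iff]
      tauto
  · intro t htS ht1 x hx
    rw [hOK] at hx
    rcases hSmem t htS with h | h
    · exact absurd h ht1
    · rw [h]; exact hinv x hx

/-- S4061 -/
theorem main4061 [Group.IsSolvable G]
    (hamb : ∀ x : G, IsConj x x⁻¹) (heven : 2 ∣ Nat.card G)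
    (hone : ∀ s t : G, orderOf s = 2 → orderOf t = 2 → IsConj s t) (S : Sylow 2 G) :
    (Nat.card S = 2 ∨
      ∃ n : ℕ, Nonempty ((S : Subgroup G) ≃* QuaternionGroup (2 ^ (n + 1)))) ∧
    (Nat.card S = 2 → (S : Subgroup G).IsComplement' (Cfsg.oddCore G) ∧
      Cfsg.oddCore G = commutator G ∧
        ∀ t : G, t ∈ S → t ≠ 1 → ∀ x : G, x ∈ Cfsg.oddCore G → t * x * t⁻¹ = x⁻¹) :=
  ⟨sylow_struct hamb heven hone S, fun hS => part2 hamb hone S hS⟩

end Cfsg.Agent.Lib.Lead.Amb2
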