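import Mathlib
import Cfsg.Prelude.Def_CaseTheorems
import Cfsg.Agent.Lib.Lead.Amb2
import Cfsg.Agent.Lib.Helper7.E4CaseA

set_option autoImplicit false

/-!
# Solvable groups in which elements of equal order are conjugate
-/

namespace Cfsg.Agent.Lib.Lead.Amb3

open scoped commutatorElement
open Cfsg.Agent.Lib.Lead.Amb1 Cfsg.Agent.Lib.Lead.Amb2

universe u

variable {G : Type u} [Group G] [Finite G]

section quat

/-- basic facts in `QuaternionGroup (2 * M)` -/
theorem quat_inv_xa_mul (M : ℕ) (i : ZMod (2 * (2 * M))) :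
    (QuaternionGroup.xa 0 : QuaternionGroup (2 * M))⁻¹ * QuaternionGroup.xa i =
      QuaternionGroup.a i := by
  have hinv0 : (QuaternionGroup.xa 0 : QuaternionGroup (2 * M))⁻¹ =
      QuaternionGroup.xa ((2 * M : ℕ) : ZMod (2 * (2 * M))) := by
    apply inv_eq_of_mul_eq_one_right
    rw [QuaternionGroup.xa_mul_xa, QuaternionGroup.one_def]
    congr 1
    have : (((2 * M : ℕ) : ZMod (2 * (2 * M))) + ((2 * M : ℕ) : ZMod (2 * (2 * M)))) =
        ((2 * (2 * M) : ℕ) : ZMod (2 * (2 * M))) := by push_cast; ring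
    rw [sub_zero, this, ZMod.natCast_self]
  rw [hinv0, QuaternionGroup.xa_mul_xa]
  congr 1
  ring

theorem quat_order_four (M : ℕ) (hM : 0 < M) :
    orderOf (QuaternionGroup.a ((M : ℕ) : ZMod (2 * (2 * M))) : QuaternionGroup (2 * M)) = 4 := by
  haveI : Fact (Nat.Prime 2) := ⟨Nat.prime_two⟩
  have h2 : (QuaternionGroup.a ((M : ℕ) : ZMod (2 * (2 * M))) : QuaternionGroup (2 * M)) ^ 2 =
      QuaternionGroup.a ((2 * M : ℕ) : ZMod (2 * (2 * M))) := by
    rw [pow_two, QuaternionGroup.a_mul_a]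
    congr 1
    push_cast; ring
  have : orderOf (QuaternionGroup.a ((M : ℕ) : ZMod (2 * (2 * M))) : QuaternionGroup (2 * M)) =
      2 ^ (1 + 1) := by
    apply orderOf_eq_prime_pow
    · rw [pow_one, h2, QuaternionGroup.one_def]
      intro hh
      have h3 := QuaternionGroup.a.inj hh
      rw [ZMod.natCast_eq_zero_iff] at h3
      have := Nat.le_of_dvd (by omega) h3
      omega
    · rw [show (2 : ℕ) ^ (1 + 1) = 2 * 2 by norm_num, pow_mul, h2, pow_two,
        QuaternionGroup.a_mul_a, QuaternionGroup.one_def]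
      congr 1
      have : (((2 * M : ℕ) : ZMod (2 * (2 * M))) + ((2 * M : ℕ) : ZMod (2 * (2 * M)))) =
          ((2 * (2 * M) : ℕ) : ZMod (2 * (2 * M))) := by push_cast; ring
      rw [this, ZMod.natCast_self]
  simpa using this

end quat

/-- the quaternion case is impossible -/
theorem quat_contra [Group.IsSolvable G]
    (h : ∀ x y : G, orderOf x = orderOf y → IsConj x y) (heven : 2 ∣ Nat.card G)
    (S : Sylow 2 G) (N : ℕ)
    (hN : ∃ M, N = 2 * M ∧ 0 < M) (e : (S : Subgroup G) ≃* QuaternionGroup N) : False := by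
  classical
  haveI : Fact (Nat.Prime 2) := ⟨Nat.prime_two⟩
  obtain ⟨M, rfl, hM⟩ := hN
  haveI : NeZero (2 * M) := ⟨by omega⟩
  have hcG : ∀ x y : G, orderOf x = orderOf y → x⁻¹ * y ∈ commutator G := by
    intro x y hxy
    obtain ⟨g, hg⟩ := isConj_iff.mp (h x y hxy)
    rw [← hg, commutator_def]
    have : x⁻¹ * (g * x * g⁻¹) = ⁅x⁻¹, g⁆ := by rw [commutatorElement_def]; group
    rw [this]
    exact Subgroup.commutator_mem_commutator (Subgroup.mem_top _) (Subgroup.mem_top _)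
  let q : QuaternionGroup (2 * M) → G := fun z => ((e.symm z : (S : Subgroup G)) : G)
  have hqo : ∀ z, orderOf (q z) = orderOf z := fun z => by
    show orderOf ((e.symm z : (S : Subgroup G)) : G) = orderOf z
    rw [Subgroup.orderOf_coe, MulEquiv.orderOf_eq]
  have hqmul : ∀ z w, q (z * w) = q z * q w := fun z w => by
    show ((e.symm (z * w) : (S : Subgroup G)) : G) = _
    rw [map_mul]; rfl
  have hqinv : ∀ z, q z⁻¹ = (q z)⁻¹ := fun z => by
    show ((e.symm z⁻¹ : (S : Subgroup G)) : G) = _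
    rw [map_inv]; rfl
  have hxa : ∀ i, orderOf (QuaternionGroup.xa i : QuaternionGroup (2 * M)) = 4 :=
    QuaternionGroup.orderOf_xa
  have ha : ∀ i, q (QuaternionGroup.a i) ∈ commutator G := by
    intro i
    have h1 := hcG (q (QuaternionGroup.xa 0)) (q (QuaternionGroup.xa i))
      (by rw [hqo, hqo, hxa, hxa])
    rw [← hqinv, ← hqmul, quat_inv_xa_mul] at h1
    exact h1
  have hxaG : ∀ i, q (QuaternionGroup.xa i) ∈ commutator G := by
    intro i
    have h1 := hcG (q (QuaternionGroup.a ((M : ℕ) : ZMod (2 * (2 * M))))) (q (QuaternionGroup.xa i))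
      (by rw [hqo, hqo, hxa, quat_order_four M hM])
    have h2 := (commutator G).mul_mem (ha ((M : ℕ) : ZMod (2 * (2 * M)))) h1
    rwa [mul_inv_cancel_left] at h2
  have hSG' : ∀ s ∈ S, s ∈ commutator G := by
    intro s hs
    have : s = q (e ⟨s, hs⟩) := by
      show s = ((e.symm (e ⟨s, hs⟩) : (S : Subgroup G)) : G)
      rw [MulEquiv.symm_apply_apply]
    rw [this]
    rcases e ⟨s, hs⟩ with i | i
    · exact ha i
    · exact hxaG i
  have hodd : ∀ w : G, Odd (orderOf w) → w ∈ commutator G := by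
    intro w hw
    have h1 : orderOf (w ^ 2) = orderOf w :=
      Nat.Coprime.orderOf_pow (Nat.coprime_two_right.mpr hw)
    have := hcG w (w ^ 2) h1.symm
    have e1 : w⁻¹ * w ^ 2 = w := by group
    rwa [e1] at this
  have h2elt : ∀ w : G, (∃ a : ℕ, w ^ 2 ^ a = 1) → w ∈ commutator G := by
    rintro w ⟨a, hwa⟩
    have hP : IsPGroup 2 (Subgroup.zpowers w) := by
      obtain ⟨j, -, hj⟩ := (Nat.dvd_prime_pow Nat.prime_two).mp (orderOf_dvd_of_pow_eq_one hwa)
      exact IsPGroup.of_card (n := j) (by rw [Nat.card_zpowers, hj])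
    obtain ⟨Q, hQ⟩ := hP.exists_le_sylow
    obtain ⟨g, hg⟩ := MulAction.exists_smul_eq G S Q
    have hwQ : w ∈ (Q : Subgroup G) := hQ (Subgroup.mem_zpowers w)
    rw [← hg, Sylow.coe_subgroup_smul, Subgroup.mem_pointwise_smul_iff_inv_smul_mem] at hwQ
    have h1 := hSG' _ hwQ
    have h2 : (MulAut.conj g)⁻¹ • w = g⁻¹ * w * g := by
      rw [MulAut.smul_def, MulAut.conj_inv_apply]
    rw [h2] at h1
    have := (inferInstance : (commutator G).Normal).conj_mem _ h1 g
    have e2 : g * (g⁻¹ * w * g) * g⁻¹ = w := by group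
    rwa [e2] at this
  have htop : commutator G = ⊤ := by
    rw [eq_top_iff]
    intro w _
    obtain ⟨a, b, hb, hd⟩ := Nat.exists_eq_two_pow_mul_odd (orderOf_pos w).ne'
    have h1 : w ^ (2 ^ a) ∈ commutator G := hodd _ (by
      apply Odd.of_dvd_nat hb
      apply orderOf_dvd_of_pow_eq_one
      rw [← pow_mul, ← hd, pow_orderOf_eq_one])
    have h2 : w ^ b ∈ commutator G :=
      h2elt _ ⟨a, by rw [← pow_mul, mul_comm, ← hd, pow_orderOf_eq_one]⟩
    have hcop : Nat.Coprime (2 ^ a) b := Nat.Coprime.pow_left a (Nat.coprime_two_left.mpr hb)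
    obtain ⟨u, v, huv⟩ : ∃ u v : ℤ, ((2 ^ a : ℕ) : ℤ) * u + (b : ℤ) * v = 1 := by
      refine ⟨Nat.gcdA (2 ^ a) b, Nat.gcdB (2 ^ a) b, ?_⟩
      have := Nat.gcd_eq_gcd_ab (2 ^ a) b
      rw [hcop.gcd_eq_one] at this
      rw [← this]; rfl
    have : w = (w ^ (2 ^ a)) ^ u * (w ^ b) ^ v := by
      rw [← zpow_natCast w (2 ^ a), ← zpow_natCast w b, ← zpow_mul, ← zpow_mul, ← zpow_add,
        huv, zpow_one]
    rw [this]
    exact (commutator G).mul_mem ((commutator G).zpow_mem h1 u) ((commutator G).zpow_mem h2 v)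
  haveI : Nontrivial G := by
    rw [← Finite.one_lt_card_iff_nontrivial]
    have := Nat.le_of_dvd Nat.card_pos heven
    omega
  exact (Group.IsSolvable.commutator_lt_top_of_nontrivial G).ne htop

/-- S4062 -/
theorem main4062 [Group.IsSolvable G]
    (h : ∀ x y : G, orderOf x = orderOf y → IsConj x y) :
    Nat.card G = 1 ∨ Nat.card G = 2 ∨ Nonempty (G ≃* Equiv.Perm (Fin 3)) := by
  classical
  haveI : Fact (Nat.Prime 2) := ⟨Nat.prime_two⟩
  haveI : Fact (Nat.Prime 3) := ⟨Nat.prime_three⟩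
  have hamb : ∀ x : G, IsConj x x⁻¹ := fun x => h x x⁻¹ (orderOf_inv x).symm
  have hone : ∀ s t : G, orderOf s = 2 → orderOf t = 2 → IsConj s t :=
    fun s t hs ht => h s t (hs.trans ht.symm)
  by_cases heven : 2 ∣ Nat.card G
  swap
  · left
    have hoddG : Odd (Nat.card G) := Nat.odd_iff.mpr (by omega)
    have hall : ∀ x : G, x = 1 := by
      intro x
      obtain ⟨g, hg⟩ := isConj_iff.mp (hamb x)
      exact eq_one_of_odd_invert g x (Odd.of_dvd_nat hoddG (orderOf_dvd_natCard g))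
        (Odd.of_dvd_nat hoddG (orderOf_dvd_natCard x)) hg
    haveI : Subsingleton G := ⟨fun a b => by rw [hall a, hall b]⟩
    exact Nat.card_of_subsingleton (1 : G)
  obtain ⟨S⟩ : Nonempty (Sylow 2 G) := inferInstance
  rcases sylow_struct hamb heven hone S with hS2 | ⟨n, ⟨e⟩⟩
  swap
  · exact (quat_contra h heven S (2 ^ (n + 1)) ⟨2 ^ n, pow_succ' 2 n, by positivity⟩ e).elim
  right
  obtain ⟨hcompl, -, hinvS⟩ := part2 hamb hone S hS2
  obtain ⟨t0, ht0ne, -⟩ := (Nat.card_eq_two_iff' (1 : S)).mp hS2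
  have hτ1 : (t0 : G) ≠ 1 := fun hh => ht0ne (Subtype.ext hh)
  have hinv := hinvS (t0 : G) t0.2 hτ1
  have hτo : orderOf (t0 : G) = 2 := by
    have h1 : orderOf t0 ∣ Nat.card S := orderOf_dvd_natCard t0
    rw [hS2] at h1
    rw [Subgroup.orderOf_coe]
    rcases (Nat.dvd_prime Nat.prime_two).mp h1 with hh | hh
    · exact absurd (orderOf_eq_one_iff.mp hh) ht0ne
    · exact hh
  have hτsq : (t0 : G) * t0 = 1 := by
    have := pow_orderOf_eq_one (t0 : G)
    rwa [hτo, pow_two] at this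
  have hτinv : (t0 : G)⁻¹ = t0 := (eq_inv_of_mul_eq_one_left hτsq).symm
  generalize (t0 : G) = τ at hτ1 hinv hτo hτsq hτinv
  have hτS : τ ∈ (S : Subgroup G) ∨ True := Or.inr trivial
  have hOodd : Odd (Nat.card (Cfsg.oddCore G)) :=
    Nat.coprime_two_right.mp (Cfsg.Agent.Lib.Helper1.pPrimeCore_card_coprime (G := G) 2)
  haveI hKn : (Cfsg.oddCore G).Normal := Cfsg.Agent.Lib.Helper1.pPrimeCore_normal 2
  have hidx : (Cfsg.oddCore G).index = 2 := by rw [hcompl.index_eq_card, hS2]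
  have hcard : Nat.card S * Nat.card (Cfsg.oddCore G) = Nat.card G := hcompl.card_mul_card
  generalize Cfsg.oddCore G = K at hinv hOodd hKn hidx hcard
  have hKoddElt : ∀ x ∈ K, Odd (orderOf x) := by
    intro x hx
    have e : orderOf x = orderOf (⟨x, hx⟩ : ↥K) := Subgroup.orderOf_coe (⟨x, hx⟩ : ↥K)
    rw [e]
    exact Odd.of_dvd_nat hOodd (orderOf_dvd_natCard _)
  have hτK : τ ∉ K := by
    intro hh
    have := hKoddElt τ hh
    rw [hτo] at this
    exact absurd this (by decide)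
  have hKc : ∀ a ∈ K, ∀ b ∈ K, a * b = b * a := by
    intro a ha b hb
    have h1 := hinv (a * b) (K.mul_mem ha hb)
    have h2 : τ * (a * b) * τ⁻¹ = (τ * a * τ⁻¹) * (τ * b * τ⁻¹) := by group
    rw [h2, hinv a ha, hinv b hb] at h1
    have h3 := congrArg (·⁻¹) h1
    simp only [mul_inv_rev, inv_inv] at h3
    exact h3.symm
  have hconjK1 : ∀ g ∈ K, ∀ x ∈ K, g * x * g⁻¹ = x := by
    intro g hg x hx
    rw [hKc g hg x hx, mul_inv_cancel_right]
  have hconjK2 : ∀ g : G, g ∉ K → ∀ x ∈ K, g * x * g⁻¹ = x⁻¹ := by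
    intro g hg x hx
    have h1 : g * τ ∈ K :=
      (Subgroup.mul_mem_iff_of_index_two hidx).mpr ⟨fun hh => absurd hh hg, fun hh => absurd hh hτK⟩
    have h2 : g * x * g⁻¹ = (g * τ) * (τ * x * τ⁻¹) * (g * τ)⁻¹ := by
      have e1 : (g * τ) * (τ * x * τ⁻¹) * (g * τ)⁻¹ = g * (τ * τ) * x * (τ⁻¹ * τ⁻¹) * g⁻¹ := by
        group
      rw [e1, hτinv, hτsq]; group
    rw [h2, hinv x hx, hconjK1 _ h1 _ (K.inv_mem hx)]
  have hcube : ∀ x ∈ K, x ^ 3 = 1 := by
    intro x hx
    have h1 : orderOf (x ^ 2) = orderOf x :=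
      Nat.Coprime.orderOf_pow (Nat.coprime_two_right.mpr (hKoddElt x hx))
    obtain ⟨g, hg⟩ := isConj_iff.mp (h x (x ^ 2) h1.symm)
    by_cases hgK : g ∈ K
    · rw [hconjK1 g hgK x hx] at hg
      -- x = x ^ 2
      have : x = 1 := by
        have h2 : x * 1 = x * x := by rw [mul_one, ← pow_two]; exact hg
        exact (mul_left_cancel h2).symm
      rw [this, one_pow]
    · rw [hconjK2 g hgK x hx] at hg
      -- x⁻¹ = x ^ 2
      calc x ^ 3 = x * x ^ 2 := by rw [pow_succ']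
        _ = x * x⁻¹ := by rw [← hg]
        _ = 1 := mul_inv_cancel x
  by_cases hKbot : K = ⊥
  · left
    rw [hKbot, Subgroup.card_bot, hS2] at hcard
    omega
  right
  obtain ⟨⟨x, hxK⟩, hx1⟩ := (Subgroup.ne_bot_iff_exists_ne_one).mp hKbot
  have hx1' : x ≠ 1 := fun hh => hx1 (Subtype.ext hh)
  have hxo : orderOf x = 3 := orderOf_eq_prime (hcube x hxK) hx1'
  have hKmem : ∀ y ∈ K, y = 1 ∨ y = x ∨ y = x⁻¹ := by
    intro y hy
    by_cases hy1 : y = 1
    · exact Or.inl hy1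
    right
    have hyo : orderOf y = 3 := orderOf_eq_prime (hcube y hy) hy1
    obtain ⟨g, hg⟩ := isConj_iff.mp (h x y (hxo.trans hyo.symm))
    by_cases hgK : g ∈ K
    · left; rw [← hg, hconjK1 g hgK x hxK]
    · right; rw [← hg, hconjK2 g hgK x hxK]
  have hKz : K = Subgroup.zpowers x := by
    apply le_antisymm
    · intro y hy
      rcases hKmem y hy with rfl | rfl | rfl
      · exact one_mem _
      · exact Subgroup.mem_zpowers _
      · exact (Subgroup.zpowers x).inv_mem (Subgroup.mem_zpowers _)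
    · rw [Subgroup.zpowers_le]; exact hxK
  have hKcard : Nat.card K = 3 := by rw [hKz, Nat.card_zpowers, hxo]
  have hGcard : Nat.card G = 6 := by rw [← hcard, hS2, hKcard]
  apply Cfsg.Agent.Lib.Helper7.E4.iso_perm_three hGcard K hKcard
  intro g hg
  by_contra hgK
  have h1 := hconjK2 g hgK x hxK
  have h2 := Subgroup.mem_centralizer_iff.mp hg x hxK
  -- x * g = g * x
  have h3 : g * x * g⁻¹ = x := by rw [← h2, mul_inv_cancel_right]
  rw [h3] at h1
  -- x = x⁻¹
  have h4 : x * x = 1 := mul_eq_one_iff_eq_inv.mpr h1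
  have h5 : orderOf x ∣ 2 := orderOf_dvd_of_pow_eq_one (by rw [pow_two]; exact h4)
  rw [hxo] at h5
  omega

end Cfsg.Agent.Lib.Lead.Amb3
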