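import Mathlib
import Cfsg.Prelude.Def_Blocks
import Cfsg.Agent.Lib.Lead.Bli1
import Cfsg.Agent.Lib.Helper7.GC1
import Cfsg.Agent.Lib.Helper7.GC2
import Cfsg.Agent.Lib.Helper3.CharQuot
import Cfsg.Agent.Lib.Helper3.Prim2A
import Cfsg.Agent.Lib.Helper6.HallNilp

/-! Blichfeldt, part 2: removing central elements of big prime order by a determinant twist, and
Hall subgroups of nilpotent groups. -/

set_option autoImplicit false
open Cfsg
open Cfsg.Agent.Lib.Helper6
open scoped ComplexConjugate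

namespace Cfsg.Agent.Lib.Lead.Bli

section
variable {G : Type*} [Group G]

/-- twisting by a power of the determinant kills a central element of prime order `p > χ(1)` -/
theorem exists_central_quot [Finite G] {χ : G → ℂ} (hχ : IsIrrCharacter G χ) (hf : Faith χ)
    (p : ℕ) (hp : p.Prime) (hdp : charDegree χ < p) (z : G) (hz : z ∈ Subgroup.center G)
    (hzo : orderOf z = p) :
    ∃ (K : Subgroup G) (_ : K.Normal) (β : G ⧸ K → ℂ), K ≠ ⊥ ∧ K ≤ Subgroup.center G ∧
      IsIrrCharacter (G ⧸ K) β ∧ (∀ q : G ⧸ K, β q = β 1 → q = 1) ∧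
      charDegree β = charDegree χ := by
  classical
  haveI : Fintype G := Fintype.ofFinite G
  have hχ0 := hχ
  obtain ⟨n, ρ, hirr, rfl⟩ := hχ
  haveI := hirr
  have hfr : Module.finrank ℂ (Fin n → ℂ) = n := Module.finrank_fin_fun ℂ
  have hone : ρ.character 1 = (n : ℂ) := by rw [Representation.char_one, hfr]
  have hn : charDegree ρ.character = n := by
    have h1 := IsCharacter.apply_one_eq_charDegree (IsIrrCharacter.isCharacter hχ0)
    rw [hone] at h1
    exact_mod_cast h1.symm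
  have hnpos : 0 < n := by rw [← hn]; exact IsIrrCharacter.charDegree_pos hχ0
  have hnC : (n : ℂ) ≠ 0 := by exact_mod_cast hnpos.ne'
  obtain ⟨c, hc, -⟩ := Cfsg.Agent.Lib.Helper7.GC.exists_scalar ρ
    (Cfsg.Agent.Lib.Helper7.GC.center_le_Zr ρ hz)
  have hcharz : ρ.character z = c * n := by
    unfold Representation.character
    rw [hc, map_smul, ← Module.End.one_eq_id, LinearMap.trace_one, hfr, smul_eq_mul]
  -- `c ^ p = 1`
  have hcp : c ^ p = 1 := by
    have h1 : ρ (z ^ p) = 1 := by rw [← hzo, pow_orderOf_eq_one, map_one]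
    rw [map_pow, hc, smul_pow, ← Module.End.one_eq_id, one_pow] at h1
    have h2 := congrArg (LinearMap.trace ℂ (Fin n → ℂ)) h1
    rw [map_smul, LinearMap.trace_one, hfr, smul_eq_mul] at h2
    exact mul_right_cancel₀ hnC (by rw [h2, one_mul])
  have hc0 : c ≠ 0 := by
    intro h0
    rw [h0, zero_pow hp.ne_zero] at hcp
    exact zero_ne_one hcp
  have hc1 : c ≠ 1 := by
    intro h1
    have h2 : ρ.character z = ρ.character 1 := by rw [hcharz, hone, h1, one_mul]
    have h3 := hf z h2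
    rw [h3, orderOf_one] at hzo
    have := hp.one_lt
    omega
  -- the determinant character
  obtain ⟨δ, hδ⟩ : ∃ δ : G →* ℂ, ∀ g, δ g = LinearMap.det (ρ g) :=
    ⟨(LinearMap.det : ((Fin n → ℂ) →ₗ[ℂ] (Fin n → ℂ)) →* ℂ).comp ρ, fun g => rfl⟩
  have hcopr : Nat.Coprime n p :=
    ((Nat.Prime.coprime_iff_not_dvd hp).2 (Nat.not_dvd_of_pos_of_lt hnpos (by rw [← hn]; exact hdp))).symm
  obtain ⟨t, -, ht⟩ := Nat.exists_mul_mod_eq_one_of_coprime hcopr hp.one_lt
  obtain ⟨lam, hlam⟩ : ∃ lam : G →* ℂˣ, ∀ g, ((lam g : ℂˣ) : ℂ) = ((δ g)⁻¹) ^ t := by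
    refine ⟨(δ.toHomUnits⁻¹) ^ t, fun g => ?_⟩
    rw [MonoidHom.pow_apply, MonoidHom.inv_apply, Units.val_pow_eq_pow_val,
      Units.val_inv_eq_inv_val, MonoidHom.coe_toHomUnits]
  have hχ' := Cfsg.Agent.Lib.Helper7.GC.isIrr_twist hχ0 lam
  -- values of the twisted character at `z` and `1`
  have hδz : δ z = c ^ n := by
    rw [hδ, hc, LinearMap.det_smul, LinearMap.det_id, hfr, mul_one]
  have hz' : ((lam z : ℂˣ) : ℂ) * ρ.character z = n := by
    rw [hlam, hδz, hcharz, inv_pow, ← pow_mul]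
    have h1 : n * t = p * (n * t / p) + 1 := by
      have := Nat.div_add_mod (n * t) p
      rw [ht] at this
      exact this.symm
    rw [h1, pow_succ, pow_mul, hcp, one_pow, one_mul]
    field_simp
  have h1' : ((lam 1 : ℂˣ) : ℂ) * ρ.character 1 = n := by
    rw [map_one, Units.val_one, one_mul, hone]
  obtain ⟨K, hKn, β, hK, hβ, hχβ, -, hdeg⟩ :=
    Cfsg.Agent.Lib.Helper3.CharQuot.exists_kernel_deflation hχ'
  have hzK : z ∈ K := by
    rw [hK]
    show ((lam z : ℂˣ) : ℂ) * ρ.character z = ((lam 1 : ℂˣ) : ℂ) * ρ.character 1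
    rw [hz', h1']
  have hz1 : z ≠ 1 := by
    intro h
    rw [h, orderOf_one] at hzo
    have := hp.one_lt
    omega
  have hnorm : ∀ g : G, ‖((lam g : ℂˣ) : ℂ)‖ = 1 := by
    intro g
    apply Complex.norm_eq_one_of_pow_eq_one (n := Nat.card G) _ Nat.card_pos.ne'
    rw [← Units.val_pow_eq_pow_val, ← map_pow, pow_card_eq_one', map_one, Units.val_one]
  refine ⟨K, hKn, β, ?_, ?_, hβ, ?_, ?_⟩
  · intro h
    rw [h, Subgroup.mem_bot] at hzK
    exact hz1 hzK
  · intro g hg
    rw [hK] at hg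
    have hg' : ((lam g : ℂˣ) : ℂ) * ρ.character g = n := by
      have : ((lam g : ℂˣ) : ℂ) * ρ.character g = ((lam 1 : ℂˣ) : ℂ) * ρ.character 1 := hg
      rw [this, h1']
    apply Cfsg.Agent.Lib.Helper3.Prim2.mem_center_of_norm_eq hχ0 hf
    have h2 := congrArg norm hg'
    rw [norm_mul, hnorm g, one_mul] at h2
    rw [h2, hone]
  · intro q hq
    obtain ⟨g, rfl⟩ := QuotientGroup.mk_surjective q
    have h2 : (fun g => ((lam g : ℂˣ) : ℂ) * ρ.character g) g
        = (fun g => ((lam g : ℂˣ) : ℂ) * ρ.character g) 1 := by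
      rw [hχβ]
      exact hq
    exact (QuotientGroup.eq_one_iff g).2 ((hK g).2 h2)
  · rw [← hdeg]
    unfold charDegree
    beta_reduce
    rw [h1', hone]

/-- splitting a number according to a predicate on its prime divisors -/
theorem exists_split (N : ℕ) (hN : N ≠ 0) (P : ℕ → Prop) [DecidablePred P] :
    ∃ a b : ℕ, a * b = N ∧ Nat.Coprime a b ∧ (∀ q : ℕ, q.Prime → q ∣ a → P q) ∧
      (∀ q : ℕ, q.Prime → q ∣ b → ¬ P q) := by
  refine ⟨∏ q ∈ N.primeFactors.filter P, q ^ N.factorization q,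
    ∏ q ∈ N.primeFactors.filter (fun q => ¬ P q), q ^ N.factorization q, ?_, ?_, ?_, ?_⟩
  · rw [Finset.prod_filter_mul_prod_filter_not]
    have := Nat.prod_factorization_pow_eq_self hN
    rw [Finsupp.prod, Nat.support_factorization] at this
    exact this
  · apply Nat.Coprime.prod_left
    intro q1 hq1
    apply Nat.Coprime.prod_right
    intro q2 hq2
    rw [Finset.mem_filter] at hq1 hq2
    apply Nat.Coprime.pow
    rw [Nat.coprime_primes (Nat.prime_of_mem_primeFactors hq1.1) (Nat.prime_of_mem_primeFactors hq2.1)]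
    intro h
    rw [h] at hq1
    exact hq2.2 hq1.2
  · intro q hq hd
    obtain ⟨q', hq', hd'⟩ := (Prime.dvd_finsetProd_iff hq.prime _).1 hd
    rw [Finset.mem_filter] at hq'
    have h1 := Nat.Prime.dvd_of_dvd_pow hq hd'
    have h2 := (Nat.prime_dvd_prime_iff_eq hq (Nat.prime_of_mem_primeFactors hq'.1)).1 h1
    rw [h2]; exact hq'.2
  · intro q hq hd
    obtain ⟨q', hq', hd'⟩ := (Prime.dvd_finsetProd_iff hq.prime _).1 hd
    rw [Finset.mem_filter] at hq'
    have h1 := Nat.Prime.dvd_of_dvd_pow hq hd'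
    have h2 := (Nat.prime_dvd_prime_iff_eq hq (Nat.prime_of_mem_primeFactors hq'.1)).1 h1
    rw [h2]; exact hq'.2

theorem goodH_of_nilpotent [Finite G] [Group.IsNilpotent G] (n : ℕ) : GoodH n G := by
  classical
  obtain ⟨a, b, hab, hcop, ha, hb⟩ :=
    exists_split (Nat.card G) Nat.card_pos.ne' (fun q => n + 1 < q)
  obtain ⟨A, B, -, -, hAa, -, hAidx, -⟩ := exists_hall_decomp (E := G) a b hcop
    (by rw [hab]; exact Nat.card_pos.ne') (by rw [hab])
  refine ⟨A, fun q hq hd => ha q hq (dvd_trans hd hAa), fun q hq hd => ?_⟩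
  have := hb q hq (dvd_trans hd hAidx)
  omega

theorem goodH_of_central_abelian_quot [Finite G] (n : ℕ) (K : Subgroup G) [K.Normal]
    (hKZ : K ≤ Subgroup.center G) (hab : ∀ a b : G ⧸ K, a * b = b * a) : GoodH n G := by
  letI : CommGroup (G ⧸ K) := { (inferInstance : Group (G ⧸ K)) with mul_comm := hab }
  haveI : Group.IsNilpotent (G ⧸ K) := CommGroup.isNilpotent
  haveI : Group.IsNilpotent G := Subgroup.isNilpotent_of_ker_le_center (QuotientGroup.mk' K)
    (by rw [QuotientGroup.ker_mk']; exact hKZ)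
  exact goodH_of_nilpotent n

end

end Cfsg.Agent.Lib.Lead.Bli
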