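import Mathlib
import Cfsg.Prelude.Def_Blocks
import Cfsg.Agent.Lib.Lead.Bli2
import Cfsg.Agent.Lib.Helper1.NilpotentHall

/-! Blichfeldt, part 3: the induction. -/

set_option autoImplicit false
open Cfsg
open Cfsg.Agent.Lib.Helper6
open scoped ComplexConjugate
open Pointwise

namespace Cfsg.Agent.Lib.Lead.Bli

universe u

section
variable {G : Type*} [Group G]

/-- if `x` (of big prime order) commutes with a non-central `y` of big prime order `r`, then
`C(x)` contains a Sylow `r`-subgroup of `G` -/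
theorem sylow_in_centralizer [Finite G] {n : ℕ} {χ : G → ℂ} (hχ : IsCharacter G χ) (hf : Faith χ)
    (hdeg : charDegree χ ≤ n)
    (IH : ∀ H : Subgroup G, H ≠ ⊤ → GoodH n H)
    (x y : G) (p r : ℕ) (hp : p.Prime) (hr : r.Prime) (hpb : n + 1 < p) (hrb : n + 1 < r)
    (hx : orderOf x = p) (hy : orderOf y = r) (hxy : x * y = y * x)
    (hyc : y ∉ Subgroup.center G) :
    ¬ r ∣ (Subgroup.centralizer ({x} : Set G)).index := by
  classical
  haveI : Fact p.Prime := ⟨hp⟩
  haveI : Fact r.Prime := ⟨hr⟩
  obtain ⟨C, hC⟩ : ∃ C : Subgroup G, C = Subgroup.centralizer ({y} : Set G) := ⟨_, rfl⟩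
  have hCmem : ∀ g : G, g ∈ C ↔ g * y = y * g := by
    intro g; rw [hC]; exact Subgroup.mem_centralizer_singleton_iff
  have hCtop : C ≠ ⊤ := by
    intro h
    rw [hC, Subgroup.centralizer_eq_top_iff_subset] at h
    exact hyc (h (Set.mem_singleton y))
  obtain ⟨H, hH1, hH2⟩ := IH C hCtop
  have hbigab : ∀ A : Subgroup G, (∀ q : ℕ, q.Prime → q ∣ Nat.card A → n + 1 < q) →
      ∀ a ∈ A, ∀ b ∈ A, a * b = b * a :=
    fun A hA => comm_of_big hχ hf hdeg A (fun q hq hd => by have := hA q hq hd; omega)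
  have hHab : ∀ a b : H, a * b = b * a := by
    intro a b
    have h1 := hbigab (H.map C.subtype) (by
      intro q hq hd
      rw [Subgroup.card_map_of_injective C.subtype_injective] at hd
      exact hH1 q hq hd) ((a : C) : G) (Subgroup.mem_map_of_mem C.subtype a.2)
        ((b : C) : G) (Subgroup.mem_map_of_mem C.subtype b.2)
    apply Subtype.ext; apply Subtype.ext
    simpa using h1
  letI : CommGroup H := { (inferInstance : Group H) with mul_comm := hHab }
  have hHnil : Group.IsNilpotent H := CommGroup.isNilpotent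
  have hcopH : (Nat.card H).Coprime H.index := Nat.coprime_of_dvd (fun q hq h1 h2 => by
    have := hH1 q hq h1; have := hH2 q hq h2; omega)
  have hxC : x ∈ C := (hCmem x).2 hxy
  obtain ⟨K, hKdef⟩ : ∃ K : Subgroup C, K = Subgroup.zpowers (⟨x, hxC⟩ : C) := ⟨_, rfl⟩
  have hKcard : Nat.card K = p := by
    rw [hKdef, Nat.card_zpowers, ← Subgroup.orderOf_coe]
    exact hx
  have hpC : p ∣ Nat.card C := by
    rw [← hKcard]; exact Subgroup.card_subgroup_dvd_card K
  have hpH : p ∣ Nat.card H := by
    rw [← Subgroup.card_mul_index H] at hpC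
    rcases (Nat.Prime.dvd_mul hp).1 hpC with h | h
    · exact h
    · have := hH2 p hp h; omega
  have hK : ∀ q : ℕ, q.Prime → q ∣ Nat.card K → q ∣ Nat.card H := by
    intro q hq hd
    rw [hKcard] at hd
    rw [(Nat.prime_dvd_prime_iff_eq hq hp).1 hd]
    exact hpH
  obtain ⟨c, hc⟩ := Cfsg.Agent.Lib.Helper1.nilpotent_hall_dominance H K hHnil hcopH hK
  obtain ⟨H1, hH1def⟩ : ∃ H1 : Subgroup C, H1 = MulAut.conj c • H := ⟨_, rfl⟩
  have hcard1 : Nat.card H1 = Nat.card H := by
    rw [hH1def]
    exact (Nat.card_congr (Subgroup.equivSMul (MulAut.conj c) H).toEquiv).symm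
  obtain ⟨H2, hH2def⟩ : ∃ H2 : Subgroup G, H2 = H1.map C.subtype := ⟨_, rfl⟩
  have hcard2 : Nat.card H2 = Nat.card H := by
    rw [hH2def, Subgroup.card_map_of_injective C.subtype_injective, hcard1]
  have hxH2 : x ∈ H2 := by
    rw [hH2def]
    refine Subgroup.mem_map.2 ⟨⟨x, hxC⟩, ?_, rfl⟩
    rw [hH1def]
    apply hc
    rw [hKdef]
    exact Subgroup.mem_zpowers _
  have hH2ab := hbigab H2 (by
    intro q hq hd
    rw [hcard2] at hd
    exact hH1 q hq hd)
  have hH2le : H2 ≤ Subgroup.centralizer ({x} : Set G) := by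
    intro h hh
    rw [Subgroup.mem_centralizer_singleton_iff]
    exact hH2ab h hh x hxH2
  -- a Sylow `r`-subgroup of `G` inside `C`
  have hyP : IsPGroup r (Subgroup.zpowers y) :=
    IsPGroup.of_card (n := 1) (by rw [Nat.card_zpowers, hy, pow_one])
  obtain ⟨S, hS⟩ := hyP.exists_le_sylow
  have hScard := Sylow.card_eq_multiplicity S
  have hSab := hbigab (S : Subgroup G) (by
    intro q hq hd
    rw [hScard] at hd
    have h1 := Nat.Prime.dvd_of_dvd_pow hq hd
    rw [(Nat.prime_dvd_prime_iff_eq hq hr).1 h1]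
    exact hrb)
  have hSC : (S : Subgroup G) ≤ C := by
    intro s hs
    rw [hCmem]
    exact hSab s hs y (hS (Subgroup.mem_zpowers y))
  have hrC : r ^ (Nat.card G).factorization r ∣ Nat.card C := by
    rw [← hScard]; exact Subgroup.card_dvd_of_le hSC
  have hrH : r ^ (Nat.card G).factorization r ∣ Nat.card H := by
    rw [← Subgroup.card_mul_index H] at hrC
    refine Nat.Coprime.dvd_of_dvd_mul_right (Nat.Coprime.pow_left _
      ((Nat.Prime.coprime_iff_not_dvd hr).2 (fun hd => ?_))) hrC
    have := hH2 r hr hd; omega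
  intro hdiv
  have h1 : r ^ (Nat.card G).factorization r ∣ Nat.card (Subgroup.centralizer ({x} : Set G)) := by
    rw [← hcard2] at hrH
    exact dvd_trans hrH (Subgroup.card_dvd_of_le hH2le)
  have h2 : r ^ ((Nat.card G).factorization r + 1) ∣ Nat.card G := by
    have h3 := Nat.mul_dvd_mul h1 hdiv
    rw [Subgroup.card_mul_index] at h3
    rw [pow_succ]
    exact h3
  exact Nat.pow_succ_factorization_not_dvd Nat.card_pos.ne' hr h2

/-- the irreducible case of the induction step -/
theorem goodH_irr [Finite G] {n : ℕ} {χ : G → ℂ} (hχ : IsIrrCharacter G χ) (hf : Faith χ)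
    (hdeg : charDegree χ ≤ n)
    (IHsub : ∀ H : Subgroup G, H ≠ ⊤ → GoodH n H)
    (IHquot : ∀ (K : Subgroup G) [K.Normal], K ≠ ⊥ → ∀ β : G ⧸ K → ℂ, IsCharacter (G ⧸ K) β →
      Faith β → charDegree β ≤ n → GoodH n (G ⧸ K)) : GoodH n G := by
  classical
  have hχc := IsIrrCharacter.isCharacter hχ
  by_cases hNC : ∃ z ∈ Subgroup.center G, ∃ p : ℕ, p.Prime ∧ n + 1 < p ∧ orderOf z = p
  · obtain ⟨z, hz, p, hp, hpb, hzo⟩ := hNC
    obtain ⟨K, hKn, β, hK0, hKZ, hβ, hβf, hβd⟩ :=
      exists_central_quot hχ hf p hp (by omega) z hz hzo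
    haveI := hKn
    have hβc := IsIrrCharacter.isCharacter hβ
    obtain ⟨A', hA1, hA2⟩ := IHquot K hK0 β hβc hβf (by rw [hβd]; exact hdeg)
    by_cases htop : A'.comap (QuotientGroup.mk' K) = ⊤
    · have hAtop : A' = ⊤ := by
        apply Subgroup.comap_injective (QuotientGroup.mk'_surjective K)
        rw [htop, Subgroup.comap_top]
      have hab : ∀ a b : G ⧸ K, a * b = b * a := by
        intro a b
        exact comm_of_big (n := n) hβc hβf (by rw [hβd]; exact hdeg) (⊤ : Subgroup (G ⧸ K)) (by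
          intro q hq hd
          have := hA1 q hq (by rw [hAtop]; exact hd)
          omega) a (Subgroup.mem_top a) b (Subgroup.mem_top b)
      exact goodH_of_central_abelian_quot n K hKZ hab
    · apply goodH_of_subgroup (A'.comap (QuotientGroup.mk' K)) _ (IHsub _ htop)
      intro q hq hd
      rw [Subgroup.index_comap_of_surjective _ (QuotientGroup.mk'_surjective K)] at hd
      exact hA2 q hq hd
  · by_cases hbig : ∃ p : ℕ, p.Prime ∧ n + 1 < p ∧ p ∣ Nat.card G
    · obtain ⟨p, hp, hpb, hpG⟩ := hbig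
      haveI : Fact p.Prime := ⟨hp⟩
      obtain ⟨x, hx⟩ := exists_prime_orderOf_dvd_card' p hpG
      have hnc : ∀ (w : G) (q : ℕ), q.Prime → n + 1 < q → orderOf w = q →
          w ∉ Subgroup.center G :=
        fun w q hq hqb hw hwc => hNC ⟨w, hwc, q, hq, hqb, hw⟩
      have hxc := hnc x p hp hpb hx
      have hCtop : Subgroup.centralizer ({x} : Set G) ≠ ⊤ := by
        intro h
        rw [Subgroup.centralizer_eq_top_iff_subset] at h
        exact hxc (h (Set.mem_singleton x))
      apply goodH_of_subgroup _ _ (IHsub _ hCtop)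
      intro r hr hrd
      by_contra hrb'
      have hrb : n + 1 < r := by omega
      have hrG : r ∣ Nat.card G := dvd_trans hrd (Subgroup.index_dvd_card _)
      have key : ∃ y : G, orderOf y = r ∧ x * y = y * x := by
        by_cases hpr : r = p
        · exact ⟨x, by rw [hx, hpr], rfl⟩
        · obtain ⟨g, hgp, hgr⟩ := exists_order_mul hχ hf p r hp hr (by omega) (by omega) hpG hrG
          have hg0 : orderOf g ≠ 0 := (orderOf_pos g).ne'
          obtain ⟨x', hx'def⟩ : ∃ x' : G, x' = g ^ (orderOf g / p) := ⟨_, rfl⟩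
          obtain ⟨y', hy'def⟩ : ∃ y' : G, y' = g ^ (orderOf g / r) := ⟨_, rfl⟩
          have hx' : orderOf x' = p := by rw [hx'def]; exact orderOf_pow_orderOf_div hg0 hgp
          have hy' : orderOf y' = r := by rw [hy'def]; exact orderOf_pow_orderOf_div hg0 hgr
          have hcomm : y' * x' = x' * y' := by
            rw [hx'def, hy'def, ← pow_add, ← pow_add, add_comm]
          have hnp := sylow_in_centralizer hχc hf hdeg IHsub y' x' r p hr hp hrb hpb hy' hx' hcomm
            (hnc x' p hp hpb hx')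
          have hpv : p ^ (Nat.card G).factorization p
              ∣ Nat.card (Subgroup.centralizer ({y'} : Set G)) := by
            have h1 : p ^ (Nat.card G).factorization p
                ∣ Nat.card (Subgroup.centralizer ({y'} : Set G))
                  * (Subgroup.centralizer ({y'} : Set G)).index := by
              rw [Subgroup.card_mul_index]; exact Nat.ordProj_dvd _ _
            exact Nat.Coprime.dvd_of_dvd_mul_right (Nat.Coprime.pow_left _
              ((Nat.Prime.coprime_iff_not_dvd hp).2 hnp)) h1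
          obtain ⟨Q0, hQ0⟩ := Sylow.exists_subgroup_card_pow_prime p hpv
          have hQcard : Nat.card (Q0.map (Subgroup.centralizer ({y'} : Set G)).subtype)
              = p ^ (Nat.card G).factorization p := by
            rw [Subgroup.card_map_of_injective (Subgroup.subtype_injective _), hQ0]
          obtain ⟨Qs, hQs⟩ : ∃ Qs : Sylow p G,
              (Qs : Subgroup G) = Q0.map (Subgroup.centralizer ({y'} : Set G)).subtype :=
            ⟨Sylow.ofCard _ hQcard, Sylow.coe_ofCard _ hQcard⟩
          have hxP : IsPGroup p (Subgroup.zpowers x) :=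
            IsPGroup.of_card (n := 1) (by rw [Nat.card_zpowers, hx, pow_one])
          obtain ⟨P, hP⟩ := hxP.exists_le_sylow
          obtain ⟨h, hh⟩ := MulAction.exists_smul_eq G P Qs
          have hmem : h * x * h⁻¹ ∈ (Qs : Subgroup G) := by
            rw [← hh, Sylow.coe_subgroup_smul]
            have := Subgroup.smul_mem_pointwise_smul x (MulAut.conj h) (P : Subgroup G)
              (hP (Subgroup.mem_zpowers x))
            rw [MulAut.smul_def, MulAut.conj_apply] at this
            exact this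
          rw [hQs] at hmem
          obtain ⟨q0, -, hq0⟩ := Subgroup.mem_map.1 hmem
          have hcent : h * x * h⁻¹ ∈ Subgroup.centralizer ({y'} : Set G) := by
            rw [← hq0]; exact q0.2
          rw [Subgroup.mem_centralizer_singleton_iff] at hcent
          refine ⟨h⁻¹ * y' * h, ?_, ?_⟩
          · have h1 : h⁻¹ * y' * h = MulAut.conj h⁻¹ y' := by
              rw [MulAut.conj_apply, inv_inv]
            rw [h1, MulEquiv.orderOf_eq, hy']
          · calc x * (h⁻¹ * y' * h) = h⁻¹ * ((h * x * h⁻¹) * y') * h := by group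
              _ = h⁻¹ * (y' * (h * x * h⁻¹)) * h := by rw [hcent]
              _ = h⁻¹ * y' * h * x := by group
      obtain ⟨y, hy, hxy⟩ := key
      exact sylow_in_centralizer hχc hf hdeg IHsub x y p r hp hr hpb hrb hx hy hxy
        (hnc y r hr hrb hy) hrd
    · refine ⟨⊥, fun q hq hd => ?_, fun q hq hd => ?_⟩
      · rw [Subgroup.card_bot] at hd
        exact absurd (Nat.dvd_one.1 hd) hq.ne_one
      · rw [Subgroup.index_bot] at hd
        by_contra hlt
        exact hbig ⟨q, hq, by omega, hd⟩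

end

theorem main_aux (n : ℕ) : ∀ (N : ℕ) (G : Type u) [Group G] [Finite G], Nat.card G = N →
    ∀ χ : G → ℂ, IsCharacter G χ → Faith χ → charDegree χ ≤ n → GoodH n G := by
  intro N
  induction N using Nat.strong_induction_on with
  | _ N ih =>
  intro G _ _ hcard χ hχ hf hdeg
  classical
  haveI : Fintype (IrrCharacter G) := Fintype.ofFinite _
  have IHsub : ∀ H : Subgroup G, H ≠ ⊤ → GoodH n H := by
    intro H hH
    have hlt : Nat.card H < N := by
      rw [← hcard]
      rcases lt_or_eq_of_le (Subgroup.card_le_card_group H) with h | h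
      · exact h
      · exact absurd (Subgroup.eq_top_of_card_eq H h) hH
    apply ih (Nat.card H) hlt H rfl (fun h : H => χ h) (IsCharacter.restrict H hχ)
    · intro h hh
      have h1 : χ (h : G) = χ 1 := by simpa using hh
      exact Subtype.ext (hf _ h1)
    · have h1 : charDegree (fun h : H => χ h) = charDegree χ := by
        unfold charDegree; simp
      rw [h1]; exact hdeg
  have IHquot : ∀ (K : Subgroup G) [K.Normal], K ≠ ⊥ → ∀ β : G ⧸ K → ℂ,
      IsCharacter (G ⧸ K) β → Faith β → charDegree β ≤ n → GoodH n (G ⧸ K) := by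
    intro K _ hK β hβ hβf hβd
    have hlt : Nat.card (G ⧸ K) < N := by
      rw [← hcard, ← Subgroup.index_eq_card, ← Subgroup.card_mul_index K]
      have h1 : 1 < Nat.card K := (Subgroup.one_lt_card_iff_ne_bot K).2 hK
      have h2 : 0 < K.index := Nat.pos_of_ne_zero Subgroup.index_ne_zero_of_finite
      nlinarith
    exact ih _ hlt (G ⧸ K) rfl β hβ hβf hβd
  obtain ⟨m, hm⟩ := IsCharacter.eq_sum_irr hχ
  have hval : ∀ g : G, χ g = ∑ ψ : IrrCharacter G, (m ψ : ℂ) * (ψ : G → ℂ) g := by
    intro g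
    have := congrFun hm g
    simp only [Finset.sum_apply, Pi.smul_apply, nsmul_eq_mul] at this
    exact this
  have hdegψ : ∀ ψ : IrrCharacter G, m ψ ≠ 0 → charDegree (ψ : G → ℂ) ≤ n := by
    intro ψ hψ
    refine le_trans ?_ hdeg
    have h2 := hval 1
    rw [IsCharacter.apply_one_eq_charDegree hχ] at h2
    have h3 : ∀ ψ' : IrrCharacter G, (m ψ' : ℂ) * (ψ' : G → ℂ) 1
        = ((m ψ' * charDegree (ψ' : G → ℂ) : ℕ) : ℂ) := by
      intro ψ'
      rw [IsCharacter.apply_one_eq_charDegree (IsIrrCharacter.isCharacter ψ'.2)]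
      push_cast; ring
    rw [Finset.sum_congr rfl (fun ψ' _ => h3 ψ'), ← Nat.cast_sum] at h2
    have h4 : charDegree χ = ∑ ψ' : IrrCharacter G, m ψ' * charDegree (ψ' : G → ℂ) := by
      exact_mod_cast h2
    rw [h4]
    calc charDegree (ψ : G → ℂ) ≤ m ψ * charDegree (ψ : G → ℂ) :=
          Nat.le_mul_of_pos_left _ (Nat.pos_of_ne_zero hψ)
      _ ≤ _ := Finset.single_le_sum
          (f := fun ψ' : IrrCharacter G => m ψ' * charDegree (ψ' : G → ℂ))
          (fun _ _ => Nat.zero_le _) (Finset.mem_univ ψ)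
  by_contra hG
  have hstep : ∀ ψ : IrrCharacter G, m ψ ≠ 0 → ∀ g : G, ∀ q : ℕ, q.Prime → orderOf g = q →
      (ψ : G → ℂ) g ≠ (ψ : G → ℂ) 1 → n + 1 < q := by
    intro ψ hψ g q hq hgq hne
    by_cases hfψ : Faith (ψ : G → ℂ)
    · exact absurd (goodH_irr ψ.2 hfψ (hdegψ ψ hψ) IHsub IHquot) hG
    · obtain ⟨K, hKn, β, hK, hβ, hχβ, -, hdeg'⟩ :=
        Cfsg.Agent.Lib.Helper3.CharQuot.exists_kernel_deflation ψ.2
      haveI := hKn
      have hK0 : K ≠ ⊥ := by
        intro h
        apply hfψ
        intro w hw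
        have h1 : w ∈ K := (hK w).2 hw
        rw [h, Subgroup.mem_bot] at h1
        exact h1
      have hβf : Faith β := by
        intro q' hq'
        obtain ⟨w, rfl⟩ := QuotientGroup.mk_surjective q'
        have h2 : (ψ : G → ℂ) w = (ψ : G → ℂ) 1 := by
          rw [hχβ]; exact hq'
        exact (QuotientGroup.eq_one_iff w).2 ((hK w).2 h2)
      obtain ⟨A', hA1, hA2⟩ := IHquot K hK0 β (IsIrrCharacter.isCharacter hβ) hβf
        (by rw [← hdeg']; exact hdegψ ψ hψ)
      by_cases htop : A'.comap (QuotientGroup.mk' K) = ⊤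
      · have hAtop : A' = ⊤ := by
          apply Subgroup.comap_injective (QuotientGroup.mk'_surjective K)
          rw [htop, Subgroup.comap_top]
        haveI : Fact q.Prime := ⟨hq⟩
        have hgK : g ∉ K := fun h => hne ((hK g).1 h)
        have ho : orderOf (QuotientGroup.mk g : G ⧸ K) = q := by
          apply orderOf_eq_prime
          · rw [← QuotientGroup.mk_pow, ← hgq, pow_orderOf_eq_one]; rfl
          · intro h; exact hgK ((QuotientGroup.eq_one_iff g).1 h)
        have hd : q ∣ Nat.card (⊤ : Subgroup (G ⧸ K)) := by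
          rw [Subgroup.card_top, ← ho]; exact orderOf_dvd_natCard _
        exact hA1 q hq (by rw [hAtop]; exact hd)
      · exfalso; apply hG
        apply goodH_of_subgroup (A'.comap (QuotientGroup.mk' K)) _ (IHsub _ htop)
        intro q' hq' hd
        rw [Subgroup.index_comap_of_surjective _ (QuotientGroup.mk'_surjective K)] at hd
        exact hA2 q' hq' hd
  apply hG
  refine ⟨⊤, fun q hq hd => ?_, fun q hq hd => ?_⟩
  · rw [Subgroup.card_top] at hd
    haveI : Fact q.Prime := ⟨hq⟩
    obtain ⟨g, hg⟩ := exists_prime_orderOf_dvd_card' q hd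
    have hg1 : g ≠ 1 := by
      intro h; rw [h, orderOf_one] at hg; exact hq.ne_one hg.symm
    have hne : χ g ≠ χ 1 := fun h => hg1 (hf g h)
    have hex : ∃ ψ : IrrCharacter G, m ψ ≠ 0 ∧ (ψ : G → ℂ) g ≠ (ψ : G → ℂ) 1 := by
      by_contra hcon
      apply hne
      rw [hval g, hval 1]
      apply Finset.sum_congr rfl
      intro ψ _
      by_cases h0 : m ψ = 0
      · rw [h0]; simp
      · have : (ψ : G → ℂ) g = (ψ : G → ℂ) 1 := by
          by_contra h1
          exact hcon ⟨ψ, h0, h1⟩
        rw [this]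
    obtain ⟨ψ, hψ, hψne⟩ := hex
    exact hstep ψ hψ g q hq hg hψne
  · rw [Subgroup.index_top] at hd
    exact absurd (Nat.dvd_one.1 hd) hq.ne_one

/-- Blichfeldt: a linear group of degree `n` has an abelian Hall subgroup for the primes `> n + 1` -/
theorem blichfeldt {G : Type u} [Group G] [Finite G] (χ : G → ℂ) (hχ : IsCharacter G χ)
    (hf : ∀ g : G, χ g = χ 1 → g = 1) (n : ℕ) (hn : charDegree χ = n) :
    ∃ A : Subgroup G, (∀ x ∈ A, ∀ y ∈ A, x * y = y * x) ∧
      (∀ q : ℕ, q.Prime → q ∣ Nat.card A → n + 1 < q) ∧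
      ∀ q : ℕ, q.Prime → q ∣ A.index → q ≤ n + 1 := by
  obtain ⟨A, hA1, hA2⟩ := main_aux n (Nat.card G) G rfl χ hχ hf (le_of_eq hn)
  exact ⟨A, comm_of_big hχ hf (le_of_eq hn) A (fun q hq hd => by have := hA1 q hq hd; omega),
    hA1, hA2⟩

end Cfsg.Agent.Lib.Lead.Bli
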