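import Mathlib

namespace Cfsg.Agent.Lib.Lead.RegularNormal

open MulAction
open scoped Pointwise

/-- In a primitive action, an equivariant involution is either trivial at `y` or the whole set
is `{y, ι y}`. -/
theorem involution_block {H Y : Type*} [Group H] [MulAction H Y] [IsPreprimitive H Y]
    (ι : Y → Y) (hι : ∀ (h : H) (y : Y), ι (h • y) = h • ι y) (hinv : ∀ y, ι (ι y) = y) (y : Y) :
    ι y = y ∨ ∀ z, z = y ∨ z = ι y := by
  have hpair : ∀ z w : Y, z ∈ ({w, ι w} : Set Y) → ({z, ι z} : Set Y) = {w, ι w} := by
    intro z w hz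
    rcases hz with rfl | hz
    · rfl
    · rw [Set.mem_singleton_iff] at hz
      rw [hz, hinv, Set.pair_comm]
  have hsmul : ∀ h : H, h • ({y, ι y} : Set Y) = {h • y, ι (h • y)} := by
    intro h
    rw [hι, Set.smul_set_insert, Set.smul_set_singleton]
  have hB : IsBlock H ({y, ι y} : Set Y) := by
    rw [isBlock_iff_smul_eq_or_disjoint]
    intro h
    by_cases hd : Disjoint (h • ({y, ι y} : Set Y)) {y, ι y}
    · exact Or.inr hd
    · left
      rw [Set.not_disjoint_iff] at hd
      obtain ⟨z, hz1, hz2⟩ := hd
      rw [hsmul] at hz1 ⊢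
      rw [← hpair z _ hz1, hpair z _ hz2]
  rcases hB.subsingleton_or_eq_univ with hs | hu
  · left
    exact hs (Set.mem_insert_of_mem _ rfl) (Set.mem_insert _ _)
  · right
    intro z
    have : z ∈ ({y, ι y} : Set Y) := by rw [hu]; exact Set.mem_univ z
    exact this

section Regular

variable {G X : Type*} [Group G] [MulAction G X] (N : Subgroup G)
  (htrans : IsPretransitive N X) (hreg : ∀ x : X, stabilizer N x = ⊥)

include hreg in
theorem eq_of_smul_eq (x : X) {n n' : N} (h : n • x = n' • x) : n = n' := by
  have : n'⁻¹ * n ∈ stabilizer N x := by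
    rw [mem_stabilizer_iff, mul_smul, h, inv_smul_smul]
  rw [hreg x, Subgroup.mem_bot] at this
  exact (inv_mul_eq_one.mp this).symm

/-- The unique element of `N` taking `x` to `y`. -/
noncomputable def nu (x y : X) : N := (htrans.exists_smul_eq x y).choose

theorem nu_spec (x y : X) : (nu N htrans x y) • x = y := (htrans.exists_smul_eq x y).choose_spec

include hreg in
theorem nu_unique (x y : X) (n : N) (h : n • x = y) : n = nu N htrans x y :=
  eq_of_smul_eq N hreg x (h.trans (nu_spec N htrans x y).symm)

include hreg in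
theorem nu_self (x : X) : nu N htrans x x = 1 :=
  (nu_unique N htrans hreg x x 1 (one_smul _ _)).symm

include hreg in
theorem nu_conj [N.Normal] (x y : X) (h : G) (hx : h • x = x) :
    ((nu N htrans x (h • y) : N) : G) = h * (nu N htrans x y : G) * h⁻¹ := by
  have hmem : h * (nu N htrans x y : G) * h⁻¹ ∈ N :=
    ‹N.Normal›.conj_mem _ (nu N htrans x y).2 h
  have : (⟨_, hmem⟩ : N) = nu N htrans x (h • y) := by
    apply nu_unique N htrans hreg
    show (h * (nu N htrans x y : G) * h⁻¹) • x = h • y
    rw [mul_smul, mul_smul]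
    have hx' : h⁻¹ • x = x := by rw [inv_smul_eq_iff, hx]
    rw [hx']
    have := nu_spec N htrans x y
    have h2 : ((nu N htrans x y : N) : G) • x = y := this
    rw [h2]
  rw [← this]

include hreg htrans in
theorem card_eq [Finite X] (x : X) : Nat.card X = Nat.card N := by
  symm
  refine Nat.card_congr (Equiv.ofBijective (fun n : N => n • x) ⟨?_, ?_⟩)
  · intro n n' h
    exact eq_of_smul_eq N hreg x h
  · intro y
    exact ⟨nu N htrans x y, nu_spec N htrans x y⟩

end Regular

end Cfsg.Agent.Lib.Lead.RegularNormal
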