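import Mathlib
import Cfsg.Agent.Lib.Lead.JordanNormal
import Cfsg.Agent.Lib.Lead.RegularNormal

set_option autoImplicit false

namespace Cfsg.Agent.Lib.Lead.KPrimNormal

open MulAction SubMulAction
open Cfsg.Agent.Lib.Lead.JordanNormal
open Cfsg.Agent.Lib.Lead.RegularNormal

universe u v

section Basic

variable {G : Type u} {α : Type v} [Group G] [MulAction G α]

/-- A faithful `(n-1)`-transitive group of degree `n` has order `n!`. -/
theorem card_eq_factorial [FaithfulSMul G α] [Finite α] {k : ℕ}
    (hk : IsMultiplyPretransitive G α k) (hkn : k ≤ Nat.card α) (hk1 : Nat.card α - 1 ≤ k) :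
    Nat.card G = (Nat.card α).factorial := by
  have hinj : Function.Injective (MulAction.toPerm : G → Equiv.Perm α) := toPerm_injective
  haveI : Finite G := Finite.of_injective _ hinj
  have hle : Nat.card G ≤ (Nat.card α).factorial := by
    rw [← Nat.card_perm]
    exact Nat.card_le_card_of_injective _ hinj
  have hj : IsMultiplyPretransitive G α (Nat.card α - 1) :=
    MulAction.isMultiplyPretransitive_of_le (n := k) hk1 hkn
  obtain ⟨s, -, hs⟩ := Set.exists_subset_card_eq (s := (Set.univ : Set α))
    (n := Nat.card α - 1) (by rw [Set.ncard_univ]; omega)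
  have h1 := hj.index_of_fixingSubgroup_mul hs
  have h2 : (Nat.card α - (Nat.card α - 1)).factorial = 1 := by
    have : Nat.card α - (Nat.card α - 1) ≤ 1 := by omega
    interval_cases (Nat.card α - (Nat.card α - 1)) <;> rfl
  rw [h2, mul_one] at h1
  have h3 := Subgroup.index_dvd_card (fixingSubgroup G s)
  rw [h1] at h3
  exact le_antisymm hle (Nat.le_of_dvd Nat.card_pos h3)

/-- A nontrivial normal subgroup of a faithful primitive group is transitive. -/
theorem prim_normal_transitive [FaithfulSMul G α] (hG : IsPreprimitive G α)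
    (N : Subgroup G) [N.Normal] (hN : ∃ n ∈ N, n ≠ 1) : IsPretransitive N α := by
  apply IsQuasiPreprimitive.isPretransitive_of_normal (G := G)
  obtain ⟨n, hn, hn1⟩ := hN
  have : ∃ x : α, n • x ≠ x := by
    by_contra hcon
    push Not at hcon
    apply hn1
    apply FaithfulSMul.eq_of_smul_eq_smul (α := α)
    intro a
    rw [hcon a, one_smul]
  obtain ⟨x, hx⟩ := this
  intro h
  have : x ∈ fixedPoints N α := by rw [h]; exact Set.mem_univ x
  exact hx (this ⟨n, hn⟩)

/-- Lemma R: a regular normal subgroup of a `2`-primitive group has exponent two,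
unless the degree is three. -/
theorem regular_two_primitive [Finite α]
    (h2 : IsMultiplyPreprimitive G α 2) (M : Subgroup G) [hMn : M.Normal]
    (htr : IsPretransitive M α) (hreg : ∀ x : α, stabilizer M x = ⊥) (b : α) :
    (∀ m ∈ M, m ^ 2 = 1) ∨ Nat.card α = 3 := by
  classical
  have hG1 : IsPretransitive G α := by
    constructor
    intro x y
    obtain ⟨m, hm⟩ := htr.exists_smul_eq x y
    exact ⟨m.1, hm⟩
  have hprim : IsPreprimitive (stabilizer G b) (ofStabilizer G b) := by
    rw [← is_one_preprimitive_iff]
    exact isMultiplyPreprimitive_ofStabilizer G α (n := 1)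
  have hregG : ∀ m ∈ M, m • b = b → m = 1 := by
    intro m hm hmb
    have : (⟨m, hm⟩ : M) ∈ stabilizer M b := by
      rw [mem_stabilizer_iff]; exact hmb
    rw [hreg b, Subgroup.mem_bot] at this
    exact congrArg Subtype.val this
  have hnu : ∀ y : α, ((nu M htr b y : M) : G) • b = y := fun y => nu_spec M htr b y
  let ι : ofStabilizer G b → ofStabilizer G b := fun y =>
    ⟨((nu M htr b y.1 : M) : G)⁻¹ • b, by
      rw [mem_ofStabilizer_iff]
      intro h
      rw [inv_smul_eq_iff] at h
      have h1 := hnu y.1
      rw [← h] at h1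
      exact (mem_ofStabilizer_iff G b).mp y.2 h1.symm⟩
  have hι : ∀ (h : stabilizer G b) (y : ofStabilizer G b), ι (h • y) = h • ι y := by
    intro h y
    apply Subtype.ext
    show ((nu M htr b (h • y).1 : M) : G)⁻¹ • b = (h : G) • (((nu M htr b y.1 : M) : G)⁻¹ • b)
    have h1 : (h • y).1 = (h : G) • y.1 := rfl
    rw [h1, nu_conj M htr hreg b y.1 (h : G) h.2]
    have hb' : (h : G)⁻¹ • b = b := by rw [inv_smul_eq_iff]; exact h.2.symm
    rw [mul_inv_rev, mul_inv_rev, inv_inv, mul_smul, mul_smul, hb']
  have hinv : ∀ y, ι (ι y) = y := by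
    intro y
    apply Subtype.ext
    show ((nu M htr b (ι y).1 : M) : G)⁻¹ • b = y.1
    have h1 : (nu M htr b y.1)⁻¹ = nu M htr b (ι y).1 := by
      apply nu_unique M htr hreg
      rfl
    rw [← h1]
    show (((nu M htr b y.1 : M) : G)⁻¹)⁻¹ • b = y.1
    rw [inv_inv, hnu]
  by_cases hall : ∀ y : ofStabilizer G b, ι y = y
  · left
    intro m hm
    by_cases hmb : m • b = b
    · rw [hregG m hm hmb, one_pow]
    · have h1 : (⟨m, hm⟩ : M) = nu M htr b (m • b) := nu_unique M htr hreg b (m • b) ⟨m, hm⟩ rfl
      have h2 := hall ⟨m • b, (mem_ofStabilizer_iff G b).mpr hmb⟩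
      have h3 : ((nu M htr b (m • b) : M) : G)⁻¹ • b = m • b := congrArg Subtype.val h2
      rw [← h1] at h3
      apply hregG _ (pow_mem hm 2)
      rw [pow_two, mul_smul, ← h3, smul_inv_smul]
  · right
    push Not at hall
    obtain ⟨y, hy⟩ := hall
    rcases involution_block ι hι hinv y with h | h
    · exact absurd h hy
    · rw [← nat_card_ofStabilizer_add_one_eq G b]
      haveI : Fintype (ofStabilizer G b) := Fintype.ofFinite _
      rw [Nat.card_eq_fintype_card]
      have : (Finset.univ : Finset (ofStabilizer G b)) = {y, ι y} := by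
        ext z
        simp only [Finset.mem_univ, Finset.mem_insert, Finset.mem_singleton, true_iff]
        exact h z
      rw [← Finset.card_univ, this, Finset.card_pair (Ne.symm hy)]

theorem enat_le_card {β : Type*} [Finite β] {k : ℕ} (h : k ≤ Nat.card β) :
    (k : ℕ∞) ≤ ENat.card β := by
  haveI : Fintype β := Fintype.ofFinite β
  rw [ENat.card_eq_coe_fintype_card, Nat.cast_le, ← Nat.card_eq_fintype_card]
  exact h

end Basic

/-- Normal subgroups of `k`-primitive groups (abstract faithful version). -/
theorem kprim_aux : ∀ (k : ℕ), 1 ≤ k → ∀ (G : Type u) (α : Type v) [Group G] [MulAction G α]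
    [FaithfulSMul G α] [Finite α], k ≤ Nat.card α → IsMultiplyPreprimitive G α k →
    Nat.card G ≠ (Nat.card α).factorial →
    ∀ (N : Subgroup G) [N.Normal], (∃ a : α, ∃ n ∈ N, n ≠ 1 ∧ n • a = a) →
    IsMultiplyPretransitive N α k := by
  intro k hk
  induction k, hk using Nat.le_induction with
  | base =>
    intro G α _ _ _ _ hcard hG hne N _ hnr
    rw [is_one_pretransitive_iff]
    obtain ⟨a, n, hn, hn1, -⟩ := hnr
    exact prim_normal_transitive ((is_one_preprimitive_iff G α).mp hG) N ⟨n, hn, hn1⟩
  | succ k hk ih =>
    intro G α _ _ _ _ hcard hG hne N hNn hnr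
    have hGt : IsMultiplyPretransitive G α (k + 1) := hG.isMultiplyPretransitive
    obtain ⟨a, n₀, hn₀, hn₀1, hn₀a⟩ := hnr
    have hN : N ≠ ⊥ := by
      intro h
      rw [h, Subgroup.mem_bot] at hn₀
      exact hn₀1 hn₀
    have hNtr : IsPretransitive N α := normal_transitive hGt (by omega) hcard N hN
    have hG1 : IsPretransitive G α := by
      rw [← is_one_pretransitive_iff]
      exact MulAction.isMultiplyPretransitive_of_le (n := k + 1) (by omega) hcard
    have hGa : IsMultiplyPreprimitive (stabilizer G a) (ofStabilizer G a) k :=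
      isMultiplyPreprimitive_ofStabilizer G α
    have hcard' : k ≤ Nat.card (ofStabilizer G a) := by
      rw [nat_card_ofStabilizer_eq]; omega
    have hne' : Nat.card (stabilizer G a) ≠ (Nat.card (ofStabilizer G a)).factorial := by
      intro h
      apply hne
      rw [← Subgroup.card_mul_index (stabilizer G a), index_stabilizer_of_transitive, h,
        nat_card_ofStabilizer_eq, mul_comm]
      exact Nat.mul_factorial_pred (by omega)
    have hNa1 : ∃ m ∈ N.subgroupOf (stabilizer G a), m ≠ 1 :=
      ⟨⟨n₀, hn₀a⟩, hn₀, fun h => hn₀1 (congrArg Subtype.val h)⟩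
    by_cases hsr : ∃ b : ofStabilizer G a, ∃ m ∈ N.subgroupOf (stabilizer G a), m ≠ 1 ∧ m • b = b
    · exact up N a hNtr (ih (stabilizer G a) (ofStabilizer G a) hcard' hGa hne'
        (N.subgroupOf (stabilizer G a)) hsr)
    · push Not at hsr
      have hGaprim : IsPreprimitive (stabilizer G a) (ofStabilizer G a) := by
        rw [← is_one_preprimitive_iff]
        exact isMultiplyPreprimitive_of_le _ _ hGa hk (enat_le_card hcard')
      have hNatr : IsPretransitive (N.subgroupOf (stabilizer G a)) (ofStabilizer G a) :=
        prim_normal_transitive hGaprim _ hNa1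
      by_cases hk1 : k = 1
      · subst hk1
        apply up N a hNtr
        rw [is_one_pretransitive_iff]; exact hNatr
      · exfalso
        have hk2 : 2 ≤ k := by omega
        have h2p : IsMultiplyPreprimitive (stabilizer G a) (ofStabilizer G a) 2 :=
          isMultiplyPreprimitive_of_le _ _ hGa hk2 (enat_le_card hcard')
        have hregNa : ∀ x : ofStabilizer G a,
            stabilizer (N.subgroupOf (stabilizer G a)) x = ⊥ := by
          intro x
          rw [eq_bot_iff]
          intro m hm
          rw [Subgroup.mem_bot]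
          by_contra hm1
          exact hsr x m.1 m.2 (fun h => hm1 (Subtype.ext h)) hm
        obtain ⟨b⟩ : Nonempty (ofStabilizer G a) := by
          have : 0 < Nat.card (ofStabilizer G a) := by omega
          exact (Nat.card_pos_iff.mp this).1
        rcases regular_two_primitive h2p (N.subgroupOf (stabilizer G a)) hNatr hregNa b
          with hexp | h3
        · by_cases h4 : 4 ≤ Nat.card α
          · exact no_exp_two hGt (by omega) hcard h4 N a ⟨n₀, hn₀, hn₀1, hn₀a⟩
              (fun n hn hna => by
                have := hexp ⟨n, hna⟩ hn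
                exact congrArg Subtype.val this)
          · apply hne
            exact card_eq_factorial hGt hcard (by omega)
        · apply hne
          have : Nat.card α = 4 := by rw [← nat_card_ofStabilizer_add_one_eq G a, h3]
          exact card_eq_factorial hGt hcard (by omega)

end Cfsg.Agent.Lib.Lead.KPrimNormal
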