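import Mathlib
import Cfsg.Agent.Lib.Lead.JordanNormal
import Cfsg.Agent.Lib.Lead.KPrimNormal
import Cfsg.Agent.Lib.Lead.MinNormalPower
import Cfsg.Agent.Lib.Helper1.FrobeniusTheorem

set_option autoImplicit false

namespace Cfsg.Agent.Lib.Lead.BurnsideSocle

open MulAction
open scoped Pointwise
open Cfsg.Agent.Lib.Lead.JordanNormal
open Cfsg.Agent.Lib.Lead.KPrimNormal
open Cfsg.Agent.Lib.Lead.MinNormalPower

universe u v

theorem finite_of_faithful (G : Type u) (α : Type v) [Group G] [MulAction G α]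
    [FaithfulSMul G α] [Finite α] : Finite G :=
  Finite.of_injective _ (toPerm_injective (α := G) (β := α))

section

variable {G : Type u} {α : Type v} [Group G] [MulAction G α] [FaithfulSMul G α] [Finite α]

omit [Finite α] in
theorem orderOf_conj' (g x : G) : orderOf (g * x * g⁻¹) = orderOf x :=
  orderOf_injective (MulAut.conj g).toMonoidHom (MulAut.conj g).injective x


/-- all nonidentity elements of a group have the same order => it is a `p`-group of exponent `p` -/
theorem exp_p_of_same_order {T : Type*} [Group T] [Finite T] [Nontrivial T]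
    (h : ∀ x y : T, x ≠ 1 → y ≠ 1 → orderOf x = orderOf y) :
    ∃ p : ℕ, p.Prime ∧ ∀ x : T, x ^ p = 1 := by
  have h1 : 1 < Nat.card T := Finite.one_lt_card
  obtain ⟨p, hp, hpd⟩ := Nat.exists_prime_and_dvd (by omega : Nat.card T ≠ 1)
  haveI : Fact p.Prime := ⟨hp⟩
  obtain ⟨x₀, hx₀⟩ := exists_prime_orderOf_dvd_card' p hpd
  have hx₀1 : x₀ ≠ 1 := by
    rintro rfl
    rw [orderOf_one] at hx₀
    exact hp.one_lt.ne hx₀
  refine ⟨p, hp, fun x => ?_⟩
  by_cases hx : x = 1
  · rw [hx, one_pow]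
  · rw [← hx₀, h x₀ x hx₀1 hx, pow_orderOf_eq_one]

/-- regular case -/
theorem regular_case (h2 : IsMultiplyPretransitive G α 2) (hcard : 2 ≤ Nat.card α)
    (N : Subgroup G) [hNn : N.Normal] (hN : N ≠ ⊥) (a : α)
    (hreg : ∀ n ∈ N, n • a = a → n = 1) :
    (∀ x ∈ N, ∀ y ∈ N, x * y = y * x) ∧ ∃ p : ℕ, p.Prime ∧ ∀ n ∈ N, n ^ p = 1 := by
  haveI : Finite G := finite_of_faithful G α
  have hconj : ∀ x ∈ N, x ≠ 1 → ∀ y ∈ N, y ≠ 1 → ∃ g : G, g * x * g⁻¹ = y := by
    intro x hx hx1 y hy hy1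
    have hxa : x • a ≠ a := fun h => hx1 (hreg x hx h)
    have hya : y • a ≠ a := fun h => hy1 (hreg y hy h)
    obtain ⟨g, hg1, hg2⟩ := exists_map2 h2 le_rfl hcard (Ne.symm hxa) (Ne.symm hya)
    refine ⟨g, ?_⟩
    have hgi : g⁻¹ • a = a := by rw [inv_smul_eq_iff, hg1]
    have : y⁻¹ * (g * x * g⁻¹) = 1 := by
      apply hreg _ (N.mul_mem (N.inv_mem hy) (hNn.conj_mem x hx g))
      rw [mul_smul, mul_smul, mul_smul, hgi, hg2, inv_smul_smul]
    rw [inv_mul_eq_one] at this
    exact this.symm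
  haveI : Nontrivial N := by
    rw [Subgroup.nontrivial_iff_ne_bot]; exact hN
  have hord : ∀ x y : N, x ≠ 1 → y ≠ 1 → orderOf x = orderOf y := by
    intro x y hx hy
    obtain ⟨g, hg⟩ := hconj x.1 x.2 (fun h => hx (Subtype.ext h)) y.1 y.2
      (fun h => hy (Subtype.ext h))
    rw [← Subgroup.orderOf_coe, ← Subgroup.orderOf_coe, ← hg]
    exact (orderOf_conj' g x.1).symm
  obtain ⟨p, hp, hpow⟩ := exp_p_of_same_order hord
  haveI : Fact p.Prime := ⟨hp⟩
  have hpg : IsPGroup p N := fun x => ⟨1, by rw [pow_one]; exact hpow x⟩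
  haveI := hpg.center_nontrivial
  obtain ⟨⟨z, hz⟩, hz1⟩ := exists_ne (1 : Subgroup.center N)
  have hz1' : (z : G) ≠ 1 := by
    intro h
    apply hz1
    apply Subtype.ext
    apply Subtype.ext
    exact h
  refine ⟨?_, p, hp, fun n hn => congrArg Subtype.val (hpow ⟨n, hn⟩)⟩
  have hcent : ∀ y ∈ N, y ≠ 1 → ∀ w ∈ N, y * w = w * y := by
    intro y hy hy1 w hw
    obtain ⟨g, hg⟩ := hconj z.1 z.2 hz1' y hy hy1
    have hw' : g⁻¹ * w * g ∈ N := by
      have := hNn.conj_mem w hw g⁻¹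
      rwa [inv_inv] at this
    have hzc : z * ⟨g⁻¹ * w * g, hw'⟩ = ⟨g⁻¹ * w * g, hw'⟩ * z :=
      ((Subgroup.mem_center_iff.mp hz) ⟨g⁻¹ * w * g, hw'⟩).symm
    have hzc' : (z : G) * (g⁻¹ * w * g) = (g⁻¹ * w * g) * z := congrArg Subtype.val hzc
    rw [← hg]
    calc g * z * g⁻¹ * w = g * (z * (g⁻¹ * w * g)) * g⁻¹ := by group
      _ = g * ((g⁻¹ * w * g) * z) * g⁻¹ := by rw [hzc']
      _ = w * (g * z * g⁻¹) := by group
  intro x hx y hy
  by_cases hx1 : x = 1
  · rw [hx1, one_mul, mul_one]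
  · exact hcent x hx hx1 y hy

omit [FaithfulSMul G α] [Finite α] in
theorem block_translate (N : Subgroup G) [hNn : N.Normal] {B : Set α} (hB : IsBlock N B)
    (g : G) : IsBlock N (g • B) := by
  rw [isBlock_iff_smul_eq_or_disjoint] at hB ⊢
  intro n
  have hmem : g⁻¹ * n * g ∈ N := by
    have := hNn.conj_mem n.1 n.2 g⁻¹
    rwa [inv_inv] at this
  have key : n • g • B = g • ((⟨g⁻¹ * n * g, hmem⟩ : N) • B) := by
    show (n : G) • g • B = g • ((g⁻¹ * (n : G) * g) • B)
    rw [smul_smul, smul_smul]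
    congr 1
    group
  rcases hB ⟨g⁻¹ * n * g, hmem⟩ with h | h
  · left
    rw [key, h]
  · right
    rw [key]
    exact Set.disjoint_smul_set.mpr h

/-- primitivity in the non-regular case -/
theorem primitive_case (h2 : IsMultiplyPretransitive G α 2) (hcard : 2 ≤ Nat.card α)
    (N : Subgroup G) [hNn : N.Normal] (hN : N ≠ ⊥)
    (hmin : ∀ M : Subgroup G, M.Normal → M ≤ N → M = ⊥ ∨ M = N)
    (a₀ : α) (x₀ : G) (hx₀ : x₀ ∈ N) (hx₀1 : x₀ ≠ 1) (hx₀a : x₀ • a₀ = a₀) :
    IsPreprimitive N α := by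
  classical
  haveI : Finite G := finite_of_faithful G α
  have hNtr : IsPretransitive N α := normal_transitive h2 le_rfl hcard N hN
  by_contra hnp
  have hex : ∃ B : Set α, IsBlock N B ∧ ¬ IsTrivialBlock B := by
    by_contra hcon
    push Not at hcon
    exact hnp ⟨fun {B} hB => hcon B hB⟩
  obtain ⟨B₀, hB₀⟩ := hex
  haveI : Nonempty {B : Set α // IsBlock N B ∧ ¬ IsTrivialBlock B} := ⟨⟨B₀, hB₀⟩⟩
  obtain ⟨⟨B, hBblock, hBnt⟩, hBmin⟩ :=
    Finite.exists_min (fun B : {B : Set α // IsBlock N B ∧ ¬ IsTrivialBlock B} => B.1.ncard)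
  have hBmin' : ∀ B' : Set α, IsBlock N B' → ¬ IsTrivialBlock B' → B.ncard ≤ B'.ncard :=
    fun B' h1 h2 => hBmin ⟨B', h1, h2⟩
  rw [IsTrivialBlock, not_or, Set.not_subsingleton_iff] at hBnt
  obtain ⟨hBnt1, hBuniv⟩ := hBnt
  obtain ⟨u, hu, v, hv, huv⟩ := hBnt1
  have htr_univ : ∀ g : G, g • B ≠ Set.univ := by
    intro g h
    apply hBuniv
    have : B = g⁻¹ • (g • B) := by rw [inv_smul_smul]
    rw [this, h, Set.smul_set_univ]
  -- (L2)
  have hL2 : ∀ g₁ g₂ : G, ∀ c d : α, c ≠ d → c ∈ g₁ • B → d ∈ g₁ • B → c ∈ g₂ • B →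
      d ∈ g₂ • B → g₁ • B = g₂ • B := by
    intro g₁ g₂ c d hcd hc1 hd1 hc2 hd2
    have hI : IsBlock N (g₁ • B ∩ g₂ • B) :=
      (block_translate N hBblock g₁).inter (block_translate N hBblock g₂)
    have hInt : ¬ IsTrivialBlock (g₁ • B ∩ g₂ • B) := by
      rw [IsTrivialBlock, not_or, Set.not_subsingleton_iff]
      refine ⟨⟨c, ⟨hc1, hc2⟩, d, ⟨hd1, hd2⟩, hcd⟩, ?_⟩
      intro h
      apply htr_univ g₁
      rw [Set.eq_univ_iff_forall] at h ⊢
      exact fun x => (h x).1
    have hle := hBmin' _ hI hInt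
    have e1 : g₁ • B ∩ g₂ • B = g₁ • B :=
      Set.eq_of_subset_of_ncard_le Set.inter_subset_left (by rw [Set.ncard_smul_set]; exact hle)
    have e2 : g₁ • B ∩ g₂ • B = g₂ • B :=
      Set.eq_of_subset_of_ncard_le Set.inter_subset_right (by rw [Set.ncard_smul_set]; exact hle)
    rw [← e1, e2]
  -- (L3)
  have hL3 : ∀ c d : α, c ≠ d → ∃ g : G, c ∈ g • B ∧ d ∈ g • B := by
    intro c d hcd
    obtain ⟨g, hg1, hg2⟩ := exists_map2 h2 le_rfl hcard huv hcd
    exact ⟨g, hg1 ▸ Set.smul_mem_smul_set hu, hg2 ▸ Set.smul_mem_smul_set hv⟩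
  -- (L4)
  have hL4 : ∀ x ∈ N, ∀ c : α, x • c = c → ∀ g : G, c ∈ g • B → x • (g • B) = g • B := by
    intro x hx c hxc g hc
    have hblock := block_translate N hBblock g
    rw [isBlock_iff_smul_eq_or_disjoint] at hblock
    rcases hblock ⟨x, hx⟩ with h | h
    · exact h
    · exfalso
      have h1 : c ∈ (⟨x, hx⟩ : N) • (g • B) := by
        show c ∈ x • (g • B)
        rw [← hxc]; exact Set.smul_mem_smul_set hc
      exact Set.disjoint_left.mp h h1 hc
  -- (L5)
  have h3 : 3 ≤ B.ncard := by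
    by_contra hlt
    have : ∃ b : α, x₀ • b ≠ b := by
      by_contra hcon
      push Not at hcon
      apply hx₀1
      apply FaithfulSMul.eq_of_smul_eq_smul (α := α)
      intro z
      rw [hcon z, one_smul]
    obtain ⟨b, hb⟩ := this
    have hba : b ≠ a₀ := by rintro rfl; exact hb hx₀a
    obtain ⟨g, hg1, hg2⟩ := hL3 a₀ b (Ne.symm hba)
    have hsub : ({a₀, b} : Set α) ⊆ g • B := by
      intro z hz
      rcases hz with rfl | hz
      · exact hg1
      · rw [Set.mem_singleton_iff] at hz; rw [hz]; exact hg2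
    have heq : ({a₀, b} : Set α) = g • B := by
      apply Set.eq_of_subset_of_ncard_le hsub
      rw [Set.ncard_smul_set, Set.ncard_pair (Ne.symm hba)]
      omega
    have h4 := hL4 x₀ hx₀ a₀ hx₀a g hg1
    have h5 : x₀ • b ∈ x₀ • (g • B) := Set.smul_mem_smul_set hg2
    rw [h4, ← heq] at h5
    rcases h5 with h5 | h5
    · apply hba
      rw [← hx₀a, smul_left_cancel_iff] at h5
      exact h5
    · rw [Set.mem_singleton_iff] at h5
      exact hb h5
  -- (L6)
  have hL6 : ∀ c d : α, c ≠ d → ∀ x ∈ N, x • c = c → x • d = d → x = 1 := by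
    intro c d hcd x hx hxc hxd
    obtain ⟨g, hgc, hgd⟩ := hL3 c d hcd
    -- step (i)
    have hi : ∀ e : α, e ∉ g • B → x • e = e := by
      intro e he
      have hce : c ≠ e := by rintro rfl; exact he hgc
      have hde : d ≠ e := by rintro rfl; exact he hgd
      obtain ⟨g₁, h1c, h1e⟩ := hL3 c e hce
      obtain ⟨g₂, h2d, h2e⟩ := hL3 d e hde
      by_contra hxe
      have hx1 : x • e ∈ g₁ • B := by
        rw [← hL4 x hx c hxc g₁ h1c]; exact Set.smul_mem_smul_set h1e
      have hx2 : x • e ∈ g₂ • B := by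
        rw [← hL4 x hx d hxd g₂ h2d]; exact Set.smul_mem_smul_set h2e
      have e12 := hL2 g₁ g₂ e (x • e) (Ne.symm hxe) h1e hx1 h2e hx2
      have e1 := hL2 g₁ g c d hcd h1c (e12 ▸ h2d) hgc hgd
      exact he (e1 ▸ h1e)
    -- a point off the line
    have : ∃ e₀ : α, e₀ ∉ g • B := by
      by_contra hcon
      push Not at hcon
      exact htr_univ g (Set.eq_univ_iff_forall.mpr hcon)
    obtain ⟨e₀, he₀⟩ := this
    have hii : ∀ d' : α, d' ∈ g • B → x • d' = d' := by
      intro d' hd'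
      have hed : e₀ ≠ d' := by rintro rfl; exact he₀ hd'
      obtain ⟨g', hge, hgd'⟩ := hL3 e₀ d' hed
      -- third point on M
      have : ∃ e₁ ∈ g' • B, e₁ ≠ e₀ ∧ e₁ ≠ d' := by
        by_contra hcon
        push Not at hcon
        have hsub : g' • B ⊆ ({e₀, d'} : Set α) := by
          intro z hz
          by_cases hz0 : z = e₀
          · left; exact hz0
          · right; exact hcon z hz hz0
        have := Set.ncard_le_ncard hsub (Set.toFinite _)
        rw [Set.ncard_smul_set, Set.ncard_pair hed] at this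
        omega
      obtain ⟨e₁, he₁M, he₁0, he₁d⟩ := this
      have he₁L : e₁ ∉ g • B := by
        intro h
        have := hL2 g' g d' e₁ (Ne.symm he₁d) hgd' he₁M hd' h
        exact he₀ (this ▸ hge)
      have hx0 := hi e₀ he₀
      have hx1 := hi e₁ he₁L
      have hxM : x • (g' • B) = g' • B := by
        have h1 : x • (g' • B) = (x * g') • B := by rw [mul_smul]
        rw [h1]
        apply hL2 (x * g') g' e₀ e₁ (Ne.symm he₁0)
        · rw [← h1, ← hx0]; exact Set.smul_mem_smul_set hge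
        · rw [← h1, ← hx1]; exact Set.smul_mem_smul_set he₁M
        · exact hge
        · exact he₁M
      have hxL := hL4 x hx c hxc g hgc
      by_contra hxd'
      have h1 : x • d' ∈ g • B := by rw [← hxL]; exact Set.smul_mem_smul_set hd'
      have h2' : x • d' ∈ g' • B := by rw [← hxM]; exact Set.smul_mem_smul_set hgd'
      have := hL2 g g' d' (x • d') (Ne.symm hxd') hd' h1 hgd' h2'
      exact he₀ (this ▸ hge)
    apply FaithfulSMul.eq_of_smul_eq_smul (α := α)
    intro z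
    rw [one_smul]
    by_cases hz : z ∈ g • B
    · exact hii z hz
    · exact hi z hz
  -- (L7) Frobenius
  have hfrob : Cfsg.IsFrobeniusComplement (stabilizer N a₀) := by
    refine ⟨?_, ?_, ?_⟩
    · intro h
      have : (⟨x₀, hx₀⟩ : N) ∈ stabilizer N a₀ := by
        rw [mem_stabilizer_iff]; exact hx₀a
      rw [h, Subgroup.mem_bot] at this
      exact hx₀1 (congrArg Subtype.val this)
    · intro h
      haveI : Nontrivial α := Finite.one_lt_card_iff_nontrivial.mp (by omega)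
      obtain ⟨b, hb⟩ := exists_ne a₀
      obtain ⟨n, hn⟩ := hNtr.exists_smul_eq a₀ b
      have : n ∈ stabilizer N a₀ := by rw [h]; exact Subgroup.mem_top n
      rw [mem_stabilizer_iff] at this
      exact hb (hn ▸ this)
    · intro g hg
      rw [eq_bot_iff]
      intro x hx
      obtain ⟨hx1, hx2⟩ := Subgroup.mem_inf.mp hx
      rw [mem_stabilizer_iff] at hx1
      rw [mem_conj_iff, mem_stabilizer_iff] at hx2
      rw [mem_stabilizer_iff] at hg
      rw [Subgroup.mem_bot]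
      apply Subtype.ext
      apply hL6 a₀ (g • a₀) (Ne.symm hg) x.1 x.2 hx1
      have h1 : (g⁻¹ * x * g) • a₀ = a₀ := hx2
      rw [mul_smul, mul_smul, inv_smul_eq_iff] at h1
      exact h1
  obtain ⟨K, hKset, hKn, hKc⟩ := Cfsg.Agent.Lib.Helper1.frobenius_theorem (stabilizer N a₀) hfrob
  have hKmem : ∀ k : N, k ∈ K ↔ (k = 1 ∨ ∀ n : N, k ∉ MulAut.conj n • stabilizer N a₀) := by
    intro k
    rw [← SetLike.mem_coe, hKset]
    rfl
  have hfix : ∀ k : N, (∀ n : N, k ∉ MulAut.conj n • stabilizer N a₀) ↔ ∀ c : α, k • c ≠ c := by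
    intro k
    constructor
    · intro h c hc
      obtain ⟨n, hn⟩ := hNtr.exists_smul_eq a₀ c
      apply h n
      rw [mem_conj_iff, mem_stabilizer_iff, mul_smul, mul_smul, hn, hc, inv_smul_eq_iff, hn]
    · intro h n hn
      rw [mem_conj_iff, mem_stabilizer_iff, mul_smul, mul_smul, inv_smul_eq_iff] at hn
      exact h _ hn
  have hK'n : (K.map N.subtype).Normal := by
    constructor
    intro y hy g
    rw [Subgroup.mem_map] at hy ⊢
    obtain ⟨k, hk, rfl⟩ := hy
    refine ⟨⟨g * k.1 * g⁻¹, hNn.conj_mem k.1 k.2 g⟩, ?_, rfl⟩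
    rw [hKmem] at hk ⊢
    rcases hk with hk | hk
    · left
      apply Subtype.ext
      show g * k.1 * g⁻¹ = 1
      rw [hk]; simp
    · right
      rw [hfix] at hk ⊢
      intro c hc
      apply hk (g⁻¹ • c)
      have h1 : (g * k.1 * g⁻¹) • c = c := hc
      show k.1 • g⁻¹ • c = g⁻¹ • c
      rw [mul_smul, mul_smul] at h1
      rw [eq_inv_smul_iff]
      exact h1
  rcases hmin _ hK'n (Subgroup.map_subtype_le K) with h | h
  · have hK : K = ⊥ := by
      rwa [Subgroup.map_eq_bot_iff_of_injective _ (Subgroup.subtype_injective N)] at h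
    rw [hK, Subgroup.isComplement'_bot_left] at hKc
    exact hfrob.2.1 hKc
  · have hK : K = ⊤ := by
      rw [eq_top_iff]
      intro n _
      have : (n : G) ∈ K.map N.subtype := by rw [h]; exact n.2
      rw [Subgroup.mem_map] at this
      obtain ⟨k, hk, hkn⟩ := this
      have : k = n := Subtype.ext hkn
      rwa [← this]
    rw [hK, Subgroup.isComplement'_top_left] at hKc
    exact hfrob.1 hKc

/-- simplicity in the non-regular case -/
theorem simple_case (h2 : IsMultiplyPretransitive G α 2) (hcard : 2 ≤ Nat.card α)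
    (N : Subgroup G) [hNn : N.Normal] (hN : N ≠ ⊥)
    (hmin : ∀ M : Subgroup G, M.Normal → M ≤ N → M = ⊥ ∨ M = N)
    (hprim : IsPreprimitive N α)
    (a₀ : α) (x₀ : G) (hx₀ : x₀ ∈ N) (hx₀1 : x₀ ≠ 1) (hx₀a : x₀ • a₀ = a₀) :
    IsSimpleGroup N := by
  classical
  haveI : Finite G := finite_of_faithful G α
  haveI : Nontrivial N := by
    rw [Subgroup.nontrivial_iff_ne_bot]; exact hN
  constructor
  intro K₀ hK₀
  by_contra hcon
  push Not at hcon
  obtain ⟨hK₀b, hK₀t⟩ := hcon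
  -- the image of `K₀` in `G`
  have hK₀inv : Inv N (K₀.map N.subtype) := by
    refine ⟨Subgroup.map_subtype_le K₀, fun n hn x hx => ?_⟩
    rw [Subgroup.mem_map] at hx ⊢
    obtain ⟨k, hk, rfl⟩ := hx
    exact ⟨⟨n, hn⟩ * k * ⟨n, hn⟩⁻¹, hK₀.conj_mem k hk ⟨n, hn⟩, rfl⟩
  have hK₀1 : K₀.map N.subtype ≠ ⊥ := by
    rw [Ne, Subgroup.map_eq_bot_iff_of_injective _ (Subgroup.subtype_injective N)]
    exact hK₀b
  have hK₀N : Nat.card (K₀.map N.subtype : Subgroup G) < Nat.card N := by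
    rw [Nat.card_congr (K₀.equivMapOfInjective N.subtype (Subgroup.subtype_injective N)).symm.toEquiv]
    by_contra hle
    push Not at hle
    apply hK₀t
    exact Subgroup.eq_top_of_le_card K₀ hle
  -- minimal `T`
  have hne : Nonempty {T : Subgroup G // Inv N T ∧ T ≠ ⊥} := ⟨⟨_, hK₀inv, hK₀1⟩⟩
  obtain ⟨⟨T, hTinv, hT1⟩, hTmin0⟩ :=
    Finite.exists_min (fun T : {T : Subgroup G // Inv N T ∧ T ≠ ⊥} => Nat.card T.1)
  have hTmin : ∀ T₁ : Subgroup G, Inv N T₁ → T₁ ≠ ⊥ → Nat.card T ≤ Nat.card T₁ :=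
    fun T₁ h1 h2 => hTmin0 ⟨T₁, h1, h2⟩
  have hTN : T ≠ N := by
    intro h
    have := hTmin _ hK₀inv hK₀1
    rw [h] at this
    omega
  -- transitivity of the conjugates
  have htrans : ∀ g : G, ∀ u v : α, ∃ t ∈ MulAut.conj g • T, t • u = v := by
    intro g u v
    have hinv := inv_conj hTinv g
    haveI : ((MulAut.conj g • T).subgroupOf N).Normal := by
      constructor
      intro s hs n
      rw [Subgroup.mem_subgroupOf] at hs ⊢
      exact hinv.2 n.1 n.2 s.1 hs
    have hS1 : ∃ s ∈ (MulAut.conj g • T).subgroupOf N, s ≠ 1 := by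
      have := conj_ne_bot T hT1 g
      obtain ⟨t, ht, ht1⟩ := (Subgroup.ne_bot_iff_exists_ne_one).mp this |>.imp
        (fun t ht => ht) |> fun ⟨t, ht⟩ => (⟨t.1, t.2, fun h => ht (Subtype.ext h)⟩ :
          ∃ t : G, t ∈ MulAut.conj g • T ∧ t ≠ 1)
      exact ⟨⟨t, hinv.1 ht⟩, by rw [Subgroup.mem_subgroupOf]; exact ht,
        fun h => ht1 (congrArg Subtype.val h)⟩
    have := prim_normal_transitive hprim _ hS1
    obtain ⟨s, hs⟩ := this.exists_smul_eq u v
    exact ⟨s.1.1, s.2, hs⟩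
  have htransT : ∀ u v : α, ∃ t ∈ T, t • u = v := by
    intro u v
    obtain ⟨t, ht, htu⟩ := htrans 1 u v
    rw [map_one, one_smul] at ht
    exact ⟨t, ht, htu⟩
  -- a conjugate different from `T`
  have hex : ∃ g : G, MulAut.conj g • T ≠ T := by
    by_contra hcon
    push Not at hcon
    have hTn : T.Normal := by
      constructor
      intro t ht g
      rw [← hcon g, mem_conj_iff]
      have : g⁻¹ * (g * t * g⁻¹) * g = t := by group
      rwa [this]
    rcases hmin T hTn hTinv.1 with h | h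
    · exact hT1 h
    · exact hTN h
  have hdisj : ∀ g : G, MulAut.conj g • T ≠ T → (MulAut.conj g • T) ⊓ T = ⊥ := by
    intro g hg
    by_contra hne'
    have h1 : Inv N ((MulAut.conj g • T) ⊓ T) := (inv_conj hTinv g).inf hTinv
    have h2' := conj_min N T hTmin g _ h1 hne' inf_le_left
    have h3 : Nat.card T ≤ Nat.card ((MulAut.conj g • T) ⊓ T : Subgroup G) := hTmin _ h1 hne'
    have h4 : ((MulAut.conj g • T) ⊓ T : Subgroup G) = T :=
      Subgroup.eq_of_le_of_card_ge inf_le_right h3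
    exact hg (h2'.symm.trans h4)
  have hcomm : ∀ g : G, MulAut.conj g • T ≠ T → ∀ s ∈ MulAut.conj g • T, ∀ t ∈ T,
      s * t = t * s := fun g hg => (inv_conj hTinv g).commute hTinv (hdisj g hg)
  -- semiregularity
  have hsemiT : ∀ t ∈ T, ∀ c : α, t • c = c → t = 1 := by
    obtain ⟨g₀, hg₀⟩ := hex
    intro t ht c htc
    apply FaithfulSMul.eq_of_smul_eq_smul (α := α)
    intro z
    obtain ⟨s, hs, hsz⟩ := htrans g₀ c z
    rw [one_smul, ← hsz, ← mul_smul, ← hcomm g₀ hg₀ s hs t ht, mul_smul, htc]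
  have hsemiC : ∀ g : G, ∀ s ∈ MulAut.conj g • T, ∀ c : α, s • c = c → s = 1 := by
    intro g s hs c hsc
    by_cases hg : MulAut.conj g • T = T
    · rw [hg] at hs; exact hsemiT s hs c hsc
    · apply FaithfulSMul.eq_of_smul_eq_smul (α := α)
      intro z
      obtain ⟨t, ht, htz⟩ := htransT c z
      rw [one_smul, ← htz, ← mul_smul, hcomm g hg s hs t ht, mul_smul, hsc]
  -- all nonidentity elements of `T` have the same order
  haveI : Nontrivial T := by
    rw [Subgroup.nontrivial_iff_ne_bot]; exact hT1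
  have hord : ∀ x y : T, x ≠ 1 → y ≠ 1 → orderOf x = orderOf y := by
    intro x y hx hy
    have hxa : x.1 • a₀ ≠ a₀ := fun h => hx (Subtype.ext (hsemiT x.1 x.2 a₀ h))
    have hya : y.1 • a₀ ≠ a₀ := fun h => hy (Subtype.ext (hsemiT y.1 y.2 a₀ h))
    obtain ⟨g, hg1, hg2⟩ := exists_map2 h2 le_rfl hcard (Ne.symm hxa) (Ne.symm hya)
    have hgi : g⁻¹ • a₀ = a₀ := by rw [inv_smul_eq_iff, hg1]
    have hs : g * x.1 * g⁻¹ ∈ MulAut.conj g • T := by
      rw [mem_conj_iff]
      have : g⁻¹ * (g * x.1 * g⁻¹) * g = x.1 := by group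
      rw [this]; exact x.2
    have hsa : (g * x.1 * g⁻¹) • a₀ = y.1 • a₀ := by
      rw [mul_smul, mul_smul, hgi, hg2]
    have hos : orderOf (g * x.1 * g⁻¹) = orderOf x.1 := orderOf_conj' g x.1
    rw [← Subgroup.orderOf_coe, ← Subgroup.orderOf_coe, ← hos]
    by_cases hg : MulAut.conj g • T = T
    · rw [hg] at hs
      have : y.1⁻¹ * (g * x.1 * g⁻¹) = 1 := by
        apply hsemiT _ (T.mul_mem (T.inv_mem y.2) hs) a₀
        rw [mul_smul, hsa, inv_smul_smul]
      rw [inv_mul_eq_one] at this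
      rw [← this]
    · have hc := hcomm g hg
      have hpow : ∀ k : ℕ, (g * x.1 * g⁻¹) ^ k • a₀ = y.1 ^ k • a₀ := by
        intro k
        induction k with
        | zero => simp
        | succ k ih =>
          rw [pow_succ, mul_smul, hsa, ← mul_smul, hc _ (pow_mem hs k) y.1 y.2, mul_smul, ih,
            ← mul_smul, ← pow_succ']
      rw [orderOf_eq_orderOf_iff]
      intro n
      constructor
      · intro h
        apply hsemiT _ (pow_mem y.2 n) a₀
        rw [← hpow, h, one_smul]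
      · intro h
        apply hsemiC g _ (pow_mem hs n) a₀
        rw [hpow, h, one_smul]
  obtain ⟨p, hp, hpow⟩ := exp_p_of_same_order hord
  haveI : Fact p.Prime := ⟨hp⟩
  have hpg : IsPGroup p T := fun x => ⟨1, by rw [pow_one]; exact hpow x⟩
  haveI := hpg.center_nontrivial
  -- the centre of `T` is invariant
  have hZinv : Inv N ((Subgroup.center T).map T.subtype) := by
    refine ⟨(Subgroup.map_subtype_le _).trans hTinv.1, fun n hn z hz => ?_⟩
    rw [Subgroup.mem_map] at hz ⊢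
    obtain ⟨z, hz, rfl⟩ := hz
    refine ⟨⟨n * z.1 * n⁻¹, hTinv.2 n hn z.1 z.2⟩, ?_, rfl⟩
    rw [Subgroup.mem_center_iff] at hz ⊢
    intro t
    apply Subtype.ext
    show t.1 * (n * z.1 * n⁻¹) = (n * z.1 * n⁻¹) * t.1
    have ht' : n⁻¹ * t.1 * n ∈ T := by
      have := hTinv.2 n⁻¹ (N.inv_mem hn) t.1 t.2
      rwa [inv_inv] at this
    have h1 := hz ⟨n⁻¹ * t.1 * n, ht'⟩
    have h1' : (n⁻¹ * t.1 * n) * z.1 = z.1 * (n⁻¹ * t.1 * n) := congrArg Subtype.val h1
    calc t.1 * (n * z.1 * n⁻¹) = n * ((n⁻¹ * t.1 * n) * z.1) * n⁻¹ := by group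
      _ = n * (z.1 * (n⁻¹ * t.1 * n)) * n⁻¹ := by rw [h1']
      _ = (n * z.1 * n⁻¹) * t.1 := by group
  have hZ1 : (Subgroup.center T).map T.subtype ≠ ⊥ := by
    rw [Ne, Subgroup.map_eq_bot_iff_of_injective _ (Subgroup.subtype_injective T)]
    exact (Subgroup.nontrivial_iff_ne_bot _).mp inferInstance
  have hZT : (Subgroup.center T).map T.subtype = T :=
    Subgroup.eq_of_le_of_card_ge (Subgroup.map_subtype_le _) (hTmin _ hZinv hZ1)
  have hTab : ∀ s ∈ T, ∀ t ∈ T, s * t = t * s := by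
    intro s hs t ht
    have : s ∈ (Subgroup.center T).map T.subtype := by rw [hZT]; exact hs
    rw [Subgroup.mem_map] at this
    obtain ⟨z, hz, rfl⟩ := this
    rw [Subgroup.mem_center_iff] at hz
    exact (congrArg Subtype.val (hz ⟨t, ht⟩)).symm
  -- `N` centralises `T`
  have hNc : N ≤ Subgroup.centralizer (T : Set G) := by
    rw [← iSup_conj_eq N hmin T hTinv hT1]
    apply iSup_le
    intro g s hs
    rw [Subgroup.mem_centralizer_iff]
    intro t ht
    by_cases hg : MulAut.conj g • T = T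
    · rw [hg] at hs
      exact hTab t ht s hs
    · exact (hcomm g hg s hs t ht).symm
  apply hx₀1
  apply FaithfulSMul.eq_of_smul_eq_smul (α := α)
  intro z
  obtain ⟨t, ht, htz⟩ := htransT a₀ z
  have := Subgroup.mem_centralizer_iff.mp (hNc hx₀) t ht
  rw [one_smul, ← htz, ← mul_smul, ← this, mul_smul, hx₀a]

end

end Cfsg.Agent.Lib.Lead.BurnsideSocle
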