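import Mathlib
import Cfsg.Agent.Lib.Helper1.CoprimeSylow
import Cfsg.Agent.Lib.Helper1.DihedralRecognition
import Cfsg.Agent.Lib.Helper2.DihedralSub

set_option autoImplicit false
open Pointwise

/-! Subgroups with a normal Sylow `p`-subgroup and cyclic quotient: common reductions. -/

namespace Cfsg.Agent.Lib.Lead.ByCyc

theorem cyc_comm {Γ : Type*} [Group Γ] (h : IsCyclic Γ) (a b : Γ) : a * b = b * a := by
  obtain ⟨g, hg⟩ := h.exists_generator
  obtain ⟨i, rfl⟩ := Subgroup.mem_zpowers_iff.mp (hg a)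
  obtain ⟨j, rfl⟩ := Subgroup.mem_zpowers_iff.mp (hg b)
  rw [← zpow_add, ← zpow_add, add_comm]

theorem mem_of_coprime_index {M : Type*} [Group M] [Finite M] (N : Subgroup M) [N.Normal]
    (x : M) (hcop : Nat.Coprime (orderOf x) N.index) : x ∈ N := by
  have h1 : orderOf (QuotientGroup.mk' N x) ∣ orderOf x := orderOf_map_dvd _ x
  have h2 : orderOf (QuotientGroup.mk' N x) ∣ N.index := by
    rw [Subgroup.index_eq_card]; exact orderOf_dvd_natCard _
  have h3 := Nat.dvd_gcd h1 h2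
  rw [Nat.Coprime.gcd_eq_one hcop] at h3
  have h4 : QuotientGroup.mk' N x = 1 := orderOf_eq_one_iff.1 (Nat.dvd_one.1 h3)
  exact (QuotientGroup.eq_one_iff x).1 h4

/-- Bezout for powers -/
theorem eq_zpow_mul_zpow {Γ : Type*} [Group Γ] (g : Γ) (N m : ℕ) (h : Nat.Coprime N m) :
    ∃ A B : ℤ, g = (g ^ N) ^ A * (g ^ m) ^ B := by
  have hbez := Int.gcd_eq_gcd_ab (N : ℤ) (m : ℤ)
  rw [Int.gcd_natCast_natCast, Nat.Coprime.gcd_eq_one h] at hbez
  refine ⟨Int.gcdA N m, Int.gcdB N m, ?_⟩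
  rw [← zpow_natCast g N, ← zpow_natCast g m, ← zpow_mul, ← zpow_mul, ← zpow_add, ← hbez]
  simp

/-- a generator of `p'`-order for the quotient by a normal Sylow `p`-subgroup -/
theorem exists_gen {Γ : Type*} [Group Γ] [Finite Γ] (p : ℕ) [Fact p.Prime] (S : Sylow p Γ)
    [hn : (S : Subgroup Γ).Normal] (hc : IsCyclic (Γ ⧸ (S : Subgroup Γ))) :
    ∃ y : Γ, (orderOf y).Coprime p ∧ (S : Subgroup Γ) ⊔ Subgroup.zpowers y = ⊤ := by
  obtain ⟨gbar, hgbar⟩ := hc.exists_generator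
  obtain ⟨g, rfl⟩ := QuotientGroup.mk_surjective gbar
  have hp : p.Prime := Fact.out
  obtain ⟨a, m, hm, hgm⟩ := Nat.exists_eq_pow_mul_and_not_dvd (orderOf_pos g).ne' p hp.ne_one
  have hpm : Nat.Coprime p m := (Nat.Prime.coprime_iff_not_dvd hp).mpr hm
  generalize hN : p ^ a = N at hgm
  have hNm : Nat.Coprime N m := hN ▸ Nat.Coprime.pow_left a hpm
  have hta : (g ^ m) ^ N = 1 := by
    rw [← pow_mul, mul_comm, ← hgm]; exact pow_orderOf_eq_one g
  have hpg : IsPGroup p (Subgroup.zpowers (g ^ m)) := by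
    rintro ⟨x, hx⟩
    obtain ⟨k, rfl⟩ := Subgroup.mem_zpowers_iff.mp hx
    refine ⟨a, Subtype.ext ?_⟩
    show ((g ^ m) ^ k) ^ (p ^ a) = 1
    rw [hN, ← zpow_natCast, ← zpow_mul, mul_comm, zpow_mul, zpow_natCast, hta, one_zpow]
  have htS : g ^ m ∈ (S : Subgroup Γ) := by
    obtain ⟨Q, hQ⟩ := hpg.exists_le_sylow
    haveI := Sylow.unique_of_normal S hn
    have : Q = S := Subsingleton.elim _ _
    exact this ▸ hQ (Subgroup.mem_zpowers _)
  refine ⟨g ^ N, ?_, ?_⟩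
  · have hd : orderOf (g ^ N) ∣ m := by
      apply orderOf_dvd_of_pow_eq_one
      rw [← pow_mul, ← hgm]; exact pow_orderOf_eq_one g
    exact Nat.Coprime.coprime_dvd_left hd hpm.symm
  · obtain ⟨A, B, hAB⟩ := eq_zpow_mul_zpow g N m hNm
    have hgT : g ∈ (S : Subgroup Γ) ⊔ Subgroup.zpowers (g ^ N) := by
      have hmem : (g ^ N) ^ A * (g ^ m) ^ B ∈ (S : Subgroup Γ) ⊔ Subgroup.zpowers (g ^ N) :=
        Subgroup.mul_mem _
          (Subgroup.mem_sup_right (Subgroup.zpow_mem _ (Subgroup.mem_zpowers _) A))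
          (Subgroup.mem_sup_left (Subgroup.zpow_mem _ htS B))
      rwa [← hAB] at hmem
    rw [eq_top_iff]
    intro h _
    obtain ⟨k, hk⟩ := Subgroup.mem_zpowers_iff.mp (hgbar (h : Γ ⧸ (S : Subgroup Γ)))
    have hk' : ((g ^ k : Γ) : Γ ⧸ (S : Subgroup Γ)) = (h : Γ ⧸ (S : Subgroup Γ)) := by
      rw [QuotientGroup.mk_zpow]; exact hk
    have hs := QuotientGroup.eq.mp hk'
    have : h = g ^ k * ((g ^ k)⁻¹ * h) := by group
    rw [this]
    exact Subgroup.mul_mem _ (Subgroup.zpow_mem _ hgT k) (Subgroup.mem_sup_left hs)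

variable {G : Type*} [Group G]

/-- Reduction: up to isomorphism `H = S ⊔ ⟨y⟩` with `S ≤ P` and `y` a `p'`-element normalizing `S`. -/
theorem wrapper [Finite G] (p : ℕ) [Fact p.Prime] (P : Sylow p G) (H : Subgroup G)
    (h1 : ∀ S : Sylow p ↥H, (S : Subgroup ↥H).Normal)
    (h2 : ∀ (S : Sylow p ↥H) [(S : Subgroup ↥H).Normal], IsCyclic (↥H ⧸ (S : Subgroup ↥H))) :
    ∃ (S : Subgroup G) (y : G), S ≤ (P : Subgroup G) ∧ (orderOf y).Coprime p ∧
      y ∈ Subgroup.normalizer (S : Set G) ∧ Nonempty (↥H ≃* ↥(S ⊔ Subgroup.zpowers y)) := by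
  obtain ⟨S₀⟩ : Nonempty (Sylow p ↥H) := inferInstance
  haveI hn := h1 S₀
  obtain ⟨y₀, hy₀, htop⟩ := exists_gen p S₀ (h2 S₀)
  have hS₁p : IsPGroup p ((S₀ : Subgroup ↥H).map H.subtype) := S₀.isPGroup'.map _
  obtain ⟨Q, hQ⟩ := hS₁p.exists_le_sylow
  obtain ⟨g, hg⟩ := MulAction.exists_smul_eq G Q P
  have hφ : Function.Injective (MulAut.conj g).toMonoidHom := (MulAut.conj g).injective
  refine ⟨((S₀ : Subgroup ↥H).map H.subtype).map (MulAut.conj g).toMonoidHom,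
    (MulAut.conj g).toMonoidHom (y₀ : G), ?_, ?_, ?_, ?_⟩
  · rintro _ ⟨x, hx, rfl⟩
    have hxQ : x ∈ (Q : Subgroup G) := hQ hx
    rw [← hg, Sylow.smul_def, Sylow.pointwise_smul_def]
    exact Subgroup.smul_mem_pointwise_smul x (MulAut.conj g) _ hxQ
  · rw [orderOf_injective _ hφ, Subgroup.orderOf_coe]; exact hy₀
  · have hHn : H.map (MulAut.conj g).toMonoidHom ≤ Subgroup.normalizer
        ((((S₀ : Subgroup ↥H).map H.subtype).map (MulAut.conj g).toMonoidHom : Subgroup G) : Set G) := by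
      apply Cfsg.Agent.Lib.Helper1.le_normalizer_of_conj_mem
      rintro _ ⟨h, hh, rfl⟩ _ ⟨x, hx, rfl⟩
      obtain ⟨x₀, hx₀, rfl⟩ := hx
      refine ⟨H.subtype (⟨h, hh⟩ * x₀ * ⟨h, hh⟩⁻¹), ⟨_, hn.conj_mem x₀ hx₀ ⟨h, hh⟩, rfl⟩, ?_⟩
      simp only [map_mul, map_inv]
      rfl
    exact hHn ⟨(y₀ : G), y₀.2, rfl⟩
  · have hH : H = (S₀ : Subgroup ↥H).map H.subtype ⊔ Subgroup.zpowers (y₀ : G) := by
      have := congrArg (Subgroup.map H.subtype) htop
      rw [Subgroup.map_sup, MonoidHom.map_zpowers, ← MonoidHom.range_eq_map,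
        Subgroup.range_subtype] at this
      exact this.symm
    have hH' : H.map (MulAut.conj g).toMonoidHom =
        ((S₀ : Subgroup ↥H).map H.subtype).map (MulAut.conj g).toMonoidHom ⊔
          Subgroup.zpowers ((MulAut.conj g).toMonoidHom (y₀ : G)) :=
      (congrArg (Subgroup.map (MulAut.conj g).toMonoidHom) hH).trans
        (by rw [Subgroup.map_sup, MonoidHom.map_zpowers])
    exact ⟨(H.equivMapOfInjective _ hφ).trans (MulEquiv.subgroupCongr hH')⟩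

theorem mem_normalizer_of_conj_mem [Finite G] (Q : Subgroup G) (x : G)
    (h : ∀ a ∈ Q, x * a * x⁻¹ ∈ Q) : x ∈ Subgroup.normalizer (Q : Set G) := by
  apply Cfsg.Agent.Lib.Helper7.mem_normalizer_of_map_conj_le
  rintro _ ⟨a, ha, rfl⟩
  exact h a ha

/-- `T ⊔ ⟨x⟩` satisfies the two hypotheses whenever `T` is a `p`-group normalized by `x`. -/
theorem hyp_of_sup [Finite G] (p : ℕ) [Fact p.Prime] (T : Subgroup G) (hT : IsPGroup p T) (x : G)
    (hx : x ∈ Subgroup.normalizer (T : Set G)) (H : Subgroup G)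
    (hH : H = T ⊔ Subgroup.zpowers x) :
    (∀ S : Sylow p ↥H, (S : Subgroup ↥H).Normal) ∧
    (∀ (S : Sylow p ↥H) [(S : Subgroup ↥H).Normal], IsCyclic (↥H ⧸ (S : Subgroup ↥H))) := by
  have hTH : T ≤ H := by rw [hH]; exact le_sup_left
  have hxH : x ∈ H := by rw [hH]; exact Subgroup.mem_sup_right (Subgroup.mem_zpowers x)
  have hzn : Subgroup.zpowers x ≤ Subgroup.normalizer (T : Set G) := Subgroup.zpowers_le.mpr hx
  have hHn : H ≤ Subgroup.normalizer (T : Set G) := by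
    rw [hH]; exact sup_le Subgroup.le_normalizer hzn
  have hcoe : (H : Set G) = (T : Set G) * (Subgroup.zpowers x : Set G) := by
    rw [hH]; exact Subgroup.coe_mul_of_right_le_normalizer_left T (Subgroup.zpowers x) hzn
  clear hH
  have hdec : ∀ h : ↥H, ∃ k : ℤ, (h : G) * (x ^ k)⁻¹ ∈ T := by
    intro h
    have h0 : (h : G) ∈ (H : Set G) := h.2
    rw [hcoe] at h0
    obtain ⟨t, ht, u, hu, htu⟩ := Set.mem_mul.mp h0
    obtain ⟨k, rfl⟩ := Subgroup.mem_zpowers_iff.mp hu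
    refine ⟨k, ?_⟩
    rw [← htu, mul_inv_cancel_right]
    exact ht
  haveI hT'n : (T.subgroupOf H).Normal :=
    (Subgroup.normal_subgroupOf_iff_le_normalizer hTH).mpr hHn
  have hT'p : IsPGroup p ↥(T.subgroupOf H) := hT.comap_subtype
  obtain ⟨xh, hxh⟩ : ∃ xh : ↥H, (xh : G) = x := ⟨⟨x, hxH⟩, rfl⟩
  have hdec' : ∀ h : ↥H, ∃ k : ℤ, h * (xh ^ k)⁻¹ ∈ T.subgroupOf H := by
    intro h
    obtain ⟨k, hk⟩ := hdec h
    refine ⟨k, ?_⟩
    rw [Subgroup.mem_subgroupOf]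
    show ((h * (xh ^ k)⁻¹ : ↥H) : G) ∈ T
    rw [Subgroup.coe_mul, Subgroup.coe_inv, Subgroup.coe_zpow, hxh]
    exact hk
  have hq : ∀ h : ↥H, ∃ k : ℤ, (QuotientGroup.mk h : ↥H ⧸ T.subgroupOf H)
      = (QuotientGroup.mk xh : ↥H ⧸ T.subgroupOf H) ^ k := by
    intro h
    obtain ⟨k, hk⟩ := hdec' h
    refine ⟨k, ?_⟩
    rw [← QuotientGroup.mk_zpow]
    exact QuotientGroup.eq_iff_div_mem.mpr (by rw [div_eq_mul_inv]; exact hk)
  have hcomm : ∀ g n : ↥H, g * n * g⁻¹ * n⁻¹ ∈ T.subgroupOf H := by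
    intro g n
    obtain ⟨k1, hk1⟩ := hq g
    obtain ⟨k2, hk2⟩ := hq n
    refine (QuotientGroup.eq_one_iff _).mp ?_
    have e : (QuotientGroup.mk (g * n * g⁻¹ * n⁻¹) : ↥H ⧸ T.subgroupOf H) =
        QuotientGroup.mk g * QuotientGroup.mk n * (QuotientGroup.mk g)⁻¹
          * (QuotientGroup.mk n)⁻¹ := rfl
    rw [e, hk1, hk2, zpow_mul_comm, mul_inv_cancel_right, mul_inv_cancel]
  have hTS : ∀ S : Sylow p ↥H, T.subgroupOf H ≤ (S : Subgroup ↥H) := fun S =>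
    hT'p.le_sylow_of_normal S
  have hSn : ∀ S : Sylow p ↥H, (S : Subgroup ↥H).Normal := by
    intro S
    refine ⟨fun n hn g => ?_⟩
    have : g * n * g⁻¹ = (g * n * g⁻¹ * n⁻¹) * n := by group
    rw [this]
    exact Subgroup.mul_mem _ (hTS S (hcomm g n)) hn
  refine ⟨hSn, fun S _ => ?_⟩
  rw [isCyclic_iff_exists_zpowers_eq_top]
  refine ⟨QuotientGroup.mk xh, ?_⟩
  rw [eq_top_iff]
  intro γ _
  obtain ⟨h, rfl⟩ := QuotientGroup.mk_surjective γ
  obtain ⟨k, hk⟩ := hdec' h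
  refine Subgroup.mem_zpowers_iff.mpr ⟨k, ?_⟩
  rw [← QuotientGroup.mk_zpow]
  exact (QuotientGroup.eq_iff_div_mem.mpr (by rw [div_eq_mul_inv]; exact hTS S hk)).symm

theorem mem_zpowers_of_coprime {Γ : Type*} [Group Γ] (g w : Γ) (N m : ℕ) (h : Nat.Coprime N m)
    (h1 : g ^ N = 1) (h2 : g ^ m ∈ Subgroup.zpowers w) : g ∈ Subgroup.zpowers w := by
  obtain ⟨A, B, hAB⟩ := eq_zpow_mul_zpow g N m h
  rw [h1, one_zpow, one_mul] at hAB
  have := Subgroup.zpow_mem _ h2 B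
  rwa [← hAB] at this

/-- commuting elements of coprime orders generate a cyclic group -/
theorem isCyclic_sup (s y : G) (hcomm : s * y = y * s)
    (hcop : (orderOf s).Coprime (orderOf y)) :
    IsCyclic ↥(Subgroup.zpowers s ⊔ Subgroup.zpowers y) := by
  have hC : Commute s y := hcomm
  have h1s : s ^ orderOf y = (s * y) ^ orderOf y := by
    rw [hC.mul_pow, pow_orderOf_eq_one, mul_one]
  have h1y : y ^ orderOf s = (s * y) ^ orderOf s := by
    rw [hC.mul_pow, pow_orderOf_eq_one, one_mul]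
  have hsw : s ∈ Subgroup.zpowers (s * y) :=
    mem_zpowers_of_coprime s (s * y) (orderOf s) (orderOf y) hcop (pow_orderOf_eq_one s)
      (by rw [h1s]; exact Subgroup.pow_mem _ (Subgroup.mem_zpowers _) _)
  have hyw : y ∈ Subgroup.zpowers (s * y) :=
    mem_zpowers_of_coprime y (s * y) (orderOf y) (orderOf s) hcop.symm (pow_orderOf_eq_one y)
      (by rw [h1y]; exact Subgroup.pow_mem _ (Subgroup.mem_zpowers _) _)
  have hle : Subgroup.zpowers s ⊔ Subgroup.zpowers y ≤ Subgroup.zpowers (s * y) :=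
    sup_le (Subgroup.zpowers_le.mpr hsw) (Subgroup.zpowers_le.mpr hyw)
  have hw : s * y ∈ Subgroup.zpowers s ⊔ Subgroup.zpowers y :=
    Subgroup.mul_mem _ (Subgroup.mem_sup_left (Subgroup.mem_zpowers s))
      (Subgroup.mem_sup_right (Subgroup.mem_zpowers y))
  rw [isCyclic_iff_exists_zpowers_eq_top]
  refine ⟨⟨s * y, hw⟩, ?_⟩
  rw [eq_top_iff]
  rintro ⟨a, ha⟩ _
  obtain ⟨k, hk⟩ := Subgroup.mem_zpowers_iff.mp (hle ha)
  exact Subgroup.mem_zpowers_iff.mpr ⟨k, Subtype.ext (by rw [Subgroup.coe_zpow]; exact hk)⟩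

theorem exists_zpowers_eq (S : Subgroup G) (h : IsCyclic ↥S) :
    ∃ s : G, S = Subgroup.zpowers s := by
  obtain ⟨g, hg⟩ := h.exists_generator
  refine ⟨(g : G), le_antisymm ?_ (Subgroup.zpowers_le.mpr g.2)⟩
  intro a ha
  obtain ⟨k, hk⟩ := Subgroup.mem_zpowers_iff.mp (hg ⟨a, ha⟩)
  refine Subgroup.mem_zpowers_iff.mpr ⟨k, ?_⟩
  have := congrArg Subtype.val hk
  rwa [Subgroup.coe_zpow] at this

/-- dihedral recognition for `⟨s⟩ ⊔ ⟨y⟩` with `s` of odd order inverted by the involution `y` -/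
theorem dihedral_sup [Finite G] (s y : G) (m : ℕ) [NeZero m] (hm : orderOf s = m) (hodd : Odd m)
    (hy2 : y * y = 1) (hy1 : y ≠ 1) (hconj : y * s * y⁻¹ = s⁻¹) :
    Nonempty (↥(Subgroup.zpowers s ⊔ Subgroup.zpowers y) ≃* DihedralGroup m) := by
  have hoy : orderOf y = 2 := orderOf_eq_prime (by rw [pow_two]; exact hy2) hy1
  have hyS : y ∉ Subgroup.zpowers s := by
    intro h
    have h1 : orderOf y ∣ m := hm ▸ orderOf_dvd_of_mem_zpowers h
    rw [hoy] at h1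
    obtain ⟨k, hk⟩ := hodd
    omega
  have hyn : y ∈ Subgroup.normalizer ((Subgroup.zpowers s : Subgroup G) : Set G) := by
    apply mem_normalizer_of_conj_mem
    intro a ha
    obtain ⟨k, rfl⟩ := Subgroup.mem_zpowers_iff.mp ha
    rw [← conj_zpow, hconj]
    exact Subgroup.zpow_mem _ (Subgroup.inv_mem _ (Subgroup.mem_zpowers s)) k
  have hzn : Subgroup.zpowers y ≤ Subgroup.normalizer ((Subgroup.zpowers s : Subgroup G) : Set G) :=
    Subgroup.zpowers_le.mpr hyn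
  have hcoe := Subgroup.coe_mul_of_right_le_normalizer_left (Subgroup.zpowers s)
    (Subgroup.zpowers y) hzn
  have hle : Nat.card ↥(Subgroup.zpowers s ⊔ Subgroup.zpowers y) ≤ m * 2 := by
    have h0 : Nat.card ↥(Subgroup.zpowers s ⊔ Subgroup.zpowers y)
        = Nat.card (((Subgroup.zpowers s ⊔ Subgroup.zpowers y : Subgroup G) : Set G)) := rfl
    rw [h0, hcoe]
    refine le_trans Set.natCard_mul_le ?_
    have h1 : Nat.card ((Subgroup.zpowers s : Subgroup G) : Set G) = m := by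
      rw [← hm]; exact Nat.card_zpowers s
    have h2 : Nat.card ((Subgroup.zpowers y : Subgroup G) : Set G) = 2 := by
      rw [← hoy]; exact Nat.card_zpowers y
    rw [h1, h2]
  have hsH : s ∈ Subgroup.zpowers s ⊔ Subgroup.zpowers y :=
    Subgroup.mem_sup_left (Subgroup.mem_zpowers s)
  have hyH : y ∈ Subgroup.zpowers s ⊔ Subgroup.zpowers y :=
    Subgroup.mem_sup_right (Subgroup.mem_zpowers y)
  have hoa : orderOf (⟨s, hsH⟩ : ↥(Subgroup.zpowers s ⊔ Subgroup.zpowers y)) = m := by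
    rw [Subgroup.orderOf_mk]; exact hm
  have hob : orderOf (⟨y, hyH⟩ : ↥(Subgroup.zpowers s ⊔ Subgroup.zpowers y)) = 2 := by
    rw [Subgroup.orderOf_mk]; exact hoy
  have hd1 : m ∣ Nat.card ↥(Subgroup.zpowers s ⊔ Subgroup.zpowers y) :=
    hoa ▸ orderOf_dvd_natCard _
  have hd2 : 2 ∣ Nat.card ↥(Subgroup.zpowers s ⊔ Subgroup.zpowers y) :=
    hob ▸ orderOf_dvd_natCard _
  have hcop : Nat.Coprime m 2 := Nat.coprime_two_right.mpr hodd
  have hdvd := Nat.Coprime.mul_dvd_of_dvd_of_dvd hcop hd1 hd2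
  have hcard : Nat.card ↥(Subgroup.zpowers s ⊔ Subgroup.zpowers y) = 2 * m := by
    rw [mul_comm]
    exact Nat.le_antisymm hle (Nat.le_of_dvd Nat.card_pos hdvd)
  refine Cfsg.Agent.Lib.Helper1.nonempty_mulEquiv_dihedralGroup m ⟨s, hsH⟩ ⟨y, hyH⟩ hoa ?_
    (Subtype.ext hy2) (Subtype.ext hconj) hcard
  intro h
  obtain ⟨k, hk⟩ := Subgroup.mem_zpowers_iff.mp h
  apply hyS
  refine Subgroup.mem_zpowers_iff.mpr ⟨k, ?_⟩
  have := congrArg Subtype.val hk
  rwa [Subgroup.coe_zpow] at this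

end Cfsg.Agent.Lib.Lead.ByCyc
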