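import Mathlib
import Cfsg.Agent.Lib.Lead.ByCyc

set_option autoImplicit false

/-! Groups whose `p`-by-cyclic subgroups are cyclic or dihedral, `p` odd. -/

namespace Cfsg.Agent.Lib.Lead.ByCycOdd

open Cfsg.Agent.Lib.Lead.ByCyc

/-- the restriction on `p`-by-cyclic subgroups -/
def Restr (p : ℕ) [Fact p.Prime] (G : Type*) [Group G] : Prop :=
  ∀ H : Subgroup G, (∀ S : Sylow p ↥H, (S : Subgroup ↥H).Normal) →
    (∀ (S : Sylow p ↥H) [(S : Subgroup ↥H).Normal], IsCyclic (↥H ⧸ (S : Subgroup ↥H))) →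
    IsCyclic H ∨ (∃ n : ℕ, Nonempty (H ≃* DihedralGroup (p ^ n)))

variable {G : Type*} [Group G] [Finite G] {p : ℕ} [Fact p.Prime]

theorem two_not_dvd_pow (hp : p ≠ 2) (k : ℕ) : ¬ 2 ∣ p ^ k := by
  intro h
  have h2 := Nat.Prime.dvd_of_dvd_pow Nat.prime_two h
  exact hp ((Nat.prime_dvd_prime_iff_eq Nat.prime_two Fact.out).mp h2).symm

theorem dichotomy (hp : p ≠ 2) (hL : Restr p G) (T : Subgroup G) (hT : IsPGroup p T) (x : G)
    (hx : x ∈ Subgroup.normalizer (T : Set G)) :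
    x ∈ Subgroup.centralizer (T : Set G) ∨ (x * x = 1 ∧ ∀ a ∈ T, x * a * x⁻¹ = a⁻¹) := by
  obtain ⟨h1, h2⟩ := hyp_of_sup p T hT x hx _ rfl
  have hTH : T ≤ T ⊔ Subgroup.zpowers x := le_sup_left
  have hxH : x ∈ T ⊔ Subgroup.zpowers x := Subgroup.mem_sup_right (Subgroup.mem_zpowers x)
  rcases hL _ h1 h2 with hc | ⟨n, ⟨e⟩⟩
  · left
    rw [Subgroup.mem_centralizer_iff]
    intro a ha
    have := cyc_comm hc (⟨a, hTH ha⟩ : ↥(T ⊔ Subgroup.zpowers x)) ⟨x, hxH⟩
    exact congrArg Subtype.val this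
  · have hrot : ∀ a (ha : a ∈ T), ∃ j, e ⟨a, hTH ha⟩ = DihedralGroup.r j := by
      intro a ha
      rcases hea : e ⟨a, hTH ha⟩ with j | j
      · exact ⟨j, rfl⟩
      · exfalso
        obtain ⟨k, hk⟩ := IsPGroup.iff_orderOf.mp hT ⟨a, ha⟩
        rw [Subgroup.orderOf_mk] at hk
        have h3 : orderOf (e ⟨a, hTH ha⟩) = orderOf a := by
          rw [MulEquiv.orderOf_eq, Subgroup.orderOf_mk]
        rw [hea, DihedralGroup.orderOf_sr, hk] at h3
        exact two_not_dvd_pow hp k ⟨1, by rw [mul_one, ← h3]⟩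
    rcases hex : e ⟨x, hxH⟩ with i | i
    · left
      rw [Subgroup.mem_centralizer_iff]
      intro a ha
      obtain ⟨j, hj⟩ := hrot a ha
      have : (⟨a, hTH ha⟩ : ↥(T ⊔ Subgroup.zpowers x)) * ⟨x, hxH⟩ = ⟨x, hxH⟩ * ⟨a, hTH ha⟩ := by
        apply e.injective
        rw [map_mul, map_mul, hj, hex, DihedralGroup.r_mul_r, DihedralGroup.r_mul_r, add_comm]
      exact congrArg Subtype.val this
    · right
      constructor
      · have : (⟨x, hxH⟩ : ↥(T ⊔ Subgroup.zpowers x)) * ⟨x, hxH⟩ = 1 := by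
          apply e.injective
          rw [map_mul, hex, map_one, DihedralGroup.sr_mul_self]
        exact congrArg Subtype.val this
      · intro a ha
        obtain ⟨j, hj⟩ := hrot a ha
        have : (⟨x, hxH⟩ : ↥(T ⊔ Subgroup.zpowers x)) * ⟨a, hTH ha⟩ * ⟨x, hxH⟩⁻¹
            = ⟨a, hTH ha⟩⁻¹ := by
          apply e.injective
          rw [map_mul, map_mul, map_inv, map_inv, hj, hex, DihedralGroup.inv_sr,
            DihedralGroup.sr_mul_r, DihedralGroup.sr_mul_sr, DihedralGroup.inv_r]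
          congr 1
          ring
        exact congrArg Subtype.val this

theorem forward (hp : p ≠ 2) (P : Sylow p G) (hL : Restr p G) :
    (IsCyclic ↥(P : Subgroup G) ∧
      (Subgroup.normalizer ((P : Subgroup G) : Set G) = Subgroup.centralizer ((P : Subgroup G) : Set G) ∨
       ((Subgroup.centralizer ((P : Subgroup G) : Set G)).relIndex (Subgroup.normalizer ((P : Subgroup G) : Set G)) = 2 ∧
        ∀ Q : Subgroup G, Q ≤ P → Nat.card Q = p →
          IsMulCommutative ↥(Subgroup.centralizer (Q : Set G)) ∧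
          ∀ x : G, x ∈ Subgroup.normalizer (Q : Set G) → x ∉ Subgroup.centralizer (Q : Set G) →
            orderOf x = 2 ∧ ∀ c : G, c ∈ Subgroup.centralizer (Q : Set G) → x * c * x⁻¹ = c⁻¹))) := by
  have hPc : IsCyclic ↥(P : Subgroup G) := by
    obtain ⟨h1, h2⟩ := hyp_of_sup p (P : Subgroup G) P.isPGroup' 1 (Subgroup.one_mem _)
      (P : Subgroup G) (by rw [Subgroup.zpowers_one_eq_bot, sup_bot_eq])
    rcases hL _ h1 h2 with hc | ⟨n, ⟨e⟩⟩
    · exact hc
    · exfalso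
      obtain ⟨k, hk⟩ := IsPGroup.iff_card.mp P.isPGroup'
      have h3 : Nat.card ↥(P : Subgroup G) = 2 * p ^ n := by
        rw [Nat.card_congr e.toEquiv, DihedralGroup.nat_card]
      rw [hk] at h3
      exact two_not_dvd_pow hp k ⟨p ^ n, h3⟩
  refine ⟨hPc, ?_⟩
  by_cases hNC : Subgroup.normalizer ((P : Subgroup G) : Set G)
      = Subgroup.centralizer ((P : Subgroup G) : Set G)
  · exact Or.inl hNC
  right
  have hCN : Subgroup.centralizer ((P : Subgroup G) : Set G)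
      ≤ Subgroup.normalizer ((P : Subgroup G) : Set G) := Subgroup.centralizer_le_normalizer _
  have hnle : ¬ Subgroup.normalizer ((P : Subgroup G) : Set G)
      ≤ Subgroup.centralizer ((P : Subgroup G) : Set G) := fun h => hNC (le_antisymm h hCN)
  obtain ⟨x₀, hx₀N, hx₀C⟩ := SetLike.not_le_iff_exists.mp hnle
  have hinvP : ∀ b ∈ Subgroup.normalizer ((P : Subgroup G) : Set G),
      b ∉ Subgroup.centralizer ((P : Subgroup G) : Set G) →
      (b * b = 1 ∧ ∀ a ∈ (P : Subgroup G), b * a * b⁻¹ = a⁻¹) :=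
    fun b hb hbC => (dichotomy hp hL P P.isPGroup' b hb).resolve_left hbC
  obtain ⟨-, hx₀i⟩ := hinvP x₀ hx₀N hx₀C
  have hrel : (Subgroup.centralizer ((P : Subgroup G) : Set G)).relIndex
      (Subgroup.normalizer ((P : Subgroup G) : Set G)) = 2 := by
    rw [Subgroup.relIndex_eq_two_iff]
    refine ⟨x₀, hx₀N, fun b hb => ?_⟩
    by_cases hbC : b ∈ Subgroup.centralizer ((P : Subgroup G) : Set G)
    · refine Or.inr ⟨hbC, fun h => hx₀C ?_⟩
      have : x₀ = b⁻¹ * (b * x₀) := by group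
      rw [this]; exact Subgroup.mul_mem _ (Subgroup.inv_mem _ hbC) h
    · refine Or.inl ⟨?_, hbC⟩
      obtain ⟨-, hbi⟩ := hinvP b hb hbC
      rw [Subgroup.mem_centralizer_iff]
      intro a ha
      have h1 := hx₀i a ha
      have h2 := hbi a⁻¹ (Subgroup.inv_mem _ ha)
      rw [inv_inv] at h2
      calc a * (b * x₀) = (b * a⁻¹ * b⁻¹) * (b * x₀) := by rw [h2]
        _ = b * (x₀ * a * x₀⁻¹) * x₀ := by rw [h1]; group
        _ = b * x₀ * a := by group
  refine ⟨hrel, fun Q hQP hQc => ?_⟩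
  have hQp : IsPGroup p Q := P.isPGroup'.to_le hQP
  have hx₀NQ : x₀ ∈ Subgroup.normalizer (Q : Set G) :=
    mem_normalizer_of_conj_mem Q x₀ (fun a ha => by
      rw [hx₀i a (hQP ha)]; exact Subgroup.inv_mem _ ha)
  have hx₀CQ : x₀ ∉ Subgroup.centralizer (Q : Set G) := by
    intro h
    obtain ⟨a, ha, ha1⟩ : ∃ a ∈ Q, a ≠ 1 := by
      by_contra hcon
      push Not at hcon
      have : Q = ⊥ := (Subgroup.eq_bot_iff_forall _).mpr hcon
      rw [this, Subgroup.card_bot] at hQc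
      exact (Fact.out : p.Prime).one_lt.ne hQc
    have h1 := hx₀i a (hQP ha)
    have h2 := Subgroup.mem_centralizer_iff.mp h a ha
    have h3 : a⁻¹ = a := by rw [← h1, ← h2, mul_inv_cancel_right]
    have h4 : a ^ 2 = 1 := by
      rw [pow_two]; nth_rewrite 1 [← h3]; exact inv_mul_cancel a
    obtain ⟨k, hk⟩ := IsPGroup.iff_orderOf.mp hQp ⟨a, ha⟩
    rw [Subgroup.orderOf_mk] at hk
    have h5 : orderOf a ∣ 2 := orderOf_dvd_of_pow_eq_one h4
    rcases (Nat.dvd_prime Nat.prime_two).mp h5 with h6 | h6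
    · exact ha1 (orderOf_eq_one_iff.mp h6)
    · rw [h6] at hk
      exact two_not_dvd_pow hp k ⟨1, by rw [mul_one, ← hk]⟩
  have hA : ∀ w ∈ Subgroup.normalizer (Q : Set G), w ∉ Subgroup.centralizer (Q : Set G) →
      (w * w = 1 ∧ ∀ a ∈ Q, w * a * w⁻¹ = a⁻¹) :=
    fun w hw hwC => (dichotomy hp hL Q hQp w hw).resolve_left hwC
  have hCNQ : Subgroup.centralizer (Q : Set G) ≤ Subgroup.normalizer (Q : Set G) :=
    Subgroup.centralizer_le_normalizer _
  have hB : ∀ w ∈ Subgroup.normalizer (Q : Set G), w ∉ Subgroup.centralizer (Q : Set G) →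
      ∀ c ∈ Subgroup.centralizer (Q : Set G), w * c * w⁻¹ = c⁻¹ := by
    intro w hw hwC c hc
    obtain ⟨hww, -⟩ := hA w hw hwC
    have hwcN : w * c ∈ Subgroup.normalizer (Q : Set G) := Subgroup.mul_mem _ hw (hCNQ hc)
    have hwcC : w * c ∉ Subgroup.centralizer (Q : Set G) := fun h => hwC (by
      have : w = (w * c) * c⁻¹ := by group
      rw [this]; exact Subgroup.mul_mem _ h (Subgroup.inv_mem _ hc))
    obtain ⟨h2, -⟩ := hA (w * c) hwcN hwcC
    have hwi : w⁻¹ = w := inv_eq_of_mul_eq_one_right hww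
    rw [hwi]
    exact eq_inv_of_mul_eq_one_left (by rw [mul_assoc (w * c) w c]; exact h2)
  refine ⟨⟨⟨fun c d => ?_⟩⟩, fun w hw hwC => ⟨?_, hB w hw hwC⟩⟩
  · have hc := hB x₀ hx₀NQ hx₀CQ c c.2
    have hd := hB x₀ hx₀NQ hx₀CQ d d.2
    have hcd := hB x₀ hx₀NQ hx₀CQ (c * d) (Subgroup.mul_mem _ c.2 d.2)
    have h1 : ((c : G) * d)⁻¹ = (c : G)⁻¹ * (d : G)⁻¹ := by
      rw [← hcd, ← hc, ← hd]; group
    have h2 : (c : G) * d = d * c := by
      calc (c : G) * d = (((c : G) * d)⁻¹)⁻¹ := (inv_inv _).symm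
        _ = ((c : G)⁻¹ * (d : G)⁻¹)⁻¹ := by rw [h1]
        _ = d * c := by rw [mul_inv_rev, inv_inv, inv_inv]
    exact Subtype.ext h2
  · obtain ⟨hww, -⟩ := hA w hw hwC
    have hw1 : w ≠ 1 := fun h => hwC (h ▸ Subgroup.one_mem _)
    exact orderOf_eq_prime (by rw [pow_two]; exact hww) hw1

theorem backward (hp : p ≠ 2) (P : Sylow p G) (hPc : IsCyclic ↥(P : Subgroup G))
    (hR : Subgroup.normalizer ((P : Subgroup G) : Set G) = Subgroup.centralizer ((P : Subgroup G) : Set G) ∨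
       ((Subgroup.centralizer ((P : Subgroup G) : Set G)).relIndex (Subgroup.normalizer ((P : Subgroup G) : Set G)) = 2 ∧
        ∀ Q : Subgroup G, Q ≤ P → Nat.card Q = p →
          IsMulCommutative ↥(Subgroup.centralizer (Q : Set G)) ∧
          ∀ x : G, x ∈ Subgroup.normalizer (Q : Set G) → x ∉ Subgroup.centralizer (Q : Set G) →
            orderOf x = 2 ∧ ∀ c : G, c ∈ Subgroup.centralizer (Q : Set G) → x * c * x⁻¹ = c⁻¹)) :
    Restr p G := by
  intro H h1 h2
  obtain ⟨S, y, hSP, hyp, hyN, ⟨e⟩⟩ := wrapper p P H h1 h2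
  haveI := hPc
  have hSc : IsCyclic ↥S := Subgroup.isCyclic_of_le hSP
  obtain ⟨s, rfl⟩ := exists_zpowers_eq S hSc
  have hsP : s ∈ (P : Subgroup G) := hSP (Subgroup.mem_zpowers s)
  obtain ⟨k, hk⟩ := IsPGroup.iff_orderOf.mp P.isPGroup' ⟨s, hsP⟩
  rw [Subgroup.orderOf_mk] at hk
  have hcyc_of : IsCyclic ↥(Subgroup.zpowers s ⊔ Subgroup.zpowers y) → IsCyclic ↥H := fun h => by
    haveI := h; exact isCyclic_of_surjective e.symm e.symm.surjective
  by_cases hyC : s * y = y * s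
  · left
    exact hcyc_of (isCyclic_sup s y hyC (by rw [hk]; exact Nat.Coprime.pow_left k hyp.symm))
  rcases hR with hNC | ⟨-, hQ⟩
  · exfalso
    have hP' : Subgroup.normalizer ((P : Subgroup G) : Set G)
        ≤ Subgroup.centralizer ((P : Subgroup G) : Set G) := le_of_eq hNC
    obtain ⟨K, hKn, hcompl⟩ : ∃ K : Subgroup G, K.Normal ∧ K.IsComplement' (P : Subgroup G) :=
      ⟨_, inferInstance, MonoidHom.ker_transferSylow_isComplement' P hP'⟩
    haveI := hKn
    have hidx : K.index = Nat.card ↥(P : Subgroup G) := hcompl.symm.index_eq_card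
    obtain ⟨j, hj⟩ := IsPGroup.iff_card.mp P.isPGroup'
    have hyK : y ∈ K := mem_of_coprime_index K y (by
      rw [hidx, hj]; exact Nat.Coprime.pow_right j hyp)
    have hdisj : K ⊓ (P : Subgroup G) = ⊥ := hcompl.disjoint.eq_bot
    have hsy : y * s * y⁻¹ ∈ Subgroup.zpowers s :=
      (Subgroup.mem_normalizer_iff.mp hyN s).mp (Subgroup.mem_zpowers s)
    have hcomm : y * s * y⁻¹ * s⁻¹ ∈ K ⊓ (P : Subgroup G) := by
      constructor
      · have : y * s * y⁻¹ * s⁻¹ = y * (s * y⁻¹ * s⁻¹) := by group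
        rw [this]
        exact Subgroup.mul_mem _ hyK (hKn.conj_mem y⁻¹ (Subgroup.inv_mem _ hyK) s)
      · exact Subgroup.mul_mem _ (hSP hsy) (Subgroup.inv_mem _ hsP)
    rw [hdisj, Subgroup.mem_bot] at hcomm
    apply hyC
    have : y * s = (y * s * y⁻¹ * s⁻¹) * (s * y) := by group
    rw [this, hcomm, one_mul]
  · have hs1 : s ≠ 1 := fun h => hyC (by rw [h, one_mul, mul_one])
    have hk0 : k ≠ 0 := by
      intro h; rw [h, pow_zero] at hk; exact hs1 (orderOf_eq_one_iff.mp hk)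
    obtain ⟨x', hx'⟩ := exists_prime_orderOf_dvd_card' (G := ↥(Subgroup.zpowers s)) p (by
      rw [Nat.card_zpowers, hk]; exact dvd_pow_self p hk0)
    obtain ⟨x, hxS, hxo⟩ : ∃ x : G, x ∈ Subgroup.zpowers s ∧ orderOf x = p :=
      ⟨(x' : G), x'.2, by rw [Subgroup.orderOf_coe]; exact hx'⟩
    have hQP : Subgroup.zpowers x ≤ (P : Subgroup G) := Subgroup.zpowers_le.mpr (hSP hxS)
    have hQcard : Nat.card ↥(Subgroup.zpowers x) = p := by rw [Nat.card_zpowers, hxo]
    obtain ⟨hQcomm, hQinv⟩ := hQ (Subgroup.zpowers x) hQP hQcard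
    have hyNQ : y ∈ Subgroup.normalizer ((Subgroup.zpowers x : Subgroup G) : Set G) := by
      apply mem_normalizer_of_conj_mem
      intro a ha
      obtain ⟨i, rfl⟩ := Subgroup.mem_zpowers_iff.mp ha
      have hxy : y * x * y⁻¹ ∈ Subgroup.zpowers s :=
        (Subgroup.mem_normalizer_iff.mp hyN x).mp hxS
      have hord : orderOf (y * x * y⁻¹) = orderOf x := by
        rw [← MulAut.conj_apply]
        exact MulEquiv.orderOf_eq (MulAut.conj y) x
      have heq := Cfsg.Agent.Lib.Helper2.DihedralSub.zpowers_eq_of_orderOf_eq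
        (Subgroup.zpowers s) inferInstance _ _ hxy hxS hord
      rw [← conj_zpow, ← heq]
      exact Subgroup.zpow_mem _ (Subgroup.mem_zpowers _) i
    have hPCQ : (P : Subgroup G) ≤ Subgroup.centralizer ((Subgroup.zpowers x : Subgroup G) : Set G) := by
      intro a ha
      rw [Subgroup.mem_centralizer_iff]
      intro b hb
      have := cyc_comm hPc (⟨b, hQP hb⟩ : ↥(P : Subgroup G)) ⟨a, ha⟩
      exact congrArg Subtype.val this
    have hyCQ : y ∉ Subgroup.centralizer ((Subgroup.zpowers x : Subgroup G) : Set G) := by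
      intro h
      apply hyC
      have := @Std.Commutative.comm _ _ hQcomm.is_comm
        (⟨s, hPCQ hsP⟩ : ↥(Subgroup.centralizer ((Subgroup.zpowers x : Subgroup G) : Set G))) ⟨y, h⟩
      exact congrArg Subtype.val this
    obtain ⟨hyo, hyinv⟩ := hQinv y hyNQ hyCQ
    have hys : y * s * y⁻¹ = s⁻¹ := hyinv s (hPCQ hsP)
    have hyy : y * y = 1 := by rw [← pow_two, ← hyo]; exact pow_orderOf_eq_one y
    have hy1 : y ≠ 1 := by
      intro h; rw [h, orderOf_one] at hyo; norm_num at hyo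
    haveI : NeZero (p ^ k) := ⟨pow_ne_zero k (Fact.out : p.Prime).ne_zero⟩
    obtain ⟨e'⟩ := dihedral_sup s y (p ^ k) hk
      (Odd.pow ((Fact.out : p.Prime).odd_of_ne_two hp)) hyy hy1 hys
    right
    exact ⟨k, ⟨e.trans e'⟩⟩

theorem main (hp : p ≠ 2) (P : Sylow p G) :
    (∀ H : Subgroup G, (∀ S : Sylow p ↥H, (S : Subgroup ↥H).Normal) →
        (∀ (S : Sylow p ↥H) [(S : Subgroup ↥H).Normal], IsCyclic (↥H ⧸ (S : Subgroup ↥H))) →
        IsCyclic H ∨ (∃ n : ℕ, Nonempty (H ≃* DihedralGroup (p ^ n)))) ↔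
    (IsCyclic P ∧
      (Subgroup.normalizer ((P : Subgroup G) : Set G) = Subgroup.centralizer ((P : Subgroup G) : Set G) ∨
       ((Subgroup.centralizer ((P : Subgroup G) : Set G)).relIndex (Subgroup.normalizer ((P : Subgroup G) : Set G)) = 2 ∧
        ∀ Q : Subgroup G, Q ≤ P → Nat.card Q = p →
          IsMulCommutative ↥(Subgroup.centralizer (Q : Set G)) ∧
          ∀ x : G, x ∈ Subgroup.normalizer (Q : Set G) → x ∉ Subgroup.centralizer (Q : Set G) →
            orderOf x = 2 ∧ ∀ c : G, c ∈ Subgroup.centralizer (Q : Set G) → x * c * x⁻¹ = c⁻¹))) :=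
  ⟨fun hL => forward hp P hL, fun h => backward hp P h.1 h.2⟩

end Cfsg.Agent.Lib.Lead.ByCycOdd
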