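import Mathlib
import Cfsg.Agent.Lib.Lead.ByCyc
import Cfsg.Agent.Lib.Helper2.DihedralSub
import Cfsg.Agent.Lib.Helper2.KleinCentral
import Cfsg.Agent.Lib.Helper5.KleinPairs
import Cfsg.Agent.S0228

set_option autoImplicit false
open Pointwise

/-! Groups whose `2`-by-cyclic subgroups are cyclic, dihedral or `A₄`. -/

namespace Cfsg.Agent.Lib.Lead.ByCycTwo

section adapted

open scoped commutatorElement
open Cfsg.Agent.Lib.Helper1 Cfsg.Agent.Lib.Helper2.MetaOdd Cfsg.Agent.Lib.Helper2.DihedralSub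

variable {G : Type*} [Group G]

/-- Variant of `Helper2.DihedralSub.odd_normalizer_le_centralizer` (same proof): an odd-order
element normalizing a subgroup `Q` of a dihedral-like `2`-group centralizes it, unless `Q` is a
four-group. -/
theorem odd_centralizes_or_klein [Finite G] (S R : Subgroup G) (hS : IsPGroup 2 S)
    (hRS : R ≤ S) (hRc : IsCyclic R) (hidx : R.relIndex S = 2)
    (hinv : ∀ x ∈ S, x ∉ R → x ^ 2 = 1)
    (hprod : ∀ x ∈ S, ∀ y ∈ S, x ∉ R → y ∉ R → x⁻¹ * y ∈ R)
    (Q : Subgroup G) (hQS : Q ≤ S) (g : G) (hg : g ∈ Subgroup.normalizer (Q : Set G))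
    (hodd : Odd (orderOf g)) : g ∈ Subgroup.centralizer (Q : Set G) ∨ IsKleinFour Q := by
  have hconj : ∀ x ∈ Q, g * x * g⁻¹ ∈ Q :=
    fun x hx => (Subgroup.mem_normalizer_iff.mp hg x).mp hx
  have hQ2 : IsPGroup 2 Q := hS.to_le hQS
  have hcop : (orderOf g).Coprime 2 := Nat.coprime_two_right.mpr hodd
  by_cases hA : ∃ c₀ ∈ Q, c₀ ^ 2 ≠ 1
  · obtain ⟨c₀, hc₀Q, hc₀2⟩ := hA
    have hinR : ∀ c ∈ Q, c ^ 2 ≠ 1 → c ∈ R :=
      fun c hc h2 => by_contra fun hn => h2 (hinv c (hQS hc) hn)
    -- A1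
    have hA1 : ∀ c ∈ Q, c ^ 2 ≠ 1 → g ∈ Subgroup.centralizer (Subgroup.zpowers c : Set G) := by
      intro c hc h2
      have hcR := hinR c hc h2
      have hc'Q := hconj c hc
      have hc'2 : (g * c * g⁻¹) ^ 2 ≠ 1 := by
        rw [conj_pow]
        intro h
        apply h2
        have : c ^ 2 = g⁻¹ * (g * c ^ 2 * g⁻¹) * g := by group
        rw [this, h]; group
      have hc'R := hinR _ hc'Q hc'2
      have hord : orderOf (g * c * g⁻¹) = orderOf c := by
        rw [← MulAut.conj_apply]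
        exact MulEquiv.orderOf_eq (MulAut.conj g) c
      have heq := zpowers_eq_of_orderOf_eq R hRc _ _ hc'R hcR hord
      have hnorm : g ∈ Subgroup.normalizer ((Subgroup.zpowers c : Subgroup G) : Set G) := by
        apply Cfsg.Agent.Lib.Helper7.mem_normalizer_of_map_conj_le
        rw [MonoidHom.map_zpowers]
        show Subgroup.zpowers (g * c * g⁻¹) ≤ _
        rw [heq]
      have hz2 : IsPGroup 2 (Subgroup.zpowers c) :=
        hS.to_le ((Subgroup.zpowers_le.mpr hcR).trans hRS)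
      exact centralizes_of_isCyclic_two_group _ inferInstance hz2 g hnorm hodd
    have hcent_eq : ∀ (c y : G), g ∈ Subgroup.centralizer (Subgroup.zpowers c : Set G) →
        y ∈ Subgroup.zpowers c → g * y * g⁻¹ = y := by
      intro c y hgc hy
      have := Subgroup.mem_centralizer_iff.mp hgc y hy
      rw [← this]; group
    -- an involution inside `zpowers c₀`
    have hc₀R := hinR c₀ hc₀Q hc₀2
    obtain ⟨j, hj⟩ := (IsPGroup.iff_orderOf.mp hS) ⟨c₀, hQS hc₀Q⟩
    rw [Subgroup.orderOf_mk] at hj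
    have hj2 : 2 ≤ j := by
      by_contra hlt
      push Not at hlt
      apply hc₀2
      have h1 : orderOf c₀ ∣ 2 := by
        rw [hj]
        calc 2 ^ j ∣ 2 ^ 1 := pow_dvd_pow 2 (by omega)
          _ = 2 := by norm_num
      exact orderOf_dvd_iff_pow_eq_one.mp h1
    obtain ⟨d, hd⟩ : ∃ d, d = c₀ ^ 2 ^ (j - 1) := ⟨_, rfl⟩
    have hdz : d ∈ Subgroup.zpowers c₀ := by rw [hd]; exact Subgroup.pow_mem _ (Subgroup.mem_zpowers c₀) _
    have hd2 : d ^ 2 = 1 := by
      rw [hd, ← pow_mul, ← pow_succ, Nat.sub_add_cancel (by omega), ← hj]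
      exact pow_orderOf_eq_one c₀
    have hd1 : d ≠ 1 := by
      rw [hd]
      apply pow_ne_one_of_lt_orderOf (by positivity)
      rw [hj]
      exact Nat.pow_lt_pow_right (by norm_num) (by omega)
    have hdR : d ∈ R := Subgroup.zpowers_le.mpr hc₀R hdz
    have hgc₀ := hA1 c₀ hc₀Q hc₀2
    -- A2
    have hA2 : ∀ x ∈ Q, x ∈ R → g * x * g⁻¹ = x := by
      intro x hxQ hxR
      by_cases hx2 : x ^ 2 = 1
      · have h1 := mem_zpowers_of_pow_prime_eq_one (p := 2) R hRc x d hxR hx2 hdR hd2 hd1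
        exact hcent_eq c₀ x hgc₀ (Subgroup.zpowers_le.mpr hdz h1)
      · exact hcent_eq x x (hA1 x hxQ hx2) (Subgroup.mem_zpowers x)
    -- A3
    have hall : ∀ x ∈ Q, g * x * g⁻¹ = x := by
      intro x hxQ
      by_cases hxR : x ∈ R
      · exact hA2 x hxQ hxR
      · have hx'Q := hconj x hxQ
        have hx'R : g * x * g⁻¹ ∉ R := by
          intro h
          have h1 := hA2 _ hx'Q h
          apply hxR
          have h2 : g * x * g⁻¹ = x := by
            have e2 : g * ((g * x * g⁻¹) * g⁻¹) = g * (x * g⁻¹) := by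
              rw [← mul_assoc, h1, mul_assoc]
            exact mul_right_cancel (mul_left_cancel e2)
          rw [← h2]; exact h
        have hq := hprod x (hQS hxQ) _ (hQS hx'Q) hxR hx'R
        have hqQ : x⁻¹ * (g * x * g⁻¹) ∈ Q := Q.mul_mem (Q.inv_mem hxQ) hx'Q
        have h2 := hA2 _ hqQ hq
        have h1 : g * x * g⁻¹ = x * (x⁻¹ * (g * x * g⁻¹)) := by group
        have h3 := pow_conj_eq_of_conj_eq g x _ h1 h2 (orderOf g)
        rw [pow_orderOf_eq_one, one_mul, inv_one, mul_one] at h3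
        have h4 : (x⁻¹ * (g * x * g⁻¹)) ^ orderOf g = 1 := by
          have : x * (x⁻¹ * (g * x * g⁻¹)) ^ orderOf g = x * 1 := by rw [mul_one]; exact h3.symm
          exact mul_left_cancel this
        have h5 := eq_one_of_pow_odd_eq_one (p := 2) S hS _ (hQS hqQ) _ hcop h4
        rw [h1, h5, mul_one]
    refine Or.inl ?_
    rw [Subgroup.mem_centralizer_iff]
    intro x hx
    have := hall x hx
    calc x * g = (g * x * g⁻¹) * g := by rw [this]
      _ = g * x := by group
  · push Not at hA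
    haveI : IsCyclic R := hRc
    haveI : IsCyclic ↥(R ⊓ Q) := Subgroup.isCyclic_of_le (inf_le_left : R ⊓ Q ≤ R)
    have h1 : Nat.card ↥(R ⊓ Q) ≤ 2 := by
      apply card_le_of_isCyclic_of_pow_eq_one (by norm_num)
      intro c
      apply Subtype.ext
      rw [Subgroup.coe_pow, Subgroup.coe_one]
      exact hA c c.2.2
    have h2 : (R ⊓ Q).relIndex Q ≤ 2 := by
      rw [Subgroup.inf_relIndex_right, ← hidx]
      exact Subgroup.relIndex_le_of_le_right hQS (by rw [hidx]; norm_num)
    have h3 := Subgroup.relIndex_mul_relIndex ⊥ (R ⊓ Q) Q bot_le inf_le_right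
    rw [Subgroup.relIndex_bot_left, Subgroup.relIndex_bot_left] at h3
    have h4 : Nat.card Q ≤ 4 := by
      rw [← h3]
      calc Nat.card ↥(R ⊓ Q) * (R ⊓ Q).relIndex Q ≤ 2 * 2 := Nat.mul_le_mul h1 h2
        _ = 4 := by norm_num
    obtain ⟨i, hi⟩ := IsPGroup.iff_card.mp hQ2
    have hi2 : i ≤ 2 := by
      by_contra hlt
      push Not at hlt
      have : 2 ^ 3 ≤ 2 ^ i := Nat.pow_le_pow_right (by norm_num) hlt
      omega
    interval_cases i
    · -- trivial
      haveI : Subsingleton Q := by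
        rw [← Finite.card_le_one_iff_subsingleton, hi]; norm_num
      exact Or.inl (centralizes_of_isCyclic_two_group Q inferInstance hQ2 g hg hodd)
    · have hc : IsCyclic Q := isCyclic_of_prime_card (p := 2) (by rw [hi]; norm_num)
      exact Or.inl (centralizes_of_isCyclic_two_group Q hc hQ2 g hg hodd)
    · have hK : IsKleinFour Q := by
        refine ⟨by rw [hi]; norm_num, ?_⟩
        have hdvd : Monoid.exponent Q ∣ 2 := by
          apply Monoid.exponent_dvd_of_forall_pow_eq_one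
          intro c
          apply Subtype.ext
          rw [Subgroup.coe_pow, Subgroup.coe_one]
          exact hA c c.2
        rcases (Nat.dvd_prime Nat.prime_two).mp hdvd with h | h
        · exfalso
          rw [Monoid.exp_eq_one_iff] at h
          have := Finite.card_le_one_iff_subsingleton.mpr h
          rw [hi] at this
          norm_num at this
        · exact h
      exact Or.inr hK

end adapted

open Cfsg.Agent.Lib.Lead.ByCyc

/-- the restriction on `2`-by-cyclic subgroups -/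
def Restr2 (G : Type*) [Group G] : Prop :=
  ∀ H : Subgroup G, (∀ S : Sylow 2 ↥H, (S : Subgroup ↥H).Normal) →
    (∀ (S : Sylow 2 ↥H) [(S : Subgroup ↥H).Normal], IsCyclic (↥H ⧸ (S : Subgroup ↥H))) →
    IsCyclic H ∨ (∃ n : ℕ, Nonempty (H ≃* DihedralGroup (2 ^ n))) ∨
      Nonempty (H ≃* alternatingGroup (Fin 4))

theorem alt4_center_trivial : ∀ z : alternatingGroup (Fin 4),
    (∀ g : alternatingGroup (Fin 4), g * z = z * g) → z = 1 := by decide

theorem alt4_card : Nat.card (alternatingGroup (Fin 4)) = 12 := by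
  rw [Nat.card_eq_fintype_card]; decide

variable {G : Type*} [Group G] [Finite G]

theorem isKleinFour_of (K : Subgroup G) (hc : Nat.card K = 4) (he : ∀ k ∈ K, k ^ 2 = 1) :
    IsKleinFour ↥K := by
  refine ⟨hc, ?_⟩
  have hdvd : Monoid.exponent ↥K ∣ 2 := by
    apply Monoid.exponent_dvd_of_forall_pow_eq_one
    intro c
    apply Subtype.ext
    rw [Subgroup.coe_pow, Subgroup.coe_one]
    exact he c c.2
  rcases (Nat.dvd_prime Nat.prime_two).mp hdvd with h | h
  · exfalso
    rw [Monoid.exp_eq_one_iff] at h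
    have := Finite.card_le_one_iff_subsingleton.mpr h
    rw [hc] at this
    norm_num at this
  · exact h

theorem le_centralizer_of_exp_two (K : Subgroup G) (he : ∀ k ∈ K, k ^ 2 = 1) :
    K ≤ Subgroup.centralizer (K : Set G) := by
  intro a ha
  rw [Subgroup.mem_centralizer_iff]
  intro b hb
  have h1 := he a ha
  have h2 := he b hb
  have h3 := he (b * a) (K.mul_mem hb ha)
  rw [pow_two] at h1 h2 h3
  have hai : a⁻¹ = a := inv_eq_of_mul_eq_one_right h1
  have hbi : b⁻¹ = b := inv_eq_of_mul_eq_one_right h2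
  have h4 : (b * a)⁻¹ = b * a := inv_eq_of_mul_eq_one_right h3
  rw [← h4, mul_inv_rev, hai, hbi]

theorem not_isCyclic_of (K : Subgroup G) (hc : Nat.card K = 4) (he : ∀ k ∈ K, k ^ 2 = 1) :
    ¬ IsCyclic ↥K := by
  intro h
  obtain ⟨g, hg⟩ := h.exists_generator
  have h1 : orderOf g = Nat.card ↥K := orderOf_eq_card_of_forall_mem_zpowers hg
  have h2 : orderOf g ∣ 2 := orderOf_dvd_of_pow_eq_one
    (Subtype.ext (by rw [Subgroup.coe_pow, Subgroup.coe_one]; exact he g g.2))
  rw [h1, hc] at h2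
  omega

theorem exists_ne_one (K : Subgroup G) (hc : 1 < Nat.card K) : ∃ a ∈ K, a ≠ 1 := by
  by_contra hcon
  push Not at hcon
  have : K = ⊥ := (Subgroup.eq_bot_iff_forall _).mpr hcon
  rw [this, Subgroup.card_bot] at hc
  exact lt_irrefl _ hc

theorem card_sup_zpowers (S : Subgroup G) (y : G) (hyN : y ∈ Subgroup.normalizer (S : Set G))
    (hcop : (Nat.card S).Coprime (orderOf y)) :
    Nat.card ↥(S ⊔ Subgroup.zpowers y) = Nat.card S * orderOf y := by
  have hzn : Subgroup.zpowers y ≤ Subgroup.normalizer (S : Set G) := Subgroup.zpowers_le.mpr hyN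
  have hcoe := Subgroup.coe_mul_of_right_le_normalizer_left S (Subgroup.zpowers y) hzn
  have hle : Nat.card ↥(S ⊔ Subgroup.zpowers y) ≤ Nat.card S * orderOf y := by
    have h0 : Nat.card ↥(S ⊔ Subgroup.zpowers y)
        = Nat.card (((S ⊔ Subgroup.zpowers y : Subgroup G) : Set G)) := rfl
    rw [h0, hcoe]
    refine le_trans Set.natCard_mul_le ?_
    have h2 : Nat.card ((Subgroup.zpowers y : Subgroup G) : Set G) = orderOf y :=
      Nat.card_zpowers y
    have h1 : Nat.card ((S : Subgroup G) : Set G) = Nat.card ↥S := rfl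
    rw [h1, h2]
  have hd1 : Nat.card ↥S ∣ Nat.card ↥(S ⊔ Subgroup.zpowers y) :=
    Subgroup.card_dvd_of_le le_sup_left
  have hyH : y ∈ S ⊔ Subgroup.zpowers y := Subgroup.mem_sup_right (Subgroup.mem_zpowers y)
  have hd2 : orderOf y ∣ Nat.card ↥(S ⊔ Subgroup.zpowers y) := by
    rw [← Subgroup.orderOf_mk y hyH]; exact orderOf_dvd_natCard _
  exact Nat.le_antisymm hle
    (Nat.le_of_dvd Nat.card_pos (Nat.Coprime.mul_dvd_of_dvd_of_dvd hcop hd1 hd2))

theorem pow_factorial_mem_centralizer (S : Subgroup G) (y : G)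
    (hyN : y ∈ Subgroup.normalizer (S : Set G)) :
    y ^ (Nat.card S).factorial ∈ Subgroup.centralizer (S : Set G) := by
  have hzn : Subgroup.zpowers y ≤ Subgroup.normalizer (S : Set G) := Subgroup.zpowers_le.mpr hyN
  letI := Cfsg.Agent.Lib.Helper1.conjActOfLeNormalizer (Subgroup.zpowers y) S hzn
  have h1 : (MulAction.toPermHom ↥(Subgroup.zpowers y) ↥S ⟨y, Subgroup.mem_zpowers y⟩)
      ^ (Nat.card S).factorial = 1 := by
    rw [← Nat.card_perm]; exact pow_card_eq_one'
  rw [← map_pow] at h1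
  rw [Subgroup.mem_centralizer_iff]
  intro k hk
  have h2 : (MulAction.toPermHom ↥(Subgroup.zpowers y) ↥S
      ((⟨y, Subgroup.mem_zpowers y⟩ : ↥(Subgroup.zpowers y)) ^ (Nat.card S).factorial))
        ⟨k, hk⟩ = ⟨k, hk⟩ := by rw [h1]; rfl
  have h3 : y ^ (Nat.card S).factorial * k * (y ^ (Nat.card S).factorial)⁻¹ = k :=
    congrArg Subtype.val h2
  calc k * y ^ (Nat.card S).factorial
      = (y ^ (Nat.card S).factorial * k * (y ^ (Nat.card S).factorial)⁻¹)
          * y ^ (Nat.card S).factorial := by rw [h3]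
    _ = y ^ (Nat.card S).factorial * k := by group

theorem forward (P : Sylow 2 G) (hL : Restr2 G) :
    IsCyclic ↥(P : Subgroup G) ∨
      ((∃ n : ℕ, 1 ≤ n ∧ Nonempty ((P : Subgroup G) ≃* DihedralGroup (2 ^ n))) ∧
        ∀ K : Subgroup G, K ≤ P → Nat.card K = 4 → (∀ k ∈ K, k ^ 2 = 1) →
          Subgroup.centralizer (K : Set G) = K) := by
  have h2grp : ∀ T : Subgroup G, IsPGroup 2 T →
      IsCyclic ↥T ∨ ∃ n : ℕ, Nonempty (↥T ≃* DihedralGroup (2 ^ n)) := by
    intro T hT
    obtain ⟨h1, h2⟩ := hyp_of_sup 2 T hT 1 (Subgroup.one_mem _) T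
      (by rw [Subgroup.zpowers_one_eq_bot, sup_bot_eq])
    rcases hL T h1 h2 with hc | hd | ⟨⟨e⟩⟩
    · exact Or.inl hc
    · exact Or.inr hd
    · exfalso
      obtain ⟨k, hk⟩ := IsPGroup.iff_card.mp hT
      have h3 : Nat.card ↥T = 12 := by rw [Nat.card_congr e.toEquiv, alt4_card]
      rw [hk] at h3
      have h4 : 3 ∣ 2 ^ k := by rw [h3]; norm_num
      have h5 := Nat.Prime.dvd_of_dvd_pow Nat.prime_three h4
      omega
  rcases h2grp P P.isPGroup' with hc | ⟨n, ⟨eP⟩⟩
  · exact Or.inl hc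
  rcases Nat.eq_zero_or_pos n with hn0 | hn
  · left
    subst hn0
    have : Nat.card ↥(P : Subgroup G) = 2 := by
      rw [Nat.card_congr eP.toEquiv, DihedralGroup.nat_card]; norm_num
    exact isCyclic_of_prime_card (p := 2) this
  right
  refine ⟨⟨n, hn, ⟨eP⟩⟩, fun K hKP hKc hKe => ?_⟩
  have hK2 : IsPGroup 2 K := P.isPGroup'.to_le hKP
  have hKC : K ≤ Subgroup.centralizer (K : Set G) := le_centralizer_of_exp_two K hKe
  have hKnc : ¬ IsCyclic ↥K := not_isCyclic_of K hKc hKe
  have hstep : ∀ u ∈ Subgroup.centralizer (K : Set G), Odd (orderOf u) → u = 1 := by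
    intro u hu hodd
    have huN : u ∈ Subgroup.normalizer (K : Set G) := Subgroup.centralizer_le_normalizer _ hu
    obtain ⟨h1, h2⟩ := hyp_of_sup 2 K hK2 u huN _ rfl
    have hKH : K ≤ K ⊔ Subgroup.zpowers u := le_sup_left
    have huH : u ∈ K ⊔ Subgroup.zpowers u := Subgroup.mem_sup_right (Subgroup.mem_zpowers u)
    have hHC : K ⊔ Subgroup.zpowers u ≤ Subgroup.centralizer (K : Set G) :=
      sup_le hKC (Subgroup.zpowers_le.mpr hu)
    rcases hL _ h1 h2 with hc | ⟨n, ⟨e⟩⟩ | ⟨⟨e⟩⟩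
    · exfalso
      haveI := hc
      exact hKnc (Subgroup.isCyclic_of_le hKH)
    · have hcard : Nat.card ↥(K ⊔ Subgroup.zpowers u) = 2 * 2 ^ n := by
        rw [Nat.card_congr e.toEquiv, DihedralGroup.nat_card]
      have hd : orderOf u ∣ 2 ^ (n + 1) := by
        rw [pow_succ', ← hcard, ← Subgroup.orderOf_mk u huH]
        exact orderOf_dvd_natCard _
      have hcop : Nat.Coprime (orderOf u) (2 ^ (n + 1)) :=
        Nat.Coprime.pow_right _ (Nat.coprime_two_right.mpr hodd)
      exact orderOf_eq_one_iff.mp (Nat.Coprime.eq_one_of_dvd hcop hd)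
    · exfalso
      obtain ⟨a, ha, ha1⟩ := exists_ne_one K (by rw [hKc]; norm_num)
      have hz : e ⟨a, hKH ha⟩ = 1 := by
        apply alt4_center_trivial
        intro g
        obtain ⟨g', rfl⟩ := e.surjective g
        rw [← map_mul, ← map_mul]
        congr 1
        apply Subtype.ext
        have := Subgroup.mem_centralizer_iff.mp (hHC g'.2) a ha
        exact this.symm
      have : (⟨a, hKH ha⟩ : ↥(K ⊔ Subgroup.zpowers u)) = 1 :=
        e.injective (by rw [hz, map_one])
      exact ha1 (congrArg Subtype.val this)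
  have hT2 : IsPGroup 2 ↥(Subgroup.centralizer (K : Set G)) := by
    rintro ⟨x, hx⟩
    obtain ⟨a, m, hm, hxm⟩ :=
      Nat.exists_eq_pow_mul_and_not_dvd (orderOf_pos x).ne' 2 (by norm_num)
    refine ⟨a, Subtype.ext ?_⟩
    rw [Subgroup.coe_pow, Subgroup.coe_one]
    apply hstep (x ^ 2 ^ a) (Subgroup.pow_mem _ hx _)
    have hd : orderOf (x ^ 2 ^ a) ∣ m := by
      apply orderOf_dvd_of_pow_eq_one
      rw [← pow_mul, ← hxm]; exact pow_orderOf_eq_one x
    have hmo : Odd m := Nat.odd_iff.mpr (by omega)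
    exact Odd.of_dvd_nat hmo hd
  rcases h2grp (Subgroup.centralizer (K : Set G)) hT2 with hc | ⟨j, ⟨eT⟩⟩
  · exfalso; haveI := hc; exact hKnc (Subgroup.isCyclic_of_le hKC)
  · apply le_antisymm _ hKC
    intro x hx
    haveI : NeZero (2 ^ j) := ⟨by positivity⟩
    haveI hK4 : IsKleinFour ↥K := isKleinFour_of K hKc hKe
    haveI hK4' : IsKleinFour ↥(K.subgroupOf (Subgroup.centralizer (K : Set G))) :=
      Cfsg.Agent.Lib.Helper2.QDSylow.isKleinFour_subgroupOf hKC
    have hcl := Cfsg.Agent.Lib.Helper2.KleinCentral.centralizer_le_of_mulEquiv eT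
      (fun U _ => Cfsg.Agent.Lib.Helper2.KleinCentral.dihedral_centralizer_le (2 ^ j) U)
      (K.subgroupOf (Subgroup.centralizer (K : Set G)))
    have hxc : (⟨x, hx⟩ : ↥(Subgroup.centralizer (K : Set G))) ∈ Subgroup.centralizer
        ((K.subgroupOf (Subgroup.centralizer (K : Set G)) :
          Subgroup ↥(Subgroup.centralizer (K : Set G))) :
            Set ↥(Subgroup.centralizer (K : Set G))) := by
      rw [Subgroup.mem_centralizer_iff]
      intro k hk
      exact Subtype.ext (Subgroup.mem_centralizer_iff.mp hx k.1 (Subgroup.mem_subgroupOf.mp hk))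
    exact Subgroup.mem_subgroupOf.mp (hcl hxc)

theorem backward (P : Sylow 2 G)
    (hR : IsCyclic ↥(P : Subgroup G) ∨
      ((∃ n : ℕ, 1 ≤ n ∧ Nonempty ((P : Subgroup G) ≃* DihedralGroup (2 ^ n))) ∧
        ∀ K : Subgroup G, K ≤ P → Nat.card K = 4 → (∀ k ∈ K, k ^ 2 = 1) →
          Subgroup.centralizer (K : Set G) = K)) : Restr2 G := by
  intro H h1 h2
  obtain ⟨S, y, hSP, hyp, hyN, ⟨e⟩⟩ := wrapper 2 P H h1 h2
  have hodd : Odd (orderOf y) := Nat.coprime_two_right.mp hyp
  have hS2 : IsPGroup 2 S := P.isPGroup'.to_le hSP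
  have hcycS : IsCyclic ↥S → IsCyclic ↥H := by
    intro hSc
    have hyC := Cfsg.Agent.Lib.Helper2.DihedralSub.centralizes_of_isCyclic_two_group S hSc hS2 y
      hyN hodd
    obtain ⟨s, rfl⟩ := exists_zpowers_eq S hSc
    have hsy : s * y = y * s :=
      Subgroup.mem_centralizer_iff.mp hyC s (Subgroup.mem_zpowers s)
    obtain ⟨k, hk⟩ := IsPGroup.iff_orderOf.mp hS2 ⟨s, Subgroup.mem_zpowers s⟩
    rw [Subgroup.orderOf_mk] at hk
    haveI := isCyclic_sup s y hsy (by rw [hk]; exact Nat.Coprime.pow_left k hyp.symm)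
    exact isCyclic_of_surjective e.symm e.symm.surjective
  by_cases hSc : IsCyclic ↥S
  · exact Or.inl (hcycS hSc)
  rcases hR with hPc | ⟨⟨n, hn, ⟨eP⟩⟩, hK⟩
  · exfalso; haveI := hPc; exact hSc (Subgroup.isCyclic_of_le hSP)
  haveI : NeZero (2 ^ n) := ⟨by positivity⟩
  obtain ⟨R, hRP, hRc, hidx, hinv, hprod⟩ : ∃ R : Subgroup G, R ≤ (P : Subgroup G) ∧
      IsCyclic ↥R ∧ R.relIndex (P : Subgroup G) = 2 ∧
      (∀ x ∈ (P : Subgroup G), x ∉ R → x ^ 2 = 1) ∧
      (∀ x ∈ (P : Subgroup G), ∀ y ∈ (P : Subgroup G), x ∉ R → y ∉ R → x⁻¹ * y ∈ R) :=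
    ⟨Cfsg.Agent.Lib.Helper2.DihedralSub.rot (P : Subgroup G) eP,
      Cfsg.Agent.Lib.Helper2.DihedralSub.rot_le _ eP,
      Cfsg.Agent.Lib.Helper2.DihedralSub.isCyclic_rot _ eP,
      Cfsg.Agent.Lib.Helper2.DihedralSub.relIndex_rot _ eP,
      Cfsg.Agent.Lib.Helper2.DihedralSub.sq_eq_one_of_not_mem_rot _ eP,
      fun x hx y hy => Cfsg.Agent.Lib.Helper2.DihedralSub.inv_mul_mem_rot _ eP x hx y hy⟩
  by_cases hyC : y ∈ Subgroup.centralizer (S : Set G)
  · -- `y` centralizes the non-cyclic `S`: then `y = 1` and `S` is dihedral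
    right; left
    obtain ⟨b, hbS, hbR⟩ : ∃ b ∈ S, b ∉ R := by
      by_contra hcon
      push Not at hcon
      haveI := hRc
      exact hSc (Subgroup.isCyclic_of_le (fun b hb => hcon b hb))
    have hb2 : b * b = 1 := by rw [← pow_two]; exact hinv b (hSP hbS) hbR
    have hbi : b⁻¹ = b := inv_eq_of_mul_eq_one_right hb2
    have hb1 : b ≠ 1 := fun h => hbR (h ▸ R.one_mem)
    haveI := hRc
    have hCc : IsCyclic ↥(S ⊓ R) := Subgroup.isCyclic_of_le inf_le_right
    obtain ⟨c, hCeq⟩ := exists_zpowers_eq (S ⊓ R) hCc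
    have hcSR : c ∈ S ⊓ R := by rw [hCeq]; exact Subgroup.mem_zpowers c
    have hcS : c ∈ S := hcSR.1
    have hcR : c ∈ R := hcSR.2
    have hbr : ∀ r ∈ R, r ∈ S → b * r * b⁻¹ = r⁻¹ := by
      intro r hrR hrS
      have h1 : b * r ∉ R := fun h => hbR (by
        have : b = (b * r) * r⁻¹ := by group
        rw [this]; exact R.mul_mem h (R.inv_mem hrR))
      have h2 := hinv (b * r) (Subgroup.mul_mem _ (hSP hbS) (hSP hrS)) h1
      rw [pow_two] at h2
      rw [hbi]
      exact eq_inv_of_mul_eq_one_left (by rw [mul_assoc (b * r) b r]; exact h2)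
    have hrel : (S ⊓ R).relIndex S = 2 := by
      rw [Subgroup.relIndex_eq_two_iff]
      refine ⟨b, hbS, fun x hx => ?_⟩
      by_cases hxR : x ∈ R
      · refine Or.inr ⟨⟨hx, hxR⟩, fun h => hbR ?_⟩
        have : b = x⁻¹ * (x * b) := by group
        rw [this]; exact R.mul_mem (R.inv_mem hxR) h.2
      · refine Or.inl ⟨⟨S.mul_mem hx hbS, ?_⟩, fun h => hxR h.2⟩
        have hxi : x⁻¹ ∉ R := fun h => hxR (by simpa using R.inv_mem h)
        have := hprod x⁻¹ (Subgroup.inv_mem _ (hSP hx)) b (hSP hbS) hxi hbR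
        rwa [inv_inv] at this
    have hcardS : Nat.card ↥S = Nat.card ↥(S ⊓ R) * 2 := by
      have h3 := Subgroup.relIndex_mul_relIndex ⊥ (S ⊓ R) S bot_le inf_le_left
      rw [Subgroup.relIndex_bot_left, Subgroup.relIndex_bot_left, hrel] at h3
      exact h3.symm
    have hcardC : Nat.card ↥(S ⊓ R) = orderOf c := by rw [hCeq, Nat.card_zpowers]
    have hc1 : c ≠ 1 := by
      intro h
      rw [h, orderOf_one] at hcardC
      rw [hcardC] at hcardS
      exact hSc (isCyclic_of_prime_card (p := 2) (by rw [hcardS]))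
    obtain ⟨j, hj⟩ := IsPGroup.iff_orderOf.mp hS2 ⟨c, hcS⟩
    rw [Subgroup.orderOf_mk] at hj
    have hj0 : j ≠ 0 := by
      intro h; rw [h, pow_zero] at hj; exact hc1 (orderOf_eq_one_iff.mp hj)
    obtain ⟨z', hz'⟩ := exists_prime_orderOf_dvd_card' (G := ↥(S ⊓ R)) 2 (by
      rw [hcardC, hj]; exact dvd_pow_self 2 hj0)
    obtain ⟨z, hzSR, hzo⟩ : ∃ z : G, z ∈ S ⊓ R ∧ orderOf z = 2 :=
      ⟨(z' : G), z'.2, by rw [Subgroup.orderOf_coe]; exact hz'⟩
    have hz2 : z * z = 1 := by rw [← pow_two, ← hzo]; exact pow_orderOf_eq_one z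
    have hz1 : z ≠ 1 := by
      intro h; rw [h, orderOf_one] at hzo; norm_num at hzo
    have hzi : z⁻¹ = z := inv_eq_of_mul_eq_one_right hz2
    have hst : b * z = z * b := by
      have := hbr z hzSR.2 hzSR.1
      rw [hzi] at this
      exact mul_inv_eq_iff_eq_mul.mp this
    have hne : z ≠ b := fun h => hbR (h ▸ hzSR.2)
    have hKS : Cfsg.Agent.Lib.Helper5.KleinPairs.kv z b hz2 hb2 hst ≤ S := by
      intro x hx
      rcases (Cfsg.Agent.Lib.Helper5.KleinPairs.mem_kv z b hz2 hb2 hst x).mp hx with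
        h | h | h | h
      · rw [h]; exact S.one_mem
      · rw [h]; exact hzSR.1
      · rw [h]; exact hbS
      · rw [h]; exact S.mul_mem hzSR.1 hbS
    have hKc := Cfsg.Agent.Lib.Helper5.KleinPairs.card_kv z b hz2 hb2 hst hz1 hb1 hne
    have hKe : ∀ k ∈ Cfsg.Agent.Lib.Helper5.KleinPairs.kv z b hz2 hb2 hst, k ^ 2 = 1 := by
      intro x hx
      rcases (Cfsg.Agent.Lib.Helper5.KleinPairs.mem_kv z b hz2 hb2 hst x).mp hx with
        h | h | h | h
      · rw [h, one_pow]
      · rw [h, pow_two, hz2]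
      · rw [h, pow_two, hb2]
      · rw [h, pow_two]
        calc z * b * (z * b) = z * (b * z) * b := by group
          _ = z * (z * b) * b := by rw [hst]
          _ = (z * z) * (b * b) := by group
          _ = 1 := by rw [hz2, hb2, one_mul]
    have hCK := hK _ (hKS.trans hSP) hKc hKe
    have hyK : y ∈ Cfsg.Agent.Lib.Helper5.KleinPairs.kv z b hz2 hb2 hst := by
      have := Subgroup.centralizer_le (SetLike.coe_subset_coe.mpr hKS) hyC
      rwa [hCK] at this
    have hy1 : y = 1 := Cfsg.Agent.Lib.Helper2.DihedralSub.eq_one_of_pow_odd_eq_one (p := 2)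
      (P : Subgroup G) P.isPGroup' y (hSP (hKS hyK)) (orderOf y) hyp (pow_orderOf_eq_one y)
    subst hy1
    have hS1 : S ⊔ Subgroup.zpowers (1 : G) = S := by
      rw [Subgroup.zpowers_one_eq_bot, sup_bot_eq]
    have hconj := hbr c hcR hcS
    haveI : NeZero (2 ^ j) := ⟨by positivity⟩
    have hbnot : (⟨b, hbS⟩ : ↥S) ∉ Subgroup.zpowers (⟨c, hcS⟩ : ↥S) := by
      intro h
      obtain ⟨i, hi⟩ := Subgroup.mem_zpowers_iff.mp h
      apply hbR
      have h' := congrArg Subtype.val hi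
      rw [Subgroup.coe_zpow] at h'
      have h'' : c ^ i = b := h'
      rw [← h'']; exact R.zpow_mem hcR i
    obtain ⟨e'⟩ := Cfsg.Agent.Lib.Helper1.nonempty_mulEquiv_dihedralGroup (Y := ↥S) (2 ^ j)
      ⟨c, hcS⟩ ⟨b, hbS⟩ (by rw [Subgroup.orderOf_mk]; exact hj) hbnot (Subtype.ext hb2)
      (Subtype.ext hconj) (by rw [hcardS, hcardC, hj, mul_comm])
    exact ⟨j, ⟨(e.trans (MulEquiv.subgroupCongr hS1)).trans e'⟩⟩
  · -- `y` does not centralize `S`: then `S` is a four-group and `S ⊔ ⟨y⟩ ≅ A₄`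
    right; right
    rcases odd_centralizes_or_klein (P : Subgroup G) R P.isPGroup' hRP hRc hidx hinv hprod S hSP y
      hyN hodd with hyC' | hKl
    · exact absurd hyC' hyC
    have hS4 : Nat.card ↥S = 4 := hKl.card_four
    have hSe : ∀ k ∈ S, k ^ 2 = 1 := by
      intro k hk
      have := Monoid.pow_exponent_eq_one (⟨k, hk⟩ : ↥S)
      rw [hKl.exponent_two] at this
      exact congrArg Subtype.val this
    have hCS : Subgroup.centralizer (S : Set G) = S := hK S hSP hS4 hSe
    have hSab : S ≤ Subgroup.centralizer (S : Set G) := le_centralizer_of_exp_two S hSe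
    have hy24 : y ^ 24 ∈ S := by
      have := pow_factorial_mem_centralizer S y hyN
      have h4 : (4 : ℕ).factorial = 24 := by decide
      rw [hS4, h4, hCS] at this
      exact this
    have h48 : y ^ 48 = 1 := by
      have := hSe _ hy24
      rw [← pow_mul] at this
      exact this
    have hd48 : orderOf y ∣ 3 * 16 := orderOf_dvd_of_pow_eq_one h48
    have hd3 : orderOf y ∣ 3 := Nat.Coprime.dvd_of_dvd_mul_right
      (show (orderOf y).Coprime 16 from Nat.Coprime.pow_right 4 hyp) hd48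
    have hyo : orderOf y = 3 := by
      rcases (Nat.dvd_prime Nat.prime_three).mp hd3 with h | h
      · exfalso
        apply hyC
        rw [orderOf_eq_one_iff.mp h]
        exact Subgroup.one_mem _
      · exact h
    have hy3 : y ^ 3 = 1 := by rw [← hyo]; exact pow_orderOf_eq_one y
    have hcard12 : Nat.card ↥(S ⊔ Subgroup.zpowers y) = 12 := by
      rw [card_sup_zpowers S y hyN (by rw [hS4, hyo]; decide), hS4, hyo]
    have hz : ∀ z : ↥(S ⊔ Subgroup.zpowers y), orderOf z = 2 →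
        z ∉ Subgroup.center ↥(S ⊔ Subgroup.zpowers y) := by
      intro z' hz'o hz'c
      apply hyC
      have hSH : S ≤ S ⊔ Subgroup.zpowers y := le_sup_left
      have hyH : y ∈ S ⊔ Subgroup.zpowers y := Subgroup.mem_sup_right (Subgroup.mem_zpowers y)
      rw [Subgroup.mem_center_iff] at hz'c
      obtain ⟨z, hzH, rfl⟩ : ∃ z, ∃ h : z ∈ S ⊔ Subgroup.zpowers y, z' = ⟨z, h⟩ :=
        ⟨z'.1, z'.2, rfl⟩
      have hzo : orderOf z = 2 := by rw [← Subgroup.orderOf_mk z hzH]; exact hz'o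
      have hzy : y * z = z * y := congrArg Subtype.val (hz'c ⟨y, hyH⟩)
      have hzS : z ∈ S := by
        rw [← hCS, Subgroup.mem_centralizer_iff]
        intro k hk
        exact congrArg Subtype.val (hz'c ⟨k, hSH hk⟩)
      have hz2 : z * z = 1 := by rw [← pow_two, ← hzo]; exact pow_orderOf_eq_one z
      have hz1 : z ≠ 1 := by
        intro h; rw [h, orderOf_one] at hzo; norm_num at hzo
      obtain ⟨b, hbS, hb1, hbz⟩ : ∃ b ∈ S, b ≠ 1 ∧ b ≠ z := by
        by_contra hcon
        push Not at hcon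
        have hle : S ≤ Subgroup.zpowers z := by
          intro b hb
          by_cases hb1 : b = 1
          · rw [hb1]; exact Subgroup.one_mem _
          · rw [hcon b hb hb1]; exact Subgroup.mem_zpowers z
        have := Subgroup.card_le_of_le hle
        rw [hS4, Nat.card_zpowers, hzo] at this
        omega
      have hb2 : b * b = 1 := by rw [← pow_two]; exact hSe b hbS
      have hbz' : b * z = z * b := Subgroup.mem_centralizer_iff.mp (hSab hzS) b hbS
      have hkv := Cfsg.Agent.Lib.Helper5.KleinPairs.kv_eq S hKl z b hzS hbS hz2 hb2 hbz' hz1 hb1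
        (Ne.symm hbz)
      have hyb : y * b * y⁻¹ ∈ S := (Subgroup.mem_normalizer_iff.mp hyN b).mp hbS
      rw [← hkv] at hyb
      have hyz : y * z * y⁻¹ = z := by rw [hzy, mul_inv_cancel_right]
      have hyz' : y⁻¹ * z * y = z := by
        calc y⁻¹ * z * y = y⁻¹ * (z * y) := by group
          _ = y⁻¹ * (y * z) := by rw [hzy]
          _ = z := by group
      have hcomm_b : b * y = y * b := by
        rcases (Cfsg.Agent.Lib.Helper5.KleinPairs.mem_kv z b hz2 hb2 hbz' _).mp hyb with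
          h | h | h | h
        · exfalso; apply hb1
          have : b = y⁻¹ * (y * b * y⁻¹) * y := by group
          rw [this, h]; group
        · exfalso; apply hbz
          have : b = y⁻¹ * (y * b * y⁻¹) * y := by group
          rw [this, h]; exact hyz'
        · calc b * y = (y * b * y⁻¹) * y := by rw [h]
            _ = y * b := by group
        · exfalso; apply hz1
          have h1 : y * b * y⁻¹ = b * z := by rw [h, hbz']
          have h3 := Cfsg.Agent.Lib.Helper2.DihedralSub.pow_conj_eq_of_conj_eq y b z h1 hyz 3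
          rw [hy3, one_mul, inv_one, mul_one] at h3
          have h4 : z ^ 3 = 1 := by
            have : b * z ^ 3 = b * 1 := by rw [mul_one]; exact h3.symm
            exact mul_left_cancel this
          have : z ^ 3 = z := by rw [pow_succ, pow_two, hz2, one_mul]
          rw [this] at h4; exact h4
      rw [Subgroup.mem_centralizer_iff]
      intro k hk
      rw [← hkv] at hk
      rcases (Cfsg.Agent.Lib.Helper5.KleinPairs.mem_kv z b hz2 hb2 hbz' k).mp hk with
        h | h | h | h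
      · rw [h, one_mul, mul_one]
      · rw [h]; exact hzy.symm
      · rw [h]; exact hcomm_b
      · rw [h, mul_assoc, hcomm_b, ← mul_assoc, ← hzy, mul_assoc]
    obtain ⟨e'⟩ := Cfsg.Agent.S0228.result (G := ↥(S ⊔ Subgroup.zpowers y)) hcard12 hz
    exact ⟨e.trans e'⟩

theorem main (P : Sylow 2 G) :
    (∀ H : Subgroup G, (∀ S : Sylow 2 ↥H, (S : Subgroup ↥H).Normal) →
        (∀ (S : Sylow 2 ↥H) [(S : Subgroup ↥H).Normal], IsCyclic (↥H ⧸ (S : Subgroup ↥H))) →
        IsCyclic H ∨ (∃ n : ℕ, Nonempty (H ≃* DihedralGroup (2 ^ n))) ∨ Nonempty (H ≃* alternatingGroup (Fin 4))) ↔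
    (IsCyclic P ∨
      ((∃ n : ℕ, 1 ≤ n ∧ Nonempty ((P : Subgroup G) ≃* DihedralGroup (2 ^ n))) ∧
        ∀ K : Subgroup G, K ≤ P → Nat.card K = 4 → (∀ k ∈ K, k ^ 2 = 1) → Subgroup.centralizer (K : Set G) = K)) :=
  ⟨fun hL => forward P hL, fun h => backward P h⟩

end Cfsg.Agent.Lib.Lead.ByCycTwo
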