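import Mathlib
import Cfsg.Agent.Lib.Lead.Dade3

set_option autoImplicit false

/-! The Dade map: the norm inequality for supports. -/

namespace Cfsg.Agent.Lib.Lead.Dade

open scoped ComplexConjugate

variable {G : Type*} [Group G] [Fintype G]
variable {A : Set G} {L : Subgroup G} [Fintype L] {H : G → Subgroup G}

/-- the averaged function is invariant under `L` on `A`. -/
theorem avg_conj (hD : Cfsg.DadeHypothesis A L H) (χ : G → ℂ) (hχ : Cfsg.IsClassFunction G χ)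
    {a : G} (ha : a ∈ A) {x : G} (hx : x ∈ L) :
    (Nat.card (H (x * a * x⁻¹)) : ℂ)⁻¹ * ∑ᶠ u ∈ (H (x * a * x⁻¹) : Set G), χ (x * a * x⁻¹ * u)
      = (Nat.card (H a) : ℂ)⁻¹ * ∑ᶠ u ∈ (H a : Set G), χ (a * u) := by
  have ha' : x * a * x⁻¹ ∈ A := hD.conj_mem x hx a ha
  obtain ⟨h1, h2⟩ := conj_mem_H_of_conj hD ha x ha'
  have hback : x⁻¹ * (x * a * x⁻¹) * x⁻¹⁻¹ = a := by group
  obtain ⟨h3, -⟩ := conj_mem_H_of_conj hD ha' x⁻¹ (by rw [hback]; exact ha)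
  rw [hback] at h3
  rw [h2]
  congr 1
  symm
  refine finsum_mem_eq_of_bijOn (fun u => x * u * x⁻¹) ⟨?_, ?_, ?_⟩ ?_
  · intro u hu; exact h1 u hu
  · intro u _ v _ huv
    simpa using huv
  · intro v hv
    refine ⟨x⁻¹ * v * x, ?_, by group⟩
    have := h3 v hv
    simpa using this
  · intro u _
    have : x * a * x⁻¹ * (x * u * x⁻¹) = x * (a * u) * x⁻¹ := by group
    rw [this, hχ]

open Classical in
lemma finsum_mem_eq_sum_ite {ι : Type*} [Fintype ι] (s : Set ι) (f : ι → ℝ) :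
    ∑ᶠ i ∈ s, f i = ∑ i, if i ∈ s then f i else 0 := by
  rw [finsum_mem_def, finsum_eq_sum_of_fintype]
  refine Finset.sum_congr rfl fun g _ => ?_
  rw [Set.indicator_apply]

theorem s1525 (hD : Cfsg.DadeHypothesis A L H) (χ : G → ℂ) (hχ : Cfsg.IsClassFunction G χ)
    (ψ : L → ℂ)
    (hψ : ∀ a : L, (a : G) ∈ A →
      ψ a = (Nat.card (H a) : ℂ)⁻¹ * ∑ᶠ u ∈ (H a : Set G), χ (a * u)) :
    (Nat.card L : ℝ)⁻¹ * ∑ᶠ a ∈ {a : L | (a : G) ∈ A}, ‖ψ a‖ ^ 2 ≤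
      (Nat.card G : ℝ)⁻¹ * ∑ᶠ g ∈ {g : G | ∃ a ∈ A, ∃ u ∈ H a, ∃ x : G, x * g * x⁻¹ = a * u},
        ‖χ g‖ ^ 2 := by
  classical
  set supp : Set G := {g : G | ∃ a ∈ A, ∃ u ∈ H a, ∃ x : G, x * g * x⁻¹ = a * u} with hsupp
  have hL : (Nat.card L : ℝ) ≠ 0 := by exact_mod_cast (Nat.card_pos (α := L)).ne'
  have hG : (0 : ℝ) < (Nat.card G : ℝ) := by exact_mod_cast (Nat.card_pos (α := G))
  -- convert the finsums
  have hs1 : ∑ᶠ a ∈ {a : L | (a : G) ∈ A}, ‖ψ a‖ ^ 2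
      = ∑ a : L, if (a : G) ∈ A then ‖ψ a‖ ^ 2 else 0 := by
    rw [finsum_mem_eq_sum_ite]
    rfl
  have hs2 : ∑ᶠ g ∈ supp, ‖χ g‖ ^ 2 = ∑ g : G, if g ∈ supp then ‖χ g‖ ^ 2 else 0 := by
    rw [finsum_mem_eq_sum_ite]
    refine Finset.sum_congr rfl fun g _ => ?_
    by_cases h : g ∈ supp
    · rw [if_pos h, if_pos h]
    · rw [if_neg h, if_neg h]
  rw [hs1, hs2]
  set N₁ : ℝ := (Nat.card L : ℝ)⁻¹ * ∑ a : L, if (a : G) ∈ A then ‖ψ a‖ ^ 2 else 0 with hN₁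
  set N₂ : ℝ := (Nat.card G : ℝ)⁻¹ * ∑ g : G, if g ∈ supp then ‖χ g‖ ^ 2 else 0 with hN₂
  have hN₁0 : 0 ≤ N₁ := by
    rw [hN₁]
    refine mul_nonneg (inv_nonneg.mpr (Nat.cast_nonneg _)) (Finset.sum_nonneg fun a _ => ?_)
    split_ifs
    · positivity
    · exact le_rfl
  have hN₂0 : 0 ≤ N₂ := by
    rw [hN₂]
    refine mul_nonneg (inv_nonneg.mpr (Nat.cast_nonneg _)) (Finset.sum_nonneg fun a _ => ?_)
    split_ifs
    · positivity
    · exact le_rfl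
  -- the function α
  set α : L → ℂ := fun a => if (a : G) ∈ A then ψ a else 0 with hα
  have hαA : ∀ x : L, (x : G) ∉ A → α x = 0 := fun x hx => by simp [hα, hx]
  have hαcf : Cfsg.IsClassFunction L α := by
    intro g h
    have hcoe : ((h * g * h⁻¹ : L) : G) = (h : G) * (g : G) * (h : G)⁻¹ := by simp
    by_cases hg : (g : G) ∈ A
    · have hg' : ((h * g * h⁻¹ : L) : G) ∈ A := by
        rw [hcoe]; exact hD.conj_mem h h.2 g hg
      simp only [hα, if_pos hg, if_pos hg']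
      rw [hψ _ hg', hψ _ hg, hcoe]
      exact avg_conj hD χ hχ hg h.2
    · have hg' : ((h * g * h⁻¹ : L) : G) ∉ A := by
        intro hcon
        apply hg
        have := hD.conj_mem (h : G)⁻¹ (L.inv_mem h.2) _ hcon
        rw [hcoe] at this
        have e : (h : G)⁻¹ * ((h : G) * (g : G) * (h : G)⁻¹) * (h : G)⁻¹⁻¹ = g := by group
        rwa [e] at this
      simp only [hα, if_neg hg, if_neg hg']
  -- inner products
  have hmc : ∀ z : ℂ, z * conj z = ((‖z‖ ^ 2 : ℝ) : ℂ) := by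
    intro z
    rw [Complex.mul_conj, Complex.normSq_eq_norm_sq]
  have e1 : Cfsg.classInner α ψ = (N₁ : ℂ) := by
    unfold Cfsg.classInner
    rw [hN₁]
    push_cast
    congr 1
    refine Finset.sum_congr rfl fun a _ => ?_
    by_cases ha : (a : G) ∈ A
    · simp only [hα, if_pos ha]
      rw [hmc]
    · simp only [hα, if_neg ha]; simp
  have e2 : Cfsg.classInner α α = (N₁ : ℂ) := by
    unfold Cfsg.classInner
    rw [hN₁]
    push_cast
    congr 1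
    refine Finset.sum_congr rfl fun a _ => ?_
    by_cases ha : (a : G) ∈ A
    · simp only [hα, if_pos ha]
      rw [hmc]
    · simp only [hα, if_neg ha]; simp
  set T := Cfsg.dadeIsometry A L H α with hT
  have hTT : Cfsg.classInner T T = (N₁ : ℂ) := by
    rw [← e2]; exact (s1500 hD α hαcf hαA).1 α hαcf hαA
  have hTχ : Cfsg.classInner T χ = (N₁ : ℂ) := by
    rw [← e1]; exact dade_inner hD hαcf hαA χ ψ hχ hψ
  have hT0 : ∀ g, g ∉ supp → T g = 0 := by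
    intro g hg
    apply dade_apply_of_not
    rintro ⟨a, ha, x, u, hu, hx⟩
    exact hg ⟨a, ha, u, hu, x, hx⟩
  set χ' : G → ℂ := fun g => if g ∈ supp then χ g else 0 with hχ'
  -- (a) the norm of T
  have hGc : (Nat.card G : ℂ) ≠ 0 := by exact_mod_cast (Nat.card_pos (α := G)).ne'
  have ha : ∑ g : G, ‖T g‖ ^ 2 = (Nat.card G : ℝ) * N₁ := by
    unfold Cfsg.classInner at hTT
    have h3 : ∑ g : G, T g * conj (T g) = (Nat.card G : ℂ) * (N₁ : ℂ) := by
      rw [← hTT, ← mul_assoc, mul_inv_cancel₀ hGc, one_mul]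
    simp only [hmc] at h3
    exact_mod_cast h3
  -- (b) the inner product
  have hb : (Nat.card G : ℝ) * N₁ ≤ ∑ g : G, ‖T g‖ * ‖χ' g‖ := by
    unfold Cfsg.classInner at hTχ
    have h3 : ∑ g : G, T g * conj (χ g) = (Nat.card G : ℂ) * (N₁ : ℂ) := by
      rw [← hTχ, ← mul_assoc, mul_inv_cancel₀ hGc, one_mul]
    have h4 : ∑ g : G, T g * conj (χ' g) = (Nat.card G : ℂ) * (N₁ : ℂ) := by
      rw [← h3]
      refine Finset.sum_congr rfl fun g _ => ?_
      by_cases hg : g ∈ supp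
      · simp only [hχ', if_pos hg]
      · rw [hT0 g hg, zero_mul, zero_mul]
    have h5 : ‖∑ g : G, T g * conj (χ' g)‖ = (Nat.card G : ℝ) * N₁ := by
      rw [h4, norm_mul, Complex.norm_natCast, Complex.norm_real, Real.norm_of_nonneg hN₁0]
    rw [← h5]
    refine (norm_sum_le _ _).trans (le_of_eq ?_)
    refine Finset.sum_congr rfl fun g _ => ?_
    rw [norm_mul, RCLike.norm_conj]
  -- (c) Cauchy-Schwarz
  have hc := Finset.sum_mul_sq_le_sq_mul_sq Finset.univ (fun g : G => ‖T g‖) (fun g => ‖χ' g‖)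
  -- (d)
  have hd : ∑ g : G, ‖χ' g‖ ^ 2 = (Nat.card G : ℝ) * N₂ := by
    rw [hN₂, ← mul_assoc, mul_inv_cancel₀ hG.ne', one_mul]
    refine Finset.sum_congr rfl fun g _ => ?_
    by_cases hg : g ∈ supp
    · simp only [hχ', if_pos hg]
    · simp only [hχ', if_neg hg]; simp
  rw [ha, hd] at hc
  have hCpos : 0 ≤ ∑ g : G, ‖T g‖ * ‖χ' g‖ :=
    Finset.sum_nonneg fun g _ => mul_nonneg (norm_nonneg _) (norm_nonneg _)
  have h6 : ((Nat.card G : ℝ) * N₁) ^ 2 ≤ (Nat.card G : ℝ) * N₁ * ((Nat.card G : ℝ) * N₂) := by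
    refine le_trans ?_ hc
    exact pow_le_pow_left₀ (mul_nonneg hG.le hN₁0) hb 2
  rcases hN₁0.eq_or_lt with h0 | hpos
  · rw [← h0]; exact hN₂0
  · have h7 : (Nat.card G : ℝ) * N₁ * ((Nat.card G : ℝ) * N₁) ≤
        (Nat.card G : ℝ) * N₁ * ((Nat.card G : ℝ) * N₂) := by rw [← sq]; exact h6
    have h8 := le_of_mul_le_mul_left h7 (mul_pos hG hpos)
    exact le_of_mul_le_mul_left h8 hG

end Cfsg.Agent.Lib.Lead.Dade
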