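import Mathlib
import Cfsg.Agent.Lib.Lead.ES1

set_option autoImplicit false

open scoped commutatorElement

namespace Cfsg.Agent.Lib.Lead.ES

variable {G : Type*} [Group G]

theorem conj_pow_eq {g h z : G} (hhg : ⁅h, g⁆ = z) (hzg : Commute z g) (hzh : Commute z h) :
    ∀ i : ℕ, h ^ i * g * (h ^ i)⁻¹ = g * z ^ i := by
  have hconj : h * g * h⁻¹ = g * z := by
    have : h * g * h⁻¹ = ⁅h, g⁆ * g := by rw [commutatorElement_def]; group
    rw [this, hhg, hzg.eq]
  intro i
  induction i with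
  | zero => simp
  | succ i ih =>
    have hzi : h * z ^ i * h⁻¹ = z ^ i := by
      rw [← (hzh.pow_left i).eq, mul_inv_cancel_right]
    calc h ^ (i + 1) * g * (h ^ (i + 1))⁻¹ = h * (h ^ i * g * (h ^ i)⁻¹) * h⁻¹ := by
          rw [pow_succ']; group
      _ = h * (g * z ^ i) * h⁻¹ := by rw [ih]
      _ = (h * g * h⁻¹) * (h * z ^ i * h⁻¹) := by group
      _ = g * z * z ^ i := by rw [hconj, hzi]
      _ = g * z ^ (i + 1) := by rw [mul_assoc, ← pow_succ']

theorem isPGroup_of_exp {r : ℕ} (K : Subgroup G) (hKr : ∀ a ∈ K, a ^ r = 1) : IsPGroup r K := by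
  intro a
  refine ⟨1, ?_⟩
  rw [pow_one]
  apply Subtype.ext
  show (a : G) ^ r = 1
  exact hKr a a.2

theorem step_bound [Finite G] {p r : ℕ} [Fact p.Prime] [Fact r.Prime] (hpr : p ≠ r)
    {E₀ K : Subgroup G} {z g h : G} (hP : ESP p E₀ z) (hgE : g ∈ E₀) (hgp : g ^ p = 1)
    (hhE : h ∈ E₀) (hhg : ⁅h, g⁆ = z) [hKc : IsMulCommutative K] (hKr : ∀ a ∈ K, a ^ r = 1)
    (hEK : E₀ ≤ Subgroup.normalizer (K : Set G)) (hfix : K ⊓ Subgroup.centralizer {z} = ⊥)
    (hK : K ≠ ⊥) :
    K ⊓ Subgroup.centralizer {g} ≠ ⊥ ∧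
      Nat.card ↥(K ⊓ Subgroup.centralizer {g}) ^ p ≤ Nat.card K := by
  classical
  have hp : p.Prime := Fact.out
  have hr : r.Prime := Fact.out
  have hzg : Commute z g := hP.z_cent g hgE
  have hzh : Commute z h := hP.z_cent h hhE
  have hzp : z ^ p = 1 := hP.z_pow
  obtain ⟨m, hm⟩ := IsPGroup.iff_card.mp (isPGroup_of_exp K hKr)
  have hcopr : (Nat.card K).Coprime p := by
    rw [hm]
    exact Nat.Coprime.pow_left m ((Nat.coprime_primes hr hp).mpr (Ne.symm hpr))
  obtain ⟨Kf, hKf⟩ : ∃ Kf : Fin p → Subgroup G,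
      Kf = fun i : Fin p => K ⊓ Subgroup.centralizer {g * z ^ (i : ℕ)} := ⟨_, rfl⟩
  have hKfi : ∀ i : Fin p, Kf i = K ⊓ Subgroup.centralizer {g * z ^ (i : ℕ)} := by
    intro i; rw [hKf]
  have hKfK : ∀ i : Fin p, Kf i ≤ K := by
    intro i; rw [hKfi]; exact inf_le_left
  have hu_mem : ∀ i : ℕ, g * z ^ i ∈ E₀ := fun i => E₀.mul_mem hgE (E₀.pow_mem hP.z_mem i)
  have hu_pow : ∀ i : ℕ, (g * z ^ i) ^ p = 1 := by
    intro i
    rw [(hzg.symm.pow_right i).mul_pow, hgp, ← pow_mul, mul_comm, pow_mul, hzp, one_pow, mul_one]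
  have hcard_eq : ∀ i : Fin p, Nat.card (Kf i) = Nat.card ↥(K ⊓ Subgroup.centralizer {g}) := by
    intro i
    have := card_conj_centralizer K (h ^ (i : ℕ)) g (hEK (E₀.pow_mem hhE i))
    rw [conj_pow_eq hhg hzg hzh i] at this
    rw [hKfi]
    exact this
  have hAcop : ∀ i : ℕ, ∀ V : Subgroup G, V ≤ K →
      (Nat.card (Subgroup.zpowers (g * z ^ i))).Coprime (Nat.card V) := by
    intro i V hV
    rw [Nat.card_zpowers]
    have h1 : orderOf (g * z ^ i) ∣ p := orderOf_dvd_of_pow_eq_one (hu_pow i)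
    have h2 : Nat.card V ∣ Nat.card K := Subgroup.card_dvd_of_le hV
    exact Nat.Coprime.coprime_dvd_left h1 (Nat.Coprime.coprime_dvd_right h2 hcopr.symm)
  have hAnorm : ∀ i : ℕ, Subgroup.zpowers (g * z ^ i) ≤ Subgroup.normalizer (K : Set G) :=
    fun i => Subgroup.zpowers_le.mpr (hEK (hu_mem i))
  have hucomm : ∀ i j : ℕ, Commute (g * z ^ i) (g * z ^ j) := by
    intro i j
    exact ((Commute.refl g).mul_right (hzg.symm.pow_right j)).mul_left
      ((hzg.pow_left i).mul_right ((Commute.refl z).pow_pow i j))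
  -- independence
  have hind : iSupIndep Kf := by
    rw [iSupIndep_def]
    intro i
    rw [disjoint_iff]
    obtain ⟨hdis, -⟩ := Cfsg.Agent.Lib.Helper1.coprime_abelian_decomposition
      (Subgroup.zpowers (g * z ^ (i : ℕ))) K (hAnorm i) (hAcop i K le_rfl)
    rw [cent_zpowers] at hdis
    have hle : (⨆ j, ⨆ (_ : j ≠ i), Kf j) ≤ ⁅K, Subgroup.zpowers (g * z ^ (i : ℕ))⁆ := by
      apply iSup₂_le
      intro j hji
      haveI : IsMulCommutative (Kf j) := comm_of_le (hKfK j)
      have hnj : Subgroup.zpowers (g * z ^ (i : ℕ)) ≤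
          Subgroup.normalizer ((Kf j : Subgroup G) : Set G) := by
        rw [Subgroup.zpowers_le, hKfi]
        exact mem_normalizer_inf_centralizer (hEK (hu_mem i)) (hucomm i j)
      obtain ⟨-, hsup⟩ := Cfsg.Agent.Lib.Helper1.coprime_abelian_decomposition
        (Subgroup.zpowers (g * z ^ (i : ℕ))) (Kf j) hnj (hAcop i (Kf j) (hKfK j))
      rw [cent_zpowers] at hsup
      have hbot : Kf j ⊓ Subgroup.centralizer {g * z ^ (i : ℕ)} = ⊥ := by
        rw [eq_bot_iff]
        intro a ha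
        rw [hKfi, Subgroup.mem_inf, Subgroup.mem_inf, Subgroup.mem_centralizer_singleton_iff,
          Subgroup.mem_centralizer_singleton_iff] at ha
        obtain ⟨⟨haK, haj⟩, hai⟩ := ha
        have hcj : Commute a (g * z ^ (j : ℕ)) := haj
        have hci : Commute a (g * z ^ (i : ℕ)) := hai
        obtain ⟨y, hy⟩ : ∃ y : G, y = (g * z ^ (i : ℕ))⁻¹ * (g * z ^ (j : ℕ)) := ⟨_, rfl⟩
        have hcy : Commute a y := by rw [hy]; exact hci.inv_right.mul_right hcj
        have ey : y = (z ^ (i : ℕ))⁻¹ * z ^ (j : ℕ) := by rw [hy]; group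
        have hymem : y ∈ Subgroup.zpowers z := by
          rw [ey]
          exact mul_mem (inv_mem (pow_mem (Subgroup.mem_zpowers z) _))
            (pow_mem (Subgroup.mem_zpowers z) _)
        have hy1 : y ≠ 1 := by
          intro h1
          rw [ey, inv_mul_eq_one] at h1
          have hi : (i : ℕ) ∈ Set.Iio (orderOf z) := by
            rw [hP.z_ord]; exact i.2
          have hj : (j : ℕ) ∈ Set.Iio (orderOf z) := by
            rw [hP.z_ord]; exact j.2
          have := pow_injOn_Iio_orderOf hi hj h1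
          exact hji (Fin.ext this.symm)
        obtain ⟨k, hk⟩ := Subgroup.mem_zpowers_iff.mp (gen_of_ne_one hP.z_ord hymem hy1)
        have hcz : Commute a z := by rw [← hk]; exact hcy.zpow_right k
        have : a ∈ K ⊓ Subgroup.centralizer {z} := by
          rw [Subgroup.mem_inf, Subgroup.mem_centralizer_singleton_iff]
          exact ⟨haK, hcz.eq⟩
        rw [hfix] at this
        exact this
      rw [hbot, bot_sup_eq] at hsup
      calc Kf j = ⁅Kf j, Subgroup.zpowers (g * z ^ (i : ℕ))⁆ := hsup.symm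
        _ ≤ ⁅K, Subgroup.zpowers (g * z ^ (i : ℕ))⁆ :=
            Subgroup.commutator_mono (hKfK j) le_rfl
    rw [eq_bot_iff]
    calc Kf i ⊓ (⨆ j, ⨆ (_ : j ≠ i), Kf j)
        ≤ (K ⊓ Subgroup.centralizer {g * z ^ (i : ℕ)}) ⊓
          ⁅K, Subgroup.zpowers (g * z ^ (i : ℕ))⁆ := by
          rw [hKfi i]; exact inf_le_inf_left _ hle
      _ = ⊥ := hdis
  -- generation
  have hgen : K ≤ ⨆ i, Kf i := by
    obtain ⟨B, hB⟩ : ∃ B : Subgroup G, B = Subgroup.closure ({g, z} : Set G) := ⟨_, rfl⟩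
    haveI hBc : IsMulCommutative B := by
      rw [hB]
      apply Subgroup.isMulCommutative_closure
      intro x hx y hy
      simp only [Set.mem_insert_iff, Set.mem_singleton_iff] at hx hy
      rcases hx with rfl | rfl <;> rcases hy with rfl | rfl
      · rfl
      · exact hzg.symm.eq
      · exact hzg.eq
      · rfl
    have hBnorm : B ≤ Subgroup.normalizer (K : Set G) := by
      rw [hB, Subgroup.closure_le]
      intro x hx
      simp only [Set.mem_insert_iff, Set.mem_singleton_iff] at hx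
      rcases hx with rfl | rfl
      · exact hEK hgE
      · exact hEK hP.z_mem
    have hBexp : ∀ b ∈ B, b ^ p = 1 := by
      intro b hb
      have hbcl : b ∈ Subgroup.closure ({g, z} : Set G) := by rw [← hB]; exact hb
      induction hbcl using Subgroup.closure_induction with
      | mem x hx =>
        simp only [Set.mem_insert_iff, Set.mem_singleton_iff] at hx
        rcases hx with rfl | rfl
        · exact hgp
        · exact hzp
      | one => exact one_pow p
      | mul x y hx hy ihx ihy =>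
        have hxB : x ∈ B := by rw [hB]; exact hx
        have hyB : y ∈ B := by rw [hB]; exact hy
        have hc : x * y = y * x := congrArg Subtype.val (hBc.is_comm.comm ⟨x, hxB⟩ ⟨y, hyB⟩)
        have hc' : Commute x y := hc
        rw [hc'.mul_pow, ihx (by rw [hB]; exact hx), ihy (by rw [hB]; exact hy), one_mul]
      | inv x hx ih => rw [inv_pow, ih (by rw [hB]; exact hx), inv_one]
    have hBp : IsPGroup p B := isPGroup_of_exp B hBexp
    obtain ⟨kB, hkB⟩ := IsPGroup.iff_card.mp hBp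
    have hBcop : (Nat.card B).Coprime (Nat.card K) := by
      rw [hkB, hm]
      exact Nat.Coprime.pow kB m ((Nat.coprime_primes hp hr).mpr hpr)
    have hzB : z ∈ B := by rw [hB]; exact Subgroup.subset_closure (by simp)
    have hgB : g ∈ B := by rw [hB]; exact Subgroup.subset_closure (by simp)
    apply Cfsg.Agent.Lib.Helper2.gen_general B K hBnorm hBcop hcopr z g hzB hgB
    · rw [hzp]; exact one_mem _
    · rw [hgp]; exact one_mem _
    · rw [hfix]; exact bot_le
    · intro j
      have e : z ^ j * g = g * z ^ (j % p) := by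
        rw [(hzg.pow_left j).eq, ← pow_mod_orderOf z j, hP.z_ord]
      rw [e]
      have := le_iSup Kf ⟨j % p, Nat.mod_lt _ hp.pos⟩
      rw [hKfi] at this
      exact this
  -- product
  have hcommfam : Pairwise fun i j : Fin p => ∀ x y : G, x ∈ Kf i → y ∈ Kf j → Commute x y := by
    intro i j _ x y hx hy
    have := hKc.is_comm.comm ⟨x, hKfK i hx⟩ ⟨y, hKfK j hy⟩
    exact congrArg Subtype.val this
  have hinj := Subgroup.injective_noncommPiCoprod_of_iSupIndep (hcomm := hcommfam) hind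
  have hrange : ∀ c : (∀ i, Kf i), Subgroup.noncommPiCoprod hcommfam c ∈ K := by
    intro c
    have h1 : Subgroup.noncommPiCoprod hcommfam c ∈ (Subgroup.noncommPiCoprod hcommfam).range :=
      ⟨c, rfl⟩
    rw [Subgroup.noncommPiCoprod_range] at h1
    exact (iSup_le hKfK) h1
  have hcardle : Nat.card (∀ i, Kf i) ≤ Nat.card K :=
    Nat.card_le_card_of_injective
      (fun c => (⟨Subgroup.noncommPiCoprod hcommfam c, hrange c⟩ : K)) (by
        intro c c' hcc
        exact hinj (congrArg Subtype.val hcc))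
  rw [Nat.card_pi] at hcardle
  have hprod : ∏ i : Fin p, Nat.card (Kf i) =
      Nat.card ↥(K ⊓ Subgroup.centralizer {g}) ^ p := by
    rw [Finset.prod_congr rfl (fun i _ => hcard_eq i), Finset.prod_const, Finset.card_univ,
      Fintype.card_fin]
  rw [hprod] at hcardle
  refine ⟨?_, hcardle⟩
  intro hbot
  apply hK
  rw [eq_bot_iff]
  calc K ≤ ⨆ i, Kf i := hgen
    _ ≤ ⊥ := by
      apply iSup_le
      intro i
      have : Nat.card (Kf i) = 1 := by
        rw [hcard_eq i, hbot]; exact Subgroup.card_bot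
      exact le_of_eq (Subgroup.card_eq_one.mp this)

theorem main [Finite G] {p r : ℕ} [Fact p.Prime] [Fact r.Prime] (hpr : p ≠ r) (n : ℕ)
    (hmin : ∀ k : ℕ, 1 ≤ k → p ∣ r ^ k - 1 → n ≤ k) :
    ∀ (w : ℕ) (E₀ K : Subgroup G) (z : G), ESP p E₀ z → p ^ (2 * w + 1) ≤ Nat.card E₀ →
      IsMulCommutative K → (∀ a ∈ K, a ^ r = 1) → E₀ ≤ Subgroup.normalizer (K : Set G) →
      K ⊓ Subgroup.centralizer {z} = ⊥ → K ≠ ⊥ → r ^ (n * p ^ w) ≤ Nat.card K := by
  intro w
  induction w with
  | zero =>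
    intro E₀ K z hP _ _ hKr hEK hfix hK
    rw [pow_zero, mul_one]
    exact base_case hP.z_ord K hKr (hEK hP.z_mem) hfix hK n hmin
  | succ w ih =>
    intro E₀ K z hP hcard hKc hKr hEK hfix hK
    have hp : p.Prime := Fact.out
    have hr : r.Prime := Fact.out
    have hc3 : p ^ 3 ≤ Nat.card E₀ :=
      le_trans (Nat.pow_le_pow_right hp.pos (by omega)) hcard
    have hg : (∃ g ∈ E₀, g ∉ Subgroup.zpowers z ∧ g ^ p = 1) ∨
        (p = 2 ∧ Nat.card E₀ ≤ 8) := by
      by_cases hp2 : p = 2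
      · subst hp2
        rcases exists_order_two hP hc3 with h | h
        · exact Or.inl h
        · exact Or.inr ⟨rfl, h⟩
      · exact Or.inl (hP.exists_order_p_odd hp2 hc3)
    rcases hg with ⟨g, hgE, hgz, hgp⟩ | ⟨hp2, hle8⟩
    · obtain ⟨h, hhE, hhg⟩ := hP.exists_pair hgE hgz
      have hP1 := hP.esp_sub hgE hhE hhg
      have hcard1 := hP.card_le_sub hgE hhE
      have hcardsub : p ^ (2 * w + 1) ≤ Nat.card (sub E₀ g h) := by
        have e : p ^ (2 * (w + 1) + 1) = p ^ 2 * p ^ (2 * w + 1) := by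
          rw [← pow_add]; congr 1; ring
        rw [e] at hcard
        exact Nat.le_of_mul_le_mul_left (le_trans hcard hcard1) (pow_pos hp.pos 2)
      obtain ⟨hK0ne, hK0card⟩ := step_bound hpr hP hgE hgp hhE hhg hKr hEK hfix hK
      have hK0c : IsMulCommutative ↥(K ⊓ Subgroup.centralizer {g}) := comm_of_le inf_le_left
      have hnorm0 : sub E₀ g h ≤
          Subgroup.normalizer ((K ⊓ Subgroup.centralizer {g} : Subgroup G) : Set G) := by
        intro x hx
        obtain ⟨hxE, hxg, -⟩ := mem_sub.mp hx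
        exact mem_normalizer_inf_centralizer (hEK hxE) hxg
      have hfix0 : (K ⊓ Subgroup.centralizer {g}) ⊓ Subgroup.centralizer {z} = ⊥ := by
        rw [eq_bot_iff, ← hfix]
        exact inf_le_inf_right _ inf_le_left
      have hih := ih (sub E₀ g h) (K ⊓ Subgroup.centralizer {g}) z hP1 hcardsub hK0c
        (fun a ha => hKr a (Subgroup.mem_inf.mp ha).1) hnorm0 hfix0 hK0ne
      calc r ^ (n * p ^ (w + 1)) = (r ^ (n * p ^ w)) ^ p := by
            rw [← pow_mul, pow_succ, mul_assoc]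
        _ ≤ Nat.card ↥(K ⊓ Subgroup.centralizer {g}) ^ p := Nat.pow_le_pow_left hih p
        _ ≤ Nat.card K := hK0card
    · subst hp2
      have hw : w = 0 := by
        by_contra hw0
        have h5 : 2 ^ 5 ≤ 2 ^ (2 * (w + 1) + 1) := Nat.pow_le_pow_right (by norm_num) (by omega)
        have h32 : (2 : ℕ) ^ 5 = 32 := by norm_num
        omega
      subst hw
      have h8 : (2 : ℕ) ^ 3 = 8 := by norm_num
      have h2 : r ^ 2 ≤ Nat.card K :=
        exceptional_case hP (by omega) K hKr hEK hfix hK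
      have hn1 : n ≤ 1 := hmin 1 le_rfl (by
        rw [pow_one]
        have hodd : Odd r := hr.odd_of_ne_two (Ne.symm hpr)
        obtain ⟨k, hk⟩ := hodd
        exact ⟨k, by omega⟩)
      calc r ^ (n * 2 ^ (0 + 1)) ≤ r ^ 2 := Nat.pow_le_pow_right hr.pos (by
            have : (2 : ℕ) ^ (0 + 1) = 2 := by norm_num
            rw [this]; omega)
        _ ≤ Nat.card K := h2

theorem extraspecial_module_bound [Finite G] {p r : ℕ} [Fact p.Prime] [hr : Fact r.Prime]
    (hpr : p ≠ r) (E A : Subgroup G) (w : ℕ) (hE : Cfsg.IsExtraspecial p ↥E)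
    (hEcard : Nat.card ↥E = p ^ (2 * w + 1)) (hA : Cfsg.IsElementaryAbelian r A)
    (hnorm : E ≤ Subgroup.normalizer (A : Set G))
    (hfaith : E ⊓ Subgroup.centralizer (A : Set G) = ⊥) (n : ℕ)
    (hmin : ∀ k : ℕ, 1 ≤ k → p ∣ r ^ k - 1 → n ≤ k) :
    r ^ (n * p ^ w) ≤ Nat.card ↥A := by
  have hp : p.Prime := Fact.out
  have hrp : r.Prime := Fact.out
  obtain ⟨⟨hEp, hfrat, hcomm⟩, hcen⟩ := hE
  haveI : IsCyclic (Subgroup.center ↥E) := isCyclic_of_prime_card hcen
  obtain ⟨z0, hz0⟩ := IsCyclic.exists_generator (α := Subgroup.center ↥E)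
  have hz0ord : orderOf z0 = p := by
    rw [orderOf_eq_card_of_forall_mem_zpowers hz0, hcen]
  obtain ⟨z, hz⟩ : ∃ z : G, z = ((z0 : ↥E) : G) := ⟨_, rfl⟩
  have hzord : orderOf z = p := by
    rw [hz, Subgroup.orderOf_coe, Subgroup.orderOf_coe]; exact hz0ord
  have hzE : z ∈ E := by rw [hz]; exact (z0 : ↥E).2
  have hcz : ∀ c : ↥E, c ∈ Subgroup.center ↥E → (c : G) ∈ Subgroup.zpowers z := by
    intro c hc
    obtain ⟨k, hk⟩ := Subgroup.mem_zpowers_iff.mp (hz0 ⟨c, hc⟩)
    rw [Subgroup.mem_zpowers_iff]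
    refine ⟨k, ?_⟩
    have h1 := congrArg (fun t : Subgroup.center ↥E => ((t : ↥E) : G)) hk
    rw [hz]
    simpa using h1
  have hP : ESP p E z := by
    refine ⟨hzE, hzord, ?_, ?_, ?_, ?_⟩
    · intro x hx
      have h1 := Subgroup.mem_center_iff.mp z0.2 ⟨x, hx⟩
      have h2 : x * z = z * x := by
        rw [hz]; exact congrArg Subtype.val h1
      exact h2.symm
    · intro x hx y hy
      have h1 : ⁅(⟨x, hx⟩ : ↥E), ⟨y, hy⟩⁆ ∈ commutator ↥E :=
        Subgroup.commutator_mem_commutator (Subgroup.mem_top _) (Subgroup.mem_top _)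
      rw [hcomm] at h1
      exact hcz _ h1
    · intro x hx
      have h1 := Cfsg.Agent.Lib.Helper1.pow_prime_mem_frattini_of_isPGroup p hEp (⟨x, hx⟩ : ↥E)
      rw [hfrat] at h1
      exact hcz _ h1
    · intro x hx hxz
      have hnc : (⟨x, hx⟩ : ↥E) ∉ Subgroup.center ↥E := fun h => hxz (hcz _ h)
      rw [Subgroup.mem_center_iff] at hnc
      push Not at hnc
      obtain ⟨y, hy⟩ := hnc
      refine ⟨(y : G), y.2, ?_⟩
      intro h1
      apply hy
      apply Subtype.ext
      exact (commutatorElement_eq_one_iff_commute.mp h1).eq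
  haveI hAc : IsMulCommutative A := hA.1
  obtain ⟨Z, hZ⟩ : ∃ Z : Subgroup G, Z = Subgroup.zpowers z := ⟨_, rfl⟩
  have hZA : Z ≤ Subgroup.normalizer (A : Set G) := by
    rw [hZ, Subgroup.zpowers_le]; exact hnorm hzE
  obtain ⟨m, hm⟩ := IsPGroup.iff_card.mp (isPGroup_of_exp A hA.2)
  have hcop : (Nat.card Z).Coprime (Nat.card A) := by
    rw [hZ, Nat.card_zpowers, hzord, hm]
    exact Nat.Coprime.pow_right m ((Nat.coprime_primes hp hrp).mpr hpr)
  obtain ⟨hdis, hsup⟩ := Cfsg.Agent.Lib.Helper1.coprime_abelian_decomposition Z A hZA hcop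
  obtain ⟨K, hKdef⟩ : ∃ K : Subgroup G, K = ⁅A, Z⁆ := ⟨_, rfl⟩
  rw [← hKdef] at hdis hsup
  have hKA : K ≤ A := by
    rw [hKdef]; exact Subgroup.le_normalizer_iff_commutator_le_left.mp hZA
  have hKfix : K ⊓ Subgroup.centralizer {z} = ⊥ := by
    rw [eq_bot_iff]
    intro a ha
    obtain ⟨haK, haz⟩ := Subgroup.mem_inf.mp ha
    have h1 : a ∈ (A ⊓ Subgroup.centralizer (Z : Set G)) ⊓ K := by
      rw [Subgroup.mem_inf, Subgroup.mem_inf, hZ, cent_zpowers]
      exact ⟨⟨hKA haK, haz⟩, haK⟩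
    rw [hdis] at h1
    exact h1
  have hKne : K ≠ ⊥ := by
    intro hKbot
    rw [hKbot, sup_bot_eq] at hsup
    have hAC : A ≤ Subgroup.centralizer (Z : Set G) := inf_eq_left.mp hsup
    have hzC : z ∈ E ⊓ Subgroup.centralizer (A : Set G) := by
      rw [Subgroup.mem_inf, Subgroup.mem_centralizer_iff]
      refine ⟨hzE, ?_⟩
      intro a ha
      have h1 := Subgroup.mem_centralizer_iff.mp (hAC ha) z (by rw [hZ]; exact Subgroup.mem_zpowers z)
      exact h1.symm
    rw [hfaith, Subgroup.mem_bot] at hzC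
    rw [hzC, orderOf_one] at hzord
    exact hp.ne_one hzord.symm
  have hEK : E ≤ Subgroup.normalizer (K : Set G) := by
    intro x hx
    apply mem_normalizer_of_map_eq
    have hxA := map_conj_eq_of_mem_normalizer (hnorm hx)
    have hxZ : Z.map (MulAut.conj x).toMonoidHom = Z := by
      rw [hZ, MonoidHom.map_zpowers]
      have : (MulAut.conj x).toMonoidHom z = z := by
        show x * z * x⁻¹ = z
        rw [← (hP.z_cent x hx).eq, mul_inv_cancel_right]
      rw [this]
    rw [hKdef, Subgroup.map_commutator, hxA, hxZ]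
  haveI hKc : IsMulCommutative K := comm_of_le hKA
  have hmain := main hpr n hmin w E K z hP (le_of_eq hEcard.symm) hKc
    (fun a ha => hA.2 a (hKA ha)) hEK hKfix hKne
  exact le_trans hmain (Subgroup.card_le_of_le hKA)

end Cfsg.Agent.Lib.Lead.ES
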