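import Mathlib
import Cfsg.Prelude.Def_GeometricClasses

set_option autoImplicit false

namespace Cfsg.Agent.Lib.Lead.ExtField

open Matrix
open scoped MatrixGroups

section lemmaA
variable {ι : Type} [Fintype ι] [DecidableEq ι] {F : Type*} [Field F]

theorem exists_third (hcard : 2 < Fintype.card ι) (i j : ι) : ∃ l : ι, l ≠ i ∧ l ≠ j := by
  by_contra h
  push Not at h
  have hsub : (Finset.univ : Finset ι) ⊆ {i, j} := by
    intro l _
    by_cases hl : l = i
    · simp [hl]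
    · simp [h l hl]
  have h1 := Finset.card_le_card hsub
  have h2 : ({i, j} : Finset ι).card ≤ 2 := Finset.card_le_two
  rw [Finset.card_univ] at h1
  omega

theorem scalar_of_transvection_invariant (K₀ : Subalgebra F (Matrix ι ι F))
    (hinv : ∀ x ∈ K₀, x ≠ 0 → ∃ y ∈ K₀, x * y = 1)
    (hcard : 2 < Fintype.card ι)
    (hnorm : ∀ i j : ι, i ≠ j → ∀ k ∈ K₀,
      (1 + Matrix.single i j (1 : F)) * k * (1 - Matrix.single i j (1 : F)) ∈ K₀)
    {θ : Matrix ι ι F} (hθ : θ ∈ K₀) : θ ∈ Set.range (Matrix.scalar ι) := by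
  apply Matrix.mem_range_scalar_of_commute_single
  intro i j hij
  obtain ⟨N, hN⟩ : ∃ N : Matrix ι ι F, N = Matrix.single i j (1 : F) := ⟨_, rfl⟩
  rw [← hN]
  have hNN : N * N = 0 := by
    rw [hN]; exact Matrix.single_mul_single_of_ne (1 : F) i j i hij.symm (1 : F)
  have hNθN : N * θ * N = Matrix.single i j (θ j i) := by
    rw [hN, Matrix.single_mul_mul_single]; simp
  have hN0 : N ≠ 0 := by
    intro h
    have := congrFun (congrFun h i) j
    rw [hN] at this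
    simp at this
  have hDmem := K₀.sub_mem (hnorm i j hij θ hθ) hθ
  rw [← hN] at hDmem
  have hDeq : (1 + N) * θ * (1 - N) - θ = N * θ - θ * N - N * θ * N := by noncomm_ring
  rw [hDeq] at hDmem
  obtain ⟨D, hD⟩ : ∃ D : Matrix ι ι F, D = N * θ - θ * N - N * θ * N := ⟨_, rfl⟩
  rw [← hD] at hDmem hDeq
  have hEmem : D - algebraMap F (Matrix ι ι F) (θ j i) ∈ K₀ :=
    K₀.sub_mem hDmem (K₀.algebraMap_mem _)
  have hDN : D * N = Matrix.single i j (θ j i) := by
    rw [hD, sub_mul, sub_mul, mul_assoc θ N N, hNN, mul_zero, mul_assoc (N * θ) N N, hNN,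
      mul_zero, sub_zero, sub_zero, hNθN]
  have hcN : algebraMap F (Matrix ι ι F) (θ j i) * N = Matrix.single i j (θ j i) := by
    rw [Algebra.algebraMap_eq_smul_one, smul_mul_assoc, one_mul, hN, Matrix.smul_single,
      smul_eq_mul, mul_one]
  have hEN : (D - algebraMap F (Matrix ι ι F) (θ j i)) * N = 0 := by
    rw [sub_mul, hDN, hcN, sub_self]
  have hE0 : D - algebraMap F (Matrix ι ι F) (θ j i) = 0 := by
    by_contra hne
    obtain ⟨y, _, hy⟩ := hinv _ hEmem hne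
    have hy' := mul_eq_one_comm.mp hy
    apply hN0
    calc N = (y * (D - algebraMap F (Matrix ι ι F) (θ j i))) * N := by rw [hy', one_mul]
      _ = 0 := by rw [mul_assoc, hEN, mul_zero]
  obtain ⟨l, hli, hlj⟩ := exists_third hcard i j
  have hDll : D l l = 0 := by
    rw [hD, Matrix.sub_apply, Matrix.sub_apply, hNθN, hN,
      Matrix.single_mul_apply_of_ne _ _ _ _ _ hli, Matrix.mul_single_apply_of_ne _ _ _ _ _ hlj,
      Matrix.single_apply_of_ne _ _ _ _ _ (by rintro ⟨h, _⟩; exact hli h.symm)]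
    simp
  have hc : θ j i = 0 := by
    have h := congrFun (congrFun (sub_eq_zero.mp hE0) l) l
    rw [hDll, Matrix.algebraMap_matrix_apply, if_pos rfl] at h
    simpa using h.symm
  have hD0 : D = 0 := by
    have := sub_eq_zero.mp hE0
    rw [this, hc, map_zero]
  have h1 : (1 + N) * θ * (1 - N) = θ := by
    have : (1 + N) * θ * (1 - N) - θ = 0 := by rw [hDeq]; exact hD0
    exact sub_eq_zero.mp this
  have h2 : (1 - N) * (1 + N) = 1 := by
    have : (1 - N) * (1 + N) = 1 - N * N := by noncomm_ring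
    rw [this, hNN, sub_zero]
  have h3 : (1 + N) * θ = θ * (1 + N) := by
    calc (1 + N) * θ = (1 + N) * θ * ((1 - N) * (1 + N)) := by rw [h2, mul_one]
      _ = ((1 + N) * θ * (1 - N)) * (1 + N) := by simp only [mul_assoc]
      _ = θ * (1 + N) := by rw [h1]
  have h4 : N * θ = θ * N := by
    have := h3
    rw [add_mul, mul_add, one_mul, mul_one] at this
    exact add_left_cancel this
  exact h4

/-- The unit `1 + N` for a square-zero matrix `N`. -/
def unip (N : Matrix ι ι F) (h : N * N = 0) : GL ι F :=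
  ⟨1 + N, 1 - N,
    by
      have : (1 + N) * (1 - N) = 1 - N * N := by noncomm_ring
      rw [this, h, sub_zero],
    by
      have : (1 - N) * (1 + N) = 1 - N * N := by noncomm_ring
      rw [this, h, sub_zero]⟩

theorem mem_SL_iff (g : GL ι F) :
    g ∈ Cfsg.Geo.specialLinear ι F ↔ (g : Matrix ι ι F).det = 1 := by
  unfold Cfsg.Geo.specialLinear
  rw [MonoidHom.mem_ker, Units.ext_iff, Matrix.GeneralLinearGroup.val_det_apply, Units.val_one]

theorem mat_ext {A B : Matrix ι ι F} (h : ∀ x, A *ᵥ x = B *ᵥ x) : A = B := by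
  apply Matrix.toLin'.injective
  apply LinearMap.ext
  intro x
  rw [Matrix.toLin'_apply, Matrix.toLin'_apply]; exact h x

theorem conj_of_comm {N k : Matrix ι ι F} (hNN : N * N = 0) (h : N * k = k * N) :
    (1 + N) * k * (1 - N) = k ∧ (1 - N) * k * (1 + N) = k := by
  have e1 : (1 + N) * k = k * (1 + N) := by rw [add_mul, mul_add, one_mul, mul_one, h]
  have e2 : (1 - N) * k = k * (1 - N) := by rw [sub_mul, mul_sub, one_mul, mul_one, h]
  have e3 : (1 + N) * (1 - N) = 1 := by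
    have : (1 + N) * (1 - N) = 1 - N * N := by noncomm_ring
    rw [this, hNN, sub_zero]
  have e4 : (1 - N) * (1 + N) = 1 := by
    have : (1 - N) * (1 + N) = 1 - N * N := by noncomm_ring
    rw [this, hNN, sub_zero]
  constructor
  · rw [e1, mul_assoc, e3, mul_one]
  · rw [e2, mul_assoc, e4, mul_one]

end lemmaA

section core
variable {ι : Type} [Fintype ι] [DecidableEq ι] {F : Type*} [Field F] [Fintype F]
variable {L : Type*} [Field L] [Algebra F L] [Finite L]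

theorem core (φ : L →ₐ[F] Matrix ι ι F) (s : ℕ) (hs1 : 1 < s)
    (hsr : s < Module.finrank F L) (hdvd : s ∣ Module.finrank F L)
    (hrn : Module.finrank F L < Fintype.card ι) :
    ∃ K₀ : Subalgebra F (Matrix ι ι F),
      (∀ x ∈ K₀, x ≠ 0 → ∃ y ∈ K₀, x * y = 1) ∧
      (∃ θ ∈ K₀, θ ∉ Set.range (Matrix.scalar ι)) ∧
      (Cfsg.Geo.subalgebraNormalizer φ.range ≤ Cfsg.Geo.subalgebraNormalizer K₀) ∧
      (∃ g : GL ι F, g ∈ Cfsg.Geo.subalgebraNormalizer K₀ ∧ g ∈ Cfsg.Geo.specialLinear ι F ∧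
        g ∉ Cfsg.Geo.subalgebraNormalizer φ.range) := by
  classical
  haveI : Fintype L := Fintype.ofFinite L
  obtain ⟨r, hr⟩ : ∃ r, Module.finrank F L = r := ⟨_, rfl⟩
  rw [hr] at hsr hdvd hrn
  obtain ⟨q, hq⟩ : ∃ q, Fintype.card F = q := ⟨_, rfl⟩
  have hq2 : 2 ≤ q := by rw [← hq]; exact Fintype.one_lt_card
  have hιne : Nonempty ι := by
    rw [← Fintype.card_pos_iff]; omega
  obtain ⟨i₀⟩ := hιne
  haveI : Nonempty ι := ⟨i₀⟩
  -- Frobenius
  let ψ : L →ₐ[F] L := (FiniteField.frobeniusAlgHom F L) ^ s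
  have hψ : ∀ x : L, ψ x = x ^ (q ^ s) := by
    intro x
    show ((FiniteField.frobeniusAlgHom F L) ^ s) x = _
    rw [AlgHom.coe_pow, FiniteField.coe_frobeniusAlgHom, pow_iterate, hq]
  have hφinj : Function.Injective φ := φ.toRingHom.injective
  have hψinj : Function.Injective ψ := ψ.toRingHom.injective
  let L₀ : Subalgebra F L := AlgHom.equalizer ψ (AlgHom.id F L)
  have hL₀ : ∀ a : L, a ∈ L₀ ↔ a ^ (q ^ s) = a := by
    intro a
    show a ∈ AlgHom.equalizer ψ (AlgHom.id F L) ↔ _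
    rw [AlgHom.mem_equalizer, hψ]; rfl
  let K₀ : Subalgebra F (Matrix ι ι F) := L₀.map φ
  have hK₀ : ∀ x : Matrix ι ι F, x ∈ K₀ ↔ x ∈ φ.range ∧ x ^ (q ^ s) = x := by
    intro x
    constructor
    · intro hx
      obtain ⟨a, ha, rfl⟩ := Subalgebra.mem_map.mp hx
      exact ⟨AlgHom.mem_range_self φ a, by rw [← map_pow, (hL₀ a).mp ha]⟩
    · rintro ⟨hx1, hx⟩
      obtain ⟨a, rfl⟩ := (AlgHom.mem_range φ).mp hx1
      refine Subalgebra.mem_map.mpr ⟨a, (hL₀ a).mpr ?_, rfl⟩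
      apply hφinj; rw [map_pow]; exact hx
  -- cyclic group
  have hcardL : Fintype.card L = q ^ r := by
    rw [← hq, ← hr]; exact Module.card_eq_pow_finrank (K := F) (V := L)
  obtain ⟨γ, hγ⟩ := IsCyclic.exists_generator (α := Lˣ)
  have hqs : q < q ^ s := by
    calc q = q ^ 1 := (pow_one q).symm
      _ < q ^ s := Nat.pow_lt_pow_right (by omega) hs1
  have hqsr : q ^ s < q ^ r := Nat.pow_lt_pow_right (by omega) hsr
  have hordγ : orderOf γ = q ^ r - 1 := by
    rw [orderOf_eq_card_of_forall_mem_zpowers hγ, Nat.card_eq_fintype_card, Fintype.card_units,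
      hcardL]
  obtain ⟨d, hd⟩ : ∃ d, d = q ^ s - 1 := ⟨_, rfl⟩
  obtain ⟨M, hM⟩ : ∃ M, M = q ^ r - 1 := ⟨_, rfl⟩
  have hdM : d ∣ M := by rw [hd, hM]; exact Nat.pow_sub_one_dvd_pow_sub_one q hdvd
  obtain ⟨e, he⟩ := hdM
  have hdpos : 0 < d := by omega
  have hMpos : 0 < M := by omega
  have hepos : 0 < e := by
    rcases Nat.eq_zero_or_pos e with h | h
    · rw [h, mul_zero] at he; omega
    · exact h
  have hqs1 : q ^ s = d + 1 := by omega
  rw [← hM] at hordγ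
  have hγd : (γ : L) ^ (q ^ s) ≠ (γ : L) := by
    intro h
    have h1 : γ ^ d ≠ 1 := pow_ne_one_of_lt_orderOf hdpos.ne' (by rw [hordγ]; omega)
    apply h1
    apply Units.ext
    rw [Units.val_pow_eq_pow_val, Units.val_one]
    rw [hqs1, pow_succ] at h
    exact mul_right_cancel₀ γ.ne_zero (by rw [h, one_mul])
  obtain ⟨a₀, ha₀⟩ : ∃ a₀ : L, a₀ = (γ : L) ^ e := ⟨_, rfl⟩
  have ha₀d : a₀ ^ d = 1 := by
    rw [ha₀, ← pow_mul, mul_comm, ← he, ← hordγ, ← Units.val_pow_eq_pow_val, pow_orderOf_eq_one,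
      Units.val_one]
  have ha₀L : a₀ ∈ L₀ := by
    rw [hL₀, hqs1, pow_succ, ha₀d, one_mul]
  have ha₀ne : a₀ ≠ 0 := by rw [ha₀]; exact pow_ne_zero _ γ.ne_zero
  have ha₀q : a₀ ^ (q - 1) ≠ 1 := by
    intro h
    have h1 : γ ^ (e * (q - 1)) ≠ 1 := by
      apply pow_ne_one_of_lt_orderOf
      · have : 0 < q - 1 := by omega
        exact (Nat.mul_pos hepos this).ne'
      · rw [hordγ, he, mul_comm d e]
        exact (Nat.mul_lt_mul_left hepos).mpr (by omega)
    apply h1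
    apply Units.ext
    rw [Units.val_pow_eq_pow_val, Units.val_one, pow_mul, ← ha₀]
    exact h
  have hθ₀ : φ a₀ ∉ Set.range (Matrix.scalar ι) := by
    rintro ⟨c, hc⟩
    have hc' : φ (algebraMap F L c) = φ a₀ := by
      rw [AlgHom.commutes, ← hc, Algebra.algebraMap_eq_smul_one, Matrix.smul_one_eq_diagonal,
        Matrix.scalar_apply]
    have hac := hφinj hc'
    have hc0 : c ≠ 0 := by
      rintro rfl
      rw [map_zero] at hac
      exact ha₀ne hac.symm
    apply ha₀q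
    have hfc := FiniteField.pow_card_sub_one_eq_one c hc0
    rw [hq] at hfc
    rw [← hac, ← map_pow, hfc, map_one]
  have hinv : ∀ x ∈ K₀, x ≠ 0 → ∃ y ∈ K₀, x * y = 1 := by
    intro x hx hx0
    obtain ⟨a, ha, rfl⟩ := Subalgebra.mem_map.mp hx
    have ha0 : a ≠ 0 := by rintro rfl; exact hx0 (map_zero φ)
    refine ⟨φ a⁻¹, Subalgebra.mem_map.mpr ⟨a⁻¹, ?_, rfl⟩, ?_⟩
    · rw [hL₀, inv_pow, (hL₀ a).mp ha]
    · rw [← map_mul, mul_inv_cancel₀ ha0, map_one]
  have hNle : Cfsg.Geo.subalgebraNormalizer φ.range ≤ Cfsg.Geo.subalgebraNormalizer K₀ := by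
    intro g hg
    have hg' : ∀ k : Matrix ι ι F, k ∈ φ.range ↔
        (g : Matrix ι ι F) * k * ((g⁻¹ : GL ι F) : Matrix ι ι F) ∈ φ.range := hg
    show ∀ k : Matrix ι ι F, k ∈ K₀ ↔
        (g : Matrix ι ι F) * k * ((g⁻¹ : GL ι F) : Matrix ι ι F) ∈ K₀
    intro k
    rw [hK₀, hK₀, Units.conj_pow]
    constructor
    · rintro ⟨h1, h2⟩; exact ⟨(hg' k).mp h1, by rw [h2]⟩
    · rintro ⟨h1, h2⟩
      refine ⟨(hg' k).mpr h1, ?_⟩
      have h3 : ((g⁻¹ : GL ι F) : Matrix ι ι F) * ((g : Matrix ι ι F) * k ^ (q ^ s) *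
          ((g⁻¹ : GL ι F) : Matrix ι ι F)) * (g : Matrix ι ι F) =
          ((g⁻¹ : GL ι F) : Matrix ι ι F) * ((g : Matrix ι ι F) * k *
          ((g⁻¹ : GL ι F) : Matrix ι ι F)) * (g : Matrix ι ι F) := by rw [h2]
      simpa [mul_assoc] using h3
  -- vectors
  let v₂ : ι → F := Pi.single i₀ 1
  have hv₂ : v₂ ≠ 0 := by
    intro h
    have := congrFun h i₀
    simp [v₂] at this
  let T : L →ₗ[F] (ι → F) :=
    (LinearMap.applyₗ v₂ : ((ι → F) →ₗ[F] (ι → F)) →ₗ[F] (ι → F)) ∘ₗ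
      ((Matrix.toLin' : Matrix ι ι F ≃ₗ[F] _).toLinearMap ∘ₗ φ.toLinearMap)
  have hT : ∀ k : L, T k = φ k *ᵥ v₂ := fun k => by
    simp [T, Matrix.toLin'_apply]
  have hrange : ∃ v₁ : ι → F, v₁ ∉ LinearMap.range T := by
    by_contra h
    push Not at h
    have htop : LinearMap.range T = ⊤ := Submodule.eq_top_iff'.mpr h
    have h1 := LinearMap.finrank_range_le T
    rw [htop, finrank_top, Module.finrank_fintype_fun_eq_card, hr] at h1
    omega
  obtain ⟨v₁, hv₁⟩ := hrange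
  let ρ : L →+* Module.End F (ι → F) :=
    ((Matrix.toLinAlgEquiv' : Matrix ι ι F ≃ₐ[F] Module.End F (ι → F)).toAlgHom.comp φ).toRingHom
  letI modL : Module L (ι → F) := Module.compHom (ι → F) ρ
  have hsmul : ∀ (k : L) (v : ι → F), k • v = φ k *ᵥ v := fun k v => by
    show ρ k v = _
    simp [ρ, Matrix.toLinAlgEquiv'_apply]
  haveI tower : IsScalarTower F L (ι → F) := ⟨fun c k v => by
    rw [hsmul, hsmul, map_smul, Matrix.smul_mulVec]⟩
  have hv₁span : v₁ ∉ Submodule.span L ({v₂} : Set (ι → F)) := by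
    intro h
    obtain ⟨k, hk⟩ := Submodule.mem_span_singleton.mp h
    exact hv₁ ⟨k, by rw [hT, ← hsmul, hk]⟩
  obtain ⟨f, hf1, hf2⟩ := Submodule.exists_le_ker_of_notMem hv₁span
  have hfv₂ : f v₂ = 0 := LinearMap.mem_ker.mp (hf2 (Submodule.mem_span_singleton_self v₂))
  have hfsmul : ∀ (k : L) (x : ι → F), f (φ k *ᵥ x) = k * f x := by
    intro k x; rw [← hsmul, map_smul, smul_eq_mul]
  let Nl : (ι → F) →ₗ[F] (ι → F) := T ∘ₗ (ψ.toLinearMap ∘ₗ (f.restrictScalars F))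
  have hNl : ∀ x, Nl x = φ (ψ (f x)) *ᵥ v₂ := fun x => by
    show T (ψ (f x)) = _
    rw [hT]
  let Nm : Matrix ι ι F := LinearMap.toMatrix' Nl
  have hNm : ∀ x, Nm *ᵥ x = φ (ψ (f x)) *ᵥ v₂ := by
    intro x
    rw [← hNl, ← Matrix.toLin'_apply, Matrix.toLin'_toMatrix']
  have hNN : Nm * Nm = 0 := by
    apply mat_ext
    intro x
    rw [← Matrix.mulVec_mulVec, hNm x, hNm, hfsmul, hfv₂, mul_zero, map_zero, map_zero,
      Matrix.zero_mulVec, Matrix.zero_mulVec]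
  have hcomm : ∀ c : L, c ∈ L₀ → Nm * φ c = φ c * Nm := by
    intro c hc
    have hψc : ψ c = c := by rw [hψ]; exact (hL₀ c).mp hc
    apply mat_ext
    intro x
    rw [← Matrix.mulVec_mulVec, ← Matrix.mulVec_mulVec, hNm, hNm, hfsmul, map_mul, hψc, map_mul,
      Matrix.mulVec_mulVec]
  have hgK₀ : unip Nm hNN ∈ Cfsg.Geo.subalgebraNormalizer K₀ := by
    show ∀ k : Matrix ι ι F, k ∈ K₀ ↔ (1 + Nm) * k * (1 - Nm) ∈ K₀
    intro k
    have key : ∀ k' ∈ K₀, (1 + Nm) * k' * (1 - Nm) = k' ∧ (1 - Nm) * k' * (1 + Nm) = k' := by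
      intro k' hk'
      obtain ⟨c, hc, rfl⟩ := Subalgebra.mem_map.mp hk'
      exact conj_of_comm hNN (hcomm c hc)
    constructor
    · intro hk; rw [(key k hk).1]; exact hk
    · intro hk
      have h1 := (key _ hk).2
      have e3 : (1 - Nm) * (1 + Nm) = 1 := by
        have : (1 - Nm) * (1 + Nm) = 1 - Nm * Nm := by noncomm_ring
        rw [this, hNN, sub_zero]
      have h2 : (1 - Nm) * ((1 + Nm) * k * (1 - Nm)) * (1 + Nm) = k := by
        calc (1 - Nm) * ((1 + Nm) * k * (1 - Nm)) * (1 + Nm)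
            = ((1 - Nm) * (1 + Nm)) * k * ((1 - Nm) * (1 + Nm)) := by simp only [mul_assoc]
          _ = k := by rw [e3, one_mul, mul_one]
      rw [h2] at h1
      rw [h1]; exact hk
  obtain ⟨p, hp⟩ := CharP.exists F
  haveI := hp
  have hpp : p.Prime := CharP.char_is_prime F p
  haveI : Fact p.Prime := ⟨hpp⟩
  have hgSL : unip Nm hNN ∈ Cfsg.Geo.specialLinear ι F := by
    rw [mem_SL_iff]
    show (1 + Nm).det = 1
    have h1 : (1 + Nm) ^ p = 1 := by
      rw [add_pow_char_of_commute p (Commute.one_left Nm), one_pow]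
      have : Nm ^ p = 0 := pow_eq_zero_of_le hpp.two_le (by rw [pow_two]; exact hNN)
      rw [this, add_zero]
    have h2 : ((1 + Nm).det) ^ p = 1 := by rw [← Matrix.det_pow, h1, Matrix.det_one]
    have h3 : ((1 + Nm).det - 1) ^ p = 0 := by rw [sub_pow_char, h2, one_pow, sub_self]
    exact sub_eq_zero.mp ((pow_eq_zero_iff hpp.ne_zero).mp h3)
  have hfaith : ∀ k : L, φ k *ᵥ v₂ = 0 → k = 0 := by
    intro k hk
    by_contra hk0
    apply hv₂
    calc v₂ = φ (k⁻¹ * k) *ᵥ v₂ := by rw [inv_mul_cancel₀ hk0, map_one, Matrix.one_mulVec]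
      _ = φ k⁻¹ *ᵥ (φ k *ᵥ v₂) := by rw [map_mul, Matrix.mulVec_mulVec]
      _ = 0 := by rw [hk, Matrix.mulVec_zero]
  have hgK : unip Nm hNN ∉ Cfsg.Geo.subalgebraNormalizer φ.range := by
    intro hg
    have hg' : ∀ k : Matrix ι ι F, k ∈ φ.range ↔ (1 + Nm) * k * (1 - Nm) ∈ φ.range := hg
    obtain ⟨b, hb⟩ := (AlgHom.mem_range φ).mp ((hg' (φ γ)).mp (AlgHom.mem_range_self φ _))
    have e3 : (1 - Nm) * (1 + Nm) = 1 := by
      have : (1 - Nm) * (1 + Nm) = 1 - Nm * Nm := by noncomm_ring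
      rw [this, hNN, sub_zero]
    have h3 : φ b * (1 + Nm) = (1 + Nm) * φ γ := by
      rw [hb, mul_assoc, e3, mul_one]
    have hNv₂ : Nm *ᵥ v₂ = 0 := by
      rw [hNm, hfv₂, map_zero, map_zero, Matrix.zero_mulVec]
    have hNγv₂ : Nm *ᵥ (φ γ *ᵥ v₂) = 0 := by
      rw [hNm, hfsmul, hfv₂, mul_zero, map_zero, map_zero, Matrix.zero_mulVec]
    have h4 : φ b *ᵥ v₂ = φ γ *ᵥ v₂ := by
      have e1 : (φ b * (1 + Nm)) *ᵥ v₂ = φ b *ᵥ v₂ := by
        rw [← Matrix.mulVec_mulVec, Matrix.add_mulVec, Matrix.one_mulVec, hNv₂, add_zero]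
      have e2 : ((1 + Nm) * φ γ) *ᵥ v₂ = φ γ *ᵥ v₂ := by
        rw [← Matrix.mulVec_mulVec, Matrix.add_mulVec, Matrix.one_mulVec, hNγv₂, add_zero]
      rw [← e1, h3, e2]
    have hbγ : b = γ := by
      have : φ (b - γ) *ᵥ v₂ = 0 := by rw [map_sub, Matrix.sub_mulVec, h4, sub_self]
      exact sub_eq_zero.mp (hfaith _ this)
    rw [hbγ] at h3
    have h5 : φ γ * Nm = Nm * φ γ := by
      rw [mul_add, add_mul, mul_one, one_mul] at h3; exact add_left_cancel h3
    have e3' : (φ γ * Nm) *ᵥ v₁ = φ ((γ : L) * ψ (f v₁)) *ᵥ v₂ := by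
      rw [← Matrix.mulVec_mulVec, hNm, Matrix.mulVec_mulVec, ← map_mul]
    have e4 : (Nm * φ γ) *ᵥ v₁ = φ (ψ (γ : L) * ψ (f v₁)) *ᵥ v₂ := by
      rw [← Matrix.mulVec_mulVec, hNm, hfsmul, map_mul]
    have e5 : φ (((γ : L) - ψ γ) * ψ (f v₁)) *ᵥ v₂ = 0 := by
      rw [sub_mul, map_sub, Matrix.sub_mulVec, ← e3', ← e4, h5, sub_self]
    have e6 := hfaith _ e5
    rcases mul_eq_zero.mp e6 with h | h
    · exact hγd (by rw [← hψ]; exact (sub_eq_zero.mp h).symm)
    · exact hf1 (hψinj (by rw [h, map_zero]))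
  exact ⟨K₀, hinv, ⟨φ a₀, Subalgebra.mem_map.mpr ⟨a₀, ha₀L, rfl⟩, hθ₀⟩, hNle, unip Nm hNN, hgK₀,
    hgSL, hgK⟩

end core

theorem main {F : Type*} [Field F] [Fintype F] (n r : ℕ) (hr1 : 1 < r) (hrp : ¬ r.Prime)
    (hrn : r ∣ n) (hlt : r < n)
    (K : Subalgebra F (Matrix (Fin n) (Fin n) F)) (hK : Cfsg.Geo.IsFieldSubalgebra r K) :
    ¬ IsCoatom (Cfsg.Geo.subalgebraNormalizer K) ∧
      ¬ Cfsg.Geo.IsMaximalIn (Cfsg.Geo.specialLinear (Fin n) F)
        (Cfsg.Geo.subalgebraNormalizer K ⊓ Cfsg.Geo.specialLinear (Fin n) F) := by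
  classical
  have hn3 : 2 < Fintype.card (Fin n) := by rw [Fintype.card_fin]; omega
  haveI : Nonempty (Fin n) := ⟨⟨0, by omega⟩⟩
  have hfield : IsField ↥K :=
    { exists_pair_ne := ⟨0, 1, fun h => by
        have h' : ((0 : ↥K) : Matrix (Fin n) (Fin n) F) = ((1 : ↥K) : Matrix (Fin n) (Fin n) F) :=
          congrArg Subtype.val h
        exact zero_ne_one h'⟩
      mul_comm := fun x y => Subtype.ext (hK.comm x.1 x.2 y.1 y.2)
      mul_inv_cancel := fun {a} ha => by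
        obtain ⟨y, hy, hxy⟩ := hK.inv a.1 a.2 (fun h => ha (Subtype.ext h))
        exact ⟨⟨y, hy⟩, Subtype.ext hxy⟩ }
  letI fld : Field ↥K := hfield.toField
  haveI : Finite ↥K := Subtype.finite
  obtain ⟨s, hs⟩ : ∃ s, s = r.minFac := ⟨_, rfl⟩
  have hsp : s.Prime := by rw [hs]; exact Nat.minFac_prime (by omega)
  have hs1 : 1 < s := hsp.one_lt
  have hsd : s ∣ r := by rw [hs]; exact Nat.minFac_dvd r
  have hsr : s < r := by
    rcases lt_or_eq_of_le (by rw [hs]; exact Nat.minFac_le (by omega : 0 < r) : s ≤ r) with h | h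
    · exact h
    · exfalso; apply hrp; rw [← h]; exact hsp
  have hfin : Module.finrank F ↥K = r := hK.finrank_eq
  obtain ⟨K₀, hinv, ⟨θ, hθK₀, hθ⟩, hNle, g, hgK₀, hgSL, hgK⟩ :=
    @core (Fin n) _ _ F _ _ ↥K fld (Subalgebra.algebra K) _ K.val s hs1
      (hsr.trans_eq hfin.symm) (hsd.trans (dvd_of_eq hfin.symm))
      (lt_of_eq_of_lt hfin (by rw [Fintype.card_fin]; exact hlt))
  rw [Subalgebra.range_val] at hNle hgK
  have htr : ∃ t : GL (Fin n) F, t ∈ Cfsg.Geo.specialLinear (Fin n) F ∧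
      t ∉ Cfsg.Geo.subalgebraNormalizer K₀ := by
    by_contra hcon
    push Not at hcon
    apply hθ
    refine scalar_of_transvection_invariant K₀ hinv hn3 ?_ hθK₀
    intro i j hij k hk
    have hNN : Matrix.single i j (1 : F) * Matrix.single i j (1 : F) = 0 :=
      Matrix.single_mul_single_of_ne (1 : F) i j i hij.symm (1 : F)
    have ht := hcon (unip _ hNN) (by
      rw [mem_SL_iff]
      show (1 + Matrix.single i j (1 : F)).det = 1
      exact Matrix.det_transvection_of_ne i j hij 1)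
    exact ((show ∀ k : Matrix (Fin n) (Fin n) F, k ∈ K₀ ↔
      (1 + Matrix.single i j (1 : F)) * k * (1 - Matrix.single i j (1 : F)) ∈ K₀ from ht) k).mp hk
  obtain ⟨t, htSL, htK₀⟩ := htr
  constructor
  · rintro ⟨_, hmax⟩
    have hlt' : Cfsg.Geo.subalgebraNormalizer K < Cfsg.Geo.subalgebraNormalizer K₀ :=
      lt_of_le_of_ne hNle (fun h => hgK (by rw [h]; exact hgK₀))
    have htop := hmax _ hlt'
    exact htK₀ (by rw [htop]; exact Subgroup.mem_top t)
  · rintro ⟨_, hmax⟩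
    rcases hmax (Cfsg.Geo.subalgebraNormalizer K₀ ⊓ Cfsg.Geo.specialLinear (Fin n) F)
        (inf_le_inf_right _ hNle) inf_le_right with h | h
    · have hg2 : g ∈ Cfsg.Geo.subalgebraNormalizer K₀ ⊓ Cfsg.Geo.specialLinear (Fin n) F :=
        Subgroup.mem_inf.mpr ⟨hgK₀, hgSL⟩
      rw [h] at hg2
      exact hgK (Subgroup.mem_inf.mp hg2).1
    · have ht2 : t ∈ Cfsg.Geo.specialLinear (Fin n) F := htSL
      rw [← h] at ht2
      exact htK₀ (Subgroup.mem_inf.mp ht2).1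

end Cfsg.Agent.Lib.Lead.ExtField
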