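import Mathlib
import Cfsg.Prelude.Def_KGroupFacts
import Cfsg.Prelude.Def_CaseTheorems
import Cfsg.Agent.Lib.Helper4.C48L34Stem

/-!
Fibre products of stem extensions: two perfect stem extensions of the same group whose kernels have the
largest possible order among stem extensions with kernels of a given kind are isomorphic.  Application:
uniqueness of the quasisimple group with centre elementary abelian of order 4 over the projective special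
linear group of degree 3 over a field with 4 elements.
-/

set_option autoImplicit false

namespace Cfsg.Agent.Lib.Lead.FibreCover

open Cfsg Cfsg.Agent.Lib.Helper4.Stem
open scoped commutatorElement

universe u₁ u₂ v w

section fibre

variable {L₁ : Type u₁} {L₂ : Type u₂} {G : Type v} [Group L₁] [Group L₂] [Group G]
  (σ₁ : L₁ →* G) (σ₂ : L₂ →* G)

/-- the fibre product of two homomorphisms into the same group -/
def fib : Subgroup (L₁ × L₂) :=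
  (σ₁.comp (MonoidHom.fst L₁ L₂)).eqLocus (σ₂.comp (MonoidHom.snd L₁ L₂))

theorem mem_fib (x : L₁ × L₂) : x ∈ fib σ₁ σ₂ ↔ σ₁ x.1 = σ₂ x.2 := Iff.rfl

/-- the commutator subgroup of the fibre product -/
def PP : Subgroup (L₁ × L₂) := ⁅fib σ₁ σ₂, fib σ₁ σ₂⁆

theorem PP_le_fib : PP σ₁ σ₂ ≤ fib σ₁ σ₂ := Subgroup.commutator_le_self _

theorem exists_fst (h₂ : Function.Surjective σ₂) (hp : commutator L₁ = ⊤) (a : L₁) :
    ∃ b : L₂, (a, b) ∈ PP σ₁ σ₂ := by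
  have hS : commutator L₁ ≤ (PP σ₁ σ₂).map (MonoidHom.fst L₁ L₂) := by
    rw [commutator_def, Subgroup.commutator_le]
    intro a _ a' _
    obtain ⟨b, hb⟩ := h₂ (σ₁ a)
    obtain ⟨b', hb'⟩ := h₂ (σ₁ a')
    have h1 : ((a, b) : L₁ × L₂) ∈ fib σ₁ σ₂ := (mem_fib σ₁ σ₂ _).2 hb.symm
    have h2 : ((a', b') : L₁ × L₂) ∈ fib σ₁ σ₂ := (mem_fib σ₁ σ₂ _).2 hb'.symm
    refine ⟨⁅((a, b) : L₁ × L₂), (a', b')⁆, Subgroup.commutator_mem_commutator h1 h2, ?_⟩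
    rw [map_commutatorElement]
    rfl
  have ha : a ∈ (PP σ₁ σ₂).map (MonoidHom.fst L₁ L₂) := hS (by rw [hp]; exact Subgroup.mem_top a)
  obtain ⟨x, hx, hxa⟩ := ha
  refine ⟨x.2, ?_⟩
  have : (a, x.2) = x := by rw [← hxa]; rfl
  rw [this]
  exact hx

theorem exists_snd (h₁ : Function.Surjective σ₁) (hp : commutator L₂ = ⊤) (b : L₂) :
    ∃ a : L₁, (a, b) ∈ PP σ₁ σ₂ := by
  have hS : commutator L₂ ≤ (PP σ₁ σ₂).map (MonoidHom.snd L₁ L₂) := by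
    rw [commutator_def, Subgroup.commutator_le]
    intro b _ b' _
    obtain ⟨a, ha⟩ := h₁ (σ₂ b)
    obtain ⟨a', ha'⟩ := h₁ (σ₂ b')
    have h1 : ((a, b) : L₁ × L₂) ∈ fib σ₁ σ₂ := (mem_fib σ₁ σ₂ _).2 ha
    have h2 : ((a', b') : L₁ × L₂) ∈ fib σ₁ σ₂ := (mem_fib σ₁ σ₂ _).2 ha'
    refine ⟨⁅((a, b) : L₁ × L₂), (a', b')⁆, Subgroup.commutator_mem_commutator h1 h2, ?_⟩
    rw [map_commutatorElement]
    rfl
  have hb : b ∈ (PP σ₁ σ₂).map (MonoidHom.snd L₁ L₂) := hS (by rw [hp]; exact Subgroup.mem_top b)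
  obtain ⟨x, hx, hxb⟩ := hb
  refine ⟨x.1, ?_⟩
  have : (x.1, b) = x := by rw [← hxb]; rfl
  rw [this]
  exact hx

theorem central_of_ker (hc₁ : σ₁.ker ≤ Subgroup.center L₁) (hc₂ : σ₂.ker ≤ Subgroup.center L₂)
    (x : L₁ × L₂) (hx : x ∈ fib σ₁ σ₂) (h1 : σ₁ x.1 = 1) : ∀ w : L₁ × L₂, w * x = x * w := by
  have h2 : σ₂ x.2 = 1 := by rw [← (mem_fib σ₁ σ₂ x).1 hx]; exact h1
  have e1 := Subgroup.mem_center_iff.1 (hc₁ (MonoidHom.mem_ker.2 h1))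
  have e2 := Subgroup.mem_center_iff.1 (hc₂ (MonoidHom.mem_ker.2 h2))
  intro w
  exact Prod.ext (e1 w.1) (e2 w.2)

theorem PP_perfect (h₂ : Function.Surjective σ₂) (hp : commutator L₁ = ⊤)
    (hc₁ : σ₁.ker ≤ Subgroup.center L₁) (hc₂ : σ₂.ker ≤ Subgroup.center L₂) :
    ⁅PP σ₁ σ₂, PP σ₁ σ₂⁆ = PP σ₁ σ₂ := by
  apply le_antisymm (Subgroup.commutator_le_self _)
  have hdec : ∀ x ∈ fib σ₁ σ₂, ∃ y ∈ PP σ₁ σ₂, ∃ z : L₁ × L₂,
      (∀ w, w * z = z * w) ∧ x = y * z := by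
    intro x hx
    obtain ⟨b, hb⟩ := exists_fst σ₁ σ₂ h₂ hp x.1
    refine ⟨(x.1, b), hb, (x.1, b)⁻¹ * x, ?_, (mul_inv_cancel_left _ _).symm⟩
    have hz : (x.1, b)⁻¹ * x ∈ fib σ₁ σ₂ :=
      (fib σ₁ σ₂).mul_mem ((fib σ₁ σ₂).inv_mem (PP_le_fib σ₁ σ₂ hb)) hx
    apply central_of_ker σ₁ σ₂ hc₁ hc₂ _ hz
    show σ₁ ((x.1)⁻¹ * x.1) = 1
    rw [inv_mul_cancel, map_one]
  show ⁅fib σ₁ σ₂, fib σ₁ σ₂⁆ ≤ _
  rw [Subgroup.commutator_le]
  intro x hx x' hx'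
  obtain ⟨y, hy, z, hz, rfl⟩ := hdec x hx
  obtain ⟨y', hy', z', hz', rfl⟩ := hdec x' hx'
  rw [comm_mul_central_left y z _ hz, comm_mul_central_right y y' z' hz']
  exact Subgroup.commutator_mem_commutator hy hy'

/-- first projection -/
def pr₁ : ↥(PP σ₁ σ₂) →* L₁ := (MonoidHom.fst L₁ L₂).comp (PP σ₁ σ₂).subtype

/-- second projection -/
def pr₂ : ↥(PP σ₁ σ₂) →* L₂ := (MonoidHom.snd L₁ L₂).comp (PP σ₁ σ₂).subtype

/-- the common map to the base -/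
def tau : ↥(PP σ₁ σ₂) →* G := σ₁.comp (pr₁ σ₁ σ₂)

theorem pr₁_surj (h₂ : Function.Surjective σ₂) (hp : commutator L₁ = ⊤) :
    Function.Surjective (pr₁ σ₁ σ₂) := by
  intro a
  obtain ⟨b, hb⟩ := exists_fst σ₁ σ₂ h₂ hp a
  exact ⟨⟨(a, b), hb⟩, rfl⟩

theorem pr₂_surj (h₁ : Function.Surjective σ₁) (hp : commutator L₂ = ⊤) :
    Function.Surjective (pr₂ σ₁ σ₂) := by
  intro b
  obtain ⟨a, ha⟩ := exists_snd σ₁ σ₂ h₁ hp b
  exact ⟨⟨(a, b), ha⟩, rfl⟩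

theorem tau_stem (h₁ : Function.Surjective σ₁) (h₂ : Function.Surjective σ₂)
    (hp : commutator L₁ = ⊤)
    (hc₁ : σ₁.ker ≤ Subgroup.center L₁) (hc₂ : σ₂.ker ≤ Subgroup.center L₂) :
    IsStemExtension (tau σ₁ σ₂) := by
  refine ⟨h₁.comp (pr₁_surj σ₁ σ₂ h₂ hp), ?_, ?_⟩
  · intro x hx
    rw [Subgroup.mem_center_iff]
    intro w
    have h1 : σ₁ (x : L₁ × L₂).1 = 1 := MonoidHom.mem_ker.1 hx
    have := central_of_ker σ₁ σ₂ hc₁ hc₂ (x : L₁ × L₂) (PP_le_fib σ₁ σ₂ x.2) h1 (w : L₁ × L₂)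
    exact Subtype.ext this
  · intro x _
    have hperf : Group.IsPerfect ↥(PP σ₁ σ₂) :=
      Subgroup.isPerfect_iff.2 (PP_perfect σ₁ σ₂ h₂ hp hc₁ hc₂)
    rw [Group.isPerfect_def.1 hperf]
    exact Subgroup.mem_top x

theorem tau_ker_sq (he₁ : ∀ a ∈ σ₁.ker, a * a = 1) (he₂ : ∀ b ∈ σ₂.ker, b * b = 1)
    (x : ↥(PP σ₁ σ₂)) (hx : x ∈ (tau σ₁ σ₂).ker) : x * x = 1 := by
  have h1 : σ₁ (x : L₁ × L₂).1 = 1 := MonoidHom.mem_ker.1 hx
  have h2 : σ₂ (x : L₁ × L₂).2 = 1 := by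
    rw [← (mem_fib σ₁ σ₂ _).1 (PP_le_fib σ₁ σ₂ x.2)]; exact h1
  apply Subtype.ext
  exact Prod.ext (he₁ _ (MonoidHom.mem_ker.2 h1)) (he₂ _ (MonoidHom.mem_ker.2 h2))

theorem nonempty_mulEquiv [Finite L₁] [Finite L₂]
    (h₁ : Function.Surjective σ₁) (h₂ : Function.Surjective σ₂)
    (hp₁ : commutator L₁ = ⊤) (hp₂ : commutator L₂ = ⊤)
    (c : ℕ) (hcpos : 0 < c) (hk₁ : Nat.card σ₁.ker = c) (hk₂ : Nat.card σ₂.ker = c)
    (hbound : Nat.card (tau σ₁ σ₂).ker ≤ c) : Nonempty (L₁ ≃* L₂) := by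
  haveI : Finite G := Finite.of_surjective σ₁ h₁
  have hs₁ := pr₁_surj σ₁ σ₂ h₂ hp₁
  have hs₂ := pr₂_surj σ₁ σ₂ h₁ hp₂
  have hτ : Function.Surjective (tau σ₁ σ₂) := h₁.comp hs₁
  have hτ2 : Function.Surjective (σ₂.comp (pr₂ σ₁ σ₂)) := h₂.comp hs₂
  have hτeq : σ₂.comp (pr₂ σ₁ σ₂) = tau σ₁ σ₂ := by
    ext x
    exact ((mem_fib σ₁ σ₂ _).1 (PP_le_fib σ₁ σ₂ x.2)).symm
  have e0 := card_eq_of_stem (tau σ₁ σ₂) hτ
  have e1 := card_eq_of_stem (pr₁ σ₁ σ₂) hs₁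
  have e1' := card_eq_of_stem σ₁ h₁
  have e2 := card_eq_of_stem (pr₂ σ₁ σ₂) hs₂
  have e2' := card_eq_of_stem σ₂ h₂
  have hGpos : 0 < Nat.card G := Nat.card_pos
  have k1 : Nat.card (pr₁ σ₁ σ₂).ker = 1 := by
    have h3 : Nat.card G * (c * Nat.card (pr₁ σ₁ σ₂).ker) =
        Nat.card G * Nat.card (tau σ₁ σ₂).ker := by
      rw [← e0, e1, e1', hk₁, mul_assoc]
    have h4 := Nat.eq_of_mul_eq_mul_left hGpos h3
    have hkpos : 0 < Nat.card (pr₁ σ₁ σ₂).ker := Nat.card_pos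
    have h5 : c * Nat.card (pr₁ σ₁ σ₂).ker ≤ c * 1 := by rw [h4, mul_one]; exact hbound
    exact le_antisymm (Nat.le_of_mul_le_mul_left h5 hcpos) hkpos
  have k2 : Nat.card (pr₂ σ₁ σ₂).ker = 1 := by
    have h3 : Nat.card G * (c * Nat.card (pr₂ σ₁ σ₂).ker) =
        Nat.card G * Nat.card (tau σ₁ σ₂).ker := by
      rw [← e0, e2, e2', hk₂, mul_assoc]
    have h4 := Nat.eq_of_mul_eq_mul_left hGpos h3
    have hkpos : 0 < Nat.card (pr₂ σ₁ σ₂).ker := Nat.card_pos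
    have h5 : c * Nat.card (pr₂ σ₁ σ₂).ker ≤ c * 1 := by rw [h4, mul_one]; exact hbound
    exact le_antisymm (Nat.le_of_mul_le_mul_left h5 hcpos) hkpos
  have i1 : Function.Injective (pr₁ σ₁ σ₂) :=
    (MonoidHom.ker_eq_bot_iff _).1 (Subgroup.card_eq_one.1 k1)
  have i2 : Function.Injective (pr₂ σ₁ σ₂) :=
    (MonoidHom.ker_eq_bot_iff _).1 (Subgroup.card_eq_one.1 k2)
  exact ⟨(MulEquiv.ofBijective (pr₁ σ₁ σ₂) ⟨i1, hs₁⟩).symm.trans
    (MulEquiv.ofBijective (pr₂ σ₁ σ₂) ⟨i2, hs₂⟩)⟩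

end fibre

/-- composing a stem extension with an isomorphism of the extension group -/
theorem stem_comp_equiv {Γ' : Type*} {Γ : Type*} {G : Type*} [Group Γ'] [Group Γ] [Group G]
    (τ : Γ →* G) (e : Γ' ≃* Γ) (hτ : IsStemExtension τ) :
    IsStemExtension (τ.comp e.toMonoidHom) := by
  obtain ⟨hs, hc, hd⟩ := hτ
  have hker : ∀ x : Γ', x ∈ (τ.comp e.toMonoidHom).ker ↔ e x ∈ τ.ker := by
    intro x
    rw [MonoidHom.mem_ker, MonoidHom.mem_ker]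
    rfl
  refine ⟨?_, ?_, ?_⟩
  · intro g
    obtain ⟨x, rfl⟩ := hs g
    exact ⟨e.symm x, by show τ (e (e.symm x)) = τ x; rw [MulEquiv.apply_symm_apply]⟩
  · intro x hx
    rw [Subgroup.mem_center_iff]
    intro y
    have := Subgroup.mem_center_iff.1 (hc ((hker x).1 hx)) (e y)
    apply e.injective
    rw [map_mul, map_mul, this]
  · intro x hx
    have h1 := hd ((hker x).1 hx)
    have h2 : (commutator Γ).map e.symm.toMonoidHom ≤ commutator Γ' := by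
      rw [commutator_def, Subgroup.map_commutator, commutator_def]
      exact Subgroup.commutator_mono le_top le_top
    have h3 : e.symm (e x) ∈ commutator Γ' := h2 ⟨e x, h1, rfl⟩
    rwa [MulEquiv.symm_apply_apply] at h3

theorem card_le_four_of_surj {E : Type*} [Group E] (hsq : ∀ w : E, w * w = 1)
    (π : Multiplicative (ZMod 3 × ZMod 4 × ZMod 4) →* E) (hπ : Function.Surjective π) :
    Nat.card E ≤ 4 := by
  let f : Fin 2 × Fin 2 → E := fun ij =>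
    π (Multiplicative.ofAdd ((0 : ZMod 3), ((ij.1 : ℕ) : ZMod 4), ((ij.2 : ℕ) : ZMod 4)))
  have hf : Function.Surjective f := by
    intro w
    obtain ⟨x, rfl⟩ := hπ w
    have key : ∀ y : ZMod 3 × ZMod 4 × ZMod 4,
        y = ((0 : ZMod 3), ((y.2.1.val % 2 : ℕ) : ZMod 4), ((y.2.2.val % 2 : ℕ) : ZMod 4))
          + (2 * y.1, ((y.2.1.val / 2 : ℕ) : ZMod 4), ((y.2.2.val / 2 : ℕ) : ZMod 4))
          + (2 * y.1, ((y.2.1.val / 2 : ℕ) : ZMod 4), ((y.2.2.val / 2 : ℕ) : ZMod 4)) := by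
      decide
    set y := Multiplicative.toAdd x with hy
    refine ⟨(⟨y.2.1.val % 2, Nat.mod_lt _ (by norm_num)⟩, ⟨y.2.2.val % 2, Nat.mod_lt _ (by norm_num)⟩), ?_⟩
    have hx : x = Multiplicative.ofAdd
          ((0 : ZMod 3), ((y.2.1.val % 2 : ℕ) : ZMod 4), ((y.2.2.val % 2 : ℕ) : ZMod 4))
        * Multiplicative.ofAdd (2 * y.1, ((y.2.1.val / 2 : ℕ) : ZMod 4), ((y.2.2.val / 2 : ℕ) : ZMod 4))
        * Multiplicative.ofAdd (2 * y.1, ((y.2.1.val / 2 : ℕ) : ZMod 4), ((y.2.2.val / 2 : ℕ) : ZMod 4)) := by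
      rw [← ofAdd_add, ← ofAdd_add, ← key y]
      rfl
    show π _ = π x
    conv_rhs => rw [hx]
    rw [map_mul, map_mul, mul_assoc, hsq, mul_one]
  calc Nat.card E ≤ Nat.card (Fin 2 × Fin 2) := Nat.card_le_card_of_surjective f hf
    _ = 4 := by rw [Nat.card_prod, Nat.card_fin]

/-- if the multiplier of `G` is `3 × 4 × 4`, a finite stem extension of `G` whose kernel has exponent
dividing 2 has kernel of order at most 4 (any universe) -/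
theorem card_ker_le_of_hasMult {G : Type v} [Group G] {Γ : Type w} [Group Γ] [Finite Γ] (τ : Γ →* G)
    (hτ : IsStemExtension τ) (hsq : ∀ x ∈ τ.ker, x * x = 1)
    (hm : HasSchurMultiplier G (Multiplicative (ZMod 3 × ZMod 4 × ZMod 4))) :
    Nat.card τ.ker ≤ 4 := by
  let e : Shrink.{v} Γ ≃* Γ := Shrink.mulEquiv
  haveI : Finite (Shrink.{v} Γ) := Finite.of_equiv _ e.symm.toEquiv
  let τ' : Shrink.{v} Γ →* G := τ.comp e.toMonoidHom
  have hτ' : IsStemExtension τ' := stem_comp_equiv τ e hτ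
  have hker : ∀ x : Shrink.{v} Γ, x ∈ τ'.ker ↔ e x ∈ τ.ker := by
    intro x
    rw [MonoidHom.mem_ker, MonoidHom.mem_ker]
    rfl
  obtain ⟨π, hπ⟩ := hm.2 (Shrink.{v} Γ) τ' hτ'
  have hsq' : ∀ z : ↥τ'.ker, z * z = 1 := by
    intro z
    apply Subtype.ext
    apply e.injective
    have := hsq (e z) ((hker z).1 z.2)
    show e ((z : Shrink.{v} Γ) * z) = e 1
    rw [map_mul, map_one, this]
  have h4 := card_le_four_of_surj hsq' π hπ
  let φ : ↥τ'.ker ≃ ↥τ.ker :=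
    { toFun := fun x => ⟨e x, (hker x).1 x.2⟩
      invFun := fun y => ⟨e.symm y, (hker _).2 (by rw [MulEquiv.apply_symm_apply]; exact y.2)⟩
      left_inv := fun x => Subtype.ext (e.symm_apply_apply x)
      right_inv := fun y => Subtype.ext (e.apply_symm_apply y) }
  rw [← Nat.card_congr φ]
  exact h4

/-- uniqueness of `2² . PSL₃(4)` -/
theorem unique_cover {L₁ : Type u₁} {L₂ : Type u₂} [Group L₁] [Finite L₁] [Group L₂] [Finite L₂]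
    (F : Type) [Field F] [Fintype F] (hF : Fintype.card F = 4)
    (h₁ : Cfsg.IsQuasisimple L₁) (h₂ : Cfsg.IsQuasisimple L₂)
    (hc₁ : Nat.card (Subgroup.center L₁) = 4) (hc₂ : Nat.card (Subgroup.center L₂) = 4)
    (he₁ : ∀ x ∈ Subgroup.center L₁, x * x = 1) (he₂ : ∀ x ∈ Subgroup.center L₂, x * x = 1)
    (e₁ : L₁ ⧸ Subgroup.center L₁ ≃* Matrix.ProjectiveSpecialLinearGroup (Fin 3) F)
    (e₂ : L₂ ⧸ Subgroup.center L₂ ≃* Matrix.ProjectiveSpecialLinearGroup (Fin 3) F) :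
    Nonempty (L₁ ≃* L₂) := by
  have hm := Cfsg.Agent.Lib.Helper4.C48L34Stem.hasMult hF
  let σ₁ : L₁ →* Matrix.ProjectiveSpecialLinearGroup (Fin 3) F :=
    e₁.toMonoidHom.comp (QuotientGroup.mk' (Subgroup.center L₁))
  let σ₂ : L₂ →* Matrix.ProjectiveSpecialLinearGroup (Fin 3) F :=
    e₂.toMonoidHom.comp (QuotientGroup.mk' (Subgroup.center L₂))
  have hk₁ : σ₁.ker = Subgroup.center L₁ := by
    ext x
    rw [MonoidHom.mem_ker]
    show e₁ (QuotientGroup.mk x) = 1 ↔ _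
    rw [EmbeddingLike.map_eq_one_iff, QuotientGroup.eq_one_iff]
  have hk₂ : σ₂.ker = Subgroup.center L₂ := by
    ext x
    rw [MonoidHom.mem_ker]
    show e₂ (QuotientGroup.mk x) = 1 ↔ _
    rw [EmbeddingLike.map_eq_one_iff, QuotientGroup.eq_one_iff]
  have hs₁ : Function.Surjective σ₁ := e₁.surjective.comp (QuotientGroup.mk'_surjective _)
  have hs₂ : Function.Surjective σ₂ := e₂.surjective.comp (QuotientGroup.mk'_surjective _)
  have hp₁ : commutator L₁ = ⊤ := Group.isPerfect_def.1 h₁.1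
  have hp₂ : commutator L₂ = ⊤ := Group.isPerfect_def.1 h₂.1
  have hz₁ : σ₁.ker ≤ Subgroup.center L₁ := hk₁.le
  have hz₂ : σ₂.ker ≤ Subgroup.center L₂ := hk₂.le
  have hcard₁ : Nat.card σ₁.ker = 4 := by rw [hk₁]; exact hc₁
  have hcard₂ : Nat.card σ₂.ker = 4 := by rw [hk₂]; exact hc₂
  have hq₁ : ∀ a ∈ σ₁.ker, a * a = 1 := fun a ha => he₁ a (hk₁ ▸ ha)
  have hq₂ : ∀ b ∈ σ₂.ker, b * b = 1 := fun b hb => he₂ b (hk₂ ▸ hb)
  have hstem := tau_stem σ₁ σ₂ hs₁ hs₂ hp₁ hz₁ hz₂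
  have hbound : Nat.card (tau σ₁ σ₂).ker ≤ 4 :=
    card_ker_le_of_hasMult (tau σ₁ σ₂) hstem (tau_ker_sq σ₁ σ₂ hq₁ hq₂) hm
  exact nonempty_mulEquiv σ₁ σ₂ hs₁ hs₂ hp₁ hp₂ 4 (by norm_num) hcard₁ hcard₂ hbound

end Cfsg.Agent.Lib.Lead.FibreCover
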