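import Mathlib
import Cfsg.Agent.Lib.Helper9.AbelianSimple
import Cfsg.Agent.Lib.Helper9.FusionCenter

set_option autoImplicit false

namespace Cfsg.Agent.Lib.Lead.Fus

open Cfsg Cfsg.FusionSystem Cfsg.Agent.Lib.Helper9
open scoped IsMulCommutative

section Abstract

variable {M : Type*} [Group M] [IsMulCommutative M] [Finite M]

/-- coprime action of a group of automorphisms on a finite abelian group: fixed points meet the
commutator trivially, and together they generate. -/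
theorem coprime_abelian_aux (A : Subgroup (MulAut M)) [Fintype A]
    (hcop : (Nat.card M).Coprime (Fintype.card A)) :
    (∀ x : M, (∀ α ∈ A, α x = x) →
      x ∈ Subgroup.closure {z : M | ∃ (y : M) (α : MulAut M), α ∈ A ∧ z = y⁻¹ * α y} → x = 1) ∧
    (∀ x : M, ∃ c d : M, (∀ α ∈ A, α c = c) ∧
      d ∈ Subgroup.closure {z : M | ∃ (y : M) (α : MulAut M), α ∈ A ∧ z = y⁻¹ * α y} ∧
      x = c * d) := by
  classical
  obtain ⟨D, hD⟩ : ∃ D : Subgroup M, D = Subgroup.closure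
      {z : M | ∃ (y : M) (α : MulAut M), α ∈ A ∧ z = y⁻¹ * α y} := ⟨_, rfl⟩
  rw [← hD]
  obtain ⟨N, hN⟩ : ∃ N : M → M, N = fun x => ∏ α : A, (α : MulAut M) x := ⟨_, rfl⟩
  have hNmul : ∀ x y, N (x * y) = N x * N y := by
    intro x y
    rw [hN]
    show ∏ α : A, (α : MulAut M) (x * y) = _
    simp only [map_mul]
    exact Finset.prod_mul_distrib
  have hNinv : ∀ x, N x⁻¹ = (N x)⁻¹ := by
    intro x
    rw [hN]
    show ∏ α : A, (α : MulAut M) x⁻¹ = (∏ α : A, (α : MulAut M) x)⁻¹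
    simp only [map_inv]
    exact Finset.prod_inv_distrib (fun α : A => (α : MulAut M) x)
  have hNone : N 1 = 1 := by
    rw [hN]
    show ∏ α : A, (α : MulAut M) 1 = 1
    simp
  have hNfix : ∀ β ∈ A, ∀ x, β (N x) = N x := by
    intro β hβ x
    rw [hN]
    show β (∏ α : A, (α : MulAut M) x) = ∏ α : A, (α : MulAut M) x
    rw [map_prod]
    exact Fintype.prod_equiv (Equiv.mulLeft (⟨β, hβ⟩ : A)) _ _ (fun α => rfl)
  have hNact : ∀ β ∈ A, ∀ x, N (β x) = N x := by
    intro β hβ x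
    rw [hN]
    show ∏ α : A, (α : MulAut M) (β x) = ∏ α : A, (α : MulAut M) x
    exact Fintype.prod_equiv (Equiv.mulRight (⟨β, hβ⟩ : A)) _ _ (fun α => rfl)
  have hNgen : ∀ z ∈ D, N z = 1 := by
    intro z hz
    rw [hD] at hz
    induction hz using Subgroup.closure_induction with
    | mem z hz =>
      obtain ⟨y, α, hα, rfl⟩ := hz
      rw [hNmul, hNinv, hNact α hα]
      exact inv_mul_cancel _
    | one => exact hNone
    | mul a b _ _ ha hb => rw [hNmul, ha, hb, mul_one]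
    | inv a _ ha => rw [hNinv, ha, inv_one]
  have hNfixed : ∀ x, (∀ α ∈ A, α x = x) → N x = x ^ Fintype.card A := by
    intro x hx
    rw [hN]
    show ∏ α : A, (α : MulAut M) x = _
    rw [Finset.prod_congr rfl (fun (α : A) _ => hx (α : MulAut M) α.2), Finset.prod_const,
      Finset.card_univ]
  refine ⟨fun x hx hxD => ?_, fun x => ?_⟩
  · have h1 : x ^ Fintype.card A = 1 := by
      rw [← hNfixed x hx]
      exact hNgen x hxD
    have h2 : orderOf x ∣ Fintype.card A := orderOf_dvd_of_pow_eq_one h1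
    have h3 : orderOf x ∣ Nat.card M := orderOf_dvd_natCard x
    have h4 : orderOf x ∣ 1 := by
      have := Nat.dvd_gcd h3 h2
      rwa [Nat.Coprime.gcd_eq_one hcop] at this
    exact orderOf_eq_one_iff.mp (Nat.dvd_one.mp h4)
  · obtain ⟨y, hy⟩ := (powCoprime hcop).surjective x
    have hy' : y ^ Fintype.card A = x := hy
    refine ⟨N y, (N y)⁻¹ * x, fun α hα => hNfix α hα y, ?_, (mul_inv_cancel_left _ _).symm⟩
    have hd : (N y)⁻¹ * x = ∏ α : A, (y⁻¹ * (α : MulAut M) y)⁻¹ := by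
      rw [← hy', hN]
      show (∏ α : A, (α : MulAut M) y)⁻¹ * y ^ Fintype.card A = _
      rw [← Finset.card_univ, ← Finset.prod_const, ← Finset.prod_inv_distrib,
        ← Finset.prod_mul_distrib]
      refine Finset.prod_congr rfl (fun α _ => ?_)
      rw [mul_inv_rev, inv_inv]
    rw [hd]
    apply Subgroup.prod_mem
    intro α _
    apply Subgroup.inv_mem
    rw [hD]
    exact Subgroup.subset_closure ⟨y, α, α.2, rfl⟩

end Abstract

variable {Ω : Type*} [Group Ω] {S : Subgroup Ω}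

/-- the fixed points of `Aut_F(S)` on `S`, as a subgroup of the ambient group -/
def fixSub (F : FusionSystem S) : Subgroup Ω where
  carrier := {x | ∃ hx : x ∈ S, ∀ α ∈ F.autGroup S, α ⟨x, hx⟩ = ⟨x, hx⟩}
  one_mem' := ⟨S.one_mem, fun α _ => map_one α⟩
  mul_mem' := by
    rintro a b ⟨ha, ha'⟩ ⟨hb, hb'⟩
    refine ⟨S.mul_mem ha hb, fun α hα => ?_⟩
    have : (⟨a * b, S.mul_mem ha hb⟩ : S) = ⟨a, ha⟩ * ⟨b, hb⟩ := rfl
    rw [this, map_mul, ha' α hα, hb' α hα]
  inv_mem' := by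
    rintro a ⟨ha, ha'⟩
    refine ⟨S.inv_mem ha, fun α hα => ?_⟩
    have : (⟨a⁻¹, S.inv_mem ha⟩ : S) = (⟨a, ha⟩ : S)⁻¹ := rfl
    rw [this, map_inv, ha' α hα]

theorem fixSub_le (F : FusionSystem S) : fixSub F ≤ S := fun _ hx => hx.1

/-- over an abelian `S` every map of a saturated system extends to an element of `Aut_F(S)` -/
theorem ext_aut [Finite S] (p : ℕ) [Fact p.Prime] (hS : IsPGroup p S) (F : FusionSystem S)
    (hF : F.IsSaturated p) (hab : ∀ x ∈ S, ∀ y ∈ S, x * y = y * x) {P : Subgroup Ω} {φ : P →* Ω}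
    (hφ : φ ∈ F.Hom P) :
    ∃ α ∈ F.autGroup S, ∀ x : P, ((α ⟨x, hom_le F hφ x.2⟩ : S) : Ω) = φ x := by
  have hSn : F.IsNormal S := normal_of_abelian_stronglyClosed p hS F hF S
    (commutator_le_bot_of_forall_comm hab) (stronglyClosed_top F)
  obtain ⟨ψ, hψ, hψφ, -⟩ := hSn.2 P φ hφ
  have hχ : ψ.comp (Subgroup.inclusion (le_sup_right : S ≤ P ⊔ S)) ∈ F.Hom S :=
    restrict_mem F hψ le_sup_right
  have hr : (ψ.comp (Subgroup.inclusion (le_sup_right : S ≤ P ⊔ S))).range = S := by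
    apply Subgroup.eq_of_le_of_card_ge (range_le F hχ)
    exact (Nat.card_congr (MonoidHom.ofInjective (F.injective_of_mem hχ)).toEquiv).le
  obtain ⟨α, hα, hαχ⟩ := exists_aut_of_hom F hχ hr
  refine ⟨α, hα, fun x => ?_⟩
  rw [hαχ, ← hψφ x]
  show ψ _ = ψ _
  congr 1

theorem isCentral_fixSub [Finite S] (p : ℕ) [Fact p.Prime] (hS : IsPGroup p S)
    (F : FusionSystem S) (hF : F.IsSaturated p) (hab : ∀ x ∈ S, ∀ y ∈ S, x * y = y * x) :
    F.IsCentral (fixSub F) := by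
  refine ⟨fixSub_le F, fun P φ hφ => ?_⟩
  obtain ⟨α, hα, hαφ⟩ := ext_aut p hS F hF hab hφ
  have hPS : P ≤ S := hom_le F hφ
  have hPC : P ⊔ fixSub F ≤ S := sup_le hPS (fixSub_le F)
  refine ⟨(S.subtype.comp α.toMonoidHom).comp (Subgroup.inclusion hPC),
    restrict_mem F (hom_of_mem_autGroup F le_rfl hα) hPC, fun x => ?_, fun x => ?_⟩
  · exact hαφ x
  · obtain ⟨hx, hfix⟩ := x.2
    exact congrArg Subtype.val (hfix α hα)

theorem center_le_fixSub [Finite S] (F : FusionSystem S) : F.center ≤ fixSub F := by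
  intro z hz
  have hZ := isCentral_center F
  have hzS : z ∈ S := hZ.1 hz
  refine ⟨hzS, fun α hα => ?_⟩
  obtain ⟨ψ, -, hψ1, hψ2⟩ := hZ.2 S _ (hom_of_mem_autGroup F le_rfl hα)
  have h1 := hψ1 ⟨z, hzS⟩
  have h2 := hψ2 ⟨z, hz⟩
  have h3 : (Subgroup.inclusion le_sup_left (⟨z, hzS⟩ : S) : (S ⊔ F.center : Subgroup Ω)) =
      Subgroup.inclusion le_sup_right (⟨z, hz⟩ : F.center) := Subtype.ext rfl
  apply Subtype.ext
  rw [h3, h2] at h1
  exact h1.symm

/-- S5330 -/
theorem abelian_center_focal [Finite S] (p : ℕ) [Fact p.Prime] (hS : IsPGroup p S)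
    (F : FusionSystem S) (hF : F.IsSaturated p) (hab : ∀ x ∈ S, ∀ y ∈ S, x * y = y * x) :
    F.center ⊓ F.focalSubgroup = ⊥ ∧ F.center ⊔ F.focalSubgroup = S := by
  classical
  haveI : IsMulCommutative S := ⟨⟨fun a b => Subtype.ext (hab a a.2 b b.2)⟩⟩
  letI : Fintype (F.autGroup S) := Fintype.ofFinite _
  -- coprimality
  have hcop : (Nat.card S).Coprime (Fintype.card (F.autGroup S)) := by
    obtain ⟨k, hk⟩ := IsPGroup.iff_card.mp hS
    rw [hk]
    apply Nat.Coprime.pow_left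
    rw [Nat.Prime.coprime_iff_not_dvd (Fact.out : p.Prime), ← Nat.card_eq_fintype_card]
    intro hdvd
    obtain ⟨-, R, hR⟩ := fullyAutomized_of_fullyNormalized hS F hF (fullyNormalized_top F)
    have hbot : autInducedBy S S = ⊥ := by
      rw [eq_bot_iff]
      intro α hα
      rw [mem_autInducedBy_iff] at hα
      obtain ⟨g, hg, hgα⟩ := hα
      rw [Subgroup.mem_bot]
      ext x
      rw [hgα, hab g hg x x.2]
      simp
    rw [hbot, Subgroup.bot_subgroupOf] at hR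
    exact R.ne_bot_of_dvd_card hdvd hR
  obtain ⟨ha, hb⟩ := coprime_abelian_aux (F.autGroup S) hcop
  obtain ⟨D, hD⟩ : ∃ D : Subgroup S, D = Subgroup.closure
      {z : S | ∃ (y : S) (α : MulAut S), α ∈ F.autGroup S ∧ z = y⁻¹ * α y} := ⟨_, rfl⟩
  rw [← hD] at ha hb
  have hfocD : F.focalSubgroup ≤ D.map S.subtype := by
    unfold focalSubgroup
    rw [Subgroup.closure_le]
    rintro y ⟨P, φ, x, hφ, rfl⟩
    obtain ⟨α, hα, hαφ⟩ := ext_aut p hS F hF hab hφ
    refine ⟨(⟨x, hom_le F hφ x.2⟩ : S)⁻¹ * α ⟨x, hom_le F hφ x.2⟩, ?_, ?_⟩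
    · rw [hD]
      exact Subgroup.subset_closure ⟨_, α, hα, rfl⟩
    · show ((x : Ω))⁻¹ * ((α ⟨x, hom_le F hφ x.2⟩ : S) : Ω) = _
      rw [hαφ]
  have hDfoc : D.map S.subtype ≤ F.focalSubgroup := by
    rw [Subgroup.map_le_iff_le_comap, hD, Subgroup.closure_le]
    rintro z ⟨y, α, hα, rfl⟩
    show S.subtype (y⁻¹ * α y) ∈ F.focalSubgroup
    apply Subgroup.subset_closure
    exact ⟨S, S.subtype.comp α.toMonoidHom, y, hom_of_mem_autGroup F le_rfl hα, rfl⟩
  constructor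
  · rw [eq_bot_iff]
    rintro z ⟨hzc, hzf⟩
    obtain ⟨hzS, hzfix⟩ := center_le_fixSub F hzc
    obtain ⟨d, hd, hdz⟩ := hfocD hzf
    have hdz' : d = ⟨z, hzS⟩ := Subtype.ext hdz
    rw [hdz'] at hd
    have := ha ⟨z, hzS⟩ hzfix hd
    rw [Subgroup.mem_bot]
    exact congrArg Subtype.val this
  · apply le_antisymm
    · apply sup_le (isCentral_center F).1
      unfold focalSubgroup
      rw [Subgroup.closure_le]
      rintro y ⟨P, φ, x, hφ, rfl⟩
      exact S.mul_mem (S.inv_mem (hom_le F hφ x.2)) (hom_mem F hφ x)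
    · intro x hx
      obtain ⟨c, d, hc, hd, hxcd⟩ := hb ⟨x, hx⟩
      have hcC : (c : Ω) ∈ F.center := by
        have h1 : fixSub F ≤ F.center := le_sSup (isCentral_fixSub p hS F hF hab)
        exact h1 ⟨c.2, fun α hα => hc α hα⟩
      have hdF : (d : Ω) ∈ F.focalSubgroup := hDfoc ⟨d, hd, rfl⟩
      have : x = (c : Ω) * (d : Ω) := congrArg Subtype.val hxcd
      rw [this]
      exact Subgroup.mul_mem _ (le_sup_left (a := F.center) hcC)
        (le_sup_right (b := F.focalSubgroup) hdF)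

end Cfsg.Agent.Lib.Lead.Fus
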