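import Mathlib
import Cfsg.Agent.Lib.Helper9.StronglyEmbedded

set_option autoImplicit false

namespace Cfsg.Agent.Lib.Lead.Fus

open Cfsg

/-- An automorphism of a finite group with `C_G(O_p(G)) ≤ O_p(G)` that fixes a Sylow `p`-subgroup
pointwise is conjugation by an element of that Sylow subgroup. -/
theorem aut_fix_sylow_inner {G : Type*} [Group G] [Finite G] (p : ℕ) [Fact p.Prime] (T : Sylow p G)
    (hQ : Subgroup.centralizer ((pCore p G : Subgroup G) : Set G) ≤ pCore p G)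
    (ψ : G ≃* G) (hψ : ∀ t ∈ (T : Subgroup G), ψ t = t) :
    ∃ u ∈ (T : Subgroup G), ∀ g, ψ g = u * g * u⁻¹ := by
  classical
  obtain ⟨Q, hQdef⟩ : ∃ Q, Q = pCore p G := ⟨_, rfl⟩
  rw [← hQdef] at hQ
  have hQn : Q.Normal := by rw [hQdef]; exact Cfsg.Agent.Lib.Helper9.pCore_normal' p G
  have hQp : IsPGroup p Q := by rw [hQdef]; exact Cfsg.Agent.Lib.Helper9.pCore_isPGroup' p G
  have hQT : Q ≤ (T : Subgroup G) := by
    haveI := hQn
    exact hQp.le_sylow_of_normal T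
  obtain ⟨A, hA⟩ : ∃ A, A = Subgroup.centralizer (Q : Set G) := ⟨_, rfl⟩
  have hAQ : A ≤ Q := hA ▸ hQ
  have hconjQ : ∀ g q, q ∈ Q → g⁻¹ * q * g ∈ Q := by
    intro g q hq
    simpa using hQn.conj_mem q hq g⁻¹
  have hAn : A.Normal := by
    constructor
    intro a ha g
    rw [hA, Subgroup.mem_centralizer_iff] at ha ⊢
    intro q hq
    have h2 := ha _ (hconjQ g q hq)
    calc q * (g * a * g⁻¹) = g * ((g⁻¹ * q * g) * a) * g⁻¹ := by group
      _ = g * (a * (g⁻¹ * q * g)) * g⁻¹ := by rw [h2]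
      _ = g * a * g⁻¹ * q := by group
  have hAcomm : ∀ a ∈ A, ∀ b ∈ A, a * b = b * a := by
    intro a ha b hb
    have hb' : b ∈ Subgroup.centralizer (Q : Set G) := hA ▸ hb
    exact Subgroup.mem_centralizer_iff.mp hb' a (hAQ ha)
  letI : CommGroup A :=
    { (inferInstance : Group A) with mul_comm := fun a b => Subtype.ext (hAcomm a.1 a.2 b.1 b.2) }
  haveI := hAn
  have hc_mem : ∀ g, ψ g * g⁻¹ ∈ A := by
    intro g
    rw [hA, Subgroup.mem_centralizer_iff]
    intro q hq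
    have h1 := hconjQ g q hq
    have h2 : ψ (g⁻¹ * q * g) = g⁻¹ * q * g := hψ _ (hQT h1)
    have h3 : ψ q = q := hψ _ (hQT hq)
    have h4 : ψ g * (g⁻¹ * q * g) * (ψ g)⁻¹ = q := by
      calc ψ g * (g⁻¹ * q * g) * (ψ g)⁻¹ = ψ g * ψ (g⁻¹ * q * g) * (ψ g)⁻¹ := by rw [h2]
        _ = ψ (g * (g⁻¹ * q * g) * g⁻¹) := by simp only [map_mul, map_inv]
        _ = ψ q := by congr 1; group
        _ = q := h3
    calc q * (ψ g * g⁻¹) = (ψ g * (g⁻¹ * q * g) * (ψ g)⁻¹) * (ψ g * g⁻¹) := by rw [h4]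
      _ = ψ g * g⁻¹ * q := by group
  obtain ⟨cA, hcA⟩ : ∃ cA : G → A, ∀ g, (cA g : G) = ψ g * g⁻¹ :=
    ⟨fun g => ⟨ψ g * g⁻¹, hc_mem g⟩, fun g => rfl⟩
  have hcoc : ∀ g h, cA (g * h) = cA g * MulAut.conjNormal g (cA h) := by
    intro g h
    apply Subtype.ext
    rw [Subgroup.coe_mul, MulAut.conjNormal_apply, hcA, hcA, hcA, map_mul]
    group
  have hconst : ∀ g, ∀ t ∈ (T : Subgroup G), cA (g * t) = cA g := by
    intro g t ht
    apply Subtype.ext
    rw [hcA, hcA, map_mul, hψ t ht]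
    group
  letI : Fintype (G ⧸ (T : Subgroup G)) := Fintype.ofFinite _
  obtain ⟨w, hw⟩ : ∃ w : A, w = ∏ q : G ⧸ (T : Subgroup G), cA q.out := ⟨_, rfl⟩
  obtain ⟨n, hn⟩ : ∃ n, n = Fintype.card (G ⧸ (T : Subgroup G)) := ⟨_, rfl⟩
  have key : ∀ h : G, w = cA h ^ n * MulAut.conjNormal h w := by
    intro h
    have e1 : ∏ q : G ⧸ (T : Subgroup G), cA (h * q.out) = w := by
      have e2 : ∀ q : G ⧸ (T : Subgroup G), cA (h * q.out) = cA ((h • q).out) := by
        intro q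
        have h5 : (((h • q).out : G) : G ⧸ (T : Subgroup G)) =
            ((h * q.out : G) : G ⧸ (T : Subgroup G)) := by
          rw [QuotientGroup.out_eq']
          exact (MulAction.Quotient.mk_smul_out (T : Subgroup G) h q).symm
        have h6 : ((h • q).out)⁻¹ * (h * q.out) ∈ (T : Subgroup G) := QuotientGroup.eq.mp h5
        have h7 := hconst ((h • q).out) _ h6
        rw [← h7]
        congr 1
        group
      rw [Finset.prod_congr rfl (fun (q : G ⧸ (T : Subgroup G)) _ => e2 q), hw]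
      exact Equiv.prod_comp (MulAction.toPerm h) (fun q : G ⧸ (T : Subgroup G) => cA q.out)
    refine e1.symm.trans ?_
    rw [Finset.prod_congr rfl (fun (q : G ⧸ (T : Subgroup G)) _ => hcoc h q.out),
      Finset.prod_mul_distrib, Finset.prod_const, Finset.card_univ, ← hn, ← map_prod, ← hw]
  -- divide by n
  have hAp : IsPGroup p A := hQp.to_le hAQ
  obtain ⟨k, hk⟩ := IsPGroup.iff_card.mp hAp
  have hnp : ¬ p ∣ n := by
    rw [hn, ← Nat.card_eq_fintype_card]
    exact T.not_dvd_index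
  have hcop : (Nat.card A).Coprime n := by
    rw [hk]
    exact Nat.Coprime.pow_left k ((Nat.Prime.coprime_iff_not_dvd Fact.out).mpr hnp)
  obtain ⟨v, hv⟩ : ∃ v : A, v ^ n = w := ⟨(powCoprime hcop).symm w, (powCoprime hcop).apply_symm_apply w⟩
  have hinj : Function.Injective (fun a : A => a ^ n) := (powCoprime hcop).injective
  have hv2 : ∀ h : G, v = cA h * MulAut.conjNormal h v := by
    intro h
    apply hinj
    show v ^ n = (cA h * MulAut.conjNormal h v) ^ n
    rw [mul_pow, ← map_pow, hv]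
    exact key h
  refine ⟨(v : G), hQT (hAQ v.2), ?_⟩
  intro g
  have h8 := congrArg (fun a : A => (a : G)) (hv2 g)
  simp only [Subgroup.coe_mul, MulAut.conjNormal_apply, hcA] at h8
  -- h8 : v = ψ g * g⁻¹ * (g * v * g⁻¹)
  calc ψ g = (ψ g * g⁻¹ * (g * (v : G) * g⁻¹)) * g * (v : G)⁻¹ := by group
    _ = (v : G) * g * (v : G)⁻¹ := by rw [← h8]

end Cfsg.Agent.Lib.Lead.Fus
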