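import Mathlib
import Cfsg.Agent.Lib.Helper9.AlperinCor

set_option autoImplicit false

namespace Cfsg.Agent.Lib.Lead.Fus

open Cfsg Cfsg.FusionSystem Cfsg.Agent.Lib.Helper9

variable {Ω : Type*} [Group Ω] {S : Subgroup Ω}

/-- the conjugation-invariance hypothesis of S5338 -/
def ConjInv (F F' : FusionSystem S) : Prop :=
  ∀ (Q : Subgroup Ω) (φ : ↥Q →* Ω), φ ∈ F.Hom Q → ∀ (R : Subgroup Ω) (hRQ : R ≤ Q) (ψ : ↥R →* Ω), ψ ∈ F'.Hom R → ∀ (hψQ : ∀ x : R, ψ x ∈ Q), ∃ χ ∈ F'.Hom ((R.subgroupOf Q).map φ), ∀ (x : R) (hx : φ ⟨(x : Ω), hRQ x.2⟩ ∈ (R.subgroupOf Q).map φ), χ ⟨φ ⟨(x : Ω), hRQ x.2⟩, hx⟩ = φ ⟨ψ x, hψQ x⟩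

theorem normal_aut (F F' : FusionSystem S) (hinv : ConjInv F F') {Q : Subgroup Ω} (hQS : Q ≤ S)
    {β γ : MulAut Q} (hβ : β ∈ F.autGroup Q) (hγ : γ ∈ F'.autGroup Q) :
    β * γ * β⁻¹ ∈ F'.autGroup Q := by
  have hφ := hom_of_mem_autGroup F hQS hβ
  have hψ := hom_of_mem_autGroup F' hQS hγ
  have hψQ : ∀ x : Q, (Q.subtype.comp γ.toMonoidHom) x ∈ Q := fun x => (γ x).2
  obtain ⟨χ, hχ, hχe⟩ := hinv Q _ hφ Q le_rfl _ hψ hψQ
  have hle' : Q ≤ (Q.subgroupOf Q).map (Q.subtype.comp β.toMonoidHom) := by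
    intro y hy
    refine ⟨β⁻¹ ⟨y, hy⟩, ?_, ?_⟩
    · exact Subgroup.mem_subgroupOf.mpr (β⁻¹ ⟨y, hy⟩).2
    · show ((β (β⁻¹ ⟨y, hy⟩) : Q) : Ω) = y
      rw [MulAut.apply_inv_self]
  have h1 := restrict_mem F' hχ hle'
  rw [mem_autGroup_iff F' hQS]
  have key : ∀ (z : Ω) (hz : z ∈ (Q.subgroupOf Q).map (Q.subtype.comp β.toMonoidHom)) (x : Q),
      z = ((β x : Q) : Ω) → χ ⟨z, hz⟩ = ((β (γ x) : Q) : Ω) := by
    intro z hz x hzx
    subst hzx
    exact hχe x hz
  have h2 : χ.comp (Subgroup.inclusion hle') = Q.subtype.comp (β * γ * β⁻¹).toMonoidHom := by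
    ext y
    have := key y (hle' y.2) (β⁻¹ y) (by rw [MulAut.apply_inv_self])
    exact this
  rw [← h2]
  exact h1

theorem aut_le [Finite S] (p : ℕ) [Fact p.Prime] (hS : IsPGroup p S) (F : FusionSystem S)
    (hF : F.IsSaturated p) (F' : FusionSystem S) (hinv : ConjInv F F')
    {Q : Subgroup Ω} (hQS : Q < S) (hQn : F.IsFullyNormalized Q)
    (hIH : ∀ Q₁ : Subgroup Ω, Q < Q₁ → F.Hom Q₁ ⊆ F'.Hom Q₁) :
    F.autGroup Q ≤ F'.autGroup Q := by
  have hQle := hQS.le
  have hfinQ : Finite Q := finite_of_le hQle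
  have hfc := fullyCentralized_of_fullyNormalized hS F hF hQn
  have hrec := receptive_of_fullyCentralized hS F hF hfc
  obtain ⟨-, R, hR⟩ := fullyAutomized_of_fullyNormalized hS F hF hQn
  have hext : ∀ α ∈ extGen F Q, α ∈ F'.autGroup Q := by
    rintro α ⟨Q₁, hlt, φ, hφ, hφα⟩
    have hφE := hIH Q₁ hlt hφ
    rw [mem_autGroup_iff F' hQle]
    have h1 := restrict_mem F' hφE hlt.le
    have h2 : φ.comp (Subgroup.inclusion hlt.le) = Q.subtype.comp α.toMonoidHom := by
      ext x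
      exact hφα x
    rw [← h2]
    exact h1
  obtain ⟨N, hN⟩ : ∃ N : Subgroup (F.autGroup Q), N = (F'.autGroup Q).subgroupOf (F.autGroup Q) :=
    ⟨_, rfl⟩
  have hNn : N.Normal := by
    constructor
    intro γ hγ β
    rw [hN, Subgroup.mem_subgroupOf] at hγ ⊢
    exact normal_aut F F' hinv hQle β.2 hγ
  have hRN : (R : Subgroup (F.autGroup Q)) ≤ N := by
    rw [hR, hN]
    exact Subgroup.comap_mono (autInducedBy_le_autGroup F' hQle)
  have hfr := Sylow.normalizer_sup_eq_top' R hRN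
  intro β hβ
  have hβtop : (⟨β, hβ⟩ : F.autGroup Q) ∈ (⊤ : Subgroup (F.autGroup Q)) := trivial
  rw [← hfr] at hβtop
  obtain ⟨ν, hν, γ, hγ, hνγ⟩ := Subgroup.mem_sup_of_normal_right.mp hβtop
  have hνext : (ν : MulAut Q) ∈ extGen F Q := by
    by_cases hc : F.IsCentric Q
    · have hC : centralizerIn S Q ≤ Q := hc.2 Q (isConj_refl F hQle)
      obtain ⟨g, hgN, hgQ⟩ := exists_mem_normalizerIn_not_mem hS hQS
      have ht : conjAut Q ⟨g, hgN.2⟩ ∈ autInducedBy S Q := by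
        rw [mem_autInducedBy_iff]
        exact ⟨g, hgN.1, fun x => rfl⟩
      have htI : conjAut Q ⟨g, hgN.2⟩ ∉ Inn Q :=
        not_mem_inn_of_not_mem hC hgN.1 hgQ hQle (fun x => rfl)
      apply mem_extGen_of_conj_mem F hQle hrec ν.2 ht htI
      have htR : (⟨conjAut Q ⟨g, hgN.2⟩, autInducedBy_le_autGroup F hQle ht⟩ : F.autGroup Q) ∈
          (R : Subgroup (F.autGroup Q)) := by
        rw [hR]
        exact Subgroup.mem_subgroupOf.mpr ht
      have h3 := (Subgroup.mem_normalizer_iff.mp hν _).mp htR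
      rw [hR] at h3
      exact Subgroup.mem_subgroupOf.mp h3
    · exact autGroup_subset_extGen_of_not_centric hS F hF hQn hc ν.2
  have hβeq : β = (ν : MulAut Q) * (γ : MulAut Q) := congrArg Subtype.val hνγ.symm
  rw [hβeq]
  rw [hN] at hγ
  exact Subgroup.mul_mem _ (hext _ hνext) (Subgroup.mem_subgroupOf.mp hγ)

theorem hom_subset_of_conjInv [Finite S] (p : ℕ) [Fact p.Prime] (hS : IsPGroup p S)
    (F : FusionSystem S) (hF : F.IsSaturated p) (F' : FusionSystem S)
    (hinv : ConjInv F F') (htop : F'.autGroup S = F.autGroup S) :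
    ∀ (n : ℕ) (P : Subgroup Ω), P ≤ S → Nat.card S - Nat.card P = n → F.Hom P ⊆ F'.Hom P := by
  intro n
  induction n using Nat.strong_induction_on with
  | _ n ih =>
    intro P hPS hn φ hφ
    have hIH : ∀ P₁ : Subgroup Ω, P₁ ≤ S → Nat.card P < Nat.card P₁ → F.Hom P₁ ⊆ F'.Hom P₁ := by
      intro P₁ hP₁ hlt
      have hle : Nat.card P₁ ≤ Nat.card S := Subgroup.card_le_of_le hP₁
      exact ih (Nat.card S - Nat.card P₁) (by omega) P₁ hP₁ rfl
    by_cases hPeq : P = S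
    · subst hPeq
      have hr : φ.range = P := by
        apply Subgroup.eq_of_le_of_card_ge (range_le F hφ)
        exact (Nat.card_congr (MonoidHom.ofInjective (F.injective_of_mem hφ)).toEquiv).le
      obtain ⟨α, hα, hαφ⟩ := exists_aut_of_hom F hφ hr
      have hαE : α ∈ F'.autGroup P := by rw [htop]; exact hα
      have h1 := hom_of_mem_autGroup F' le_rfl hαE
      have h2 : P.subtype.comp α.toMonoidHom = φ := by
        ext x
        exact hαφ x
      rw [← h2]
      exact h1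
    · have hlt : P < S := lt_of_le_of_ne hPS hPeq
      obtain ⟨Q, hPQ, hQn⟩ := exists_isConj_fullyNormalized F hPS
      have hQa := fullyAutomized_of_fullyNormalized hS F hF hQn
      have hQr := receptive_of_fullyCentralized hS F hF
        (fullyCentralized_of_fullyNormalized hS F hF hQn)
      have hPP' : F.IsConj P φ.range := ⟨φ, hφ, rfl⟩
      have hP'Q : F.IsConj φ.range Q := isConj_trans F (isConj_symm F hPP') hPQ
      have hP'S : φ.range ≤ S := range_le F hφ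
      obtain ⟨χ, hχ, -, hχQ⟩ := exists_normalizer_hom hS F Q P hQa hQr hPQ
      obtain ⟨χ', hχ', -, hχ'Q⟩ := exists_normalizer_hom hS F Q φ.range hQa hQr hP'Q
      have hcP' : Nat.card φ.range = Nat.card P := (card_eq_of_isConj F hPP').symm
      have hcQ : Nat.card Q = Nat.card P := (card_eq_of_isConj F hPQ).symm
      have hcS : Nat.card P < Nat.card S := card_lt_of_lt' hlt
      have hP'lt : φ.range < S := lt_of_card_lt' hP'S (hcP' ▸ hcS)
      have hQlt : Q < S := lt_of_card_lt' hQn.1 (hcQ ▸ hcS)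
      have hN : ∀ R : Subgroup Ω, R < S → Nat.card R < Nat.card (normalizerIn S R) := by
        intro R hR
        have := finite_normalizerIn (S := S) R
        obtain ⟨g, hg, hgR⟩ := exists_mem_normalizerIn_not_mem hS hR
        apply card_lt_of_lt'
        exact lt_of_le_of_ne (self_le_normalizerIn' hR.le) (fun h => hgR (h ▸ hg))
      have hχE : χ ∈ F'.Hom (normalizerIn S P) := hIH _ inf_le_left (hN P hlt) hχ
      have hχ'E : χ' ∈ F'.Hom (normalizerIn S φ.range) :=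
        hIH _ inf_le_left (hcP' ▸ hN φ.range hP'lt) hχ'
      have hPN : P ≤ normalizerIn S P := self_le_normalizerIn' hPS
      have hP'N : φ.range ≤ normalizerIn S φ.range := self_le_normalizerIn' hP'S
      have hAut : F.autGroup Q ≤ F'.autGroup Q := by
        apply aut_le p hS F hF F' hinv hQlt hQn
        intro Q₁ hQ₁ φ₁ hφ₁
        have hQ₁S := hom_le F hφ₁
        have : Finite Q₁ := finite_of_le hQ₁S
        exact hIH Q₁ hQ₁S (hcQ ▸ card_lt_of_lt' hQ₁) hφ₁
      exact hom_of_factor F F' hφ rfl (restrict_mem F hχ hPN) (restrict_mem F' hχE hPN)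
        ((range_comp_inclusion hPN χ).trans hχQ)
        (restrict_mem F hχ' hP'N) (restrict_mem F' hχ'E hP'N)
        ((range_comp_inclusion hP'N χ').trans hχ'Q) hAut

end Cfsg.Agent.Lib.Lead.Fus
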