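import Mathlib
import Cfsg.Agent.Lib.Helper9.NormalCrit
import Cfsg.Agent.Lib.Helper9.NormalSeries
import Cfsg.Agent.Lib.Helper9.FusionCenter
import Cfsg.Agent.Lib.Helper9.AlperinCor
import Cfsg.Agent.S5145

set_option autoImplicit false

namespace Cfsg.Agent.Lib.Lead.Fus

open Cfsg Cfsg.FusionSystem Cfsg.Agent.Lib.Helper9
open scoped IsMulCommutative

section Abstract

/-- fixed points of a subgroup acting through `ρ` -/
def fixedSub {G V : Type*} [Group G] [Group V] (ρ : G →* MulAut V) (T : Subgroup G) :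
    Subgroup V where
  carrier := {v | ∀ t ∈ T, ρ t v = v}
  one_mem' := fun t _ => map_one _
  mul_mem' := fun {a b} ha hb t ht => by rw [map_mul, ha t ht, hb t ht]
  inv_mem' := fun {a} ha t ht => by rw [map_inv, ha t ht]

/-- the fixed points of the whole group form a direct factor of the fixed points of a subgroup of
index prime to the order of the (abelian) module -/
theorem trace_split {G V : Type*} [Group G] [Finite G] [CommGroup V] [Finite V]
    (ρ : G →* MulAut V) (T : Subgroup G) (hcop : (Nat.card V).Coprime T.index) :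
    ∃ K : Subgroup V, K ≤ fixedSub ρ T ∧ fixedSub ρ ⊤ ⊓ K = ⊥ ∧
      fixedSub ρ ⊤ ⊔ K = fixedSub ρ T := by
  classical
  letI : Fintype (G ⧸ T) := Fintype.ofFinite _
  let Tr : V →* V :=
    { toFun := fun v => ∏ q : G ⧸ T, ρ (Quotient.out q) v
      map_one' := by simp
      map_mul' := fun v w => by
        simp only [map_mul]
        exact Finset.prod_mul_distrib }
  have hTr : ∀ v, Tr v = ∏ q : G ⧸ T, ρ (Quotient.out q) v := fun v => rfl
  have hcoset : ∀ v ∈ fixedSub ρ T, ∀ g : G,
      ρ (Quotient.out (QuotientGroup.mk g : G ⧸ T)) v = ρ g v := by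
    intro v hv g
    have h1 : (Quotient.out (QuotientGroup.mk g : G ⧸ T))⁻¹ * g ∈ T :=
      QuotientGroup.eq.mp (QuotientGroup.out_eq' _)
    have h2 := hv _ h1
    calc ρ (Quotient.out (QuotientGroup.mk g : G ⧸ T)) v
        = ρ (Quotient.out (QuotientGroup.mk g : G ⧸ T))
            (ρ ((Quotient.out (QuotientGroup.mk g : G ⧸ T))⁻¹ * g) v) := by rw [h2]
      _ = ρ g v := by rw [← MulAut.mul_apply, ← map_mul, mul_inv_cancel_left]
  have hfixTr : ∀ v ∈ fixedSub ρ T, Tr v ∈ fixedSub ρ ⊤ := by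
    intro v hv b _
    rw [hTr, map_prod]
    apply Fintype.prod_equiv (MulAction.toPerm b : Equiv.Perm (G ⧸ T))
    intro q
    show ρ b (ρ (Quotient.out q) v) = ρ (Quotient.out (b • q)) v
    have h1 : b • q = (QuotientGroup.mk (b * Quotient.out q) : G ⧸ T) := by
      conv_lhs => rw [← QuotientGroup.out_eq' q]
      rfl
    rw [h1, hcoset v hv, map_mul, MulAut.mul_apply]
  have hTrfix : ∀ v ∈ fixedSub ρ ⊤, Tr v = v ^ T.index := by
    intro v hv
    rw [hTr]
    have hall : ∀ q : G ⧸ T, ρ (Quotient.out q) v = v := fun q => hv _ trivial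
    simp only [hall, Finset.prod_const, Finset.card_univ]
    congr 1
    rw [Subgroup.index, Nat.card_eq_fintype_card]
  have hmono : fixedSub ρ ⊤ ≤ fixedSub ρ T := fun v hv t _ => hv t trivial
  refine ⟨fixedSub ρ T ⊓ Tr.ker, inf_le_left, ?_, ?_⟩
  · rw [eq_bot_iff]
    rintro v ⟨hvG, -, hvK⟩
    have hvK' : Tr v = 1 := hvK
    rw [hTrfix v hvG] at hvK'
    have h2 : orderOf v ∣ T.index := orderOf_dvd_of_pow_eq_one hvK'
    have h3 : orderOf v ∣ Nat.card V := orderOf_dvd_natCard v
    have h4 : orderOf v ∣ 1 := by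
      have := Nat.dvd_gcd h3 h2
      rwa [Nat.Coprime.gcd_eq_one hcop] at this
    rw [Subgroup.mem_bot]
    exact orderOf_eq_one_iff.mp (Nat.dvd_one.mp h4)
  · apply le_antisymm (sup_le hmono inf_le_left)
    intro v hv
    obtain ⟨c', hc'⟩ := (powCoprime hcop).surjective (Tr v)
    have hc'' : c' ^ T.index = Tr v := hc'
    have hc'G : c' ∈ fixedSub ρ ⊤ := by
      intro b hb
      apply (powCoprime hcop).injective
      show (ρ b c') ^ T.index = c' ^ T.index
      rw [← map_pow, hc'']
      exact hfixTr v hv b hb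
    have hK : c'⁻¹ * v ∈ fixedSub ρ T ⊓ Tr.ker := by
      refine ⟨Subgroup.mul_mem _ (Subgroup.inv_mem _ (hmono hc'G)) hv, ?_⟩
      show Tr (c'⁻¹ * v) = 1
      rw [map_mul, map_inv, hTrfix c' hc'G, hc'', inv_mul_cancel]
    have : v = c' * (c'⁻¹ * v) := (mul_inv_cancel_left _ _).symm
    rw [this]
    exact Subgroup.mul_mem _ (Subgroup.mem_sup_left hc'G) (Subgroup.mem_sup_right hK)

/-- restriction of automorphisms to the centre -/
def cenRes (M : Type*) [Group M] : MulAut M →* MulAut (Subgroup.center M) where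
  toFun α := Subgroup.centerCongr α
  map_one' := by ext x; rfl
  map_mul' := fun α β => by ext x; rfl

theorem cenRes_apply {M : Type*} [Group M] (α : MulAut M) (x : Subgroup.center M) :
    ((cenRes M α x : Subgroup.center M) : M) = α (x : M) := rfl

end Abstract

variable {Ω : Type*} [Group Ω] {S : Subgroup Ω}

/-- S5294 -/
theorem center_direct_factor [Finite S] (p : ℕ) [Fact p.Prime] (hS : IsPGroup p S)
    (F : FusionSystem S) (hF : F.IsSaturated p)
    (hZ : (S ⊓ Subgroup.centralizer (S : Set Ω)) ≤ F.core) :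
    ∃ K : Subgroup Ω, K ≤ (S ⊓ Subgroup.centralizer (S : Set Ω)) ∧ F.center ⊓ K = ⊥ ∧
      F.center ⊔ K = (S ⊓ Subgroup.centralizer (S : Set Ω)) := by
  classical
  obtain ⟨Q, hQdef⟩ : ∃ Q : Subgroup Ω, Q = F.core := ⟨_, rfl⟩
  rw [← hQdef] at hZ
  have hQn : F.IsNormal Q := hQdef ▸ Cfsg.Agent.S5145.result F
  have hQS : Q ≤ S := hQn.1
  have hfinQ : Finite Q := finite_of_le hQS
  have hSN : S ≤ Subgroup.normalizer (Q : Set Ω) :=
    le_normalizer_of_stronglyClosed F (stronglyClosed_of_normal F hQn)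
  have hNS : normalizerIn S Q = S := inf_of_le_left hSN
  have hQfn : F.IsFullyNormalized Q :=
    ⟨hQS, fun Q' _ => by rw [hNS]; exact Subgroup.card_le_of_le inf_le_left⟩
  obtain ⟨-, R, hR⟩ := fullyAutomized_of_fullyNormalized hS F hF hQfn
  obtain ⟨ρ, hρ⟩ : ∃ ρ : F.autGroup Q →* MulAut (Subgroup.center Q),
      ρ = (cenRes Q).comp (F.autGroup Q).subtype := ⟨_, rfl⟩
  have hρa : ∀ (b : F.autGroup Q) (v : Subgroup.center Q),
      ((ρ b v : Subgroup.center Q) : Q) = (b : MulAut Q) (v : Q) := by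
    intro b v
    rw [hρ]
    rfl
  have hcop : (Nat.card (Subgroup.center Q)).Coprime (R : Subgroup (F.autGroup Q)).index := by
    have hQp : IsPGroup p Q := isPGroup_of_le hS hQS
    obtain ⟨k, hk⟩ := IsPGroup.iff_card.mp (hQp.to_subgroup (Subgroup.center Q))
    rw [hk]
    apply Nat.Coprime.pow_left
    rw [Nat.Prime.coprime_iff_not_dvd (Fact.out : p.Prime)]
    exact R.not_dvd_index
  obtain ⟨K, hKT, hK1, hK2⟩ := trace_split ρ (R : Subgroup (F.autGroup Q)) hcop
  obtain ⟨ι, hι⟩ : ∃ ι : Subgroup.center Q →* Ω, ι = Q.subtype.comp (Subgroup.center Q).subtype :=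
    ⟨_, rfl⟩
  have hιa : ∀ v : Subgroup.center Q, ι v = ((v : Q) : Ω) := fun v => by rw [hι]; rfl
  have hιinj : Function.Injective ι := by
    intro a b hab
    rw [hιa, hιa] at hab
    exact Subtype.ext (Subtype.ext hab)
  -- membership of the fixed points of `R`
  have hfixT : ∀ v : Subgroup.center Q, v ∈ fixedSub ρ (R : Subgroup (F.autGroup Q)) ↔
      ∀ g ∈ S, g * ((v : Q) : Ω) * g⁻¹ = ((v : Q) : Ω) := by
    intro v
    constructor
    · intro hv g hg
      have ht : conjAut Q ⟨g, hSN hg⟩ ∈ autInducedBy S Q := by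
        rw [mem_autInducedBy_iff]
        exact ⟨g, hg, fun x => rfl⟩
      have htR : (⟨conjAut Q ⟨g, hSN hg⟩, autInducedBy_le_autGroup F hQS ht⟩ : F.autGroup Q) ∈
          (R : Subgroup (F.autGroup Q)) := by
        rw [hR]
        exact Subgroup.mem_subgroupOf.mpr ht
      have h1 := hv _ htR
      have h2 := congrArg (fun w : Subgroup.center Q => ((w : Q) : Ω)) h1
      simp only [hρa] at h2
      exact h2
    · intro hv t ht
      rw [hR, Subgroup.mem_subgroupOf, mem_autInducedBy_iff] at ht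
      obtain ⟨g, hg, hgt⟩ := ht
      apply Subtype.ext
      apply Subtype.ext
      rw [hρa, hgt]
      exact hv g hg
  -- Z(S) as the image of the fixed points of `R`
  have hZS : (fixedSub ρ (R : Subgroup (F.autGroup Q))).map ι =
      S ⊓ Subgroup.centralizer (S : Set Ω) := by
    apply le_antisymm
    · rintro _ ⟨v, hv, rfl⟩
      rw [hιa]
      refine ⟨hQS (v : Q).2, ?_⟩
      show _ ∈ Subgroup.centralizer (S : Set Ω)
      rw [Subgroup.mem_centralizer_iff]
      intro g hg
      have := (hfixT v).mp hv g hg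
      calc g * ((v : Q) : Ω) = (g * ((v : Q) : Ω) * g⁻¹) * g := by group
        _ = ((v : Q) : Ω) * g := by rw [this]
    · intro z hz
      have hzQ : z ∈ Q := hZ hz
      have hzc : ∀ g ∈ S, g * z = z * g := fun g hg =>
        (Subgroup.mem_centralizer_iff.mp hz.2) g hg
      have hzcen : (⟨z, hzQ⟩ : Q) ∈ Subgroup.center Q := by
        rw [Subgroup.mem_center_iff]
        intro y
        apply Subtype.ext
        exact hzc y (hQS y.2)
      refine ⟨⟨⟨z, hzQ⟩, hzcen⟩, ?_, ?_⟩
      · rw [SetLike.mem_coe, hfixT]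
        intro g hg
        show g * z * g⁻¹ = z
        rw [hzc g hg]
        group
      · rw [hιa]
  -- the centre of the system as the image of the global fixed points
  have hcen := isCentral_center F
  have hZF : (fixedSub ρ ⊤).map ι = F.center := by
    apply le_antisymm
    · apply le_sSup
      have hCQ : (fixedSub ρ ⊤).map ι ≤ Q := by
        rintro _ ⟨v, -, rfl⟩
        rw [hιa]
        exact (v : Q).2
      refine ⟨hCQ.trans hQS, fun P φ hφ => ?_⟩
      obtain ⟨ψ, hψ, hψφ, hψQ⟩ := hQn.2 P φ hφ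
      have hleQ : Q ≤ P ⊔ Q := le_sup_right
      have hψ' := restrict_mem F hψ hleQ
      have hrange : (ψ.comp (Subgroup.inclusion hleQ)).range = Q :=
        (range_comp_inclusion hleQ ψ).trans hψQ
      obtain ⟨α, hα, hαψ⟩ := exists_aut_of_hom F hψ' hrange
      have hle : P ⊔ (fixedSub ρ ⊤).map ι ≤ P ⊔ Q := sup_le_sup_left hCQ P
      have key : ∀ (c : Ω) (hc : c ∈ (fixedSub ρ ⊤).map ι) (hc' : c ∈ P ⊔ Q),
          ψ ⟨c, hc'⟩ = c := by
        intro c hc hc'
        obtain ⟨v, hv, hvc⟩ := hc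
        have h1 := hv ⟨α, hα⟩ trivial
        have h2 := congrArg (fun w : Subgroup.center Q => ((w : Q) : Ω)) h1
        simp only [hρa] at h2
        have h3 := hαψ (v : Q)
        rw [h2] at h3
        have h4 : c = ((v : Q) : Ω) := by rw [← hvc, hιa]
        subst h4
        calc ψ ⟨((v : Q) : Ω), hc'⟩ = ψ (Subgroup.inclusion hleQ (v : Q)) := by
              apply congrArg
              exact Subtype.ext rfl
          _ = ((v : Q) : Ω) := h3.symm
      refine ⟨ψ.comp (Subgroup.inclusion hle), restrict_mem F hψ hle, fun x => ?_,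
        fun x => key x.1 x.2 _⟩
      rw [← hψφ x]
      show ψ _ = ψ _
      congr 1
    · intro z hz
      have hzS : z ∈ S := hcen.1 hz
      have hzZ : z ∈ S ⊓ Subgroup.centralizer (S : Set Ω) := by
        refine ⟨hzS, ?_⟩
        show z ∈ Subgroup.centralizer (S : Set Ω)
        rw [Subgroup.mem_centralizer_iff]
        intro g hg
        have := map_eq_of_isCentral F hcen (F.conj_mem le_rfl hg) ⟨z, hzS⟩ hz
        have h' : g * z * g⁻¹ = z := this
        calc g * z = (g * z * g⁻¹) * g := by group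
          _ = z * g := by rw [h']
      rw [← hZS] at hzZ
      obtain ⟨v, -, rfl⟩ := hzZ
      refine ⟨v, ?_, rfl⟩
      intro b _
      apply Subtype.ext
      apply Subtype.ext
      rw [hρa]
      have hφ := hom_of_mem_autGroup F hQS b.2
      have := map_eq_of_isCentral F hcen hφ (v : Q) (by rw [← hιa]; exact hz)
      exact this
  refine ⟨K.map ι, ?_, ?_, ?_⟩
  · rw [← hZS]
    exact Subgroup.map_mono hKT
  · rw [← hZF, ← Subgroup.map_inf _ _ ι hιinj, hK1, Subgroup.map_bot]
  · rw [← hZF, ← Subgroup.map_sup, hK2, hZS]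

end Cfsg.Agent.Lib.Lead.Fus
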