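import Mathlib
import Cfsg.Agent.Lib.Lead.Fus5
import Cfsg.Agent.Lib.Helper9.NormalSylowAut

set_option autoImplicit false

namespace Cfsg.Agent.Lib.Lead.Fus

open Cfsg Cfsg.FusionSystem Cfsg.Agent.Lib.Helper9
open scoped commutatorElement

section abstract

variable {E : Type*} [Group E]

/-- automorphisms normalizing each small cyclic subgroup of `H` -/
def normSmall (p : ℕ) (H : Subgroup E) : Subgroup (MulAut E) where
  carrier := {β | ∀ a ∈ H, (a ^ p = 1 ∨ (p = 2 ∧ a ^ 4 = 1)) →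
    β a ∈ Subgroup.zpowers a ∧ β⁻¹ a ∈ Subgroup.zpowers a}
  one_mem' := by
    intro a _ _
    refine ⟨Subgroup.mem_zpowers a, ?_⟩
    rw [inv_one]
    exact Subgroup.mem_zpowers a
  mul_mem' := by
    intro β γ hβ hγ a ha hs
    constructor
    · obtain ⟨j, hj⟩ := Subgroup.mem_zpowers_iff.mp (hγ a ha hs).1
      rw [MulAut.mul_apply, ← hj, map_zpow]
      exact Subgroup.zpow_mem _ (hβ a ha hs).1 j
    · obtain ⟨j, hj⟩ := Subgroup.mem_zpowers_iff.mp (hβ a ha hs).2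
      rw [mul_inv_rev, MulAut.mul_apply, ← hj, map_zpow]
      exact Subgroup.zpow_mem _ (hγ a ha hs).2 j
  inv_mem' := by
    intro β hβ a ha hs
    refine ⟨(hβ a ha hs).2, ?_⟩
    rw [inv_inv]
    exact (hβ a ha hs).1

theorem mem_normSmall {p : ℕ} {H : Subgroup E} {β : MulAut E} :
    β ∈ normSmall p H ↔ ∀ a ∈ H, (a ^ p = 1 ∨ (p = 2 ∧ a ^ 4 = 1)) →
      β a ∈ Subgroup.zpowers a ∧ β⁻¹ a ∈ Subgroup.zpowers a := Iff.rfl

/-- automorphisms fixing each small element of `H` -/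
def fixSmall (p : ℕ) (H : Subgroup E) : Subgroup (MulAut E) where
  carrier := {β | ∀ a ∈ H, (a ^ p = 1 ∨ (p = 2 ∧ a ^ 4 = 1)) → β a = a}
  one_mem' := fun a _ _ => rfl
  mul_mem' := by
    intro β γ hβ hγ a ha hs
    rw [MulAut.mul_apply, hγ a ha hs, hβ a ha hs]
  inv_mem' := by
    intro β hβ a ha hs
    have := hβ a ha hs
    calc β⁻¹ a = β⁻¹ (β a) := by rw [this]
      _ = a := MulAut.inv_apply_self _ β a

theorem mem_fixSmall {p : ℕ} {H : Subgroup E} {β : MulAut E} :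
    β ∈ fixSmall p H ↔ ∀ a ∈ H, (a ^ p = 1 ∨ (p = 2 ∧ a ^ 4 = 1)) → β a = a := Iff.rfl

theorem small_map {p : ℕ} (γ : MulAut E) {a : E} (hs : a ^ p = 1 ∨ (p = 2 ∧ a ^ 4 = 1)) :
    (γ a) ^ p = 1 ∨ (p = 2 ∧ (γ a) ^ 4 = 1) := by
  rcases hs with h | ⟨h2, h4⟩
  · left; rw [← map_pow, h, map_one]
  · right; exact ⟨h2, by rw [← map_pow, h4, map_one]⟩

theorem conj_mem_normSmall {p : ℕ} {H : Subgroup E} {γ β : MulAut E}
    (hγ' : ∀ a ∈ H, γ⁻¹ a ∈ H) (hβ : β ∈ normSmall p H) :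
    γ * β * γ⁻¹ ∈ normSmall p H := by
  refine mem_normSmall.mpr ?_
  intro a ha hs
  have hs' := small_map γ⁻¹ hs
  have ha' := hγ' a ha
  have key : ∀ δ : MulAut E, δ (γ⁻¹ a) ∈ Subgroup.zpowers (γ⁻¹ a) →
      (γ * δ * γ⁻¹) a ∈ Subgroup.zpowers a := by
    intro δ hδ
    obtain ⟨j, hj⟩ := Subgroup.mem_zpowers_iff.mp hδ
    rw [MulAut.mul_apply, MulAut.mul_apply, ← hj, map_zpow, MulAut.apply_inv_self]
    exact Subgroup.zpow_mem _ (Subgroup.mem_zpowers a) j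
  refine ⟨key β ((mem_normSmall.mp hβ) _ ha' hs').1, ?_⟩
  have : (γ * β * γ⁻¹)⁻¹ = γ * β⁻¹ * γ⁻¹ := by group
  rw [this]
  exact key β⁻¹ ((mem_normSmall.mp hβ) _ ha' hs').2

theorem conj_mem_fixSmall {p : ℕ} {H : Subgroup E} {γ β : MulAut E}
    (hγ' : ∀ a ∈ H, γ⁻¹ a ∈ H) (hβ : β ∈ fixSmall p H) :
    γ * β * γ⁻¹ ∈ fixSmall p H := by
  refine mem_fixSmall.mpr ?_
  intro a ha hs
  rw [MulAut.mul_apply, MulAut.mul_apply, (mem_fixSmall.mp hβ) _ (hγ' a ha) (small_map γ⁻¹ hs),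
    MulAut.apply_inv_self]

theorem commutator_mem_fixSmall {p : ℕ} {H : Subgroup E} {β γ : MulAut E}
    (hβ : β ∈ normSmall p H) (hγ : γ ∈ normSmall p H) : ⁅β, γ⁆ ∈ fixSmall p H := by
  refine mem_fixSmall.mpr ?_
  intro a ha hs
  obtain ⟨i, hi⟩ := Subgroup.mem_zpowers_iff.mp ((mem_normSmall.mp hβ) a ha hs).1
  obtain ⟨i', hi'⟩ := Subgroup.mem_zpowers_iff.mp ((mem_normSmall.mp hβ) a ha hs).2
  obtain ⟨j, hj⟩ := Subgroup.mem_zpowers_iff.mp ((mem_normSmall.mp hγ) a ha hs).1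
  obtain ⟨j', hj'⟩ := Subgroup.mem_zpowers_iff.mp ((mem_normSmall.mp hγ) a ha hs).2
  have hβz : ∀ k : ℤ, β (a ^ k) = a ^ (i * k) := by
    intro k; rw [map_zpow, ← hi, ← zpow_mul]
  have hβz' : ∀ k : ℤ, β⁻¹ (a ^ k) = a ^ (i' * k) := by
    intro k; rw [map_zpow, ← hi', ← zpow_mul]
  have hγz : ∀ k : ℤ, γ (a ^ k) = a ^ (j * k) := by
    intro k; rw [map_zpow, ← hj, ← zpow_mul]
  have hγz' : ∀ k : ℤ, γ⁻¹ (a ^ k) = a ^ (j' * k) := by
    intro k; rw [map_zpow, ← hj', ← zpow_mul]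
  have h1 : a ^ (i * i') = a := by
    have := MulAut.apply_inv_self _ β a
    rw [← hi', hβz] at this
    exact this
  have h2 : a ^ (j * j') = a := by
    have := MulAut.apply_inv_self _ γ a
    rw [← hj', hγz] at this
    exact this
  have h3 : ⁅β, γ⁆ a = a ^ (i * (j * (i' * j'))) := by
    rw [commutatorElement_def, MulAut.mul_apply, MulAut.mul_apply, MulAut.mul_apply, ← hj',
      hβz', hγz, hβz]
  rw [h3]
  have : i * (j * (i' * j')) = (i * i') * (j * j') := by ring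
  rw [this, zpow_mul, h1, h2]

theorem sylow_normal_of_comm {B : Type*} [Group B] [Finite B] (p : ℕ) [Fact p.Prime]
    (R : Sylow p B) (P K : Subgroup B) [P.Normal] [K.Normal] (hRP : (R : Subgroup B) ≤ P)
    (hKp : IsPGroup p K) (hcomm : ∀ x ∈ P, ∀ y ∈ P, ⁅x, y⁆ ∈ K) : (R : Subgroup B).Normal := by
  have hKR : K ≤ R := hKp.le_sylow_of_normal R
  have key : ∀ x ∈ P, ∀ r ∈ (R : Subgroup B), x * r * x⁻¹ ∈ (R : Subgroup B) := by
    intro x hx r hr
    have h1 : x * r * x⁻¹ = ⁅x, r⁆ * r := by rw [commutatorElement_def]; group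
    rw [h1]
    exact (R : Subgroup B).mul_mem (hKR (hcomm x hx r (hRP hr))) hr
  have hPN : P ≤ Subgroup.normalizer ((R : Subgroup B) : Set B) := by
    intro x hx
    rw [Subgroup.mem_normalizer_iff]
    intro h
    constructor
    · exact key x hx h
    · intro hh
      have := key x⁻¹ (P.inv_mem hx) _ hh
      rw [inv_inv] at this
      have h2 : x⁻¹ * (x * h * x⁻¹) * x = h := by group
      rw [h2] at this
      exact this
  have hsup : Subgroup.normalizer ((R : Subgroup B) : Set B) ⊔ P = ⊤ :=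
    Sylow.normalizer_sup_eq_top' R hRP
  rw [sup_eq_left.mpr hPN] at hsup
  exact Subgroup.normalizer_eq_top_iff.mp hsup

end abstract

variable {Ω : Type*} [Group Ω] {S : Subgroup Ω}

theorem exists_normal_sylow_of_small_normal [Finite S] (p : ℕ) [Fact p.Prime] (hS : IsPGroup p S)
    (F : FusionSystem S) (hF : F.IsSaturated p)
    (hnorm : ∀ x ∈ F.focalSubgroup, (x ^ p = 1 ∨ (p = 2 ∧ x ^ 4 = 1)) → ∀ s ∈ S,
      s * x * s⁻¹ ∈ Subgroup.zpowers x)
    (P : Subgroup Ω) (hfn : F.IsFullyNormalized P) :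
    ∃ R : Sylow p ↥(F.autGroup P), (R : Subgroup ↥(F.autGroup P)).Normal := by
  classical
  have hPS : P ≤ S := hfn.1
  have hfinP : Finite P := finite_of_le hPS
  obtain ⟨-, R, hR⟩ := fullyAutomized_of_fullyNormalized hS F hF hfn
  refine ⟨R, ?_⟩
  obtain ⟨H, hH⟩ : ∃ H : Subgroup P, H = F.focalSubgroup.subgroupOf P := ⟨_, rfl⟩
  have hmemH : ∀ a : P, a ∈ H ↔ (a : Ω) ∈ F.focalSubgroup := by
    intro a; rw [hH]; exact Subgroup.mem_subgroupOf
  have hsmall : ∀ a : P, (a ^ p = 1 ∨ (p = 2 ∧ a ^ 4 = 1)) →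
      ((a : Ω) ^ p = 1 ∨ (p = 2 ∧ (a : Ω) ^ 4 = 1)) := by
    intro a hs
    rcases hs with h | ⟨h2, h4⟩
    · left; rw [← Subgroup.coe_pow, h, Subgroup.coe_one]
    · right; exact ⟨h2, by rw [← Subgroup.coe_pow, h4, Subgroup.coe_one]⟩
  have hsmall' : ∀ a : P, ((a : Ω) ^ p = 1 ∨ (p = 2 ∧ (a : Ω) ^ 4 = 1)) →
      (a ^ p = 1 ∨ (p = 2 ∧ a ^ 4 = 1)) := by
    intro a hs
    rcases hs with h | ⟨h2, h4⟩
    · left; apply Subtype.ext; rw [Subgroup.coe_pow, h, Subgroup.coe_one]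
    · right; exact ⟨h2, by apply Subtype.ext; rw [Subgroup.coe_pow, h4, Subgroup.coe_one]⟩
  have hfoc : ∀ γ ∈ F.autGroup P, ∀ x : P,
      (x : Ω)⁻¹ * ((γ x : P) : Ω) ∈ F.focalSubgroup := by
    intro γ hγ x
    apply Subgroup.subset_closure
    exact ⟨P, P.subtype.comp γ.toMonoidHom, x, hom_of_mem_autGroup F hPS hγ, rfl⟩
  have hpres : ∀ γ ∈ F.autGroup P, ∀ a ∈ H, γ a ∈ H := by
    intro γ hγ a ha
    rw [hmemH] at ha ⊢
    have := Subgroup.mul_mem _ ha (hfoc γ hγ a)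
    rw [mul_inv_cancel_left] at this
    exact this
  have hpres' : ∀ γ ∈ F.autGroup P, ∀ a ∈ H, γ⁻¹ a ∈ H :=
    fun γ hγ => hpres γ⁻¹ (Subgroup.inv_mem _ hγ)
  haveI hPn : ((normSmall p H).subgroupOf (F.autGroup P)).Normal := by
    refine ⟨fun n hn g => ?_⟩
    rw [Subgroup.mem_subgroupOf] at hn ⊢
    exact conj_mem_normSmall (hpres' g g.2) hn
  haveI hKn : ((fixSmall p H).subgroupOf (F.autGroup P)).Normal := by
    refine ⟨fun n hn g => ?_⟩
    rw [Subgroup.mem_subgroupOf] at hn ⊢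
    exact conj_mem_fixSmall (hpres' g g.2) hn
  have hKp : IsPGroup p ((fixSmall p H).subgroupOf (F.autGroup P)) := by
    apply isPGroup_of_coprime_trivial p
    intro g hg
    have hgB : ((g : F.autGroup P) : MulAut P) ∈ F.autGroup P := (g : F.autGroup P).2
    have hgK : ((g : F.autGroup P) : MulAut P) ∈ fixSmall p H := Subgroup.mem_subgroupOf.mp g.2
    have hg' : (orderOf ((g : F.autGroup P) : MulAut P)).Coprime p := by
      rw [Subgroup.orderOf_coe, Subgroup.orderOf_coe]; exact hg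
    have h1 : ((g : F.autGroup P) : MulAut P) = 1 := by
      apply aut_eq_one_of_conj p hS F.focalSubgroup hPS _ hg'
      · intro k x
        exact hfoc _ (Subgroup.pow_mem _ hgB k) x
      · intro a haY hs k
        refine ⟨1, S.one_mem, ?_⟩
        have hk : ((g : F.autGroup P) : MulAut P) ^ k ∈ fixSmall p H := Subgroup.pow_mem _ hgK k
        rw [(mem_fixSmall.mp hk) a ((hmemH a).mpr haY) (hsmall' a hs)]
        simp
    apply Subtype.ext
    apply Subtype.ext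
    exact h1
  have hRP : (R : Subgroup (F.autGroup P)) ≤ (normSmall p H).subgroupOf (F.autGroup P) := by
    rw [hR]
    intro α hα
    rw [Subgroup.mem_subgroupOf] at hα ⊢
    revert hα
    suffices h : autInducedBy S P ≤ normSmall p H from fun hα => h hα
    unfold autInducedBy
    rw [Subgroup.closure_le]
    rintro α ⟨g, hg, hα⟩
    refine mem_normSmall.mpr ?_
    intro a ha hs
    have haY := (hmemH a).mp ha
    have hsΩ := hsmall a hs
    constructor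
    · obtain ⟨j, hj⟩ := Subgroup.mem_zpowers_iff.mp (hnorm _ haY hsΩ g hg)
      rw [Subgroup.mem_zpowers_iff]
      refine ⟨j, Subtype.ext ?_⟩
      rw [Subgroup.coe_zpow, hj, hα]
    · obtain ⟨j, hj⟩ := Subgroup.mem_zpowers_iff.mp (hnorm _ haY hsΩ g⁻¹ (S.inv_mem hg))
      rw [Subgroup.mem_zpowers_iff]
      refine ⟨j, Subtype.ext ?_⟩
      rw [Subgroup.coe_zpow, hj]
      have h1 := hα (α⁻¹ a)
      rw [MulAut.apply_inv_self] at h1
      rw [h1]; group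
  exact sylow_normal_of_comm p R _ _ hRP hKp (by
    intro x hx y hy
    rw [Subgroup.mem_subgroupOf] at hx hy ⊢
    exact commutator_mem_fixSmall hx hy)

/-- S5300 -/
theorem top_normal_of_small_normal [Finite S] (p : ℕ) [Fact p.Prime] (hS : IsPGroup p S)
    (F : FusionSystem S) (hF : F.IsSaturated p)
    (hnorm : ∀ x ∈ F.focalSubgroup, (x ^ p = 1 ∨ (p = 2 ∧ x ^ 4 = 1)) → ∀ s ∈ S,
      s * x * s⁻¹ ∈ Subgroup.zpowers x) :
    F.IsNormal S :=
  top_normal_of_normal_sylow_auts p hS F hF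
    (fun P hfn _ _ => exists_normal_sylow_of_small_normal p hS F hF hnorm P hfn)

end Cfsg.Agent.Lib.Lead.Fus
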