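import Mathlib
import Cfsg.Agent.Lib.Lead.Fus7
import Cfsg.Agent.Lib.Helper9.NormalSeries3

set_option autoImplicit false

namespace Cfsg.Agent.Lib.Lead.Fus

open Cfsg Cfsg.FusionSystem Cfsg.Agent.Lib.Helper9
open scoped commutatorElement

section zmod

theorem zmod_two_torsion (a : ℕ) (ha : 1 ≤ a) (u : ZMod (2 ^ a)) (h : 2 • u = 0) :
    u = 0 ∨ u = ((2 ^ (a - 1) : ℕ) : ZMod (2 ^ a)) := by
  haveI : NeZero (2 ^ a) := ⟨by positivity⟩
  obtain ⟨m, hm⟩ : ∃ m : ℕ, m = u.val := ⟨_, rfl⟩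
  have hu : ((m : ℕ) : ZMod (2 ^ a)) = u := by rw [hm]; exact ZMod.natCast_zmod_val u
  have hlt : m < 2 ^ a := by rw [hm]; exact ZMod.val_lt u
  have h1 : 2 ^ a ∣ 2 * m := by
    rw [← ZMod.natCast_eq_zero_iff, Nat.cast_mul, hu, Nat.cast_ofNat, two_mul, ← two_nsmul]
    exact h
  obtain ⟨P, hP⟩ : ∃ P : ℕ, P = 2 ^ (a - 1) := ⟨_, rfl⟩
  have h2a : 2 ^ a = 2 * P := by rw [hP, ← pow_succ']; congr 1; omega
  rw [h2a] at h1 hlt
  have h3 : P ∣ m := Nat.dvd_of_mul_dvd_mul_left (by norm_num : 0 < 2) h1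
  obtain ⟨t, ht⟩ := h3
  have ht2 : t < 2 := by
    by_contra hc
    push_neg at hc
    have := Nat.mul_le_mul_left P hc
    rw [← ht] at this
    omega
  interval_cases t
  · left; rw [← hu, ht, mul_zero, Nat.cast_zero]
  · right; rw [← hu, ht, mul_one, hP]

theorem zmod_pow_smul_eq_zero (a k : ℕ) (hak : a ≤ k) (v : ZMod (2 ^ a)) : (2 ^ k) • v = 0 := by
  rw [nsmul_eq_mul]
  have : ((2 ^ k : ℕ) : ZMod (2 ^ a)) = 0 :=
    (ZMod.natCast_eq_zero_iff _ _).mpr (pow_dvd_pow 2 hak)
  rw [this, zero_mul]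

variable {n : ℕ} (a : Fin n → ℕ)

def InUAdd (k : ℕ) (X : (i : Fin n) → ZMod (2 ^ a i)) : Prop :=
  2 • X = 0 ∧ ∃ Y : (i : Fin n) → ZMod (2 ^ a i), X = (2 ^ k) • Y

theorem inUAdd_iff (ha1 : ∀ i, 1 ≤ a i) (k : ℕ) (X : (i : Fin n) → ZMod (2 ^ a i)) :
    InUAdd a k X ↔ (2 • X = 0 ∧ ∀ i, X i ≠ 0 → k < a i) := by
  classical
  constructor
  · rintro ⟨h2, Y, hY⟩
    refine ⟨h2, fun i hi => ?_⟩
    by_contra hk
    push_neg at hk
    apply hi
    rw [hY, Pi.smul_apply]
    exact zmod_pow_smul_eq_zero (a i) k hk (Y i)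
  · rintro ⟨h2, hk⟩
    refine ⟨h2, fun i => if X i = 0 then 0 else ((2 ^ (a i - 1 - k) : ℕ) : ZMod (2 ^ a i)), ?_⟩
    funext i
    rw [Pi.smul_apply]
    by_cases hi : X i = 0
    · rw [if_pos hi, smul_zero, hi]
    · rw [if_neg hi]
      have h2i : 2 • X i = 0 := by
        have := congrFun h2 i
        simpa using this
      rcases zmod_two_torsion (a i) (ha1 i) (X i) h2i with h0 | h1
      · exact absurd h0 hi
      · rw [h1, nsmul_eq_mul, ← Nat.cast_mul, ← pow_add]
        congr 2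
        have := hk i hi
        omega

theorem dist_add (ha : Function.Injective a) (ha1 : ∀ i, 1 ≤ a i) (k : ℕ)
    (X X' : (i : Fin n) → ZMod (2 ^ a i))
    (h1 : InUAdd a k X) (h2 : InUAdd a k X') (h3 : ¬ InUAdd a (k + 1) X)
    (h4 : ¬ InUAdd a (k + 1) X') : InUAdd a (k + 1) (-X + X') := by
  rw [inUAdd_iff a ha1] at h1 h2 h3 h4 ⊢
  obtain ⟨hX2, hXk⟩ := h1
  obtain ⟨hX'2, hX'k⟩ := h2
  have e1 : ∃ i, X i ≠ 0 ∧ a i = k + 1 := by
    by_contra hcon
    push_neg at hcon
    apply h3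
    refine ⟨hX2, fun i hi => ?_⟩
    have := hXk i hi
    have := hcon i hi
    omega
  have e2 : ∃ i, X' i ≠ 0 ∧ a i = k + 1 := by
    by_contra hcon
    push_neg at hcon
    apply h4
    refine ⟨hX'2, fun i hi => ?_⟩
    have := hX'k i hi
    have := hcon i hi
    omega
  obtain ⟨i0, hi0, hai0⟩ := e1
  obtain ⟨i1, hi1, hai1⟩ := e2
  have hi01 : i0 = i1 := ha (hai0.trans hai1.symm)
  subst hi01
  refine ⟨?_, fun i hi => ?_⟩
  · rw [smul_add, smul_neg, hX2, hX'2]
    simp
  · by_cases hii : i = i0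
    · exfalso
      subst hii
      apply hi
      have t1 := zmod_two_torsion (a i) (ha1 i) (X i)
        (by have := congrFun hX2 i; simpa using this)
      have t2 := zmod_two_torsion (a i) (ha1 i) (X' i)
        (by have := congrFun hX'2 i; simpa using this)
      rcases t1 with t1 | t1
      · exact absurd t1 hi0
      rcases t2 with t2 | t2
      · exact absurd t2 hi1
      show (-X + X') i = 0
      rw [Pi.add_apply, Pi.neg_apply, t1, t2, neg_add_cancel]
    · have hne : a i ≠ k + 1 := fun h => hii (ha (h.trans hai0.symm))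
      have hor : X i ≠ 0 ∨ X' i ≠ 0 := by
        by_contra hcon
        push_neg at hcon
        apply hi
        show (-X + X') i = 0
        rw [Pi.add_apply, Pi.neg_apply, hcon.1, hcon.2]
        simp
      rcases hor with h | h
      · have := hXk i h
        omega
      · have := hX'k i h
        omega

end zmod

section abstract

def InU {M : Type*} [Monoid M] (k : ℕ) (x : M) : Prop := x ^ 2 = 1 ∧ ∃ y : M, x = y ^ (2 ^ k)

theorem inU_map {M N : Type*} [Group M] [Group N] (e : M ≃* N) {k : ℕ} {x : M} (h : InU k x) :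
    InU k (e x) := by
  obtain ⟨h2, y, hy⟩ := h
  exact ⟨by rw [← map_pow, h2, map_one], e y, by rw [hy, map_pow]⟩

theorem dist_of_equiv {M N : Type*} [Group M] [Group N] (e : M ≃* N)
    (hN : ∀ (k : ℕ) (x x' : N), InU k x → InU k x' → ¬ InU (k + 1) x → ¬ InU (k + 1) x' →
      InU (k + 1) (x⁻¹ * x')) :
    ∀ (k : ℕ) (x x' : M), InU k x → InU k x' → ¬ InU (k + 1) x → ¬ InU (k + 1) x' →
      InU (k + 1) (x⁻¹ * x') := by
  intro k x x' h1 h2 h3 h4
  have h3' : ¬ InU (k + 1) (e x) := by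
    intro h
    apply h3
    have := inU_map e.symm h
    rwa [e.symm_apply_apply] at this
  have h4' : ¬ InU (k + 1) (e x') := by
    intro h
    apply h4
    have := inU_map e.symm h
    rwa [e.symm_apply_apply] at this
  have h5 := inU_map e.symm (hN k (e x) (e x') (inU_map e h1) (inU_map e h2) h3' h4')
  rwa [map_mul, map_inv, e.symm_apply_apply, e.symm_apply_apply] at h5

theorem odd_aut_trivial {M : Type*} [Group M] [Finite M] (hM : IsPGroup 2 M)
    (hcomm : ∀ x y : M, x * y = y * x)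
    (hdist : ∀ (k : ℕ) (x x' : M), InU k x → InU k x' → ¬ InU (k + 1) x → ¬ InU (k + 1) x' →
      InU (k + 1) (x⁻¹ * x'))
    (α : MulAut M) (hcop : (orderOf α).Coprime 2) : α = 1 := by
  haveI : Fact (Nat.Prime 2) := ⟨Nat.prime_two⟩
  obtain ⟨N, hN⟩ := IsPGroup.iff_card.mp hM
  have hpowN : ∀ y : M, y ^ (2 ^ N) = 1 := fun y => by rw [← hN]; exact pow_card_eq_one'
  have A1 : ∀ d k : ℕ, k + d = N → ∀ x : M, InU k x → α x = x := by
    intro d
    induction d with
    | zero =>
      intro k hk x hx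
      obtain ⟨-, y, hy⟩ := hx
      have hkN : k = N := by omega
      rw [hy, hkN, hpowN, map_one]
    | succ d ih =>
      intro k hk x hx
      by_cases hx1 : InU (k + 1) x
      · exact ih (k + 1) (by omega) x hx1
      · have hαx : InU k (α x) := inU_map α hx
        have hαx1 : ¬ InU (k + 1) (α x) := by
          intro h
          apply hx1
          have := inU_map α⁻¹ h
          rwa [MulAut.inv_apply_self] at this
        have hc := hdist k x (α x) hx hαx hx1 hαx1
        exact fix_of_comm_fix hM α hcop x (ih (k + 1) (by omega) _ hc)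
  have A2 : ∀ j : ℕ, ∀ x : M, x ^ (2 ^ j) = 1 → α x = x := by
    intro j
    induction j with
    | zero =>
      intro x hx
      rw [pow_zero, pow_one] at hx
      rw [hx, map_one]
    | succ j ih =>
      intro x hx
      apply fix_of_comm_fix hM α hcop x
      apply ih
      have hw : InU j (x ^ (2 ^ j)) := ⟨by rw [← pow_mul, ← pow_succ]; exact hx, x, rfl⟩
      have hαw : α (x ^ (2 ^ j)) = x ^ (2 ^ j) := by
        by_cases hjN : j ≤ N
        · exact A1 (N - j) j (by omega) _ hw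
        · have h2j : 2 ^ j = 2 ^ N * 2 ^ (j - N) := by
            rw [← pow_add]
            congr 1
            omega
          have : x ^ (2 ^ j) = 1 := by rw [h2j, pow_mul, hpowN, one_pow]
          rw [this, map_one]
      have hc : Commute x⁻¹ (α x) := hcomm _ _
      rw [hc.mul_pow, inv_pow, ← map_pow, hαw, inv_mul_cancel]
  ext x
  exact A2 N x (hpowN x)

end abstract

section mult

variable {n : ℕ} (a : Fin n → ℕ)

theorem inU_iff_add (k : ℕ) (x : Multiplicative ((i : Fin n) → ZMod (2 ^ a i))) :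
    InU k x ↔ InUAdd a k (Multiplicative.toAdd x) := by
  constructor
  · rintro ⟨h2, y, hy⟩
    refine ⟨?_, Multiplicative.toAdd y, ?_⟩
    · have := congrArg Multiplicative.toAdd h2
      rw [toAdd_pow, toAdd_one] at this
      exact this
    · rw [hy, toAdd_pow]
  · rintro ⟨h2, Y, hY⟩
    refine ⟨?_, Multiplicative.ofAdd Y, ?_⟩
    · apply Multiplicative.toAdd.injective
      rw [toAdd_pow, toAdd_one]
      exact h2
    · apply Multiplicative.toAdd.injective
      rw [toAdd_pow, toAdd_ofAdd]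
      exact hY

theorem dist_mul (ha : Function.Injective a) (ha1 : ∀ i, 1 ≤ a i) (k : ℕ)
    (x x' : Multiplicative ((i : Fin n) → ZMod (2 ^ a i)))
    (h1 : InU k x) (h2 : InU k x') (h3 : ¬ InU (k + 1) x) (h4 : ¬ InU (k + 1) x') :
    InU (k + 1) (x⁻¹ * x') := by
  rw [inU_iff_add] at h1 h2 h3 h4 ⊢
  rw [toAdd_mul, toAdd_inv]
  exact dist_add a ha ha1 k _ _ h1 h2 h3 h4

end mult

variable {Ω : Type*} [Group Ω] {S : Subgroup Ω}

theorem inner_of_autS_pGroup [Finite S] (p : ℕ) [Fact p.Prime] (hS : IsPGroup p S)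
    (F : FusionSystem S) (hF : F.IsSaturated p)
    (hab : ∀ x y : S, x * y = y * x) (hA : IsPGroup p (MulAut S)) : F = innerFusionSystem S := by
  apply eq_inner_of_autGroups_pGroups p hS F hF
  intro P hPS
  have hfinP : Finite P := finite_of_le hPS
  have hcomm : ⁅S, S⁆ ≤ (⊥ : Subgroup Ω) := by
    rw [Subgroup.commutator_le]
    intro x hx y hy
    rw [Subgroup.mem_bot, commutatorElement_eq_one_iff_mul_comm]
    exact congrArg Subtype.val (hab ⟨x, hx⟩ ⟨y, hy⟩)
  have hSn : F.IsNormal S :=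
    normal_of_abelian_stronglyClosed p hS F hF S hcomm (stronglyClosed_top F)
  apply isPGroup_of_coprime_trivial p
  intro g hg
  obtain ⟨β, hβ⟩ : ∃ β : MulAut P, β = (g : MulAut P) := ⟨_, rfl⟩
  have hβA : β ∈ F.autGroup P := hβ ▸ g.2
  have hcop : (orderOf β).Coprime p := by rw [hβ, Subgroup.orderOf_coe]; exact hg
  obtain ⟨α, hα, hαβ⟩ := exists_aut_of_normal F hSn hPS (hom_of_mem_autGroup F hPS hβA)
  have hpow : ∀ (j : ℕ) (x : P),
      ((α ^ j) (Subgroup.inclusion hPS x) : S) = Subgroup.inclusion hPS ((β ^ j) x) := by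
    intro j
    induction j with
    | zero => intro x; rfl
    | succ j ih =>
      intro x
      rw [pow_succ', MulAut.mul_apply, ih, pow_succ', MulAut.mul_apply]
      apply Subtype.ext
      exact hαβ _
  obtain ⟨k, hk⟩ := hA α
  have hβk : β ^ (p ^ k) = 1 := by
    ext x
    have h := hpow (p ^ k) x
    rw [hk] at h
    have h' := congrArg (fun z : S => (z : Ω)) h
    exact h'.symm
  have h1 : orderOf β ∣ p ^ k := orderOf_dvd_of_pow_eq_one hβk
  have h2 : orderOf β = 1 := Nat.Coprime.eq_one_of_dvd (Nat.Coprime.pow_right k hcop) h1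
  have h3 : β = 1 := orderOf_eq_one_iff.mp h2
  apply Subtype.ext
  rw [← hβ, h3]
  rfl

/-- S5331 -/
theorem inner_of_distinct_cyclic [Finite S] (n : ℕ) (a : Fin n → ℕ) (ha : StrictMono a)
    (ha1 : ∀ i, 1 ≤ a i) (e : ↥S ≃* Multiplicative ((i : Fin n) → ZMod (2 ^ a i)))
    (F : FusionSystem S) (hF : F.IsSaturated 2) (P : Subgroup Ω) :
    F.Hom P = (innerFusionSystem S).Hom P := by
  haveI : Fact (Nat.Prime 2) := ⟨Nat.prime_two⟩
  have hab : ∀ x y : S, x * y = y * x := by
    intro x y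
    apply e.injective
    rw [map_mul, map_mul, mul_comm]
  have hS : IsPGroup 2 S := by
    intro x
    refine ⟨∑ i, a i, ?_⟩
    apply e.injective
    rw [map_pow, map_one]
    apply Multiplicative.toAdd.injective
    rw [toAdd_pow, toAdd_one]
    funext i
    rw [Pi.smul_apply]
    exact zmod_pow_smul_eq_zero (a i) _
      (Finset.single_le_sum (fun _ _ => Nat.zero_le _) (Finset.mem_univ i)) _
  have hdist := dist_of_equiv e (dist_mul a ha.injective ha1)
  have hA : IsPGroup 2 (MulAut S) :=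
    isPGroup_of_coprime_trivial 2 (fun α hα => odd_aut_trivial hS hab hdist α hα)
  have := inner_of_autS_pGroup 2 hS F hF hab hA
  rw [this]

end Cfsg.Agent.Lib.Lead.Fus
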