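import Mathlib
import Cfsg.Agent.Lib.Helper4.ConjClass

set_option autoImplicit false

/-! Conjugacy classes fixed by a coprime `p`-group of automorphisms. -/

namespace Cfsg.Agent.Lib.Lead.GlaubClass

variable {p : ℕ} [Fact p.Prime]
variable {G : Type*} [Group G] [Finite G] {K : Type*} [Group K]

/-- a `p`-group of automorphisms stabilising a set of size prime to `p` fixes a point of it. -/
theorem exists_fixed_of_invariant (Q : Subgroup (MulAut G)) (hQ : IsPGroup p Q) (T : Set G)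
    (hT : ∀ q ∈ Q, ∀ t ∈ T, q t ∈ T) (hpT : ¬ p ∣ Nat.card T) :
    ∃ t ∈ T, ∀ q ∈ Q, q t = t := by
  letI : MulAction Q T :=
    { smul := fun q t => ⟨(q : MulAut G) t, hT q q.2 t t.2⟩
      one_smul := fun t => Subtype.ext rfl
      mul_smul := fun q q' t => Subtype.ext rfl }
  obtain ⟨t, ht⟩ := hQ.nonempty_fixed_point_of_prime_not_dvd_card T hpT
  refine ⟨t, t.2, fun q hq => ?_⟩
  have := ht ⟨q, hq⟩
  exact congrArg Subtype.val this

/-- the hypotheses on the fixed point embedding. -/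
structure IsFix (Q : Subgroup (MulAut G)) (ι : K →* G) : Prop where
  inj : Function.Injective ι
  fix : ∀ g, (∃ k, ι k = g) ↔ ∀ q ∈ Q, q g = g

theorem IsFix.apply {Q : Subgroup (MulAut G)} {ι : K →* G} (h : IsFix Q ι) {q : MulAut G}
    (hq : q ∈ Q) (k : K) : q (ι k) = ι k := (h.fix (ι k)).1 ⟨k, rfl⟩ q hq

/-- every invariant class meets the fixed points. -/
theorem exists_mk_eq (Q : Subgroup (MulAut G)) (hQ : IsPGroup p Q) (hpG : ¬ p ∣ Nat.card G)
    {ι : K →* G} (h : IsFix Q ι) (C : ConjClasses G)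
    (hC : ∀ q ∈ Q, ∀ g, ConjClasses.mk g = C → ConjClasses.mk (q g) = C) :
    ∃ k, ConjClasses.mk (ι k) = C := by
  obtain ⟨g0, rfl⟩ := ConjClasses.mk_surjective C
  have hdvd : Nat.card (ConjClasses.mk g0).carrier ∣ Nat.card G :=
    ⟨_, (Cfsg.Agent.Lib.Helper4.card_carrier_mul_card_centralizer g0).symm⟩
  have hpT : ¬ p ∣ Nat.card (ConjClasses.mk g0).carrier := fun hd => hpG (hd.trans hdvd)
  obtain ⟨t, ht, hfix⟩ := exists_fixed_of_invariant Q hQ (ConjClasses.mk g0).carrier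
    (fun q hq t ht => by
      rw [ConjClasses.mem_carrier_iff_mk_eq] at ht ⊢
      exact hC q hq t ht) hpT
  obtain ⟨k, hk⟩ := (h.fix t).2 hfix
  refine ⟨k, ?_⟩
  rw [hk]
  exact ConjClasses.mem_carrier_iff_mk_eq.1 ht

/-- fixed points conjugate in `G` are conjugate under the fixed points. -/
theorem isConj_of_isConj (Q : Subgroup (MulAut G)) (hQ : IsPGroup p Q) (hpG : ¬ p ∣ Nat.card G)
    {ι : K →* G} (h : IsFix Q ι) {k k' : K} (hc : IsConj (ι k) (ι k')) : IsConj k k' := by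
  obtain ⟨x0, hx0⟩ := isConj_iff.1 hc
  set T : Set G := {x | x * ι k * x⁻¹ = ι k'} with hT
  have hcard : Nat.card T = Nat.card (Subgroup.centralizer ({ι k} : Set G)) := by
    refine Nat.card_congr ⟨fun x => ⟨x0⁻¹ * x.1, ?_⟩, fun y => ⟨x0 * y.1, ?_⟩, ?_, ?_⟩
    · have hx : x.1 * ι k * x.1⁻¹ = ι k' := x.2
      rw [Subgroup.mem_centralizer_singleton_iff]
      have e1 : ι k = x0⁻¹ * ι k' * x0 := by rw [← hx0]; group
      have e2 : ι k = x.1⁻¹ * ι k' * x.1 := by rw [← hx]; group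
      calc x0⁻¹ * x.1 * ι k = x0⁻¹ * (x.1 * ι k * x.1⁻¹) * x.1 := by group
        _ = x0⁻¹ * ι k' * x0 * (x0⁻¹ * x.1) := by rw [hx]; group
        _ = ι k * (x0⁻¹ * x.1) := by rw [← e1]
    · have hy := y.2
      rw [Subgroup.mem_centralizer_singleton_iff] at hy
      change x0 * y.1 * ι k * (x0 * y.1)⁻¹ = ι k'
      calc x0 * y.1 * ι k * (x0 * y.1)⁻¹ = x0 * (y.1 * ι k) * y.1⁻¹ * x0⁻¹ := by group
        _ = x0 * (ι k * y.1) * y.1⁻¹ * x0⁻¹ := by rw [hy]
        _ = x0 * ι k * x0⁻¹ := by group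
        _ = ι k' := hx0
    · intro x; ext; simp
    · intro y; ext; simp
  have hpT : ¬ p ∣ Nat.card T := by
    rw [hcard]
    exact fun hd => hpG (hd.trans (Subgroup.card_subgroup_dvd_card _))
  obtain ⟨t, ht, hfix⟩ := exists_fixed_of_invariant Q hQ T
    (fun q hq t ht => by
      have ht' : t * ι k * t⁻¹ = ι k' := ht
      change q t * ι k * (q t)⁻¹ = ι k'
      have := congrArg q ht'
      rw [map_mul, map_mul, map_inv, h.apply hq, h.apply hq] at this
      exact this) hpT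
  obtain ⟨y, hy⟩ := (h.fix t).2 hfix
  have ht' : t * ι k * t⁻¹ = ι k' := ht
  rw [← hy, ← map_inv, ← map_mul, ← map_mul] at ht'
  exact isConj_iff.2 ⟨y, h.inj ht'⟩

omit [Finite G] in
theorem map_mk (ι : K →* G) (k : K) :
    ConjClasses.map ι (ConjClasses.mk k) = ConjClasses.mk (ι k) := rfl

/-- the classes of the fixed points map into the invariant classes. -/
theorem map_invariant (Q : Subgroup (MulAut G)) {ι : K →* G} (h : IsFix Q ι)
    (c : ConjClasses K) : ∀ q ∈ Q, ∀ g, ConjClasses.mk g = ConjClasses.map ι c →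
      ConjClasses.mk (q g) = ConjClasses.map ι c := by
  obtain ⟨k, rfl⟩ := ConjClasses.mk_surjective c
  intro q hq g hg
  rw [map_mk] at hg ⊢
  rw [ConjClasses.mk_eq_mk_iff_isConj] at hg ⊢
  obtain ⟨x, hx⟩ := isConj_iff.1 hg
  refine isConj_iff.2 ⟨q x, ?_⟩
  have := congrArg q hx
  rw [map_mul, map_mul, map_inv, h.apply hq] at this
  exact this

/-- the invariant classes. -/
abbrev FixedClasses (Q : Subgroup (MulAut G)) : Type _ :=
  {C : ConjClasses G // ∀ q ∈ Q, ∀ g, ConjClasses.mk g = C → ConjClasses.mk (q g) = C}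

/-- the class correspondence. -/
noncomputable def classEquiv (Q : Subgroup (MulAut G)) (hQ : IsPGroup p Q)
    (hpG : ¬ p ∣ Nat.card G) {ι : K →* G} (h : IsFix Q ι) :
    ConjClasses K ≃ FixedClasses Q :=
  Equiv.ofBijective (fun c => ⟨ConjClasses.map ι c, map_invariant Q h c⟩)
    ⟨by
      intro c c' hcc
      obtain ⟨k, rfl⟩ := ConjClasses.mk_surjective c
      obtain ⟨k', rfl⟩ := ConjClasses.mk_surjective c'
      have h1 : ConjClasses.map ι (ConjClasses.mk k) = ConjClasses.map ι (ConjClasses.mk k') :=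
        congrArg Subtype.val hcc
      rw [map_mk, map_mk,
        ConjClasses.mk_eq_mk_iff_isConj] at h1
      exact ConjClasses.mk_eq_mk_iff_isConj.2 (isConj_of_isConj Q hQ hpG h h1),
     by
      intro C
      obtain ⟨k, hk⟩ := exists_mk_eq Q hQ hpG h C.1 C.2
      refine ⟨ConjClasses.mk k, Subtype.ext ?_⟩
      change ConjClasses.map ι (ConjClasses.mk k) = C.1
      rw [map_mk, hk]⟩

theorem classEquiv_apply (Q : Subgroup (MulAut G)) (hQ : IsPGroup p Q)
    (hpG : ¬ p ∣ Nat.card G) {ι : K →* G} (h : IsFix Q ι) (c : ConjClasses K) :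
    ((classEquiv Q hQ hpG h c : FixedClasses Q) : ConjClasses G) = ConjClasses.map ι c := rfl

end Cfsg.Agent.Lib.Lead.GlaubClass
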