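import Mathlib
import Cfsg.Agent.Lib.Lead.GlaubRep3
import Cfsg.Agent.Lib.Lead.GlaubClass
import Cfsg.Agent.Lib.Helper6.PermCount
import Cfsg.Agent.Lib.Helper6.ClassCount
import Cfsg.Agent.Lib.Helper6.Auto

set_option autoImplicit false

/-! The Glauberman correspondence for an automorphism of prime order. -/

namespace Cfsg.Agent.Lib.Lead.GlaubRep

open Module Cfsg.Agent.Lib.Helper6 Cfsg.Agent.Lib.Lead.GlaubTwist Cfsg.Agent.Lib.Lead.GlaubComb
open Cfsg.Agent.Lib.Lead.GlaubClass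
open scoped ComplexConjugate

variable {p : ℕ} [Fact p.Prime]
variable {G : Type*} [Group G] [Fintype G] {K : Type*} [Group K] [Fintype K]

/-- the conclusions of the correspondence. -/
structure GlaubProp (p : ℕ) (ι : K →* G) (inv : (G → ℂ) → Prop) : Prop where
  ex : ∀ χ : Cfsg.IrrCharacter G, inv χ → ∃ β0 : Cfsg.IrrCharacter K,
      (∃ m : ℕ, Cfsg.classInner (fun k => (χ : G → ℂ) (ι k)) (β0 : K → ℂ) = m ∧
        ((m : ℤ) ≡ 1 [ZMOD p] ∨ (m : ℤ) ≡ -1 [ZMOD p])) ∧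
      ∀ β : Cfsg.IrrCharacter K, β ≠ β0 →
        ∃ m : ℕ, Cfsg.classInner (fun k => (χ : G → ℂ) (ι k)) (β : K → ℂ) = ((p * m : ℕ) : ℂ)
  inj : ∀ χ χ' : Cfsg.IrrCharacter G, inv χ → inv χ' → ∀ (β : Cfsg.IrrCharacter K) (m m' : ℕ),
      Cfsg.classInner (fun k => (χ : G → ℂ) (ι k)) (β : K → ℂ) = m → ¬ p ∣ m →
      Cfsg.classInner (fun k => (χ' : G → ℂ) (ι k)) (β : K → ℂ) = m' → ¬ p ∣ m' → χ = χ'
  surj : ∀ β : Cfsg.IrrCharacter K, ∃ χ : Cfsg.IrrCharacter G, inv χ ∧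
      ∃ m : ℕ, Cfsg.classInner (fun k => (χ : G → ℂ) (ι k)) (β : K → ℂ) = m ∧ ¬ p ∣ m

omit [Fact p.Prime] in
theorem not_dvd_of_modEq (hp : p.Prime) {m : ℕ}
    (h : (m : ℤ) ≡ 1 [ZMOD p] ∨ (m : ℤ) ≡ -1 [ZMOD p]) : ¬ p ∣ m := by
  intro hd
  have h0 : (m : ℤ) ≡ 0 [ZMOD p] := by
    rw [Int.modEq_zero_iff_dvd]
    exact_mod_cast hd
  have h1 : (p : ℤ) ∣ 1 := by
    rcases h with h | h
    · exact (Int.modEq_zero_iff_dvd.1 (h.symm.trans h0))
    · have := Int.modEq_zero_iff_dvd.1 (h.symm.trans h0)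
      simpa using this
  have h2 : p ∣ 1 := by exact_mod_cast h1
  exact hp.one_lt.ne' (Nat.dvd_one.1 h2)

omit [Fact p.Prime] [Fintype G] in
/-- uniqueness of the correspondent from the multiplicity data. -/
theorem eq_of_not_dvd {ι : K →* G} {f : G → ℂ} {β0 : Cfsg.IrrCharacter K}
    (h : ∀ β : Cfsg.IrrCharacter K, β ≠ β0 →
      ∃ m : ℕ, Cfsg.classInner (fun k => f (ι k)) (β : K → ℂ) = ((p * m : ℕ) : ℂ))
    {β : Cfsg.IrrCharacter K} {m : ℕ}
    (hm : Cfsg.classInner (fun k => f (ι k)) (β : K → ℂ) = m) (hpm : ¬ p ∣ m) : β = β0 := by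
  by_contra hne
  obtain ⟨m', hm'⟩ := h β hne
  rw [hm] at hm'
  have : m = p * m' := Nat.cast_injective hm'
  exact hpm ⟨m', this⟩

variable {V : Type*} [AddCommGroup V] [Module ℂ V] [FiniteDimensional ℂ V]
variable {W : Type*} [AddCommGroup W] [Module ℂ W] [FiniteDimensional ℂ W]

/-- orthogonality of the restricted twisted characters. -/
theorem classInner_fj_orth {ρ : Representation ℂ G V} [ρ.IsIrreducible]
    {σ : Representation ℂ G W} [σ.IsIrreducible] (hne : ρ.character ≠ σ.character)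
    {α : MulAut G} {M : V →ₗ[ℂ] V} {M' : W →ₗ[ℂ] W}
    (h : IsDatum ρ α p M) (h' : IsDatum σ α p M') (hαp : α ^ p = 1)
    (hpG : ¬ p ∣ Fintype.card G) (ι : K →* G) (hinj : Function.Injective ι)
    (hfix : ∀ g, (∃ k, ι k = g) ↔ α g = g) (j : ZMod p) (hj : j ≠ 0) :
    Cfsg.classInner (fj ρ M ι j) (fj σ M' ι j) = 0 := by
  have hp : p.Prime := Fact.out
  have hv0 : j.val ≠ 0 := fun h0 => hj ((ZMod.val_eq_zero j).1 h0)
  have hvp : j.val < p := ZMod.val_lt j
  have hcop : Nat.Coprime j.val p := by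
    apply Nat.Coprime.symm
    rw [Nat.Prime.coprime_iff_not_dvd hp]
    intro hd
    exact hv0 (Nat.eq_zero_of_dvd_of_lt hd hvp)
  have hαp' : (α ^ j.val) ^ p = 1 := by rw [← pow_mul, mul_comm, pow_mul, hαp, one_pow]
  have hfix' : ∀ g, (∃ k, ι k = g) ↔ (α ^ j.val) g = g := by
    intro g
    rw [hfix g]
    exact ⟨fun hg => pow_fix α hg _, fun hg => fix_of_pow_fix α hαp hcop hg⟩
  have hd := h.pow_datum j.val
  have hd' := h'.pow_datum j.val
  have h1 := sum_fix_eq (α ^ j.val) hαp' hpG ι hinj hfix'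
    (fun g => tw ρ (M ^ j.val) g * conj (tw σ (M' ^ j.val) g))
    (fun x g => by rw [tw_twist hd, tw_twist hd'])
  unfold Cfsg.classInner fj
  rw [h1, sum_tw_orth hne hp.pos hd', mul_zero]

/-- the correspondence for an automorphism of order dividing `p`. -/
theorem glaub_basic (α : MulAut G) (hαp : α ^ p = 1) (hpG : ¬ p ∣ Fintype.card G)
    (ι : K →* G) (hinj : Function.Injective ι) (hfix : ∀ g, (∃ k, ι k = g) ↔ α g = g) :
    GlaubProp p ι (fun f => ∀ g, f (α g) = f g) := by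
  classical
  have hp : p.Prime := Fact.out
  haveI : Fintype (Cfsg.IrrCharacter K) := Fintype.ofFinite _
  have hι : ∀ k, α (ι k) = ι k := fun k => (hfix (ι k)).1 ⟨k, rfl⟩
  -- existence
  have hex : ∀ χ : Cfsg.IrrCharacter G, (∀ g, (χ : G → ℂ) (α g) = (χ : G → ℂ) g) →
      ∃ β0 : Cfsg.IrrCharacter K,
      (∃ m : ℕ, Cfsg.classInner (fun k => (χ : G → ℂ) (ι k)) (β0 : K → ℂ) = m ∧
        ((m : ℤ) ≡ 1 [ZMOD p] ∨ (m : ℤ) ≡ -1 [ZMOD p])) ∧
      ∀ β : Cfsg.IrrCharacter K, β ≠ β0 →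
        ∃ m : ℕ, Cfsg.classInner (fun k => (χ : G → ℂ) (ι k)) (β : K → ℂ)
          = ((p * m : ℕ) : ℂ) := by
    rintro ⟨χf, n, ρ, hirr, rfl⟩ hinv
    haveI := hirr
    obtain ⟨M, hM⟩ := exists_datum ρ α hp.pos hαp hinv
    obtain ⟨β0, h1, h2, -⟩ := exists_correspondent hM hαp hpG ι hinj hfix
    exact ⟨β0, h1, fun β hβ => (h2 β hβ).1⟩
  -- injectivity
  have hinj' : ∀ χ χ' : Cfsg.IrrCharacter G, (∀ g, (χ : G → ℂ) (α g) = (χ : G → ℂ) g) →
      (∀ g, (χ' : G → ℂ) (α g) = (χ' : G → ℂ) g) → ∀ (β : Cfsg.IrrCharacter K) (m m' : ℕ),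
      Cfsg.classInner (fun k => (χ : G → ℂ) (ι k)) (β : K → ℂ) = m → ¬ p ∣ m →
      Cfsg.classInner (fun k => (χ' : G → ℂ) (ι k)) (β : K → ℂ) = m' → ¬ p ∣ m' → χ = χ' := by
    rintro ⟨χf, n, ρ, hirr, rfl⟩ ⟨χf', n', σ, hirr', rfl⟩ hinv hinv' β m m' hm hpm hm' hpm'
    haveI := hirr
    haveI := hirr'
    by_contra hne
    have hne' : ρ.character ≠ σ.character := fun h => hne (Subtype.ext h)
    obtain ⟨M, hM⟩ := exists_datum ρ α hp.pos hαp hinv
    obtain ⟨M', hM'⟩ := exists_datum σ α hp.pos hαp hinv'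
    obtain ⟨β0, -, h2, h3⟩ := exists_correspondent hM hαp hpG ι hinj hfix
    obtain ⟨β0', -, h2', h3'⟩ := exists_correspondent hM' hαp hpG ι hinj hfix
    have e1 : β = β0 := eq_of_not_dvd (f := ρ.character) (fun β hβ => (h2 β hβ).1) hm hpm
    have e2 : β = β0' := eq_of_not_dvd (f := σ.character) (fun β hβ => (h2' β hβ).1) hm' hpm'
    subst e1
    subst e2
    have horth := classInner_fj_orth hne' hM hM' hαp hpG ι hinj hfix 1 one_ne_zero
    rw [classInner_eq_sum_irr _ _ (fj_isClassFunction hM' ι hι 1)] at horth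
    rw [Finset.sum_eq_single β] at horth
    · rcases mul_eq_zero.1 horth with h0 | h0
      · exact h3 h0
      · exact h3' ((map_eq_zero _).1 h0)
    · intro b _ hb
      rw [(h2 b hb).2, zero_mul]
    · intro hb
      exact absurd (Finset.mem_univ β) hb
  -- surjectivity by counting
  have hsurj : ∀ β : Cfsg.IrrCharacter K, ∃ χ : Cfsg.IrrCharacter G,
      (∀ g, (χ : G → ℂ) (α g) = (χ : G → ℂ) g) ∧
      ∃ m : ℕ, Cfsg.classInner (fun k => (χ : G → ℂ) (ι k)) (β : K → ℂ) = m ∧ ¬ p ∣ m := by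
    let X := {χ : Cfsg.IrrCharacter G // ∀ g, (χ : G → ℂ) (α g) = (χ : G → ℂ) g}
    let Φ : X → Cfsg.IrrCharacter K := fun x => Classical.choose (hex x.1 x.2)
    have hΦ : ∀ x : X, ∃ m : ℕ,
        Cfsg.classInner (fun k => (x.1 : G → ℂ) (ι k)) (Φ x : K → ℂ) = m ∧ ¬ p ∣ m := by
      intro x
      obtain ⟨m, hm, hmod⟩ := (Classical.choose_spec (hex x.1 x.2)).1
      exact ⟨m, hm, not_dvd_of_modEq hp hmod⟩
    have hΦinj : Function.Injective Φ := by
      intro x y hxy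
      obtain ⟨m, hm, hpm⟩ := hΦ x
      obtain ⟨m', hm', hpm'⟩ := hΦ y
      rw [← hxy] at hm'
      exact Subtype.ext (hinj' x.1 y.1 x.2 y.2 (Φ x) m m' hm hpm hm' hpm')
    -- cardinalities
    have hQ : IsPGroup p (Subgroup.zpowers α) := by
      rintro ⟨q, hq⟩
      obtain ⟨n, rfl⟩ := Subgroup.mem_zpowers_iff.1 hq
      refine ⟨1, Subtype.ext ?_⟩
      change (α ^ n) ^ p ^ 1 = 1
      rw [pow_one, ← zpow_natCast, ← zpow_mul, mul_comm, zpow_mul, zpow_natCast, hαp, one_zpow]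
    have hIsFix : IsFix (Subgroup.zpowers α) ι :=
      ⟨hinj, fun g => by
        rw [hfix g]
        constructor
        · intro hg q hq
          obtain ⟨n, rfl⟩ := Subgroup.mem_zpowers_iff.1 hq
          exact zpow_fix α hg n
        · intro hq
          exact hq α (Subgroup.mem_zpowers α)⟩
    have hpG' : ¬ p ∣ Nat.card G := by rwa [Nat.card_eq_fintype_card]
    have hc1 : Nat.card X = Nat.card {χ : Cfsg.IrrCharacter G // (χ : G → ℂ) ∘ α = (χ : G → ℂ)} := by
      apply Nat.card_congr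
      apply Equiv.subtypeEquivRight
      intro χ
      rw [funext_iff]
      rfl
    have hc2 := card_fixed_classes_eq_card_fixed_irr (G := G) α
      (fun x y hxy => α.toMonoidHom.map_isConj hxy)
      (fun χ => IsIrrCharacter.comp_mulEquiv α χ.2)
    have hc3 : Nat.card {C : ConjClasses G // ∀ g : G, ConjClasses.mk g = C → IsConj g (α g)}
        = Nat.card (FixedClasses (Subgroup.zpowers α)) := by
      apply Nat.card_congr
      apply Equiv.subtypeEquivRight
      intro C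
      constructor
      · intro hC q hq
        obtain ⟨n, rfl⟩ := Subgroup.mem_zpowers_iff.1 hq
        rw [zpow_eq_zpow_emod' n hαp]
        have hn0 : 0 ≤ n % (p : ℤ) := Int.emod_nonneg _ (by exact_mod_cast hp.ne_zero)
        obtain ⟨k, hk⟩ := Int.eq_ofNat_of_zero_le hn0
        rw [hk, zpow_natCast]
        clear hk hn0
        induction k with
        | zero => intro g hg; simpa using hg
        | succ k ih =>
          intro g hg
          rw [pow_succ', MulAut.mul_apply]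
          have h1 := ih g hg
          have h2 := hC _ h1
          rw [← h1]
          exact (ConjClasses.mk_eq_mk_iff_isConj.2 h2).symm
      · intro hC g hg
        have h1 := hC α (Subgroup.mem_zpowers α) g hg
        rw [← hg] at h1
        exact (ConjClasses.mk_eq_mk_iff_isConj.1 h1).symm
    have hc4 : Nat.card (ConjClasses K) = Nat.card (FixedClasses (Subgroup.zpowers α)) :=
      Nat.card_congr (classEquiv (Subgroup.zpowers α) hQ hpG' hIsFix)
    have hcard : Nat.card (Cfsg.IrrCharacter K) ≤ Nat.card X := by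
      rw [hc1, ← hc2, hc3, ← hc4, card_irrCharacter]
    have hbij := hΦinj.bijective_of_nat_card_le hcard
    intro β
    obtain ⟨x, rfl⟩ := hbij.2 β
    exact ⟨x.1, x.2, hΦ x⟩
  exact ⟨hex, hinj', hsurj⟩

end Cfsg.Agent.Lib.Lead.GlaubRep
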