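import Mathlib
import Cfsg.Agent.Lib.Lead.GlaubBasic

set_option autoImplicit false

/-! The Glauberman correspondence for a `p`-group of automorphisms. -/

namespace Cfsg.Agent.Lib.Lead.GlaubRep

open Module Cfsg.Agent.Lib.Helper6 Cfsg.Agent.Lib.Lead.GlaubTwist Cfsg.Agent.Lib.Lead.GlaubComb
open Cfsg.Agent.Lib.Lead.GlaubClass
open scoped ComplexConjugate

universe u v

section arith

variable {p : ℕ}

theorem not_dvd_of_modEq_mul (hp : p.Prime) {N a b : ℕ} (h : N ≡ a * b [MOD p])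
    (ha : ¬ p ∣ a) (hb : ¬ p ∣ b) : ¬ p ∣ N := by
  intro hd
  have := (h.dvd_iff (dvd_refl p)).1 hd
  rcases (Nat.Prime.dvd_mul hp).1 this with h1 | h1
  exacts [ha h1, hb h1]

theorem not_dvd_right_of_modEq_mul {N a b : ℕ} (h : N ≡ a * b [MOD p]) (hN : ¬ p ∣ N) :
    ¬ p ∣ b := by
  intro hd
  exact hN ((h.dvd_iff (dvd_refl p)).2 (Dvd.dvd.mul_left hd a))

theorem pm_one_of_modEq_mul {N a b : ℕ} (h : N ≡ a * b [MOD p])
    (ha : (a : ℤ) ≡ 1 [ZMOD p] ∨ (a : ℤ) ≡ -1 [ZMOD p])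
    (hb : (b : ℤ) ≡ 1 [ZMOD p] ∨ (b : ℤ) ≡ -1 [ZMOD p]) :
    (N : ℤ) ≡ 1 [ZMOD p] ∨ (N : ℤ) ≡ -1 [ZMOD p] := by
  have h' : (N : ℤ) ≡ (a : ℤ) * (b : ℤ) [ZMOD p] := by
    have := Int.natCast_modEq_iff.2 h
    simpa using this
  rcases ha with ha | ha <;> rcases hb with hb | hb
  · left; simpa using h'.trans (ha.mul hb)
  · right; simpa using h'.trans (ha.mul hb)
  · right; simpa using h'.trans (ha.mul hb)
  · left; simpa using h'.trans (ha.mul hb)

end arith

section central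

variable {p : ℕ} [Fact p.Prime]

theorem exists_central {A : Type*} [Group A] [Finite A] (Q : Subgroup A) (hQ : IsPGroup p Q)
    (hQ1 : Q ≠ ⊥) : ∃ α ∈ Q, (∀ q ∈ Q, Commute q α) ∧ α ≠ 1 ∧ α ^ p = 1 := by
  haveI : Nontrivial Q := (Subgroup.nontrivial_iff_ne_bot Q).2 hQ1
  haveI := hQ.center_nontrivial
  have hZ : IsPGroup p (Subgroup.center Q) := hQ.to_subgroup _
  obtain ⟨n, hn0, hn⟩ := hZ.nontrivial_iff_card.1 inferInstance
  have hdvd : p ∣ Nat.card (Subgroup.center Q) := by rw [hn]; exact dvd_pow_self p hn0.ne'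
  obtain ⟨z, hz⟩ := exists_prime_orderOf_dvd_card' (G := Subgroup.center Q) p hdvd
  refine ⟨((z : Q) : A), (z : Q).2, ?_, ?_, ?_⟩
  · intro q hq
    have := Subgroup.mem_center_iff.1 z.2 ⟨q, hq⟩
    exact congrArg Subtype.val this
  · intro h1
    have : z = 1 := Subtype.ext (Subtype.ext h1)
    rw [this, orderOf_one] at hz
    exact (Fact.out : p.Prime).one_lt.ne hz
  · have := pow_orderOf_eq_one z
    rw [hz] at this
    have := congrArg (fun x : Subgroup.center Q => ((x : Q) : A)) this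
    simpa using this

end central

section res

variable {G : Type*} [Group G]

theorem fix_of_commute {α q : MulAut G} (h : Commute q α) {c : G} (hc : α c = c) :
    α (q c) = q c := by
  have := congrArg (fun f : MulAut G => f c) h.eq
  simp only [MulAut.mul_apply] at this
  rw [← this, hc]

/-- restriction of an automorphism commuting with `α` to the fixed points of `α`. -/
def resAut (α q : MulAut G) (hq : Commute q α) : MulAut (fixSub α) where
  toFun c := ⟨q c.1, fix_of_commute hq c.2⟩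
  invFun c := ⟨q⁻¹ c.1, fix_of_commute hq.inv_left c.2⟩
  left_inv c := Subtype.ext (by simp)
  right_inv c := Subtype.ext (by simp)
  map_mul' a b := Subtype.ext (map_mul q _ _)

/-- the restriction homomorphism. -/
def resHom (α : MulAut G) (Q : Subgroup (MulAut G)) (hc : ∀ q ∈ Q, Commute q α) :
    Q →* MulAut (fixSub α) :=
  MonoidHom.mk' (fun q => resAut α q.1 (hc q.1 q.2)) (fun a b => by ext c; rfl)

theorem resHom_apply (α : MulAut G) (Q : Subgroup (MulAut G)) (hc : ∀ q ∈ Q, Commute q α)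
    (q : Q) (c : fixSub α) : ((resHom α Q hc q c : fixSub α) : G) = q.1 c.1 := rfl

end res

section formula

variable {p : ℕ}
variable {G : Type*} [Group G] {C : Type*} [Group C] [Fintype C] {K : Type*} [Group K] [Fintype K]

/-- transitivity of multiplicities. -/
theorem mult_formula [Fintype (Cfsg.IrrCharacter C)] (ι₁ : C →* G) (ι' : K →* C) {f : G → ℂ}
    (hf : Cfsg.IsCharacter G f) (β : K → ℂ) :
    Cfsg.classInner (fun x => f (ι₁ (ι' x))) β
      = ∑ ψ : Cfsg.IrrCharacter C, Cfsg.classInner (fun c => f (ι₁ c)) (ψ : C → ℂ)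
          * Cfsg.classInner (fun x => (ψ : C → ℂ) (ι' x)) β := by
  have hcf : Cfsg.IsClassFunction C (fun c => f (ι₁ c)) :=
    IsCharacter.isClassFunction (IsCharacter.comp ι₁ hf)
  have h1 := classFunction_eq_sum _ hcf
  have h2 : (fun x => f (ι₁ (ι' x)))
      = ∑ ψ : Cfsg.IrrCharacter C, Cfsg.classInner (fun c => f (ι₁ c)) (ψ : C → ℂ)
          • (fun x => (ψ : C → ℂ) (ι' x)) := by
    funext x
    have := congrFun h1 (ι' x)
    simp only [Finset.sum_apply, Pi.smul_apply] at this ⊢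
    exact this
  conv_lhs => rw [h2]
  rw [classInner_sum_left]
  apply Finset.sum_congr rfl
  intro ψ _
  rw [classInner_smul_left]

/-- multiplicities modulo `p`. -/
theorem mult_mod (ι₁ : C →* G) (ι' : K →* C) {f : G → ℂ}
    (hf : Cfsg.IsCharacter G f) (ψ0 : Cfsg.IrrCharacter C) (m0 : ℕ)
    (hm0 : Cfsg.classInner (fun c => f (ι₁ c)) (ψ0 : C → ℂ) = m0)
    (hrest : ∀ ψ : Cfsg.IrrCharacter C, ψ ≠ ψ0 →
      ∃ m : ℕ, Cfsg.classInner (fun c => f (ι₁ c)) (ψ : C → ℂ) = ((p * m : ℕ) : ℂ))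
    (β : Cfsg.IrrCharacter K) :
    ∃ N k : ℕ, Cfsg.classInner (fun x => f (ι₁ (ι' x))) (β : K → ℂ) = N ∧
      Cfsg.classInner (fun x => (ψ0 : C → ℂ) (ι' x)) (β : K → ℂ) = k ∧ N ≡ m0 * k [MOD p] := by
  classical
  haveI : Fintype (Cfsg.IrrCharacter C) := Fintype.ofFinite _
  have hk : ∀ ψ : Cfsg.IrrCharacter C, ∃ k : ℕ,
      Cfsg.classInner (fun x => (ψ : C → ℂ) (ι' x)) (β : K → ℂ) = k := fun ψ =>
    IsCharacter.classInner_irr_nat (IsCharacter.comp ι' (IsIrrCharacter.isCharacter ψ.2)) β.2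
  choose k hk using hk
  let mfun : Cfsg.IrrCharacter C → ℕ := fun ψ =>
    if h : ψ = ψ0 then 0 else Classical.choose (hrest ψ h)
  have hn : ∀ ψ : Cfsg.IrrCharacter C, Cfsg.classInner (fun c => f (ι₁ c)) (ψ : C → ℂ)
      = ((if ψ = ψ0 then m0 else p * mfun ψ : ℕ) : ℂ) := by
    intro ψ
    by_cases h : ψ = ψ0
    · rw [if_pos h, h, hm0]
    · rw [if_neg h]
      have := Classical.choose_spec (hrest ψ h)
      simp only [mfun, dif_neg h]
      exact this
  refine ⟨∑ ψ : Cfsg.IrrCharacter C, (if ψ = ψ0 then m0 else p * mfun ψ) * k ψ, k ψ0, ?_, hk ψ0, ?_⟩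
  · rw [mult_formula ι₁ ι' hf]
    push_cast
    apply Finset.sum_congr rfl
    intro ψ _
    rw [hn ψ, hk ψ]
    push_cast
    rfl
  · have hN : ∑ ψ : Cfsg.IrrCharacter C, (if ψ = ψ0 then m0 else p * mfun ψ) * k ψ
        = m0 * k ψ0 + p * ∑ ψ ∈ Finset.univ.erase ψ0, mfun ψ * k ψ := by
      rw [← Finset.add_sum_erase _ _ (Finset.mem_univ ψ0), if_pos rfl, Finset.mul_sum]
      congr 1
      apply Finset.sum_congr rfl
      intro ψ hψ
      rw [if_neg (Finset.ne_of_mem_erase hψ), mul_assoc]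
    change _ % p = _ % p
    rw [hN, Nat.add_mul_mod_self_left]

end formula

end Cfsg.Agent.Lib.Lead.GlaubRep
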