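import Mathlib
import Cfsg.Agent.Lib.Lead.GlaubP

set_option autoImplicit false

/-! The Glauberman correspondence for a `p`-group of automorphisms: the induction. -/

namespace Cfsg.Agent.Lib.Lead.GlaubRep

open Module Cfsg.Agent.Lib.Helper6 Cfsg.Agent.Lib.Lead.GlaubTwist Cfsg.Agent.Lib.Lead.GlaubComb
open Cfsg.Agent.Lib.Lead.GlaubClass
open scoped ComplexConjugate

universe u v

/-- invariance under a group of automorphisms. -/
def IsInv {G : Type*} [Group G] (Q : Subgroup (MulAut G)) (f : G → ℂ) : Prop :=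
  ∀ q ∈ Q, ∀ g, f (q g) = f g

section bij

variable {p : ℕ}
variable {G : Type*} [Group G] [Fintype G] {K : Type*} [Group K] [Fintype K]

/-- the trivial case. -/
theorem glaub_of_bijective (hp : p.Prime) (ι : K →* G) (hb : Function.Bijective ι) (inv : (G → ℂ) → Prop)
    (hinv : ∀ f, inv f) : GlaubProp p ι inv := by
  classical
  let e : K ≃* G := MulEquiv.ofBijective ι hb
  have he : ∀ k, e k = ι k := fun k => rfl
  have key : ∀ (χ : Cfsg.IrrCharacter G) (β : Cfsg.IrrCharacter K),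
      Cfsg.classInner (fun k => (χ : G → ℂ) (ι k)) (β : K → ℂ)
        = if (fun k => (χ : G → ℂ) (ι k)) = (β : K → ℂ) then 1 else 0 :=
    fun χ β => classInner_isIrrCharacter (IsIrrCharacter.comp_mulEquiv e χ.2) β.2
  refine ⟨?_, ?_, ?_⟩
  · intro χ _
    refine ⟨⟨fun k => (χ : G → ℂ) (ι k), IsIrrCharacter.comp_mulEquiv e χ.2⟩, ⟨1, ?_, ?_⟩, ?_⟩
    · rw [key, if_pos rfl]; simp
    · left; rfl
    · intro β hβ
      refine ⟨0, ?_⟩
      rw [key, if_neg]
      · simp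
      · intro h
        exact hβ (Subtype.ext h.symm)
  · intro χ χ' _ _ β m m' hm hpm hm' hpm'
    have h1 : (fun k => (χ : G → ℂ) (ι k)) = (β : K → ℂ) := by
      by_contra h
      rw [key, if_neg h] at hm
      have : m = 0 := by exact_mod_cast hm.symm
      exact hpm (this ▸ dvd_zero p)
    have h2 : (fun k => (χ' : G → ℂ) (ι k)) = (β : K → ℂ) := by
      by_contra h
      rw [key, if_neg h] at hm'
      have : m' = 0 := by exact_mod_cast hm'.symm
      exact hpm' (this ▸ dvd_zero p)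
    apply Subtype.ext
    funext g
    obtain ⟨k, rfl⟩ := hb.2 g
    exact (congrFun h1 k).trans (congrFun h2 k).symm
  · intro β
    refine ⟨⟨fun g => (β : K → ℂ) (e.symm g), IsIrrCharacter.comp_mulEquiv e.symm β.2⟩,
      hinv _, 1, ?_, ?_⟩
    · rw [key, if_pos]
      · simp
      · funext k
        change (β : K → ℂ) (e.symm (ι k)) = _
        rw [← he, MulEquiv.symm_apply_apply]
    · intro h
      exact hp.one_lt.ne' (Nat.dvd_one.1 h)

end bij

section main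

variable {p : ℕ} [Fact p.Prime]

theorem glaub_p_aux : ∀ n : ℕ, ∀ (G : Type u) [Group G] [Fintype G], Fintype.card G = n →
    ∀ (Q : Subgroup (MulAut G)), IsPGroup p Q → (Q ≠ ⊥ → ¬ p ∣ Fintype.card G) →
    ∀ (K : Type v) [Group K] [Fintype K] (ι : K →* G), IsFix Q ι → GlaubProp p ι (IsInv Q) := by
  intro n
  induction n using Nat.strong_induction_on with
  | _ n ih =>
  intro G _ _ hn Q hQ hpG K _ _ ι hι
  classical
  have hp : p.Prime := Fact.out
  by_cases hQ1 : Q = ⊥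
  · subst hQ1
    apply glaub_of_bijective hp ι ⟨hι.inj, fun g => (hι.fix g).2 (fun q hq => by
      rw [Subgroup.mem_bot] at hq; rw [hq]; rfl)⟩
    intro f q hq g
    rw [Subgroup.mem_bot] at hq; rw [hq]; rfl
  have hpG' := hpG hQ1
  obtain ⟨α, hαQ, hαc, hα1, hαp⟩ := exists_central Q hQ hQ1
  set C₁ : Subgroup G := fixSub α with hC₁
  haveI : Fintype C₁ := Fintype.ofFinite _
  let r := resHom α Q hαc
  set Q' : Subgroup (MulAut C₁) := r.range with hQ'
  have hQ'p : IsPGroup p Q' := hQ.of_surjective r.rangeRestrict r.rangeRestrict_surjective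
  have hlt : Fintype.card C₁ < n := by
    rw [← hn]
    obtain ⟨g, hg⟩ : ∃ g, α g ≠ g := by
      by_contra hcon
      push Not at hcon
      exact hα1 (MulEquiv.ext hcon)
    exact Fintype.card_subtype_lt (x := g) hg
  have hpC : ¬ p ∣ Fintype.card C₁ := by
    intro hd
    apply hpG'
    have : Fintype.card C₁ ∣ Fintype.card G := by
      have := Subgroup.card_subgroup_dvd_card C₁
      rwa [Nat.card_eq_fintype_card, Nat.card_eq_fintype_card] at this
    exact hd.trans this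
  let ι' : K →* C₁ := ι.codRestrict C₁ (fun k => hι.apply hαQ k)
  have hι' : IsFix Q' ι' := by
    refine ⟨fun a b hab => hι.inj (congrArg Subtype.val hab), fun c => ?_⟩
    constructor
    · rintro ⟨k, rfl⟩ τ hτ
      obtain ⟨q, rfl⟩ := hτ
      apply Subtype.ext
      exact hι.apply q.2 k
    · intro hc
      have : ∀ q ∈ Q, q c.1 = c.1 := by
        intro q hq
        have := hc (r ⟨q, hq⟩) ⟨⟨q, hq⟩, rfl⟩
        exact congrArg Subtype.val this
      obtain ⟨k, hk⟩ := (hι.fix c.1).2 this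
      exact ⟨k, Subtype.ext hk⟩
  have I := ih (Fintype.card C₁) hlt C₁ rfl Q' hQ'p (fun _ => hpC) K ι' hι'
  have B := glaub_basic α hαp hpG' C₁.subtype Subtype.val_injective
    (fun g => ⟨by rintro ⟨c, rfl⟩; exact c.2, fun hg => ⟨⟨g, hg⟩, rfl⟩⟩)
  have F2 : ∀ χ : Cfsg.IrrCharacter G, IsInv Q χ → ∀ (ψ0 : Cfsg.IrrCharacter C₁) (m0 : ℕ),
      Cfsg.classInner (fun c : C₁ => (χ : G → ℂ) (C₁.subtype c)) (ψ0 : C₁ → ℂ) = m0 →
      ¬ p ∣ m0 →
      (∀ ψ : Cfsg.IrrCharacter C₁, ψ ≠ ψ0 → ∃ m : ℕ,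
        Cfsg.classInner (fun c : C₁ => (χ : G → ℂ) (C₁.subtype c)) (ψ : C₁ → ℂ)
          = ((p * m : ℕ) : ℂ)) →
      IsInv Q' ψ0 := by
    intro χ hχ ψ0 m0 hm0 hpm0 hrest τ hτ c
    obtain ⟨q, rfl⟩ := hτ
    let ψ' : Cfsg.IrrCharacter C₁ :=
      ⟨fun c => (ψ0 : C₁ → ℂ) (r q c), IsIrrCharacter.comp_mulEquiv (r q) ψ0.2⟩
    have h2 : Cfsg.classInner (fun c : C₁ => (χ : G → ℂ) (C₁.subtype (r q c)))
        (fun c => (ψ0 : C₁ → ℂ) (r q c))
        = Cfsg.classInner (fun c : C₁ => (χ : G → ℂ) (C₁.subtype c)) (ψ0 : C₁ → ℂ) :=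
      classInner_comp_mulEquiv (r q) (fun c : C₁ => (χ : G → ℂ) (C₁.subtype c)) (ψ0 : C₁ → ℂ)
    have e1 : (fun c : C₁ => (χ : G → ℂ) (C₁.subtype (r q c)))
        = fun c : C₁ => (χ : G → ℂ) (C₁.subtype c) := funext (fun c => hχ q.1 q.2 c.1)
    rw [e1, hm0] at h2
    have h3 : ψ' = ψ0 := eq_of_not_dvd (ι := C₁.subtype) (f := (χ : G → ℂ)) hrest h2 hpm0
    exact congrFun (congrArg Subtype.val h3) c
  refine ⟨?_, ?_, ?_⟩
  · intro χ hχ
    have hχα : ∀ g, (χ : G → ℂ) (α g) = (χ : G → ℂ) g := hχ α hαQ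
    obtain ⟨ψ0, ⟨m0, hm0, hmod0⟩, hrest0⟩ := B.ex χ hχα
    have hψ0 : IsInv Q' ψ0 := F2 χ hχ ψ0 m0 hm0 (not_dvd_of_modEq hp hmod0) hrest0
    obtain ⟨β0, ⟨m1, hm1, hmod1⟩, hrest1⟩ := I.ex ψ0 hψ0
    have hχc : Cfsg.IsCharacter G (χ : G → ℂ) := IsIrrCharacter.isCharacter χ.2
    refine ⟨β0, ?_, ?_⟩
    · obtain ⟨N, k, hN, hk, hmodN⟩ :=
        mult_mod (p := p) C₁.subtype ι' hχc ψ0 m0 hm0 hrest0 β0
      have hk1 : k = m1 := Nat.cast_injective (hk.symm.trans hm1)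
      subst hk1
      exact ⟨N, hN, pm_one_of_modEq_mul hmodN hmod0 hmod1⟩
    · intro β hβ
      obtain ⟨N, k, hN, hk, hmodN⟩ :=
        mult_mod (p := p) C₁.subtype ι' hχc ψ0 m0 hm0 hrest0 β
      obtain ⟨m', hm'⟩ := hrest1 β hβ
      have hk1 : k = p * m' := Nat.cast_injective (hk.symm.trans hm')
      have hd : p ∣ N := by
        rw [hk1] at hmodN
        exact (hmodN.dvd_iff (dvd_refl p)).2 ⟨m0 * m', by ring⟩
      obtain ⟨N', rfl⟩ := hd
      exact ⟨N', hN⟩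
  · intro χ χ' hχ hχ' β m m' hm hpm hm' hpm'
    have hχα := hχ α hαQ
    have hχ'α := hχ' α hαQ
    obtain ⟨ψ0, ⟨m0, hm0, hmod0⟩, hrest0⟩ := B.ex χ hχα
    obtain ⟨ψ0', ⟨m0', hm0', hmod0'⟩, hrest0'⟩ := B.ex χ' hχ'α
    have hψ0 := F2 χ hχ ψ0 m0 hm0 (not_dvd_of_modEq hp hmod0) hrest0
    have hψ0' := F2 χ' hχ' ψ0' m0' hm0' (not_dvd_of_modEq hp hmod0') hrest0'
    obtain ⟨N, k, hN, hk, hmodN⟩ := mult_mod (p := p) C₁.subtype ι'
      (IsIrrCharacter.isCharacter χ.2) ψ0 m0 hm0 hrest0 β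
    obtain ⟨N', k', hN', hk', hmodN'⟩ := mult_mod (p := p) C₁.subtype ι'
      (IsIrrCharacter.isCharacter χ'.2) ψ0' m0' hm0' hrest0' β
    have e1 : N = m := Nat.cast_injective (hN.symm.trans hm)
    have e2 : N' = m' := Nat.cast_injective (hN'.symm.trans hm')
    subst e1 e2
    have hpk := not_dvd_right_of_modEq_mul hmodN hpm
    have hpk' := not_dvd_right_of_modEq_mul hmodN' hpm'
    have e3 : ψ0 = ψ0' := I.inj ψ0 ψ0' hψ0 hψ0' β k k' hk hpk hk' hpk'
    subst e3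
    exact B.inj χ χ' hχα hχ'α ψ0 m0 m0' hm0 (not_dvd_of_modEq hp hmod0) hm0'
      (not_dvd_of_modEq hp hmod0')
  · intro β
    obtain ⟨ψ, hψinv, k, hk, hpk⟩ := I.surj β
    obtain ⟨χ, hχα, m, hm, hpm⟩ := B.surj ψ
    have hχQ : IsInv Q χ := by
      intro q hq g
      let χq : Cfsg.IrrCharacter G :=
        ⟨fun g => (χ : G → ℂ) (q g), IsIrrCharacter.comp_mulEquiv q χ.2⟩
      have hχqα : ∀ g, (χq : G → ℂ) (α g) = (χq : G → ℂ) g := by
        intro g
        change (χ : G → ℂ) (q (α g)) = (χ : G → ℂ) (q g)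
        have : q (α g) = α (q g) := by
          have := congrArg (fun f : MulAut G => f g) (hαc q hq).eq
          simpa [MulAut.mul_apply] using this
        rw [this, hχα]
      have hmq : Cfsg.classInner (fun c : C₁ => (χq : G → ℂ) (C₁.subtype c)) (ψ : C₁ → ℂ)
          = m := by
        have h2 : Cfsg.classInner (fun c : C₁ => (χ : G → ℂ) (C₁.subtype (r ⟨q, hq⟩ c)))
            (fun c => (ψ : C₁ → ℂ) (r ⟨q, hq⟩ c))
            = Cfsg.classInner (fun c : C₁ => (χ : G → ℂ) (C₁.subtype c)) (ψ : C₁ → ℂ) :=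
          classInner_comp_mulEquiv (r ⟨q, hq⟩) (fun c : C₁ => (χ : G → ℂ) (C₁.subtype c))
            (ψ : C₁ → ℂ)
        have e2 : (fun c : C₁ => (ψ : C₁ → ℂ) (r ⟨q, hq⟩ c)) = (ψ : C₁ → ℂ) :=
          funext (fun c => hψinv (r ⟨q, hq⟩) ⟨⟨q, hq⟩, rfl⟩ c)
        rw [e2, hm] at h2
        exact h2
      have := B.inj χq χ hχqα hχα ψ m m hmq hpm hm hpm
      exact congrFun (congrArg Subtype.val this) g
    refine ⟨χ, hχQ, ?_⟩
    obtain ⟨ψ0, ⟨m0, hm0, hmod0⟩, hrest0⟩ := B.ex χ hχα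
    have e : ψ = ψ0 := eq_of_not_dvd (ι := C₁.subtype) (f := (χ : G → ℂ)) hrest0 hm hpm
    subst e
    obtain ⟨N, k', hN, hk', hmodN⟩ := mult_mod (p := p) C₁.subtype ι'
      (IsIrrCharacter.isCharacter χ.2) ψ m0 hm0 hrest0 β
    have e2 : k' = k := Nat.cast_injective (hk'.symm.trans hk)
    subst e2
    exact ⟨N, hN, not_dvd_of_modEq_mul hp hmodN (not_dvd_of_modEq hp hmod0) hpk⟩

/-- the Glauberman correspondence for a `p`-group of automorphisms. -/
theorem glaub_p {G : Type u} [Group G] [Fintype G] (Q : Subgroup (MulAut G)) (hQ : IsPGroup p Q)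
    (hpG : Q ≠ ⊥ → ¬ p ∣ Fintype.card G) {K : Type v} [Group K] [Fintype K] (ι : K →* G)
    (hι : IsFix Q ι) : GlaubProp p ι (IsInv Q) :=
  glaub_p_aux (Fintype.card G) G rfl Q hQ hpG K ι hι

end main

end Cfsg.Agent.Lib.Lead.GlaubRep
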