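import Mathlib
import Cfsg.Agent.Lib.Lead.GlaubP2

set_option autoImplicit false

/-! The Glauberman correspondence inside an ambient group. -/

namespace Cfsg.Agent.Lib.Lead.GlaubRep

open Cfsg.Agent.Lib.Helper6 Cfsg.Agent.Lib.Lead.GlaubClass

section ambient

variable {Γ : Type*} [Group Γ]

/-- conjugation by an element normalising `G`. -/
def conjAut (G S : Subgroup Γ) (hnorm : ∀ s ∈ S, ∀ g ∈ G, s * g * s⁻¹ ∈ G) (s : S) : MulAut G where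
  toFun g := ⟨s * g * s⁻¹, hnorm s s.2 g g.2⟩
  invFun g := ⟨s⁻¹ * g * s, by
    have := hnorm (s : Γ)⁻¹ (inv_mem s.2) g g.2
    simpa using this⟩
  left_inv g := Subtype.ext (by simp [mul_assoc])
  right_inv g := Subtype.ext (by simp [mul_assoc])
  map_mul' a b := Subtype.ext (by simp [mul_assoc])

/-- the conjugation action as a homomorphism. -/
def conjHom (G S : Subgroup Γ) (hnorm : ∀ s ∈ S, ∀ g ∈ G, s * g * s⁻¹ ∈ G) : S →* MulAut G :=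
  MonoidHom.mk' (conjAut G S hnorm) (fun a b => by
    ext g
    simp [conjAut, mul_assoc])

theorem conjHom_apply (G S : Subgroup Γ) (hnorm : ∀ s ∈ S, ∀ g ∈ G, s * g * s⁻¹ ∈ G) (s : S)
    (g : G) : ((conjHom G S hnorm s g : G) : Γ) = s * g * s⁻¹ := rfl

/-- invariance in the two forms. -/
theorem isInv_range_iff (G S : Subgroup Γ) (hnorm : ∀ s ∈ S, ∀ g ∈ G, s * g * s⁻¹ ∈ G)
    (f : G → ℂ) : IsInv (conjHom G S hnorm).range f ↔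
      (∀ s ∈ S, ∀ g g' : G, (g' : Γ) = s * g * s⁻¹ → f g' = f g) := by
  constructor
  · intro h s hs g g' hg'
    have : g' = conjHom G S hnorm ⟨s, hs⟩ g := Subtype.ext hg'
    rw [this]
    exact h _ ⟨⟨s, hs⟩, rfl⟩ g
  · rintro h q ⟨s, rfl⟩ g
    exact h s s.2 g _ rfl

theorem isFix_inclusion (G S C : Subgroup Γ) [Finite G]
    (hnorm : ∀ s ∈ S, ∀ g ∈ G, s * g * s⁻¹ ∈ G)
    (hC : C = G ⊓ Subgroup.centralizer (S : Set Γ)) (hCG : C ≤ G) :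
    IsFix (conjHom G S hnorm).range (Subgroup.inclusion hCG) := by
  refine ⟨Subgroup.inclusion_injective hCG, fun g => ?_⟩
  constructor
  · rintro ⟨c, rfl⟩ q ⟨s, rfl⟩
    apply Subtype.ext
    rw [conjHom_apply]
    have hc : (c : Γ) ∈ G ⊓ Subgroup.centralizer (S : Set Γ) := hC ▸ c.2
    have h1 := Subgroup.mem_centralizer_iff.1 hc.2 s s.2
    change (s : Γ) * (c : Γ) * (s : Γ)⁻¹ = (c : Γ)
    rw [h1, mul_inv_cancel_right]
  · intro h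
    have hg : (g : Γ) ∈ C := by
      rw [hC]
      refine ⟨g.2, ?_⟩
      change (g : Γ) ∈ Subgroup.centralizer (S : Set Γ)
      rw [Subgroup.mem_centralizer_iff]
      intro s hs
      have := congrArg Subtype.val (h _ ⟨⟨s, hs⟩, rfl⟩)
      rw [conjHom_apply] at this
      change s * (g : Γ) * s⁻¹ = (g : Γ) at this
      calc s * (g : Γ) = (s * (g : Γ) * s⁻¹) * s := by group
        _ = (g : Γ) * s := by rw [this]
    exact ⟨⟨g, hg⟩, Subtype.ext rfl⟩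

end ambient

theorem s4444 {Γ : Type*} [Group Γ] [Fintype Γ] (G S : Subgroup Γ) [Fintype G] (hnorm : ∀ s ∈ S, ∀ g ∈ G, s * g * s⁻¹ ∈ G) (hcop : (Nat.card G).Coprime (Nat.card S)) (p : ℕ) (hp : p.Prime) (hS : IsPGroup p S) (C : Subgroup Γ) [Fintype C] (hC : C = G ⊓ Subgroup.centralizer (S : Set Γ)) (hCG : C ≤ G) : (∀ χ : Cfsg.IrrCharacter G, (∀ s ∈ S, ∀ g g' : G, (g' : Γ) = s * g * s⁻¹ → (χ : G → ℂ) g' = (χ : G → ℂ) g) → ∃! β : Cfsg.IrrCharacter C, ∃ m : ℕ, Cfsg.classInner (fun c : C => (χ : G → ℂ) ⟨c, hCG c.2⟩) (β : C → ℂ) = (m : ℂ) ∧ ¬ p ∣ m) ∧ (∀ χ : Cfsg.IrrCharacter G, (∀ s ∈ S, ∀ g g' : G, (g' : Γ) = s * g * s⁻¹ → (χ : G → ℂ) g' = (χ : G → ℂ) g) → ∀ β : Cfsg.IrrCharacter C, ∀ m : ℕ, Cfsg.classInner (fun c : C => (χ : G → ℂ) ⟨c, hCG c.2⟩) (β : C → ℂ) = (m : ℂ) → ¬ p ∣ m → ((m : ℤ) ≡ 1 [ZMOD p] ∨ (m : ℤ) ≡ -1 [ZMOD p])) ∧ (∀ χ χ' : Cfsg.IrrCharacter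 G, (∀ s ∈ S, ∀ g g' : G, (g' : Γ) = s * g * s⁻¹ → (χ : G → ℂ) g' = (χ : G → ℂ) g) → (∀ s ∈ S, ∀ g g' : G, (g' : Γ) = s * g * s⁻¹ → (χ' : G → ℂ) g' = (χ' : G → ℂ) g) → ∀ β : Cfsg.IrrCharacter C, ∀ m m' : ℕ, Cfsg.classInner (fun c : C => (χ : G → ℂ) ⟨c, hCG c.2⟩) (β : C → ℂ) = (m : ℂ) → ¬ p ∣ m → Cfsg.classInner (fun c : C => (χ' : G → ℂ) ⟨c, hCG c.2⟩) (β : C → ℂ) = (m' : ℂ) → ¬ p ∣ m' → χ = χ') ∧ (∀ β : Cfsg.IrrCharacter C, ∃ χ : Cfsg.IrrCharacter G, (∀ s ∈ S, ∀ g g' : G, (g' : Γ) = s * g * s⁻¹ → (χ : G → ℂ) g' = (χ : G → ℂ) g) ∧ ∃ m : ℕ, Cfsg.classInner (fun c : C => (χ : G → ℂ) ⟨c, hCG c.2⟩) (β : C → ℂ) = (m : ℂ) ∧ ¬ p ∣ m) := by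
  classical
  haveI : Fact p.Prime := ⟨hp⟩
  set Q : Subgroup (MulAut G) := (conjHom G S hnorm).range with hQdef
  have hQ : IsPGroup p Q :=
    hS.of_surjective (conjHom G S hnorm).rangeRestrict (conjHom G S hnorm).rangeRestrict_surjective
  have hpG : Q ≠ ⊥ → ¬ p ∣ Fintype.card G := by
    intro hQ1 hd
    have hnt : Nontrivial S := by
      by_contra hnt
      rw [not_nontrivial_iff_subsingleton] at hnt
      apply hQ1
      rw [eq_bot_iff]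
      rintro q ⟨s, rfl⟩
      rw [Subgroup.mem_bot, Subsingleton.elim s 1, map_one]
    obtain ⟨n, hn0, hn⟩ := hS.nontrivial_iff_card.1 hnt
    have h1 : p ∣ Nat.card S := by rw [hn]; exact dvd_pow_self p hn0.ne'
    have h2 : p ∣ Nat.card G := by rwa [Nat.card_eq_fintype_card]
    have := Nat.dvd_gcd h2 h1
    rw [Nat.Coprime.gcd_eq_one hcop] at this
    exact hp.one_lt.ne' (Nat.dvd_one.1 this)
  have hι := isFix_inclusion G S C hnorm hC hCG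
  have GP := glaub_p Q hQ hpG (Subgroup.inclusion hCG) hι
  have hinv := isInv_range_iff G S hnorm
  refine ⟨?_, ?_, ?_, ?_⟩
  · intro χ hχ
    obtain ⟨β0, ⟨m0, hm0, hmod0⟩, hrest0⟩ := GP.ex χ ((hinv _).2 hχ)
    refine ⟨β0, ⟨m0, hm0, not_dvd_of_modEq hp hmod0⟩, ?_⟩
    rintro β ⟨m, hm, hpm⟩
    exact eq_of_not_dvd (ι := Subgroup.inclusion hCG) (f := (χ : G → ℂ)) hrest0 hm hpm
  · intro χ hχ β m hm hpm
    obtain ⟨β0, ⟨m0, hm0, hmod0⟩, hrest0⟩ := GP.ex χ ((hinv _).2 hχ)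
    have e : β = β0 :=
      eq_of_not_dvd (ι := Subgroup.inclusion hCG) (f := (χ : G → ℂ)) hrest0 hm hpm
    subst e
    have e2 : m = m0 := Nat.cast_injective (hm.symm.trans hm0)
    subst e2
    exact hmod0
  · intro χ χ' hχ hχ' β m m' hm hpm hm' hpm'
    exact GP.inj χ χ' ((hinv _).2 hχ) ((hinv _).2 hχ') β m m' hm hpm hm' hpm'
  · intro β
    obtain ⟨χ, hχ, m, hm, hpm⟩ := GP.surj β
    exact ⟨χ, (hinv _).1 hχ, m, hm, hpm⟩

end Cfsg.Agent.Lib.Lead.GlaubRep
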