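import Mathlib
import Cfsg.Prelude.Def_HallClasses
import Cfsg.Agent.Lib.Lead.BurnsidePrime2
import Cfsg.Agent.Lib.Lead.PrimeDegree
import Cfsg.Agent.Lib.Helper5.DicksonOrders

/-! The Hall properties `E_π` and `D_π` hold in every finite group iff `π` contains at most one
prime or every prime. -/

set_option autoImplicit false

namespace Cfsg.Agent.Lib.Lead.HallUniv

open Cfsg
open scoped Pointwise

variable {π : Set ℕ}

section easy

variable {G : Type*} [Group G] [Finite G]

theorem isPiHall_top (h : ∀ p : ℕ, p.Prime → p ∈ π) : IsPiHall π (⊤ : Subgroup G) :=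
  ⟨fun p hp _ => h p hp, fun p hp _ hd => by
    rw [Subgroup.index_top] at hd
    exact hp.ne_one (Nat.dvd_one.mp hd)⟩

theorem isPiSubgroup_bot : IsPiSubgroup π (⊥ : Subgroup G) := fun p hp hd => by
  rw [Subgroup.card_bot] at hd
  exact absurd (Nat.dvd_one.mp hd) hp.ne_one

theorem isPiHall_bot (h : ∀ p : ℕ, p.Prime → p ∉ π) : IsPiHall π (⊥ : Subgroup G) :=
  ⟨isPiSubgroup_bot, fun p hp hpi _ => h p hp hpi⟩

theorem isPiSubgroup_of_isPGroup {p : ℕ} (hp : p.Prime) (hpπ : p ∈ π) (K : Subgroup G)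
    (hK : IsPGroup p K) : IsPiSubgroup π K := by
  intro q hq hd
  haveI : Fact p.Prime := ⟨hp⟩
  obtain ⟨n, hn⟩ := IsPGroup.iff_card.mp hK
  rw [hn] at hd
  rw [(Nat.prime_dvd_prime_iff_eq hq hp).mp (hq.dvd_of_dvd_pow hd)]
  exact hpπ

theorem isPiHall_sylow {p : ℕ} [Fact p.Prime] (hp : p ∈ π)
    (h : ∀ q : ℕ, q.Prime → q ∈ π → q = p) (P : Sylow p G) : IsPiHall π (P : Subgroup G) := by
  refine ⟨isPiSubgroup_of_isPGroup Fact.out hp _ P.isPGroup', fun q hq hqpi hd => ?_⟩
  rw [h q hq hqpi] at hd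
  exact P.not_dvd_index hd

theorem isEPiGroup_of_cond
    (hc : (∀ p q : ℕ, p.Prime → q.Prime → p ∈ π → q ∈ π → p = q) ∨ ∀ p : ℕ, p.Prime → p ∈ π) :
    IsEPiGroup π G := by
  rcases hc with hc | hc
  · by_cases hex : ∃ p, p.Prime ∧ p ∈ π
    · obtain ⟨p, hp, hpi⟩ := hex
      haveI : Fact p.Prime := ⟨hp⟩
      obtain ⟨P⟩ : Nonempty (Sylow p G) := inferInstance
      exact ⟨P, isPiHall_sylow hpi (fun q hq hqpi => hc q p hq hp hqpi hpi) P⟩
    · push Not at hex
      exact ⟨⊥, isPiHall_bot hex⟩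
  · exact ⟨⊤, isPiHall_top hc⟩

theorem conj_one_map (H : Subgroup G) : H.map (MulAut.conj (1 : G)).toMonoidHom = H := by
  ext x
  simp

theorem isPiSubgroup_iff_isPGroup {p : ℕ} [Fact p.Prime] (hp : p ∈ π)
    (h : ∀ q : ℕ, q.Prime → q ∈ π → q = p) (K : Subgroup G) :
    IsPiSubgroup π K ↔ IsPGroup p K := by
  constructor
  · intro hK
    have h1 : Nat.card K = p ^ (Nat.card K).primeFactorsList.length :=
      Nat.eq_prime_pow_of_unique_prime_dvd Nat.card_pos.ne'
        (fun {d} hd hdvd => h d hd (hK d hd hdvd))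
    exact IsPGroup.of_card h1
  · exact isPiSubgroup_of_isPGroup Fact.out hp K

theorem isDPiGroup_of_cond
    (hc : (∀ p q : ℕ, p.Prime → q.Prime → p ∈ π → q ∈ π → p = q) ∨ ∀ p : ℕ, p.Prime → p ∈ π) :
    IsDPiGroup π G := by
  intro H K hH hK
  rcases hc with hc | hc
  · by_cases hex : ∃ p, p.Prime ∧ p ∈ π
    · obtain ⟨p, hp, hpi⟩ := hex
      haveI : Fact p.Prime := ⟨hp⟩
      have hiff := isPiSubgroup_iff_isPGroup (G := G) hpi
        (fun q hq hqpi => hc q p hq hp hqpi hpi)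
      let P : Sylow p G := ⟨H, (hiff H).mp hH.1, fun {Q} hQ hle =>
        le_antisymm (hH.2 ((hiff Q).mpr hQ) hle) hle⟩
      let Q : Sylow p G := ⟨K, (hiff K).mp hK.1, fun {Q} hQ hle =>
        le_antisymm (hK.2 ((hiff Q).mpr hQ) hle) hle⟩
      obtain ⟨g, hg⟩ := MulAction.exists_smul_eq G P Q
      refine ⟨g, ?_⟩
      have h1 : ((g • P : Sylow p G) : Subgroup G) = K := by rw [hg]
      rw [Sylow.smul_def, Sylow.pointwise_smul_def] at h1
      rw [← h1]
      rfl
    · push Not at hex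
      have hbot : ∀ L : Subgroup G, IsPiSubgroup π L → L = ⊥ := by
        intro L hL
        apply Subgroup.eq_bot_of_card_eq
        by_contra hne
        obtain ⟨p, hp, hpd⟩ := Nat.exists_prime_and_dvd hne
        exact hex p hp (hL p hp hpd)
      rw [hbot H hH.1, hbot K hK.1]
      exact ⟨1, (Subgroup.map_bot _).symm⟩
  · have htop : ∀ L : Subgroup G, Maximal (IsPiSubgroup π) L → L = ⊤ := by
      intro L hL
      exact eq_top_iff.mpr (hL.2 (y := ⊤) (fun p hp _ => hc p hp) le_top)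
    rw [htop H hH, htop K hK]
    exact ⟨1, (conj_one_map _).symm⟩

theorem isEPiGroup_of_isDPiGroup (hD : IsDPiGroup π G) : IsEPiGroup π G := by
  obtain ⟨M, -, hM⟩ := Finite.exists_le_maximal (isPiSubgroup_bot (π := π) (G := G))
  refine ⟨M, hM.1, fun p hp hpi hd => ?_⟩
  haveI : Fact p.Prime := ⟨hp⟩
  obtain ⟨P⟩ : Nonempty (Sylow p G) := inferInstance
  have hP : IsPiSubgroup π (P : Subgroup G) := isPiSubgroup_of_isPGroup hp hpi _ P.isPGroup'
  obtain ⟨M', hPM', hM'⟩ := Finite.exists_le_maximal hP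
  obtain ⟨g, hg⟩ := hD M M' hM hM'
  have hidx : M'.index = M.index := by
    rw [hg]
    exact Subgroup.index_map_equiv M (MulAut.conj g)
  have h1 : M'.index ∣ (P : Subgroup G).index := Subgroup.index_dvd_of_le hPM'
  rw [← hidx] at hd
  exact P.not_dvd_index (hd.trans h1)

end easy

/-! ### The alternating group `A_{s+1}` -/

theorem sq_not_dvd_factorial_succ (s : ℕ) (hs : s.Prime) : ¬ s ^ 2 ∣ (s + 1).factorial := by
  intro hd
  rw [Nat.factorial_succ, ← Nat.mul_factorial_pred hs.ne_zero, pow_two] at hd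
  have hd' : s * s ∣ s * ((s + 1) * (s - 1).factorial) := by
    rw [mul_left_comm] at hd
    exact hd
  have h6 := Nat.dvd_of_mul_dvd_mul_left hs.pos hd'
  rcases (hs.dvd_mul).mp h6 with h7 | h7
  · have := (Nat.dvd_add_right (dvd_refl s)).mp h7
    exact hs.ne_one (Nat.dvd_one.mp this)
  · have := (hs.dvd_factorial).mp h7
    have := hs.pos
    omega

theorem no_hall_alt (s : ℕ) (hs : s.Prime) (hs5 : 5 ≤ s) (hsπ : s ∉ π)
    (hlt : ∀ t : ℕ, t.Prime → t < s → t ∈ π) :
    ¬ IsEPiGroup π (alternatingGroup (Fin (s + 1))) := by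
  rintro ⟨H, hH1, hH2⟩
  haveI : IsSimpleGroup (alternatingGroup (Fin (s + 1))) :=
    alternatingGroup.isSimpleGroup (by rw [Nat.card_eq_fintype_card, Fintype.card_fin]; omega)
  have hcard : 2 * Nat.card (alternatingGroup (Fin (s + 1))) = (s + 1).factorial := by
    haveI : Nontrivial (Fin (s + 1)) := Fin.nontrivial_iff_two_le.mpr (by omega)
    have := two_mul_card_alternatingGroup (α := Fin (s + 1))
    rw [Fintype.card_perm, Fintype.card_fin] at this
    rw [Nat.card_eq_fintype_card]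
    exact this
  have hmul : Nat.card H * H.index = Nat.card (alternatingGroup (Fin (s + 1))) :=
    H.card_mul_index
  have hodd : Odd s := hs.odd_of_ne_two (by omega)
  have hidxdvd : H.index ∣ (s + 1).factorial := by
    rw [← hcard]
    exact Dvd.dvd.mul_left (Dvd.intro_left _ hmul) 2
  have hprime : ∀ {t : ℕ}, t.Prime → t ∣ H.index → t = s := by
    intro t ht htd
    have h1 : t ∉ π := fun hmem => hH2 t ht hmem htd
    have h2 : ¬ t < s := fun hlt' => h1 (hlt t ht hlt')
    have h3 : t ∣ (s + 1).factorial := htd.trans hidxdvd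
    have h4 : t ≤ s + 1 := (ht.dvd_factorial).mp h3
    have h5 : t ≠ s + 1 := by
      rintro rfl
      have h6 : Even (s + 1) := hodd.add_one
      have := (ht.even_iff).mp h6
      omega
    omega
  have hidx : H.index = s ^ (H.index).primeFactorsList.length :=
    Nat.eq_prime_pow_of_unique_prime_dvd Subgroup.index_ne_zero_of_finite hprime
  obtain ⟨k, hk⟩ : ∃ k, k = (H.index).primeFactorsList.length := ⟨_, rfl⟩
  rw [← hk] at hidx
  have hsG : s ∣ Nat.card (alternatingGroup (Fin (s + 1))) := by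
    have h1 : s ∣ 2 * Nat.card (alternatingGroup (Fin (s + 1))) := by
      rw [hcard]
      exact (hs.dvd_factorial).mpr (by omega)
    rcases (hs.dvd_mul).mp h1 with h | h
    · have := Nat.le_of_dvd (by norm_num) h
      omega
    · exact h
  rcases Nat.lt_or_ge k 2 with hk2 | hk2
  · interval_cases k
    · -- index 1
      rw [pow_zero] at hidx
      rw [hidx, mul_one] at hmul
      rw [← hmul] at hsG
      exact hsπ (hH1 s hs hsG)
    · -- index s
      rw [pow_one] at hidx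
      have hne : H ≠ ⊤ := by
        intro h
        rw [← Subgroup.index_eq_one, hidx] at h
        exact hs.ne_one h
      have h1 := Cfsg.Agent.Lib.Lead.PrimeDegree.card_dvd_factorial_index H hne
      rw [hidx] at h1
      have h2 : (s + 1).factorial ∣ 2 * s.factorial := by
        rw [← hcard]
        exact Nat.mul_dvd_mul_left 2 h1
      rw [Nat.factorial_succ] at h2
      have h3 := Nat.dvd_of_mul_dvd_mul_right (Nat.factorial_pos s) h2
      have := Nat.le_of_dvd (by norm_num) h3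
      omega
  · apply sq_not_dvd_factorial_succ s hs
    refine Dvd.dvd.trans ?_ hidxdvd
    rw [hidx]
    exact pow_dvd_pow s hk2

/-! ### The symmetric group of prime degree -/

theorem two_dvd_orderOf_of_swap {M α : Type*} [Group M] [MulAction M α] (g : M) (a b : α)
    (hab : a ≠ b) (h1 : g • a = b) (h2 : g • b = a) : 2 ∣ orderOf g := by
  by_contra hodd
  have hodd' : Odd (orderOf g) := Nat.odd_iff.mpr (by omega)
  obtain ⟨k, hk⟩ := hodd'
  have hfix : ∀ n : ℕ, (g ^ (2 * n)) • a = a := by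
    intro n
    induction n with
    | zero => simp
    | succ n ih =>
      rw [show 2 * (n + 1) = 2 * n + 1 + 1 by ring, pow_succ, pow_succ, mul_smul, mul_smul, h1,
        h2, ih]
  have h3 : g ^ (2 * k + 1) = 1 := by
    rw [← hk]
    exact pow_orderOf_eq_one g
  have h4 : (g ^ (2 * k + 1)) • a = b := by
    rw [pow_succ', mul_smul, hfix, h1]
  rw [h3, one_smul] at h4
  exact hab h4

theorem card_dvd_of_affine {q : ℕ} [Fact q.Prime] {α : Type*} [Finite α]
    (H : Subgroup (Equiv.Perm α))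
    (e : α ≃ ZMod q) (h : ∀ g ∈ H, ∃ a b : ZMod q, ∀ x, e (g x) = a * e x + b) :
    Nat.card H ∣ q * (q - 1) := by
  have hslope : ∀ g ∈ H, ∀ x,
      e (g x) = (e (g (e.symm 1)) - e (g (e.symm 0))) * e x + e (g (e.symm 0)) := by
    intro g hg x
    obtain ⟨a, b, hab⟩ := h g hg
    rw [hab x, hab (e.symm 1), hab (e.symm 0), Equiv.apply_symm_apply, Equiv.apply_symm_apply]
    ring
  let slope : H →* ZMod q :=
    { toFun := fun g => e (g.1 (e.symm 1)) - e (g.1 (e.symm 0))
      map_one' := by simp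
      map_mul' := by
        intro g k
        show e ((g.1 * k.1) (e.symm 1)) - e ((g.1 * k.1) (e.symm 0)) = _
        rw [Equiv.Perm.mul_apply, Equiv.Perm.mul_apply, hslope g.1 g.2 (k.1 (e.symm 1)),
          hslope g.1 g.2 (k.1 (e.symm 0))]
        ring }
  let φ : H →* (ZMod q)ˣ := slope.toHomUnits
  have hker : ∀ g : H, g ∈ φ.ker → ∀ x, e (g.1 x) = e x + e (g.1 (e.symm 0)) := by
    intro g hg x
    rw [MonoidHom.mem_ker] at hg
    have h1 : slope g = 1 := by
      have := congrArg Units.val hg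
      simpa [φ] using this
    have h2 : e (g.1 (e.symm 1)) - e (g.1 (e.symm 0)) = 1 := h1
    rw [hslope g.1 g.2 x, h2, one_mul]
  let ψ : φ.ker →* Multiplicative (ZMod q) :=
    { toFun := fun g => Multiplicative.ofAdd (e (g.1.1 (e.symm 0)))
      map_one' := by simp
      map_mul' := by
        intro g k
        show Multiplicative.ofAdd (e ((g.1.1 * k.1.1) (e.symm 0))) = _
        rw [Equiv.Perm.mul_apply, hker g.1 g.2, ← ofAdd_add, add_comm] }
  have hψ : Function.Injective ψ := by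
    intro g k hgk
    have h1 : e (g.1.1 (e.symm 0)) = e (k.1.1 (e.symm 0)) := Multiplicative.ofAdd.injective hgk
    apply Subtype.ext
    apply Subtype.ext
    ext x
    apply e.injective
    rw [hker g.1 g.2, hker k.1 k.2, h1]
  have h1 : Nat.card φ.ker ∣ q := by
    have := Subgroup.card_dvd_of_injective ψ hψ
    rwa [Nat.card_eq_fintype_card (α := Multiplicative (ZMod q)), Fintype.card_multiplicative,
      ZMod.card] at this
  have h2 : φ.ker.index ∣ q - 1 := by
    rw [Subgroup.index_ker]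
    have := Subgroup.card_subgroup_dvd_card φ.range
    rwa [Nat.card_eq_fintype_card (α := (ZMod q)ˣ), ZMod.card_units] at this
  rw [← φ.ker.card_mul_index]
  exact Nat.mul_dvd_mul h1 h2

theorem no_hall_sym (p q : ℕ) (hp : p.Prime) (hq : q.Prime) (hpq : p < q) (hp2 : p ≠ 2)
    (hpπ : p ∈ π) (hqπ : q ∈ π) (h2 : 2 ∉ π) :
    ¬ IsEPiGroup π (Equiv.Perm (Fin q)) := by
  rintro ⟨H, hH1, hH2⟩
  haveI : Fact q.Prime := ⟨hq⟩
  have hcard : Nat.card (Equiv.Perm (Fin q)) = q.factorial := by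
    rw [Nat.card_eq_fintype_card, Fintype.card_perm, Fintype.card_fin]
  have hmul : Nat.card H * H.index = q.factorial := by
    rw [← hcard]
    exact H.card_mul_index
  have hqH : q ∣ Nat.card H := by
    have h1 : q ∣ Nat.card H * H.index := by
      rw [hmul]
      exact hq.dvd_factorial.mpr le_rfl
    rcases (hq.dvd_mul).mp h1 with h | h
    · exact h
    · exact absurd h (hH2 q hq hqπ)
  obtain ⟨σ, hσ⟩ := exists_prime_orderOf_dvd_card' (G := H) q hqH
  have hσo : orderOf (σ : Equiv.Perm (Fin q)) = q := by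
    rw [Subgroup.orderOf_coe]
    exact hσ
  have hα : Fintype.card (Fin q) = q := Fintype.card_fin q
  obtain ⟨e, he⟩ := BurnsidePrime.exists_equiv_of_orderOf hα σ.1 hσo
  have hpow : ∀ (k : ℕ) (x : Fin q), e ((σ.1 ^ k) x) = e x + k := by
    intro k
    induction k with
    | zero => intro x; simp
    | succ k ih =>
      intro x
      rw [pow_succ', Equiv.Perm.mul_apply, he, ih]
      push_cast
      ring
  haveI : MulAction.IsPretransitive H (Fin q) := by
    refine ⟨fun x y => ⟨σ ^ (e y - e x).val, ?_⟩⟩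
    apply e.injective
    rw [Subgroup.smul_def, Subgroup.coe_pow, Equiv.Perm.smul_def, hpow, ZMod.natCast_zmod_val]
    ring
  rcases BurnsidePrime.affine_or_two_transitive hα H with ⟨e', haff⟩ | h2t
  · have hdvd : Nat.card H ∣ q * (q - 1) := card_dvd_of_affine H e' haff
    obtain ⟨c, hc⟩ := hdvd
    have hfact : q.factorial = q * (q - 1) * (q - 2).factorial := by
      obtain ⟨r, rfl⟩ : ∃ r, q = r + 2 := ⟨q - 2, by have := hq.two_le; omega⟩
      rw [Nat.factorial_succ, Nat.factorial_succ]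
      simp only [Nat.add_sub_cancel]
      rw [show r + 2 - 1 = r + 1 by omega]
      ring
    have hidx : H.index = c * (q - 2).factorial := by
      have hpos : 0 < Nat.card H := Nat.card_pos
      apply Nat.eq_of_mul_eq_mul_left hpos
      rw [hmul, hfact, hc]
      ring
    have hple : p ≤ q - 2 := by
      obtain ⟨a, ha⟩ := hp.odd_of_ne_two hp2
      have hq2 : q ≠ 2 := by have := hp.two_le; omega
      obtain ⟨b, hb⟩ := hq.odd_of_ne_two hq2
      omega
    have hpd : p ∣ H.index := by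
      rw [hidx]
      exact Dvd.dvd.mul_left ((hp.dvd_factorial).mpr hple) c
    exact hH2 p hp hpπ hpd
  · rw [MulAction.is_two_pretransitive_iff] at h2t
    have h01 : (⟨0, hq.pos⟩ : Fin q) ≠ ⟨1, hq.one_lt⟩ := by simp [Fin.ext_iff]
    obtain ⟨g, hg0, hg1⟩ := h2t h01 h01.symm
    have heven : 2 ∣ orderOf g := two_dvd_orderOf_of_swap g _ _ h01 hg0 hg1
    exact h2 (hH1 2 Nat.prime_two (heven.trans (orderOf_dvd_natCard g)))

/-! ### `PSL₂(q)` -/

theorem three_dvd_consec (q : ℕ) (hq : 1 ≤ q) : 3 ∣ q * ((q - 1) * (q + 1)) := by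
  have h : q % 3 = 0 ∨ q % 3 = 1 ∨ q % 3 = 2 := by omega
  rcases h with h | h | h
  · exact Dvd.dvd.mul_right (Nat.dvd_of_mod_eq_zero h) _
  · have : 3 ∣ q - 1 := Nat.dvd_of_mod_eq_zero (by omega)
    exact Dvd.dvd.mul_left (Dvd.dvd.mul_right this _) _
  · have : 3 ∣ q + 1 := Nat.dvd_of_mod_eq_zero (by omega)
    exact Dvd.dvd.mul_left (Dvd.dvd.mul_left this _) _

theorem no_hall_psl (q : ℕ) (hq : q.Prime) (hq5 : 5 ≤ q) (hqπ : q ∈ π) (h2 : 2 ∈ π)
    (h3 : 3 ∉ π) :
    ¬ IsEPiGroup π (Matrix.ProjectiveSpecialLinearGroup (Fin 2) (ZMod q)) := by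
  haveI : Fact q.Prime := ⟨hq⟩
  rintro ⟨H, hH1, hH2⟩
  have hF : Fintype.card (ZMod q) = q := ZMod.card q
  have hG := Cfsg.Agent.Lib.Helper5.DicksonOrders.card_PSL2_mul (F := ZMod q)
  have hgcd : Nat.gcd 2 (q - 1) = 2 := by
    obtain ⟨k, hk⟩ := hq.odd_of_ne_two (by omega)
    have : 2 ∣ q - 1 := ⟨k, by omega⟩
    exact Nat.gcd_eq_left this
  rw [hF, hgcd] at hG
  have hmul := H.card_mul_index
  have hD := Cfsg.Agent.Lib.Helper5.DicksonOrders.dickson_card q H
  rw [hF, hgcd] at hD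
  have h2m : ¬ 2 ∣ H.index := hH2 2 Nat.prime_two h2
  have h3h : ¬ 3 ∣ Nat.card H := fun h => h3 (hH1 3 Nat.prime_three h)
  have hqh : q ∣ Nat.card H := by
    have h1 : q ∣ 2 * (Nat.card H * H.index) := by
      rw [hmul, hG]
      exact Dvd.intro _ rfl
    rcases (hq.dvd_mul).mp h1 with h | h
    · have := Nat.le_of_dvd (by norm_num) h
      omega
    · rcases (hq.dvd_mul).mp h with h | h
      · exact h
      · exact absurd h (hH2 q hq hqπ)
  have hpos : 0 < Nat.card H := Nat.card_pos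
  rcases hD with ⟨k, hk, hh⟩ | hb | h12 | h24 | h60 | ⟨q₀, m', hq₀, hpow, hh⟩
  · have hqk : q ∣ k := by
      rcases hh with hh | hh
      · rw [hh] at hqh; exact hqh
      · rw [hh] at hqh
        rcases (hq.dvd_mul).mp hqh with h | h
        · have := Nat.le_of_dvd (by norm_num) h
          omega
        · exact h
    have hk0 : 0 < k := by
      rcases Nat.eq_zero_or_pos k with h | h
      · rw [h] at hh
        omega
      · exact h
    have hqk' := Nat.le_of_dvd hk0 hqk
    rcases hk with hk | hk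
    · have := Nat.le_of_dvd (by omega) hk
      omega
    · have := Nat.le_of_dvd (by omega) hk
      omega
  · obtain ⟨c, hc⟩ := hb
    have hidx : H.index = c * (q + 1) := by
      have hpos2 : 0 < 2 * Nat.card H := by omega
      apply Nat.eq_of_mul_eq_mul_left hpos2
      calc 2 * Nat.card H * H.index = 2 * (Nat.card H * H.index) := by ring
        _ = q * ((q - 1) * (q + 1)) := by rw [hmul, hG]
        _ = q * (q - 1) * (q + 1) := by ring
        _ = 2 * Nat.card H * (c * (q + 1)) := by rw [hc]; ring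
    apply h2m
    rw [hidx]
    obtain ⟨k, hk⟩ := hq.odd_of_ne_two (by omega)
    exact Dvd.dvd.mul_left ⟨k + 1, by omega⟩ c
  · exact h3h (by rw [h12]; norm_num)
  · exact h3h (by rw [h24]; norm_num)
  · exact h3h (by rw [h60]; norm_num)
  · obtain ⟨rfl, -⟩ := (Nat.Prime.pow_eq_iff hq).mp hpow
    have h3d := three_dvd_consec q₀ (by omega)
    rcases hh with hh | hh
    · rw [hgcd] at hh
      rw [← hh] at h3d
      exact h3h (Nat.Coprime.dvd_of_dvd_mul_left (by norm_num) h3d)
    · rw [← hh] at h3d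
      exact h3h h3d

/-! ### Assembly -/

theorem cond_of_forall_E (hE : ∀ (G : Type) [Group G] [Finite G], IsEPiGroup π G) :
    (∀ p q : ℕ, p.Prime → q.Prime → p ∈ π → q ∈ π → p = q) ∨ ∀ p : ℕ, p.Prime → p ∈ π := by
  by_contra hcon
  rw [not_or] at hcon
  obtain ⟨h1, h2⟩ := hcon
  push Not at h1 h2
  obtain ⟨p, q, hp, hq, hpπ, hqπ, hpq⟩ := h1
  obtain ⟨r, hr, hrπ⟩ := h2
  have hge5 : ∀ t : ℕ, t.Prime → t ≠ 2 → t ≠ 3 → 5 ≤ t := by
    intro t ht h2' h3'
    have h4' : t ≠ 4 := by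
      rintro rfl
      norm_num at ht
    have := ht.two_le
    omega
  by_cases h2π : 2 ∈ π
  · by_cases h3π : 3 ∈ π
    · classical
      have hex : ∃ s, s.Prime ∧ s ∉ π := ⟨r, hr, hrπ⟩
      obtain ⟨hs, hsπ⟩ := Nat.find_spec hex
      have hmin : ∀ t : ℕ, t.Prime → t < Nat.find hex → t ∈ π := fun t ht hlt => by
        by_contra hc
        exact Nat.find_min hex hlt ⟨ht, hc⟩
      have hs5 : 5 ≤ Nat.find hex :=
        hge5 _ hs (fun h => hsπ (h ▸ h2π)) (fun h => hsπ (h ▸ h3π))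
      exact no_hall_alt (Nat.find hex) hs hs5 hsπ hmin (hE _)
    · obtain ⟨q', hq', hq'π, hq'5⟩ : ∃ q' : ℕ, q'.Prime ∧ q' ∈ π ∧ 5 ≤ q' := by
        rcases eq_or_ne p 2 with hp2 | hp2
        · refine ⟨q, hq, hqπ, hge5 q hq (fun h => hpq (hp2.trans h.symm))
            (fun h => h3π (h ▸ hqπ))⟩
        · exact ⟨p, hp, hpπ, hge5 p hp hp2 (fun h => h3π (h ▸ hpπ))⟩
      haveI : Fact q'.Prime := ⟨hq'⟩
      exact no_hall_psl q' hq' hq'5 hq'π h2π h3π (hE _)
  · have hp2 : p ≠ 2 := fun h => h2π (h ▸ hpπ)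
    have hq2 : q ≠ 2 := fun h => h2π (h ▸ hqπ)
    rcases lt_or_gt_of_ne hpq with hlt | hlt
    · exact no_hall_sym p q hp hq hlt hp2 hpπ hqπ h2π (hE _)
    · exact no_hall_sym q p hq hp hlt hq2 hqπ hpπ h2π (hE _)

theorem main (π : Set ℕ) :
    ((∀ (G : Type) [Group G] [Finite G], Cfsg.IsEPiGroup π G) ↔
      ((∀ p q : ℕ, p.Prime → q.Prime → p ∈ π → q ∈ π → p = q) ∨ ∀ p : ℕ, p.Prime → p ∈ π)) ∧
    ((∀ (G : Type) [Group G] [Finite G], Cfsg.IsDPiGroup π G) ↔
      ((∀ p q : ℕ, p.Prime → q.Prime → p ∈ π → q ∈ π → p = q) ∨ ∀ p : ℕ, p.Prime → p ∈ π)) :=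
  ⟨⟨cond_of_forall_E, fun hc _ _ _ => isEPiGroup_of_cond hc⟩,
    ⟨fun hD => cond_of_forall_E (fun G _ _ => isEPiGroup_of_isDPiGroup (hD G)),
      fun hc _ _ _ => isDPiGroup_of_cond hc⟩⟩

end Cfsg.Agent.Lib.Lead.HallUniv
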