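import Mathlib
import Cfsg.Agent.Lib.Lead.Hecke5

set_option autoImplicit false
set_option linter.unusedSectionVars false
set_option linter.unusedVariables false
set_option maxHeartbeats 800000

open scoped ComplexConjugate
open Classical
open Cfsg.Agent.Lib.Helper6

namespace Cfsg.Agent.Lib.Lead.Hecke

section w

variable {G : Type*} [Group G] [Fintype G] {Ω : Type*} [Fintype Ω] [MulAction G Ω]

theorem mk_ne_of_not_mem {a b c : Ω}
    (hcb : c ∉ MulAction.orbit (MulAction.stabilizer G a) b) :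
    (Quotient.mk'' b : MulAction.orbitRel.Quotient (MulAction.stabilizer G a) Ω)
      ≠ Quotient.mk'' c := by
  intro h
  have h1 := Quotient.eq''.mp h.symm
  rw [MulAction.orbitRel_apply] at h1
  exact hcb h1

theorem mk_ne_self {a b : Ω} (hb : b ≠ a) :
    (Quotient.mk'' a : MulAction.orbitRel.Quotient (MulAction.stabilizer G a) Ω)
      ≠ Quotient.mk'' b := by
  intro h
  have h1 := Quotient.eq''.mp h.symm
  rw [MulAction.orbitRel_apply, orbit_stab_self, Set.mem_singleton_iff] at h1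
  exact hb h1

/-- per-suborbit analysis in Wielandt's rank three situation -/
theorem wielandt_suborbit (hprim : MulAction.IsPreprimitive G Ω) {m : ℕ}
    (hm : Fintype.card Ω = 2 * m) (a₀ : Ω)
    (hrank : Nat.card (MulAction.orbitRel.Quotient (MulAction.stabilizer G a₀) Ω) = 3)
    (χ₁ χ₂ : G → ℂ) (h₁ : Cfsg.IsIrrCharacter G χ₁) (h₂ : Cfsg.IsIrrCharacter G χ₂)
    (hπ : permChar G Ω = fun g => 1 + χ₁ g + χ₂ g) (hd₁ : χ₁ 1 = (m : ℂ) - 1)
    (hd₂ : χ₂ 1 = m) (b : Ω) (hb : b ≠ a₀) :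
    ∃ a : ℕ, 0 < a ∧ m = 2 * a ^ 2 + 2 * a + 1 ∧
      (Nat.card (MulAction.orbit (MulAction.stabilizer G a₀) b) = a * (2 * a + 1) ∨
       Nat.card (MulAction.orbit (MulAction.stabilizer G a₀) b) = (a + 1) * (2 * a + 1)) := by
  haveI : MulAction.IsPretransitive G Ω := hprim.toIsPretransitive
  haveI : Fintype (Cfsg.IrrCharacter G) := Fintype.ofFinite _
  obtain ⟨k, hk⟩ : ∃ k : ℕ, k = Nat.card (MulAction.orbit (MulAction.stabilizer G a₀) b) :=
    ⟨_, rfl⟩
  rw [← hk]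
  have hrank_ne : Nat.card (MulAction.orbitRel.Quotient (MulAction.stabilizer G a₀) Ω)
      ≠ Fintype.card Ω := by
    rw [hrank, hm]
    omega
  have hk2 : 2 ≤ k := by
    rw [hk]
    exact two_le_card_orbit hprim a₀ b hb hrank_ne
  -- a third orbit
  have hc : ∃ c : Ω, c ≠ a₀ ∧ c ∉ MulAction.orbit (MulAction.stabilizer G a₀) b := by
    by_contra hno
    push Not at hno
    have hall : ∀ q : MulAction.orbitRel.Quotient (MulAction.stabilizer G a₀) Ω,
        q = Quotient.mk'' a₀ ∨ q = Quotient.mk'' b := by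
      intro q
      obtain ⟨c, rfl⟩ := Quotient.mk''_surjective q
      by_cases hca : c = a₀
      · left
        rw [hca]
      · right
        exact Quotient.eq''.mpr (by rw [MulAction.orbitRel_apply]; exact hno c hca)
    have hsub : (Finset.univ : Finset (MulAction.orbitRel.Quotient (MulAction.stabilizer G a₀) Ω))
        ⊆ {Quotient.mk'' a₀, Quotient.mk'' b} := by
      intro q _
      rcases hall q with h | h <;> simp [h]
    have h1 := Finset.card_le_card hsub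
    rw [Finset.card_univ, ← Nat.card_eq_fintype_card, hrank] at h1
    have h2 := Finset.card_le_two
      (a := (Quotient.mk'' a₀ : MulAction.orbitRel.Quotient (MulAction.stabilizer G a₀) Ω))
      (b := Quotient.mk'' b)
    omega
  obtain ⟨c, hca, hcb⟩ := hc
  have hkc2 : 2 ≤ Nat.card (MulAction.orbit (MulAction.stabilizer G a₀) c) :=
    two_le_card_orbit hprim a₀ c hca hrank_ne
  have hk3 : k + 3 ≤ 2 * m := by
    have hN := card_eq_sum_orbits (Ω := Ω) (MulAction.stabilizer G a₀)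
    have hqab := mk_ne_self (G := G) hb
    have hqac := mk_ne_self (G := G) hca
    have hqbc := mk_ne_of_not_mem (G := G) hcb
    have h3 : ∑ q ∈ ({Quotient.mk'' a₀, Quotient.mk'' b, Quotient.mk'' c} :
          Finset (MulAction.orbitRel.Quotient (MulAction.stabilizer G a₀) Ω)), Nat.card q.orbit
        ≤ ∑ q : MulAction.orbitRel.Quotient (MulAction.stabilizer G a₀) Ω, Nat.card q.orbit :=
      Finset.sum_le_sum_of_subset (Finset.subset_univ _)
    rw [Finset.sum_insert (by simp [hqab, hqac]), Finset.sum_insert (by simp [hqbc]),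
      Finset.sum_singleton, MulAction.orbitRel.Quotient.orbit_mk,
      MulAction.orbitRel.Quotient.orbit_mk, MulAction.orbitRel.Quotient.orbit_mk,
      orbit_stab_self] at h3
    have h4 : Nat.card (({a₀} : Set Ω)) = 1 := by simp
    rw [h4, ← hN, ← hk] at h3
    omega
  -- multiplicities
  have hin : ∀ ψ : G → ℂ, Cfsg.IsIrrCharacter G ψ → Cfsg.classInner (permChar G Ω) ψ
      = (if (fun _ => (1 : ℂ)) = ψ then 1 else 0) + (if χ₁ = ψ then 1 else 0)
        + (if χ₂ = ψ then 1 else 0) := by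
    intro ψ hψ
    have hfun : (fun g => 1 + χ₁ g + χ₂ g) = (fun _ => (1 : ℂ)) + χ₁ + χ₂ := by
      funext g
      simp
    rw [hπ, hfun, classInner_add_left, classInner_add_left,
      classInner_isIrrCharacter isIrrCharacter_one hψ, classInner_isIrrCharacter h₁ hψ,
      classInner_isIrrCharacter h₂ hψ]
  have h11 : Cfsg.classInner (permChar G Ω) (fun _ => (1 : ℂ)) = 1 := by
    obtain ⟨mm, hmi, hm1, -⟩ := exists_mult_data (G := G) (Ω := Ω) a₀
    have := hmi ⟨fun _ => 1, isIrrCharacter_one⟩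
    rw [hm1 ⟨fun _ => 1, isIrrCharacter_one⟩ rfl] at this
    simpa using this
  have h1one := hin (fun _ => 1) isIrrCharacter_one
  rw [h11, if_pos rfl] at h1one
  have hχ1 : χ₁ ≠ fun _ => 1 := by
    intro h
    rw [if_pos h] at h1one
    split_ifs at h1one <;> norm_num at h1one
  have hχ2 : χ₂ ≠ fun _ => 1 := by
    intro h
    rw [if_pos h] at h1one
    split_ifs at h1one <;> norm_num at h1one
  have hχ12 : χ₁ ≠ χ₂ := by
    intro h
    have : (m : ℂ) - 1 = m := by rw [← hd₁, h, hd₂]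
    have := sub_eq_self.mp this
    exact one_ne_zero this
  have hinχ1 : Cfsg.classInner (permChar G Ω) χ₁ = 1 := by
    rw [hin χ₁ h₁, if_neg (fun h => hχ1 h.symm), if_pos rfl, if_neg (fun h => hχ12 h.symm)]
    ring
  have hinχ2 : Cfsg.classInner (permChar G Ω) χ₂ = 1 := by
    rw [hin χ₂ h₂, if_neg (fun h => hχ2 h.symm), if_neg hχ12, if_pos rfl]
    ring
  -- the three irreducible constituents
  obtain ⟨t1, ht1⟩ : ∃ t : Cfsg.IrrCharacter G, (t : G → ℂ) = fun _ => (1 : ℂ) :=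
    ⟨⟨fun _ => 1, isIrrCharacter_one⟩, rfl⟩
  obtain ⟨c1, hc1⟩ : ∃ t : Cfsg.IrrCharacter G, (t : G → ℂ) = χ₁ := ⟨⟨χ₁, h₁⟩, rfl⟩
  obtain ⟨c2, hc2⟩ : ∃ t : Cfsg.IrrCharacter G, (t : G → ℂ) = χ₂ := ⟨⟨χ₂, h₂⟩, rfl⟩
  have ht1c1 : t1 ≠ c1 := by
    intro h
    apply hχ1
    rw [← hc1, ← h, ht1]
  have ht1c2 : t1 ≠ c2 := by
    intro h
    apply hχ2
    rw [← hc2, ← h, ht1]
  have hc1c2 : c1 ≠ c2 := by
    intro h
    apply hχ12
    rw [← hc1, ← hc2, h]
  have hother : ∀ θ : Cfsg.IrrCharacter G, θ ≠ t1 → θ ≠ c1 → θ ≠ c2 →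
      Cfsg.classInner (permChar G Ω) (θ : G → ℂ) = 0 := by
    intro θ hθ1 hθ2 hθ3
    rw [hin θ θ.2, if_neg, if_neg, if_neg]
    · ring
    · intro h
      apply hθ3
      apply Subtype.ext
      rw [hc2, h]
    · intro h
      apply hθ2
      apply Subtype.ext
      rw [hc1, h]
    · intro h
      apply hθ1
      apply Subtype.ext
      rw [ht1, h]
  -- the Hecke data
  obtain ⟨D, hD⟩ : ∃ D : Finset G, D = dset (G := G) a₀ b := ⟨_, rfl⟩
  have hL : LInv (MulAction.stabilizer G a₀) D := by rw [hD]; exact LInv_dset a₀ b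
  have hR : RInv (MulAction.stabilizer G a₀) D := by rw [hD]; exact RInv_dset a₀ b
  have hL' := LInv_dinv hR
  have hR' := RInv_dinv hL
  have h1D : (1 : G) ∉ D := by rw [hD]; exact one_not_mem_dset hb
  have hthone : th (MulAction.stabilizer G a₀) (fun _ => (1 : ℂ)) D = (k : ℂ) := by
    rw [hD, th_one_dset, hk]
  have hfs0 : ∀ θ : Cfsg.IrrCharacter G, Cfsg.classInner (permChar G Ω) (θ : G → ℂ) = 0 →
      th (MulAction.stabilizer G a₀) (θ : G → ℂ) (fs (MulAction.stabilizer G a₀)) = 0 := by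
    intro θ h
    rw [th_fs_eq a₀ (IsIrrCharacter.isClassFunction θ.2), h, map_zero]
  have hfs1 : ∀ ψ : G → ℂ, Cfsg.IsIrrCharacter G ψ → Cfsg.classInner (permChar G Ω) ψ = 1 →
      th (MulAction.stabilizer G a₀) ψ (fs (MulAction.stabilizer G a₀)) = 1 := by
    intro ψ hψ h
    rw [th_fs_eq a₀ (IsIrrCharacter.isClassFunction hψ), h, map_one]
  obtain ⟨θ1, hθ1⟩ : ∃ z : ℂ, z = th (MulAction.stabilizer G a₀) χ₁ D := ⟨_, rfl⟩
  obtain ⟨θ2, hθ2⟩ : ∃ z : ℂ, z = th (MulAction.stabilizer G a₀) χ₂ D := ⟨_, rfl⟩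
  -- first equation
  have hE1 := sum_deg_th (MulAction.stabilizer G a₀) D
  rw [if_neg h1D, mul_zero, sum_three _ t1 c1 c2 ht1c1 ht1c2 hc1c2 (by
    intro θ hθ1' hθ2' hθ3'
    rw [th_eq_zero (IsIrrCharacter.isCharacter θ.2) (hfs0 θ (hother θ hθ1' hθ2' hθ3')) hL,
      mul_zero]), ht1, hc1, hc2, hthone, ← hθ1, ← hθ2, hd₁, hd₂] at hE1
  simp only [one_mul] at hE1
  -- second equation
  have hE2 := sum_deg_th2 (MulAction.stabilizer G a₀) D (dinv D)
  rw [filter_dinv, sum_three _ t1 c1 c2 ht1c1 ht1c2 hc1c2 (by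
    intro θ hθ1' hθ2' hθ3'
    rw [th2_eq_zero (IsIrrCharacter.isCharacter θ.2) (hfs0 θ (hother θ hθ1' hθ2' hθ3')) hL,
      mul_zero]), ht1, hc1, hc2,
    th2_eq_mul (IsIrrCharacter.isCharacter isIrrCharacter_one)
      (hfs1 _ isIrrCharacter_one h11) hL hR hL' hR',
    th2_eq_mul (IsIrrCharacter.isCharacter h₁) (hfs1 _ h₁ hinχ1) hL hR hL' hR',
    th2_eq_mul (IsIrrCharacter.isCharacter h₂) (hfs1 _ h₂ hinχ2) hL hR hL' hR',
    th_dinv (IsIrrCharacter.isCharacter isIrrCharacter_one),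
    th_dinv (IsIrrCharacter.isCharacter h₁), th_dinv (IsIrrCharacter.isCharacter h₂),
    hthone, ← hθ1, ← hθ2, hd₁, hd₂] at hE2
  have hH := cardH_ne (MulAction.stabilizer G a₀)
  have hDcard : (D.card : ℂ) = (Nat.card (MulAction.stabilizer G a₀) : ℂ) * (k : ℂ) := by
    rw [hD, card_dset, hk]
    push_cast
    rfl
  have hGcard : (Nat.card G : ℂ) = 2 * (m : ℂ) * (Nat.card (MulAction.stabilizer G a₀) : ℂ) := by
    rw [Nat.card_eq_fintype_card, card_eq_mul (G := G) a₀, hm]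
    push_cast
    rfl
  have hE2' : (k : ℂ) * conj (k : ℂ) + ((m : ℂ) - 1) * (θ1 * conj θ1) + (m : ℂ) * (θ2 * conj θ2)
      = 2 * (m : ℂ) * (k : ℂ) := by
    simp only [one_mul] at hE2
    rw [hE2, hDcard, hGcard]
    field_simp
  -- integrality of θ1 + θ2
  have hint : IsIntegral ℤ ((k : ℂ) + θ1 + θ2) := by
    refine IsIntegral.add (IsIntegral.add ?_ ?_) ?_
    · simpa using (isIntegral_algebraMap (R := ℤ) (A := ℂ) (x := (k : ℤ)))
    · rw [hθ1]
      exact isIntegral_th (IsIrrCharacter.isCharacter h₁) _ _ hL hR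
    · rw [hθ2]
      exact isIntegral_th (IsIrrCharacter.isCharacter h₂) _ _ hL hR
  have hsum1 : th (MulAction.stabilizer G a₀) (permChar G Ω) D = (k : ℂ) + θ1 + θ2 := by
    rw [hπ, ← hthone, hθ1, hθ2]
    unfold th
    rw [Finset.sum_add_distrib, Finset.sum_add_distrib]
    ring
  obtain ⟨P, hP⟩ : ∃ P : ℕ, P = ∑ g ∈ D, Nat.card (MulAction.fixedBy Ω g) := ⟨_, rfl⟩
  have hsum2 : th (MulAction.stabilizer G a₀) (permChar G Ω) D
      = (Nat.card (MulAction.stabilizer G a₀) : ℂ)⁻¹ * (P : ℂ) := by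
    unfold th permChar
    rw [hP]
    push_cast
    rfl
  have hdivint : IsIntegral ℤ ((P : ℂ) / (Nat.card (MulAction.stabilizer G a₀) : ℂ)) := by
    rw [div_eq_inv_mul, ← hsum2, hsum1]
    exact hint
  obtain ⟨j, hj⟩ := nat_dvd_of_isIntegral_div (Nat.card_pos.ne') hdivint
  have hsumj : (k : ℂ) + θ1 + θ2 = (j : ℂ) := by
    rw [← hsum1, hsum2, hj]
    push_cast
    field_simp
  obtain ⟨t, ht⟩ : ∃ t : ℤ, t = (j : ℤ) - (k : ℤ) := ⟨_, rfl⟩
  have htc : θ1 + θ2 = (t : ℂ) := by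
    rw [ht]
    push_cast
    linear_combination hsumj
  have hθ2z : θ2 = ((-(k : ℤ) - ((m : ℤ) - 1) * t : ℤ) : ℂ) := by
    push_cast
    linear_combination hE1 - ((m : ℂ) - 1) * htc
  have hθ1z : θ1 = (((k : ℤ) + (m : ℤ) * t : ℤ) : ℂ) := by
    push_cast
    push_cast at hθ2z
    linear_combination htc - hθ2z
  rw [hθ1z, hθ2z, Complex.conj_natCast, map_intCast (starRingEnd ℂ), map_intCast (starRingEnd ℂ)] at hE2'
  have hE2z : (k : ℤ) * k + ((m : ℤ) - 1) * (((k : ℤ) + m * t) * ((k : ℤ) + m * t))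
      + (m : ℤ) * ((-(k : ℤ) - ((m : ℤ) - 1) * t) * (-(k : ℤ) - ((m : ℤ) - 1) * t))
      = 2 * (m : ℤ) * k := by
    exact_mod_cast hE2'
  have hmne : (m : ℤ) ≠ 0 := by
    have : m ≠ 0 := by omega
    exact_mod_cast this
  have hstar : (m : ℤ) * (2 * (k : ℤ) * (k - 1) + 4 * ((m : ℤ) - 1) * k * t
      + (2 * (m : ℤ) - 1) * (m - 1) * t ^ 2) = 0 := by
    linear_combination hE2z
  have hstar' := (mul_eq_zero.mp hstar).resolve_left hmne
  exact wielandt_params m k (by omega) hk2 hk3 t hstar'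

/-- Wielandt's rank three parameters -/
theorem wielandt_rank_three (hprim : MulAction.IsPreprimitive G Ω) {m : ℕ}
    (hm : Fintype.card Ω = 2 * m) (a₀ : Ω)
    (hrank : Nat.card (MulAction.orbitRel.Quotient (MulAction.stabilizer G a₀) Ω) = 3)
    (χ₁ χ₂ : G → ℂ) (h₁ : Cfsg.IsIrrCharacter G χ₁) (h₂ : Cfsg.IsIrrCharacter G χ₂)
    (hπ : permChar G Ω = fun g => 1 + χ₁ g + χ₂ g) (hd₁ : χ₁ 1 = (m : ℂ) - 1)
    (hd₂ : χ₂ 1 = m) :
    ∃ a : ℕ, 0 < a ∧ m = 2 * a ^ 2 + 2 * a + 1 ∧ ∀ b : Ω, b ≠ a₀ →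
      Nat.card (MulAction.orbit (MulAction.stabilizer G a₀) b) = a * (2 * a + 1) ∨
      Nat.card (MulAction.orbit (MulAction.stabilizer G a₀) b) = (a + 1) * (2 * a + 1) := by
  have hcard2 : 1 < Fintype.card Ω := by
    have : 0 < Fintype.card Ω := Fintype.card_pos_iff.mpr ⟨a₀⟩
    omega
  obtain ⟨b0, hb0⟩ := Fintype.exists_ne_of_one_lt_card hcard2 a₀
  obtain ⟨a, ha, hma, -⟩ := wielandt_suborbit hprim hm a₀ hrank χ₁ χ₂ h₁ h₂ hπ hd₁ hd₂ b0 hb0
  refine ⟨a, ha, hma, ?_⟩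
  intro b hb
  obtain ⟨a', ha', hma', hk⟩ := wielandt_suborbit hprim hm a₀ hrank χ₁ χ₂ h₁ h₂ hπ hd₁ hd₂ b hb
  have haa : a' = a := by
    have h1 : 2 * a' ^ 2 + 2 * a' + 1 = 2 * a ^ 2 + 2 * a + 1 := by rw [← hma', ← hma]
    nlinarith
  rw [haa] at hk
  exact hk

end w

end Cfsg.Agent.Lib.Lead.Hecke
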