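import Mathlib
import Cfsg.Prelude.Def_Blocks
import Cfsg.Agent.Lib.Lead.Bli3
import Cfsg.Agent.Lib.Helper6.Clifford
import Cfsg.Agent.Lib.Helper6.ClassFun
import Cfsg.Agent.Lib.Helper3.Dade5

/-! For a normal abelian subgroup `B` of a linear group of degree `n`, the index of `C(B)` divides
`n!` (action on the linear constituents). -/

set_option autoImplicit false
open Cfsg
open Cfsg.Agent.Lib.Helper6
open Cfsg.Agent.Lib.Lead.Bli
open scoped ComplexConjugate

namespace Cfsg.Agent.Lib.Lead.Jor4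

section
variable {G : Type*} [Group G]

/-- left action of `G` on the irreducible characters of a normal subgroup -/
noncomputable def irrAct [Finite G] (B : Subgroup G) (hB : B.Normal) :
    MulAction G (IrrCharacter B) where
  smul g θ := ⟨conjFun B hB θ.1 g⁻¹, IsIrrCharacter.conjFun B hB θ.2 g⁻¹⟩
  one_smul θ := by
    apply Subtype.ext
    show conjFun B hB θ.1 (1 : G)⁻¹ = θ.1
    rw [inv_one, conjFun_one]
  mul_smul g h θ := by
    apply Subtype.ext
    show conjFun B hB θ.1 (g * h)⁻¹ = conjFun B hB (conjFun B hB θ.1 h⁻¹) g⁻¹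
    rw [conjFun_conjFun, mul_inv_rev]

theorem index_centralizer_dvd_factorial [Finite G] {n : ℕ} {χ : G → ℂ} (hχ : IsCharacter G χ)
    (hf : Faith χ) (hdeg : charDegree χ ≤ n) (B : Subgroup G) (hB : B.Normal)
    (hBab : ∀ a b : B, a * b = b * a) :
    (Subgroup.centralizer (B : Set G)).index ∣ n.factorial := by
  classical
  haveI : Fintype G := Fintype.ofFinite G
  haveI : Fintype B := Fintype.ofFinite B
  haveI : Fintype (IrrCharacter B) := Fintype.ofFinite _
  have hψ : IsCharacter B (fun b : B => χ b) := IsCharacter.restrict B hχ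
  obtain ⟨m, hm, hmult⟩ := IsCharacter.exists_mult hψ
  have hclass : IsClassFunction G χ := IsCharacter.isClassFunction hχ
  letI act : MulAction G (IrrCharacter B) := irrAct B hB
  have hsmul : ∀ (g : G) (θ : IrrCharacter B),
      ((g • θ : IrrCharacter B) : B → ℂ) = conjFun B hB θ.1 g⁻¹ := fun g θ => rfl
  have hstable : ∀ (g : G) (θ : IrrCharacter B), m (g • θ) = m θ := by
    intro g θ
    have h1 := hmult (g • θ)
    rw [hsmul] at h1
    have h3 : classInner (fun b : B => χ b) (conjFun B hB θ.1 g⁻¹)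
        = classInner (fun b : B => χ b) θ.1 := by
      have := classInner_conjFun_conjFun B hB (fun b : B => χ b) θ.1 g⁻¹
      rw [conjFun_restrict B hB hclass g⁻¹] at this
      exact this
    rw [h3, hmult θ] at h1
    exact_mod_cast h1.symm
  have hlin : ∀ θ : IrrCharacter B, (θ : B → ℂ) 1 = 1 := fun θ =>
    Cfsg.Agent.Lib.Helper3.Dade.apply_one_eq_one_of_comm hBab θ.2
  -- the action on the constituents
  letI actT : MulAction G {θ : IrrCharacter B // m θ ≠ 0} :=
    { smul := fun g t => ⟨g • t.1, by rw [hstable]; exact t.2⟩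
      one_smul := fun t => Subtype.ext (one_smul G t.1)
      mul_smul := fun g h t => Subtype.ext (mul_smul g h t.1) }
  obtain ⟨φ, hφ⟩ : ∃ φ : G →* Equiv.Perm {θ : IrrCharacter B // m θ ≠ 0},
      ∀ (g : G) (t : {θ : IrrCharacter B // m θ ≠ 0}), ((φ g t : {θ : IrrCharacter B // m θ ≠ 0})
        : IrrCharacter B) = g • t.1 :=
    ⟨MulAction.toPermHom G {θ : IrrCharacter B // m θ ≠ 0}, fun g t => rfl⟩
  have hker : φ.ker ≤ Subgroup.centralizer (B : Set G) := by
    intro g hg
    rw [MonoidHom.mem_ker] at hg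
    have hfix : ∀ θ : IrrCharacter B, m θ ≠ 0 → conjFun B hB θ.1 g⁻¹ = θ.1 := by
      intro θ hθ
      have h1 := hφ g ⟨θ, hθ⟩
      rw [hg] at h1
      have h2 : θ = g • θ := h1
      rw [← hsmul, ← h2]
    rw [Subgroup.mem_centralizer_iff]
    intro b hb
    have hcB : g⁻¹ * b * g ∈ B := by
      have := hB.conj_mem b hb g⁻¹
      rwa [inv_inv] at this
    have hχeq : χ (g⁻¹ * b * g * b⁻¹) = χ 1 := by
      have e1 := apply_eq_sum_mult hm ((⟨g⁻¹ * b * g, hcB⟩ : B) * (⟨b, hb⟩ : B)⁻¹)
      have e2 := apply_eq_sum_mult hm (1 : B)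
      have e1' : χ (g⁻¹ * b * g * b⁻¹) = ∑ θ : IrrCharacter B, (m θ : ℂ)
          * (θ : B → ℂ) ((⟨g⁻¹ * b * g, hcB⟩ : B) * (⟨b, hb⟩ : B)⁻¹) := e1
      have e2' : χ 1 = ∑ θ : IrrCharacter B, (m θ : ℂ) * (θ : B → ℂ) 1 := e2
      rw [e1', e2']
      apply Finset.sum_congr rfl
      intro θ _
      by_cases hθ : m θ = 0
      · rw [hθ]; simp
      · have hl := hlin θ
        have hmul := IsCharacter.mul_of_apply_one_eq_one (IsIrrCharacter.isCharacter θ.2) hl
        have hfx := congrFun (hfix θ hθ) (⟨b, hb⟩ : B)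
        rw [conjFun_apply] at hfx
        have hc' : (θ : B → ℂ) (⟨g⁻¹ * b * g, hcB⟩ : B) = (θ : B → ℂ) (⟨b, hb⟩ : B) := by
          rw [← hfx]
          exact congrArg (θ : B → ℂ) (Subtype.ext (by simp))
        rw [hmul, hc', ← hmul, mul_inv_cancel]
    have h1 := hf _ hχeq
    calc b * g = g * (g⁻¹ * b * g * b⁻¹) * b := by group
      _ = g * b := by rw [h1, mul_one]
  -- counting
  have hcardT : Nat.card {θ : IrrCharacter B // m θ ≠ 0} ≤ n := by
    refine le_trans ?_ hdeg
    have e2 := apply_eq_sum_mult hm (1 : B)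
    have e2' : χ 1 = ∑ θ : IrrCharacter B, (m θ : ℂ) * (θ : B → ℂ) 1 := e2
    rw [IsCharacter.apply_one_eq_charDegree hχ,
      Finset.sum_congr rfl (fun θ _ => by rw [hlin θ, mul_one]), ← Nat.cast_sum] at e2'
    have h4 : charDegree χ = ∑ θ : IrrCharacter B, m θ := by exact_mod_cast e2'
    rw [h4, Nat.card_eq_fintype_card, Fintype.card_subtype, Finset.card_eq_sum_ones]
    calc ∑ _θ ∈ Finset.univ.filter (fun θ : IrrCharacter B => m θ ≠ 0), 1
        ≤ ∑ θ ∈ Finset.univ.filter (fun θ : IrrCharacter B => m θ ≠ 0), m θ := by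
          apply Finset.sum_le_sum
          intro θ hθ
          have := (Finset.mem_filter.1 hθ).2
          omega
      _ ≤ ∑ θ : IrrCharacter B, m θ :=
          Finset.sum_le_sum_of_subset (Finset.filter_subset _ _)
  have h1 : (Subgroup.centralizer (B : Set G)).index ∣ φ.ker.index := Subgroup.index_dvd_of_le hker
  have h2 : φ.ker.index = Nat.card φ.range := Subgroup.index_ker φ
  have h3 : Nat.card φ.range ∣ Nat.card (Equiv.Perm {θ : IrrCharacter B // m θ ≠ 0}) :=
    Subgroup.card_subgroup_dvd_card φ.range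
  rw [Nat.card_perm] at h3
  rw [h2] at h1
  exact dvd_trans h1 (dvd_trans h3 (Nat.factorial_dvd_factorial hcardT))

end

end Cfsg.Agent.Lib.Lead.Jor4
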