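import Mathlib

set_option autoImplicit false

/-!
# Jordan's theorem, part 1: finite groups of unitary matrices

The elements of a finite group of unitary matrices whose numerical range lies in the sector of
half-angle `π/6` around `1` commute pairwise (Frobenius).
-/

namespace Cfsg.Agent.Lib.Lead.Jordan1

open scoped ComplexConjugate
open Matrix

variable {n : ℕ}

/-- standard hermitian inner product, conjugate-linear in the first variable -/
noncomputable def ip (x y : Fin n → ℂ) : ℂ := star x ⬝ᵥ y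

/-- squared euclidean norm -/
noncomputable def nsq (x : Fin n → ℂ) : ℝ := ∑ i, Complex.normSq (x i)

theorem ip_self (x : Fin n → ℂ) : ip x x = ((nsq x : ℝ) : ℂ) := by
  unfold ip nsq dotProduct
  rw [Complex.ofReal_sum]
  refine Finset.sum_congr rfl (fun i _ => ?_)
  rw [Complex.normSq_eq_conj_mul_self]
  rfl

theorem nsq_nonneg (x : Fin n → ℂ) : 0 ≤ nsq x :=
  Finset.sum_nonneg (fun i _ => Complex.normSq_nonneg _)

theorem nsq_eq_zero {x : Fin n → ℂ} : nsq x = 0 ↔ x = 0 := by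
  unfold nsq
  rw [Finset.sum_eq_zero_iff_of_nonneg (fun i _ => Complex.normSq_nonneg _)]
  constructor
  · intro h
    funext i
    exact Complex.normSq_eq_zero.1 (h i (Finset.mem_univ i))
  · intro h i _
    rw [h]
    simp

theorem nsq_pos {x : Fin n → ℂ} (hx : x ≠ 0) : 0 < nsq x :=
  lt_of_le_of_ne (nsq_nonneg x) (fun h => hx (nsq_eq_zero.1 h.symm))

theorem nsq_zero : nsq (0 : Fin n → ℂ) = 0 := nsq_eq_zero.2 rfl

theorem ip_add_right (x y z : Fin n → ℂ) : ip x (y + z) = ip x y + ip x z := by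
  unfold ip
  rw [dotProduct_add]

theorem ip_smul_right (c : ℂ) (x y : Fin n → ℂ) : ip x (c • y) = c * ip x y := by
  unfold ip
  rw [dotProduct_smul, smul_eq_mul]

theorem ip_smul_left (c : ℂ) (x y : Fin n → ℂ) : ip (c • x) y = conj c * ip x y := by
  unfold ip
  rw [star_smul, smul_dotProduct, smul_eq_mul, starRingEnd_apply]

theorem ip_sum_right {ι : Type*} (s : Finset ι) (x : Fin n → ℂ) (f : ι → Fin n → ℂ) :
    ip x (∑ i ∈ s, f i) = ∑ i ∈ s, ip x (f i) := by
  unfold ip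
  rw [dotProduct_sum]

theorem ip_sum_left {ι : Type*} (s : Finset ι) (f : ι → Fin n → ℂ) (y : Fin n → ℂ) :
    ip (∑ i ∈ s, f i) y = ∑ i ∈ s, ip (f i) y := by
  unfold ip
  rw [star_sum, sum_dotProduct]

theorem ip_conj (x y : Fin n → ℂ) : conj (ip x y) = ip y x := by
  unfold ip dotProduct
  rw [map_sum]
  refine Finset.sum_congr rfl (fun i _ => ?_)
  simp [mul_comm]

theorem ip_zero_right (x : Fin n → ℂ) : ip x 0 = 0 := by
  unfold ip
  rw [dotProduct_zero]

theorem ip_mulVec_left (A : Matrix (Fin n) (Fin n) ℂ) (x y : Fin n → ℂ) :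
    ip (A *ᵥ x) y = ip x (Aᴴ *ᵥ y) := by
  unfold ip
  rw [star_mulVec, dotProduct_mulVec]

theorem ip_mulVec_right (A : Matrix (Fin n) (Fin n) ℂ) (x y : Fin n → ℂ) :
    ip x (A *ᵥ y) = ip (Aᴴ *ᵥ x) y := by
  rw [ip_mulVec_left, conjTranspose_conjTranspose]

theorem ip_unitary {U : Matrix (Fin n) (Fin n) ℂ} (hU : Uᴴ * U = 1) (x y : Fin n → ℂ) :
    ip (U *ᵥ x) (U *ᵥ y) = ip x y := by
  rw [ip_mulVec_left, mulVec_mulVec, hU, one_mulVec]

theorem nsq_eq_re (x : Fin n → ℂ) : nsq x = (ip x x).re := by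
  rw [ip_self, Complex.ofReal_re]

theorem nsq_unitary {U : Matrix (Fin n) (Fin n) ℂ} (hU : Uᴴ * U = 1) (x : Fin n → ℂ) :
    nsq (U *ᵥ x) = nsq x := by
  rw [nsq_eq_re, ip_unitary hU, ← nsq_eq_re]

theorem nsq_smul (c : ℂ) (x : Fin n → ℂ) : nsq (c • x) = Complex.normSq c * nsq x := by
  unfold nsq
  rw [Finset.mul_sum]
  refine Finset.sum_congr rfl (fun i _ => ?_)
  rw [Pi.smul_apply, smul_eq_mul, Complex.normSq_mul]

theorem nsq_sub (a b : Fin n → ℂ) : nsq (a - b) = nsq a + nsq b - 2 * (ip a b).re := by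
  unfold nsq ip dotProduct
  rw [Complex.re_sum, Finset.mul_sum, ← Finset.sum_add_distrib, ← Finset.sum_sub_distrib]
  refine Finset.sum_congr rfl (fun i _ => ?_)
  simp only [Pi.sub_apply, Pi.star_apply, Complex.normSq_apply, Complex.sub_re, Complex.sub_im,
    Complex.mul_re, Complex.star_def, Complex.conj_re, Complex.conj_im]
  ring

/-- squared Frobenius norm -/
noncomputable def fn (T : Matrix (Fin n) (Fin n) ℂ) : ℝ := ∑ j, nsq (fun i => T i j)

theorem fn_nonneg (T : Matrix (Fin n) (Fin n) ℂ) : 0 ≤ fn T :=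
  Finset.sum_nonneg (fun j _ => nsq_nonneg _)

theorem fn_eq_zero {T : Matrix (Fin n) (Fin n) ℂ} : fn T = 0 ↔ T = 0 := by
  unfold fn
  rw [Finset.sum_eq_zero_iff_of_nonneg (fun j _ => nsq_nonneg _)]
  constructor
  · intro h
    ext i j
    have := nsq_eq_zero.1 (h j (Finset.mem_univ j))
    exact congrFun this i
  · intro h j _
    rw [h]
    exact nsq_eq_zero.2 rfl

theorem col_mul (E T : Matrix (Fin n) (Fin n) ℂ) (j : Fin n) :
    (fun i => (E * T) i j) = E *ᵥ (fun i => T i j) := by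
  funext i
  simp [Matrix.mul_apply, Matrix.mulVec, dotProduct]

theorem fn_mul_lt {E T : Matrix (Fin n) (Fin n) ℂ} {c : ℝ}
    (hE : ∀ x : Fin n → ℂ, x ≠ 0 → nsq (E *ᵥ x) < c * nsq x) (hT : T ≠ 0) :
    fn (E * T) < c * fn T := by
  unfold fn
  rw [Finset.mul_sum]
  apply Finset.sum_lt_sum
  · intro j _
    rw [col_mul]
    by_cases h0 : (fun i => T i j) = 0
    · rw [h0, mulVec_zero, nsq_zero, mul_zero]
    · exact (hE _ h0).le
  · have : ∃ j, (fun i => T i j) ≠ 0 := by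
      by_contra hcon
      simp only [not_exists, not_not] at hcon
      apply hT
      ext i j
      exact congrFun (hcon j) i
    obtain ⟨j, hj⟩ := this
    refine ⟨j, Finset.mem_univ j, ?_⟩
    rw [col_mul]
    exact hE _ hj

theorem fn_conjTranspose (T : Matrix (Fin n) (Fin n) ℂ) : fn Tᴴ = fn T := by
  unfold fn nsq
  rw [Finset.sum_comm]
  refine Finset.sum_congr rfl (fun i _ => Finset.sum_congr rfl (fun j _ => ?_))
  show Complex.normSq (Tᴴ i j) = Complex.normSq (T j i)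
  rw [conjTranspose_apply, Complex.star_def, Complex.normSq_conj]

theorem fn_neg (T : Matrix (Fin n) (Fin n) ℂ) : fn (-T) = fn T := by
  unfold fn nsq
  refine Finset.sum_congr rfl (fun i _ => Finset.sum_congr rfl (fun j _ => ?_))
  show Complex.normSq ((-T) j i) = Complex.normSq (T j i)
  rw [Matrix.neg_apply, Complex.normSq_neg]

theorem fn_sub_comm (X Y : Matrix (Fin n) (Fin n) ℂ) : fn (X - Y) = fn (Y - X) := by
  rw [← neg_sub, fn_neg]

theorem fn_unitary_mul {U T : Matrix (Fin n) (Fin n) ℂ} (hU : Uᴴ * U = 1) :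
    fn (U * T) = fn T := by
  unfold fn
  refine Finset.sum_congr rfl (fun j _ => ?_)
  rw [col_mul, nsq_unitary hU]

theorem fn_mul_unitary {U T : Matrix (Fin n) (Fin n) ℂ} (hU : U * Uᴴ = 1) :
    fn (T * U) = fn T := by
  rw [← fn_conjTranspose, conjTranspose_mul,
    fn_unitary_mul (by rw [conjTranspose_conjTranspose]; exact hU), fn_conjTranspose]

theorem fn_sub_le (X Y : Matrix (Fin n) (Fin n) ℂ) : fn (X - Y) ≤ 2 * fn X + 2 * fn Y := by
  unfold fn nsq
  rw [Finset.mul_sum, Finset.mul_sum, ← Finset.sum_add_distrib]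
  apply Finset.sum_le_sum
  intro j _
  rw [Finset.mul_sum, Finset.mul_sum, ← Finset.sum_add_distrib]
  apply Finset.sum_le_sum
  intro i _
  show Complex.normSq ((X - Y) i j) ≤ 2 * Complex.normSq (X i j) + 2 * Complex.normSq (Y i j)
  rw [Matrix.sub_apply, Complex.normSq_apply, Complex.normSq_apply, Complex.normSq_apply,
    Complex.sub_re, Complex.sub_im]
  nlinarith [sq_nonneg ((X i j).re + (Y i j).re), sq_nonneg ((X i j).im + (Y i j).im)]

/-- the numerical range of `U` lies in the open sector of half-angle `π/6` around `1`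
(cut at real part `√3/2`). -/
def InS (U : Matrix (Fin n) (Fin n) ℂ) : Prop :=
  ∀ x : Fin n → ℂ, x ≠ 0 → Real.sqrt 3 / 2 * nsq x < (ip x (U *ᵥ x)).re

theorem InS.conjTranspose {U : Matrix (Fin n) (Fin n) ℂ} (h : InS U) : InS Uᴴ := by
  intro x hx
  have := h x hx
  rw [ip_mulVec_right, conjTranspose_conjTranspose, ← ip_conj, Complex.conj_re]
  exact this

theorem InS.conj {U V : Matrix (Fin n) (Fin n) ℂ} (hV' : V * Vᴴ = 1)
    (h : InS U) : InS (V * U * Vᴴ) := by
  intro x hx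
  have hy : Vᴴ *ᵥ x ≠ 0 := by
    intro h0
    apply hx
    have : V *ᵥ (Vᴴ *ᵥ x) = x := by rw [mulVec_mulVec, hV', one_mulVec]
    rw [← this, h0, mulVec_zero]
  have h1 := h _ hy
  have h2 : nsq (Vᴴ *ᵥ x) = nsq x :=
    nsq_unitary (by rw [conjTranspose_conjTranspose]; exact hV') x
  have h3 : ip x ((V * U * Vᴴ) *ᵥ x) = ip (Vᴴ *ᵥ x) (U *ᵥ (Vᴴ *ᵥ x)) := by
    rw [← mulVec_mulVec, ← mulVec_mulVec, ip_mulVec_right]
  rw [h3, ← h2]
  exact h1

theorem key_bound {U : Matrix (Fin n) (Fin n) ℂ} (hU : Uᴴ * U = 1) (hS : InS U)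
    (x : Fin n → ℂ) (hx : x ≠ 0) :
    nsq ((U - ((Real.sqrt 3 / 2 : ℝ) : ℂ) • (1 : Matrix (Fin n) (Fin n) ℂ)) *ᵥ x)
      < 1 / 4 * nsq x := by
  have h1 := hS x hx
  have hs : Real.sqrt 3 * Real.sqrt 3 = 3 := Real.mul_self_sqrt (by norm_num)
  have hs0 : 0 < Real.sqrt 3 := Real.sqrt_pos.2 (by norm_num)
  have h2 : (ip (U *ᵥ x) x).re = (ip x (U *ᵥ x)).re := by
    rw [← ip_conj, Complex.conj_re]
  have e1 : Real.sqrt 3 / 2 * (Real.sqrt 3 / 2) = 3 / 4 := by
    rw [div_mul_div_comm, hs]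
    norm_num
  have h3 : Real.sqrt 3 * (Real.sqrt 3 / 2 * nsq x) = 3 / 2 * nsq x := by
    rw [← mul_assoc, mul_div_assoc', hs]
  have h4 := mul_lt_mul_of_pos_left h1 hs0
  rw [h3] at h4
  rw [sub_mulVec, smul_mulVec, one_mulVec, nsq_sub, nsq_unitary hU, nsq_smul, ip_smul_right,
    Complex.normSq_ofReal, Complex.re_ofReal_mul, h2, e1]
  linarith

theorem contraction {U T : Matrix (Fin n) (Fin n) ℂ} (hU : Uᴴ * U = 1) (hS : InS U)
    (hT : Tᴴ * T = 1) (hT1 : T ≠ 1) :
    fn (1 - U * T * Uᴴ * Tᴴ) < fn (1 - T) := by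
  have hU' : U * Uᴴ = 1 := mul_eq_one_comm.mp hU
  have hTT : T * Tᴴ = 1 := mul_eq_one_comm.mp hT
  set c : ℂ := ((Real.sqrt 3 / 2 : ℝ) : ℂ) with hc
  set E : Matrix (Fin n) (Fin n) ℂ := U - c • 1 with hE
  set T' : Matrix (Fin n) (Fin n) ℂ := T - 1 with hT'def
  have hT'0 : T' ≠ 0 := sub_ne_zero.2 hT1
  have e1 : 1 - U * T * Uᴴ * Tᴴ = (T * U - U * T) * Uᴴ * Tᴴ := by
    have : T * U * Uᴴ * Tᴴ = 1 := by rw [mul_assoc T U, hU', mul_one, hTT]
    rw [sub_mul, sub_mul, this]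
  have e2 : T * U - U * T = T' * E - E * T' := by
    simp only [hE, hT'def, sub_mul, mul_sub, mul_one, one_mul, mul_smul_comm, smul_mul_assoc,
      smul_sub]
    abel
  have e3 : fn (1 - U * T * Uᴴ * Tᴴ) = fn (T' * E - E * T') := by
    rw [e1, fn_mul_unitary (U := Tᴴ) (by rw [conjTranspose_conjTranspose]; exact hT),
      fn_mul_unitary (U := Uᴴ) (by rw [conjTranspose_conjTranspose]; exact hU), e2]
  have b1 : fn (E * T') < 1 / 4 * fn T' := fn_mul_lt (key_bound hU hS) hT'0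
  have hEH : Eᴴ = Uᴴ - c • 1 := by
    rw [hE, conjTranspose_sub, conjTranspose_smul, conjTranspose_one, hc, Complex.star_def,
      Complex.conj_ofReal]
  have hT'H0 : T'ᴴ ≠ 0 := by
    intro h
    apply hT'0
    rw [← conjTranspose_conjTranspose T', h, conjTranspose_zero]
  have b2 : fn (T' * E) < 1 / 4 * fn T' := by
    rw [← fn_conjTranspose, conjTranspose_mul, hEH, ← fn_conjTranspose T']
    exact fn_mul_lt
      (key_bound (by rw [conjTranspose_conjTranspose]; exact hU') hS.conjTranspose) hT'H0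
  have b3 := fn_sub_le (T' * E) (E * T')
  rw [e3, fn_sub_comm 1 T]
  show fn (T' * E - E * T') < fn T'
  linarith

/-- two commuting matrices, one of them of finite order and not the identity, have a common
eigenvector on which the latter does not act trivially. -/
theorem common_eigen {U C : Matrix (Fin n) (Fin n) ℂ} (hcomm : U * C = C * U) {m : ℕ}
    (hm : 0 < m) (hC : C ^ m = 1) (hC1 : C ≠ 1) :
    ∃ (v : Fin n → ℂ) (lam gam : ℂ), v ≠ 0 ∧ U *ᵥ v = lam • v ∧ C *ᵥ v = gam • v ∧ gam ≠ 1 := by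
  classical
  let φ : Matrix (Fin n) (Fin n) ℂ ≃ₐ[ℂ] Module.End ℂ (Fin n → ℂ) := Matrix.toLinAlgEquiv'
  set f : Module.End ℂ (Fin n → ℂ) := φ U with hf
  set c : Module.End ℂ (Fin n → ℂ) := φ C with hcdef
  have hfc : Commute f c := by
    show f * c = c * f
    rw [hf, hcdef, ← map_mul, ← map_mul, hcomm]
  have hcm : c ^ m = 1 := by rw [hcdef, ← map_pow, hC, map_one]
  have hc1 : c ≠ 1 := by
    intro h
    apply hC1
    apply φ.injective
    rw [map_one]
    exact h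
  set q : Module.End ℂ (Fin n → ℂ) := ∑ k ∈ Finset.range m, c ^ k with hq
  have hq0 : q * (c - 1) = 0 := by rw [hq, geom_sum_mul, hcm, sub_self]
  have hfq : Commute f q := Commute.sum_right _ _ _ (fun k _ => hfc.pow_right k)
  have hcq : Commute c q := Commute.sum_right _ _ _ (fun k _ => (Commute.refl c).pow_right k)
  let K : Submodule ℂ (Fin n → ℂ) := LinearMap.ker q
  obtain ⟨w, hw⟩ : ∃ w, (c - 1) w ≠ 0 := by
    by_contra hcon
    simp only [not_exists, not_not] at hcon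
    apply hc1
    have : c - 1 = 0 := LinearMap.ext (fun w => by simpa using hcon w)
    exact sub_eq_zero.1 this
  have huK : (c - 1) w ∈ K := by
    show q ((c - 1) w) = 0
    have := LinearMap.congr_fun hq0 w
    rw [Module.End.mul_apply] at this
    simpa using this
  have hfK : ∀ x ∈ K, f x ∈ K := by
    intro x hx
    show q (f x) = 0
    have h1 := LinearMap.congr_fun hfq.eq x
    rw [Module.End.mul_apply, Module.End.mul_apply] at h1
    rw [← h1, (show q x = 0 from hx), map_zero]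
  have hcK : ∀ x ∈ K, c x ∈ K := by
    intro x hx
    show q (c x) = 0
    have h1 := LinearMap.congr_fun hcq.eq x
    rw [Module.End.mul_apply, Module.End.mul_apply] at h1
    rw [← h1, (show q x = 0 from hx), map_zero]
  haveI : Nontrivial K :=
    ⟨⟨⟨(c - 1) w, huK⟩, 0, fun h => hw (congrArg Subtype.val h)⟩⟩
  obtain ⟨lam, hlam⟩ := Module.End.exists_eigenvalue (f.restrict hfK)
  obtain ⟨v0, hv0⟩ := hlam.exists_hasEigenvector
  have hv0ne : (v0 : Fin n → ℂ) ≠ 0 := fun h => hv0.2 (Subtype.ext h)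
  have hfv0 : f (v0 : Fin n → ℂ) = lam • (v0 : Fin n → ℂ) := by
    have := congrArg Subtype.val hv0.apply_eq_smul
    rw [LinearMap.coe_restrict_apply] at this
    exact this
  let K' : Submodule ℂ (Fin n → ℂ) := K ⊓ Module.End.eigenspace f lam
  have hcK' : ∀ x ∈ K', c x ∈ K' := by
    intro x hx
    refine ⟨hcK x hx.1, Module.End.mem_eigenspace_iff.2 ?_⟩
    have hx2 := Module.End.mem_eigenspace_iff.1 hx.2
    have h1 := LinearMap.congr_fun hfc.eq x
    rw [Module.End.mul_apply, Module.End.mul_apply] at h1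
    rw [h1, hx2, map_smul]
  haveI : Nontrivial K' :=
    ⟨⟨⟨v0, v0.2, Module.End.mem_eigenspace_iff.2 hfv0⟩, 0,
      fun h => hv0ne (congrArg Subtype.val h)⟩⟩
  obtain ⟨gam, hgam⟩ := Module.End.exists_eigenvalue (c.restrict hcK')
  obtain ⟨v1, hv1⟩ := hgam.exists_hasEigenvector
  have hvne : (v1 : Fin n → ℂ) ≠ 0 := fun h => hv1.2 (Subtype.ext h)
  have hcv : c (v1 : Fin n → ℂ) = gam • (v1 : Fin n → ℂ) := by
    have := congrArg Subtype.val hv1.apply_eq_smul
    rw [LinearMap.coe_restrict_apply] at this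
    exact this
  have hfv : f (v1 : Fin n → ℂ) = lam • (v1 : Fin n → ℂ) :=
    Module.End.mem_eigenspace_iff.1 v1.2.2
  have hqv : q (v1 : Fin n → ℂ) = 0 := v1.2.1
  have hpow : ∀ k : ℕ, (c ^ k) (v1 : Fin n → ℂ) = gam ^ k • (v1 : Fin n → ℂ) := by
    intro k
    induction k with
    | zero => simp
    | succ k ih =>
      rw [pow_succ, Module.End.mul_apply, hcv, map_smul, ih, smul_smul, pow_succ, mul_comm]
  have hqv2 : q (v1 : Fin n → ℂ) = (∑ k ∈ Finset.range m, gam ^ k) • (v1 : Fin n → ℂ) := by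
    rw [hq, LinearMap.sum_apply, Finset.sum_smul]
    exact Finset.sum_congr rfl (fun k _ => hpow k)
  have hsum0 : ∑ k ∈ Finset.range m, gam ^ k = 0 := by
    rw [hqv] at hqv2
    rcases smul_eq_zero.1 hqv2.symm with h | h
    · exact h
    · exact absurd h hvne
  have hgam1 : gam ≠ 1 := by
    intro h
    rw [h] at hsum0
    simp at hsum0
    omega
  refine ⟨(v1 : Fin n → ℂ), lam, gam, hvne, ?_, ?_, hgam1⟩
  · rw [← Matrix.toLinAlgEquiv'_apply]
    exact hfv
  · rw [← Matrix.toLinAlgEquiv'_apply]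
    exact hcv

/-- Frobenius' lemma -/
theorem frob_lemma {U B : Matrix (Fin n) (Fin n) ℂ} (hU : Uᴴ * U = 1) (hB : Bᴴ * B = 1)
    (hcomm : U * (B * U * Bᴴ) = (B * U * Bᴴ) * U) {m : ℕ} (hm : 0 < m)
    (hC : (Uᴴ * (B * U * Bᴴ)) ^ m = 1)
    (hNV : ∀ (v : Fin n → ℂ) (lam : ℂ), v ≠ 0 → U *ᵥ v = lam • v → ip v (Bᴴ *ᵥ v) ≠ 0) :
    B * U * Bᴴ = U := by
  by_contra hne
  have hU' : U * Uᴴ = 1 := mul_eq_one_comm.mp hU
  set A' := B * U * Bᴴ with hA'
  set C := Uᴴ * A' with hCdef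
  have hUC : U * C = A' := by rw [hCdef, ← mul_assoc, hU', one_mul]
  have hCU : C * U = A' := by rw [hCdef, mul_assoc, ← hcomm, ← mul_assoc, hU, one_mul]
  have hC1 : C ≠ 1 := by
    intro h
    apply hne
    rw [← hUC, h, mul_one]
  obtain ⟨v, lam, gam, hv, hUv, hCv, hgam⟩ := common_eigen (hUC.trans hCU.symm) hm hC hC1
  have hA'v : A' *ᵥ v = (lam * gam) • v := by
    rw [← hUC, ← mulVec_mulVec, hCv, mulVec_smul, hUv, smul_smul, mul_comm]
  have h1 : U * Bᴴ = Bᴴ * A' := by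
    rw [hA', ← mul_assoc, ← mul_assoc, hB, one_mul]
  have hUw : U *ᵥ (Bᴴ *ᵥ v) = (lam * gam) • (Bᴴ *ᵥ v) := by
    rw [mulVec_mulVec, h1, ← mulVec_mulVec, hA'v, mulVec_smul]
  have hlam : Complex.normSq lam = 1 := by
    have h2 : nsq (U *ᵥ v) = nsq v := nsq_unitary hU v
    rw [hUv, nsq_smul] at h2
    have h3 := nsq_pos hv
    exact mul_right_cancel₀ h3.ne' (by rw [h2, one_mul])
  have h3 : ip (U *ᵥ v) (U *ᵥ (Bᴴ *ᵥ v)) = ip v (Bᴴ *ᵥ v) := ip_unitary hU v _
  rw [hUv, hUw, ip_smul_left, ip_smul_right] at h3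
  have h4 : conj lam * (lam * gam * ip v (Bᴴ *ᵥ v)) = gam * ip v (Bᴴ *ᵥ v) := by
    have : conj lam * lam = 1 := by
      rw [← Complex.normSq_eq_conj_mul_self, hlam]
      simp
    calc conj lam * (lam * gam * ip v (Bᴴ *ᵥ v))
        = (conj lam * lam) * (gam * ip v (Bᴴ *ᵥ v)) := by ring
      _ = gam * ip v (Bᴴ *ᵥ v) := by rw [this, one_mul]
  rw [h4] at h3
  have h5 : (gam - 1) * ip v (Bᴴ *ᵥ v) = 0 := by rw [sub_mul, one_mul, h3, sub_self]
  rcases mul_eq_zero.1 h5 with h | h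
  · exact hgam (sub_eq_zero.1 h)
  · exact hNV v lam hv hUv h

/-- a faithful unitary matrix representation of a group -/
structure URep (Γ : Type*) [Group Γ] (n : ℕ) where
  U : Γ → Matrix (Fin n) (Fin n) ℂ
  map_one' : U 1 = 1
  map_mul' : ∀ a b, U (a * b) = U a * U b
  unitary' : ∀ a, (U a)ᴴ * U a = 1
  faithful' : ∀ a, U a = 1 → a = 1

namespace URep

variable {Γ : Type*} [Group Γ] (R : URep Γ n)

theorem U_mul_inv (a : Γ) : R.U a * R.U a⁻¹ = 1 := by
  rw [← R.map_mul', mul_inv_cancel, R.map_one']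

theorem U_inv (a : Γ) : R.U a⁻¹ = (R.U a)ᴴ := by
  have h1 := R.U_mul_inv a
  have h2 := R.unitary' a
  calc R.U a⁻¹ = ((R.U a)ᴴ * R.U a) * R.U a⁻¹ := by rw [h2, one_mul]
    _ = (R.U a)ᴴ * (R.U a * R.U a⁻¹) := by rw [mul_assoc]
    _ = (R.U a)ᴴ := by rw [h1, mul_one]

theorem unitary'' (a : Γ) : R.U a * (R.U a)ᴴ = 1 := mul_eq_one_comm.mp (R.unitary' a)

theorem U_pow (a : Γ) (k : ℕ) : R.U (a ^ k) = R.U a ^ k := by
  induction k with
  | zero => simp [R.map_one']
  | succ k ih => rw [pow_succ, R.map_mul', ih, pow_succ]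

theorem U_injective : Function.Injective R.U := by
  intro a b h
  have h1 : R.U (a * b⁻¹) = 1 := by rw [R.map_mul', h, R.U_mul_inv]
  exact mul_inv_eq_one.1 (R.faithful' _ h1)

/-- the elements whose numerical range is in the sector -/
def SS : Set Γ := {a | InS (R.U a)}

theorem inv_mem_SS {a : Γ} (h : a ∈ R.SS) : a⁻¹ ∈ R.SS := by
  show InS (R.U a⁻¹)
  rw [R.U_inv]
  exact InS.conjTranspose h

theorem conj_mem_SS {a : Γ} (h : a ∈ R.SS) (b : Γ) : b * a * b⁻¹ ∈ R.SS := by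
  show InS (R.U (b * a * b⁻¹))
  rw [R.map_mul', R.map_mul', R.U_inv]
  exact InS.conj (R.unitary'' b) h

theorem eigen_normSq {a : Γ} {v : Fin n → ℂ} {lam : ℂ} (hv : v ≠ 0)
    (h : R.U a *ᵥ v = lam • v) : Complex.normSq lam = 1 := by
  have h2 : nsq (R.U a *ᵥ v) = nsq v := nsq_unitary (R.unitary' a) v
  rw [h, nsq_smul] at h2
  have h3 := nsq_pos hv
  exact mul_right_cancel₀ h3.ne' (by rw [h2, one_mul])

theorem comm_of_mem_SS [Finite Γ] {g h : Γ} (hg : g ∈ R.SS) (hh : h ∈ R.SS) :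
    g * h = h * g := by
  classical
  haveI := Fintype.ofFinite Γ
  have claim : ∀ b : Γ, (b ∈ R.SS ∨ ∃ s ∈ R.SS, b = g * s) → g * b = b * g := by
    by_contra hcon
    simp only [not_forall] at hcon
    obtain ⟨b0, hb0, hb0'⟩ := hcon
    let Bad : Finset Γ :=
      Finset.univ.filter (fun b => (b ∈ R.SS ∨ ∃ s ∈ R.SS, b = g * s) ∧ g * b ≠ b * g)
    have hne : Bad.Nonempty :=
      ⟨b0, by
        simp only [Bad, Finset.mem_filter, Finset.mem_univ, true_and]
        exact ⟨hb0, hb0'⟩⟩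
    obtain ⟨b, hbBad, hmin⟩ := Finset.exists_min_image Bad (fun b => fn (1 - R.U b)) hne
    have hb : (b ∈ R.SS ∨ ∃ s ∈ R.SS, b = g * s) ∧ g * b ≠ b * g := by
      simpa only [Bad, Finset.mem_filter, Finset.mem_univ, true_and] using hbBad
    have hb1 : b ≠ 1 := by
      intro h1
      apply hb.2
      rw [h1, mul_one, one_mul]
    have hUb1 : R.U b ≠ 1 := fun h1 => hb1 (R.faithful' b h1)
    have hs'S : b * g⁻¹ * b⁻¹ ∈ R.SS := R.conj_mem_SS (R.inv_mem_SS hg) b
    have hUb' : R.U (g * (b * g⁻¹ * b⁻¹)) = R.U g * R.U b * (R.U g)ᴴ * (R.U b)ᴴ := by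
      rw [R.map_mul', R.map_mul', R.map_mul', R.U_inv, R.U_inv]
      simp only [mul_assoc]
    have hlt : fn (1 - R.U (g * (b * g⁻¹ * b⁻¹))) < fn (1 - R.U b) := by
      rw [hUb']
      exact contraction (R.unitary' g) hg (R.unitary' b) hUb1
    have hb'comm : g * (g * (b * g⁻¹ * b⁻¹)) = (g * (b * g⁻¹ * b⁻¹)) * g := by
      by_contra hnc
      have hmem : g * (b * g⁻¹ * b⁻¹) ∈ Bad := by
        simp only [Bad, Finset.mem_filter, Finset.mem_univ, true_and]
        exact ⟨Or.inr ⟨_, hs'S, rfl⟩, hnc⟩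
      have := hmin _ hmem
      linarith
    have hcomm1 : g * (b * g * b⁻¹) = (b * g * b⁻¹) * g := by
      have h1 : g * (b * g⁻¹ * b⁻¹) = (b * g⁻¹ * b⁻¹) * g := by
        apply mul_left_cancel (a := g)
        rw [← mul_assoc g (b * g⁻¹ * b⁻¹) g]
        exact hb'comm
      have h2 : Commute g (b * g⁻¹ * b⁻¹)⁻¹ := Commute.inv_right h1
      have h3 : b * g * b⁻¹ = (b * g⁻¹ * b⁻¹)⁻¹ := by group
      rw [h3]
      exact h2.eq
    have hcommM : R.U g * (R.U b * R.U g * (R.U b)ᴴ) = (R.U b * R.U g * (R.U b)ᴴ) * R.U g := by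
      have e : R.U (b * g * b⁻¹) = R.U b * R.U g * (R.U b)ᴴ := by
        rw [R.map_mul', R.map_mul', R.U_inv]
      rw [← e, ← R.map_mul', ← R.map_mul', hcomm1]
    have hCm : ((R.U g)ᴴ * (R.U b * R.U g * (R.U b)ᴴ)) ^ (Nat.card Γ) = 1 := by
      have e : R.U (g⁻¹ * (b * g * b⁻¹)) = (R.U g)ᴴ * (R.U b * R.U g * (R.U b)ᴴ) := by
        rw [R.map_mul', R.map_mul', R.map_mul', R.U_inv, R.U_inv]
      rw [← e, ← R.U_pow, pow_card_eq_one', R.map_one']
    have hNV : ∀ (v : Fin n → ℂ) (lam : ℂ), v ≠ 0 → R.U g *ᵥ v = lam • v →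
        ip v ((R.U b)ᴴ *ᵥ v) ≠ 0 := by
      intro v lam hv hUv
      have pos : ∀ s ∈ R.SS, ip v ((R.U s)ᴴ *ᵥ v) ≠ 0 := by
        intro s hs h0
        have h1 := hs v hv
        have h2 : ip v ((R.U s)ᴴ *ᵥ v) = conj (ip v (R.U s *ᵥ v)) := by
          rw [ip_conj, ip_mulVec_right, conjTranspose_conjTranspose]
        rw [h2] at h0
        have h3 : ip v (R.U s *ᵥ v) = 0 := (map_eq_zero (starRingEnd ℂ)).1 h0
        rw [h3, Complex.zero_re] at h1
        have hs0 : 0 < Real.sqrt 3 := Real.sqrt_pos.2 (by norm_num)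
        have := mul_pos hs0 (nsq_pos hv)
        linarith
      rcases hb.1 with hbS | ⟨s, hsS, hbs⟩
      · exact pos b hbS
      · have hlam : Complex.normSq lam = 1 := R.eigen_normSq hv hUv
        have hl0 : lam ≠ 0 := by
          intro h
          rw [h] at hlam
          simp at hlam
        have hginv : (R.U g)ᴴ *ᵥ v = lam⁻¹ • v := by
          have h1 : (R.U g)ᴴ *ᵥ (R.U g *ᵥ v) = v := by
            rw [mulVec_mulVec, R.unitary' g, one_mulVec]
          rw [hUv, mulVec_smul] at h1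
          calc (R.U g)ᴴ *ᵥ v = lam⁻¹ • (lam • ((R.U g)ᴴ *ᵥ v)) := by
                rw [smul_smul, inv_mul_cancel₀ hl0, one_smul]
            _ = lam⁻¹ • v := by rw [h1]
        rw [hbs, R.map_mul', conjTranspose_mul, ← mulVec_mulVec, hginv, mulVec_smul,
          ip_smul_right]
        exact mul_ne_zero (inv_ne_zero hl0) (pos s hsS)
    have hfin := frob_lemma (R.unitary' g) (R.unitary' b) hcommM Nat.card_pos hCm hNV
    have h5 : R.U (b * g * b⁻¹) = R.U g := by
      rw [R.map_mul', R.map_mul', R.U_inv]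
      exact hfin
    have h6 := R.U_injective h5
    apply hb.2
    calc g * b = (b * g * b⁻¹) * b := by rw [h6]
      _ = b * g := by group
  exact claim h (Or.inl hh)

/-- the abelian normal subgroup -/
def AA : Subgroup Γ := Subgroup.closure R.SS

theorem SS_subset_AA : R.SS ⊆ R.AA := Subgroup.subset_closure

theorem AA_normal : (R.AA).Normal := by
  constructor
  intro a ha b
  refine Subgroup.closure_induction (p := fun x _ => b * x * b⁻¹ ∈ R.AA) ?_ ?_ ?_ ?_ ha
  · intro x hx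
    exact Subgroup.subset_closure (R.conj_mem_SS hx b)
  · rw [mul_one, mul_inv_cancel]
    exact Subgroup.one_mem _
  · intro x y _ _ hx hy
    have : b * (x * y) * b⁻¹ = (b * x * b⁻¹) * (b * y * b⁻¹) := by group
    rw [this]
    exact Subgroup.mul_mem _ hx hy
  · intro x _ hx
    have : b * x⁻¹ * b⁻¹ = (b * x * b⁻¹)⁻¹ := by group
    rw [this]
    exact Subgroup.inv_mem _ hx

theorem AA_comm [Finite Γ] : ∀ x ∈ R.AA, ∀ y ∈ R.AA, x * y = y * x := by
  have hmc : IsMulCommutative (Subgroup.closure R.SS) :=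
    Subgroup.isMulCommutative_closure (fun x hx y hy => R.comm_of_mem_SS hx hy)
  intro x hx y hy
  exact congrArg Subtype.val
    (hmc.is_comm.comm (⟨x, hx⟩ : Subgroup.closure R.SS) ⟨y, hy⟩)

end URep

end Cfsg.Agent.Lib.Lead.Jordan1
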