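import Mathlib
import Cfsg.Agent.Lib.Lead.Jordan1

set_option autoImplicit false

/-!
# Jordan's theorem, part 2: the pigeonhole argument for abelian subgroups

An abelian group of unitary matrices is simultaneously diagonalisable (via the explicit isotypic
projections); cutting the circle into 12 arcs gives the bound `12 ^ n`.
-/

namespace Cfsg.Agent.Lib.Lead.Jordan2

open scoped ComplexConjugate
open Matrix Cfsg.Agent.Lib.Lead.Jordan1

variable {n : ℕ}

/-! ### the twelve arcs -/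

noncomputable def tval (z : ℂ) : ℝ := (Complex.arg z + Real.pi) * 6 / Real.pi

theorem tval_pos (z : ℂ) : 0 < tval z := by
  unfold tval
  have h1 := Complex.neg_pi_lt_arg z
  have hpi := Real.pi_pos
  exact div_pos (mul_pos (by linarith) (by norm_num)) hpi

theorem tval_le (z : ℂ) : tval z ≤ 12 := by
  unfold tval
  have h1 := Complex.arg_le_pi z
  have hpi := Real.pi_pos
  rw [div_le_iff₀ hpi]
  nlinarith

noncomputable def boxN (z : ℂ) : ℕ := ⌈tval z⌉₊ - 1

theorem boxN_lt (z : ℂ) : boxN z < 12 := by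
  unfold boxN
  have h1 : ⌈tval z⌉₊ ≤ 12 := Nat.ceil_le.2 (by exact_mod_cast tval_le z)
  have h2 : 0 < ⌈tval z⌉₊ := Nat.ceil_pos.2 (tval_pos z)
  omega

noncomputable def box (z : ℂ) : Fin 12 := ⟨boxN z, boxN_lt z⟩

theorem box_close {z w : ℂ} (h : box z = box w) :
    |Complex.arg z - Complex.arg w| < Real.pi / 6 := by
  have h' : boxN z = boxN w := congrArg Fin.val h
  unfold boxN at h'
  have hz0 : 0 < ⌈tval z⌉₊ := Nat.ceil_pos.2 (tval_pos z)
  have hw0 : 0 < ⌈tval w⌉₊ := Nat.ceil_pos.2 (tval_pos w)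
  have heq : ⌈tval z⌉₊ = ⌈tval w⌉₊ := by omega
  have a1 := Nat.le_ceil (tval z)
  have a2 := Nat.ceil_lt_add_one (tval_pos z).le
  have b1 := Nat.le_ceil (tval w)
  have b2 := Nat.ceil_lt_add_one (tval_pos w).le
  rw [heq] at a1 a2
  have hd : |tval z - tval w| < 1 := by
    rw [abs_lt]
    constructor <;> linarith
  have hpi := Real.pi_pos
  have h6 : (0 : ℝ) < 6 / Real.pi := div_pos (by norm_num) hpi
  have e : tval z - tval w = (Complex.arg z - Complex.arg w) * (6 / Real.pi) := by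
    unfold tval
    field_simp
    ring
  rw [e, abs_mul, abs_of_pos h6] at hd
  have h7 : |Complex.arg z - Complex.arg w| < 1 / (6 / Real.pi) := by
    rw [lt_div_iff₀ h6]
    exact hd
  calc |Complex.arg z - Complex.arg w| < 1 / (6 / Real.pi) := h7
    _ = Real.pi / 6 := by field_simp

theorem re_conj_mul_of_close {z w : ℂ} (hz : ‖z‖ = 1) (hw : ‖w‖ = 1)
    (h : |Complex.arg z - Complex.arg w| < Real.pi / 6) :
    Real.sqrt 3 / 2 < (conj z * w).re := by
  have hz0 : z ≠ 0 := by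
    intro h0
    rw [h0, norm_zero] at hz
    exact zero_ne_one hz
  have hw0 : w ≠ 0 := by
    intro h0
    rw [h0, norm_zero] at hw
    exact zero_ne_one hw
  have cz : Real.cos (Complex.arg z) = z.re := by rw [Complex.cos_arg hz0, hz, div_one]
  have sz : Real.sin (Complex.arg z) = z.im := by rw [Complex.sin_arg, hz, div_one]
  have cw : Real.cos (Complex.arg w) = w.re := by rw [Complex.cos_arg hw0, hw, div_one]
  have sw : Real.sin (Complex.arg w) = w.im := by rw [Complex.sin_arg, hw, div_one]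
  have e : (conj z * w).re = Real.cos (Complex.arg z - Complex.arg w) := by
    rw [Complex.mul_re, Complex.conj_re, Complex.conj_im, Real.cos_sub, cz, sz, cw, sw]
    ring
  rw [e, ← Real.cos_abs, ← Real.cos_pi_div_six]
  apply Real.cos_lt_cos_of_nonneg_of_le_pi (abs_nonneg _) _ h
  linarith [Real.pi_pos]

/-! ### characters of a finite abelian group -/

section proj

variable {K : Type*} [CommGroup K] [Fintype K]

noncomputable def ev (ψ : AddChar (Additive K) ℂ) (k : K) : ℂ := ψ (Additive.ofMul k)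

theorem ev_mul (ψ : AddChar (Additive K) ℂ) (a b : K) : ev ψ (a * b) = ev ψ a * ev ψ b := by
  unfold ev
  rw [ofMul_mul, AddChar.map_add_eq_mul]

theorem ev_one (ψ : AddChar (Additive K) ℂ) : ev ψ (1 : K) = 1 := by
  unfold ev
  rw [ofMul_one, AddChar.map_zero_eq_one]

theorem ev_norm (ψ : AddChar (Additive K) ℂ) (k : K) : ‖ev ψ k‖ = 1 :=
  AddChar.norm_apply ψ _

theorem ev_mul_conj (ψ : AddChar (Additive K) ℂ) (k : K) : ev ψ k * conj (ev ψ k) = 1 := by
  rw [Complex.mul_conj, Complex.normSq_eq_norm_sq, ev_norm]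
  simp

theorem ev_inv (ψ : AddChar (Additive K) ℂ) (k : K) : ev ψ k⁻¹ = conj (ev ψ k) := by
  unfold ev
  rw [ofMul_inv, AddChar.map_neg_eq_conj]

variable (W : K → Matrix (Fin n) (Fin n) ℂ)

/-- the isotypic projection -/
noncomputable def P (ψ : AddChar (Additive K) ℂ) : Matrix (Fin n) (Fin n) ℂ :=
  ((Fintype.card K : ℂ))⁻¹ • ∑ k : K, conj (ev ψ k) • W k

variable {W}

theorem sum_P (h1 : W 1 = 1) : ∑ ψ : AddChar (Additive K) ℂ, P W ψ = 1 := by
  classical
  have hcard : (Fintype.card K : ℂ) ≠ 0 := by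
    have : 0 < Fintype.card K := Fintype.card_pos
    exact_mod_cast this.ne'
  have h : ∀ k : K, ∑ ψ : AddChar (Additive K) ℂ, conj (ev ψ k) • W k
      = (if k = 1 then (Fintype.card K : ℂ) else 0) • W k := by
    intro k
    rw [← Finset.sum_smul]
    congr 1
    rw [← map_sum]
    have h2 := AddChar.sum_apply_eq_ite (Additive.ofMul k)
    have h3 : ∑ ψ : AddChar (Additive K) ℂ, ev ψ k
        = if Additive.ofMul k = 0 then (Fintype.card (Additive K) : ℂ) else 0 := h2
    rw [h3]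
    by_cases hk : k = 1
    · rw [if_pos hk, if_pos (by rw [hk]; rfl), Fintype.card_additive]
      simp
    · have hk' : Additive.ofMul k ≠ 0 := fun h0 => hk (by simpa using h0)
      rw [if_neg hk, if_neg hk']
      simp
  unfold P
  rw [← Finset.smul_sum, Finset.sum_comm, Finset.sum_congr rfl (fun k _ => h k),
    Finset.sum_eq_single (1 : K)]
  · rw [if_pos rfl, h1, smul_smul, inv_mul_cancel₀ hcard, one_smul]
  · intro b _ hb
    rw [if_neg hb, zero_smul]
  · intro h0
    exact absurd (Finset.mem_univ _) h0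

theorem W_mul_P (hmul : ∀ a b, W (a * b) = W a * W b) (k : K) (ψ : AddChar (Additive K) ℂ) :
    W k * P W ψ = ev ψ k • P W ψ := by
  unfold P
  rw [mul_smul_comm, smul_comm (ev ψ k) ((Fintype.card K : ℂ))⁻¹]
  congr 1
  rw [Finset.mul_sum, Finset.smul_sum]
  apply Fintype.sum_equiv (Equiv.mulLeft k)
  intro h
  rw [Equiv.coe_mulLeft, hmul, mul_smul_comm, smul_smul, ev_mul, map_mul, ← mul_assoc,
    ev_mul_conj, one_mul]

theorem sum_xs (h1 : W 1 = 1) (x : Fin n → ℂ) :
    ∑ ψ : AddChar (Additive K) ℂ, P W ψ *ᵥ x = x := by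
  rw [← sum_mulVec, sum_P h1, one_mulVec]

theorem W_xs (hmul : ∀ a b, W (a * b) = W a * W b) (k : K) (ψ : AddChar (Additive K) ℂ)
    (x : Fin n → ℂ) : W k *ᵥ (P W ψ *ᵥ x) = ev ψ k • (P W ψ *ᵥ x) := by
  rw [mulVec_mulVec, W_mul_P hmul, smul_mulVec]

theorem ortho (hunit : ∀ a, (W a)ᴴ * W a = 1) {ψ φ : AddChar (Additive K) ℂ} (hne : ψ ≠ φ)
    {u v : Fin n → ℂ} (hu : ∀ k, W k *ᵥ u = ev ψ k • u) (hv : ∀ k, W k *ᵥ v = ev φ k • v) :
    ip u v = 0 := by
  obtain ⟨k, hk⟩ : ∃ k : K, ev ψ k ≠ ev φ k := by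
    by_contra hcon
    simp only [not_exists, not_not] at hcon
    apply hne
    ext a
    exact hcon (Additive.toMul a)
  have h := ip_unitary (hunit k) u v
  rw [hu, hv, ip_smul_left, ip_smul_right] at h
  by_contra h0
  have h2 : conj (ev ψ k) * ev φ k = 1 := by
    have h3 : (conj (ev ψ k) * ev φ k - 1) * ip u v = 0 := by
      rw [sub_mul, one_mul, mul_assoc, h, sub_self]
    rcases mul_eq_zero.1 h3 with h' | h'
    · exact sub_eq_zero.1 h'
    · exact absurd h' h0
  apply hk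
  calc ev ψ k = ev ψ k * (conj (ev ψ k) * ev φ k) := by rw [h2, mul_one]
    _ = (ev ψ k * conj (ev ψ k)) * ev φ k := by ring
    _ = ev φ k := by rw [ev_mul_conj, one_mul]

theorem ip_expand (h1 : W 1 = 1) (hmul : ∀ a b, W (a * b) = W a * W b)
    (hunit : ∀ a, (W a)ᴴ * W a = 1) (k : K) (x : Fin n → ℂ) :
    ip x (W k *ᵥ x)
      = ∑ ψ : AddChar (Additive K) ℂ, ev ψ k * ((nsq (P W ψ *ᵥ x) : ℝ) : ℂ) := by
  have hx := sum_xs h1 x
  have hWx : W k *ᵥ x = ∑ ψ : AddChar (Additive K) ℂ, ev ψ k • (P W ψ *ᵥ x) := by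
    conv_lhs => rw [← hx]
    rw [mulVec_sum]
    exact Finset.sum_congr rfl (fun ψ _ => W_xs hmul k ψ x)
  calc ip x (W k *ᵥ x)
      = ip (∑ φ : AddChar (Additive K) ℂ, P W φ *ᵥ x)
          (∑ ψ : AddChar (Additive K) ℂ, ev ψ k • (P W ψ *ᵥ x)) := by rw [← hWx, hx]
    _ = ∑ φ : AddChar (Additive K) ℂ, ∑ ψ : AddChar (Additive K) ℂ,
          ev ψ k * ip (P W φ *ᵥ x) (P W ψ *ᵥ x) := by
        rw [ip_sum_left]
        refine Finset.sum_congr rfl (fun φ _ => ?_)
        rw [ip_sum_right]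
        refine Finset.sum_congr rfl (fun ψ _ => ?_)
        rw [ip_smul_right]
    _ = ∑ φ : AddChar (Additive K) ℂ, ev φ k * ip (P W φ *ᵥ x) (P W φ *ᵥ x) := by
        refine Finset.sum_congr rfl (fun φ _ => ?_)
        rw [Finset.sum_eq_single φ]
        · intro ψ _ hne
          rw [ortho hunit (Ne.symm hne) (fun k => W_xs hmul k φ x) (fun k => W_xs hmul k ψ x),
            mul_zero]
        · intro h0
          exact absurd (Finset.mem_univ _) h0
    _ = ∑ ψ : AddChar (Additive K) ℂ, ev ψ k * ((nsq (P W ψ *ᵥ x) : ℝ) : ℂ) := by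
        refine Finset.sum_congr rfl (fun φ _ => ?_)
        rw [ip_self]

theorem nsq_expand (h1 : W 1 = 1) (hmul : ∀ a b, W (a * b) = W a * W b)
    (hunit : ∀ a, (W a)ᴴ * W a = 1) (x : Fin n → ℂ) :
    nsq x = ∑ ψ : AddChar (Additive K) ℂ, nsq (P W ψ *ᵥ x) := by
  have h := ip_expand h1 hmul hunit 1 x
  rw [h1, one_mulVec, ip_self] at h
  have h2 := congrArg Complex.re h
  rw [Complex.ofReal_re, Complex.re_sum] at h2
  rw [h2]
  refine Finset.sum_congr rfl (fun ψ _ => ?_)
  rw [ev_one, one_mul, Complex.ofReal_re]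

theorem InS_of_ev (h1 : W 1 = 1) (hmul : ∀ a b, W (a * b) = W a * W b)
    (hunit : ∀ a, (W a)ᴴ * W a = 1) (k : K)
    (hk : ∀ ψ : AddChar (Additive K) ℂ, P W ψ ≠ 0 → Real.sqrt 3 / 2 < (ev ψ k).re) :
    InS (W k) := by
  intro x hx
  rw [ip_expand h1 hmul hunit k x, Complex.re_sum, nsq_expand h1 hmul hunit x, Finset.mul_sum]
  apply Finset.sum_lt_sum
  · intro ψ _
    rw [Complex.re_mul_ofReal]
    by_cases h0 : P W ψ *ᵥ x = 0
    · rw [h0, nsq_zero, mul_zero, mul_zero]
    · have hP : P W ψ ≠ 0 := by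
        intro hP
        apply h0
        rw [hP, zero_mulVec]
      exact (mul_lt_mul_of_pos_right (hk ψ hP) (nsq_pos h0)).le
  · have : ∃ ψ : AddChar (Additive K) ℂ, P W ψ *ᵥ x ≠ 0 := by
      by_contra hcon
      simp only [not_exists, not_not] at hcon
      apply hx
      rw [← sum_xs h1 x]
      exact Finset.sum_eq_zero (fun ψ _ => hcon ψ)
    obtain ⟨ψ, h0⟩ := this
    refine ⟨ψ, Finset.mem_univ _, ?_⟩
    rw [Complex.re_mul_ofReal]
    have hP : P W ψ ≠ 0 := by
      intro hP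
      apply h0
      rw [hP, zero_mulVec]
    exact mul_lt_mul_of_pos_right (hk ψ hP) (nsq_pos h0)

theorem exists_mulVec_ne_zero {M : Matrix (Fin n) (Fin n) ℂ} (hM : M ≠ 0) :
    ∃ y : Fin n → ℂ, M *ᵥ y ≠ 0 := by
  by_contra hcon
  simp only [not_exists, not_not] at hcon
  apply hM
  have h : Matrix.toLin' M = 0 := LinearMap.ext (fun y => by
    rw [Matrix.toLin'_apply]
    exact hcon y)
  exact (LinearEquiv.map_eq_zero_iff _).1 h

theorem card_support_le (hmul : ∀ a b, W (a * b) = W a * W b)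
    (hunit : ∀ a, (W a)ᴴ * W a = 1) [DecidablePred fun ψ : AddChar (Additive K) ℂ => P W ψ ≠ 0] :
    Fintype.card {ψ : AddChar (Additive K) ℂ // P W ψ ≠ 0} ≤ n := by
  classical
  let y : {ψ : AddChar (Additive K) ℂ // P W ψ ≠ 0} → (Fin n → ℂ) :=
    fun ψ => Classical.choose (exists_mulVec_ne_zero ψ.2)
  have hy : ∀ ψ : {ψ : AddChar (Additive K) ℂ // P W ψ ≠ 0}, P W ψ.1 *ᵥ y ψ ≠ 0 :=
    fun ψ => Classical.choose_spec (exists_mulVec_ne_zero ψ.2)
  let u : {ψ : AddChar (Additive K) ℂ // P W ψ ≠ 0} → (Fin n → ℂ) := fun ψ => P W ψ.1 *ᵥ y ψ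
  have hli : LinearIndependent ℂ u := by
    rw [linearIndependent_iff']
    intro s g hsum i hi
    have h2 : ip (u i) (∑ j ∈ s, g j • u j) = g i * ((nsq (u i) : ℝ) : ℂ) := by
      rw [ip_sum_right, Finset.sum_eq_single i]
      · rw [ip_smul_right, ip_self]
      · intro j _ hji
        have hne : i.1 ≠ j.1 := fun h => hji (Subtype.ext h.symm)
        rw [ip_smul_right,
          ortho hunit hne (fun k => W_xs hmul k i.1 (y i)) (fun k => W_xs hmul k j.1 (y j)),
          mul_zero]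
      · intro h0
        exact absurd hi h0
    rw [hsum, ip_zero_right] at h2
    rcases mul_eq_zero.1 h2.symm with h3 | h3
    · exact h3
    · exfalso
      have : nsq (u i) = 0 := by exact_mod_cast h3
      exact hy i (nsq_eq_zero.1 this)
  have := hli.fintype_card_le_finrank
  rwa [Module.finrank_fin_fun] at this

/-- the pigeonhole bound -/
theorem index_bound (h1 : W 1 = 1) (hmul : ∀ a b, W (a * b) = W a * W b)
    (hunit : ∀ a, (W a)ᴴ * W a = 1) (A : Subgroup K) (hA : ∀ k : K, InS (W k) → k ∈ A) :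
    A.index ≤ 12 ^ n := by
  classical
  let f : K → ({ψ : AddChar (Additive K) ℂ // P W ψ ≠ 0} → Fin 12) :=
    fun a ψ => box (ev ψ.1 a)
  have hf : ∀ a b : K, f a = f b → (a : K ⧸ A) = (b : K ⧸ A) := by
    intro a b hab
    rw [QuotientGroup.eq]
    apply hA
    apply InS_of_ev h1 hmul hunit
    intro ψ hψ
    have h2 : box (ev ψ a) = box (ev ψ b) := congrFun hab ⟨ψ, hψ⟩
    have h3 := re_conj_mul_of_close (ev_norm ψ a) (ev_norm ψ b) (box_close h2)
    rw [ev_mul, ev_inv]
    exact h3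
  let g : K ⧸ A → ({ψ : AddChar (Additive K) ℂ // P W ψ ≠ 0} → Fin 12) :=
    fun q => f (Quotient.out q)
  have hg : Function.Injective g := by
    intro q q' hqq
    have := hf _ _ hqq
    rwa [QuotientGroup.out_eq', QuotientGroup.out_eq'] at this
  rw [Subgroup.index_eq_card]
  calc Nat.card (K ⧸ A)
      ≤ Nat.card ({ψ : AddChar (Additive K) ℂ // P W ψ ≠ 0} → Fin 12) :=
        Nat.card_le_card_of_injective g hg
    _ = 12 ^ Fintype.card {ψ : AddChar (Additive K) ℂ // P W ψ ≠ 0} := by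
        rw [Nat.card_eq_fintype_card, Fintype.card_fun, Fintype.card_fin]
    _ ≤ 12 ^ n := Nat.pow_le_pow_right (by norm_num) (card_support_le hmul hunit)

end proj

end Cfsg.Agent.Lib.Lead.Jordan2
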