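import Mathlib
import Cfsg.Prelude.Def_Characters
import Cfsg.Prelude.Def_Blocks
import Cfsg.Agent.Lib.Lead.Jordan2
import Cfsg.Agent.Lib.Helper8.FS5

set_option autoImplicit false

/-!
# Jordan's theorem, part 3: unitarisation and the `12 ^ n` theorem
-/

namespace Cfsg.Agent.Lib.Lead.Jordan3

open scoped ComplexConjugate MatrixOrder ComplexOrder
open Matrix Cfsg.Agent.Lib.Lead.Jordan1 Cfsg.Agent.Lib.Lead.Jordan2 Cfsg.Agent.Lib.Helper8.FS

variable {G : Type*} [Group G] [Finite G] {n : ℕ}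

theorem exists_urep (ρ : Representation ℂ G (Fin n → ℂ)) (hfaith : ∀ g : G, mat ρ g = 1 → g = 1) :
    Nonempty (URep G n) := by
  classical
  haveI := Fintype.ofFinite G
  have hM := hForm_posDef ρ
  set M₀ := hForm ρ with hM₀
  have h0 : (0 : Matrix (Fin n) (Fin n) ℂ) ≤ M₀ := Matrix.nonneg_iff_posSemidef.2 hM.posSemidef
  obtain ⟨P, hPdef⟩ : ∃ P : Matrix (Fin n) (Fin n) ℂ, P = CFC.sqrt M₀ := ⟨_, rfl⟩
  have hPP : P * P = M₀ := by rw [hPdef]; exact CFC.sqrt_mul_sqrt_self M₀ h0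
  have hPH : Pᴴ = P := by
    have h1 : IsSelfAdjoint P := by rw [hPdef]; exact IsSelfAdjoint.of_nonneg (CFC.sqrt_nonneg M₀)
    exact h1
  have hdet : IsUnit P.det := by
    have h1 : P.det * P.det = M₀.det := by rw [← Matrix.det_mul, hPP]
    have h2 : M₀.det ≠ 0 := hM.det_pos.ne'
    have h3 : P.det ≠ 0 := by
      intro h
      rw [h, mul_zero] at h1
      exact h2 h1.symm
    exact isUnit_iff_ne_zero.2 h3
  have hPi1 : P * P⁻¹ = 1 := Matrix.mul_nonsing_inv P hdet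
  have hPi2 : P⁻¹ * P = 1 := Matrix.nonsing_inv_mul P hdet
  have hPiH : (P⁻¹)ᴴ = P⁻¹ := by rw [Matrix.conjTranspose_nonsing_inv, hPH]
  have hinv : ∀ g : G, (mat ρ g)ᴴ * M₀ * mat ρ g = M₀ := by
    intro g
    have h1 := hForm_intertwine ρ g
    rw [Matrix.mul_assoc, ← hM₀] at *
    rw [h1, ← Matrix.mul_assoc, ← Matrix.conjTranspose_mul, mat_inv_mul, Matrix.conjTranspose_one,
      Matrix.one_mul]
  refine ⟨{ U := fun g => P * mat ρ g * P⁻¹
            map_one' := ?_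
            map_mul' := ?_
            unitary' := ?_
            faithful' := ?_ }⟩
  · rw [mat_one, Matrix.mul_one, hPi1]
  · intro a b
    rw [mat_mul]
    calc P * (mat ρ a * mat ρ b) * P⁻¹
        = P * mat ρ a * 1 * (mat ρ b * P⁻¹) := by
          simp only [Matrix.mul_assoc, Matrix.one_mul]
      _ = P * mat ρ a * (P⁻¹ * P) * (mat ρ b * P⁻¹) := by rw [hPi2]
      _ = P * mat ρ a * P⁻¹ * (P * mat ρ b * P⁻¹) := by simp only [Matrix.mul_assoc]
  · intro a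
    rw [Matrix.conjTranspose_mul, Matrix.conjTranspose_mul, hPiH, hPH]
    calc P⁻¹ * ((mat ρ a)ᴴ * P) * (P * mat ρ a * P⁻¹)
        = P⁻¹ * ((mat ρ a)ᴴ * (P * P) * mat ρ a) * P⁻¹ := by simp only [Matrix.mul_assoc]
      _ = P⁻¹ * (P * P) * P⁻¹ := by rw [hPP, hinv a]
      _ = (P⁻¹ * P) * (P * P⁻¹) := by simp only [Matrix.mul_assoc]
      _ = 1 := by rw [hPi1, hPi2, Matrix.one_mul]
  · intro a ha
    apply hfaith
    calc mat ρ a = (P⁻¹ * P) * mat ρ a * (P⁻¹ * P) := by rw [hPi2, Matrix.one_mul, Matrix.mul_one]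
      _ = P⁻¹ * (P * mat ρ a * P⁻¹) * P := by simp only [Matrix.mul_assoc]
      _ = 1 := by rw [ha, Matrix.mul_one, hPi2]

theorem main (χ : G → ℂ) (hχ : Cfsg.IsCharacter G χ)
    (hfaith : ∀ g : G, χ g = χ 1 → g = 1) (n : ℕ) (hn : Cfsg.charDegree χ = n) :
    ∃ A : Subgroup G, A.Normal ∧ (∀ x ∈ A, ∀ y ∈ A, x * y = y * x) ∧
      ∀ H : Subgroup G, (∀ x ∈ H, ∀ y ∈ H, x * y = y * x) →
        (A.subgroupOf H).index ≤ 12 ^ n := by
  classical
  obtain ⟨m, ρ, hρ⟩ := hχ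
  have hχ1 : χ 1 = (m : ℂ) := by
    rw [← hρ, ← trace_mat, mat_one, Matrix.trace_one, Fintype.card_fin]
  have hmn : m = n := by
    rw [← hn]
    unfold Cfsg.charDegree
    rw [hχ1]
    simp
  subst hmn
  have hf : ∀ g : G, mat ρ g = 1 → g = 1 := by
    intro g hg
    apply hfaith
    rw [hχ1, ← hρ, ← trace_mat, hg, Matrix.trace_one, Fintype.card_fin]
  obtain ⟨R⟩ := exists_urep ρ hf
  refine ⟨R.AA, R.AA_normal, R.AA_comm, ?_⟩
  intro H hH
  letI instC : CommGroup ↥H :=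
    { (inferInstance : Group ↥H) with
      mul_comm := fun a b => Subtype.ext (hH a.1 a.2 b.1 b.2) }
  haveI : Fintype ↥H := Fintype.ofFinite _
  exact index_bound (K := ↥H) (W := fun h : ↥H => R.U h.1) R.map_one'
    (fun a b => R.map_mul' a.1 b.1) (fun a => R.unitary' a.1) (R.AA.subgroupOf H)
    (fun k hk => Subgroup.mem_subgroupOf.2 (R.SS_subset_AA hk))

end Cfsg.Agent.Lib.Lead.Jordan3
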