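import Mathlib
import Cfsg.Prelude.Def_Blocks
import Cfsg.Agent.Lib.Lead.Jor4
import Cfsg.Agent.Lib.Lead.Jordan3
import Cfsg.Agent.Lib.Helper1.MaxAbelianNormal

/-! The explicit Jordan bound `n! * 12 ^ (n (π(n+1) + 1))`. -/

set_option autoImplicit false
open Cfsg
open Cfsg.Agent.Lib.Helper6
open Cfsg.Agent.Lib.Lead.Bli
open scoped ComplexConjugate

namespace Cfsg.Agent.Lib.Lead.Jor5

section
variable {G : Type*} [Group G]

theorem relIndex_ne_zero' [Finite G] (A H : Subgroup G) : A.relIndex H ≠ 0 := by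
  show (A.subgroupOf H).index ≠ 0
  exact Subgroup.index_ne_zero_of_finite

theorem factorization_index_le [Finite G] (A H : Subgroup G) [A.Normal] (q : ℕ)
    (hq : ¬ q ∣ H.index) :
    A.index.factorization q ≤ (A.relIndex H).factorization q := by
  have h1 : A.relIndex (H ⊔ A) * (H ⊔ A).index = A.index :=
    Subgroup.relIndex_mul_index le_sup_right
  rw [Subgroup.relIndex_sup_right] at h1
  have hnd : ¬ q ∣ (H ⊔ A).index :=
    fun hd => hq (dvd_trans hd (Subgroup.index_dvd_of_le le_sup_left))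
  have h0b : (H ⊔ A).index ≠ 0 := Subgroup.index_ne_zero_of_finite
  rw [← h1, Nat.factorization_mul (relIndex_ne_zero' A H) h0b, Finsupp.add_apply,
    Nat.factorization_eq_zero_of_not_dvd hnd, add_zero]

theorem le_prod_of_factorization {ι : Type*} (J : Finset ι) (a : ι → ℕ) (ha : ∀ j ∈ J, a j ≠ 0)
    (i : ℕ) (hi : i ≠ 0)
    (h : ∀ q : ℕ, q.Prime → ∃ j ∈ J, i.factorization q ≤ (a j).factorization q) :
    i ≤ ∏ j ∈ J, a j := by
  have hp0 : ∏ j ∈ J, a j ≠ 0 := Finset.prod_ne_zero_iff.2 ha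
  apply Nat.le_of_dvd (Nat.pos_of_ne_zero hp0)
  rw [← Nat.factorization_le_iff_dvd hi hp0, Nat.factorization_prod ha]
  intro q
  by_cases hq : q.Prime
  · obtain ⟨j, hj, hle⟩ := h q hq
    rw [Finsupp.finset_sum_apply]
    exact le_trans hle (Finset.single_le_sum (f := fun j => (a j).factorization q)
      (fun _ _ => Nat.zero_le _) hj)
  · rw [Nat.factorization_eq_zero_of_not_prime _ hq]; exact Nat.zero_le _

theorem sylow_relIndex_le [Finite G] {n : ℕ} {χ : G → ℂ} (hχ : IsCharacter G χ) (hf : Faith χ)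
    (hdeg : charDegree χ ≤ n) (A : Subgroup G)
    (hA : ∀ H : Subgroup G, (∀ x ∈ H, ∀ y ∈ H, x * y = y * x) → A.relIndex H ≤ 12 ^ n)
    (q : ℕ) [hq : Fact q.Prime] (P : Sylow q G) :
    A.relIndex (P : Subgroup G) ≤ q ^ (n.factorial.factorization q) * 12 ^ n := by
  classical
  obtain ⟨B, -, hBmax⟩ := Finite.exists_le_maximal (α := Subgroup (P : Subgroup G))
    (p := fun B : Subgroup (P : Subgroup G) => B.Normal ∧ ∀ a b : B, a * b = b * a) (a := ⊥)
    ⟨inferInstance, fun a b => Subsingleton.elim _ _⟩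
  obtain ⟨⟨hBn, hBab⟩, hBm⟩ := hBmax
  haveI := hBn
  haveI : IsMulCommutative B := ⟨⟨hBab⟩⟩
  haveI : Group.IsNilpotent (P : Subgroup G) := IsPGroup.isNilpotent P.isPGroup'
  have hcent : Subgroup.centralizer (B : Set (P : Subgroup G)) = B :=
    Cfsg.Agent.Lib.Helper1.centralizer_eq_of_maximal_abelian_normal B (fun M hMn hMc hle => by
      have hM : M.Normal ∧ ∀ a b : M, a * b = b * a := ⟨hMn, fun a b => mul_comm' a b⟩
      exact le_antisymm (hBm hM hle) hle)
  have hψ : IsCharacter (P : Subgroup G) (fun x : (P : Subgroup G) => χ x) :=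
    IsCharacter.restrict _ hχ
  have hψf : Faith (fun x : (P : Subgroup G) => χ x) := by
    intro x hx
    have h1 : χ (x : G) = χ 1 := by simpa using hx
    exact Subtype.ext (hf _ h1)
  have hψd : charDegree (fun x : (P : Subgroup G) => χ x) ≤ n := by
    have h1 : charDegree (fun x : (P : Subgroup G) => χ x) = charDegree χ := by
      unfold charDegree; simp
    rw [h1]; exact hdeg
  have hdvd := Jor4.index_centralizer_dvd_factorial hψ hψf hψd B hBn hBab
  rw [hcent] at hdvd
  obtain ⟨k, hk⟩ := IsPGroup.index P.isPGroup' B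
  have hkle : k ≤ n.factorial.factorization q :=
    (Nat.Prime.pow_dvd_iff_le_factorization hq.out (Nat.factorial_ne_zero n)).1 (hk ▸ hdvd)
  obtain ⟨B', hB'def⟩ : ∃ B' : Subgroup G, B' = B.map (P : Subgroup G).subtype := ⟨_, rfl⟩
  have hB'le : B' ≤ P := by
    intro x hx
    rw [hB'def] at hx
    obtain ⟨y, _, rfl⟩ := Subgroup.mem_map.1 hx
    exact y.2
  have hB'ab : ∀ x ∈ B', ∀ y ∈ B', x * y = y * x := by
    intro x hx y hy
    rw [hB'def] at hx hy
    obtain ⟨x', hx', rfl⟩ := Subgroup.mem_map.1 hx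
    obtain ⟨y', hy', rfl⟩ := Subgroup.mem_map.1 hy
    have h1 := hBab ⟨x', hx'⟩ ⟨y', hy'⟩
    have h2 := congrArg (fun z : B => ((z : (P : Subgroup G)) : G)) h1
    simpa using h2
  have hB'rel : B'.relIndex P = B.index := by
    unfold Subgroup.relIndex
    rw [hB'def, show (B.map (P : Subgroup G).subtype).subgroupOf (P : Subgroup G) = B from
      Subgroup.comap_map_eq_self_of_injective (Subgroup.subtype_injective _) B]
  have h1 : A.relIndex P = (A ⊓ P).relIndex P := (Subgroup.inf_relIndex_right A P).symm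
  have h2 : (A ⊓ (P : Subgroup G)).relIndex P ∣ (A ⊓ B').relIndex P :=
    Subgroup.relIndex_dvd_of_le_left (P : Subgroup G) (inf_le_inf_left A hB'le)
  have h3 : (A ⊓ B').relIndex B' * B'.relIndex P = (A ⊓ B').relIndex P :=
    Subgroup.relIndex_mul_relIndex _ _ _ inf_le_right hB'le
  have h4 : (A ⊓ B').relIndex B' = A.relIndex B' := Subgroup.inf_relIndex_right A B'
  have h5 := hA B' hB'ab
  calc A.relIndex P = (A ⊓ P).relIndex P := h1
    _ ≤ (A ⊓ B').relIndex P :=
        Nat.le_of_dvd (Nat.pos_of_ne_zero (relIndex_ne_zero' _ _)) h2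
    _ = A.relIndex B' * B.index := by rw [← h3, h4, hB'rel]
    _ ≤ 12 ^ n * q ^ (n.factorial.factorization q) := by
        rw [hk]; exact Nat.mul_le_mul h5 (Nat.pow_le_pow_right hq.out.pos hkle)
    _ = _ := mul_comm _ _

end

theorem jordan_bound {G : Type*} [Group G] [Finite G] (χ : G → ℂ) (hχ : IsCharacter G χ)
    (hfaith : ∀ g : G, χ g = χ 1 → g = 1) (n : ℕ) (hn : charDegree χ = n) :
    ∃ A : Subgroup G, A.Normal ∧ (∀ x ∈ A, ∀ y ∈ A, x * y = y * x) ∧
      A.index ≤ n.factorial * 12 ^ (n * (Nat.primeCounting (n + 1) + 1)) := by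
  classical
  obtain ⟨A, hAn, hAab, hA⟩ := Cfsg.Agent.Lib.Lead.Jordan3.main χ hχ hfaith n hn
  haveI := hAn
  obtain ⟨H0, hH0ab, hH01, hH02⟩ := blichfeldt χ hχ hfaith n hn
  refine ⟨A, hAn, hAab, ?_⟩
  have hA' : ∀ H : Subgroup G, (∀ x ∈ H, ∀ y ∈ H, x * y = y * x) → A.relIndex H ≤ 12 ^ n :=
    fun H h => hA H h
  obtain ⟨Pq, hPq⟩ : ∃ Pq : ℕ → Subgroup G, ∀ q, Pq q = ((Classical.arbitrary (Sylow q G)) : Subgroup G) :=
    ⟨_, fun q => rfl⟩
  obtain ⟨a, ha0, haq⟩ : ∃ a : ℕ → ℕ, a 0 = A.relIndex H0 ∧ ∀ q, q ≠ 0 → a q = A.relIndex (Pq q) :=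
    ⟨fun j => if j = 0 then A.relIndex H0 else A.relIndex (Pq j), by simp, fun q hq => by simp [hq]⟩
  have h0notin : (0 : ℕ) ∉ Nat.primesBelow (n + 2) := by
    intro h; exact Nat.not_prime_zero (Nat.mem_primesBelow.1 h).2
  have hane : ∀ j ∈ insert 0 (Nat.primesBelow (n + 2)), a j ≠ 0 := by
    intro j _
    by_cases hj : j = 0
    · rw [hj, ha0]; exact relIndex_ne_zero' _ _
    · rw [haq j hj]; exact relIndex_ne_zero' _ _
  have hle := le_prod_of_factorization (insert 0 (Nat.primesBelow (n + 2))) a hane A.index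
    Subgroup.index_ne_zero_of_finite (by
    intro q hq
    haveI : Fact q.Prime := ⟨hq⟩
    by_cases hqs : q ≤ n + 1
    · refine ⟨q, Finset.mem_insert_of_mem (Nat.mem_primesBelow.2 ⟨by omega, hq⟩), ?_⟩
      rw [haq q hq.ne_zero, hPq]
      exact factorization_index_le A _ q (Sylow.not_dvd_index (Classical.arbitrary (Sylow q G)))
    · refine ⟨0, Finset.mem_insert_self _ _, ?_⟩
      rw [ha0]
      exact factorization_index_le A H0 q (fun hd => hqs (hH02 q hq hd)))
  have hb0 : a 0 ≤ 12 ^ n := by rw [ha0]; exact hA' H0 hH0ab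
  have hbq : ∀ q ∈ Nat.primesBelow (n + 2), a q ≤ q ^ (n.factorial.factorization q) * 12 ^ n := by
    intro q hq
    have hqp := (Nat.mem_primesBelow.1 hq).2
    haveI : Fact q.Prime := ⟨hqp⟩
    rw [haq q hqp.ne_zero, hPq]
    exact sylow_relIndex_le hχ hfaith (le_of_eq hn) A hA' q (Classical.arbitrary (Sylow q G))
  have hprodfac : ∏ q ∈ Nat.primesBelow (n + 2), q ^ (n.factorial.factorization q)
      = n.factorial := by
    have hsub : n.factorial.primeFactors ⊆ Nat.primesBelow (n + 2) := by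
      intro q hq
      have hqp := Nat.prime_of_mem_primeFactors hq
      have hqd := Nat.dvd_of_mem_primeFactors hq
      have := (Nat.Prime.dvd_factorial hqp).1 hqd
      exact Nat.mem_primesBelow.2 ⟨by omega, hqp⟩
    rw [← Finset.prod_subset hsub (fun q _ hnot => by
      have h0 : n.factorial.factorization q = 0 := by
        by_contra h
        apply hnot
        rw [← Nat.support_factorization]
        exact Finsupp.mem_support_iff.2 h
      rw [h0, pow_zero])]
    have := Nat.prod_factorization_pow_eq_self (Nat.factorial_ne_zero n)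
    rw [Finsupp.prod, Nat.support_factorization] at this
    exact this
  have hcardp : (Nat.primesBelow (n + 2)).card = Nat.primeCounting (n + 1) := by
    rw [Nat.primesBelow_card_eq_primeCounting']; rfl
  calc A.index ≤ ∏ j ∈ insert 0 (Nat.primesBelow (n + 2)), a j := hle
    _ = a 0 * ∏ q ∈ Nat.primesBelow (n + 2), a q := Finset.prod_insert h0notin
    _ ≤ 12 ^ n * ∏ q ∈ Nat.primesBelow (n + 2), (q ^ (n.factorial.factorization q) * 12 ^ n) :=
        Nat.mul_le_mul hb0 (Finset.prod_le_prod' hbq)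
    _ = n.factorial * 12 ^ (n * (Nat.primeCounting (n + 1) + 1)) := by
        rw [Finset.prod_mul_distrib, hprodfac, Finset.prod_const, hcardp, ← pow_mul, mul_add,
          mul_one, pow_add]
        ring

end Cfsg.Agent.Lib.Lead.Jor5
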