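import Mathlib
import Cfsg.Prelude.Def_Characters
import Cfsg.Agent.S4445
import Cfsg.Agent.S0886
import Cfsg.Agent.Lib.Helper8.GlauL1
import Cfsg.Agent.Lib.Helper6.CliffordStab
import Cfsg.Agent.Lib.Helper6.Ramified
import Cfsg.Agent.Lib.Helper6.GaloisConj
import Cfsg.Agent.Lib.Helper6.IrrBasis
import Cfsg.Agent.Lib.Helper6.Constituent
import Cfsg.Agent.Lib.Lead.CycTI4

set_option autoImplicit false
open Cfsg

/-! Characters of `L = K ⋊ W₁` with `C_K(x) = W₂` for all `x ∈ W₁ - 1`. -/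

namespace Cfsg.Agent.Lib.Lead.KW

open Cfsg.Agent.Lib.Helper6
open scoped ComplexConjugate

section classAction
variable {L : Type*} [Group L] (K X : Subgroup L) [hK : K.Normal] (κ : ConjClasses K)

/-- conjugation action of `K` on one of its classes -/
def kAct : MulAction K {c : K // ConjClasses.mk c = κ} where
  smul k c := ⟨k * c.1 * k⁻¹,
    (ConjClasses.mk_eq_mk_iff_isConj.mpr (isConj_iff.mpr ⟨k⁻¹, by group⟩)).trans c.2⟩
  one_smul c := Subtype.ext (by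
    show (1 : K) * c.1 * (1 : K)⁻¹ = c.1
    group)
  mul_smul a b c := Subtype.ext (by
    show (a * b) * c.1 * (a * b)⁻¹ = a * (b * c.1 * b⁻¹) * a⁻¹
    group)

/-- conjugation action of `X` on an `X`-invariant class of `K` -/
def xAct (hκ : ∀ s ∈ X, ∀ g g' : K, (g' : L) = s * g * s⁻¹ →
    ConjClasses.mk g = κ → ConjClasses.mk g' = κ) :
    MulAction X {c : K // ConjClasses.mk c = κ} where
  smul s c := ⟨⟨(s : L) * (c.1 : K) * (s : L)⁻¹, hK.conj_mem _ c.1.2 s⟩,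
    hκ s s.2 c.1 _ rfl c.2⟩
  one_smul c := Subtype.ext (Subtype.ext (by
    show ((1 : X) : L) * ((c.1 : K) : L) * ((1 : X) : L)⁻¹ = ((c.1 : K) : L)
    rw [Subgroup.coe_one]
    group))
  mul_smul a b c := Subtype.ext (Subtype.ext (by
    show ((a * b : X) : L) * ((c.1 : K) : L) * ((a * b : X) : L)⁻¹
      = (a : L) * ((b : L) * ((c.1 : K) : L) * (b : L)⁻¹) * (a : L)⁻¹
    rw [Subgroup.coe_mul]
    group))

/-- the conjugation homomorphism -/
def phiX : X →* MulAut K := (MulAut.conjNormal (H := K)).comp X.subtype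

theorem phiX_apply (s : X) (k : K) : ((phiX K X s k : K) : L) = (s : L) * k * (s : L)⁻¹ := by
  unfold phiX
  rw [MonoidHom.comp_apply, MulAut.conjNormal_apply]
  rfl

variable [Finite L]

theorem gl_exists (hcop : (Nat.card K).Coprime (Nat.card X)) (hsolv : Group.IsSolvable X)
    (hκ : ∀ s ∈ X, ∀ g g' : K, (g' : L) = s * g * s⁻¹ →
      ConjClasses.mk g = κ → ConjClasses.mk g' = κ) :
    ∃ c : K, ConjClasses.mk c = κ ∧ ∀ s ∈ X, s * (c : L) * s⁻¹ = c := by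
  letI := kAct K κ
  letI := xAct K X κ hκ
  haveI : Nonempty {c : K // ConjClasses.mk c = κ} := by
    obtain ⟨a, ha⟩ := ConjClasses.exists_rep κ
    exact ⟨⟨a, ha⟩⟩
  have htrans : MulAction.IsPretransitive K {c : K // ConjClasses.mk c = κ} := by
    constructor
    intro c c'
    have h1 : ConjClasses.mk c.1 = ConjClasses.mk c'.1 := by rw [c.2, c'.2]
    obtain ⟨k, hk⟩ := isConj_iff.mp (ConjClasses.mk_eq_mk_iff_isConj.mp h1)
    exact ⟨k, Subtype.ext hk⟩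
  have hcompat : ∀ (s : X) (k : K) (x : {c : K // ConjClasses.mk c = κ}),
      s • (k • x) = (phiX K X s k) • (s • x) := by
    intro s k x
    apply Subtype.ext
    apply Subtype.ext
    show (s : L) * ((k * x.1 * k⁻¹ : K) : L) * (s : L)⁻¹
      = ((phiX K X s k * (⟨(s : L) * (x.1 : K) * (s : L)⁻¹, hK.conj_mem _ x.1.2 s⟩ : K)
          * (phiX K X s k)⁻¹ : K) : L)
    simp only [Subgroup.coe_mul, Subgroup.coe_inv, phiX_apply]
    group
  obtain ⟨c, hc⟩ := Cfsg.Agent.Lib.Helper8.GlauL.exists_fixed (phiX K X) hcompat hcop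
    (Or.inr hsolv) htrans
  refine ⟨c.1, c.2, fun s hs => ?_⟩
  have := congrArg (fun z : {c : K // ConjClasses.mk c = κ} => ((z.1 : K) : L)) (hc ⟨s, hs⟩)
  exact this

theorem gl_conj (hcop : (Nat.card K).Coprime (Nat.card X)) (hsolv : Group.IsSolvable X)
    (hκ : ∀ s ∈ X, ∀ g g' : K, (g' : L) = s * g * s⁻¹ →
      ConjClasses.mk g = κ → ConjClasses.mk g' = κ)
    (c c' : K) (hc : ConjClasses.mk c = κ) (hc' : ConjClasses.mk c' = κ)
    (hfix : ∀ s ∈ X, s * (c : L) * s⁻¹ = c) (hfix' : ∀ s ∈ X, s * (c' : L) * s⁻¹ = c') :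
    ∃ k : K, (∀ s ∈ X, s * (k : L) * s⁻¹ = k) ∧ k * c * k⁻¹ = c' := by
  letI := kAct K κ
  letI := xAct K X κ hκ
  have htrans : MulAction.IsPretransitive K {c : K // ConjClasses.mk c = κ} := by
    constructor
    intro c c'
    have h1 : ConjClasses.mk c.1 = ConjClasses.mk c'.1 := by rw [c.2, c'.2]
    obtain ⟨k, hk⟩ := isConj_iff.mp (ConjClasses.mk_eq_mk_iff_isConj.mp h1)
    exact ⟨k, Subtype.ext hk⟩
  have hcompat : ∀ (s : X) (k : K) (x : {c : K // ConjClasses.mk c = κ}),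
      s • (k • x) = (phiX K X s k) • (s • x) := by
    intro s k x
    apply Subtype.ext
    apply Subtype.ext
    show (s : L) * ((k * x.1 * k⁻¹ : K) : L) * (s : L)⁻¹
      = ((phiX K X s k * (⟨(s : L) * (x.1 : K) * (s : L)⁻¹, hK.conj_mem _ x.1.2 s⟩ : K)
          * (phiX K X s k)⁻¹ : K) : L)
    simp only [Subgroup.coe_mul, Subgroup.coe_inv, phiX_apply]
    group
  have hx : ∀ s : X, s • (⟨c, hc⟩ : {c : K // ConjClasses.mk c = κ}) = ⟨c, hc⟩ := by
    intro s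
    apply Subtype.ext
    apply Subtype.ext
    exact hfix s s.2
  have hy : ∀ s : X, s • (⟨c', hc'⟩ : {c : K // ConjClasses.mk c = κ}) = ⟨c', hc'⟩ := by
    intro s
    apply Subtype.ext
    apply Subtype.ext
    exact hfix' s s.2
  obtain ⟨k, hk1, hk2⟩ := Cfsg.Agent.Lib.Helper8.GlauL.fixed_conj (phiX K X) hcompat hcop
    (Or.inr hsolv) htrans ⟨c, hc⟩ ⟨c', hc'⟩ hx hy
  refine ⟨k, fun s hs => ?_, ?_⟩
  · have h1 := hk1 ⟨s, hs⟩
    have h2 := congrArg (fun z : K => (z : L)) h1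
    simp only [phiX_apply] at h2
    exact h2
  · exact congrArg Subtype.val hk2

end classAction

section main
variable {L : Type*} [Group L] [Fintype L] (K W₁ W₂ : Subgroup L) [hK : K.Normal]

theorem card_inv_classes (hW₂K : W₂ ≤ K) (hW₂c : IsCyclic W₂)
    (hcopK : (Nat.card K).Coprime (Nat.card W₁)) (hW₁c : IsCyclic W₁)
    (hC : ∀ x ∈ W₁, x ≠ 1 → K ⊓ Subgroup.centralizer ({x} : Set L) = W₂)
    (X : Subgroup L) (hXW : X ≤ W₁) (hX : X ≠ ⊥) :
    Nat.card {κ : ConjClasses K // ∀ s ∈ X, ∀ g g' : K, (g' : L) = s * g * s⁻¹ →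
      ConjClasses.mk g = κ → ConjClasses.mk g' = κ} = Nat.card W₂ := by
  classical
  have hcopX : (Nat.card K).Coprime (Nat.card X) :=
    Nat.Coprime.coprime_dvd_right (Subgroup.card_dvd_of_le hXW) hcopK
  have hsolvX : Group.IsSolvable X := by
    apply Group.isSolvable_of_comm
    intro a b
    apply Subtype.ext
    have h := congrArg Subtype.val
      (Cfsg.Agent.Lib.Lead.CycTI.W_comm hW₁c ⟨a, hXW a.2⟩ ⟨b, hXW b.2⟩)
    exact h
  obtain ⟨⟨s₀, hs₀X⟩, hs₀ne⟩ := (Subgroup.ne_bot_iff_exists_ne_one).mp hX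
  have hs₀1 : s₀ ≠ 1 := fun h => hs₀ne (Subtype.ext h)
  have hfixW₂ : ∀ c : K, (∀ s ∈ X, s * (c : L) * s⁻¹ = c) → (c : L) ∈ W₂ := by
    intro c hc
    rw [← hC s₀ (hXW hs₀X) hs₀1]
    refine Subgroup.mem_inf.mpr ⟨c.2, Subgroup.mem_centralizer_iff.mpr ?_⟩
    intro h hh
    rw [Set.mem_singleton_iff] at hh
    subst hh
    exact mul_inv_eq_iff_eq_mul.mp (hc h hs₀X)
  have hW₂fix : ∀ w ∈ W₂, ∀ s ∈ X, s * w * s⁻¹ = w := by
    intro w hw s hs
    by_cases hs1 : s = 1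
    · rw [hs1]; group
    · have h1 : w ∈ K ⊓ Subgroup.centralizer ({s} : Set L) := by
        rw [hC s (hXW hs) hs1]; exact hw
      have h2 := Subgroup.mem_centralizer_iff.mp (Subgroup.mem_inf.mp h1).2 s
        (Set.mem_singleton s)
      rw [h2, mul_inv_cancel_right]
  have hinvw : ∀ w : W₂, ∀ s ∈ X, ∀ g g' : K, (g' : L) = s * g * s⁻¹ →
      ConjClasses.mk g = ConjClasses.mk (⟨w, hW₂K w.2⟩ : K) →
      ConjClasses.mk g' = ConjClasses.mk (⟨w, hW₂K w.2⟩ : K) := by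
    intro w s hs g g' hg' hg
    obtain ⟨c, hc⟩ := isConj_iff.mp (ConjClasses.mk_eq_mk_iff_isConj.mp hg)
    apply ConjClasses.mk_eq_mk_iff_isConj.mpr
    apply isConj_iff.mpr
    refine ⟨⟨s * c * s⁻¹, hK.conj_mem _ c.2 s⟩, Subtype.ext ?_⟩
    have hc' : (c : L) * g * (c : L)⁻¹ = w := by
      have := congrArg Subtype.val hc
      simpa only [Subgroup.coe_mul, Subgroup.coe_inv] using this
    simp only [Subgroup.coe_mul, Subgroup.coe_inv]
    rw [hg']
    calc s * (c : L) * s⁻¹ * (s * (g : L) * s⁻¹) * (s * (c : L) * s⁻¹)⁻¹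
        = s * ((c : L) * g * (c : L)⁻¹) * s⁻¹ := by group
      _ = w := by rw [hc', hW₂fix w w.2 s hs]
  let f : W₂ → {κ : ConjClasses K // ∀ s ∈ X, ∀ g g' : K, (g' : L) = s * g * s⁻¹ →
      ConjClasses.mk g = κ → ConjClasses.mk g' = κ} :=
    fun w => ⟨ConjClasses.mk ⟨w, hW₂K w.2⟩, hinvw w⟩
  have hf : Function.Bijective f := by
    constructor
    · intro w w' h
      have h1 : ConjClasses.mk (⟨w, hW₂K w.2⟩ : K) = ConjClasses.mk (⟨w', hW₂K w'.2⟩ : K) :=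
        congrArg Subtype.val h
      obtain ⟨k, hk1, hk2⟩ := gl_conj K X (ConjClasses.mk (⟨w, hW₂K w.2⟩ : K)) hcopX hsolvX
        (hinvw w) ⟨w, hW₂K w.2⟩ ⟨w', hW₂K w'.2⟩ rfl h1.symm
        (fun s hs => hW₂fix w w.2 s hs) (fun s hs => hW₂fix w' w'.2 s hs)
      have hkW : (k : L) ∈ W₂ := hfixW₂ k hk1
      have hkw : (k : L) * w * (k : L)⁻¹ = w' := by
        have := congrArg Subtype.val hk2
        simpa only [Subgroup.coe_mul, Subgroup.coe_inv] using this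
      have hcomm : (k : L) * w = w * k :=
        congrArg Subtype.val (Cfsg.Agent.Lib.Lead.CycTI.W_comm hW₂c ⟨k, hkW⟩ w)
      apply Subtype.ext
      rw [← hkw, hcomm, mul_inv_cancel_right]
    · rintro ⟨κ, hκ⟩
      obtain ⟨c, hcκ, hcfix⟩ := gl_exists K X κ hcopX hsolvX hκ
      refine ⟨⟨c, hfixW₂ c hcfix⟩, Subtype.ext ?_⟩
      exact hcκ
  exact (Nat.card_congr (Equiv.ofBijective f hf)).symm

theorem inv_iff (θ : K → ℂ) (X : Subgroup L) :
    (∀ x ∈ X, (fun k : K => θ ⟨x * k * x⁻¹, hK.conj_mem (k : L) k.2 x⟩) = θ) ↔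
    (∀ s ∈ X, ∀ g g' : K, (g' : L) = s * g * s⁻¹ → θ g' = θ g) := by
  constructor
  · intro h s hs g g' hg'
    have h1 := congrFun (h s hs) g
    have h2 : g' = ⟨s * g * s⁻¹, hK.conj_mem (g : L) g.2 s⟩ := Subtype.ext hg'
    rw [h2]
    exact h1
  · intro h x hx
    funext k
    exact h x hx k ⟨x * k * x⁻¹, hK.conj_mem (k : L) k.2 x⟩ rfl

theorem card_inv_irr (hW₂K : W₂ ≤ K) (hW₂c : IsCyclic W₂)
    (hcopK : (Nat.card K).Coprime (Nat.card W₁)) (hW₁c : IsCyclic W₁)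
    (hC : ∀ x ∈ W₁, x ≠ 1 → K ⊓ Subgroup.centralizer ({x} : Set L) = W₂)
    (X : Subgroup L) (hXW : X ≤ W₁) (hX : X ≠ ⊥) :
    Nat.card {χ : Cfsg.IrrCharacter K // ∀ s ∈ X, ∀ g g' : K, (g' : L) = s * g * s⁻¹ →
      (χ : K → ℂ) g' = (χ : K → ℂ) g} = Nat.card W₂ := by
  classical
  haveI : Fintype K := Fintype.ofFinite _
  have hnorm : ∀ s ∈ X, ∀ g ∈ K, s * g * s⁻¹ ∈ K := fun s _ g hg => hK.conj_mem g hg s
  have hcopX : (Nat.card K).Coprime (Nat.card X) :=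
    Nat.Coprime.coprime_dvd_right (Subgroup.card_dvd_of_le hXW) hcopK
  have hsolvX : Group.IsSolvable X := by
    apply Group.isSolvable_of_comm
    intro a b
    apply Subtype.ext
    have h := congrArg Subtype.val
      (Cfsg.Agent.Lib.Lead.CycTI.W_comm hW₁c ⟨a, hXW a.2⟩ ⟨b, hXW b.2⟩)
    exact h
  rw [Cfsg.Agent.S4445.result K X hnorm hcopX hsolvX]
  exact card_inv_classes K W₁ W₂ hW₂K hW₂c hcopK hW₁c hC X hXW hX

end main

end Cfsg.Agent.Lib.Lead.KW
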