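import Mathlib
import Cfsg.Agent.Lib.Lead.KW1

set_option autoImplicit false
open Cfsg

namespace Cfsg.Agent.Lib.Lead.KW

open Cfsg.Agent.Lib.Helper6
open scoped ComplexConjugate Pointwise

section main
variable {L : Type*} [Group L] [Fintype L] (K W₁ W₂ : Subgroup L) [hK : K.Normal]

theorem s1513 (hKW₁ : K ⊓ W₁ = ⊥) (hKW₁' : K ⊔ W₁ = ⊤) (hW₁ : W₁ ≠ ⊥) (hW₁c : IsCyclic W₁)
    (hHall : Nat.Coprime (Nat.card W₁) W₁.index) (hW₂c : IsCyclic W₂) (hW₂K : W₂ ≤ K)
    (hC : ∀ x ∈ W₁, x ≠ 1 → K ⊓ Subgroup.centralizer ({x} : Set L) = W₂) :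
    (∀ θ : K → ℂ, Cfsg.IsIrrCharacter K θ →
      (∃ x ∈ W₁, (fun k : K => θ ⟨x * k * x⁻¹, hK.conj_mem (k : L) k.2 x⟩) ≠ θ) →
      Cfsg.IsIrrCharacter L (Cfsg.indFun K θ)) ∧
    Nat.card {θ : Cfsg.IrrCharacter K // ∀ x ∈ W₁,
      (fun k : K => (θ : K → ℂ) ⟨x * k * x⁻¹, hK.conj_mem (k : L) k.2 x⟩) = θ} = Nat.card W₂ ∧
    (∀ θ : K → ℂ, Cfsg.IsIrrCharacter K θ →
      (∀ x ∈ W₁, (fun k : K => θ ⟨x * k * x⁻¹, hK.conj_mem (k : L) k.2 x⟩) = θ) →
      ∃ C : Finset (L → ℂ), C.card = Nat.card W₁ ∧ (∀ μ ∈ C, Cfsg.IsIrrCharacter L μ) ∧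
        Cfsg.indFun K θ = ∑ μ ∈ C, μ) := by
  classical
  haveI : Fintype K := Fintype.ofFinite _
  have hmul : (K : Set L) * (W₁ : Set L) = Set.univ := by
    rw [← Subgroup.normal_mul, hKW₁', Subgroup.coe_top]
  have hcompl : Subgroup.IsComplement' K W₁ :=
    Subgroup.isComplement'_of_disjoint_and_mul_eq_univ (disjoint_iff.mpr hKW₁) hmul
  have hidx : W₁.index = Nat.card K := hcompl.index_eq_card
  have hidxK : K.index = Nat.card W₁ := hcompl.symm.index_eq_card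
  have hcopK : (Nat.card K).Coprime (Nat.card W₁) := by
    rw [← hidx]; exact hHall.symm
  have hdecomp : ∀ l : L, ∃ k ∈ K, ∃ w ∈ W₁, k * w = l := by
    intro l
    have : l ∈ (K : Set L) * (W₁ : Set L) := by rw [hmul]; trivial
    obtain ⟨k, hk, w, hw, h⟩ := Set.mem_mul.mp this
    exact ⟨k, hk, w, hw, h⟩
  have stabSub : ∀ θ : K → ℂ, ∃ T : Subgroup L, ∀ g : L, g ∈ T ↔ Cfsg.Agent.Lib.Helper6.conjFun K hK θ g = θ := by
    intro θ
    refine ⟨{ carrier := {g | Cfsg.Agent.Lib.Helper6.conjFun K hK θ g = θ}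
              one_mem' := conjFun_one K hK θ
              mul_mem' := ?_
              inv_mem' := ?_ }, fun g => Iff.rfl⟩
    · intro a b ha hb
      have ha' : Cfsg.Agent.Lib.Helper6.conjFun K hK θ a = θ := ha
      have hb' : Cfsg.Agent.Lib.Helper6.conjFun K hK θ b = θ := hb
      show Cfsg.Agent.Lib.Helper6.conjFun K hK θ (a * b) = θ
      rw [← conjFun_conjFun, ha', hb']
    · intro a ha
      have ha' : Cfsg.Agent.Lib.Helper6.conjFun K hK θ a = θ := ha
      show Cfsg.Agent.Lib.Helper6.conjFun K hK θ a⁻¹ = θ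
      have h1 : Cfsg.Agent.Lib.Helper6.conjFun K hK (Cfsg.Agent.Lib.Helper6.conjFun K hK θ a) a⁻¹ = Cfsg.Agent.Lib.Helper6.conjFun K hK θ (a * a⁻¹) :=
        conjFun_conjFun K hK θ a a⁻¹
      rw [ha', mul_inv_cancel, conjFun_one] at h1
      exact h1
  refine ⟨?_, ?_, ?_⟩
  · intro θ hθ hex
    obtain ⟨x₀, hx₀, hmove⟩ := hex
    have hθcf := IsIrrCharacter.isClassFunction hθ
    obtain ⟨T, hT⟩ := stabSub θ
    have hstab : ∀ g : L, Cfsg.Agent.Lib.Helper6.conjFun K hK θ g = θ → g ∈ K := by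
      intro g hg
      obtain ⟨k, hk, w, hw, rfl⟩ := hdecomp g
      have hkT : k ∈ T := (hT k).mpr (conjFun_of_mem K hK hθcf hk)
      have hwT : w ∈ T := by
        have h1 : k⁻¹ * (k * w) ∈ T := T.mul_mem (T.inv_mem hkT) ((hT _).mpr hg)
        rw [inv_mul_cancel_left] at h1
        exact h1
      by_cases hw1 : w = 1
      · rw [hw1, mul_one]; exact hk
      · exfalso
        have hXW : Subgroup.zpowers w ≤ W₁ := Subgroup.zpowers_le.mpr hw
        have hXne : Subgroup.zpowers w ≠ ⊥ := by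
          rw [Ne, Subgroup.zpowers_eq_bot]; exact hw1
        have hXT : Subgroup.zpowers w ≤ T := Subgroup.zpowers_le.mpr hwT
        have hA1 : Set.ncard {χ : Cfsg.IrrCharacter K | ∀ s ∈ W₁, ∀ g g' : K,
            (g' : L) = s * g * s⁻¹ → (χ : K → ℂ) g' = (χ : K → ℂ) g} = Nat.card W₂ := by
          rw [← Nat.card_coe_set_eq]
          exact card_inv_irr K W₁ W₂ hW₂K hW₂c hcopK hW₁c hC W₁ le_rfl hW₁
        have hA2 : Set.ncard {χ : Cfsg.IrrCharacter K | ∀ s ∈ Subgroup.zpowers w, ∀ g g' : K,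
            (g' : L) = s * g * s⁻¹ → (χ : K → ℂ) g' = (χ : K → ℂ) g} = Nat.card W₂ := by
          rw [← Nat.card_coe_set_eq]
          exact card_inv_irr K W₁ W₂ hW₂K hW₂c hcopK hW₁c hC (Subgroup.zpowers w) hXW hXne
        have hsub : {χ : Cfsg.IrrCharacter K | ∀ s ∈ W₁, ∀ g g' : K,
            (g' : L) = s * g * s⁻¹ → (χ : K → ℂ) g' = (χ : K → ℂ) g} ⊆
            {χ : Cfsg.IrrCharacter K | ∀ s ∈ Subgroup.zpowers w, ∀ g g' : K,
            (g' : L) = s * g * s⁻¹ → (χ : K → ℂ) g' = (χ : K → ℂ) g} :=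
          fun χ hχ s hs => hχ s (hXW hs)
        have heq := Set.eq_of_subset_of_ncard_le hsub (by rw [hA1, hA2]) (Set.toFinite _)
        have hmem : (⟨θ, hθ⟩ : Cfsg.IrrCharacter K) ∈
            {χ : Cfsg.IrrCharacter K | ∀ s ∈ Subgroup.zpowers w, ∀ g g' : K,
            (g' : L) = s * g * s⁻¹ → (χ : K → ℂ) g' = (χ : K → ℂ) g} :=
          (inv_iff K θ (Subgroup.zpowers w)).mp (fun x hx => (hT x).mp (hXT hx))
        rw [← heq] at hmem
        have h3 := (inv_iff K θ W₁).mpr hmem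
        exact hmove (h3 x₀ hx₀)
    have hθθ : Cfsg.classInner θ θ ≠ 0 := by
      have h1 := classInner_isIrrCharacter hθ hθ
      rw [if_pos rfl] at h1
      rw [h1]
      exact one_ne_zero
    exact indFun_isIrrCharacter_of_stab K hK K le_rfl ⟨θ, hθ⟩ hstab ⟨θ, hθ⟩ hθθ
  · have e : {θ : Cfsg.IrrCharacter K // ∀ x ∈ W₁,
        (fun k : K => (θ : K → ℂ) ⟨x * k * x⁻¹, hK.conj_mem (k : L) k.2 x⟩) = θ} ≃
        {χ : Cfsg.IrrCharacter K // ∀ s ∈ W₁, ∀ g g' : K, (g' : L) = s * g * s⁻¹ →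
          (χ : K → ℂ) g' = (χ : K → ℂ) g} :=
      Equiv.subtypeEquivRight (fun θ => inv_iff K (θ : K → ℂ) W₁)
    rw [Nat.card_congr e]
    exact card_inv_irr K W₁ W₂ hW₂K hW₂c hcopK hW₁c hC W₁ le_rfl hW₁
  · intro θ hθ hinv
    have hθcf := IsIrrCharacter.isClassFunction hθ
    obtain ⟨T, hT⟩ := stabSub θ
    have hTtop : T = ⊤ := by
      rw [eq_top_iff, ← hKW₁']
      apply sup_le
      · intro k hk; exact (hT k).mpr (conjFun_of_mem K hK hθcf hk)
      · intro w hw; exact (hT w).mpr (hinv w hw)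
    have hinvT : ∀ g : L, Cfsg.Agent.Lib.Helper6.conjFun K hK θ g = θ := by
      intro g
      apply (hT g).mp
      rw [hTtop]; trivial
    have hinvL : ∀ (g : L) (n : K), θ ⟨g * n * g⁻¹, hK.conj_mem (n : L) n.2 g⟩ = θ n := by
      intro g n
      exact congrFun (hinvT g) n
    have hcycQ : IsCyclic (L ⧸ K) := by
      haveI := hW₁c
      let f : W₁ →* L ⧸ K := (QuotientGroup.mk' K).comp W₁.subtype
      apply isCyclic_of_surjective f
      intro q
      obtain ⟨l, rfl⟩ := QuotientGroup.mk_surjective q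
      obtain ⟨k, hk, w, hw, rfl⟩ := hdecomp l
      refine ⟨⟨w, hw⟩, ?_⟩
      show (QuotientGroup.mk w : L ⧸ K) = QuotientGroup.mk (k * w)
      rw [QuotientGroup.mk_mul, (QuotientGroup.eq_one_iff k).mpr hk, one_mul]
    obtain ⟨χ, hχ, hext⟩ := Cfsg.Agent.S0886.result K hcycQ θ hθ hinvL
    have hχch := IsIrrCharacter.isCharacter hχ
    have hQcomm : ∀ a b : L ⧸ K, a * b = b * a := by
      haveI := hcycQ
      intro a b
      letI := IsCyclic.commGroup (α := L ⧸ K)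
      exact mul_comm a b
    letI : Fintype ((L ⧸ K) →* ℂˣ) := Fintype.ofFinite _
    have hDcard : Fintype.card ((L ⧸ K) →* ℂˣ) = Nat.card W₁ := by
      rw [← Nat.card_eq_fintype_card, Cfsg.Agent.Lib.Lead.CycTI.card_dual hQcomm, ← hidxK]
      rfl
    let μ : ((L ⧸ K) →* ℂˣ) → (L → ℂ) :=
      fun ν l => ((ν (QuotientGroup.mk l) : ℂˣ) : ℂ) * χ l
    have hμirr : ∀ ν, Cfsg.IsIrrCharacter L (μ ν) := by
      intro ν
      let lam : L →* ℂˣ := ν.comp (QuotientGroup.mk' K)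
      have hlam : Cfsg.IsIrrCharacter L (fun l => ((lam l : ℂˣ) : ℂ)) := isIrrCharacter_of_hom lam
      have hprod : Cfsg.IsCharacter L ((fun l => ((lam l : ℂˣ) : ℂ)) * χ) :=
        IsCharacter.mul (IsIrrCharacter.isCharacter hlam) hχch
      have hμeq : μ ν = (fun l => ((lam l : ℂˣ) : ℂ)) * χ := rfl
      rw [hμeq]
      apply IsGeneralizedCharacter.isIrrCharacter_of_norm_one
        (IsCharacter.isGeneralizedCharacter hprod)
      · have h1 := classInner_isIrrCharacter hχ hχ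
        rw [if_pos rfl] at h1
        rw [← h1]
        unfold Cfsg.classInner
        congr 1
        apply Finset.sum_congr rfl
        intro l _
        show ((lam l : ℂˣ) : ℂ) * χ l * (starRingEnd ℂ) (((lam l : ℂˣ) : ℂ) * χ l)
          = χ l * (starRingEnd ℂ) (χ l)
        rw [map_mul, Cfsg.Agent.Lib.Lead.CycTI.unit_conj lam l]
        have h2 : ((lam l : ℂˣ) : ℂ) * (((lam l)⁻¹ : ℂˣ) : ℂ) = 1 := by
          rw [← Units.val_mul, mul_inv_cancel, Units.val_one]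
        calc ((lam l : ℂˣ) : ℂ) * χ l * ((((lam l)⁻¹ : ℂˣ) : ℂ) * (starRingEnd ℂ) (χ l))
            = (((lam l : ℂˣ) : ℂ) * (((lam l)⁻¹ : ℂˣ) : ℂ))
                * (χ l * (starRingEnd ℂ) (χ l)) := by ring
          _ = χ l * (starRingEnd ℂ) (χ l) := by rw [h2, one_mul]
      · show 0 < (((lam 1 : ℂˣ) : ℂ) * χ 1).re
        rw [map_one, Units.val_one, one_mul, IsCharacter.apply_one_eq_charDegree hχch]
        simp only [Complex.natCast_re]
        exact_mod_cast IsIrrCharacter.charDegree_pos hχ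
    have hsum : Cfsg.indFun K θ = ∑ ν : (L ⧸ K) →* ℂˣ, μ ν := by
      funext l
      rw [Finset.sum_apply]
      show _ = ∑ ν : (L ⧸ K) →* ℂˣ, ((ν (QuotientGroup.mk l) : ℂˣ) : ℂ) * χ l
      rw [← Finset.sum_mul]
      let ev : ((L ⧸ K) →* ℂˣ) →* ℂ :=
        (Units.coeHom ℂ).comp (MonoidHom.eval (QuotientGroup.mk l : L ⧸ K))
      have hev : ∀ ν, ev ν = ((ν (QuotientGroup.mk l) : ℂˣ) : ℂ) := fun _ => rfl
      have hs := sum_hom_units ev
      simp only [hev] at hs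
      rw [hs]
      by_cases hl : l ∈ K
      · have h1 : ev = 1 := by
          refine MonoidHom.ext fun ν => ?_
          rw [hev, (QuotientGroup.eq_one_iff l).mpr hl, map_one]
          rfl
        rw [if_pos h1, hDcard]
        have h2 : Cfsg.indFun K θ l = (Nat.card W₁ : ℂ) * θ ⟨l, hl⟩ := by
          have h3 : Cfsg.indFun K θ l = _ := indFun_apply_of_normal K hK θ ⟨l, hl⟩
          have h4 : ∀ x : L, Cfsg.Agent.Lib.Helper6.conjFun K hK θ x ⟨l, hl⟩ = θ ⟨l, hl⟩ :=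
            fun x => congrFun (hinvT x) ⟨l, hl⟩
          rw [Finset.sum_congr rfl (fun x _ => h4 x), Finset.sum_const, Finset.card_univ,
            nsmul_eq_mul] at h3
          have h5 : (Fintype.card L : ℂ) = (Nat.card W₁ : ℂ) * (Nat.card K : ℂ) := by
            rw [← Nat.card_eq_fintype_card, ← hidxK, ← Nat.cast_mul, Subgroup.index_mul_card]
          have hK0 : (Nat.card K : ℂ) ≠ 0 := by exact_mod_cast Nat.card_pos.ne'
          rw [h5] at h3
          rw [h3]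
          field_simp
        rw [h2, ← hext ⟨l, hl⟩]
      · have h1 : ev ≠ 1 := by
          intro h
          have hq : (QuotientGroup.mk l : L ⧸ K) ∉ (⊥ : Subgroup (L ⧸ K)) := by
            rw [Subgroup.mem_bot, QuotientGroup.eq_one_iff]
            exact hl
          obtain ⟨φ, _, hne⟩ := Cfsg.Agent.Lib.Lead.CycTI.exists_ann_ne_one hQcomm ⊥ hq
          have h2 := DFunLike.congr_fun h φ
          rw [hev] at h2
          apply hne
          exact Units.ext h2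
        rw [if_neg h1, Nat.cast_zero, zero_mul]
        exact indFun_apply_of_not_mem K hK θ hl
    have hnormInd : Cfsg.classInner (Cfsg.indFun K θ) (Cfsg.indFun K θ) = (Nat.card W₁ : ℂ) := by
      rw [classInner_indFun_self_of_invariant K hK hθ hinvT, hidxK]
    have hinj : Function.Injective μ := by
      intro ν₀ ν₁ h01
      by_contra hne
      have hexp : Cfsg.classInner (∑ ν : (L ⧸ K) →* ℂˣ, μ ν) (∑ ν : (L ⧸ K) →* ℂˣ, μ ν)
          = ∑ ν : (L ⧸ K) →* ℂˣ, ∑ ν' : (L ⧸ K) →* ℂˣ,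
              (if μ ν = μ ν' then (1 : ℂ) else 0) := by
        rw [classInner_sum_left]
        apply Finset.sum_congr rfl
        intro ν _
        rw [classInner_sum_right]
        apply Finset.sum_congr rfl
        intro ν' _
        exact classInner_isIrrCharacter (hμirr ν) (hμirr ν')
      have hcount : ∑ ν : (L ⧸ K) →* ℂˣ, ∑ ν' : (L ⧸ K) →* ℂˣ,
          (if μ ν = μ ν' then (1 : ℕ) else 0) = Fintype.card ((L ⧸ K) →* ℂˣ) := by
        have h := hexp
        rw [← hsum, hnormInd, ← hDcard] at h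
        have h2 : (∑ ν : (L ⧸ K) →* ℂˣ, ∑ ν' : (L ⧸ K) →* ℂˣ,
            (if μ ν = μ ν' then (1 : ℂ) else 0))
            = ((∑ ν : (L ⧸ K) →* ℂˣ, ∑ ν' : (L ⧸ K) →* ℂˣ,
                (if μ ν = μ ν' then (1 : ℕ) else 0) : ℕ) : ℂ) := by
          simp only [Nat.cast_sum, Nat.cast_ite, Nat.cast_one, Nat.cast_zero]
        rw [h2] at h
        exact_mod_cast h.symm
      have hge : ∀ ν : (L ⧸ K) →* ℂˣ,
          1 ≤ ∑ ν' : (L ⧸ K) →* ℂˣ, (if μ ν = μ ν' then (1 : ℕ) else 0) := by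
        intro ν
        calc 1 = (if μ ν = μ ν then (1 : ℕ) else 0) := by rw [if_pos rfl]
          _ ≤ _ := Finset.single_le_sum
              (f := fun ν' : (L ⧸ K) →* ℂˣ => if μ ν = μ ν' then (1 : ℕ) else 0)
              (fun _ _ => Nat.zero_le _) (Finset.mem_univ ν)
      have hge2 : 2 ≤ ∑ ν' : (L ⧸ K) →* ℂˣ, (if μ ν₀ = μ ν' then (1 : ℕ) else 0) := by
        calc 2 = ∑ ν' ∈ ({ν₀, ν₁} : Finset ((L ⧸ K) →* ℂˣ)),
              (if μ ν₀ = μ ν' then (1 : ℕ) else 0) := by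
              rw [Finset.sum_pair hne, if_pos rfl, if_pos h01]
          _ ≤ _ := Finset.sum_le_sum_of_subset (Finset.subset_univ _)
      have hall := (Finset.sum_eq_sum_iff_of_le (s := Finset.univ)
        (f := fun _ : (L ⧸ K) →* ℂˣ => (1 : ℕ))
        (g := fun ν : (L ⧸ K) →* ℂˣ =>
          ∑ ν' : (L ⧸ K) →* ℂˣ, (if μ ν = μ ν' then (1 : ℕ) else 0))
        (fun ν _ => hge ν)).mp (by
          show (∑ _ν : (L ⧸ K) →* ℂˣ, (1 : ℕ)) = ∑ ν : (L ⧸ K) →* ℂˣ,
            ∑ ν' : (L ⧸ K) →* ℂˣ, (if μ ν = μ ν' then (1 : ℕ) else 0)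
          rw [hcount]
          simp)
      have h' : (1 : ℕ) = ∑ ν' : (L ⧸ K) →* ℂˣ, (if μ ν₀ = μ ν' then (1 : ℕ) else 0) :=
        hall ν₀ (Finset.mem_univ ν₀)
      omega
    refine ⟨Finset.univ.image μ, ?_, ?_, ?_⟩
    · rw [Finset.card_image_of_injective _ hinj, Finset.card_univ, hDcard]
    · intro m hm
      obtain ⟨ν, _, rfl⟩ := Finset.mem_image.mp hm
      exact hμirr ν
    · rw [Finset.sum_image (fun a _ b _ h => hinj h)]
      exact hsum

end main

end Cfsg.Agent.Lib.Lead.KW
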