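import Mathlib
import Cfsg.Agent.Lib.Lead.KW1
import Cfsg.Agent.Lib.Helper6.GenChar
import Cfsg.Agent.Lib.Helper6.GenCharOps
import Cfsg.Agent.Lib.Helper6.CharOps
import Cfsg.Agent.Lib.Helper6.Mult
import Cfsg.Agent.Lib.Helper6.Orthogonality

set_option autoImplicit false
open Cfsg

/-! Abstract lemmas for the characters of `K ⋊ W₁`: Fourier inversion on an abelian group and
the "star" lemma on families of differences of irreducible characters. -/

namespace Cfsg.Agent.Lib.Lead.KW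

open Cfsg.Agent.Lib.Helper6
open Cfsg.Agent.Lib.Lead.CycTI
open scoped ComplexConjugate

section fourier
variable {A : Type*} [Group A]

/-- the function attached to a linear character -/
def lf (l : A →* ℂˣ) : A → ℂ := fun a => ((l a : ℂˣ) : ℂ)

variable [Fintype A]

open Classical in
theorem lf_inner (l m : A →* ℂˣ) : classInner (lf l) (lf m) = if l = m then 1 else 0 :=
  lin_inner l m

open Classical in
theorem sum_dual (hcomm : ∀ a b : A, a * b = b * a) [Fintype (A →* ℂˣ)] (x : A) :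
    ∑ ω : A →* ℂˣ, ((ω x : ℂˣ) : ℂ) = if x = 1 then (Nat.card (A →* ℂˣ) : ℂ) else 0 := by
  let f : (A →* ℂˣ) →* ℂ := (Units.coeHom ℂ).comp (MonoidHom.eval x)
  have hf : ∀ φ : A →* ℂˣ, f φ = ((φ x : ℂˣ) : ℂ) := fun φ => rfl
  have hs := sum_hom_units f
  simp only [hf] at hs
  rw [hs]
  by_cases hx : x = 1
  · have : f = 1 := by
      refine MonoidHom.ext fun φ => ?_
      rw [hf, hx, map_one, Units.val_one, MonoidHom.one_apply]
    rw [if_pos this, if_pos hx, Nat.card_eq_fintype_card]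
  · have : f ≠ 1 := by
      intro h1
      have hx' : x ∉ (⊥ : Subgroup A) := fun h => hx (Subgroup.mem_bot.mp h)
      obtain ⟨φ, -, hne⟩ := exists_ann_ne_one hcomm ⊥ hx'
      have := DFunLike.congr_fun h1 φ
      rw [hf] at this
      apply hne
      exact Units.ext this
    rw [if_neg this, if_neg hx, Nat.cast_zero]

theorem fourier_zero (hcomm : ∀ a b : A, a * b = b * a) (h : A → ℂ)
    (H0 : ∀ ω : A →* ℂˣ, ∑ w, h w * conj ((ω w : ℂˣ) : ℂ) = 0) (w₀ : A) : h w₀ = 0 := by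
  classical
  letI : Fintype (A →* ℂˣ) := Fintype.ofFinite _
  have h1 : ∑ ω : A →* ℂˣ, ((ω w₀ : ℂˣ) : ℂ) * ∑ w, h w * conj ((ω w : ℂˣ) : ℂ) = 0 :=
    Finset.sum_eq_zero fun ω _ => by rw [H0 ω, mul_zero]
  have h2 : ∑ ω : A →* ℂˣ, ((ω w₀ : ℂˣ) : ℂ) * ∑ w, h w * conj ((ω w : ℂˣ) : ℂ)
      = ∑ w, h w * ∑ ω : A →* ℂˣ, ((ω (w₀ * w⁻¹) : ℂˣ) : ℂ) := by
    simp only [Finset.mul_sum]
    rw [Finset.sum_comm]
    refine Finset.sum_congr rfl fun w _ => Finset.sum_congr rfl fun ω _ => ?_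
    rw [unit_conj, map_mul, map_inv, Units.val_mul]
    ring
  rw [h2] at h1
  have h3 : ∀ w, h w * ∑ ω : A →* ℂˣ, ((ω (w₀ * w⁻¹) : ℂˣ) : ℂ)
      = if w = w₀ then h w₀ * (Nat.card (A →* ℂˣ) : ℂ) else 0 := by
    intro w
    rw [sum_dual hcomm]
    by_cases hw : w = w₀
    · rw [if_pos hw, hw, if_pos (mul_inv_cancel w₀)]
    · have : w₀ * w⁻¹ ≠ 1 := fun e => hw (by rw [mul_inv_eq_one] at e; exact e.symm)
      rw [if_neg hw, if_neg this, mul_zero]
  rw [Finset.sum_congr rfl (fun w _ => h3 w), Finset.sum_ite_eq' Finset.univ w₀,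
    if_pos (Finset.mem_univ _)] at h1
  have hc : (Nat.card (A →* ℂˣ) : ℂ) ≠ 0 := by
    have : Nat.card (A →* ℂˣ) ≠ 0 := Nat.card_pos.ne'
    exact_mod_cast this
  rcases mul_eq_zero.mp h1 with h4 | h4
  · exact h4
  · exact absurd h4 hc

/-- a function on an abelian group whose Fourier coefficients are constant on the cosets of
`ann H` vanishes outside `H` -/
theorem vanish_off (hcomm : ∀ a b : A, a * b = b * a) (H : Subgroup A) (g : A → ℂ)
    (hg : ∀ ω : A →* ℂˣ, ∀ β ∈ ann H, classInner g (lf ω) = classInner g (lf (ω * β)))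
    (w₀ : A) (hw₀ : w₀ ∉ H) : g w₀ = 0 := by
  obtain ⟨β, hβ, hne⟩ := exists_ann_ne_one hcomm H hw₀
  have hcard : (Nat.card A : ℂ) ≠ 0 := by
    have : Nat.card A ≠ 0 := Nat.card_pos.ne'
    exact_mod_cast this
  have H0 : ∀ ω : A →* ℂˣ,
      ∑ w, (g w * (1 - conj ((β w : ℂˣ) : ℂ))) * conj ((ω w : ℂˣ) : ℂ) = 0 := by
    intro ω
    have h1 := hg ω β hβ
    unfold classInner at h1
    have h2 := mul_left_cancel₀ (inv_ne_zero hcard) h1
    have h3 : ∑ w, (g w * (1 - conj ((β w : ℂˣ) : ℂ))) * conj ((ω w : ℂˣ) : ℂ)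
        = ∑ w, g w * conj (lf ω w) - ∑ w, g w * conj (lf (ω * β) w) := by
      rw [← Finset.sum_sub_distrib]
      refine Finset.sum_congr rfl fun w _ => ?_
      simp only [lf, MonoidHom.mul_apply, Units.val_mul, map_mul]
      ring
    rw [h3, h2, sub_self]
  have key : g w₀ * (1 - conj ((β w₀ : ℂˣ) : ℂ)) = 0 :=
    fourier_zero hcomm (fun w => g w * (1 - conj ((β w : ℂˣ) : ℂ))) H0 w₀
  rcases mul_eq_zero.mp key with h | h
  · exact h
  · exfalso
    apply hne
    have h1 : conj ((β w₀ : ℂˣ) : ℂ) = 1 := (sub_eq_zero.mp h).symm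
    have h2 : ((β w₀ : ℂˣ) : ℂ) = 1 := by
      have := congrArg conj h1
      rwa [Complex.conj_conj, map_one] at this
    exact Units.ext h2

end fourier

section star
variable {G : Type*} [Group G] [Fintype G]

theorem share {p q p' q' : IrrCharacter G} (hpq : p ≠ q) (hpq' : p' ≠ q')
    (h : classInner ((p : G → ℂ) - (q : G → ℂ)) ((p' : G → ℂ) - (q' : G → ℂ)) = 1) :
    (p = p' ∧ q ≠ q') ∨ (q = q' ∧ p ≠ p') := by
  rw [classInner_sub_left, classInner_sub_right, classInner_sub_right,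
    classInner_irrCharacter, classInner_irrCharacter, classInner_irrCharacter,
    classInner_irrCharacter] at h
  by_cases h1 : p = p'
  · left
    refine ⟨h1, fun h2 => ?_⟩
    subst h1; subst h2
    norm_num [hpq, Ne.symm hpq] at h
  · right
    by_cases h2 : q = q'
    · exact ⟨h2, h1⟩
    · exfalso
      rw [if_neg h1, if_neg h2] at h
      split_ifs at h <;> norm_num at h

theorem star_pos {I : Type*} (x : I → I → (G → ℂ))
    (hform : ∀ i j, i ≠ j → ∃ p q : IrrCharacter G, p ≠ q ∧ x i j = (p : G → ℂ) - (q : G → ℂ))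
    (hadd : ∀ i j k, x i j + x j k = x i k)
    (hinner : ∀ i j k, i ≠ j → i ≠ k → j ≠ k → classInner (x i j) (x i k) = 1)
    (i₀ j₀ k₀ : I) (hij : i₀ ≠ j₀) (hik : i₀ ≠ k₀) (hjk : j₀ ≠ k₀)
    (p q q' : IrrCharacter G) (hpq : p ≠ q) (hpq' : p ≠ q')
    (hx1 : x i₀ j₀ = (p : G → ℂ) - (q : G → ℂ)) (hx2 : x i₀ k₀ = (p : G → ℂ) - (q' : G → ℂ)) :
    ∃ μ : I → IrrCharacter G, Function.Injective μ ∧
      ∀ i j, x i j = (μ i : G → ℂ) - (μ j : G → ℂ) := by
  classical
  have hqq' : q ≠ q' := by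
    have h := hinner i₀ j₀ k₀ hij hik hjk
    rw [hx1, hx2] at h
    rcases share hpq hpq' h with ⟨_, h2⟩ | ⟨_, h2⟩
    · exact h2
    · exact absurd rfl h2
  have hC : ∀ j, j ≠ i₀ → ∃ r : IrrCharacter G, x i₀ j = (p : G → ℂ) - (r : G → ℂ) := by
    intro j hj
    by_cases h1 : j = j₀
    · exact ⟨q, by rw [h1, hx1]⟩
    by_cases h2 : j = k₀
    · exact ⟨q', by rw [h2, hx2]⟩
    obtain ⟨p'', q'', hne, hxj⟩ := hform i₀ j (Ne.symm hj)
    have e1 := hinner i₀ j₀ j hij (Ne.symm hj) (Ne.symm h1)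
    have e2 := hinner i₀ k₀ j hik (Ne.symm hj) (Ne.symm h2)
    rw [hx1, hxj] at e1
    rw [hx2, hxj] at e2
    rcases share hpq hne e1 with ⟨h3, _⟩ | ⟨h3, _⟩
    · exact ⟨q'', by rw [hxj, h3]⟩
    · rcases share hpq' hne e2 with ⟨h5, _⟩ | ⟨h5, _⟩
      · exact ⟨q'', by rw [hxj, h5]⟩
      · exact absurd (h3.trans h5.symm) hqq'
  choose r hr using hC
  let μ : I → IrrCharacter G := fun i => if h : i = i₀ then p else r i h
  have hμi₀ : ∀ j, j = i₀ → μ j = p := fun j h => dif_pos h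
  have hμne : ∀ j (h : j ≠ i₀), μ j = r j h := fun j h => dif_neg h
  have hx0 : ∀ i, x i i = 0 := by
    intro i
    have h1 := hadd i i i
    have h2 : x i i + x i i = x i i + 0 := by rw [add_zero]; exact h1
    exact add_left_cancel h2
  have hneg : ∀ i j, x i j = - x j i := by
    intro i j
    have := hadd i j i
    rw [hx0] at this
    exact eq_neg_of_add_eq_zero_left this
  have hμ0 : ∀ j, x i₀ j = (p : G → ℂ) - (μ j : G → ℂ) := by
    intro j
    by_cases h : j = i₀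
    · rw [hμi₀ j h, h, hx0, sub_self]
    · rw [hμne j h]; exact hr j h
  have hμ : ∀ i j, x i j = (μ i : G → ℂ) - (μ j : G → ℂ) := by
    intro i j
    rw [← hadd i i₀ j, hneg i i₀, hμ0 i, hμ0 j]
    abel
  refine ⟨μ, ?_, hμ⟩
  intro i j hij'
  by_contra hne
  obtain ⟨a, b, hab, hxab⟩ := hform i j hne
  rw [hμ i j, hij', sub_self] at hxab
  apply hab
  apply Subtype.ext
  exact (sub_eq_zero.mp hxab.symm)

theorem star {I : Type*} (x : I → I → (G → ℂ))
    (hform : ∀ i j, i ≠ j → ∃ p q : IrrCharacter G, p ≠ q ∧ x i j = (p : G → ℂ) - (q : G → ℂ))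
    (hadd : ∀ i j k, x i j + x j k = x i k)
    (hinner : ∀ i j k, i ≠ j → i ≠ k → j ≠ k → classInner (x i j) (x i k) = 1)
    (i₀ j₀ k₀ : I) (hij : i₀ ≠ j₀) (hik : i₀ ≠ k₀) (hjk : j₀ ≠ k₀) :
    ∃ δ : ℂ, (δ = 1 ∨ δ = -1) ∧ ∃ μ : I → IrrCharacter G, Function.Injective μ ∧
      ∀ i j, x i j = δ • ((μ i : G → ℂ) - (μ j : G → ℂ)) := by
  obtain ⟨p, q, hpq, hx1⟩ := hform i₀ j₀ hij
  obtain ⟨p', q', hpq', hx2⟩ := hform i₀ k₀ hik
  have h := hinner i₀ j₀ k₀ hij hik hjk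
  rw [hx1, hx2] at h
  have hx0 : ∀ i, x i i = 0 := by
    intro i
    have h1 := hadd i i i
    have h2 : x i i + x i i = x i i + 0 := by rw [add_zero]; exact h1
    exact add_left_cancel h2
  have hneg : ∀ i j, x i j = - x j i := by
    intro i j
    have := hadd i j i
    rw [hx0] at this
    exact eq_neg_of_add_eq_zero_left this
  rcases share hpq hpq' h with ⟨h1, _⟩ | ⟨h1, _⟩
  · subst h1
    obtain ⟨μ, hinj, hμ⟩ := star_pos x hform hadd hinner i₀ j₀ k₀ hij hik hjk p q q' hpq hpq'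
      hx1 hx2
    exact ⟨1, Or.inl rfl, μ, hinj, fun i j => by rw [one_smul]; exact hμ i j⟩
  · subst h1
    obtain ⟨μ, hinj, hμ⟩ := star_pos (fun i j => x j i)
      (fun i j hne => hform j i (Ne.symm hne))
      (fun i j k => by
        show x j i + x k j = x k i
        rw [add_comm]; exact hadd k j i)
      (fun i j k h1 h2 h3 => by
        show classInner (x j i) (x k i) = 1
        rw [hneg j i, hneg k i, classInner_neg_left, classInner_neg_right, neg_neg]
        exact hinner i j k h1 h2 h3)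
      i₀ j₀ k₀ hij hik hjk q p p' (Ne.symm hpq) (Ne.symm hpq')
      (by show x j₀ i₀ = _; rw [hneg j₀ i₀, hx1, neg_sub])
      (by show x k₀ i₀ = _; rw [hneg k₀ i₀, hx2, neg_sub])
    refine ⟨-1, Or.inr rfl, μ, hinj, fun i j => ?_⟩
    rw [neg_one_smul, neg_sub]
    exact hμ j i

end star

end Cfsg.Agent.Lib.Lead.KW
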