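import Mathlib
import Cfsg.Agent.Lib.Lead.KW3

set_option autoImplicit false
open Cfsg

/-! Group theory of `L = K ⋊ W₁` with `C_K(x) = W₂`: the set `W ∖ W₂` is TI with normalizer `W`. -/

namespace Cfsg.Agent.Lib.Lead.KW

open Cfsg.Agent.Lib.Helper6
open Cfsg.Agent.Lib.Lead.CycTI
open scoped ComplexConjugate Pointwise

section main
variable {L : Type*} [Group L] [Fintype L] (K W₁ W₂ : Subgroup L) [hK : K.Normal]

theorem kw_group [Fintype ↥(W₁ ⊔ W₂)] (hKW₁ : K ⊓ W₁ = ⊥) (hKW₁' : K ⊔ W₁ = ⊤) (hW₁ : W₁ ≠ ⊥)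
    (hW₁c : IsCyclic W₁) (hHall : Nat.Coprime (Nat.card W₁) W₁.index) (hW₂c : IsCyclic W₂)
    (hW₂K : W₂ ≤ K)
    (hC : ∀ x ∈ W₁, x ≠ 1 → K ⊓ Subgroup.centralizer ({x} : Set L) = W₂)
    (hodd : Odd (Nat.card ↥(W₁ ⊔ W₂))) :
    (∀ a b : ↥(W₁ ⊔ W₂), a * b = b * a) ∧ W₁ ⊓ W₂ = ⊥ ∧
    (∀ f g : ↥(W₁ ⊔ W₂) → ℂ, (∀ x ∈ W₂.subgroupOf (W₁ ⊔ W₂), f x = 0) →
      (∀ x ∈ W₂.subgroupOf (W₁ ⊔ W₂), g x = 0) →
      classInner (indFun (W₁ ⊔ W₂) f) (indFun (W₁ ⊔ W₂) g) = classInner f g) ∧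
    2 < Nat.card ↥(ann (W₂.subgroupOf (W₁ ⊔ W₂))) := by
  classical
  have hmul : (K : Set L) * (W₁ : Set L) = Set.univ := by
    rw [← Subgroup.normal_mul, hKW₁', Subgroup.coe_top]
  have hcompl : Subgroup.IsComplement' K W₁ :=
    Subgroup.isComplement'_of_disjoint_and_mul_eq_univ (disjoint_iff.mpr hKW₁) hmul
  have hidx : W₁.index = Nat.card K := hcompl.index_eq_card
  have hcopK : (Nat.card K).Coprime (Nat.card W₁) := by
    rw [← hidx]; exact hHall.symm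
  have hdecomp : ∀ l : L, ∃ k ∈ K, ∃ w ∈ W₁, k * w = l := by
    intro l
    have : l ∈ (K : Set L) * (W₁ : Set L) := by rw [hmul]; trivial
    obtain ⟨k, hk, w, hw, h⟩ := Set.mem_mul.mp this
    exact ⟨k, hk, w, hw, h⟩
  have cop12 : (Nat.card W₁).Coprime (Nat.card W₂) :=
    Nat.Coprime.coprime_dvd_right (Subgroup.card_dvd_of_le hW₂K) hcopK.symm
  have hcomm12 : ∀ u ∈ W₁, ∀ v ∈ W₂, u * v = v * u := by
    intro u hu v hv
    by_cases hu1 : u = 1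
    · rw [hu1, one_mul, mul_one]
    · have h1 : v ∈ K ⊓ Subgroup.centralizer ({u} : Set L) := by rw [hC u hu hu1]; exact hv
      exact Subgroup.mem_centralizer_iff.mp (Subgroup.mem_inf.mp h1).2 u (Set.mem_singleton u)
  have hcomm1 : ∀ u ∈ W₁, ∀ u' ∈ W₁, u * u' = u' * u := by
    intro u hu u' hu'
    have h := congrArg Subtype.val (W_comm hW₁c ⟨u, hu⟩ ⟨u', hu'⟩)
    exact h
  have hcomm2 : ∀ v ∈ W₂, ∀ v' ∈ W₂, v * v' = v' * v := by
    intro v hv v' hv'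
    have h := congrArg Subtype.val (W_comm hW₂c ⟨v, hv⟩ ⟨v', hv'⟩)
    exact h
  have hWdecomp : ∀ w ∈ W₁ ⊔ W₂, ∃ u ∈ W₁, ∃ v ∈ W₂, u * v = w := by
    intro w hw
    have hc : ∀ (m : W₁) (n : W₂), Commute (W₁.subtype m) (W₂.subtype n) := by
      intro m n
      show (m : L) * (n : L) = (n : L) * (m : L)
      exact hcomm12 m m.2 n n.2
    have hr : (MonoidHom.noncommCoprod W₁.subtype W₂.subtype hc).range = W₁ ⊔ W₂ := by
      rw [MonoidHom.noncommCoprod_range, Subgroup.range_subtype, Subgroup.range_subtype]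
    rw [← hr] at hw
    obtain ⟨⟨u, v⟩, huv⟩ := hw
    refine ⟨u, u.2, v, v.2, ?_⟩
    rw [← huv, MonoidHom.noncommCoprod_apply]
    rfl
  have hdisj12 : W₁ ⊓ W₂ = ⊥ := by
    rw [eq_bot_iff, ← hKW₁]
    exact fun x hx => ⟨hW₂K hx.2, hx.1⟩
  have hcommW : ∀ a b : ↥(W₁ ⊔ W₂), a * b = b * a := by
    intro a b
    obtain ⟨u, hu, v, hv, huv⟩ := hWdecomp a a.2
    obtain ⟨u', hu', v', hv', huv'⟩ := hWdecomp b b.2
    apply Subtype.ext
    show (a : L) * (b : L) = (b : L) * (a : L)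
    rw [← huv, ← huv']
    have c1 := hcomm1 u hu u' hu'
    have c2 := hcomm2 v hv v' hv'
    have c3 := hcomm12 u' hu' v hv
    have c4 := hcomm12 u hu v' hv'
    calc u * v * (u' * v') = u * (v * u') * v' := by group
      _ = u * (u' * v) * v' := by rw [c3]
      _ = (u * u') * (v * v') := by group
      _ = (u' * u) * (v' * v) := by rw [c1, c2]
      _ = u' * (u * v') * v := by group
      _ = u' * (v' * u) * v := by rw [c4]
      _ = u' * v' * (u * v) := by group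
  have hcommL : ∀ a ∈ W₁ ⊔ W₂, ∀ b ∈ W₁ ⊔ W₂, a * b = b * a := by
    intro a ha b hb
    have h := congrArg Subtype.val (hcommW ⟨a, ha⟩ ⟨b, hb⟩)
    exact h
  -- the power trick
  obtain ⟨e, he⟩ : ∃ e : ℤ, ∀ u ∈ W₁, ∀ v ∈ W₂, (u * v) ^ e = u := by
    have hbez := Nat.gcd_eq_gcd_ab (Nat.card W₁) (Nat.card W₂)
    rw [show Nat.gcd (Nat.card W₁) (Nat.card W₂) = 1 from cop12, Nat.cast_one] at hbez
    refine ⟨(Nat.card W₂ : ℤ) * Nat.gcdB (Nat.card W₁) (Nat.card W₂), fun u hu v hv => ?_⟩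
    have hu1 : u ^ (Nat.card W₁) = 1 := by
      have h1 := pow_card_eq_one' (G := W₁) (x := ⟨u, hu⟩)
      have h2 := congrArg Subtype.val h1
      rw [Subgroup.coe_pow, Subgroup.coe_one] at h2
      exact h2
    have hv1 : v ^ (Nat.card W₂) = 1 := by
      have h1 := pow_card_eq_one' (G := W₂) (x := ⟨v, hv⟩)
      have h2 := congrArg Subtype.val h1
      rw [Subgroup.coe_pow, Subgroup.coe_one] at h2
      exact h2
    rw [Commute.mul_zpow (show Commute u v from hcomm12 u hu v hv)]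
    have e1 : v ^ ((Nat.card W₂ : ℤ) * Nat.gcdB (Nat.card W₁) (Nat.card W₂)) = 1 := by
      rw [zpow_mul, zpow_natCast, hv1, one_zpow]
    have e2 : u ^ ((Nat.card W₂ : ℤ) * Nat.gcdB (Nat.card W₁) (Nat.card W₂)) = u := by
      have : (Nat.card W₂ : ℤ) * Nat.gcdB (Nat.card W₁) (Nat.card W₂)
          = 1 - (Nat.card W₁ : ℤ) * Nat.gcdA (Nat.card W₁) (Nat.card W₂) := by linarith
      rw [this, zpow_sub, zpow_one, zpow_mul, zpow_natCast, hu1, one_zpow, inv_one, mul_one]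
    rw [e1, e2, mul_one]
  have TIcore : ∀ l a : L, a ∈ W₁ ⊔ W₂ → a ∉ W₂ → l * a * l⁻¹ ∈ W₁ ⊔ W₂ → l ∈ W₁ ⊔ W₂ := by
    intro l a ha haW₂ hla
    obtain ⟨u, hu, v, hv, rfl⟩ := hWdecomp a ha
    obtain ⟨u', hu', v', hv', huv'⟩ := hWdecomp _ hla
    have hu1 : u ≠ 1 := by
      rintro rfl
      apply haW₂; rw [one_mul]; exact hv
    have hlu : l * u * l⁻¹ = u' := by
      calc l * u * l⁻¹ = l * (u * v) ^ e * l⁻¹ := by rw [he u hu v hv]
        _ = (l * (u * v) * l⁻¹) ^ e := conj_zpow.symm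
        _ = (u' * v') ^ e := by rw [huv']
        _ = u' := he u' hu' v' hv'
    obtain ⟨k, hk, s, hs, rfl⟩ := hdecomp l
    have hku : k * u * k⁻¹ = u' := by
      rw [← hlu]
      have := hcomm1 s hs u hu
      calc k * u * k⁻¹ = k * (u * s) * s⁻¹ * k⁻¹ := by group
        _ = k * (s * u) * s⁻¹ * k⁻¹ := by rw [this]
        _ = k * s * u * (k * s)⁻¹ := by group
    have hmemK : u' * u⁻¹ ∈ K := by
      rw [← hku]
      have h1 : u * k⁻¹ * u⁻¹ ∈ K := hK.conj_mem _ (K.inv_mem hk) u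
      have h2 : k * u * k⁻¹ * u⁻¹ = k * (u * k⁻¹ * u⁻¹) := by group
      rw [h2]
      exact K.mul_mem hk h1
    have hmemW : u' * u⁻¹ ∈ W₁ := W₁.mul_mem hu' (W₁.inv_mem hu)
    have huu : u' = u := by
      have : u' * u⁻¹ ∈ K ⊓ W₁ := ⟨hmemK, hmemW⟩
      rw [hKW₁, Subgroup.mem_bot] at this
      exact mul_inv_eq_one.mp this
    have hkW₂ : k ∈ W₂ := by
      rw [← hC u hu hu1]
      refine Subgroup.mem_inf.mpr ⟨hk, Subgroup.mem_centralizer_iff.mpr ?_⟩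
      intro h hh
      rw [Set.mem_singleton_iff.mp hh]
      rw [huu] at hku
      exact (mul_inv_eq_iff_eq_mul.mp hku).symm
    exact Subgroup.mul_mem _ (Subgroup.mem_sup_right hkW₂) (Subgroup.mem_sup_left hs)
  set T : Set L := {x | x ∈ W₁ ⊔ W₂ ∧ x ∉ W₂} with hT
  obtain ⟨u₀, hu₀, hu₀1⟩ : ∃ u₀ ∈ W₁, u₀ ≠ 1 := by
    obtain ⟨⟨a, ha⟩, hne⟩ := (Subgroup.ne_bot_iff_exists_ne_one).mp hW₁
    exact ⟨a, ha, fun h => hne (Subtype.ext h)⟩
  have hW₁T : ∀ u ∈ W₁, u ≠ 1 → u ∈ T := by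
    intro u hu hu1
    refine ⟨Subgroup.mem_sup_left hu, fun h => hu1 ?_⟩
    have : u ∈ W₁ ⊓ W₂ := ⟨hu, h⟩
    rw [hdisj12, Subgroup.mem_bot] at this
    exact this
  have hN : Subgroup.normalizer T = W₁ ⊔ W₂ := by
    apply le_antisymm
    · intro g hg
      rw [Subgroup.mem_set_normalizer_iff] at hg
      have h1 := (hg u₀).mp (hW₁T u₀ hu₀ hu₀1)
      exact TIcore g u₀ (Subgroup.mem_sup_left hu₀) (hW₁T u₀ hu₀ hu₀1).2 h1.1
    · intro g hg
      rw [Subgroup.mem_set_normalizer_iff]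
      intro h
      constructor
      · intro hh
        have : g * h * g⁻¹ = h := by rw [hcommL g hg h hh.1, mul_inv_cancel_right]
        rw [this]; exact hh
      · intro hh
        have hW : h ∈ W₁ ⊔ W₂ := by
          have : h = g⁻¹ * (g * h * g⁻¹) * g := by group
          rw [this]
          exact Subgroup.mul_mem _ (Subgroup.mul_mem _ (Subgroup.inv_mem _ hg) hh.1) hg
        have : g * h * g⁻¹ = h := by rw [hcommL g hg h hW, mul_inv_cancel_right]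
        rw [this] at hh; exact hh
  have hTI : ∀ g : L, g ∉ Subgroup.normalizer T → ∀ t ∈ T, g * t * g⁻¹ ∈ T → t = 1 := by
    intro g hg t ht hgt
    exact absurd (by rw [hN]; exact TIcore g t ht.1 ht.2 hgt.1) hg
  have hTN : T ⊆ Subgroup.normalizer T := by
    intro x hx
    rw [hN]; exact hx.1
  have hcf : ∀ f : ↥(W₁ ⊔ W₂) → ℂ, IsClassFunction ↥(W₁ ⊔ W₂) f := by
    intro f g h
    rw [hcommW h g, mul_inv_cancel_right]
  refine ⟨hcommW, hdisj12, ?_, ?_⟩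
  · intro f g hf hg
    have hfT : ∀ x : ↥(W₁ ⊔ W₂), (x : L) ∉ T → f x = 0 := by
      intro x hx
      apply hf
      by_contra h
      exact hx ⟨x.2, fun h' => h (Subgroup.mem_subgroupOf.mpr h')⟩
    have hgT : ∀ x : ↥(W₁ ⊔ W₂), (x : L) ∉ T → g x = 0 := by
      intro x hx
      apply hg
      by_contra h
      exact hx ⟨x.2, fun h' => h (Subgroup.mem_subgroupOf.mpr h')⟩
    exact ti_inner_aux T (W₁ ⊔ W₂) hN hTI hTN f g (hcf f) (hcf g) hfT hgT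
      (hf 1 (Subgroup.one_mem _))
  · have hdisj' : (W₁.subgroupOf (W₁ ⊔ W₂)) ⊓ (W₂.subgroupOf (W₁ ⊔ W₂)) = ⊥ := by
      rw [eq_bot_iff]
      intro x hx
      have h1 : (x:L) ∈ W₁ ⊓ W₂ :=
        ⟨Subgroup.mem_subgroupOf.mp hx.1, Subgroup.mem_subgroupOf.mp hx.2⟩
      rw [hdisj12, Subgroup.mem_bot] at h1
      exact Subgroup.mem_bot.mpr (Subtype.ext h1)
    have hsup' : (W₁.subgroupOf (W₁ ⊔ W₂)) ⊔ (W₂.subgroupOf (W₁ ⊔ W₂)) = ⊤ := by
      rw [eq_top_iff]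
      intro w _
      have h1 : ((W₁.subgroupOf (W₁ ⊔ W₂)) ⊔ (W₂.subgroupOf (W₁ ⊔ W₂))).map (W₁ ⊔ W₂).subtype
          = W₁ ⊔ W₂ := by
        rw [Subgroup.map_sup, Subgroup.subgroupOf_map_subtype, Subgroup.subgroupOf_map_subtype,
          inf_of_le_left le_sup_left, inf_of_le_left le_sup_right]
      have : (w:L) ∈ ((W₁.subgroupOf (W₁ ⊔ W₂)) ⊔ (W₂.subgroupOf (W₁ ⊔ W₂))).map
          (W₁ ⊔ W₂).subtype := by rw [h1]; exact w.2
      obtain ⟨w', hw', hww⟩ := this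
      have : w' = w := Subtype.ext hww
      rwa [← this]
    have c1 : Nat.card (W₁.subgroupOf (W₁ ⊔ W₂)) = Nat.card W₁ :=
      Nat.card_congr (Subgroup.subgroupOfEquivOfLe le_sup_left).toEquiv
    have o1 : Odd (Nat.card W₁) := Odd.of_dvd_nat hodd (Subgroup.card_dvd_of_le le_sup_left)
    have hne1 : Nat.card W₁ ≠ 1 := fun h => hW₁ (Subgroup.card_eq_one.mp h)
    rw [card_ann hcommW, index_of_compl hcommW _ _ hdisj' hsup', c1]
    obtain ⟨k, hk⟩ := o1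
    omega

end main

end Cfsg.Agent.Lib.Lead.KW
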