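import Mathlib
import Cfsg.Agent.Lib.Lead.KW4

set_option autoImplicit false
open Cfsg

/-! The irreducible characters `μ_ω` of `L = K ⋊ W₁` attached to the linear characters of `W`. -/

namespace Cfsg.Agent.Lib.Lead.KW

open Cfsg.Agent.Lib.Helper6
open Cfsg.Agent.Lib.Lead.CycTI
open scoped ComplexConjugate

section family
variable {L : Type*} [Group L] [Fintype L]

theorem star_family (W : Subgroup L) [Fintype W]
    (hcommW : ∀ a b : W, a * b = b * a) (H : Subgroup W)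
    (iso : ∀ f g : W → ℂ, (∀ x ∈ H, f x = 0) → (∀ x ∈ H, g x = 0) →
      classInner (indFun W f) (indFun W g) = classInner f g)
    (hcard : 2 < Nat.card ↥(ann H)) :
    ∃ (μ : (W →* ℂˣ) → IrrCharacter L) (δ : (W →* ℂˣ) → ℂ),
      Function.Injective μ ∧ (∀ ω, δ ω = 1 ∨ δ ω = -1) ∧
      (∀ ω ω' : W →* ℂˣ, (∀ w ∈ H, ω w = ω' w) →
        δ ω = δ ω' ∧ indFun W (fun w => (ω w : ℂ) - (ω' w : ℂ))
          = δ ω • ((μ ω : L → ℂ) - (μ ω' : L → ℂ))) ∧
      (∀ ω, ∀ w : W, w ∉ H → (μ ω : L → ℂ) w = δ ω * (ω w : ℂ)) ∧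
      (∀ θ : IrrCharacter L, (∀ ω, θ ≠ μ ω) → ∀ w : W, w ∉ H → (θ : L → ℂ) w = 0) := by
  classical
  have hirr : ∀ ω : W →* ℂˣ, IsIrrCharacter W (lf ω) := fun ω => isIrrCharacter_of_hom ω
  have hgen : ∀ ω ω' : W →* ℂˣ, IsGeneralizedCharacter L (indFun W (lf ω - lf ω')) :=
    fun ω ω' => IsGeneralizedCharacter.indFun W (IsGeneralizedCharacter.sub
      (IsCharacter.isGeneralizedCharacter (IsIrrCharacter.isCharacter (hirr ω)))
      (IsCharacter.isGeneralizedCharacter (IsIrrCharacter.isCharacter (hirr ω'))))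
  have hvan : ∀ ω ω' : W →* ℂˣ, (∀ w ∈ H, ω w = ω' w) → ∀ x ∈ H, (lf ω - lf ω') x = 0 := by
    intro ω ω' h x hx
    simp only [Pi.sub_apply, lf, h x hx, sub_self]
  have hinner : ∀ ω ω' ρ ρ' : W →* ℂˣ, (∀ w ∈ H, ω w = ω' w) → (∀ w ∈ H, ρ w = ρ' w) →
      classInner (indFun W (lf ω - lf ω')) (indFun W (lf ρ - lf ρ')) =
        (if ω = ρ then 1 else 0) - (if ω = ρ' then 1 else 0) - (if ω' = ρ then 1 else 0)
          + (if ω' = ρ' then 1 else 0) := by
    intro ω ω' ρ ρ' h h'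
    rw [iso _ _ (hvan ω ω' h) (hvan ρ ρ' h'), classInner_sub_left, classInner_sub_right,
      classInner_sub_right, lf_inner, lf_inner, lf_inner, lf_inner]
    ring
  have hone : ∀ ω ω' : W →* ℂˣ, indFun W (lf ω - lf ω') 1 = 0 := by
    intro ω ω'
    rw [indFun_one]
    simp [lf]
  obtain ⟨b₁, b₂, b₃, h12, h13, h23⟩ : ∃ a b c : ↥(ann H), a ≠ b ∧ a ≠ c ∧ b ≠ c := by
    haveI : Fintype ↥(ann H) := Fintype.ofFinite _
    rw [Nat.card_eq_fintype_card] at hcard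
    exact Fintype.two_lt_card_iff.mp hcard
  have hagree : ∀ (ω : W →* ℂˣ) (β : W →* ℂˣ), β ∈ ann H → ∀ w ∈ H, ω w = (ω * β) w := by
    intro ω β hβ w hw
    rw [MonoidHom.mul_apply, mem_ann.mp hβ w hw, mul_one]
  have hstar : ∀ ρ : W →* ℂˣ, ∃ δ : ℂ, (δ = 1 ∨ δ = -1) ∧
      ∃ μ : {ω : W →* ℂˣ // ∀ w ∈ H, ρ w = ω w} → IrrCharacter L, Function.Injective μ ∧
        ∀ a b, indFun W (lf a.1 - lf b.1) = δ • ((μ a : L → ℂ) - (μ b : L → ℂ)) := by
    intro ρ
    have tr : ∀ a b : {ω : W →* ℂˣ // ∀ w ∈ H, ρ w = ω w}, ∀ w ∈ H, a.1 w = b.1 w :=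
      fun a b w hw => (a.2 w hw).symm.trans (b.2 w hw)
    refine star (fun a b : {ω : W →* ℂˣ // ∀ w ∈ H, ρ w = ω w} => indFun W (lf a.1 - lf b.1))
      ?_ ?_ ?_ ⟨ρ * b₁.1, hagree ρ _ b₁.2⟩ ⟨ρ * b₂.1, hagree ρ _ b₂.2⟩
      ⟨ρ * b₃.1, hagree ρ _ b₃.2⟩ ?_ ?_ ?_
    · intro a b hab
      have hab' : a.1 ≠ b.1 := fun h => hab (Subtype.ext h)
      have hn : classInner (indFun W (lf a.1 - lf b.1)) (indFun W (lf a.1 - lf b.1)) = 2 := by
        rw [hinner _ _ _ _ (tr a b) (tr a b), if_pos rfl, if_pos rfl, if_neg hab',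
          if_neg (Ne.symm hab')]
        norm_num
      exact IsGeneralizedCharacter.eq_sub_of_norm_two (hgen a.1 b.1) hn (hone a.1 b.1)
    · intro a b c
      show indFun W (lf a.1 - lf b.1) + indFun W (lf b.1 - lf c.1) = indFun W (lf a.1 - lf c.1)
      rw [← indFun_add, sub_add_sub_cancel]
    · intro a b c hab hac hbc
      have hab' : a.1 ≠ b.1 := fun h => hab (Subtype.ext h)
      have hac' : a.1 ≠ c.1 := fun h => hac (Subtype.ext h)
      have hbc' : b.1 ≠ c.1 := fun h => hbc (Subtype.ext h)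
      show classInner (indFun W (lf a.1 - lf b.1)) (indFun W (lf a.1 - lf c.1)) = 1
      rw [hinner _ _ _ _ (tr a b) (tr a c), if_pos rfl, if_neg hac', if_neg (Ne.symm hab'),
        if_neg hbc']
      norm_num
    · intro h; apply h12; apply Subtype.ext; exact mul_left_cancel (congrArg Subtype.val h)
    · intro h; apply h13; apply Subtype.ext; exact mul_left_cancel (congrArg Subtype.val h)
    · intro h; apply h23; apply Subtype.ext; exact mul_left_cancel (congrArg Subtype.val h)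
  choose δc hδc μc hμinj hμc using hstar
  let pick : Set (W →* ℂˣ) → (W →* ℂˣ) := fun S => if h : S.Nonempty then h.some else 1
  have hpick : ∀ S : Set (W →* ℂˣ), S.Nonempty → pick S ∈ S := by
    intro S hS
    show (if h : S.Nonempty then h.some else 1) ∈ S
    rw [dif_pos hS]
    exact hS.some_mem
  let rep : (W →* ℂˣ) → (W →* ℂˣ) := fun ω => pick {ρ | ∀ w ∈ H, ρ w = ω w}
  have hrep1 : ∀ ω, ∀ w ∈ H, rep ω w = ω w := by
    intro ω
    have hne : ({ρ : W →* ℂˣ | ∀ w ∈ H, ρ w = ω w}).Nonempty := ⟨ω, fun _ _ => rfl⟩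
    exact hpick _ hne
  have hrep2 : ∀ ω ω', (∀ w ∈ H, ω w = ω' w) → rep ω = rep ω' := by
    intro ω ω' h
    have hc : {ρ : W →* ℂˣ | ∀ w ∈ H, ρ w = ω w} = {ρ | ∀ w ∈ H, ρ w = ω' w} := by
      ext ρ
      constructor
      · intro hρ w hw; exact (hρ w hw).trans (h w hw)
      · intro hρ w hw; exact (hρ w hw).trans (h w hw).symm
    show pick _ = pick _
    rw [hc]
  let μ : (W →* ℂˣ) → IrrCharacter L := fun ω => μc (rep ω) ⟨ω, hrep1 ω⟩
  let δ : (W →* ℂˣ) → ℂ := fun ω => δc (rep ω)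
  have htrans : ∀ (ρ ρ' : W →* ℂˣ) (e : ρ = ρ') (a : W →* ℂˣ) (ha : ∀ w ∈ H, ρ w = a w)
      (ha' : ∀ w ∈ H, ρ' w = a w), μc ρ ⟨a, ha⟩ = μc ρ' ⟨a, ha'⟩ := by
    intro ρ ρ' e a ha ha'
    subst e
    rfl
  have P4 : ∀ ω ω' : W →* ℂˣ, (∀ w ∈ H, ω w = ω' w) →
      δ ω = δ ω' ∧ indFun W (lf ω - lf ω') = δ ω • ((μ ω : L → ℂ) - (μ ω' : L → ℂ)) := by
    intro ω ω' h
    have hr := hrep2 ω ω' h
    refine ⟨congrArg δc hr, ?_⟩
    have hω' : ∀ w ∈ H, rep ω w = ω' w := fun w hw => (hrep1 ω w hw).trans (h w hw)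
    have h1 := hμc (rep ω) ⟨ω, hrep1 ω⟩ ⟨ω', hω'⟩
    have h2 : μ ω' = μc (rep ω) ⟨ω', hω'⟩ := htrans (rep ω') (rep ω) hr.symm ω' (hrep1 ω') hω'
    rw [h2]
    exact h1
  have hμ_same : ∀ ω ω' : W →* ℂˣ, (∀ w ∈ H, ω w = ω' w) → μ ω = μ ω' → ω = ω' := by
    intro ω ω' h hμe
    have hr := hrep2 ω ω' h
    have hω' : ∀ w ∈ H, rep ω w = ω' w := fun w hw => (hrep1 ω w hw).trans (h w hw)
    have h2 : μ ω' = μc (rep ω) ⟨ω', hω'⟩ := htrans (rep ω') (rep ω) hr.symm ω' (hrep1 ω') hω'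
    have h3 : μc (rep ω) ⟨ω, hrep1 ω⟩ = μc (rep ω) ⟨ω', hω'⟩ := hμe.trans h2
    exact congrArg Subtype.val (hμinj (rep ω) h3)
  have hδpm : ∀ ω, δ ω = 1 ∨ δ ω = -1 := fun ω => hδc (rep ω)
  have hδne : ∀ ω, δ ω ≠ 0 := by
    intro ω; rcases hδpm ω with h | h <;> rw [h] <;> norm_num
  have hδconj : ∀ ω, conj (δ ω) = δ ω := by
    intro ω; rcases hδpm ω with h | h <;> rw [h] <;> simp
  have hinj : Function.Injective μ := by
    intro ω ω' hμe
    by_cases hE : ∀ w ∈ H, ω w = ω' w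
    · exact hμ_same ω ω' hE hμe
    · exfalso
      obtain ⟨β, hβ, hβ1⟩ : ∃ β ∈ ann H, β ≠ 1 := by
        by_cases h : b₁.1 = 1
        · exact ⟨b₂.1, b₂.2, fun h' => h12 (Subtype.ext (h.trans h'.symm))⟩
        · exact ⟨b₁.1, b₁.2, h⟩
      have e1 := hagree ω β hβ
      have e2 := hagree ω' β hβ
      obtain ⟨-, q1⟩ := P4 ω (ω * β) e1
      obtain ⟨-, q2⟩ := P4 ω' (ω' * β) e2
      have hi := hinner ω (ω * β) ω' (ω' * β) e1 e2
      have n1 : ω ≠ ω' := fun h => hE (fun w _ => by rw [h])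
      have n2 : ω ≠ ω' * β := fun h => hE (fun w hw => by rw [h]; exact (e2 w hw).symm)
      have n3 : ω * β ≠ ω' := fun h => hE (fun w hw => by rw [← h]; exact e1 w hw)
      have n4 : ω * β ≠ ω' * β := fun h => n1 (mul_right_cancel h)
      rw [if_neg n1, if_neg n2, if_neg n3, if_neg n4, q1, q2] at hi
      rw [classInner_smul_left, classInner_smul_right, classInner_sub_left, classInner_sub_right,
        classInner_sub_right, classInner_irrCharacter, classInner_irrCharacter,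
        classInner_irrCharacter, classInner_irrCharacter] at hi
      have m1 : μ (ω * β) ≠ μ ω' := by
        rw [← hμe]
        intro h
        have h5 := hμ_same (ω * β) ω (fun w hw => (e1 w hw).symm) h
        exact hβ1 (mul_left_cancel (h5.trans (mul_one ω).symm))
      have m2 : μ ω ≠ μ (ω' * β) := by
        rw [hμe]
        intro h
        have h5 := hμ_same ω' (ω' * β) e2 h
        exact hβ1 (mul_left_cancel ((mul_one ω').trans h5)).symm
      rw [if_pos hμe, if_neg m2, if_neg m1] at hi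
      have hz : (0:ℂ) - 0 - 0 + 0 = 0 := by norm_num
      rw [hz] at hi
      rcases mul_eq_zero.mp hi with h | h
      · exact hδne ω h
      · rcases mul_eq_zero.mp h with h' | h'
        · rw [hδconj] at h'; exact hδne ω' h'
        · split_ifs at h' <;> norm_num at h'
  have key : ∀ (θ : IrrCharacter L) (ω β : W →* ℂˣ), β ∈ ann H →
      classInner (fun w : W => (θ : L → ℂ) w) (lf ω)
        - classInner (fun w : W => (θ : L → ℂ) w) (lf (ω * β))
        = δ ω * ((if μ ω = θ then 1 else 0) - (if μ (ω * β) = θ then 1 else 0)) := by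
    intro θ ω β hβ
    obtain ⟨-, q1⟩ := P4 ω (ω * β) (hagree ω β hβ)
    have hθcf := IsIrrCharacter.isClassFunction θ.2
    have h1 : classInner (indFun W (lf ω - lf (ω * β))) (θ : L → ℂ)
        = classInner (lf ω - lf (ω * β)) (fun w : W => (θ : L → ℂ) w) :=
      Cfsg.Agent.S0146.result W _ _ hθcf
    rw [q1, classInner_smul_left, classInner_sub_left, classInner_irrCharacter,
      classInner_irrCharacter, classInner_sub_left] at h1
    have h2 := congrArg conj h1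
    rw [map_mul, hδconj, map_sub, map_sub, classInner_conj_symm, classInner_conj_symm] at h2
    rw [← h2]
    congr 1
    split_ifs <;> simp
  have P6 : ∀ θ : IrrCharacter L, (∀ ω, θ ≠ μ ω) → ∀ w : W, w ∉ H → (θ : L → ℂ) w = 0 := by
    intro θ hθ w hw
    refine vanish_off hcommW H (fun w : W => (θ : L → ℂ) w) ?_ w hw
    intro ω β hβ
    have := key θ ω β hβ
    rw [if_neg (fun h => hθ ω h.symm), if_neg (fun h => hθ (ω * β) h.symm), sub_self,
      mul_zero] at this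
    exact sub_eq_zero.mp this
  have P5 : ∀ ω₀, ∀ w : W, w ∉ H → (μ ω₀ : L → ℂ) w = δ ω₀ * (ω₀ w : ℂ) := by
    intro ω₀ w hw
    have hg : (fun w : W => (μ ω₀ : L → ℂ) w - δ ω₀ * lf ω₀ w)
        = (fun w : W => (μ ω₀ : L → ℂ) w) - δ ω₀ • lf ω₀ := by
      funext w
      simp only [Pi.sub_apply, Pi.smul_apply, smul_eq_mul]
    have hh : ∀ ω : W →* ℂˣ, ∀ β ∈ ann H,
        classInner (fun w : W => (μ ω₀ : L → ℂ) w - δ ω₀ * lf ω₀ w) (lf ω)
          = classInner (fun w : W => (μ ω₀ : L → ℂ) w - δ ω₀ * lf ω₀ w) (lf (ω * β)) := by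
      intro ω β hβ
      have hk := key (μ ω₀) ω β hβ
      simp only [hinj.eq_iff] at hk
      have hδeq : ω * β = ω₀ → δ ω = δ ω₀ := fun h => by
        rw [← h]; exact (P4 ω (ω * β) (hagree ω β hβ)).1
      have hδeq' : ω = ω₀ → δ ω = δ ω₀ := fun h => by rw [h]
      rw [hg, classInner_sub_left, classInner_sub_left, classInner_smul_left,
        classInner_smul_left, lf_inner, lf_inner]
      by_cases c1 : ω = ω₀ <;> by_cases c2 : ω * β = ω₀
      · rw [if_pos c1, if_pos c2] at hk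
        rw [if_pos c1.symm, if_pos c2.symm]
        linear_combination hk
      · rw [if_pos c1, if_neg c2] at hk
        rw [if_pos c1.symm, if_neg (fun h => c2 h.symm)]
        linear_combination hk + hδeq' c1
      · rw [if_neg c1, if_pos c2] at hk
        rw [if_neg (fun h => c1 h.symm), if_pos c2.symm]
        linear_combination hk - hδeq c2
      · rw [if_neg c1, if_neg c2] at hk
        rw [if_neg (fun h => c1 h.symm), if_neg (fun h => c2 h.symm)]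
        linear_combination hk
    have hv : (μ ω₀ : L → ℂ) w - δ ω₀ * lf ω₀ w = 0 :=
      vanish_off hcommW H (fun w : W => (μ ω₀ : L → ℂ) w - δ ω₀ * lf ω₀ w) hh w hw
    exact sub_eq_zero.mp hv
  exact ⟨μ, δ, hinj, hδpm, P4, P5, P6⟩

end family

section main
variable {L : Type*} [Group L] [Fintype L] (K W₁ W₂ : Subgroup L) [hK : K.Normal]

theorem s1511 (hKW₁ : K ⊓ W₁ = ⊥) (hKW₁' : K ⊔ W₁ = ⊤) (hW₁ : W₁ ≠ ⊥) (hW₁c : IsCyclic W₁)
    (hHall : Nat.Coprime (Nat.card W₁) W₁.index) (hW₂c : IsCyclic W₂) (hW₂K : W₂ ≤ K)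
    (hC : ∀ x ∈ W₁, x ≠ 1 → K ⊓ Subgroup.centralizer ({x} : Set L) = W₂)
    (hodd : Odd (Nat.card ↥(W₁ ⊔ W₂))) :
    ∃ (μ : (↥(W₁ ⊔ W₂) →* ℂˣ) → (L → ℂ)) (δ : (↥(W₁ ⊔ W₂) →* ℂˣ) → ℂ),
      Function.Injective μ ∧ (∀ ω, Cfsg.IsIrrCharacter L (μ ω)) ∧ (∀ ω, δ ω = 1 ∨ δ ω = -1) ∧
      (∀ ω ω' : ↥(W₁ ⊔ W₂) →* ℂˣ, (∀ w : ↥(W₁ ⊔ W₂), (w : L) ∈ W₂ → ω w = ω' w) →
        δ ω = δ ω' ∧ Cfsg.indFun (W₁ ⊔ W₂) (fun w => (ω w : ℂ) - (ω' w : ℂ))
          = δ ω • (μ ω - μ ω')) ∧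
      (∀ ω, ∀ w : ↥(W₁ ⊔ W₂), (w : L) ∉ W₂ → μ ω w = δ ω * (ω w : ℂ)) ∧
      (∀ θ : L → ℂ, Cfsg.IsIrrCharacter L θ → (∀ ω, θ ≠ μ ω) →
        ∀ w : ↥(W₁ ⊔ W₂), (w : L) ∉ W₂ → θ w = 0) ∧
      (∀ ω, ∃ n : ℤ, μ ω 1 - δ ω = n * (Nat.card W₁ : ℂ)) := by
  classical
  letI : Fintype ↥(W₁ ⊔ W₂) := Fintype.ofFinite _
  obtain ⟨hcommW, hdisj12, iso, hcard⟩ :=
    kw_group K W₁ W₂ hKW₁ hKW₁' hW₁ hW₁c hHall hW₂c hW₂K hC hodd
  obtain ⟨μ, δ, hinj, hδ, P4, P5, P6⟩ :=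
    star_family (W₁ ⊔ W₂) hcommW (W₂.subgroupOf (W₁ ⊔ W₂)) iso hcard
  refine ⟨fun ω => (μ ω : L → ℂ), δ, ?_, fun ω => (μ ω).2, hδ, ?_, ?_, ?_, ?_⟩
  · intro ω ω' h; exact hinj (Subtype.ext h)
  · intro ω ω' h
    exact P4 ω ω' (fun w hw => h w (Subgroup.mem_subgroupOf.mp hw))
  · intro ω w hw
    exact P5 ω w (fun h => hw (Subgroup.mem_subgroupOf.mp h))
  · intro θ hθ hne w hw
    exact P6 ⟨θ, hθ⟩ (fun ω h => hne ω (congrArg Subtype.val h)) w
      (fun h => hw (Subgroup.mem_subgroupOf.mp h))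
  · intro ω
    show ∃ n : ℤ, (μ ω : L → ℂ) 1 - δ ω = n * (Nat.card W₁ : ℂ)
    letI : Fintype ↥W₁ := Fintype.ofFinite _
    have hcf := IsIrrCharacter.isClassFunction (μ ω).2
    obtain ⟨m, hm⟩ := IsCharacter.classInner_nat
      (IsCharacter.indFun W₁ (isCharacter_one (G := ↥W₁))) (IsIrrCharacter.isCharacter (μ ω).2)
    rw [Cfsg.Agent.S0146.result W₁ (fun _ => (1:ℂ)) _ hcf] at hm
    have hcW₁ : (Nat.card W₁ : ℂ) ≠ 0 := by
      have : Nat.card W₁ ≠ 0 := Nat.card_pos.ne'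
      exact_mod_cast this
    have hsum1 : ∑ u : W₁, (μ ω : L → ℂ) u = (Nat.card W₁ : ℂ) * m := by
      unfold classInner at hm
      have h1 : ∑ u : W₁, (1:ℂ) * conj ((μ ω : L → ℂ) u) = (Nat.card W₁ : ℂ) * m := by
        rw [← hm, ← mul_assoc, mul_inv_cancel₀ hcW₁, one_mul]
      have h2 := congrArg conj h1
      rw [map_sum, map_mul, Complex.conj_natCast, Complex.conj_natCast] at h2
      rw [← h2]
      refine Finset.sum_congr rfl fun u _ => ?_
      rw [one_mul, Complex.conj_conj]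
    let f : W₁ →* ℂ := (Units.coeHom ℂ).comp (ω.comp (Subgroup.inclusion le_sup_left))
    have hsum2 : ∑ u : W₁, f u = if f = 1 then (Nat.card W₁ : ℂ) else 0 := by
      have h := sum_hom_units f
      rw [h]
      split_ifs
      · rw [Nat.card_eq_fintype_card]
      · rw [Nat.cast_zero]
    have hsum3 : ∑ u : W₁, ((μ ω : L → ℂ) u - δ ω * f u) = (μ ω : L → ℂ) 1 - δ ω := by
      rw [Finset.sum_eq_single (1 : W₁)]
      · rw [map_one, mul_one, Subgroup.coe_one]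
      · intro u _ hu
        have hu' : (u : L) ∉ W₂ := by
          intro h
          apply hu
          apply Subtype.ext
          have : (u:L) ∈ W₁ ⊓ W₂ := ⟨u.2, h⟩
          rw [hdisj12, Subgroup.mem_bot] at this
          exact this
        have := P5 ω (Subgroup.inclusion le_sup_left u)
          (fun h => hu' (Subgroup.mem_subgroupOf.mp h))
        rw [sub_eq_zero]
        exact this
      · intro h; exact absurd (Finset.mem_univ _) h
    have htot : (μ ω : L → ℂ) 1 - δ ω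
        = (Nat.card W₁ : ℂ) * m - δ ω * (if f = 1 then (Nat.card W₁ : ℂ) else 0) := by
      rw [← hsum3, Finset.sum_sub_distrib, ← Finset.mul_sum, hsum1, hsum2]
    by_cases hf1 : f = 1
    · rw [if_pos hf1] at htot
      rcases hδ ω with hd | hd
      · refine ⟨(m : ℤ) - 1, ?_⟩
        rw [htot, hd]; push_cast; ring
      · refine ⟨(m : ℤ) + 1, ?_⟩
        rw [htot, hd]; push_cast; ring
    · rw [if_neg hf1] at htot
      refine ⟨(m : ℤ), ?_⟩
      rw [htot]; push_cast; ring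

end main

end Cfsg.Agent.Lib.Lead.KW
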