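import Mathlib
import Cfsg.Agent.Lib.Lead.KleinSylow

set_option autoImplicit false

namespace Cfsg.Agent.Lib.Lead
namespace KleinSylow

variable {G : Type*} [Group G] [Finite G]

/-- the three involutions of a Klein four Sylow 2-subgroup and their fusion -/
theorem three_invols (P : Sylow 2 G) (hP : IsKleinFour (P : Subgroup G)) :
    ∃ a b c : G, a ∈ P ∧ b ∈ P ∧ c ∈ P ∧ orderOf a = 2 ∧ orderOf b = 2 ∧ orderOf c = 2 ∧
      a ≠ b ∧ a ≠ c ∧ b ≠ c ∧ (∀ w ∈ P, w = 1 ∨ w = a ∨ w = b ∨ w = c) ∧
      (∀ t : G, orderOf t = 2 → IsConj t a ∨ IsConj t b ∨ IsConj t c) ∧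
      ((IsConj a b ∧ IsConj a c ∧ IsConj b c) ∨
        (¬ IsConj a b ∧ ¬ IsConj a c ∧ ¬ IsConj b c)) := by
  obtain ⟨a, b, ha, hb, ha1, hb1, hab, hall⟩ := exists_three (P : Subgroup G) hP
  have hoa := orderOf_two_of_mem (P : Subgroup G) hP a ha ha1
  have hob := orderOf_two_of_mem (P : Subgroup G) hP b hb hb1
  have haa : a * a = 1 := invol_mul_self hoa
  have hbb : b * b = 1 := invol_mul_self hob
  have hc : a * b ∈ P := mul_mem ha hb
  have hc1 : a * b ≠ 1 := by
    intro h
    apply hab
    have : a * b = a * a := by rw [h, haa]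
    exact (mul_left_cancel this).symm
  have hac : a ≠ a * b := by
    intro h
    apply hb1
    have : a * 1 = a * b := by rw [mul_one]; exact h
    exact (mul_left_cancel this).symm
  have hbc : b ≠ a * b := by
    intro h
    apply ha1
    have : 1 * b = a * b := by rw [one_mul]; exact h
    exact (mul_right_cancel this).symm
  have hoc := orderOf_two_of_mem (P : Subgroup G) hP (a * b) hc hc1
  refine ⟨a, b, a * b, ha, hb, hc, hoa, hob, hoc, hab, hac, hbc, hall, ?_, ?_⟩
  · intro t ht
    obtain ⟨g, hg⟩ := conj_mem_sylow P t ht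
    have hne : g * t * g⁻¹ ≠ 1 := by
      intro h
      have : t = 1 := by
        have h2 : g * t * g⁻¹ = g * 1 * g⁻¹ := by rw [h]; group
        exact mul_left_cancel (mul_right_cancel h2)
      rw [this, orderOf_one] at ht
      omega
    rcases hall _ hg with h | h | h | h
    · exact absurd h hne
    · left; exact isConj_iff.mpr ⟨g, h⟩
    · right; left; exact isConj_iff.mpr ⟨g, h⟩
    · right; right; exact isConj_iff.mpr ⟨g, h⟩
  · by_cases h1 : IsConj b (a * b)
    · left
      have h2 : IsConj a b := conj_all P hP a b (a * b) ha hb hc ha1 hb1 hc1 hab hac hbc hall h1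
      exact ⟨h2, h2.trans h1, h1⟩
    by_cases h2 : IsConj a (a * b)
    · exfalso
      apply h1
      have hall' : ∀ w ∈ P, w = 1 ∨ w = b ∨ w = a ∨ w = a * b := by
        intro w hw
        rcases hall w hw with h | h | h | h
        · left; exact h
        · right; right; left; exact h
        · right; left; exact h
        · right; right; right; exact h
      have h3 : IsConj b a :=
        conj_all P hP b a (a * b) hb ha hc hb1 ha1 hc1 (Ne.symm hab) hbc hac hall' h2
      exact h3.trans h2
    by_cases h3 : IsConj a b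
    · exfalso
      apply h2
      have hall' : ∀ w ∈ P, w = 1 ∨ w = a * b ∨ w = a ∨ w = b := by
        intro w hw
        rcases hall w hw with h | h | h | h
        · left; exact h
        · right; right; left; exact h
        · right; right; right; exact h
        · right; left; exact h
      have h4 : IsConj (a * b) a :=
        conj_all P hP (a * b) a b hc ha hb hc1 ha1 hb1 (Ne.symm hac) (Ne.symm hbc) hab hall' h3
      exact h4.symm
    right
    exact ⟨h3, h2, h1⟩

/-- the type of classes of involutions -/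
abbrev InvClasses (G : Type*) [Group G] :=
  {C : ConjClasses G // ∃ t : G, orderOf t = 2 ∧ ConjClasses.mk t = C}

theorem card_invClasses (P : Sylow 2 G) (hP : IsKleinFour (P : Subgroup G)) :
    ∃ a b c : G, a ∈ P ∧ b ∈ P ∧ c ∈ P ∧ orderOf a = 2 ∧ orderOf b = 2 ∧ orderOf c = 2 ∧
      a ≠ b ∧ a ≠ c ∧ b ≠ c ∧ (∀ w ∈ P, w = 1 ∨ w = a ∨ w = b ∨ w = c) ∧
      ((IsConj a b ∧ IsConj a c ∧ IsConj b c ∧ Nat.card (InvClasses G) = 1) ∨
        (¬ IsConj a b ∧ ¬ IsConj a c ∧ ¬ IsConj b c ∧ Nat.card (InvClasses G) = 3)) := by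
  obtain ⟨a, b, c, ha, hb, hc, hoa, hob, hoc, hab, hac, hbc, hall, hconj, hcase⟩ :=
    three_invols P hP
  refine ⟨a, b, c, ha, hb, hc, hoa, hob, hoc, hab, hac, hbc, hall, ?_⟩
  have hcls : ∀ C : InvClasses G, C.1 = ConjClasses.mk a ∨ C.1 = ConjClasses.mk b ∨
      C.1 = ConjClasses.mk c := by
    rintro ⟨C, t, ht, rfl⟩
    rcases hconj t ht with h | h | h
    · left; exact ConjClasses.mk_eq_mk_iff_isConj.mpr h
    · right; left; exact ConjClasses.mk_eq_mk_iff_isConj.mpr h
    · right; right; exact ConjClasses.mk_eq_mk_iff_isConj.mpr h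
  rcases hcase with ⟨h1, h2, h3⟩ | ⟨h1, h2, h3⟩
  · left
    refine ⟨h1, h2, h3, ?_⟩
    have e1 : ConjClasses.mk b = ConjClasses.mk a := ConjClasses.mk_eq_mk_iff_isConj.mpr h1.symm
    have e2 : ConjClasses.mk c = ConjClasses.mk a := ConjClasses.mk_eq_mk_iff_isConj.mpr h2.symm
    rw [Nat.card_eq_one_iff_unique]
    constructor
    · constructor
      intro C D
      apply Subtype.ext
      have hC : C.1 = ConjClasses.mk a := by
        rcases hcls C with h | h | h
        · exact h
        · rw [h, e1]
        · rw [h, e2]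
      have hD : D.1 = ConjClasses.mk a := by
        rcases hcls D with h | h | h
        · exact h
        · rw [h, e1]
        · rw [h, e2]
      rw [hC, hD]
    · exact ⟨⟨ConjClasses.mk a, a, hoa, rfl⟩⟩
  · right
    refine ⟨h1, h2, h3, ?_⟩
    have n1 : ConjClasses.mk a ≠ ConjClasses.mk b := fun h =>
      h1 (ConjClasses.mk_eq_mk_iff_isConj.mp h)
    have n2 : ConjClasses.mk a ≠ ConjClasses.mk c := fun h =>
      h2 (ConjClasses.mk_eq_mk_iff_isConj.mp h)
    have n3 : ConjClasses.mk b ≠ ConjClasses.mk c := fun h =>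
      h3 (ConjClasses.mk_eq_mk_iff_isConj.mp h)
    let f : Fin 3 → InvClasses G := fun i =>
      if i = 0 then ⟨ConjClasses.mk a, a, hoa, rfl⟩
      else if i = 1 then ⟨ConjClasses.mk b, b, hob, rfl⟩
      else ⟨ConjClasses.mk c, c, hoc, rfl⟩
    have hf : Function.Bijective f := by
      constructor
      · intro i j hij
        have hv := congrArg Subtype.val hij
        fin_cases i <;> fin_cases j <;> simp [f] at hv ⊢
        · exact absurd hv n1
        · exact absurd hv n2
        · exact absurd hv.symm n1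
        · exact absurd hv n3
        · exact absurd hv.symm n2
        · exact absurd hv.symm n3
      · intro C
        rcases hcls C with h | h | h
        · exact ⟨0, Subtype.ext (by simp [f, h])⟩
        · exact ⟨1, Subtype.ext (by simp [f, h])⟩
        · exact ⟨2, Subtype.ext (by simp [f, h])⟩
    rw [← Nat.card_congr (Equiv.ofBijective f hf)]
    simp

end KleinSylow
end Cfsg.Agent.Lib.Lead
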