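import Mathlib

set_option autoImplicit false

/-!
Abstract eigen-character counting for a finite abelian group `V` acting through `x : V → G`
and a matrix representation `M` of `G` over a field `K'` containing the values of `ψ`.
-/

namespace Cfsg.Agent.Lib.Lead.LS3

open Matrix

section Frame

variable {F : Type*} [Field F] {K' : Type*} [Field K'] {V : Type*} [AddCommGroup V] [Fintype V]
  {G : Type*} [Group G] {d : ℕ}

theorem sum_eq_zero_of_shift (f : V → K') (v₀ : V) (c : K') (hc : c ≠ 1)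
    (h : ∀ v, f (v + v₀) = c * f v) : ∑ v, f v = 0 := by
  have key : ∑ v, f v = c * ∑ v, f v := by
    calc ∑ v, f v = ∑ v, f (Equiv.addRight v₀ v) :=
          (Equiv.sum_comp (Equiv.addRight v₀) f).symm
      _ = ∑ v, c * f v := Finset.sum_congr rfl fun v _ => h v
      _ = c * ∑ v, f v := by rw [Finset.mul_sum]
  have h1 : (1 - c) * ∑ v, f v = 0 := by
    rw [sub_mul, one_mul, ← key, sub_self]
  rcases mul_eq_zero.mp h1 with h2 | h2
  · exact absurd (sub_eq_zero.mp h2).symm hc
  · exact h2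

/-- the data of a nondegenerate pairing and an additive map into a group. -/
structure Frame (ψ : AddChar F K') (pr : V → V → F) (x : V → G) : Prop where
  add_r : ∀ w v v', pr w (v + v') = pr w v + pr w v'
  add_l : ∀ w w' v, pr (w + w') v = pr w v + pr w' v
  nd_l : ∀ w, w ≠ 0 → ∃ v, ψ (pr w v) ≠ 1
  nd_r : ∀ v, v ≠ 0 → ∃ w, ψ (pr w v) ≠ 1
  x_add : ∀ v v', x (v + v') = x v * x v'

/-- the (unnormalised) projector onto the `w`-eigenspace. -/
noncomputable def emat (ψ : AddChar F K') (pr : V → V → F) (x : V → G)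
    (M : G →* Matrix (Fin d) (Fin d) K') (w : V) : Matrix (Fin d) (Fin d) K' :=
  ∑ v, ψ (-pr w v) • M (x v)

/-- `w` is an eigen-character of the action. -/
def Eig (ψ : AddChar F K') (pr : V → V → F) (x : V → G)
    (M : G →* Matrix (Fin d) (Fin d) K') (w : V) : Prop :=
  ∃ y : Fin d → K', y ≠ 0 ∧ ∀ v, M (x v) *ᵥ y = ψ (pr w v) • y

namespace Frame

variable {ψ : AddChar F K'} {pr : V → V → F} {x : V → G}

theorem pr_zero_r (hF : Frame ψ pr x) (w : V) : pr w 0 = 0 := by
  have h := hF.add_r w 0 0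
  rw [add_zero] at h
  linear_combination -h

theorem pr_zero_l (hF : Frame ψ pr x) (v : V) : pr 0 v = 0 := by
  have h := hF.add_l 0 0 v
  rw [add_zero] at h
  linear_combination -h

theorem pr_sub_l (hF : Frame ψ pr x) (w' w v : V) : pr (w' - w) v = pr w' v - pr w v := by
  have h := hF.add_l (w' - w) w v
  rw [sub_add_cancel] at h
  linear_combination -h

theorem x_zero (hF : Frame ψ pr x) : x 0 = 1 := by
  have h := hF.x_add 0 0
  rw [add_zero] at h
  have h2 : x 0 * x 0 = x 0 * 1 := by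
    rw [mul_one]
    exact h.symm
  exact mul_left_cancel h2

theorem orth_l (hF : Frame ψ pr x) (w : V) (hw : w ≠ 0) : ∑ v, ψ (pr w v) = 0 := by
  obtain ⟨v₀, hv₀⟩ := hF.nd_l w hw
  refine sum_eq_zero_of_shift _ v₀ (ψ (pr w v₀)) hv₀ fun v => ?_
  rw [hF.add_r, AddChar.map_add_eq_mul, mul_comm]

theorem orth_r (hF : Frame ψ pr x) (v : V) (hv : v ≠ 0) : ∑ w, ψ (-pr w v) = 0 := by
  obtain ⟨w₀, hw₀⟩ := hF.nd_r v hv
  refine sum_eq_zero_of_shift _ w₀ (ψ (-pr w₀ v)) ?_ fun w => ?_
  · intro h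
    apply hw₀
    rw [AddChar.map_neg_eq_inv, inv_eq_one] at h
    exact h
  · rw [hF.add_l, neg_add, AddChar.map_add_eq_mul, mul_comm]

theorem mul_emat (hF : Frame ψ pr x) (M : G →* Matrix (Fin d) (Fin d) K') (u w : V) :
    M (x u) * emat ψ pr x M w = ψ (pr w u) • emat ψ pr x M w := by
  unfold emat
  rw [Finset.mul_sum, Finset.smul_sum]
  calc ∑ v, M (x u) * (ψ (-pr w v) • M (x v))
      = ∑ v, ψ (pr w u) • (ψ (-pr w (u + v)) • M (x (u + v))) := by
        refine Finset.sum_congr rfl fun v _ => ?_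
        have h : ψ (-pr w v) = ψ (pr w u) * ψ (-pr w (u + v)) := by
          rw [← AddChar.map_add_eq_mul]
          congr 1
          rw [hF.add_r]
          ring
        rw [Matrix.mul_smul, ← map_mul, ← hF.x_add, smul_smul, h]
    _ = ∑ v, ψ (pr w u) • (ψ (-pr w v) • M (x v)) :=
        Equiv.sum_comp (Equiv.addLeft u)
          (fun v => ψ (pr w u) • (ψ (-pr w v) • M (x v)))

theorem emat_mulVec (hF : Frame ψ pr x) (M : G →* Matrix (Fin d) (Fin d) K') (w w' : V)
    (y : Fin d → K') (hy : ∀ v, M (x v) *ᵥ y = ψ (pr w' v) • y) :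
    emat ψ pr x M w *ᵥ y = (∑ v, ψ (pr (w' - w) v)) • y := by
  unfold emat
  rw [Matrix.sum_mulVec, Finset.sum_smul]
  refine Finset.sum_congr rfl fun v _ => ?_
  rw [Matrix.smul_mulVec, hy v, smul_smul, ← AddChar.map_add_eq_mul]
  congr 2
  rw [hF.pr_sub_l]
  ring

theorem sum_emat (hF : Frame ψ pr x) (M : G →* Matrix (Fin d) (Fin d) K') :
    ∑ w, emat ψ pr x M w = (Fintype.card V : K') • (1 : Matrix (Fin d) (Fin d) K') := by
  classical
  unfold emat
  rw [Finset.sum_comm]
  have inner : ∀ v : V, ∑ w : V, ψ (-pr w v) • M (x v)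
      = (if v = 0 then (Fintype.card V : K') else 0) • M (x v) := by
    intro v
    rw [← Finset.sum_smul]
    congr 1
    split_ifs with h
    · subst h
      simp only [hF.pr_zero_r, neg_zero, AddChar.map_zero_eq_one, Finset.sum_const,
        Finset.card_univ, nsmul_eq_mul, mul_one]
    · exact hF.orth_r v h
  rw [Finset.sum_congr rfl (fun v _ => inner v), Finset.sum_eq_single (0 : V)]
  · simp [hF.x_zero]
  · intro v _ hv
    simp [hv]
  · intro h
    exact absurd (Finset.mem_univ _) h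

theorem emat_eq_zero (hF : Frame ψ pr x) (M : G →* Matrix (Fin d) (Fin d) K') (w : V)
    (h : ¬ Eig ψ pr x M w) : emat ψ pr x M w = 0 := by
  apply Matrix.mulVec_injective
  funext z
  rw [zero_mulVec]
  by_contra hz
  apply h
  refine ⟨emat ψ pr x M w *ᵥ z, hz, fun v => ?_⟩
  rw [mulVec_mulVec, hF.mul_emat, smul_mulVec]

theorem exists_char (hF : Frame ψ pr x) (hN : (Fintype.card V : K') ≠ 0)
    (M : G →* Matrix (Fin d) (Fin d) K') (v₀ : V) (hv₀ : M (x v₀) ≠ 1) :
    ∃ w, Eig ψ pr x M w ∧ ψ (pr w v₀) ≠ 1 := by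
  by_contra hcon
  push Not at hcon
  apply hv₀
  have h1 : ∀ w, ψ (pr w v₀) • emat ψ pr x M w = emat ψ pr x M w := by
    intro w
    by_cases hw : Eig ψ pr x M w
    · rw [hcon w hw, one_smul]
    · rw [hF.emat_eq_zero M w hw, smul_zero]
  have h2 : M (x v₀) * ((Fintype.card V : K') • (1 : Matrix (Fin d) (Fin d) K'))
      = (Fintype.card V : K') • (1 : Matrix (Fin d) (Fin d) K') := by
    rw [← hF.sum_emat M, Finset.mul_sum]
    refine Finset.sum_congr rfl fun w _ => ?_
    rw [hF.mul_emat, h1]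
  rw [Matrix.mul_smul, mul_one] at h2
  have h3 := congrArg (fun B => (Fintype.card V : K')⁻¹ • B) h2
  simp only [smul_smul, inv_mul_cancel₀ hN, one_smul] at h3
  exact h3

theorem card_le (hF : Frame ψ pr x) (hN : (Fintype.card V : K') ≠ 0)
    (M : G →* Matrix (Fin d) (Fin d) K') (T : Finset V) (hT : ∀ w ∈ T, Eig ψ pr x M w) :
    T.card ≤ d := by
  classical
  have hall : ∀ w : ↥T, ∃ y : Fin d → K', y ≠ 0 ∧ ∀ v, M (x v) *ᵥ y = ψ (pr w.1 v) • y :=
    fun w => hT w.1 w.2
  choose y hy0 hy using hall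
  have hli : LinearIndependent K' y := by
    rw [linearIndependent_iff']
    intro s g hg i hi
    have h1 : emat ψ pr x M i.1 *ᵥ (∑ j ∈ s, g j • y j) = 0 := by rw [hg, mulVec_zero]
    rw [mulVec_sum] at h1
    have h2 : ∀ j ∈ s, emat ψ pr x M i.1 *ᵥ (g j • y j)
        = if j = i then (g j * (Fintype.card V : K')) • y j else 0 := by
      intro j _
      rw [mulVec_smul, hF.emat_mulVec M i.1 j.1 (y j) (hy j)]
      split_ifs with h
      · subst h
        rw [sub_self]
        simp only [hF.pr_zero_l, AddChar.map_zero_eq_one, Finset.sum_const, Finset.card_univ,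
          nsmul_eq_mul, mul_one, smul_smul]
      · rw [hF.orth_l (j.1 - i.1) (sub_ne_zero.mpr (fun h' => h (Subtype.ext h'))), zero_smul,
          smul_zero]
    rw [Finset.sum_congr rfl h2, Finset.sum_ite_eq' s i, if_pos hi] at h1
    rcases smul_eq_zero.mp h1 with h | h
    · rcases mul_eq_zero.mp h with h | h
      · exact h
      · exact absurd h hN
    · exact absurd h (hy0 i)
  have hcard := hli.fintype_card_le_finrank
  rw [Module.finrank_fin_fun, Fintype.card_coe] at hcard
  exact hcard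

end Frame

end Frame

end Cfsg.Agent.Lib.Lead.LS3
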