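import Mathlib
import Cfsg.Agent.Lib.Lead.LS2
import Cfsg.Agent.Lib.Lead.LS3
import Cfsg.Agent.Lib.Helper5.TvGL

set_option autoImplicit false

/-!
Landazuri–Seitz type bound for `Sp_{2n}(q)`, `q` odd.
-/

namespace Cfsg.Agent.Lib.Lead.LS4

open Matrix
open Cfsg.Agent.Lib.Helper5.TvGL

section Sp

variable {F : Type*} [Field F] {n : ℕ}

/-- the unipotent element `[[1, T + Tᵀ], [0, 1]]`. -/
def um (T : Matrix (Fin n) (Fin n) F) : symplecticGroup (Fin n) F :=
  ⟨fromBlocks 1 (T + Tᵀ) 0 1, by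
    rw [SymplecticGroup.fromBlocks_mem_iff]
    refine ⟨by simp, ?_, by simp⟩
    simp [transpose_add, add_comm]⟩

theorem um_add (T T' : Matrix (Fin n) (Fin n) F) : um (T + T') = um T * um T' := by
  apply Subtype.ext
  show fromBlocks 1 ((T + T') + (T + T')ᵀ) 0 1
    = fromBlocks 1 (T + Tᵀ) 0 1 * fromBlocks 1 (T' + T'ᵀ) 0 1
  rw [fromBlocks_multiply, transpose_add]
  simp only [Matrix.mul_one, Matrix.one_mul, Matrix.mul_zero, Matrix.zero_mul, add_zero, zero_add]
  congr 1
  abel

/-- the Levi element `diag(A, B)` with `Aᵀ B = 1`. -/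
def gl (A B : Matrix (Fin n) (Fin n) F) (h : Aᵀ * B = 1) : symplecticGroup (Fin n) F :=
  ⟨fromBlocks A 0 0 B, by
    rw [SymplecticGroup.fromBlocks_mem_iff]
    refine ⟨by simp, by simp, by simp [h]⟩⟩

theorem um_mul_gl (T A B : Matrix (Fin n) (Fin n) F) (h : Aᵀ * B = 1) :
    um T * gl A B h = gl A B h * um (Bᵀ * T * B) := by
  have h' : A * Bᵀ = 1 := by
    have h1 : Bᵀ * A = 1 := by
      have h0 := congrArg Matrix.transpose h
      rwa [transpose_mul, transpose_transpose, transpose_one] at h0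
    exact mul_eq_one_comm.mp h1
  apply Subtype.ext
  show fromBlocks 1 (T + Tᵀ) 0 1 * fromBlocks A 0 0 B
    = fromBlocks A 0 0 B * fromBlocks 1 (Bᵀ * T * B + (Bᵀ * T * B)ᵀ) 0 1
  rw [fromBlocks_multiply, fromBlocks_multiply]
  have h2 : A * (Bᵀ * T * B + (Bᵀ * T * B)ᵀ) = (T + Tᵀ) * B := by
    rw [transpose_mul, transpose_mul, transpose_transpose]
    simp only [Matrix.mul_add, ← Matrix.mul_assoc, h', Matrix.one_mul, Matrix.add_mul]
  simp only [Matrix.mul_one, Matrix.one_mul, Matrix.mul_zero, Matrix.zero_mul, add_zero,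
    zero_add, h2]

/-- the trace pairing on matrices. -/
def pr (W T : Matrix (Fin n) (Fin n) F) : F := trace (Wᵀ * T)

theorem pr_eq (W T : Matrix (Fin n) (Fin n) F) : pr W T = ∑ i, ∑ j, W i j * T i j := by
  unfold pr
  simp only [trace, diag_apply, mul_apply, transpose_apply]
  rw [Finset.sum_comm]

theorem pr_comm (W T : Matrix (Fin n) (Fin n) F) : pr W T = pr T W := by
  rw [pr_eq, pr_eq]
  exact Finset.sum_congr rfl fun i _ => Finset.sum_congr rfl fun j _ => mul_comm _ _

theorem pr_single (W : Matrix (Fin n) (Fin n) F) (i j : Fin n) (c : F) :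
    pr W (Matrix.single i j c) = W i j * c := by
  rw [pr_eq, Finset.sum_eq_single i, Finset.sum_eq_single j]
  · simp [Matrix.single_apply]
  · intro j' _ hj'
    simp [Matrix.single_apply, Ne.symm hj']
  · intro h
    exact absurd (Finset.mem_univ _) h
  · intro i' _ hi'
    apply Finset.sum_eq_zero
    intro j' _
    simp [Matrix.single_apply, Ne.symm hi']
  · intro h
    exact absurd (Finset.mem_univ _) h

theorem pr_conj (W T B : Matrix (Fin n) (Fin n) F) :
    pr W (Bᵀ * T * B) = pr (B * W * Bᵀ) T := by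
  unfold pr
  have h1 : (B * W * Bᵀ)ᵀ = B * Wᵀ * Bᵀ := by
    rw [transpose_mul, transpose_mul, transpose_transpose, Matrix.mul_assoc]
  rw [h1]
  calc trace (Wᵀ * (Bᵀ * T * B)) = trace ((Wᵀ * Bᵀ * T) * B) := by
        simp only [Matrix.mul_assoc]
    _ = trace (B * (Wᵀ * Bᵀ * T)) := trace_mul_comm _ _
    _ = trace (B * Wᵀ * Bᵀ * T) := by simp only [Matrix.mul_assoc]

theorem tvMat_transpose (φ v : Fin n → F) : (tvMat φ v)ᵀ = tvMat v φ := by
  unfold tvMat
  rw [transpose_add, transpose_one, transpose_vecMulVec]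

theorem det_tvMat' (φ v : Fin n → F) : (tvMat φ v).det = 1 + φ ⬝ᵥ v := by
  unfold tvMat
  rw [vecMulVec_eq Unit, det_one_add_replicateCol_mul_replicateRow]

theorem row_formula {n' : ℕ} (W : Matrix (Fin (n' + 1)) (Fin (n' + 1)) F)
    (t : Fin (n' + 1) → F) (j : Fin (n' + 1)) :
    (tvMat (Pi.single (0 : Fin (n' + 1)) (1 : F)) t * W
        * (tvMat (Pi.single (0 : Fin (n' + 1)) (1 : F)) t)ᵀ) 0 j
      = (W 0 j + t j * W 0 0) * (1 + t 0) := by
  have h1 : (tvMat (Pi.single (0 : Fin (n' + 1)) (1 : F)) t * W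
        * (tvMat (Pi.single (0 : Fin (n' + 1)) (1 : F)) t)ᵀ) 0 j
      = ((tvMat (Pi.single (0 : Fin (n' + 1)) (1 : F)) t * W
        * (tvMat (Pi.single (0 : Fin (n' + 1)) (1 : F)) t)ᵀ) *ᵥ Pi.single j 1) 0 := by
    rw [mulVec_single_one, col_apply]
  rw [h1, tvMat_transpose, ← mulVec_mulVec, ← mulVec_mulVec, tvMat_mulVec, tvMat_mulVec]
  simp only [dotProduct_single, single_dotProduct, mul_one, one_mul, mulVec_add, mulVec_smul,
    mulVec_single_one, Pi.add_apply, Pi.smul_apply, col_apply, smul_eq_mul]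
  ring

end Sp

section Count

variable {F : Type*} [Field F] [Fintype F] {K' : Type*} [Field K'] {n d : ℕ}

theorem frame (ψ : AddChar F K') (hψ : ∃ a, ψ a ≠ 1) :
    LS3.Frame ψ (pr : Matrix (Fin n) (Fin n) F → Matrix (Fin n) (Fin n) F → F) um where
  add_r := by
    intro W T T'
    unfold pr
    rw [Matrix.mul_add, trace_add]
  add_l := by
    intro W W' T
    unfold pr
    rw [transpose_add, Matrix.add_mul, trace_add]
  nd_l := by
    intro W hW
    obtain ⟨a, ha⟩ := hψ
    obtain ⟨i, j, hij⟩ : ∃ i j, W i j ≠ 0 := by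
      by_contra h
      push Not at h
      exact hW (Matrix.ext h)
    refine ⟨Matrix.single i j (a / W i j), ?_⟩
    rw [pr_single]
    have : W i j * (a / W i j) = a := by field_simp
    rw [this]
    exact ha
  nd_r := by
    intro T hT
    obtain ⟨a, ha⟩ := hψ
    obtain ⟨i, j, hij⟩ : ∃ i j, T i j ≠ 0 := by
      by_contra h
      push Not at h
      exact hT (Matrix.ext h)
    refine ⟨Matrix.single i j (a / T i j), ?_⟩
    rw [pr_comm, pr_single]
    have : T i j * (a / T i j) = a := by field_simp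
    rw [this]
    exact ha
  x_add := um_add

theorem eig_conj (ψ : AddChar F K')
    (M : symplecticGroup (Fin n) F →* Matrix (Fin d) (Fin d) K')
    (W B : Matrix (Fin n) (Fin n) F) (hB : IsUnit B.det)
    (hW : LS3.Eig ψ pr um M W) : LS3.Eig ψ pr um M (B * W * Bᵀ) := by
  obtain ⟨y, hy0, hy⟩ := hW
  have h : ((B⁻¹)ᵀ)ᵀ * B = 1 := by rw [transpose_transpose, nonsing_inv_mul B hB]
  refine ⟨M (gl (B⁻¹)ᵀ B h) *ᵥ y, ?_, ?_⟩
  · intro h0
    apply hy0
    have hh : M ((gl (B⁻¹)ᵀ B h)⁻¹) *ᵥ (M (gl (B⁻¹)ᵀ B h) *ᵥ y) = y := by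
      rw [mulVec_mulVec, ← map_mul, inv_mul_cancel, map_one, one_mulVec]
    rw [← hh, h0, mulVec_zero]
  · intro T
    rw [mulVec_mulVec, ← map_mul, um_mul_gl, map_mul, ← mulVec_mulVec, hy, mulVec_smul, pr_conj]

theorem card_matrix_cast_ne_zero (hN : (Fintype.card F : K') ≠ 0) :
    (Fintype.card (Matrix (Fin n) (Fin n) F) : K') ≠ 0 := by
  have h : Fintype.card (Matrix (Fin n) (Fin n) F) = (Fintype.card F ^ n) ^ n := by
    rw [← Nat.card_eq_fintype_card]
    show Nat.card (Fin n → Fin n → F) = _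
    rw [Nat.card_fun, Nat.card_fun, Nat.card_eq_fintype_card, Nat.card_eq_fintype_card,
      Fintype.card_fin]
  rw [h, Nat.cast_pow, Nat.cast_pow]
  exact pow_ne_zero _ (pow_ne_zero _ hN)

theorem main_sp {n' : ℕ} (ψ : AddChar F K') (hψ : ∃ a, ψ a ≠ 1)
    (hN : (Fintype.card F : K') ≠ 0)
    (M : symplecticGroup (Fin (n' + 1)) F →* Matrix (Fin d) (Fin d) K')
    (hM : M (um (Matrix.single 0 0 1)) ≠ 1) :
    Fintype.card F ^ n' * (Fintype.card F - 1) ≤ 2 * d := by
  classical
  have hFr := frame (n := n' + 1) ψ hψ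
  have hN' := card_matrix_cast_ne_zero (n := n' + 1) hN
  obtain ⟨W, hW, hW1⟩ := hFr.exists_char hN' M (Matrix.single 0 0 1) hM
  have hω : W 0 0 ≠ 0 := by
    intro h0
    apply hW1
    rw [pr_single, h0, zero_mul, AddChar.map_zero_eq_one]
  let tp : Fˣ × (Fin n' → F) → (Fin (n' + 1) → F) := fun p => Fin.cons ((p.1 : F) - 1) p.2
  have htp0 : ∀ p, tp p 0 = (p.1 : F) - 1 := fun p => by simp [tp]
  have htpS : ∀ p (k : Fin n'), tp p k.succ = p.2 k := fun p k => by simp [tp]
  let Φ : Fˣ × (Fin n' → F) → Matrix (Fin (n' + 1)) (Fin (n' + 1)) F := fun p =>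
    tvMat (Pi.single (0 : Fin (n' + 1)) (1 : F)) (tp p) * W
      * (tvMat (Pi.single (0 : Fin (n' + 1)) (1 : F)) (tp p))ᵀ
  have hΦ : ∀ p, LS3.Eig ψ pr um M (Φ p) := by
    intro p
    apply eig_conj ψ M W _ _ hW
    rw [det_tvMat', single_dotProduct, one_mul, htp0]
    have : (1 : F) + ((p.1 : F) - 1) = (p.1 : F) := by ring
    rw [this]
    exact p.1.isUnit
  have hrow0 : ∀ p, Φ p 0 0 = (p.1 : F) ^ 2 * W 0 0 := by
    intro p
    show (tvMat (Pi.single (0 : Fin (n' + 1)) (1 : F)) (tp p) * W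
      * (tvMat (Pi.single (0 : Fin (n' + 1)) (1 : F)) (tp p))ᵀ) 0 0 = _
    rw [row_formula, htp0]
    ring
  have hrowS : ∀ p (k : Fin n'),
      Φ p 0 k.succ = (W 0 k.succ + p.2 k * W 0 0) * (p.1 : F) := by
    intro p k
    show (tvMat (Pi.single (0 : Fin (n' + 1)) (1 : F)) (tp p) * W
      * (tvMat (Pi.single (0 : Fin (n' + 1)) (1 : F)) (tp p))ᵀ) 0 k.succ = _
    rw [row_formula, htp0, htpS]
    ring
  let τ : Fˣ × (Fin n' → F) → Fˣ × (Fin n' → F) :=
    fun p => (-p.1, fun k => -p.2 k - 2 * W 0 k.succ / W 0 0)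
  have hfib : ∀ p p', Φ p' = Φ p → p' = p ∨ p' = τ p := by
    intro p p' h
    have e0 : (p'.1 : F) ^ 2 = (p.1 : F) ^ 2 := by
      have h0 := congrFun (congrFun h 0) 0
      rw [hrow0, hrow0] at h0
      exact mul_right_cancel₀ hω h0
    rcases sq_eq_sq_iff_eq_or_eq_neg.mp e0 with e1 | e1
    · left
      refine Prod.ext (Units.ext e1) (funext fun k => ?_)
      have h0 := congrFun (congrFun h 0) k.succ
      rw [hrowS, hrowS, e1] at h0
      have h3 := mul_right_cancel₀ p.1.ne_zero h0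
      have h4 := add_left_cancel h3
      exact mul_right_cancel₀ hω h4
    · right
      refine Prod.ext (Units.ext ?_) (funext fun k => ?_)
      · rw [e1]
        simp [τ]
      · have h0 := congrFun (congrFun h 0) k.succ
        rw [hrowS, hrowS, e1] at h0
        have hβ := p.1.ne_zero
        have h3 : -(W 0 k.succ + p'.2 k * W 0 0) = W 0 k.succ + p.2 k * W 0 0 := by
          apply mul_right_cancel₀ hβ
          linear_combination h0
        show p'.2 k = -p.2 k - 2 * W 0 k.succ / W 0 0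
        apply mul_right_cancel₀ hω
        rw [sub_mul, div_mul_cancel₀ _ hω]
        linear_combination (-1) * h3
  have hcard : (Finset.univ : Finset (Fˣ × (Fin n' → F))).card
      ≤ 2 * (Finset.univ.image Φ).card := by
    apply Finset.card_le_mul_card_image
    intro b hb
    obtain ⟨p, _, rfl⟩ := Finset.mem_image.mp hb
    calc (Finset.univ.filter fun a => Φ a = Φ p).card ≤ ({p, τ p} : Finset _).card := by
          apply Finset.card_le_card
          intro a ha
          rw [Finset.mem_filter] at ha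
          rcases hfib p a ha.2 with h | h
          · rw [h]; simp
          · rw [h]; simp
      _ ≤ 2 := Finset.card_le_two
  have hle : (Finset.univ.image Φ).card ≤ d := by
    apply hFr.card_le hN' M
    intro w hw
    obtain ⟨p, _, rfl⟩ := Finset.mem_image.mp hw
    exact hΦ p
  have hcount : (Finset.univ : Finset (Fˣ × (Fin n' → F))).card
      = (Fintype.card F - 1) * Fintype.card F ^ n' := by
    rw [Finset.card_univ, Fintype.card_prod, Fintype.card_units, Fintype.card_pi_const]
  rw [hcount] at hcard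
  calc Fintype.card F ^ n' * (Fintype.card F - 1)
      = (Fintype.card F - 1) * Fintype.card F ^ n' := mul_comm _ _
    _ ≤ 2 * (Finset.univ.image Φ).card := hcard
    _ ≤ 2 * d := Nat.mul_le_mul_left 2 hle

end Count

theorem main_sp_final {F : Type*} [Field F] [Fintype F] {K : Type*} [Field K]
    (hK : ringChar K ≠ ringChar F) (hodd : Odd (Fintype.card F)) {n d : ℕ} (hn : 1 ≤ n)
    (ρ : ↥(symplecticGroup (Fin n) F) →* GL (Fin d) K)
    (hker : ρ.ker ≤ Subgroup.center ↥(symplecticGroup (Fin n) F)) :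
    Fintype.card F ^ (n - 1) * (Fintype.card F - 1) / 2 ≤ d := by
  obtain ⟨n', rfl⟩ : ∃ n', n = n' + 1 := ⟨n - 1, by omega⟩
  classical
  let P := AddChar.FiniteField.primitiveChar F K hK
  have hψ : ∃ a, P.char a ≠ 1 := by
    have h1 := P.prim (one_ne_zero)
    rw [AddChar.mulShift_one] at h1
    exact AddChar.ne_one_iff.mp h1
  let M : ↥(symplecticGroup (Fin (n' + 1)) F) →*
      Matrix (Fin d) (Fin d) (CyclotomicField P.n K) :=
    ((algebraMap K (CyclotomicField P.n K)).mapMatrix.toMonoidHom).comp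
      ((Units.coeHom (Matrix (Fin d) (Fin d) K)).comp ρ)
  have hchar : ringChar (CyclotomicField P.n K) ≠ ringChar F := by
    rw [← Algebra.ringChar_eq K (CyclotomicField P.n K)]
    exact hK
  have h2 : (2 : F) ≠ 0 := by
    apply Ring.two_ne_zero
    intro h
    have h3 := FiniteField.even_card_of_char_two h
    rcases hodd with ⟨k, hk⟩
    omega
  have hM : M (um (Matrix.single 0 0 1)) ≠ 1 := by
    intro hv
    have h1 : ρ (um (Matrix.single 0 0 1)) = 1 := by
      apply Units.ext
      have hinj : Function.Injective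
          (fun A : Matrix (Fin d) (Fin d) K => A.map (algebraMap K (CyclotomicField P.n K))) :=
        Matrix.map_injective (algebraMap K (CyclotomicField P.n K)).injective
      apply hinj
      show ((ρ (um (Matrix.single 0 0 1)) : GL (Fin d) K) : Matrix (Fin d) (Fin d) K).map
          (algebraMap K (CyclotomicField P.n K))
        = (1 : Matrix (Fin d) (Fin d) K).map (algebraMap K (CyclotomicField P.n K))
      rw [Matrix.map_one _ (map_zero _) (map_one _)]
      exact hv
    have hc : um (Matrix.single 0 0 1) ∈ Subgroup.center ↥(symplecticGroup (Fin (n' + 1)) F) :=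
      hker (MonoidHom.mem_ker.mpr h1)
    have hcomm := Subgroup.mem_center_iff.mp hc (SymplecticGroup.symJ (Fin (n' + 1)) F)
    have hmat := congrArg Subtype.val hcomm
    change J (Fin (n' + 1)) F * fromBlocks 1
        (Matrix.single 0 0 (1 : F) + (Matrix.single 0 0 (1 : F))ᵀ) 0 1
      = fromBlocks 1 (Matrix.single 0 0 (1 : F) + (Matrix.single 0 0 (1 : F))ᵀ) 0 1
        * J (Fin (n' + 1)) F at hmat
    rw [J, fromBlocks_multiply, fromBlocks_multiply] at hmat
    have h5 := (fromBlocks_inj.mp hmat).1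
    have hS : (Matrix.single 0 0 (1 : F) + (Matrix.single 0 0 (1 : F))ᵀ :
        Matrix (Fin (n' + 1)) (Fin (n' + 1)) F) = 0 := by
      simpa using h5.symm
    have h00 := congrFun (congrFun hS 0) 0
    rw [Matrix.add_apply, Matrix.transpose_apply, Matrix.single_apply] at h00
    simp at h00
    apply h2
    rw [← one_add_one_eq_two]
    exact h00
  have key := main_sp P.char hψ (LS1.card_cast_ne_zero hchar) M hM
  apply Nat.div_le_of_le_mul
  simpa using key

end Cfsg.Agent.Lib.Lead.LS4
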