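import Mathlib

set_option autoImplicit false

namespace Cfsg.Agent.Lib.Lead.MatTwo

/-- 2×2 matrices over `ZMod p` coded by four naturals. -/
abbrev Q := ℕ × ℕ × ℕ × ℕ

def one : Q := (1, 0, 0, 1)

def mul (p : ℕ) (x y : Q) : Q :=
  ((x.1 * y.1 + x.2.1 * y.2.2.1) % p, (x.1 * y.2.1 + x.2.1 * y.2.2.2) % p,
   (x.2.2.1 * y.1 + x.2.2.2 * y.2.2.1) % p, (x.2.2.1 * y.2.1 + x.2.2.2 * y.2.2.2) % p)

def toMat (p : ℕ) (x : Q) : Matrix (Fin 2) (Fin 2) (ZMod p) :=
  !![(x.1 : ZMod p), (x.2.1 : ZMod p); (x.2.2.1 : ZMod p), (x.2.2.2 : ZMod p)]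

theorem toMat_one (p : ℕ) : toMat p one = 1 := by
  simp [toMat, one, Matrix.one_fin_two]

theorem toMat_mul (p : ℕ) (x y : Q) : toMat p (mul p x y) = toMat p x * toMat p y := by
  simp [toMat, mul, Matrix.mul_fin_two, ZMod.natCast_mod]

def step (p : ℕ) (gens : List Q) (acc : List Q) (w : ℕ × ℕ) : List Q :=
  acc ++ [mul p (gens.getD w.1 one) (acc.getD w.2 one)]

def build (p : ℕ) (gens : List Q) (W : List (ℕ × ℕ)) : List Q :=
  W.foldl (step p gens) [one]

theorem getD_mem (l : List Q) (i : ℕ) : l.getD i one = one ∨ l.getD i one ∈ l := by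
  rw [List.getD_eq_getElem?_getD]
  cases h : l[i]? with
  | none => left; rfl
  | some x => right; simp only [Option.getD_some]; exact List.mem_of_getElem? h

theorem foldl_ind (p : ℕ) (gens : List Q) (P : Q → Prop) (h1 : P one)
    (hmul : ∀ g ∈ gens, ∀ x, P x → P (mul p g x)) (hone : ∀ x, P x → P (mul p one x))
    (W : List (ℕ × ℕ)) (acc : List Q) (hacc : ∀ x ∈ acc, P x) :
    ∀ x ∈ W.foldl (step p gens) acc, P x := by
  induction W generalizing acc with
  | nil => simpa using hacc
  | cons w W ih =>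
    rw [List.foldl_cons]
    apply ih
    intro x hx
    rw [step, List.mem_append, List.mem_singleton] at hx
    rcases hx with hx | hx
    · exact hacc x hx
    · subst hx
      have hy : P (acc.getD w.2 one) := by
        rcases getD_mem acc w.2 with h | h
        · rw [h]; exact h1
        · exact hacc _ h
      rcases getD_mem gens w.1 with h | h
      · rw [h]; exact hone _ hy
      · exact hmul _ h _ hy

theorem build_ind (p : ℕ) (gens : List Q) (P : Q → Prop) (h1 : P one)
    (hmul : ∀ g ∈ gens, ∀ x, P x → P (mul p g x)) (hone : ∀ x, P x → P (mul p one x))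
    (W : List (ℕ × ℕ)) : ∀ x ∈ build p gens W, P x :=
  foldl_ind p gens P h1 hmul hone W [one] (by simpa using h1)

theorem one_mem_foldl (p : ℕ) (gens : List Q) (W : List (ℕ × ℕ)) (acc : List Q) (h : one ∈ acc) :
    one ∈ W.foldl (step p gens) acc := by
  induction W generalizing acc with
  | nil => simpa using h
  | cons w W ih =>
    rw [List.foldl_cons]
    apply ih
    rw [step, List.mem_append]
    exact Or.inl h

theorem one_mem_build (p : ℕ) (gens : List Q) (W : List (ℕ × ℕ)) : one ∈ build p gens W :=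
  one_mem_foldl p gens W [one] (by simp)

/-- Boolean check that `L` is closed under left multiplication by the generators. -/
def closedB (p : ℕ) (gens L : List Q) : Bool :=
  gens.all fun g => L.all fun x => L.contains (mul p g x)

theorem closedB_spec {p : ℕ} {gens L : List Q} (h : closedB p gens L = true) :
    ∀ g ∈ gens, ∀ x ∈ L, mul p g x ∈ L := by
  intro g hg x hx
  rw [closedB, List.all_eq_true] at h
  have h1 := h g hg
  rw [List.all_eq_true] at h1
  have h2 := h1 x hx
  simpa using h2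

/-- Boolean check that all entries are reduced. -/
def reducedB (p : ℕ) (L : List Q) : Bool :=
  L.all fun x => decide (x.1 < p) && decide (x.2.1 < p) && decide (x.2.2.1 < p) &&
    decide (x.2.2.2 < p)

theorem reducedB_spec {p : ℕ} {L : List Q} (h : reducedB p L = true) :
    ∀ x ∈ L, x.1 < p ∧ x.2.1 < p ∧ x.2.2.1 < p ∧ x.2.2.2 < p := by
  intro x hx
  rw [reducedB, List.all_eq_true] at h
  have h1 := h x hx
  simp only [Bool.and_eq_true, decide_eq_true_eq] at h1
  tauto

theorem toMat_inj {p : ℕ} [NeZero p] {x y : Q}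
    (hx : x.1 < p ∧ x.2.1 < p ∧ x.2.2.1 < p ∧ x.2.2.2 < p)
    (hy : y.1 < p ∧ y.2.1 < p ∧ y.2.2.1 < p ∧ y.2.2.2 < p)
    (h : toMat p x = toMat p y) : x = y := by
  have key : ∀ a b : ℕ, a < p → b < p → (a : ZMod p) = (b : ZMod p) → a = b := by
    intro a b ha hb hab
    have := (ZMod.natCast_eq_natCast_iff' a b p).1 hab
    rwa [Nat.mod_eq_of_lt ha, Nat.mod_eq_of_lt hb] at this
  have h00 := congrFun (congrFun h 0) 0
  have h01 := congrFun (congrFun h 0) 1
  have h10 := congrFun (congrFun h 1) 0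
  have h11 := congrFun (congrFun h 1) 1
  simp [toMat] at h00 h01 h10 h11
  obtain ⟨a, b, c, d⟩ := x
  obtain ⟨a', b', c', d'⟩ := y
  simp only at hx hy h00 h01 h10 h11
  rw [key a a' hx.1 hy.1 h00, key b b' hx.2.1 hy.2.1 h01, key c c' hx.2.2.1 hy.2.2.1 h10,
    key d d' hx.2.2.2 hy.2.2.2 h11]

open Matrix in
/-- The closure of a set of matrices coded by `gens` is the set coded by `L`, provided `L` is
closed under the generators and built from them. -/
theorem mem_closure_iff (p : ℕ) [Fact p.Prime] (gens : List Q) (W : List (ℕ × ℕ))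
    (G : Set (GL (Fin 2) (ZMod p)))
    (hG : ∀ g ∈ G, ∃ x ∈ gens, (g : Matrix (Fin 2) (Fin 2) (ZMod p)) = toMat p x)
    (hG' : ∀ x ∈ gens, ∃ g ∈ G, (g : Matrix (Fin 2) (Fin 2) (ZMod p)) = toMat p x)
    (hclosed : closedB p gens (build p gens W) = true) (h : GL (Fin 2) (ZMod p)) :
    h ∈ Subgroup.closure G ↔
      ∃ x ∈ build p gens W, (h : Matrix (Fin 2) (Fin 2) (ZMod p)) = toMat p x := by
  haveI : NeZero p := ⟨(Fact.out : p.Prime).ne_zero⟩
  set L := build p gens W with hL
  let S : Set (GL (Fin 2) (ZMod p)) :=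
    {h | ∃ x ∈ L, (h : Matrix (Fin 2) (Fin 2) (ZMod p)) = toMat p x}
  have hSfin : S.Finite := Set.toFinite S
  have hcl := closedB_spec hclosed
  have key : ∀ a ∈ Subgroup.closure G, ∀ s ∈ S, a * s ∈ S := by
    intro a ha
    induction ha using Subgroup.closure_induction with
    | mem g hg =>
      intro s hs
      obtain ⟨x, hx, hsx⟩ := hs
      obtain ⟨y, hy, hgy⟩ := hG g hg
      refine ⟨mul p y x, hcl y hy x hx, ?_⟩
      rw [toMat_mul, ← hsx, ← hgy]; rfl
    | one => intro s hs; simpa using hs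
    | mul a b _ _ iha ihb =>
      intro s hs
      rw [mul_assoc]
      exact iha _ (ihb _ hs)
    | inv a _ iha =>
      intro s hs
      haveI : Finite S := hSfin
      let φ : S → S := fun t => ⟨a * t.1, iha t.1 t.2⟩
      have hinj : Function.Injective φ := by
        intro t t' htt
        have := congrArg Subtype.val htt
        exact Subtype.ext (mul_left_cancel this)
      obtain ⟨⟨t, ht⟩, hts⟩ := (Finite.injective_iff_surjective.1 hinj) ⟨s, hs⟩
      have hts : a * t = s := congrArg Subtype.val hts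
      have : a⁻¹ * s = t := by rw [← hts]; simp
      rw [this]; exact ht
  constructor
  · intro hh
    have h1S : (1 : GL (Fin 2) (ZMod p)) ∈ S :=
      ⟨one, one_mem_build p gens W, by rw [toMat_one]; rfl⟩
    have := key h hh 1 h1S
    rwa [mul_one] at this
  · rintro ⟨x, hx, hhx⟩
    have hP : ∀ x ∈ L, ∃ k ∈ Subgroup.closure G,
        (k : Matrix (Fin 2) (Fin 2) (ZMod p)) = toMat p x := by
      apply build_ind p gens (fun x => ∃ k ∈ Subgroup.closure G,
        (k : Matrix (Fin 2) (Fin 2) (ZMod p)) = toMat p x)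
      · exact ⟨1, one_mem _, by rw [toMat_one]; rfl⟩
      · rintro g hg x ⟨k, hk, hkx⟩
        obtain ⟨g', hg', hgg⟩ := hG' g hg
        refine ⟨g' * k, mul_mem (Subgroup.subset_closure hg') hk, ?_⟩
        rw [toMat_mul, ← hkx, ← hgg]; rfl
      · rintro x ⟨k, hk, hkx⟩
        refine ⟨k, hk, ?_⟩
        rw [toMat_mul, toMat_one, one_mul, hkx]
    obtain ⟨k, hk, hkx⟩ := hP x hx
    have : h = k := Units.ext (by rw [hhx, hkx])
    rw [this]; exact hk

open Matrix in
theorem card_closure (p : ℕ) [Fact p.Prime] (gens : List Q) (W : List (ℕ × ℕ))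
    (G : Set (GL (Fin 2) (ZMod p)))
    (hG : ∀ g ∈ G, ∃ x ∈ gens, (g : Matrix (Fin 2) (Fin 2) (ZMod p)) = toMat p x)
    (hG' : ∀ x ∈ gens, ∃ g ∈ G, (g : Matrix (Fin 2) (Fin 2) (ZMod p)) = toMat p x)
    (hclosed : closedB p gens (build p gens W) = true)
    (hred : reducedB p (build p gens W) = true) (hnodup : (build p gens W).Nodup) :
    Nat.card (Subgroup.closure G) = (build p gens W).length := by
  haveI : NeZero p := ⟨(Fact.out : p.Prime).ne_zero⟩
  have hmem := mem_closure_iff p gens W G hG hG' hclosed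
  have hr := reducedB_spec hred
  have hex : ∀ x : {x // x ∈ build p gens W}, ∃ k : Subgroup.closure G,
      ((k : GL (Fin 2) (ZMod p)) : Matrix (Fin 2) (Fin 2) (ZMod p)) = toMat p x.1 := by
    intro x
    have : ∃ k : GL (Fin 2) (ZMod p), (k : Matrix (Fin 2) (Fin 2) (ZMod p)) = toMat p x.1 := by
      obtain ⟨k, hk, hkx⟩ : ∃ k ∈ Subgroup.closure G,
          (k : Matrix (Fin 2) (Fin 2) (ZMod p)) = toMat p x.1 := by
        have hP : ∀ x ∈ build p gens W, ∃ k ∈ Subgroup.closure G,
            (k : Matrix (Fin 2) (Fin 2) (ZMod p)) = toMat p x := by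
          apply build_ind p gens (fun x => ∃ k ∈ Subgroup.closure G,
            (k : Matrix (Fin 2) (Fin 2) (ZMod p)) = toMat p x)
          · exact ⟨1, one_mem _, by rw [toMat_one]; rfl⟩
          · rintro g hg x ⟨k, hk, hkx⟩
            obtain ⟨g', hg', hgg⟩ := hG' g hg
            refine ⟨g' * k, mul_mem (Subgroup.subset_closure hg') hk, ?_⟩
            rw [toMat_mul, ← hkx, ← hgg]; rfl
          · rintro x ⟨k, hk, hkx⟩
            refine ⟨k, hk, ?_⟩
            rw [toMat_mul, toMat_one, one_mul, hkx]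
        exact hP x.1 x.2
      exact ⟨k, hkx⟩
    obtain ⟨k, hk⟩ := this
    exact ⟨⟨k, (hmem k).2 ⟨x.1, x.2, hk⟩⟩, hk⟩
  choose f hf using hex
  have hinj : Function.Injective f := by
    intro x y hxy
    have h1 : toMat p x.1 = toMat p y.1 := by rw [← hf x, ← hf y, hxy]
    exact Subtype.ext (toMat_inj (hr _ x.2) (hr _ y.2) h1)
  have hsurj : Function.Surjective f := by
    intro k
    obtain ⟨x, hx, hkx⟩ := (hmem k.1).1 k.2
    refine ⟨⟨x, hx⟩, ?_⟩
    apply Subtype.ext
    apply Units.ext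
    rw [hf, hkx]
  rw [← Nat.card_congr (Equiv.ofBijective f ⟨hinj, hsurj⟩)]
  have h2 : Nat.card {x // x ∈ build p gens W} = Nat.card {x // x ∈ (build p gens W).toFinset} :=
    Nat.card_congr (Equiv.subtypeEquivRight (fun x => by simp))
  rw [h2, Nat.card_eq_fintype_card, Fintype.card_coe, List.toFinset_card_of_nodup hnodup]

/-- Boolean check that no nonidentity element of `L` has eigenvalue one. -/
def fpfB (p : ℕ) (L : List Q) : Bool :=
  L.all fun x => x == one ||
    !(((x.1 + (p - 1)) * (x.2.2.2 + (p - 1))) % p == (x.2.1 * x.2.2.1) % p)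

theorem natCast_pred (p : ℕ) [NeZero p] : ((p - 1 : ℕ) : ZMod p) = -1 := by
  have h1 : 1 ≤ p := Nat.one_le_iff_ne_zero.2 (NeZero.ne p)
  rw [Nat.cast_sub h1, ZMod.natCast_self, Nat.cast_one, zero_sub]

theorem fpfB_spec {p : ℕ} [NeZero p] {L : List Q} (h : fpfB p L = true) :
    ∀ x ∈ L, x ≠ one → (toMat p x - 1).det ≠ 0 := by
  intro x hx hx1 hdet
  rw [fpfB, List.all_eq_true] at h
  have h1 := h x hx
  simp only [Bool.or_eq_true, beq_iff_eq, Bool.not_eq_true', beq_eq_false_iff_ne, ne_eq] at h1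
  rcases h1 with h1 | h1
  · exact hx1 h1
  · apply h1
    rw [← ZMod.natCast_eq_natCast_iff']
    push_cast
    rw [natCast_pred]
    simp only [toMat, Matrix.det_fin_two, Matrix.sub_apply, Matrix.one_apply_eq,
      Matrix.one_apply_ne, Matrix.of_apply, Matrix.cons_val', Matrix.cons_val_zero,
      Matrix.cons_val_one, Matrix.cons_val_fin_one] at hdet
    simp at hdet
    linear_combination hdet

open Matrix in
theorem regular (p : ℕ) [Fact p.Prime] (K : Subgroup (GL (Fin 2) (ZMod p)))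
    (hcard : Nat.card K = p ^ 2 - 1)
    (hfpf : ∀ h ∈ K, h ≠ 1 → ((h : Matrix (Fin 2) (Fin 2) (ZMod p)) - 1).det ≠ 0) :
    ∀ v w : Fin 2 → ZMod p, v ≠ 0 → w ≠ 0 → ∃! h : K,
      Matrix.mulVec ((h : GL (Fin 2) (ZMod p)) : Matrix (Fin 2) (Fin 2) (ZMod p)) v = w := by
  haveI : NeZero p := ⟨(Fact.out : p.Prime).ne_zero⟩
  intro v w hv hw
  have hnz : ∀ h : K, Matrix.mulVec ((h : GL (Fin 2) (ZMod p)) :
      Matrix (Fin 2) (Fin 2) (ZMod p)) v ≠ 0 := by
    intro h h0
    apply hv
    have : Matrix.mulVec (((h : GL (Fin 2) (ZMod p))⁻¹ : GL (Fin 2) (ZMod p)) :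
        Matrix (Fin 2) (Fin 2) (ZMod p)) (Matrix.mulVec ((h : GL (Fin 2) (ZMod p)) :
      Matrix (Fin 2) (Fin 2) (ZMod p)) v) = v := by
      rw [Matrix.mulVec_mulVec, ← Units.val_mul, inv_mul_cancel, Units.val_one, Matrix.one_mulVec]
    rw [← this, h0, Matrix.mulVec_zero]
  let φ : K → {w : Fin 2 → ZMod p // w ≠ 0} := fun h => ⟨_, hnz h⟩
  have hinj : Function.Injective φ := by
    intro h h' hh
    have hh' : Matrix.mulVec ((h : GL (Fin 2) (ZMod p)) : Matrix (Fin 2) (Fin 2) (ZMod p)) v =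
        Matrix.mulVec ((h' : GL (Fin 2) (ZMod p)) : Matrix (Fin 2) (Fin 2) (ZMod p)) v :=
      congrArg Subtype.val hh
    by_contra hne
    have hk : (h⁻¹ * h' : K) ≠ 1 := by
      intro h1
      apply hne
      have := congrArg (fun t => h * t) h1
      simpa using this.symm
    have hk' : ((h⁻¹ * h' : K) : GL (Fin 2) (ZMod p)) ≠ 1 := by
      intro h1; exact hk (Subtype.ext h1)
    apply hfpf _ (h⁻¹ * h' : K).2 hk'
    rw [← Matrix.exists_mulVec_eq_zero_iff]
    refine ⟨v, hv, ?_⟩
    rw [Matrix.sub_mulVec, Matrix.one_mulVec, sub_eq_zero]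
    have hcoe : (((h⁻¹ * h' : K) : GL (Fin 2) (ZMod p)) : Matrix (Fin 2) (Fin 2) (ZMod p)) =
        (((h : GL (Fin 2) (ZMod p))⁻¹ : GL (Fin 2) (ZMod p)) : Matrix (Fin 2) (Fin 2) (ZMod p)) *
          ((h' : GL (Fin 2) (ZMod p)) : Matrix (Fin 2) (Fin 2) (ZMod p)) := rfl
    rw [hcoe, ← Matrix.mulVec_mulVec, ← hh', Matrix.mulVec_mulVec, ← Units.val_mul,
      inv_mul_cancel, Units.val_one, Matrix.one_mulVec]
  have hcard2 : Nat.card {w : Fin 2 → ZMod p // w ≠ 0} = p ^ 2 - 1 := by
    rw [Nat.card_eq_fintype_card, Fintype.card_subtype_compl, Fintype.card_subtype_eq]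
    simp [ZMod.card]
  haveI : Finite K := Nat.finite_of_card_ne_zero (by
    rw [hcard]
    have := (Fact.out : p.Prime).two_le
    have : 4 ≤ p ^ 2 := by nlinarith
    omega)
  have hbij : Function.Bijective φ :=
    hinj.bijective_of_nat_card_le (by rw [hcard, hcard2])
  obtain ⟨h, hh⟩ := hbij.2 ⟨w, hw⟩
  refine ⟨h, congrArg Subtype.val hh, ?_⟩
  intro h' hh'
  apply hinj
  rw [hh]
  exact Subtype.ext hh'

open Matrix in
/-- Combined statement: order and sharp transitivity on nonzero vectors. -/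
theorem sharp (p : ℕ) [Fact p.Prime] (gens : List Q) (W : List (ℕ × ℕ))
    (G : Set (GL (Fin 2) (ZMod p)))
    (hG : ∀ g ∈ G, ∃ x ∈ gens, (g : Matrix (Fin 2) (Fin 2) (ZMod p)) = toMat p x)
    (hG' : ∀ x ∈ gens, ∃ g ∈ G, (g : Matrix (Fin 2) (Fin 2) (ZMod p)) = toMat p x)
    (hclosed : closedB p gens (build p gens W) = true)
    (hred : reducedB p (build p gens W) = true) (hnodup : (build p gens W).Nodup)
    (hlen : (build p gens W).length = p ^ 2 - 1)
    (hfpf : fpfB p (build p gens W) = true) :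
    Nat.card (Subgroup.closure G) = p ^ 2 - 1 ∧
    ∀ v w : Fin 2 → ZMod p, v ≠ 0 → w ≠ 0 → ∃! h : Subgroup.closure G,
      Matrix.mulVec ((h : GL (Fin 2) (ZMod p)) : Matrix (Fin 2) (Fin 2) (ZMod p)) v = w := by
  haveI : NeZero p := ⟨(Fact.out : p.Prime).ne_zero⟩
  have hc : Nat.card (Subgroup.closure G) = p ^ 2 - 1 := by
    rw [card_closure p gens W G hG hG' hclosed hred hnodup, hlen]
  refine ⟨hc, regular p _ hc ?_⟩
  intro h hh h1
  obtain ⟨x, hx, hhx⟩ := (mem_closure_iff p gens W G hG hG' hclosed h).1 hh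
  rw [hhx]
  apply fpfB_spec hfpf x hx
  intro hx1
  apply h1
  apply Units.ext
  rw [hhx, hx1, toMat_one]; rfl

/-- A finite set containing `1` and stable under left multiplication by generators contains the
generated subgroup. -/
theorem closure_subset_of_mul_closed {M : Type*} [Group M] (G : Set M) (S : Set M)
    (hS : S.Finite) (h1 : 1 ∈ S) (hmul : ∀ g ∈ G, ∀ s ∈ S, g * s ∈ S) :
    ∀ a ∈ Subgroup.closure G, a ∈ S := by
  have key : ∀ a ∈ Subgroup.closure G, ∀ s ∈ S, a * s ∈ S := by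
    intro a ha
    induction ha using Subgroup.closure_induction with
    | mem g hg => exact hmul g hg
    | one => intro s hs; simpa using hs
    | mul a b _ _ iha ihb =>
      intro s hs
      rw [mul_assoc]
      exact iha _ (ihb _ hs)
    | inv a _ iha =>
      intro s hs
      haveI : Finite S := hS
      let φ : S → S := fun t => ⟨a * t.1, iha t.1 t.2⟩
      have hinj : Function.Injective φ := by
        intro t t' htt
        have := congrArg Subtype.val htt
        exact Subtype.ext (mul_left_cancel this)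
      obtain ⟨⟨t, ht⟩, hts⟩ := (Finite.injective_iff_surjective.1 hinj) ⟨s, hs⟩
      have hts : a * t = s := congrArg Subtype.val hts
      have : a⁻¹ * s = t := by rw [← hts]; simp
      rw [this]; exact ht
  intro a ha
  have := key a ha 1 h1
  rwa [mul_one] at this

def smulQ (p c : ℕ) (x : Q) : Q :=
  (c * x.1 % p, c * x.2.1 % p, c * x.2.2.1 % p, c * x.2.2.2 % p)

theorem toMat_smulQ (p c : ℕ) (x : Q) : toMat p (smulQ p c x) = (c : ZMod p) • toMat p x := by
  ext i j
  fin_cases i <;> fin_cases j <;> simp [toMat, smulQ, ZMod.natCast_mod]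

end Cfsg.Agent.Lib.Lead.MatTwo
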