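import Mathlib
import Cfsg.Agent.Lib.Lead.SylowCount

set_option autoImplicit false

/-! General lemmas for the theorem "no finite group has exactly 15 Sylow 7-subgroups". -/

namespace Cfsg.Agent.Lib.Lead.N15A

open MulAction Subgroup
open Cfsg.Agent.Lib.Lead

section general

variable {G : Type*} [Group G]

/-- fixed points of the cyclic group generated by `c` are the points fixed by `c`. -/
theorem fixedPoints_zpowers_eq {X : Type*} [MulAction G X] (c : G) :
    fixedPoints (Subgroup.zpowers c) X = fixedBy X c := by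
  ext x
  simp only [mem_fixedPoints, mem_fixedBy]
  constructor
  · intro h
    exact h ⟨c, Subgroup.mem_zpowers c⟩
  · rintro h ⟨g, hg⟩
    have hle : Subgroup.zpowers c ≤ stabilizer G x :=
      Subgroup.zpowers_le.2 (mem_stabilizer_iff.2 h)
    exact mem_stabilizer_iff.1 (hle hg)

theorem card_modEq_fixedBy {X : Type*} [MulAction G X] [Finite X] (c : G) {r : ℕ}
    [Fact r.Prime] (hc : orderOf c = r) : Nat.card X ≡ (fixedBy X c).ncard [MOD r] := by
  have hZ : IsPGroup r (Subgroup.zpowers c) :=
    IsPGroup.of_card (n := 1) (by rw [Nat.card_zpowers, hc, pow_one])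
  have h := hZ.card_modEq_card_fixedPoints X
  rwa [fixedPoints_zpowers_eq, Nat.card_coe_set_eq] at h

/-- the orbit of a non-fixed point under an element of prime order `r` has `r` points. -/
theorem ncard_orbit_zpowers {X : Type*} [MulAction G X] (c : G) {r : ℕ} [hr : Fact r.Prime]
    (hc : orderOf c = r) (x : X) (hx : c • x ≠ x) :
    (orbit (Subgroup.zpowers c) x).ncard = r := by
  have hcard : Nat.card (Subgroup.zpowers c) = r := by rw [Nat.card_zpowers, hc]
  haveI : Fact (Nat.card (Subgroup.zpowers c)).Prime := ⟨by rw [hcard]; exact hr.out⟩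
  rw [← MulAction.index_stabilizer (Subgroup.zpowers c) x]
  rcases Subgroup.eq_bot_or_eq_top_of_prime_card (stabilizer (Subgroup.zpowers c) x) with h | h
  · rw [h, Subgroup.index_bot, hcard]
  · exfalso
    apply hx
    have hmem : (⟨c, Subgroup.mem_zpowers c⟩ : Subgroup.zpowers c) ∈
        stabilizer (Subgroup.zpowers c) x := by
      rw [h]; exact Subgroup.mem_top _
    exact mem_stabilizer_iff.1 hmem

/-- counting an invariant subset modulo `p` under a `p`-group. -/
theorem ncard_modEq_of_invariant {H X : Type*} [Group H] [MulAction H X] [Finite X] {p : ℕ}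
    [Fact p.Prime] (hH : IsPGroup p H) (S : Set X) (hS : ∀ h : H, ∀ s ∈ S, h • s ∈ S) :
    S.ncard ≡ (S ∩ fixedPoints H X).ncard [MOD p] := by
  let A : SubMulAction H X := { carrier := S, smul_mem' := fun h {_} hs => hS h _ hs }
  have h := hH.card_modEq_card_fixedPoints A
  have e1 : Nat.card A = S.ncard := Nat.card_coe_set_eq S
  have e2 : Nat.card (fixedPoints H A) = (S ∩ fixedPoints H X).ncard := by
    rw [← Nat.card_coe_set_eq]
    exact Nat.card_congr
      { toFun := fun y => ⟨y.1.1, y.1.2, fun m => congrArg Subtype.val (y.2 m)⟩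
        invFun := fun y => ⟨⟨y.1, y.2.1⟩, fun m => Subtype.ext (y.2.2 m)⟩
        left_inv := fun y => rfl
        right_inv := fun y => rfl }
  rwa [e1, e2] at h

/-- an involution moving exactly 14 points is an odd permutation. -/
theorem sign_eq_neg_one_of_involution {Ω : Type*} [Fintype Ω] [DecidableEq Ω]
    (σ : Equiv.Perm Ω) (h2 : σ ^ 2 = 1) (hsupp : σ.support.card = 14) :
    Equiv.Perm.sign σ = -1 := by
  have hne : σ ≠ 1 := by
    rintro rfl
    simp at hsupp
  have ho : orderOf σ = 2 := orderOf_eq_prime h2 hne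
  obtain ⟨n, hn⟩ := Equiv.Perm.cycleType_prime_order (σ := σ) (by rw [ho]; exact Nat.prime_two)
  rw [ho] at hn
  have hsum := Equiv.Perm.sum_cycleType σ
  rw [hn, Multiset.sum_replicate, hsupp, smul_eq_mul] at hsum
  have hn6 : n = 6 := by omega
  rw [Equiv.Perm.sign_of_cycleType, hn, Multiset.sum_replicate, Multiset.card_replicate, hn6]
  have h21 : (6 + 1) • 2 + (6 + 1) = 21 := by norm_num
  rw [h21]
  exact Odd.neg_one_pow (by decide)

/-- if every homomorphism to `ℤˣ` is trivial, no involution has exactly one fixed point on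
a set of 15 points. -/
theorem involution_contra {Ω : Type*} [MulAction G Ω] [Finite Ω] (h15 : Nat.card Ω = 15)
    (heven : ∀ ψ : G →* ℤˣ, ∀ g : G, ψ g = 1) (x : G) (hx : x ^ 2 = 1)
    (hF : (fixedBy Ω x).ncard = 1) : False := by
  classical
  letI : Fintype Ω := Fintype.ofFinite Ω
  have h2 : (toPermHom G Ω x) ^ 2 = 1 := by
    rw [← map_pow, hx, map_one]
  have hfix : (fixedBy Ω x) = ↑((toPermHom G Ω x).supportᶜ) := by
    ext Q
    simp [Equiv.Perm.mem_support, mem_fixedBy]
  have hc : ((toPermHom G Ω x).supportᶜ).card = 1 := by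
    rw [← Set.ncard_coe_finset, ← hfix, hF]
  rw [Finset.card_compl, ← Nat.card_eq_fintype_card, h15] at hc
  have hle : (toPermHom G Ω x).support.card ≤ 15 := by
    have := Finset.card_le_univ (toPermHom G Ω x).support
    rwa [← Nat.card_eq_fintype_card, h15] at this
  have hsupp : (toPermHom G Ω x).support.card = 14 := by omega
  have hs := sign_eq_neg_one_of_involution _ h2 hsupp
  have he := heven (Equiv.Perm.sign.comp (toPermHom G Ω)) x
  rw [MonoidHom.comp_apply, hs] at he
  exact absurd he (by decide)

end general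

section sylow

variable {G : Type*} [Group G] [Finite G] {p : ℕ} [Fact p.Prime]

theorem sylow_le_stabilizer (P : Sylow p G) : (P : Subgroup G) ≤ stabilizer G P := by
  intro x hx
  exact mem_stabilizer_iff.2 (Sylow.smul_eq_iff_mem_normalizer.2 (Subgroup.le_normalizer hx))

theorem exists_pow_eq_one_of_mem (P : Sylow p G) {x : G} (hx : x ∈ (P : Subgroup G)) :
    ∃ k : ℕ, x ^ p ^ k = 1 := by
  obtain ⟨k, hk⟩ := P.isPGroup' ⟨x, hx⟩
  exact ⟨k, by simpa using congrArg Subtype.val hk⟩

/-- number of Sylow subgroups of a subgroup containing a Sylow subgroup of `G`. -/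
theorem card_sylow_subgroup (P : Sylow p G) (L : Subgroup G) (hPL : (P : Subgroup G) ≤ L) :
    Nat.card (Sylow p L) = (stabilizer G P).relIndex L := by
  rw [← index_stabilizer_of_transitive L (P.subtype hPL), Subgroup.relIndex]
  congr 1
  ext l
  rw [mem_stabilizer_iff, Subgroup.mem_subgroupOf, mem_stabilizer_iff, Sylow.smul_subtype hPL l]
  constructor
  · intro h
    exact Sylow.subtype_injective h
  · intro h
    apply Sylow.ext
    have h' : l • P = P := h
    simp only [Sylow.coe_subtype, h']

theorem relIndex_eq_index_of_sup_eq_top (N L : Subgroup G) [L.Normal] (h : N ⊔ L = ⊤) :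
    N.relIndex L = N.index := by
  have h1 : L.relIndex N = L.index := by
    rw [← Subgroup.relIndex_sup_right N L, h, Subgroup.relIndex_top_right]
  have h2 : Nat.card (N ⊓ L : Subgroup G) * L.index = Nat.card N := by
    have := SylowCount.card_mul_relIndex (inf_le_left : N ⊓ L ≤ N)
    rwa [Subgroup.inf_relIndex_left, h1] at this
  have h3 : Nat.card (N ⊓ L : Subgroup G) * N.relIndex L = Nat.card L := by
    have := SylowCount.card_mul_relIndex (inf_le_right : N ⊓ L ≤ L)
    rwa [Subgroup.inf_relIndex_right] at this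
  have h4 := Subgroup.card_mul_index N
  have h5 := Subgroup.card_mul_index L
  have hpos : 0 < Nat.card (N ⊓ L : Subgroup G) := Nat.card_pos
  have hpos2 : 0 < L.index := Nat.pos_of_ne_zero Subgroup.index_ne_zero_of_finite
  have e : (Nat.card (N ⊓ L : Subgroup G) * L.index) * N.relIndex L =
      (Nat.card (N ⊓ L : Subgroup G) * L.index) * N.index := by
    calc (Nat.card (N ⊓ L : Subgroup G) * L.index) * N.relIndex L
        = (Nat.card (N ⊓ L : Subgroup G) * N.relIndex L) * L.index := by ring
      _ = Nat.card L * L.index := by rw [h3]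
      _ = Nat.card G := h5
      _ = Nat.card N * N.index := h4.symm
      _ = (Nat.card (N ⊓ L : Subgroup G) * L.index) * N.index := by rw [h2]
  exact Nat.eq_of_mul_eq_mul_left (Nat.mul_pos hpos hpos2) e

/-- a normal subgroup containing a Sylow subgroup has the same number of Sylow subgroups. -/
theorem card_sylow_normal (P : Sylow p G) (L : Subgroup G) [L.Normal]
    (hPL : (P : Subgroup G) ≤ L) : Nat.card (Sylow p L) = Nat.card (Sylow p G) := by
  have hF : stabilizer G P ⊔ L = ⊤ := by
    rw [Sylow.stabilizer_eq_normalizer]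
    exact Sylow.normalizer_sup_eq_top' P hPL
  rw [card_sylow_subgroup P L hPL, relIndex_eq_index_of_sup_eq_top _ L hF,
    index_stabilizer_of_transitive G P]

/-- quotient by a normal subgroup normalizing every Sylow subgroup. -/
theorem card_sylow_quotient (K : Subgroup G) [K.Normal]
    (hK : ∀ Q : Sylow p G, K ≤ stabilizer G Q) :
    Nat.card (Sylow p (G ⧸ K)) = Nat.card (Sylow p G) := by
  have hf : Function.Surjective (QuotientGroup.mk' K) := QuotientGroup.mk'_surjective K
  symm
  apply Nat.card_eq_of_bijective (Sylow.mapSurjective hf)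
  refine ⟨?_, Sylow.mapSurjective_surjective hf p⟩
  intro P Q hPQ
  have h1 : (P : Subgroup G).map (QuotientGroup.mk' K) = (Q : Subgroup G).map (QuotientGroup.mk' K) := by
    have := congrArg (fun R : Sylow p (G ⧸ K) => (R : Subgroup (G ⧸ K))) hPQ
    simpa using this
  have h2 : (P : Subgroup G) ⊔ K = (Q : Subgroup G) ⊔ K := by
    have := congrArg (Subgroup.comap (QuotientGroup.mk' K)) h1
    rwa [Subgroup.comap_map_eq, Subgroup.comap_map_eq, QuotientGroup.ker_mk'] at this
  have h3 : (Q : Subgroup G) ≤ stabilizer G P := by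
    calc (Q : Subgroup G) ≤ (Q : Subgroup G) ⊔ K := le_sup_left
      _ = (P : Subgroup G) ⊔ K := h2.symm
      _ ≤ stabilizer G P := sup_le (sylow_le_stabilizer P) (hK P)
  have h4 : (Q : Subgroup G) ≤ P := by
    have h5 := Q.isPGroup'.inf_normalizer_sylow P
    rw [← Sylow.stabilizer_eq_normalizer, inf_of_le_left h3] at h5
    calc (Q : Subgroup G) = (Q : Subgroup G) ⊓ P := h5
      _ ≤ P := inf_le_right
  exact Sylow.ext (Q.is_maximal' P.isPGroup' h4)

/-- a normal subgroup of index prime to `p` contains every Sylow `p`-subgroup. -/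
theorem sylow_le_of_normal (P : Sylow p G) (L : Subgroup G) [L.Normal] (h : ¬ p ∣ L.index) :
    (P : Subgroup G) ≤ L := by
  intro x hx
  obtain ⟨k, hk⟩ := exists_pow_eq_one_of_mem P hx
  have h1 : orderOf (x : G ⧸ L) ∣ p ^ k := by
    apply orderOf_dvd_of_pow_eq_one
    rw [← QuotientGroup.mk_pow, hk, QuotientGroup.mk_one]
  have h2 : orderOf (x : G ⧸ L) ∣ L.index := by
    rw [Subgroup.index_eq_card]
    exact orderOf_dvd_natCard _
  have hcop : Nat.Coprime (p ^ k) L.index :=
    Nat.Coprime.pow_left k ((Nat.Prime.coprime_iff_not_dvd Fact.out).2 h)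
  have h3 : orderOf (x : G ⧸ L) = 1 := Nat.eq_one_of_dvd_coprimes hcop h1 h2
  exact (QuotientGroup.eq_one_iff x).1 (orderOf_eq_one_iff.1 h3)

end sylow

end Cfsg.Agent.Lib.Lead.N15A
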