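import Mathlib
import Cfsg.Agent.Lib.Lead.N15A

set_option autoImplicit false

/-! Permutation-group part of "no finite group has exactly 15 Sylow 7-subgroups". -/

namespace Cfsg.Agent.Lib.Lead.N15B

open MulAction Subgroup
open Cfsg.Agent.Lib.Lead

theorem arith1 (r i : ℕ) (h3 : r * i = 15) (h2 : r ≡ 1 [MOD 7]) (h4 : r ≠ 1) : i = 1 := by
  have hr15 : r ≤ 15 := Nat.le_of_dvd (by norm_num) (Dvd.intro _ h3)
  unfold Nat.ModEq at h2
  interval_cases r <;> omega

variable {G : Type*} [Group G] [Finite G] [Fact (Nat.Prime 7)]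

theorem preprimitive_of_card (h15 : Nat.card (Sylow 7 G) = 15) :
    IsPreprimitive G (Sylow 7 G) := by
  haveI : Nontrivial (Sylow 7 G) :=
    Finite.one_lt_card_iff_nontrivial.mp (by rw [h15]; norm_num)
  obtain ⟨P⟩ := (inferInstance : Nonempty (Sylow 7 G))
  rw [← isCoatom_stabilizer_iff_preprimitive G P]
  have hidx : (stabilizer G P).index = 15 := by rw [index_stabilizer_of_transitive, h15]
  refine ⟨?_, fun L hL => ?_⟩
  · intro h
    rw [h, Subgroup.index_top] at hidx
    omega
  · have hPL : (P : Subgroup G) ≤ L := le_trans (N15A.sylow_le_stabilizer P) hL.le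
    have h1 := N15A.card_sylow_subgroup P L hPL
    have h2 : Nat.card (Sylow 7 L) ≡ 1 [MOD 7] := card_sylow_modEq_one 7 L
    have h3 : (stabilizer G P).relIndex L * L.index = 15 := by
      rw [Subgroup.relIndex_mul_index hL.le, hidx]
    have h4 : (stabilizer G P).relIndex L ≠ 1 := by
      intro h
      rw [Subgroup.relIndex_eq_one] at h
      exact absurd hL (not_lt_of_ge h)
    rw [h1] at h2
    have h5 : L.index = 1 := arith1 _ _ h3 h2 h4
    exact Subgroup.index_eq_one.mp h5

theorem fix_card_cases (h15 : Nat.card (Sylow 7 G) = 15)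
    (hfaith : ∀ x : G, (∀ Q : Sylow 7 G, x • Q = Q) → x = 1) (c : G) (hc : orderOf c = 7) :
    (fixedBy (Sylow 7 G) c).ncard = 1 ∨ (fixedBy (Sylow 7 G) c).ncard = 8 := by
  have h1 := N15A.card_modEq_fixedBy (X := Sylow 7 G) c hc
  have h2 := Set.ncard_le_card (fixedBy (Sylow 7 G) c)
  rw [h15] at h1 h2
  have h3 : (fixedBy (Sylow 7 G) c).ncard ≠ 15 := by
    intro h
    have huniv : fixedBy (Sylow 7 G) c = Set.univ := by
      rw [Set.eq_univ_iff_ncard, h, h15]
    have hc1 : c = 1 := hfaith c (fun Q => by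
      have hQ : Q ∈ fixedBy (Sylow 7 G) c := by rw [huniv]; exact Set.mem_univ Q
      exact hQ)
    rw [hc1, orderOf_one] at hc
    omega
  unfold Nat.ModEq at h1
  omega

theorem ncard_fixedBy_ne_eight (h15 : Nat.card (Sylow 7 G) = 15)
    (hfaith : ∀ x : G, (∀ Q : Sylow 7 G, x • Q = Q) → x = 1) (c : G) (hc : orderOf c = 7) :
    (fixedBy (Sylow 7 G) c).ncard ≠ 8 := by
  intro h8
  have hprimG := preprimitive_of_card (G := G) h15
  set s : Set (Sylow 7 G) := fixedBy (Sylow 7 G) c with hs
  have hcs : c ∈ fixingSubgroup G s := by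
    rw [mem_fixingSubgroup_iff]
    intro y hy
    exact hy
  have hcompl : sᶜ.ncard = 7 := by
    have := Set.ncard_add_ncard_compl s
    rw [h8, h15] at this
    omega
  have hcardX : Nat.card (SubMulAction.ofFixingSubgroup G s) = 7 := by
    rw [show Nat.card (SubMulAction.ofFixingSubgroup G s) = sᶜ.ncard from
      Nat.card_coe_set_eq _, hcompl]
  obtain ⟨x₀, hx₀⟩ : sᶜ.Nonempty := by
    rw [← Set.ncard_pos, hcompl]; norm_num
  have hx₀' : c • x₀ ≠ x₀ := hx₀
  have horb := N15A.ncard_orbit_zpowers c hc x₀ hx₀'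
  have hsub : orbit (Subgroup.zpowers c) x₀ ⊆ sᶜ := by
    rintro y ⟨⟨z, hz⟩, rfl⟩
    intro hy
    apply hx₀'
    obtain ⟨k, rfl⟩ := Subgroup.mem_zpowers_iff.1 hz
    have hy' : c • (c ^ k • x₀) = c ^ k • x₀ := hy
    have hcomm : c * c ^ k = c ^ k * c := ((Commute.refl c).zpow_right k).eq
    rw [smul_smul, hcomm, ← smul_smul] at hy'
    exact smul_left_cancel (c ^ k) hy'
  have horbeq : orbit (Subgroup.zpowers c) x₀ = sᶜ :=
    Set.eq_of_subset_of_ncard_le hsub (by rw [horb, hcompl])
  haveI htrans : IsPretransitive (fixingSubgroup G s) (SubMulAction.ofFixingSubgroup G s) := by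
    have hZle : Subgroup.zpowers c ≤ fixingSubgroup G s := Subgroup.zpowers_le.2 hcs
    have key : ∀ y : SubMulAction.ofFixingSubgroup G s, ∃ g : fixingSubgroup G s,
        g • (⟨x₀, hx₀⟩ : SubMulAction.ofFixingSubgroup G s) = y := by
      intro y
      have hy : (y : Sylow 7 G) ∈ orbit (Subgroup.zpowers c) x₀ := by
        rw [horbeq]; exact y.2
      obtain ⟨⟨z, hz⟩, hzy⟩ := hy
      exact ⟨⟨z, hZle hz⟩, Subtype.ext hzy⟩
    refine ⟨fun x y => ?_⟩
    obtain ⟨g1, hg1⟩ := key x
    obtain ⟨g2, hg2⟩ := key y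
    exact ⟨g2 * g1⁻¹, by rw [← hg1, ← hg2, smul_smul, inv_mul_cancel_right]⟩
  have hprim : IsPreprimitive (fixingSubgroup G s) (SubMulAction.ofFixingSubgroup G s) :=
    IsPreprimitive.of_prime_card (by rw [hcardX]; norm_num)
  have h2prim : IsMultiplyPreprimitive G (Sylow 7 G) 2 :=
    hprimG.is_two_preprimitive (n := 7) (by rw [h8]) (by rw [h15]; norm_num) hprim
  -- choose a Sylow subgroup containing `c`
  have hZ : IsPGroup 7 (Subgroup.zpowers c) :=
    IsPGroup.of_card (n := 1) (by rw [Nat.card_zpowers, hc, pow_one])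
  obtain ⟨P, hP⟩ := hZ.exists_le_sylow
  have hcP : c ∈ (P : Subgroup G) := hP (Subgroup.mem_zpowers c)
  haveI : IsMultiplyPreprimitive G (Sylow 7 G) (Nat.succ 1) := h2prim
  have h1prim : IsMultiplyPreprimitive (stabilizer G P) (SubMulAction.ofStabilizer G P) 1 :=
    isMultiplyPreprimitive_ofStabilizer G (Sylow 7 G)
  haveI ht_prim : IsPreprimitive (stabilizer G P) (SubMulAction.ofStabilizer G P) :=
    (is_one_preprimitive_iff _ _).mp h1prim
  have hPT := N15A.sylow_le_stabilizer P
  haveI hNn : ((P : Subgroup G).subgroupOf (stabilizer G P)).Normal := by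
    rw [Subgroup.normal_subgroupOf_iff_le_normalizer hPT]
    intro g hg
    exact Sylow.smul_eq_iff_mem_normalizer.1 (mem_stabilizer_iff.1 hg)
  by_cases hfix : fixedPoints ((P : Subgroup G).subgroupOf (stabilizer G P))
      (SubMulAction.ofStabilizer G P) = Set.univ
  · have hc1 : c = 1 := by
      apply hfaith
      intro Q
      by_cases hQ : Q = P
      · rw [hQ]; exact mem_stabilizer_iff.1 (hPT hcP)
      · have hmem : (⟨Q, (SubMulAction.mem_ofStabilizer_iff G P).2 hQ⟩ :
            SubMulAction.ofStabilizer G P) ∈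
            fixedPoints ((P : Subgroup G).subgroupOf (stabilizer G P))
              (SubMulAction.ofStabilizer G P) := by
          rw [hfix]; exact Set.mem_univ _
        have := hmem ⟨⟨c, hPT hcP⟩, Subgroup.mem_subgroupOf.2 hcP⟩
        exact congrArg Subtype.val this
    rw [hc1, orderOf_one] at hc
    omega
  · haveI := IsQuasiPreprimitive.isPretransitive_of_normal (G := stabilizer G P)
      (X := SubMulAction.ofStabilizer G P) hfix
    haveI : Nontrivial (Sylow 7 G) :=
      Finite.one_lt_card_iff_nontrivial.mp (by rw [h15]; norm_num)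
    obtain ⟨Q, hQ⟩ := exists_ne P
    let x₁ : SubMulAction.ofStabilizer G P := ⟨Q, (SubMulAction.mem_ofStabilizer_iff G P).2 hQ⟩
    have hidx := index_stabilizer_of_transitive
      ((P : Subgroup G).subgroupOf (stabilizer G P)) x₁
    have hcardX' : Nat.card (SubMulAction.ofStabilizer G P) = 14 := by
      have := SubMulAction.nat_card_ofStabilizer_add_one_eq G P
      rw [h15] at this
      omega
    have hNp : IsPGroup 7 ((P : Subgroup G).subgroupOf (stabilizer G P)) :=
      P.isPGroup'.comap_subtype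
    obtain ⟨n, hn⟩ := hNp.index
      (stabilizer ((P : Subgroup G).subgroupOf (stabilizer G P)) x₁)
    rw [hidx, hcardX'] at hn
    have h2 : 2 ∣ 7 ^ n := ⟨7, by omega⟩
    have := Nat.Prime.dvd_of_dvd_pow Nat.prime_two h2
    omega

theorem ncard_fixedBy_eq_one (h15 : Nat.card (Sylow 7 G) = 15)
    (hfaith : ∀ x : G, (∀ Q : Sylow 7 G, x • Q = Q) → x = 1) (c : G) (hc : orderOf c = 7) :
    (fixedBy (Sylow 7 G) c).ncard = 1 := by
  rcases fix_card_cases h15 hfaith c hc with h | h
  · exact h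
  · exact absurd h (ncard_fixedBy_ne_eight h15 hfaith c hc)

theorem card_sylow_seven (h15 : Nat.card (Sylow 7 G) = 15)
    (hfaith : ∀ x : G, (∀ Q : Sylow 7 G, x • Q = Q) → x = 1) (P : Sylow 7 G) :
    Nat.card (P : Subgroup G) = 7 := by
  haveI : Nontrivial (Sylow 7 G) :=
    Finite.one_lt_card_iff_nontrivial.mp (by rw [h15]; norm_num)
  obtain ⟨Q, hQ⟩ := exists_ne P
  have hstab : stabilizer (P : Subgroup G) Q = ⊥ := by
    by_contra hne
    have h1 : 1 < Nat.card (stabilizer (P : Subgroup G) Q) :=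
      (Subgroup.one_lt_card_iff_ne_bot _).2 hne
    have hp : IsPGroup 7 (stabilizer (P : Subgroup G) Q) := P.isPGroup'.to_subgroup _
    obtain ⟨n, hn⟩ := IsPGroup.iff_card.1 hp
    have h7 : 7 ∣ Nat.card (stabilizer (P : Subgroup G) Q) := by
      rcases n with _ | n
      · rw [hn, pow_zero] at h1
        omega
      · rw [hn]
        exact dvd_pow_self 7 (Nat.succ_ne_zero n)
    obtain ⟨y, hy⟩ := exists_prime_orderOf_dvd_card' 7 h7
    have hc : orderOf ((y : (P : Subgroup G)) : G) = 7 := by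
      rw [Subgroup.orderOf_coe, Subgroup.orderOf_coe, hy]
    have h1' := ncard_fixedBy_eq_one h15 hfaith _ hc
    obtain ⟨a, ha⟩ := Set.ncard_eq_one.1 h1'
    have hPmem : P ∈ fixedBy (Sylow 7 G) ((y : (P : Subgroup G)) : G) :=
      mem_stabilizer_iff.1 (N15A.sylow_le_stabilizer P (y : (P : Subgroup G)).2)
    have hQmem : Q ∈ fixedBy (Sylow 7 G) ((y : (P : Subgroup G)) : G) := y.2
    rw [ha] at hPmem hQmem
    exact hQ (hQmem.trans hPmem.symm)
  have h2 : Nat.card (P : Subgroup G) = (orbit (P : Subgroup G) Q).ncard := by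
    rw [← MulAction.index_stabilizer, hstab, Subgroup.index_bot]
  have h3 : Nat.card (P : Subgroup G) ≤ 15 := by
    rw [h2, ← h15]; exact Set.ncard_le_card _
  obtain ⟨k, hk⟩ := IsPGroup.iff_card.1 P.isPGroup'
  rcases k with _ | _ | k
  · exfalso
    have hbot : (P : Subgroup G) = ⊥ := Subgroup.eq_bot_of_card_eq _ (by rw [hk, pow_zero])
    have hQP : (Q : Subgroup G) = P := P.is_maximal' Q.isPGroup' (by rw [hbot]; exact bot_le)
    exact hQ (Sylow.ext hQP)
  · simpa using hk
  · exfalso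
    have h49 : 7 ^ 2 ≤ 7 ^ (k + 1 + 1) := Nat.pow_le_pow_right (by norm_num) (by omega)
    rw [← hk] at h49
    omega

theorem centralizer_eq (h15 : Nat.card (Sylow 7 G) = 15)
    (hfaith : ∀ x : G, (∀ Q : Sylow 7 G, x • Q = Q) → x = 1)
    (heven : ∀ ψ : G →* ℤˣ, ∀ g : G, ψ g = 1) (P : Sylow 7 G) :
    Subgroup.centralizer ((P : Subgroup G) : Set G) = (P : Subgroup G) := by
  have hP7 := card_sylow_seven h15 hfaith P
  have key : ∀ x ∈ Subgroup.centralizer ((P : Subgroup G) : Set G), ∀ r : ℕ, r.Prime →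
      orderOf x = r → r = 7 := by
    intro x hx r hr hxr
    haveI : Fact r.Prime := ⟨hr⟩
    have hxP : x • P = P := by
      apply Sylow.smul_eq_iff_mem_normalizer.2
      exact Subgroup.centralizer_le_normalizer _ hx
    have h1 := N15A.card_modEq_fixedBy (X := Sylow 7 G) x hxr
    rw [h15] at h1
    have hS : ∀ h : (P : Subgroup G), ∀ Q ∈ fixedBy (Sylow 7 G) x,
        h • Q ∈ fixedBy (Sylow 7 G) x := by
      intro h Q hQ
      rw [mem_fixedBy] at hQ ⊢
      have hcomm : (h : G) * x = x * h := (Subgroup.mem_centralizer_iff.1 hx) h h.2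
      show x • ((h : G) • Q) = (h : G) • Q
      rw [smul_smul, ← hcomm, ← smul_smul, hQ]
    have h2 := N15A.ncard_modEq_of_invariant P.isPGroup' (fixedBy (Sylow 7 G) x) hS
    have hinter : fixedBy (Sylow 7 G) x ∩ fixedPoints (P : Subgroup G) (Sylow 7 G) = {P} := by
      ext Q
      simp only [Set.mem_inter_iff, Set.mem_singleton_iff]
      rw [P.isPGroup'.sylow_mem_fixedPoints_iff]
      constructor
      · rintro ⟨_, hle⟩
        exact Sylow.ext (P.is_maximal' Q.isPGroup' hle)
      · rintro rfl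
        exact ⟨hxP, le_rfl⟩
    rw [hinter, Set.ncard_singleton] at h2
    have h3 := Set.ncard_le_card (fixedBy (Sylow 7 G) x)
    rw [h15] at h3
    have h4 : (fixedBy (Sylow 7 G) x).ncard ≠ 15 := by
      intro h
      have huniv : fixedBy (Sylow 7 G) x = Set.univ := by
        rw [Set.eq_univ_iff_ncard, h, h15]
      have hx1 : x = 1 := hfaith x (fun Q => by
        have hQ : Q ∈ fixedBy (Sylow 7 G) x := by rw [huniv]; exact Set.mem_univ Q
        exact hQ)
      rw [hx1, orderOf_one] at hxr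
      exact hr.ne_one hxr.symm
    have h5 : (fixedBy (Sylow 7 G) x).ncard = 1 ∨ (fixedBy (Sylow 7 G) x).ncard = 8 := by
      unfold Nat.ModEq at h2
      omega
    rcases h5 with h5 | h5
    · rw [h5] at h1
      have hd : r ∣ 15 - 1 := (Nat.modEq_iff_dvd' (by norm_num)).1 h1.symm
      have hd' : r ∣ 2 * 7 := by simpa using hd
      rcases (Nat.Prime.dvd_mul hr).1 hd' with h | h
      · have hr2 : r = 2 := (Nat.prime_dvd_prime_iff_eq hr Nat.prime_two).1 h
        exfalso
        have hx2 : x ^ 2 = 1 := by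
          have := pow_orderOf_eq_one x
          rwa [hxr, hr2] at this
        exact N15A.involution_contra h15 heven x hx2 h5
      · exact (Nat.prime_dvd_prime_iff_eq hr (by norm_num)).1 h
    · rw [h5] at h1
      have hd : r ∣ 15 - 8 := (Nat.modEq_iff_dvd' (by norm_num)).1 h1.symm
      exact (Nat.prime_dvd_prime_iff_eq hr (by norm_num)).1 (by simpa using hd)
  have hprimes : ∀ {d : ℕ}, d.Prime →
      d ∣ Nat.card (Subgroup.centralizer ((P : Subgroup G) : Set G)) → d = 7 := by
    intro d hd hdvd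
    haveI : Fact d.Prime := ⟨hd⟩
    obtain ⟨y, hy⟩ := exists_prime_orderOf_dvd_card' d hdvd
    exact key (y : G) y.2 d hd (by rw [Subgroup.orderOf_coe, hy])
  have hcardC := Nat.eq_prime_pow_of_unique_prime_dvd (Nat.card_pos.ne') hprimes
  have hCp : IsPGroup 7 (Subgroup.centralizer ((P : Subgroup G) : Set G)) :=
    IsPGroup.of_card hcardC
  have hPC : (P : Subgroup G) ≤ Subgroup.centralizer ((P : Subgroup G) : Set G) := by
    intro a ha
    rw [Subgroup.mem_centralizer_iff]
    intro b hb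
    exact SylowCount.commute_of_card_prime (P : Subgroup G) hP7 hb ha
  exact P.is_maximal' hCp hPC

theorem card_group (h15 : Nat.card (Sylow 7 G) = 15)
    (hfaith : ∀ x : G, (∀ Q : Sylow 7 G, x • Q = Q) → x = 1)
    (heven : ∀ ψ : G →* ℤˣ, ∀ g : G, ψ g = 1) :
    ∃ e : ℕ, e ∣ 6 ∧ Nat.card G = 105 * e := by
  obtain ⟨P⟩ := (inferInstance : Nonempty (Sylow 7 G))
  have hP7 := card_sylow_seven h15 hfaith P
  have hC := centralizer_eq h15 hfaith heven P
  have h1 := SylowCount.relIndex_centralizer_normalizer_dvd (P : Subgroup G)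
  rw [hC] at h1
  haveI : IsCyclic (P : Subgroup G) := isCyclic_of_prime_card hP7
  rw [IsCyclic.card_mulAut, hP7, Nat.totient_prime (by norm_num)] at h1
  have h2 := SylowCount.card_mul_relIndex
    (Subgroup.le_normalizer : (P : Subgroup G) ≤ Subgroup.normalizer ((P : Subgroup G) : Set G))
  rw [hP7] at h2
  have h3 := SylowCount.card_sylow_mul_card_normalizer 7 P
  rw [h15] at h3
  have h3' : 15 * Nat.card (Subgroup.normalizer ((P : Subgroup G) : Set G)) = Nat.card G := h3
  refine ⟨(P : Subgroup G).relIndex (Subgroup.normalizer ((P : Subgroup G) : Set G)),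
    by simpa using h1, ?_⟩
  rw [← h3', ← h2]
  ring

end Cfsg.Agent.Lib.Lead.N15B
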