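import Mathlib
import Cfsg.Agent.Lib.Lead.N15B

set_option autoImplicit false

/-! No finite group has exactly 15 Sylow 7-subgroups: reductions, endgame and induction. -/

namespace Cfsg.Agent.Lib.Lead.N15C

open MulAction Subgroup
open Cfsg.Agent.Lib.Lead

universe u

section core

variable {G : Type u} [Group G] [Finite G] [Fact (Nat.Prime 7)]

/-- no normal subgroup of prime index `q ≠ 7`. -/
theorem no_normal_index
    (hK : ∀ L : Subgroup G, L.Normal → (∃ P : Sylow 7 G, (P : Subgroup G) ≤ L) → L = ⊤)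
    (q : ℕ) (hq : q.Prime) (hq7 : q ≠ 7) (K : Subgroup G) (hKn : K.Normal)
    (hcard : Nat.card K * q = Nat.card G) : False := by
  haveI := hKn
  have hidx : K.index = q := by
    have := Subgroup.card_mul_index K
    rw [← hcard] at this
    exact Nat.eq_of_mul_eq_mul_left Nat.card_pos this
  obtain ⟨P⟩ := (inferInstance : Nonempty (Sylow 7 G))
  have hPK : (P : Subgroup G) ≤ K := N15A.sylow_le_of_normal P K (by
    rw [hidx]
    intro h
    exact hq7 ((Nat.prime_dvd_prime_iff_eq (by norm_num) hq).1 h).symm)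
  have htop := hK K hKn ⟨P, hPK⟩
  rw [htop, Subgroup.card_top] at hcard
  have h1 : Nat.card G * q = Nat.card G * 1 := by rw [hcard, mul_one]
  have h2 := Nat.eq_of_mul_eq_mul_left Nat.card_pos h1
  exact hq.ne_one h2

theorem endgame
    (hK : ∀ L : Subgroup G, L.Normal → (∃ P : Sylow 7 G, (P : Subgroup G) ≤ L) → L = ⊤)
    (e : ℕ) (he : e ∣ 6) (hG : Nat.card G = 105 * e) : False := by
  have he6 : e ≤ 6 := Nat.le_of_dvd (by norm_num) he
  have hcases : e = 1 ∨ e = 2 ∨ e = 3 ∨ e = 6 := by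
    interval_cases e <;> omega
  by_cases hev : 2 ∣ e
  · obtain ⟨m, hm, hmodd⟩ : ∃ m, Nat.card G = 2 * m ∧ ¬ 2 ∣ m := by
      rcases hcases with rfl | rfl | rfl | rfl
      · omega
      · exact ⟨105, by rw [hG], by norm_num⟩
      · omega
      · exact ⟨315, by rw [hG], by norm_num⟩
    obtain ⟨S⟩ := (inferInstance : Nonempty (Sylow 2 G))
    have hS : Nat.card S = 2 := SylowCount.card_sylow_of_card_eq 2 m hm hmodd S
    have hS' : Nat.card (S : Subgroup G) = 2 := hS
    obtain ⟨c, hc⟩ : Nat.card (S : Subgroup G) ∣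
        Nat.card (Subgroup.normalizer ((S : Subgroup G) : Set G)) :=
      Subgroup.card_dvd_of_le Subgroup.le_normalizer
    rw [hS'] at hc
    obtain ⟨K, hKn, hKcard, -⟩ :=
      SylowCount.exists_normal_complement_of_coprime S hS hc (by simp)
    exact no_normal_index hK 2 Nat.prime_two (by norm_num) K hKn hKcard
  · obtain ⟨m, hm, hm5⟩ : ∃ m, Nat.card G = 5 * m ∧ ¬ 5 ∣ m := by
      rcases hcases with rfl | rfl | rfl | rfl
      · exact ⟨21, by rw [hG], by norm_num⟩
      · omega
      · exact ⟨63, by rw [hG], by norm_num⟩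
      · omega
    have hodd : ¬ 2 ∣ Nat.card G := by
      rw [hG]
      omega
    haveI : Fact (Nat.Prime 5) := ⟨by norm_num⟩
    obtain ⟨T⟩ := (inferInstance : Nonempty (Sylow 5 G))
    have hT : Nat.card T = 5 := SylowCount.card_sylow_of_card_eq 5 m hm hm5 T
    have hT' : Nat.card (T : Subgroup G) = 5 := hT
    obtain ⟨c, hc⟩ : Nat.card (T : Subgroup G) ∣
        Nat.card (Subgroup.normalizer ((T : Subgroup G) : Set G)) :=
      Subgroup.card_dvd_of_le Subgroup.le_normalizer
    rw [hT'] at hc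
    have hc2 : ¬ 2 ∣ c := by
      intro h
      apply hodd
      have h1 : c ∣ Nat.card (Subgroup.normalizer ((T : Subgroup G) : Set G)) :=
        ⟨5, by rw [hc, mul_comm]⟩
      exact dvd_trans h (dvd_trans h1 (Subgroup.card_subgroup_dvd_card _))
    have hcop : Nat.Coprime c (5 - 1) := by
      have h2 : Nat.Coprime c 2 :=
        ((Nat.Prime.coprime_iff_not_dvd Nat.prime_two).2 hc2).symm
      have h4 : (5 - 1 : ℕ) = 2 ^ 2 := by norm_num
      rw [h4]
      exact Nat.Coprime.pow_right 2 h2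
    obtain ⟨K, hKn, hKcard, -⟩ :=
      SylowCount.exists_normal_complement_of_coprime T hT hc hcop
    exact no_normal_index hK 5 (by norm_num) (by norm_num) K hKn hKcard

theorem key_of_IH
    (IH : ∀ (H : Type u) [Group H] [Finite H], Nat.card H < Nat.card G →
      Nat.card (Sylow 7 H) ≠ 15)
    (h15 : Nat.card (Sylow 7 G) = 15) :
    ∀ L : Subgroup G, L.Normal → (∃ P : Sylow 7 G, (P : Subgroup G) ≤ L) → L = ⊤ := by
  rintro L hLn ⟨P, hPL⟩
  haveI := hLn
  by_contra hne
  have hlt : Nat.card L < Nat.card G :=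
    lt_of_le_of_ne (Subgroup.card_le_card_group L)
      (fun h => hne ((Subgroup.card_eq_iff_eq_top L).1 h))
  exact IH L hlt (by rw [N15A.card_sylow_normal P L hPL, h15])

theorem faithful_of_IH
    (IH : ∀ (H : Type u) [Group H] [Finite H], Nat.card H < Nat.card G →
      Nat.card (Sylow 7 H) ≠ 15)
    (h15 : Nat.card (Sylow 7 G) = 15) :
    ∀ x : G, (∀ Q : Sylow 7 G, x • Q = Q) → x = 1 := by
  have hKstab : ∀ Q : Sylow 7 G, (toPermHom G (Sylow 7 G)).ker ≤ stabilizer G Q := by
    intro Q x hx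
    rw [MonoidHom.mem_ker] at hx
    rw [mem_stabilizer_iff]
    have := congrArg (fun σ : Equiv.Perm (Sylow 7 G) => σ Q) hx
    simpa using this
  have hKbot : (toPermHom G (Sylow 7 G)).ker = ⊥ := by
    by_contra hne
    have h1 : 1 < Nat.card (toPermHom G (Sylow 7 G)).ker :=
      (Subgroup.one_lt_card_iff_ne_bot _).2 hne
    have h2 := Subgroup.card_mul_index (toPermHom G (Sylow 7 G)).ker
    have hlt : Nat.card (G ⧸ (toPermHom G (Sylow 7 G)).ker) < Nat.card G := by
      rw [← Subgroup.index_eq_card, ← h2]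
      have hpos : 0 < (toPermHom G (Sylow 7 G)).ker.index :=
        Nat.pos_of_ne_zero Subgroup.index_ne_zero_of_finite
      nlinarith
    exact IH (G ⧸ (toPermHom G (Sylow 7 G)).ker) hlt
      (by rw [N15A.card_sylow_quotient _ hKstab, h15])
  intro x hx
  have hmem : x ∈ (toPermHom G (Sylow 7 G)).ker := by
    rw [MonoidHom.mem_ker]
    ext Q
    simp [hx Q]
  rw [hKbot] at hmem
  exact Subgroup.mem_bot.1 hmem

theorem even_of_key
    (hK : ∀ L : Subgroup G, L.Normal → (∃ P : Sylow 7 G, (P : Subgroup G) ≤ L) → L = ⊤) :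
    ∀ ψ : G →* ℤˣ, ∀ g : G, ψ g = 1 := by
  intro ψ g
  obtain ⟨P⟩ := (inferInstance : Nonempty (Sylow 7 G))
  have hPL : (P : Subgroup G) ≤ ψ.ker := by
    intro x hx
    rw [MonoidHom.mem_ker]
    obtain ⟨k, hk⟩ := N15A.exists_pow_eq_one_of_mem P hx
    have h1 : ψ x ^ 7 ^ k = 1 := by rw [← map_pow, hk, map_one]
    rcases Int.units_eq_one_or (ψ x) with h | h
    · exact h
    · exfalso
      rw [h, Odd.neg_one_pow (Odd.pow (by decide : Odd 7))] at h1
      exact absurd h1 (by decide)
  have htop := hK ψ.ker (MonoidHom.normal_ker ψ) ⟨P, hPL⟩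
  have hg : g ∈ ψ.ker := by rw [htop]; exact Subgroup.mem_top g
  exact MonoidHom.mem_ker.1 hg

theorem core
    (IH : ∀ (H : Type u) [Group H] [Finite H], Nat.card H < Nat.card G →
      Nat.card (Sylow 7 H) ≠ 15)
    (h15 : Nat.card (Sylow 7 G) = 15) : False := by
  have hK := key_of_IH IH h15
  have hfaith := faithful_of_IH IH h15
  have heven := even_of_key hK
  obtain ⟨e, he, hG⟩ := N15B.card_group h15 hfaith heven
  exact endgame hK e he hG

end core

theorem main_aux (n : ℕ) : ∀ (G : Type u) [Group G] [Finite G], Nat.card G = n →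
    Nat.card (Sylow 7 G) ≠ 15 := by
  induction n using Nat.strong_induction_on with
  | _ n ih =>
    intro G _ _ hn h15
    haveI : Fact (Nat.Prime 7) := ⟨by norm_num⟩
    exact core (fun H _ _ hlt => ih (Nat.card H) (hn ▸ hlt) H rfl) h15

/-- No finite group has exactly 15 Sylow 7-subgroups. -/
theorem main {G : Type u} [Group G] [Finite G] : Nat.card (Sylow 7 G) ≠ 15 :=
  main_aux _ G rfl

end Cfsg.Agent.Lib.Lead.N15C
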