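import Mathlib
import Cfsg.Agent.Lib.Lead.N15A

set_option autoImplicit false

/-! Sign lemmas on 35 points, used for "no group has exactly 35 Sylow 17-subgroups". -/

namespace Cfsg.Agent.Lib.Lead.N35A

open MulAction Subgroup

/-- an involution moving exactly 34 points is an odd permutation. -/
theorem sign_eq_neg_one_of_involution {Ω : Type*} [Fintype Ω] [DecidableEq Ω]
    (σ : Equiv.Perm Ω) (h2 : σ ^ 2 = 1) (hsupp : σ.support.card = 34) :
    Equiv.Perm.sign σ = -1 := by
  have hne : σ ≠ 1 := by
    rintro rfl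
    simp at hsupp
  have ho : orderOf σ = 2 := orderOf_eq_prime h2 hne
  obtain ⟨n, hn⟩ := Equiv.Perm.cycleType_prime_order (σ := σ) (by rw [ho]; exact Nat.prime_two)
  rw [ho] at hn
  have hsum := Equiv.Perm.sum_cycleType σ
  rw [hn, Multiset.sum_replicate, hsupp, smul_eq_mul] at hsum
  have hn6 : n = 16 := by omega
  rw [Equiv.Perm.sign_of_cycleType, hn, Multiset.sum_replicate, Multiset.card_replicate, hn6]
  have h21 : (16 + 1) • 2 + (16 + 1) = 51 := by norm_num
  rw [h21]
  exact Odd.neg_one_pow (by decide)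

/-- if every homomorphism to `ℤˣ` is trivial, no involution has exactly one fixed point on
a set of 35 points. -/
theorem involution_contra {G : Type*} [Group G] {Ω : Type*} [MulAction G Ω] [Finite Ω]
    (h15 : Nat.card Ω = 35)
    (heven : ∀ ψ : G →* ℤˣ, ∀ g : G, ψ g = 1) (x : G) (hx : x ^ 2 = 1)
    (hF : (fixedBy Ω x).ncard = 1) : False := by
  classical
  letI : Fintype Ω := Fintype.ofFinite Ω
  have h2 : (toPermHom G Ω x) ^ 2 = 1 := by
    rw [← map_pow, hx, map_one]
  have hfix : (fixedBy Ω x) = ↑((toPermHom G Ω x).supportᶜ) := by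
    ext Q
    simp [Equiv.Perm.mem_support, mem_fixedBy]
  have hc : ((toPermHom G Ω x).supportᶜ).card = 1 := by
    rw [← Set.ncard_coe_finset, ← hfix, hF]
  rw [Finset.card_compl, ← Nat.card_eq_fintype_card, h15] at hc
  have hle : (toPermHom G Ω x).support.card ≤ 35 := by
    have := Finset.card_le_univ (toPermHom G Ω x).support
    rwa [← Nat.card_eq_fintype_card, h15] at this
  have hsupp : (toPermHom G Ω x).support.card = 34 := by omega
  have hs := sign_eq_neg_one_of_involution _ h2 hsupp
  have he := heven (Equiv.Perm.sign.comp (toPermHom G Ω)) x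
  rw [MonoidHom.comp_apply, hs] at he
  exact absurd he (by decide)

end Cfsg.Agent.Lib.Lead.N35A
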