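import Mathlib
import Cfsg.Agent.Lib.Lead.N35B

set_option autoImplicit false

/-! No finite group has exactly 35 Sylow 17-subgroups: reductions, endgame and induction. -/

namespace Cfsg.Agent.Lib.Lead.N35C

open MulAction Subgroup
open Cfsg.Agent.Lib.Lead

universe u

section core

variable {G : Type u} [Group G] [Finite G] [Fact (Nat.Prime 17)]

/-- no normal subgroup of prime index `q ≠ 17`. -/
theorem no_normal_index
    (hK : ∀ L : Subgroup G, L.Normal → (∃ P : Sylow 17 G, (P : Subgroup G) ≤ L) → L = ⊤)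
    (q : ℕ) (hq : q.Prime) (hq7 : q ≠ 17) (K : Subgroup G) (hKn : K.Normal)
    (hcard : Nat.card K * q = Nat.card G) : False := by
  haveI := hKn
  have hidx : K.index = q := by
    have := Subgroup.card_mul_index K
    rw [← hcard] at this
    exact Nat.eq_of_mul_eq_mul_left Nat.card_pos this
  obtain ⟨P⟩ := (inferInstance : Nonempty (Sylow 17 G))
  have hPK : (P : Subgroup G) ≤ K := N15A.sylow_le_of_normal P K (by
    rw [hidx]
    intro h
    exact hq7 ((Nat.prime_dvd_prime_iff_eq (by norm_num) hq).1 h).symm)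
  have htop := hK K hKn ⟨P, hPK⟩
  rw [htop, Subgroup.card_top] at hcard
  have h1 : Nat.card G * q = Nat.card G * 1 := by rw [hcard, mul_one]
  have h2 := Nat.eq_of_mul_eq_mul_left Nat.card_pos h1
  exact hq.ne_one h2

/-- the even case: a cyclic Sylow 2-subgroup gives a normal 2-complement. -/
theorem even_case
    (hK : ∀ L : Subgroup G, L.Normal → (∃ P : Sylow 17 G, (P : Subgroup G) ≤ L) → L = ⊤)
    (P : Sylow 17 G) (hP17 : Nat.card (P : Subgroup G) = 17)
    (hC : Subgroup.centralizer ((P : Subgroup G) : Set G) = (P : Subgroup G))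
    (e : ℕ) (he2 : 2 ∣ e) (hG : Nat.card G = 595 * e)
    (hN : Nat.card (Subgroup.normalizer ((P : Subgroup G) : Set G)) = 17 * e) : False := by
  haveI : Fact (Nat.Prime 2) := ⟨Nat.prime_two⟩
  have he0 : e ≠ 0 := by
    rintro rfl
    have := Nat.card_pos (α := G)
    omega
  set N : Subgroup G := Subgroup.normalizer ((P : Subgroup G) : Set G) with hNdef
  obtain ⟨S0⟩ := (inferInstance : Nonempty (Sylow 2 N))
  -- `S0` embeds in `MulAut P`
  let φ : N →* MulAut (P : Subgroup G) := (P : Subgroup G).normalizerMonoidHom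
  have hker : φ.ker = ((P : Subgroup G)).subgroupOf N := by
    show ((P : Subgroup G).normalizerMonoidHom).ker = _
    rw [Subgroup.normalizerMonoidHom_ker, hC]
  have hP17' : IsPGroup 17 (((P : Subgroup G)).subgroupOf N) := P.isPGroup'.comap_subtype
  have hdisj : Disjoint (S0 : Subgroup N) (((P : Subgroup G)).subgroupOf N) :=
    IsPGroup.disjoint_of_ne 2 17 (by norm_num) _ _ S0.isPGroup' hP17'
  have hinj : Function.Injective (φ.comp (S0 : Subgroup N).subtype) := by
    rw [injective_iff_map_eq_one]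
    intro x hx
    have hxk : (x : N) ∈ φ.ker := by
      rw [MonoidHom.mem_ker]
      exact hx
    rw [hker] at hxk
    have hbot : (x : N) ∈ (⊥ : Subgroup N) := by
      rw [← disjoint_iff.1 hdisj]
      exact ⟨x.2, hxk⟩
    exact Subtype.ext (Subgroup.mem_bot.1 hbot)
  haveI : IsCyclic (P : Subgroup G) := isCyclic_of_prime_card hP17
  haveI : Fact (Nat.Prime (Nat.card (P : Subgroup G))) := ⟨by rw [hP17]; norm_num⟩
  haveI : IsCyclic (ZMod (Nat.card (P : Subgroup G)))ˣ := inferInstance
  haveI hcycAut : IsCyclic (MulAut (P : Subgroup G)) :=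
    (MulEquiv.isCyclic (IsCyclic.mulAutMulEquiv (P : Subgroup G))).2 inferInstance
  haveI hS0cyc : IsCyclic (S0 : Subgroup N) := isCyclic_of_injective _ hinj
  -- transport to `G`
  have hsubinj : Function.Injective N.subtype := Subgroup.subtype_injective N
  set S : Subgroup G := (S0 : Subgroup N).map N.subtype with hSdef
  have hScard : Nat.card S = Nat.card (S0 : Subgroup N) :=
    Subgroup.card_map_of_injective hsubinj
  have hfac : (Nat.card N).factorization 2 = (Nat.card G).factorization 2 := by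
    have h35 : Nat.card G = 35 * Nat.card N := by rw [hN, hG]; ring
    rw [h35, Nat.factorization_mul (by norm_num) Nat.card_pos.ne']
    simp [Nat.factorization_eq_zero_of_not_dvd (show ¬ 2 ∣ 35 by norm_num)]
  have hS2 : Nat.card S = 2 ^ (Nat.card G).factorization 2 := by
    rw [hScard, S0.card_eq_multiplicity, hfac]
  let S' : Sylow 2 G := Sylow.ofCard S hS2
  have hS'coe : (S' : Subgroup G) = S := Sylow.coe_ofCard S hS2
  haveI hS'cyc : IsCyclic (S' : Subgroup G) := by
    rw [hS'coe]
    exact (MulEquiv.isCyclic (Subgroup.equivMapOfInjective (S0 : Subgroup N) N.subtype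
      hsubinj)).1 hS0cyc
  have h2G : 2 ∣ Nat.card G := by
    rw [hG]
    exact Dvd.dvd.mul_left he2 595
  have hmin : (Nat.card G).minFac = 2 := (Nat.minFac_eq_two_iff _).2 h2G
  have hcomp := IsCyclic.isComplement' hmin hS'cyc
  set K : Subgroup G := (MonoidHom.transferSylow S'
    (IsCyclic.normalizer_le_centralizer hmin hS'cyc)).ker with hKdef
  have hKn : K.Normal := MonoidHom.normal_ker _
  haveI := hKn
  have hcm : Nat.card K * Nat.card (S' : Subgroup G) = Nat.card G := hcomp.card_mul_card
  have hidx : K.index = Nat.card (S' : Subgroup G) := by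
    have := Subgroup.card_mul_index K
    rw [← hcm] at this
    exact Nat.eq_of_mul_eq_mul_left Nat.card_pos this
  have hS'card : Nat.card (S' : Subgroup G) = 2 ^ (Nat.card G).factorization 2 := by
    rw [hS'coe]; exact hS2
  have hPK : (P : Subgroup G) ≤ K := N15A.sylow_le_of_normal P K (by
    rw [hidx, hS'card]
    intro h
    have := Nat.Prime.dvd_of_dvd_pow (by norm_num : Nat.Prime 17) h
    omega)
  have htop := hK K hKn ⟨P, hPK⟩
  rw [htop, Subgroup.card_top] at hcm
  have h1 : Nat.card G * Nat.card (S' : Subgroup G) = Nat.card G * 1 := by rw [hcm, mul_one]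
  have h2 := Nat.eq_of_mul_eq_mul_left Nat.card_pos h1
  rw [hS'card] at h2
  have hpos : 0 < (Nat.card G).factorization 2 :=
    Nat.Prime.factorization_pos_of_dvd Nat.prime_two Nat.card_pos.ne' h2G
  have : 2 ≤ 2 ^ (Nat.card G).factorization 2 := by
    calc 2 = 2 ^ 1 := by norm_num
      _ ≤ 2 ^ (Nat.card G).factorization 2 := Nat.pow_le_pow_right (by norm_num) hpos
  omega

theorem odd_case
    (hK : ∀ L : Subgroup G, L.Normal → (∃ P : Sylow 17 G, (P : Subgroup G) ≤ L) → L = ⊤)
    (hG : Nat.card G = 595) : False := by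
  have hodd : ¬ 2 ∣ Nat.card G := by
    rw [hG]
    omega
  haveI : Fact (Nat.Prime 5) := ⟨by norm_num⟩
  obtain ⟨T⟩ := (inferInstance : Nonempty (Sylow 5 G))
  have hT : Nat.card T = 5 :=
    SylowCount.card_sylow_of_card_eq 5 119 (by rw [hG]) (by norm_num) T
  have hT' : Nat.card (T : Subgroup G) = 5 := hT
  obtain ⟨c, hc⟩ : Nat.card (T : Subgroup G) ∣
      Nat.card (Subgroup.normalizer ((T : Subgroup G) : Set G)) :=
    Subgroup.card_dvd_of_le Subgroup.le_normalizer
  rw [hT'] at hc
  have hc2 : ¬ 2 ∣ c := by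
    intro h
    apply hodd
    have h1 : c ∣ Nat.card (Subgroup.normalizer ((T : Subgroup G) : Set G)) :=
      ⟨5, by rw [hc, mul_comm]⟩
    exact dvd_trans h (dvd_trans h1 (Subgroup.card_subgroup_dvd_card _))
  have hcop : Nat.Coprime c (5 - 1) := by
    have h2 : Nat.Coprime c 2 :=
      ((Nat.Prime.coprime_iff_not_dvd Nat.prime_two).2 hc2).symm
    have h4 : (5 - 1 : ℕ) = 2 ^ 2 := by norm_num
    rw [h4]
    exact Nat.Coprime.pow_right 2 h2
  obtain ⟨K, hKn, hKcard, -⟩ :=
    SylowCount.exists_normal_complement_of_coprime T hT hc hcop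
  exact no_normal_index hK 5 (by norm_num) (by norm_num) K hKn hKcard

theorem key_of_IH
    (IH : ∀ (H : Type u) [Group H] [Finite H], Nat.card H < Nat.card G →
      Nat.card (Sylow 17 H) ≠ 35)
    (h35 : Nat.card (Sylow 17 G) = 35) :
    ∀ L : Subgroup G, L.Normal → (∃ P : Sylow 17 G, (P : Subgroup G) ≤ L) → L = ⊤ := by
  rintro L hLn ⟨P, hPL⟩
  haveI := hLn
  by_contra hne
  have hlt : Nat.card L < Nat.card G :=
    lt_of_le_of_ne (Subgroup.card_le_card_group L)
      (fun h => hne ((Subgroup.card_eq_iff_eq_top L).1 h))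
  exact IH L hlt (by rw [N15A.card_sylow_normal P L hPL, h35])

theorem faithful_of_IH
    (IH : ∀ (H : Type u) [Group H] [Finite H], Nat.card H < Nat.card G →
      Nat.card (Sylow 17 H) ≠ 35)
    (h35 : Nat.card (Sylow 17 G) = 35) :
    ∀ x : G, (∀ Q : Sylow 17 G, x • Q = Q) → x = 1 := by
  have hKstab : ∀ Q : Sylow 17 G, (toPermHom G (Sylow 17 G)).ker ≤ stabilizer G Q := by
    intro Q x hx
    rw [MonoidHom.mem_ker] at hx
    rw [mem_stabilizer_iff]
    have := congrArg (fun σ : Equiv.Perm (Sylow 17 G) => σ Q) hx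
    simpa using this
  have hKbot : (toPermHom G (Sylow 17 G)).ker = ⊥ := by
    by_contra hne
    have h1 : 1 < Nat.card (toPermHom G (Sylow 17 G)).ker :=
      (Subgroup.one_lt_card_iff_ne_bot _).2 hne
    have h2 := Subgroup.card_mul_index (toPermHom G (Sylow 17 G)).ker
    have hlt : Nat.card (G ⧸ (toPermHom G (Sylow 17 G)).ker) < Nat.card G := by
      rw [← Subgroup.index_eq_card, ← h2]
      have hpos : 0 < (toPermHom G (Sylow 17 G)).ker.index :=
        Nat.pos_of_ne_zero Subgroup.index_ne_zero_of_finite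
      nlinarith
    exact IH (G ⧸ (toPermHom G (Sylow 17 G)).ker) hlt
      (by rw [N15A.card_sylow_quotient _ hKstab, h35])
  intro x hx
  have hmem : x ∈ (toPermHom G (Sylow 17 G)).ker := by
    rw [MonoidHom.mem_ker]
    ext Q
    simp [hx Q]
  rw [hKbot] at hmem
  exact Subgroup.mem_bot.1 hmem

theorem even_of_key
    (hK : ∀ L : Subgroup G, L.Normal → (∃ P : Sylow 17 G, (P : Subgroup G) ≤ L) → L = ⊤) :
    ∀ ψ : G →* ℤˣ, ∀ g : G, ψ g = 1 := by
  intro ψ g
  obtain ⟨P⟩ := (inferInstance : Nonempty (Sylow 17 G))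
  have hPL : (P : Subgroup G) ≤ ψ.ker := by
    intro x hx
    rw [MonoidHom.mem_ker]
    obtain ⟨k, hk⟩ := N15A.exists_pow_eq_one_of_mem P hx
    have h1 : ψ x ^ 17 ^ k = 1 := by rw [← map_pow, hk, map_one]
    rcases Int.units_eq_one_or (ψ x) with h | h
    · exact h
    · exfalso
      rw [h, Odd.neg_one_pow (Odd.pow (by decide : Odd 17))] at h1
      exact absurd h1 (by decide)
  have htop := hK ψ.ker (MonoidHom.normal_ker ψ) ⟨P, hPL⟩
  have hg : g ∈ ψ.ker := by rw [htop]; exact Subgroup.mem_top g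
  exact MonoidHom.mem_ker.1 hg

theorem core
    (IH : ∀ (H : Type u) [Group H] [Finite H], Nat.card H < Nat.card G →
      Nat.card (Sylow 17 H) ≠ 35)
    (h35 : Nat.card (Sylow 17 G) = 35) : False := by
  have hK := key_of_IH IH h35
  have hfaith := faithful_of_IH IH h35
  have heven := even_of_key hK
  obtain ⟨P⟩ := (inferInstance : Nonempty (Sylow 17 G))
  obtain ⟨e, he, hG, hN⟩ := N35B.card_group h35 hfaith heven P
  have hP17 := N35B.card_sylow_seventeen h35 hfaith P
  have hC := N35B.centralizer_eq h35 hfaith heven P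
  by_cases he2 : 2 ∣ e
  · exact even_case hK P hP17 hC e he2 hG hN
  · have he16 : e ≤ 16 := Nat.le_of_dvd (by norm_num) he
    have he1 : e = 1 := by
      interval_cases e <;> omega
    rw [he1] at hG
    exact odd_case hK (by simpa using hG)

end core

theorem main_aux (n : ℕ) : ∀ (G : Type u) [Group G] [Finite G], Nat.card G = n →
    Nat.card (Sylow 17 G) ≠ 35 := by
  induction n using Nat.strong_induction_on with
  | _ n ih =>
    intro G _ _ hn h35
    haveI : Fact (Nat.Prime 17) := ⟨by norm_num⟩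
    exact core (fun H _ _ hlt => ih (Nat.card H) (hn ▸ hlt) H rfl) h35

/-- No finite group has exactly 35 Sylow 17-subgroups. -/
theorem main {G : Type u} [Group G] [Finite G] : Nat.card (Sylow 17 G) ≠ 35 :=
  main_aux _ G rfl

end Cfsg.Agent.Lib.Lead.N35C
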