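import Mathlib
import Cfsg.Agent.Lib.Lead.CjMore

set_option autoImplicit false

namespace Cfsg.Agent.Lib.Lead
namespace PEmbedded

open BaerSuzuki

variable {G : Type*} [Group G] [Finite G] {p : ℕ} [Fact p.Prime]

/-- the hypothesis on subgroups of a Sylow subgroup `P` of `H` passes to all big `p`-subgroups
of `H` -/
theorem hypA (big : Subgroup G → Prop) (hconj : ∀ X g, big X → big (cj X g))
    (H : Subgroup G) (P : Sylow p ↥H)
    (hyp : ∀ X : Subgroup G, X ≤ (P : Subgroup ↥H).map H.subtype → big X →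
      Subgroup.normalizer (X : Set G) ≤ H)
    (Y : Subgroup G) (hY : Y ≤ H) (h2 : IsPGroup p Y) (hbig : big Y) :
    Subgroup.normalizer (Y : Set G) ≤ H := by
  obtain ⟨h, hh, hle⟩ := exists_cj_le_sylow H P Y hY h2
  have hN := hyp _ hle (hconj Y h hbig)
  rw [normalizer_cj, cj_le_iff_le_cj_inv, cj_of_mem H h⁻¹ (H.inv_mem hh)] at hN
  exact hN

/-- a maximal `p`-subgroup of `H ∩ gHg⁻¹` which is big is a maximal `p`-subgroup of `H` -/
theorem lemB (big : Subgroup G → Prop) (hconj : ∀ X g, big X → big (cj X g)) (H : Subgroup G)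
    (hA : ∀ Y : Subgroup G, Y ≤ H → IsPGroup p Y → big Y → Subgroup.normalizer (Y : Set G) ≤ H)
    (g : G) (S : Subgroup G) (hS2 : IsPGroup p S) (hbig : big S) (hSD : S ≤ H ⊓ cj H g)
    (hmax : ∀ T : Subgroup G, IsPGroup p T → S ≤ T → T ≤ H ⊓ cj H g → T = S) :
    ∀ T : Subgroup G, IsPGroup p T → S ≤ T → T ≤ H → T = S := by
  have hSH : S ≤ H := hSD.trans inf_le_left
  have hN1 : Subgroup.normalizer (S : Set G) ≤ H := hA S hSH hS2 hbig
  have hN2 : Subgroup.normalizer (S : Set G) ≤ cj H g := by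
    have h1 : cj S g⁻¹ ≤ H := by
      rw [cj_le_iff_le_cj_inv, inv_inv]; exact hSD.trans inf_le_right
    have h2 := hA (cj S g⁻¹) h1 (isPGroup_cj S g⁻¹ hS2) (hconj S g⁻¹ hbig)
    rw [normalizer_cj, cj_le_iff_le_cj_inv, inv_inv] at h2
    exact h2
  intro T hT2 hST hTH
  by_contra hTS
  haveI : Group.IsNilpotent T := hT2.isNilpotent
  have hnc := Group.normalizerCondition_of_isNilpotent (G := T)
  have hlt' : S.subgroupOf T < ⊤ := by
    rw [lt_top_iff_ne_top]
    intro htop
    rw [Subgroup.subgroupOf_eq_top] at htop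
    exact hTS (le_antisymm htop hST)
  have h3 := hnc _ hlt'
  obtain ⟨t, htN, htS⟩ := SetLike.exists_of_lt h3
  rw [← Subgroup.subgroupOf_normalizer_eq hST, Subgroup.mem_subgroupOf] at htN
  rw [Subgroup.mem_subgroupOf] at htS
  have hz2 : IsPGroup p (Subgroup.zpowers (t : G)) :=
    hT2.to_le (by rw [Subgroup.zpowers_le]; exact t.2)
  have hzN : Subgroup.zpowers (t : G) ≤ Subgroup.normalizer (S : Set G) := by
    rw [Subgroup.zpowers_le]; exact htN
  have hT1 : IsPGroup p (Subgroup.zpowers (t : G) ⊔ S : Subgroup G) :=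
    IsPGroup.to_sup_of_normal_right' hz2 hS2 hzN
  have hT1D : Subgroup.zpowers (t : G) ⊔ S ≤ H ⊓ cj H g := by
    apply sup_le
    · exact hzN.trans (le_inf hN1 hN2)
    · exact hSD
  have := hmax _ hT1 le_sup_right hT1D
  apply htS
  rw [← this]
  exact Subgroup.mem_sup_left (Subgroup.mem_zpowers _)

/-- The generalized strongly-embedded criterion: normalizers of big subgroups of a Sylow
`p`-subgroup of `H` lie in `H` iff no intersection `H ∩ gHg⁻¹` with `g ∉ H` is big. -/
theorem criterion (big : Subgroup G → Prop)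
    (hmono : ∀ X Y : Subgroup G, X ≤ Y → big X → big Y)
    (hconj : ∀ X g, big X → big (cj X g))
    (hsyl : ∀ D : Subgroup G, big D → ∃ A : Subgroup G, A ≤ D ∧ IsPGroup p A ∧ big A)
    (H : Subgroup G) (P : Sylow p ↥H) :
    (∀ X : Subgroup G, X ≤ (P : Subgroup ↥H).map H.subtype → big X →
        Subgroup.normalizer (X : Set G) ≤ H) ↔
      (∀ g : G, g ∉ H → ¬ big (H ⊓ cj H g)) := by
  constructor
  · intro hyp g hg hbigD
    have hA := hypA big hconj H P hyp
    set D : Subgroup G := H ⊓ cj H g with hD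
    obtain ⟨A, hAD, hA2, hAbig⟩ := hsyl D hbigD
    -- a Sylow p-subgroup of D containing a conjugate of A
    obtain S0 : Sylow p D := default
    obtain ⟨d, hdD, hdle⟩ := exists_cj_le_sylow D S0 A hAD hA2
    set S : Subgroup G := (S0 : Subgroup D).map D.subtype with hSdef
    have hS2 : IsPGroup p S := S0.2.map _
    have hSbig : big S := hmono _ _ hdle (hconj A d hAbig)
    have hSD : S ≤ D := Subgroup.map_subtype_le _
    have hmax : ∀ T : Subgroup G, IsPGroup p T → S ≤ T → T ≤ D → T = S := by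
      intro T hT2 hST hTD
      have h1 : (S0 : Subgroup D) ≤ T.subgroupOf D := by
        intro x hx
        rw [Subgroup.mem_subgroupOf]
        exact hST ⟨x, hx, rfl⟩
      have h2 := S0.3 hT2.comap_subtype h1
      rw [hSdef, ← h2]
      exact (Subgroup.map_subgroupOf_eq_of_le hTD).symm
    have hB1 := lemB big hconj H hA g S hS2 hSbig hSD hmax
    have hS'D : cj S g⁻¹ ≤ H ⊓ cj H g⁻¹ := by
      apply le_inf
      · rw [cj_le_iff_le_cj_inv, inv_inv]; exact hSD.trans inf_le_right
      · exact cj_mono (hSD.trans inf_le_left) g⁻¹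
    have hmax' : ∀ T : Subgroup G, IsPGroup p T → cj S g⁻¹ ≤ T → T ≤ H ⊓ cj H g⁻¹ →
        T = cj S g⁻¹ := by
      intro T hT2 hST hTD
      have h1 : S ≤ cj T g := by
        have := cj_mono hST g
        rwa [cj_cj_inv] at this
      have h2 : cj T g ≤ D := by
        apply le_inf
        · have := cj_mono (hTD.trans inf_le_right) g
          rwa [cj_cj_inv] at this
        · exact cj_mono (hTD.trans inf_le_left) g
      have h3 := hmax (cj T g) (isPGroup_cj T g hT2) h1 h2
      rw [cj_eq_iff] at h3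
      exact h3
    have hB2 := lemB big hconj H hA g⁻¹ (cj S g⁻¹) (isPGroup_cj S g⁻¹ hS2) (hconj S g⁻¹ hSbig)
      hS'D hmax'
    obtain ⟨h1, hh1, hle1⟩ := exists_cj_le_sylow H P S (hSD.trans inf_le_left) hS2
    obtain ⟨h2, hh2, hle2⟩ := exists_cj_le_sylow H P (cj S g⁻¹) (hS'D.trans inf_le_left)
      (isPGroup_cj S g⁻¹ hS2)
    set P' : Subgroup G := (P : Subgroup H).map H.subtype with hP'
    have hP'2 : IsPGroup p P' := P.2.map _
    have hP'H : P' ≤ H := Subgroup.map_subtype_le _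
    have e1 : cj P' h1⁻¹ = S := by
      apply hB1 _ (isPGroup_cj P' h1⁻¹ hP'2)
      · rw [← cj_le_iff_le_cj_inv]; exact hle1
      · rw [cj_le_iff_le_cj_inv, inv_inv, cj_of_mem H h1 hh1]; exact hP'H
    have e2 : cj P' h2⁻¹ = cj S g⁻¹ := by
      apply hB2 _ (isPGroup_cj P' h2⁻¹ hP'2)
      · rw [← cj_le_iff_le_cj_inv]; exact hle2
      · rw [cj_le_iff_le_cj_inv, inv_inv, cj_of_mem H h2 hh2]; exact hP'H
    have e3 : cj S (g * h2⁻¹ * h1) = S := by
      have : cj S (g * h2⁻¹ * h1) = cj (cj (cj S h1) h2⁻¹) g := by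
        rw [cj_cj, cj_cj, mul_assoc]
      rw [this]
      have e1' : cj S h1 = P' := by rw [← e1, cj_cj_inv]
      rw [e1', e2, cj_cj_inv]
    have hN := hA S (hSD.trans inf_le_left) hS2 hSbig (mem_normalizer_of_cj_eq S _ e3)
    apply hg
    have : g = (g * h2⁻¹ * h1) * (h1⁻¹ * h2) := by group
    rw [this]
    exact H.mul_mem hN (H.mul_mem (H.inv_mem hh1) hh2)
  · intro hyp X hXP hXbig n hn
    by_contra hnH
    apply hyp n hnH
    have hXH : X ≤ H := hXP.trans (Subgroup.map_subtype_le _)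
    have hXn : X ≤ cj H n := by
      intro x hx
      rw [mem_cj]
      have hn' : n⁻¹ ∈ Subgroup.normalizer (X : Set G) := inv_mem hn
      have := (Subgroup.mem_normalizer_iff.mp hn' x).mp hx
      rw [inv_inv] at this
      exact hXH this
    exact hmono X _ (le_inf hXH hXn) hXbig

end PEmbedded
end Cfsg.Agent.Lib.Lead
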