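import Mathlib
import Cfsg.Agent.Lib.Helper6.GaloisConj
import Cfsg.Agent.Lib.Helper6.Multiplicity
import Cfsg.Agent.Lib.Helper6.Artin
import Cfsg.Agent.Lib.Helper6.GenCharOps

set_option autoImplicit false

/-! Peterfalvi section 1: Galois twists. -/

namespace Cfsg.Agent.Lib.Lead.PF

open Cfsg.Agent.Lib.Helper6
open scoped ComplexConjugate

theorem isCharacter_comp_pow {G : Type*} [Group G] [Fintype G] {χ : G → ℂ}
    (hχ : Cfsg.IsCharacter G χ) {k : ℕ} (hk : Nat.Coprime k (Nat.card G)) :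
    Cfsg.IsCharacter G (fun g => χ (g ^ k)) := by
  classical
  haveI : Fintype (Cfsg.IrrCharacter G) := Fintype.ofFinite _
  obtain ⟨m, hm, -⟩ := IsCharacter.exists_mult hχ
  have h1 : (fun g => χ (g ^ k))
      = ∑ θ : Cfsg.IrrCharacter G, m θ • (fun g => (θ : G → ℂ) (g ^ k)) := by
    funext g
    have := congrFun hm (g ^ k)
    simp only [Finset.sum_apply, Pi.smul_apply] at this ⊢
    exact this
  rw [h1]
  apply IsCharacter.sum
  intro θ _
  exact IsCharacter.nsmul (IsIrrCharacter.isCharacter (IsIrrCharacter.comp_pow θ.2 hk)) _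

theorem s1493 {G : Type*} [Group G] [Finite G] (a b k : ℕ) (hab : Nat.card G = a * b)
    (hcop : Nat.Coprime a b) (hk : Nat.Coprime k a) (χ : G → ℂ) (hχ : Cfsg.IsCharacter G χ) :
    ∃ χ' : G → ℂ, Cfsg.IsCharacter G χ' ∧ (Cfsg.IsIrrCharacter G χ → Cfsg.IsIrrCharacter G χ') ∧
      (∀ g : G, orderOf g ∣ a → χ' g = χ (g ^ k)) ∧
      (∀ g : G, Nat.Coprime (orderOf g) a → χ' g = χ g) := by
  classical
  haveI : Fintype G := Fintype.ofFinite G
  obtain ⟨m, hma, hmb⟩ := Nat.chineseRemainder hcop k 1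
  have hm1 : Nat.Coprime m a := by
    unfold Nat.Coprime
    rw [hma.gcd_eq]
    exact hk
  have hm2 : Nat.Coprime m b := by
    unfold Nat.Coprime
    rw [hmb.gcd_eq]
    exact Nat.gcd_one_left b
  have hm : Nat.Coprime m (Nat.card G) := by
    rw [hab]
    exact Nat.Coprime.mul_right hm1 hm2
  refine ⟨fun g => χ (g ^ m), isCharacter_comp_pow hχ hm, fun h => IsIrrCharacter.comp_pow h hm,
    ?_, ?_⟩
  · intro g hg
    have : g ^ m = g ^ k := pow_eq_pow_iff_modEq.2 (hma.of_dvd hg)
    simp only [this]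
  · intro g hg
    have hd : orderOf g ∣ b := by
      have h1 : orderOf g ∣ a * b := by
        rw [← hab]
        exact orderOf_dvd_natCard g
      exact Nat.Coprime.dvd_of_dvd_mul_left hg h1
    have : g ^ m = g ^ 1 := pow_eq_pow_iff_modEq.2 (hmb.of_dvd hd)
    simp only [this, pow_one]

theorem s1494 {G : Type*} [Group G] [Finite G] (χ : G → ℂ)
    (hχ : Cfsg.IsGeneralizedCharacter G χ) (p : ℕ) (hp : p.Prime) (x y : G) (hx : orderOf x = p)
    (hxy : x * y = y * x) :
    ∃ ω : ℂ, IsIntegral ℤ ω ∧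
      χ (x * y) - χ y = (1 - Complex.exp (2 * Real.pi * Complex.I / p)) * ω := by
  classical
  set ε := Complex.exp (2 * Real.pi * Complex.I / p) with hεdef
  have hε : IsPrimitiveRoot ε p := Complex.isPrimitiveRoot_exp p hp.ne_zero
  haveI : NeZero p := ⟨hp.ne_zero⟩
  have hεint : IsIntegral ℤ ε := hε.isIntegral hp.pos
  set A : Subgroup G := Subgroup.closure ({x, y} : Set G) with hA
  have hcommS : ∀ a ∈ ({x, y} : Set G), ∀ b ∈ ({x, y} : Set G), a * b = b * a := by
    intro a ha b hb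
    rcases ha with rfl | rfl <;> rcases hb with rfl | rfl
    · rfl
    · exact hxy
    · exact hxy.symm
    · rfl
  have hcomm : ∀ a b : A, a * b = b * a := by
    letI := Subgroup.closureCommGroupOfComm hcommS
    intro a b
    exact mul_comm a b
  haveI : Fintype A := Fintype.ofFinite _
  have hres := IsGeneralizedCharacter.restrict A hχ
  obtain ⟨ι, _, lam, c, hlc⟩ := IsGeneralizedCharacter.exists_linear_comb hcomm hres
  let xA : A := ⟨x, Subgroup.subset_closure (by simp)⟩
  let yA : A := ⟨y, Subgroup.subset_closure (by simp)⟩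
  have hval : ∀ a : A, χ a = ∑ i, (c i : ℂ) * ((lam i a : ℂˣ) : ℂ) := by
    intro a
    have := congrFun hlc a
    simpa [Finset.sum_apply] using this
  have hroot : ∀ i, ∃ j : ℕ, ((lam i xA : ℂˣ) : ℂ) = ε ^ j := by
    intro i
    have h1 : ((lam i xA : ℂˣ) : ℂ) ^ p = 1 := by
      rw [← Units.val_pow_eq_pow_val, ← map_pow]
      have : xA ^ p = 1 := by
        apply Subtype.ext
        change x ^ p = 1
        rw [← hx]
        exact pow_orderOf_eq_one x
      rw [this, map_one, Units.val_one]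
    obtain ⟨j, -, hj⟩ := hε.eq_pow_of_pow_eq_one h1
    exact ⟨j, hj.symm⟩
  choose j hj using hroot
  have hyint : ∀ i, IsIntegral ℤ ((lam i yA : ℂˣ) : ℂ) := by
    intro i
    apply IsIntegral.of_pow (n := Nat.card A) Nat.card_pos
    rw [← Units.val_pow_eq_pow_val, ← map_pow, pow_card_eq_one', map_one, Units.val_one]
    exact isIntegral_one
  refine ⟨∑ i, (c i : ℂ) * (((lam i yA : ℂˣ) : ℂ) * (-(∑ l ∈ Finset.range (j i), ε ^ l))), ?_, ?_⟩
  · apply IsIntegral.sum
    intro i _
    apply IsIntegral.mul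
    · have := isIntegral_algebraMap (R := ℤ) (A := ℂ) (x := c i)
      simpa using this
    · apply IsIntegral.mul (hyint i)
      apply IsIntegral.neg
      apply IsIntegral.sum
      intro l _
      exact hεint.pow l
  · have h1 : χ (x * y) = χ ((xA * yA : A) : G) := rfl
    have h2 : χ y = χ (yA : G) := rfl
    rw [h1, h2, hval, hval, ← Finset.sum_sub_distrib, Finset.mul_sum]
    apply Finset.sum_congr rfl
    intro i _
    rw [map_mul, Units.val_mul, hj i]
    have hg : (∑ l ∈ Finset.range (j i), ε ^ l) * (ε - 1) = ε ^ (j i) - 1 := geom_sum_mul ε (j i)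
    linear_combination (-(c i : ℂ) * ((lam i yA : ℂˣ) : ℂ)) * hg

end Cfsg.Agent.Lib.Lead.PF
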