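import Mathlib

/-! A conjugation-closed family of subgroups of order `p` with the "line" axioms
has a member commuting with all members (used for S3196). -/

set_option autoImplicit false

namespace Cfsg.Agent.Lib.Lead.PFam

open Subgroup

variable {G : Type*} [Group G]

/-- the hypotheses -/
structure Hyp (p : ℕ) (K : Set (Subgroup G)) : Prop where
  hp : p.Prime
  hK : ∀ X ∈ K, Nat.card ↥X = p
  hKc : ∀ X ∈ K, ∀ g : G, X.map (MulAut.conj g).toMonoidHom ∈ K
  ha : ∀ X ∈ K, ∀ Y ∈ K, X ≠ Y → (∀ x ∈ X, ∀ y ∈ Y, x * y = y * x) →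
      ∀ Z : Subgroup G, Z ≤ X ⊔ Y → Nat.card ↥Z = p → Z ∈ K
  hb : ∀ X ∈ K, ∀ Y ∈ K, X ≠ Y → (∀ x ∈ X, ∀ y ∈ Y, x * y = y * x) →
      ∀ W ∈ K, (X ⊔ Y) ⊓ Subgroup.centralizer (W : Set G) ≠ ⊥

/-- the generators of members of `K` -/
def D (K : Set (Subgroup G)) : Set G := {x | zpowers x ∈ K}

variable {p : ℕ} {K : Set (Subgroup G)}

theorem comm_of_mem {x t a : G} (h : Commute x t) (ha : a ∈ zpowers x) : Commute a t := by
  obtain ⟨m, rfl⟩ := mem_zpowers_iff.1 ha
  exact h.zpow_left m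

theorem comm_zpowers {x y a b : G} (h : Commute x y) (ha : a ∈ zpowers x) (hb : b ∈ zpowers y) :
    Commute a b := by
  obtain ⟨m, rfl⟩ := mem_zpowers_iff.1 ha
  obtain ⟨n, rfl⟩ := mem_zpowers_iff.1 hb
  exact h.zpow_zpow m n

/-- the product set of two commuting cyclic groups, as a subgroup -/
def prodSub (x y : G) (h : Commute x y) : Subgroup G where
  carrier := {z | ∃ a ∈ zpowers x, ∃ b ∈ zpowers y, z = a * b}
  one_mem' := ⟨1, one_mem _, 1, one_mem _, (mul_one 1).symm⟩
  mul_mem' := by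
    rintro _ _ ⟨a, ha, b, hb, rfl⟩ ⟨a', ha', b', hb', rfl⟩
    refine ⟨a * a', mul_mem ha ha', b * b', mul_mem hb hb', ?_⟩
    have e : b * a' = a' * b := ((comm_zpowers h ha' hb).eq).symm
    calc a * b * (a' * b') = a * (b * a') * b' := by group
      _ = a * (a' * b) * b' := by rw [e]
      _ = a * a' * (b * b') := by group
  inv_mem' := by
    rintro _ ⟨a, ha, b, hb, rfl⟩
    refine ⟨a⁻¹, inv_mem ha, b⁻¹, inv_mem hb, ?_⟩
    have e : a * b = b * a := (comm_zpowers h ha hb).eq
    rw [e, mul_inv_rev]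

theorem exists_mul {x y z : G} (h : Commute x y) (hz : z ∈ zpowers x ⊔ zpowers y) :
    ∃ a ∈ zpowers x, ∃ b ∈ zpowers y, z = a * b := by
  have hle : zpowers x ⊔ zpowers y ≤ prodSub x y h := by
    refine sup_le ?_ ?_
    · intro a ha; exact ⟨a, ha, 1, one_mem _, (mul_one a).symm⟩
    · intro b hb; exact ⟨1, one_mem _, b, hb, (one_mul b).symm⟩
  exact hle hz

theorem orderOf_of_mem_D (H : Hyp p K) {x : G} (hx : x ∈ D K) : orderOf x = p := by
  rw [← Nat.card_zpowers]; exact H.hK _ hx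

theorem ne_one_of_mem_D (H : Hyp p K) {x : G} (hx : x ∈ D K) : x ≠ 1 := by
  rintro rfl
  have := orderOf_of_mem_D H hx
  rw [orderOf_one] at this
  exact H.hp.one_lt.ne this

theorem pow_eq_one_of_mem {x a : G} (hx : orderOf x = p) (ha : a ∈ zpowers x) : a ^ p = 1 := by
  obtain ⟨m, rfl⟩ := mem_zpowers_iff.1 ha
  rw [← zpow_natCast, ← zpow_mul, mul_comm, zpow_mul, zpow_natCast, ← hx, pow_orderOf_eq_one,
    one_zpow]

section fin
variable [Finite G]

theorem zpowers_eq (hp : p.Prime) {x z : G} (hx : orderOf x = p) (hz : z ∈ zpowers x)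
    (hz1 : z ≠ 1) : zpowers z = zpowers x := by
  have hle : zpowers z ≤ zpowers x := zpowers_le.2 hz
  have hzp : z ^ p = 1 := pow_eq_one_of_mem hx hz
  have hoz : orderOf z = p := by
    rcases (Nat.dvd_prime hp).1 (orderOf_dvd_of_pow_eq_one hzp) with h | h
    · exact absurd (orderOf_eq_one_iff.1 h) hz1
    · exact h
  refine eq_of_le_of_card_ge hle ?_
  rw [Nat.card_zpowers, Nat.card_zpowers, hx, hoz]

theorem mem_D_of_mem (H : Hyp p K) {x z : G} (hx : x ∈ D K) (hz : z ∈ zpowers x) (hz1 : z ≠ 1) :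
    z ∈ D K ∧ x ∈ zpowers z := by
  have e := zpowers_eq H.hp (orderOf_of_mem_D H hx) hz hz1
  refine ⟨?_, ?_⟩
  · show zpowers z ∈ K
    rw [e]; exact hx
  · rw [e]; exact mem_zpowers x

theorem conj_mem (H : Hyp p K) {x : G} (hx : x ∈ D K) (g : G) : g * x * g⁻¹ ∈ D K := by
  have := H.hKc _ hx g
  rw [MonoidHom.map_zpowers] at this
  simpa [D, MulAut.conj_apply] using this

/-- closure of `D` along lines -/
theorem line_mem (H : Hyp p K) {x y z : G} (hx : x ∈ D K) (hy : y ∈ D K) (hxy : Commute x y)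
    (hne : zpowers x ≠ zpowers y) (hz : z ∈ zpowers x ⊔ zpowers y) (hz1 : z ≠ 1) : z ∈ D K := by
  obtain ⟨a, ha, b, hb, rfl⟩ := exists_mul hxy hz
  have hab : Commute a b := comm_zpowers hxy ha hb
  have hzp : (a * b) ^ p = 1 := by
    rw [hab.mul_pow, pow_eq_one_of_mem (orderOf_of_mem_D H hx) ha,
      pow_eq_one_of_mem (orderOf_of_mem_D H hy) hb, one_mul]
  have hoz : orderOf (a * b) = p := by
    rcases (Nat.dvd_prime H.hp).1 (orderOf_dvd_of_pow_eq_one hzp) with h | h
    · exact absurd (orderOf_eq_one_iff.1 h) hz1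
    · exact h
  refine H.ha _ hx _ hy hne (fun s hs t ht => (comm_zpowers hxy hs ht).eq) _ (zpowers_le.2 hz) ?_
  rw [Nat.card_zpowers, hoz]

/-- every member of `D` commutes with a point of each line -/
theorem line_comm (H : Hyp p K) {x y w : G} (hx : x ∈ D K) (hy : y ∈ D K) (hxy : Commute x y)
    (hne : zpowers x ≠ zpowers y) (hw : w ∈ D K) :
    ∃ z ∈ zpowers x ⊔ zpowers y, z ≠ 1 ∧ Commute z w := by
  have := H.hb _ hx _ hy hne (fun s hs t ht => (comm_zpowers hxy hs ht).eq) _ hw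
  obtain ⟨⟨z, hz⟩, hz1⟩ := ne_bot_iff_exists_ne_one.1 this
  rw [mem_inf, mem_centralizer_iff] at hz
  refine ⟨z, hz.1, ?_, ?_⟩
  · intro e; apply hz1; exact Subtype.ext e
  · exact (hz.2 w (mem_zpowers w)).symm

/-- a "type one" configuration produces a central commutator in `D` -/
theorem type_one (H : Hyp p K) {g h q q' : G} (hg : g ∈ D K) (hh : h ∈ D K) (hq : q ∈ D K)
    (hq' : q' ∈ D K) (hgh : ¬ Commute g h) (hqg : Commute q g) (hqh : Commute q h)
    (hq'g : Commute q' g) (hq'h : Commute q' h) (hqq' : ¬ Commute q q') :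
    ∃ a c : G, a ∈ D K ∧ c ∈ D K ∧ c = a⁻¹ * h * a * h⁻¹ ∧ Commute c a ∧ Commute c h := by
  have hq'h_ne : zpowers q' ≠ zpowers h := by
    intro e
    have hm : h ∈ zpowers q' := e ▸ mem_zpowers h
    exact hgh ((comm_of_mem hq'g hm).symm)
  have hw : q' * h ∈ D K := by
    refine line_mem H hq' hh hq'h hq'h_ne
      (mul_mem (mem_sup_left (mem_zpowers q')) (mem_sup_right (mem_zpowers h))) ?_
    intro e
    have e' : h = q'⁻¹ := eq_inv_of_mul_eq_one_right e
    exact hgh (by rw [e']; exact hq'g.symm.inv_right)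
  have hgq_ne : zpowers g ≠ zpowers q := by
    intro e
    have hm : g ∈ zpowers q := e ▸ mem_zpowers g
    exact hgh (comm_of_mem hqh hm)
  obtain ⟨z, hz, hz1, hzw⟩ := line_comm H hg hq hqg.symm hgq_ne hw
  obtain ⟨a, ha, b, hb, rfl⟩ := exists_mul hqg.symm hz
  have ha_q' : Commute a q' := comm_of_mem hq'g.symm ha
  have hb_h : Commute b h := comm_of_mem hqh hb
  have hb_g : Commute b g := comm_of_mem hqg hb
  obtain ⟨c, hc⟩ : ∃ c, c = a⁻¹ * h * a * h⁻¹ := ⟨_, rfl⟩
  have e := hzw.eq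
  have e' : b * q' * h = q' * (a⁻¹ * h * a * b) := by
    have e2 : a * (b * q' * h) = a * (q' * (a⁻¹ * h * a * b)) := by
      calc a * (b * q' * h) = a * b * (q' * h) := by group
        _ = q' * h * (a * b) := e
        _ = q' * a * (a⁻¹ * h * a * b) := by group
        _ = a * q' * (a⁻¹ * h * a * b) := by rw [ha_q'.eq]
        _ = a * (q' * (a⁻¹ * h * a * b)) := by group
    exact mul_left_cancel e2
  have e1 : q'⁻¹ * b * q' = a⁻¹ * h * a * h⁻¹ * b := by
    calc q'⁻¹ * b * q' = q'⁻¹ * (b * q' * h) * h⁻¹ := by group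
      _ = q'⁻¹ * (q' * (a⁻¹ * h * a * b)) * h⁻¹ := by rw [e']
      _ = a⁻¹ * h * a * (b * h⁻¹) := by group
      _ = a⁻¹ * h * a * (h⁻¹ * b) := by rw [hb_h.inv_right.eq]
      _ = a⁻¹ * h * a * h⁻¹ * b := by group
  have hc2 : c = q'⁻¹ * b * q' * b⁻¹ := by
    rw [e1, hc]; group
  have hc_g : Commute c g := by
    rw [hc2]
    exact (((hq'g.inv_left).mul_left hb_g).mul_left hq'g).mul_left hb_g.inv_left
  have hc_h : Commute c h := by
    rw [hc2]
    exact (((hq'h.inv_left).mul_left hb_h).mul_left hq'h).mul_left hb_h.inv_left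
  have hc_a : Commute c a := (comm_of_mem hc_g.symm ha).symm
  have ha1 : a ≠ 1 := by
    rintro rfl
    have hc1 : q'⁻¹ * b * q' * b⁻¹ = 1 := by rw [← hc2, hc]; group
    have hbq' : Commute b q' := by
      have e3 : q'⁻¹ * b * q' = b := by
        calc q'⁻¹ * b * q' = (q'⁻¹ * b * q' * b⁻¹) * b := by group
          _ = b := by rw [hc1, one_mul]
      show b * q' = q' * b
      calc b * q' = q' * (q'⁻¹ * b * q') := by group
        _ = q' * b := by rw [e3]
    have hb1 : b ≠ 1 := by simpa using hz1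
    have hm : q ∈ zpowers b := (mem_D_of_mem H hq hb hb1).2
    exact hqq' (comm_of_mem hbq' hm)
  have hg_a : g ∈ zpowers a := (mem_D_of_mem H hg ha ha1).2
  have hc1 : c ≠ 1 := by
    intro e0
    have hah : Commute a h := by
      have e3 : a⁻¹ * h * a = h := by
        calc a⁻¹ * h * a = (a⁻¹ * h * a * h⁻¹) * h := by group
          _ = h := by rw [← hc, e0, one_mul]
      show a * h = h * a
      calc a * h = a * (a⁻¹ * h * a) := by rw [e3]
        _ = h * a := by group
    exact hgh (comm_of_mem hah hg_a)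
  have haD : a ∈ D K := (mem_D_of_mem H hg ha ha1).1
  have hac : a * c = h * a * h⁻¹ := by rw [hc]; group
  have hacD : a * c ∈ D K := by rw [hac]; exact conj_mem H haD h
  have hne' : zpowers a ≠ zpowers (a * c) := by
    intro e0
    have h1 : a * c ∈ zpowers a := e0 ▸ mem_zpowers (a * c)
    have h2 : c ∈ zpowers a := by
      have := (zpowers a).mul_mem (inv_mem (mem_zpowers a)) h1
      simpa using this
    have hm : a ∈ zpowers c := (mem_D_of_mem H haD h2 hc1).2
    have hah : Commute a h := comm_of_mem hc_h hm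
    exact hgh (comm_of_mem hah hg_a)
  have hcD : c ∈ D K := by
    have hmem : c ∈ zpowers a ⊔ zpowers (a * c) := by
      have h5 : a⁻¹ * (a * c) ∈ zpowers a ⊔ zpowers (a * c) :=
        mul_mem (mem_sup_left (inv_mem (mem_zpowers a))) (mem_sup_right (mem_zpowers _))
      rwa [inv_mul_cancel_left] at h5
    exact line_mem H haD hacD ((Commute.refl a).mul_right hc_a.symm) hne' hmem hc1
  exact ⟨a, c, haD, hcD, hc, hc_a, hc_h⟩

/-- a central commutator in `D` commutes with all of `D` -/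
theorem universal_of (H : Hyp p K) {a h c : G} (haD : a ∈ D K) (hhD : h ∈ D K) (hcD : c ∈ D K)
    (hdef : c = a⁻¹ * h * a * h⁻¹) (hca : Commute c a) (hch : Commute c h) :
    ∀ u ∈ D K, Commute c u := by
  intro u hu
  by_contra hcu
  have hc1 : c ≠ 1 := ne_one_of_mem_D H hcD
  have hah : ¬ Commute a h := by
    intro e
    apply hc1
    have e1 : h * a = a * h := e.eq.symm
    rw [hdef]
    calc a⁻¹ * h * a * h⁻¹ = a⁻¹ * (h * a) * h⁻¹ := by group
      _ = a⁻¹ * (a * h) * h⁻¹ := by rw [e1]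
      _ = 1 := by group
  have key : ∀ t ∈ D K, Commute c t → zpowers c ≠ zpowers t →
      ∃ c2 ∈ zpowers c, Commute (c2 * t) u := by
    intro t ht hct hne
    obtain ⟨z, hz, hz1, hzu⟩ := line_comm H hcD ht hct hne hu
    obtain ⟨c1, hc1m, t1, ht1m, rfl⟩ := exists_mul hct hz
    have ht1 : t1 ≠ 1 := by
      rintro rfl
      have hc11 : c1 ≠ 1 := by simpa using hz1
      have hm : c ∈ zpowers c1 := (mem_D_of_mem H hcD hc1m hc11).2
      exact hcu (comm_of_mem (by simpa using hzu) hm)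
    obtain ⟨k, hk⟩ := mem_zpowers_iff.1 (mem_D_of_mem H ht ht1m ht1).2
    refine ⟨c1 ^ k, Subgroup.zpow_mem _ hc1m k, ?_⟩
    have hcomm : Commute c1 t1 := comm_zpowers hct hc1m ht1m
    have e : (c1 * t1) ^ k = c1 ^ k * t := by rw [hcomm.mul_zpow, hk]
    rw [← e]; exact hzu.zpow_left k
  have hne_a : zpowers c ≠ zpowers a := by
    intro e
    have hm : a ∈ zpowers c := e ▸ mem_zpowers a
    exact hah (comm_of_mem hch hm)
  have hne_h : zpowers c ≠ zpowers h := by
    intro e
    have hm : h ∈ zpowers c := e ▸ mem_zpowers h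
    exact hah ((comm_of_mem hca hm).symm)
  obtain ⟨c2, hc2, h2⟩ := key a haD hca hne_a
  obtain ⟨c3, hc3, h3⟩ := key h hhD hch hne_h
  have h2a : Commute c2 a := comm_of_mem hca hc2
  have h2h : Commute c2 h := comm_of_mem hch hc2
  have h3a : Commute c3 a := comm_of_mem hca hc3
  have h23 : Commute c2 c3 := comm_zpowers (Commute.refl c) hc2 hc3
  have e1 : c2 * a * (c3 * h) = c2 * c3 * (a * h) := by
    calc c2 * a * (c3 * h) = c2 * (a * c3) * h := by group
      _ = c2 * (c3 * a) * h := by rw [h3a.eq]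
      _ = c2 * c3 * (a * h) := by group
  have e2 : c3 * h * (c2 * a) = c2 * c3 * (h * a) := by
    calc c3 * h * (c2 * a) = c3 * (h * c2) * a := by group
      _ = c3 * (c2 * h) * a := by rw [h2h.eq]
      _ = (c3 * c2) * (h * a) := by group
      _ = c2 * c3 * (h * a) := by rw [h23.eq]
  have e3 : c = (c2 * a * (c3 * h))⁻¹ * (c3 * h * (c2 * a)) := by
    rw [e1, e2]
    have e4 : c = h⁻¹ * c * h := by
      have := hch.eq
      calc c = h⁻¹ * (h * c) := by group
        _ = h⁻¹ * (c * h) := by rw [this]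
        _ = h⁻¹ * c * h := by group
    calc c = h⁻¹ * c * h := e4
      _ = h⁻¹ * (a⁻¹ * h * a * h⁻¹) * h := by rw [← hdef]
      _ = (c2 * c3 * (a * h))⁻¹ * (c2 * c3 * (h * a)) := by group
  apply hcu
  rw [e3]
  exact ((h2.mul_left h3).inv_left).mul_left (h3.mul_left h2)

/-- the main theorem: some member of `D` commutes with all of `D` -/
theorem exists_universal (H : Hyp p K) {x0 y0 : G} (hx0 : x0 ∈ D K) (hy0 : y0 ∈ D K)
    (h0 : Commute x0 y0) (hne0 : zpowers x0 ≠ zpowers y0) :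
    ∃ c ∈ D K, ∀ u ∈ D K, Commute c u := by
  classical
  by_contra hno
  push Not at hno
  have hfin : (D K).Finite := Set.toFinite _
  -- every member has a partner
  have partner : ∀ v ∈ D K, ∃ y ∈ D K, Commute v y ∧ zpowers v ≠ zpowers y := by
    intro v hv
    obtain ⟨z, hz, hz1, hzv⟩ := line_comm H hx0 hy0 h0 hne0 hv
    have hzD : z ∈ D K := line_mem H hx0 hy0 h0 hne0 hz hz1
    by_cases e : zpowers v = zpowers z
    · have hvs : v ∈ zpowers x0 ⊔ zpowers y0 := by
        have : v ∈ zpowers z := e ▸ mem_zpowers v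
        exact (zpowers_le.2 hz) this
      obtain ⟨a, ha, b, hb, rfl⟩ := exists_mul h0 hvs
      have hvx : Commute (a * b) x0 :=
        (comm_of_mem (Commute.refl x0) ha).mul_left (comm_of_mem h0.symm hb)
      have hvy : Commute (a * b) y0 :=
        (comm_of_mem h0 ha).mul_left (comm_of_mem (Commute.refl y0) hb)
      by_cases e2 : zpowers (a * b) = zpowers x0
      · exact ⟨y0, hy0, hvy, by rw [e2]; exact hne0⟩
      · exact ⟨x0, hx0, hvx, e2⟩
    · exact ⟨z, hzD, hzv.symm, e⟩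
  obtain ⟨v, hvD, hvmax⟩ := Set.exists_max_image (D K)
    (fun v => ({t | t ∈ D K ∧ Commute v t} : Set G).ncard) hfin ⟨x0, hx0⟩
  obtain ⟨u, huD, hvu⟩ := hno v hvD
  obtain ⟨y, hyD, hvy, hney⟩ := partner v hvD
  by_cases hN : ∀ q ∈ D K, ∀ q' ∈ D K, Commute q v → Commute q u → Commute q' v → Commute q' u →
      Commute q q'
  · -- the common neighbours of `v, u` commute pairwise
    have step : ∀ y ∈ D K, Commute v y → zpowers v ≠ zpowers y →
        ∃ a ∈ zpowers v, ∃ b ∈ zpowers y, b ≠ 1 ∧ (a * b) ∈ D K ∧ Commute (a * b) u := by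
      intro y hy hvy hne
      obtain ⟨z, hz, hz1, hzu⟩ := line_comm H hvD hy hvy hne huD
      have hzD : z ∈ D K := line_mem H hvD hy hvy hne hz hz1
      obtain ⟨a, ha, b, hb, rfl⟩ := exists_mul hvy hz
      refine ⟨a, ha, b, hb, ?_, hzD, hzu⟩
      rintro rfl
      have ha1 : a ≠ 1 := by simpa using hz1
      have hm : v ∈ zpowers a := (mem_D_of_mem H hvD ha ha1).2
      exact hvu (comm_of_mem (by simpa using hzu) hm)
    have pairwise : ∀ y1 ∈ D K, ∀ y2 ∈ D K, Commute v y1 → Commute v y2 → Commute y1 y2 := by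
      intro y1 hy1 y2 hy2 hv1 hv2
      by_cases e1 : zpowers v = zpowers y1
      · have hm : y1 ∈ zpowers v := e1 ▸ mem_zpowers y1
        exact comm_of_mem hv2 hm
      by_cases e2 : zpowers v = zpowers y2
      · have hm : y2 ∈ zpowers v := e2 ▸ mem_zpowers y2
        exact (comm_of_mem hv1 hm).symm
      obtain ⟨a1, ha1, b1, hb1, hb11, hz1D, hz1u⟩ := step y1 hy1 hv1 e1
      obtain ⟨a2, ha2, b2, hb2, hb21, hz2D, hz2u⟩ := step y2 hy2 hv2 e2
      have hb1v : Commute b1 v := comm_of_mem hv1.symm hb1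
      have hb2v : Commute b2 v := comm_of_mem hv2.symm hb2
      have hz1v : Commute (a1 * b1) v := (comm_of_mem (Commute.refl v) ha1).mul_left hb1v
      have hz2v : Commute (a2 * b2) v := (comm_of_mem (Commute.refl v) ha2).mul_left hb2v
      have hz12 : Commute (a1 * b1) (a2 * b2) := hN _ hz1D _ hz2D hz1v hz1u hz2v hz2u
      have ha1z2 : Commute a1 (a2 * b2) := comm_of_mem hz2v.symm ha1
      have hb1z2 : Commute b1 (a2 * b2) := by
        have := (ha1z2.inv_left).mul_left hz12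
        rwa [inv_mul_cancel_left] at this
      have hb1a2 : Commute b1 a2 := (comm_of_mem hb1v.symm ha2).symm
      have hb1b2 : Commute b1 b2 := by
        have := (hb1a2.inv_right).mul_right hb1z2
        rwa [inv_mul_cancel_left] at this
      have hm1 : y1 ∈ zpowers b1 := (mem_D_of_mem H hy1 hb1 hb11).2
      have hm2 : y2 ∈ zpowers b2 := (mem_D_of_mem H hy2 hb2 hb21).2
      exact comm_zpowers hb1b2 hm1 hm2
    obtain ⟨a, ha, b, hb, hb1, hzD, hzu⟩ := step y hyD hvy hney
    have hsub : ({t | t ∈ D K ∧ Commute v t} : Set G) ⊂ {t | t ∈ D K ∧ Commute (a * b) t} := by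
      refine ⟨?_, ?_⟩
      · rintro t ⟨htD, hvt⟩
        refine ⟨htD, ?_⟩
        have hyt : Commute y t := pairwise y hyD t htD hvy hvt
        exact (comm_of_mem hvt ha).mul_left (comm_of_mem hyt hb)
      · intro hsup
        exact hvu (hsup ⟨huD, hzu⟩).2
    have hlt := Set.ncard_lt_ncard hsub (Set.toFinite _)
    have hle := hvmax (a * b) hzD
    exact absurd hlt (not_lt.2 hle)
  · push Not at hN
    obtain ⟨q, hq, q', hq', hqv, hqu, hq'v, hq'u, hqq'⟩ := hN
    obtain ⟨a, c, haD, hcD, hdef, hca, hch⟩ :=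
      type_one H hvD huD hq hq' hvu hqv hqu hq'v hq'u hqq'
    obtain ⟨u', hu'D, hcu'⟩ := hno c hcD
    exact hcu' (universal_of H haD huD hcD hdef hca hch u' hu'D)

/-- every member of `K` is generated by a member of `D` -/
theorem exists_gen (H : Hyp p K) {X : Subgroup G} (hX : X ∈ K) : ∃ x ∈ D K, zpowers x = X := by
  have hcard := H.hK X hX
  have hne : X ≠ ⊥ := by
    rintro rfl
    rw [Subgroup.card_bot] at hcard
    exact H.hp.one_lt.ne hcard
  obtain ⟨⟨x, hx⟩, hx1⟩ := ne_bot_iff_exists_ne_one.1 hne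
  have hx1' : x ≠ 1 := fun e => hx1 (Subtype.ext e)
  have hle : zpowers x ≤ X := zpowers_le.2 hx
  have hdvd := card_dvd_of_le hle
  rw [hcard, Nat.card_zpowers] at hdvd
  have ho : orderOf x = p := by
    rcases (Nat.dvd_prime H.hp).1 hdvd with h | h
    · exact absurd (orderOf_eq_one_iff.1 h) hx1'
    · exact h
  have e : zpowers x = X := by
    refine eq_of_le_of_card_ge hle ?_
    rw [hcard, Nat.card_zpowers, ho]
  exact ⟨x, by show zpowers x ∈ K; rw [e]; exact hX, e⟩

end fin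

end Cfsg.Agent.Lib.Lead.PFam
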