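import Mathlib

namespace Cfsg.Agent.Lib.Lead.PGroupFixedVector

open MulAction

/-- A finite `p`-group acting linearly on a vector space of characteristic `p` and preserving a
nonzero subspace `W` fixes a nonzero vector of `W`. -/
theorem exists_fixed_ne_zero {P V K : Type*} [Group P] [Finite P] [Field K] {p : ℕ} [Fact p.Prime]
    [CharP K p] [AddCommGroup V] [Module K V] (hP : IsPGroup p P) (ρ : Representation K P V)
    (W : Submodule K V) (hW : ∀ g, ∀ w ∈ W, ρ g w ∈ W) (hne : W ≠ ⊥) :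
    ∃ w ∈ W, w ≠ 0 ∧ ∀ g, ρ g w = w := by
  classical
  haveI : Fintype P := Fintype.ofFinite P
  obtain ⟨w₀, hw₀W, hw₀⟩ := (Submodule.ne_bot_iff W).mp hne
  let ι : ZMod p →+* K := ZMod.castHom (dvd_refl p) K
  let φ : (P → ZMod p) →+ V :=
    { toFun := fun c => ∑ g, ι (c g) • ρ g w₀
      map_zero' := by simp
      map_add' := by
        intro c d
        simp only [Pi.add_apply, map_add, add_smul, Finset.sum_add_distrib] }
  have hφ : ∀ c, φ c = ∑ g, ι (c g) • ρ g w₀ := fun c => rfl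
  let M : AddSubgroup V := φ.range
  have hMW : ∀ v ∈ M, v ∈ W := by
    rintro v ⟨c, rfl⟩
    rw [hφ]
    exact W.sum_mem (fun g _ => W.smul_mem _ (hW g w₀ hw₀W))
  have hw₀M : w₀ ∈ M := by
    refine ⟨Pi.single 1 1, ?_⟩
    rw [hφ, Finset.sum_eq_single 1]
    · simp
    · intro g _ hg
      rw [Pi.single_eq_of_ne hg, map_zero, zero_smul]
    · intro h; exact absurd (Finset.mem_univ _) h
  have hinv : ∀ (h : P) (v : V), v ∈ M → ρ h v ∈ M := by
    rintro h v ⟨c, rfl⟩
    refine ⟨fun g => c (h⁻¹ * g), ?_⟩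
    rw [hφ, hφ, map_sum]
    rw [← Equiv.sum_comp (Equiv.mulLeft h) (fun g => ι (c (h⁻¹ * g)) • ρ g w₀)]
    apply Finset.sum_congr rfl
    intro g _
    simp only [Equiv.coe_mulLeft, inv_mul_cancel_left, map_smul, map_mul, Module.End.mul_apply]
  haveI : Finite M := by
    have : Finite (Set.range φ) := Set.finite_range φ |>.to_subtype
    exact this
  letI : MulAction P M :=
    { smul := fun g v => ⟨ρ g v.1, hinv g v.1 v.2⟩
      one_smul := fun v => Subtype.ext (by show ρ 1 v.1 = v.1; rw [map_one]; rfl)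
      mul_smul := fun g h v => Subtype.ext (by
        show ρ (g * h) v.1 = ρ g (ρ h v.1)
        rw [map_mul]; rfl) }
  have hsmul : ∀ (g : P) (v : M), ((g • v : M) : V) = ρ g v.1 := fun g v => rfl
  have hcard : p ∣ Nat.card M := by
    have h1 : Nat.card M ∣ Nat.card (P → ZMod p) := AddSubgroup.card_range_dvd φ
    have h2 : Nat.card (P → ZMod p) = p ^ Nat.card P := by
      rw [Nat.card_fun, Nat.card_zmod]
    rw [h2] at h1
    obtain ⟨k, -, hk⟩ := (Nat.dvd_prime_pow (Fact.out : p.Prime)).mp h1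
    have h3 : 1 < Nat.card M := by
      rw [Finite.one_lt_card_iff_nontrivial]
      exact ⟨⟨⟨w₀, hw₀M⟩, 0, fun h => hw₀ (congrArg Subtype.val h)⟩⟩
    rw [hk] at h3 ⊢
    have hk0 : k ≠ 0 := by
      rintro rfl; simp at h3
    exact dvd_pow_self p hk0
  have h0 : (0 : M) ∈ fixedPoints P M := by
    intro g
    apply Subtype.ext
    rw [hsmul]
    simp
  obtain ⟨b, hb, hb0⟩ := hP.exists_fixed_point_of_prime_dvd_card_of_fixed_point M hcard h0
  refine ⟨b.1, hMW b.1 b.2, fun h => hb0 (Subtype.ext h.symm), fun g => ?_⟩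
  have := hb g
  rw [← hsmul g b, this]

end Cfsg.Agent.Lib.Lead.PGroupFixedVector
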