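import Mathlib
import Cfsg.Agent.S5939
import Cfsg.Agent.S0675
import Cfsg.Agent.Lib.Helper5.DicksonOrders
import Cfsg.Agent.Lib.Helper5.DicksonMinSimple

set_option autoImplicit false
set_option linter.unusedVariables false
set_option maxHeartbeats 1000000

namespace Cfsg.Agent.Lib.Lead.PSL11

theorem main {F : Type*} [Field F] [Fintype F] (hF : Fintype.card F = 11) :
    ∃ H : Subgroup (Matrix.ProjectiveSpecialLinearGroup (Fin 2) F), H.index = 11 ∧
      Nonempty (H ≃* alternatingGroup (Fin 5)) ∧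
      MulAction.IsMultiplyPretransitive (Matrix.ProjectiveSpecialLinearGroup (Fin 2) F)
        ((Matrix.ProjectiveSpecialLinearGroup (Fin 2) F) ⧸ H) 2 := by
  classical
  haveI : Fact (Nat.Prime 11) := ⟨by norm_num⟩
  haveI : CharP F 11 := charP_of_card_eq_prime hF
  obtain ⟨H, hHmax, ⟨e⟩⟩ :=
    Cfsg.Agent.S5939.result (F := F) 11 (Or.inl ⟨hF, Or.inl (by norm_num)⟩)
  have hcardG : Nat.card (Matrix.ProjectiveSpecialLinearGroup (Fin 2) F) = 660 := by
    have h := Cfsg.Agent.Lib.Helper5.DicksonOrders.card_PSL2_mul (F := F)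
    rw [hF] at h
    have h2 : Nat.gcd 2 (11 - 1) = 2 := by norm_num
    rw [h2] at h
    omega
  have hcardH : Nat.card H = 60 := by
    rw [Nat.card_congr e.toEquiv, Nat.card_eq_fintype_card]
    have := two_mul_card_alternatingGroup (α := Fin 5)
    rw [Fintype.card_perm, Fintype.card_fin] at this
    have h5 : Nat.factorial 5 = 120 := by decide
    omega
  have hidx : H.index = 11 := by
    have := Subgroup.card_mul_index H
    rw [hcardH, hcardG] at this
    omega
  refine ⟨H, hidx, ⟨e⟩, ?_⟩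
  haveI : Finite (Matrix.ProjectiveSpecialLinearGroup (Fin 2) F) :=
    Nat.finite_of_card_ne_zero (by rw [hcardG]; norm_num)
  haveI : Fintype ((Matrix.ProjectiveSpecialLinearGroup (Fin 2) F) ⧸ H) := Fintype.ofFinite _
  have hcardΩ : Fintype.card ((Matrix.ProjectiveSpecialLinearGroup (Fin 2) F) ⧸ H) = 11 := by
    rw [← Nat.card_eq_fintype_card, ← Subgroup.index_eq_card]; exact hidx
  obtain ⟨φ, hφ⟩ : ∃ φ : Matrix.ProjectiveSpecialLinearGroup (Fin 2) F →*
      Equiv.Perm ((Matrix.ProjectiveSpecialLinearGroup (Fin 2) F) ⧸ H),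
      ∀ g a, φ g a = g • a := ⟨MulAction.toPermHom _ _, fun g a => rfl⟩
  haveI : MulAction.IsPretransitive φ.range
      ((Matrix.ProjectiveSpecialLinearGroup (Fin 2) F) ⧸ H) := by
    constructor
    intro a b
    obtain ⟨g, hg⟩ := MulAction.exists_smul_eq (Matrix.ProjectiveSpecialLinearGroup (Fin 2) F) a b
    refine ⟨⟨φ g, g, rfl⟩, ?_⟩
    show φ g a = b
    rw [hφ]; exact hg
  rcases Cfsg.Agent.S0675.result
      (α := (Matrix.ProjectiveSpecialLinearGroup (Fin 2) F) ⧸ H)
      (by rw [hcardΩ]; norm_num) φ.range with hsol | h2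
  · exfalso
    haveI hsimple : IsSimpleGroup (Matrix.ProjectiveSpecialLinearGroup (Fin 2) F) :=
      Matrix.ProjectiveSpecialLinearGroup.rank_two_simple (by
        rw [Nat.card_eq_fintype_card, hF]; norm_num)
    have hker : φ.ker = ⊥ := by
      rcases (φ.normal_ker).eq_bot_or_eq_top with h | h
      · exact h
      · exfalso
        have hnt : Nontrivial ((Matrix.ProjectiveSpecialLinearGroup (Fin 2) F) ⧸ H) := by
          rw [← Fintype.one_lt_card_iff_nontrivial, hcardΩ]; norm_num
        obtain ⟨a, b, hab⟩ := exists_pair_ne ((Matrix.ProjectiveSpecialLinearGroup (Fin 2) F) ⧸ H)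
        obtain ⟨g, hg⟩ :=
          MulAction.exists_smul_eq (Matrix.ProjectiveSpecialLinearGroup (Fin 2) F) a b
        have hgk : g ∈ φ.ker := by rw [h]; exact Subgroup.mem_top g
        rw [MonoidHom.mem_ker] at hgk
        have h3 : φ g a = a := by rw [hgk]; rfl
        rw [hφ] at h3
        exact hab (h3.symm.trans hg)
    have hinj : Function.Injective φ.rangeRestrict := by
      rw [← MonoidHom.ker_eq_bot_iff, MonoidHom.ker_rangeRestrict]; exact hker
    haveI := hsol
    have hGsol : Group.IsSolvable (Matrix.ProjectiveSpecialLinearGroup (Fin 2) F) :=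
      Group.isSolvable_of_isSolvable_injective hinj
    exact Cfsg.Agent.Lib.Helper5.DicksonMinSimple.not_isSolvable_PSL2 (F := F)
      (by rw [hF]; norm_num) hGsol
  · rw [MulAction.isMultiplyPretransitive_iff] at h2 ⊢
    intro x y
    obtain ⟨⟨σ, g, rfl⟩, hg⟩ := h2 x y
    refine ⟨g, ?_⟩
    ext i
    have h4 := congrArg (fun f : Fin 2 ↪ _ => f i) hg
    simp only [Function.Embedding.smul_apply] at h4 ⊢
    rw [← hφ]
    exact h4

end Cfsg.Agent.Lib.Lead.PSL11
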