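import Mathlib
import Cfsg.Prelude.Def_Perm
import Cfsg.Agent.Lib.Lead.PGroupFixedVector

/-! The modular permutation module of a transitive action of prime-power degree. -/

namespace Cfsg.Agent.Lib.Lead.PermModule

open MulAction

section SylowTrans

variable {G : Type*} [Group G] [Finite G] {Ω : Type*} [Fintype Ω] [MulAction G Ω]
  [IsPretransitive G Ω] {p f : ℕ} [Fact p.Prime]

/-- a Sylow `p`-subgroup of a transitive group of degree `p ^ f` is transitive -/
theorem sylow_transitive (hcard : Fintype.card Ω = p ^ f) (P : Sylow p G) (x y : Ω) :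
    ∃ g ∈ (P : Subgroup G), g • x = y := by
  classical
  have hp := (Fact.out : p.Prime)
  set S := stabilizer (↥(P : Subgroup G)) x with hS
  have h1 : Nat.card S * (orbit (↥(P : Subgroup G)) x).ncard = Nat.card (P : Subgroup G) := by
    rw [← MulAction.index_stabilizer]
    exact Subgroup.card_mul_index S
  have h2 : Nat.card S ∣ Nat.card (stabilizer G x) := by
    let φ : S →* stabilizer G x :=
      { toFun := fun s => ⟨s.1.1, by
          have h0 : s.1 ∈ stabilizer (↥(P : Subgroup G)) x := s.2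
          rw [mem_stabilizer_iff] at h0
          rw [mem_stabilizer_iff]
          exact h0⟩
        map_one' := rfl
        map_mul' := fun _ _ => rfl }
    apply Subgroup.card_dvd_of_injective φ
    intro a b hab
    have := congrArg (fun t : stabilizer G x => (t : G)) hab
    exact Subtype.ext (Subtype.ext this)
  have h3 : Nat.card (stabilizer G x) * p ^ f = Nat.card G := by
    rw [← hcard, ← Nat.card_eq_fintype_card, ← MulAction.index_stabilizer_of_transitive G x]
    exact Subgroup.card_mul_index _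
  have h4 : Nat.card (P : Subgroup G) * (P : Subgroup G).index = Nat.card G :=
    Subgroup.card_mul_index _
  have h5 : ¬ p ∣ (P : Subgroup G).index := P.not_dvd_index
  obtain ⟨m, hm⟩ := IsPGroup.iff_card.mp P.isPGroup'
  have hSdvd : Nat.card S ∣ p ^ m := by
    rw [← hm]
    exact Subgroup.card_subgroup_dvd_card S
  obtain ⟨j, hjm, hj⟩ := (Nat.dvd_prime_pow hp).mp hSdvd
  have horb : (orbit (↥(P : Subgroup G)) x).ncard = p ^ (m - j) := by
    have h6 : p ^ j * (orbit (↥(P : Subgroup G)) x).ncard = p ^ j * p ^ (m - j) := by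
      rw [← hj, h1, hm, hj, ← pow_add]
      congr 1
      omega
    exact Nat.eq_of_mul_eq_mul_left (pow_pos hp.pos j) h6
  have hfj : f + j ≤ m := by
    obtain ⟨w, hw⟩ := h2
    rw [hj] at hw
    have h7 : p ^ (f + j) ∣ p ^ m * (P : Subgroup G).index := by
      rw [← hm, h4, ← h3, hw, pow_add]
      exact ⟨w, by ring⟩
    have hcop : Nat.Coprime (p ^ (f + j)) (P : Subgroup G).index :=
      Nat.Coprime.pow_left _ ((Nat.Prime.coprime_iff_not_dvd hp).mpr h5)
    have h8 := hcop.dvd_of_dvd_mul_right h7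
    exact (Nat.pow_dvd_pow_iff_le_right hp.one_lt).mp h8
  have hfull : orbit (↥(P : Subgroup G)) x = Set.univ := by
    rw [Set.eq_univ_iff_ncard]
    apply le_antisymm
    · rw [← Set.ncard_univ]
      exact Set.ncard_le_ncard (Set.subset_univ _)
    · rw [horb, Nat.card_eq_fintype_card, hcard]
      exact Nat.pow_le_pow_right hp.pos (by omega)
  have hy : y ∈ orbit (↥(P : Subgroup G)) x := by
    rw [hfull]
    trivial
  obtain ⟨g, hg⟩ := hy
  exact ⟨g.1, g.2, hg⟩

end SylowTrans


section Operator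

variable {G : Type*} [Group G] {K : Type*} [Field K] {Ω : Type*} [Fintype Ω] [MulAction G Ω]

/-- the orbital operator `ψ f x = ∑_{y : O x y} (f y - f x)` -/
noncomputable def psi (K : Type*) [Field K] (O : Ω → Ω → Prop) [DecidableRel O] :
    (Ω → K) →ₗ[K] (Ω → K) where
  toFun f x := ∑ y, if O x y then f y - f x else 0
  map_add' f g := by
    funext x
    simp only [Pi.add_apply]
    rw [← Finset.sum_add_distrib]
    apply Finset.sum_congr rfl
    intro y _
    split_ifs
    · ring
    · simp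
  map_smul' c f := by
    funext x
    simp only [Pi.smul_apply, smul_eq_mul, RingHom.id_apply]
    rw [Finset.mul_sum]
    apply Finset.sum_congr rfl
    intro y _
    split_ifs
    · ring
    · simp

variable (O : Ω → Ω → Prop) [DecidableRel O]

theorem psi_apply (f : Ω → K) (x : Ω) :
    psi K O f x = ∑ y, if O x y then f y - f x else 0 := rfl

theorem psi_const (c : K) : psi K O (fun _ => c) = 0 := by
  funext x
  simp [psi_apply]

theorem psi_single [DecidableEq Ω] (z x : Ω) (hx : x ≠ z) :
    psi K O (Pi.single z 1) x = if O x z then 1 else 0 := by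
  rw [psi_apply, Finset.sum_eq_single z]
  · rw [Pi.single_eq_same, Pi.single_eq_of_ne hx, sub_zero]
  · intro y _ hy
    rw [Pi.single_eq_of_ne hy, Pi.single_eq_of_ne hx, sub_zero, ite_self]
  · intro h
    exact absurd (Finset.mem_univ z) h

theorem psi_equivariant (hO : ∀ (g : G) (x y : Ω), O (g • x) (g • y) ↔ O x y) (g : G)
    (f : Ω → K) : psi K O (Cfsg.permRep K G Ω g f) = Cfsg.permRep K G Ω g (psi K O f) := by
  funext x
  show ∑ y, (if O x y then f (g⁻¹ • y) - f (g⁻¹ • x) else 0) =
    ∑ y, if O (g⁻¹ • x) y then f y - f (g⁻¹ • x) else 0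
  rw [← Equiv.sum_comp (MulAction.toPerm g⁻¹)
    (fun y => if O (g⁻¹ • x) y then f y - f (g⁻¹ • x) else 0)]
  apply Finset.sum_congr rfl
  intro y _
  simp only [MulAction.toPerm_apply, hO]

end Operator

section Local

variable {G : Type*} [Group G] [Finite G] {K : Type*} [Field K] {Ω : Type*} [Fintype Ω]
  [MulAction G Ω] [IsPretransitive G Ω] {p f : ℕ} [Fact p.Prime] [CharP K p]

/-- every nonzero invariant subspace contains the constants -/
theorem const_mem (hcard : Fintype.card Ω = p ^ f) (U : Submodule K (Ω → K))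
    (hU : ∀ g : G, ∀ v ∈ U, Cfsg.permRep K G Ω g v ∈ U) (hne : U ≠ ⊥) :
    (fun _ : Ω => (1 : K)) ∈ U := by
  let P : Sylow p G := default
  let ρ : Representation K (↥(P : Subgroup G)) (Ω → K) :=
    (Cfsg.permRep K G Ω).comp (P : Subgroup G).subtype
  obtain ⟨w, hwU, hw0, hwfix⟩ := PGroupFixedVector.exists_fixed_ne_zero (p := p) P.isPGroup' ρ U
    (fun g w hw => hU g.1 w hw) hne
  have hconst : ∀ x y : Ω, w x = w y := by
    intro x y
    obtain ⟨g, hg, hgxy⟩ := sylow_transitive hcard P x y
    have h1 := congrFun (hwfix ⟨g, hg⟩) y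
    have h2 : ρ ⟨g, hg⟩ w y = w (g⁻¹ • y) := rfl
    rw [h2, ← hgxy, inv_smul_smul, hgxy] at h1
    exact h1
  obtain ⟨x0, hx0⟩ : ∃ x0, w x0 ≠ 0 := by
    by_contra hcon
    push Not at hcon
    exact hw0 (funext hcon)
  have h3 : (fun _ : Ω => (1 : K)) = (w x0)⁻¹ • w := by
    funext x
    simp only [Pi.smul_apply, smul_eq_mul]
    rw [hconst x x0, inv_mul_cancel₀ hx0]
  rw [h3]
  exact U.smul_mem _ hwU

/-- every proper invariant subspace consists of sum-zero functions -/
theorem sum_eq_zero_of_mem [DecidableEq Ω] (hcard : Fintype.card Ω = p ^ f)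
    (U : Submodule K (Ω → K))
    (hU : ∀ g : G, ∀ v ∈ U, Cfsg.permRep K G Ω g v ∈ U) (hne : U ≠ ⊤) :
    ∀ v ∈ U, ∑ x, v x = 0 := by
  let B : LinearMap.BilinForm K (Ω → K) := (1 : Matrix Ω Ω K).toBilin'
  have hB : B.Nondegenerate := by
    apply LinearMap.BilinForm.nondegenerate_toBilin'_of_det_ne_zero'
    simp
  have hBapp : ∀ v w : Ω → K, B v w = ∑ i, v i * w i := by
    intro v w
    show (1 : Matrix Ω Ω K).toBilin' v w = _
    rw [Matrix.toBilin'_apply', Matrix.one_mulVec]
    rfl
  have hfr := LinearMap.BilinForm.finrank_orthogonal hB U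
  have hlt := Submodule.finrank_lt hne
  have hne' : B.orthogonal U ≠ ⊥ := by
    intro h
    rw [h, finrank_bot] at hfr
    omega
  have hinv : ∀ g : G, ∀ v ∈ B.orthogonal U, Cfsg.permRep K G Ω g v ∈ B.orthogonal U := by
    intro g v hv
    rw [LinearMap.BilinForm.mem_orthogonal_iff] at hv ⊢
    intro u hu
    have h1 := hv _ (hU g⁻¹ u hu)
    rw [hBapp] at h1 ⊢
    rw [← h1, ← Equiv.sum_comp (MulAction.toPerm g⁻¹)
      (fun i => Cfsg.permRep K G Ω g⁻¹ u i * v i)]
    apply Finset.sum_congr rfl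
    intro i _
    show u i * v (g⁻¹ • i) = u ((g⁻¹)⁻¹ • (g⁻¹ • i)) * v (g⁻¹ • i)
    rw [inv_inv, smul_inv_smul]
  have h1 := const_mem hcard (B.orthogonal U) hinv hne'
  rw [LinearMap.BilinForm.mem_orthogonal_iff] at h1
  intro v hv
  have h2 := h1 v hv
  rw [hBapp] at h2
  simpa using h2


/-- a transitive action of degree `p ^ f` which is not doubly transitive has a trivial
composition factor in the heart of its permutation module in characteristic `p` -/
theorem exists_trivial_factor [DecidableEq Ω] (hcard : Fintype.card Ω = p ^ f)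
    (h2 : ¬ IsMultiplyPretransitive G Ω 2) :
    ∃ W W' : Subrepresentation (Cfsg.permRep K G Ω),
      (Cfsg.permConstants K G Ω).toSubmodule ≤ W.toSubmodule ∧
      W.toSubmodule < W'.toSubmodule ∧
      W'.toSubmodule ≤ (Cfsg.permSumZero K G Ω).toSubmodule ∧
      ∀ g : G, ∀ v ∈ W'.toSubmodule, Cfsg.permRep K G Ω g v - v ∈ W.toSubmodule := by
  classical
  rw [is_two_pretransitive_iff] at h2
  push Not at h2
  obtain ⟨a, b, c0, d0, hab, hcd, hno⟩ := h2
  let O : Ω → Ω → Prop := fun x y => ∃ g : G, g • a = x ∧ g • b = y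
  have hO : ∀ (g : G) (x y : Ω), O (g • x) (g • y) ↔ O x y := by
    intro g x y
    constructor
    · rintro ⟨h, h1, h2⟩
      refine ⟨g⁻¹ * h, ?_, ?_⟩
      · rw [mul_smul, h1, inv_smul_smul]
      · rw [mul_smul, h2, inv_smul_smul]
    · rintro ⟨h, h1, h2⟩
      refine ⟨g * h, ?_, ?_⟩
      · rw [mul_smul, h1]
      · rw [mul_smul, h2]
  have hOab : O a b := ⟨1, one_smul _ _, one_smul _ _⟩
  have hOcd : ¬ O c0 d0 := by
    rintro ⟨g, h1, h2⟩
    exact hno g h1 h2
  set ψ := psi K O with hψ
  have heq : ∀ (g : G) (v : Ω → K), ψ (Cfsg.permRep K G Ω g v) = Cfsg.permRep K G Ω g (ψ v) :=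
    fun g v => psi_equivariant O hO g v
  set M0 := (Cfsg.permSumZero K G Ω).toSubmodule with hM0
  have hM0mem : ∀ v : Ω → K, v ∈ M0 ↔ ∑ x, v x = 0 := fun v => Iff.rfl
  have hM0inv : ∀ (g : G) (v : Ω → K), v ∈ M0 → Cfsg.permRep K G Ω g v ∈ M0 :=
    fun g v hv => (Cfsg.permSumZero K G Ω).apply_mem_toSubmodule g hv
  -- ψ does not vanish on the sum-zero functions
  have hkey : ∃ m ∈ M0, ψ m ≠ 0 := by
    by_contra hcon
    push Not at hcon
    have hall : ∀ c' : Ω, c' ≠ a → O a c' := by
      intro c' hc'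
      by_cases hcb : c' = b
      · rw [hcb]; exact hOab
      have hm : (Pi.single b 1 - Pi.single c' 1 : Ω → K) ∈ M0 := by
        rw [hM0mem]
        simp only [Pi.sub_apply, Finset.sum_sub_distrib]
        rw [Finset.sum_pi_single', Finset.sum_pi_single']
        simp
      have h1 := congrFun (hcon _ hm) a
      rw [map_sub, Pi.sub_apply, hψ, psi_single O b a hab, psi_single O c' a (Ne.symm hc'),
        if_pos hOab] at h1
      by_contra hOac
      rw [if_neg hOac] at h1
      simp at h1
    obtain ⟨g0, hg0⟩ := exists_smul_eq G a c0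
    have hne : g0⁻¹ • d0 ≠ a := by
      intro h
      apply hcd
      rw [← hg0, ← h, smul_inv_smul]
    have := hall _ hne
    rw [← hO g0, hg0, smul_inv_smul] at this
    exact hOcd this
  -- the subrepresentations
  let W : Subrepresentation (Cfsg.permRep K G Ω) :=
    { toSubmodule := M0.map ψ
      apply_mem_toSubmodule := by
        rintro g _ ⟨m, hm, rfl⟩
        exact ⟨Cfsg.permRep K G Ω g m, hM0inv g m hm, heq g m⟩ }
  let W' : Subrepresentation (Cfsg.permRep K G Ω) :=
    { toSubmodule := LinearMap.range ψ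
      apply_mem_toSubmodule := by
        rintro g _ ⟨m, rfl⟩
        exact ⟨Cfsg.permRep K G Ω g m, heq g m⟩ }
  have hWne : M0.map ψ ≠ ⊥ := by
    obtain ⟨m, hm, hm0⟩ := hkey
    intro h
    have : ψ m ∈ M0.map ψ := ⟨m, hm, rfl⟩
    rw [h, Submodule.mem_bot] at this
    exact hm0 this
  haveI : Nonempty Ω := ⟨a⟩
  have hW'ne : LinearMap.range ψ ≠ ⊤ := by
    intro h
    have hsurj : Function.Surjective ψ := LinearMap.range_eq_top.mp h
    have hinj := LinearMap.injective_iff_surjective.mpr hsurj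
    have h1 : ψ (fun _ => (1 : K)) = ψ 0 := by
      rw [map_zero]
      exact psi_const O 1
    have := congrFun (hinj h1) a
    simp at this
  have hker_inv : ∀ g : G, ∀ v ∈ LinearMap.ker ψ, Cfsg.permRep K G Ω g v ∈ LinearMap.ker ψ := by
    intro g v hv
    rw [LinearMap.mem_ker] at hv ⊢
    rw [heq, hv, map_zero]
  refine ⟨W, W', ?_, ?_, ?_, ?_⟩
  · show Submodule.span K {fun _ : Ω => (1 : K)} ≤ M0.map ψ
    rw [Submodule.span_le, Set.singleton_subset_iff]
    exact const_mem hcard (M0.map ψ) W.apply_mem_toSubmodule hWne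
  · show M0.map ψ < LinearMap.range ψ
    apply lt_of_le_of_ne (LinearMap.map_le_range)
    intro hEq
    have h1 : ψ (Pi.single a 1) ∈ M0.map ψ := by
      rw [hEq]
      exact ⟨_, rfl⟩
    obtain ⟨m, hm, hmeq⟩ := h1
    have h2 : (Pi.single a 1 - m : Ω → K) ∈ LinearMap.ker ψ := by
      rw [LinearMap.mem_ker, map_sub, hmeq, sub_self]
    have hkertop : LinearMap.ker ψ = ⊤ := by
      by_contra hne
      have h3 := sum_eq_zero_of_mem hcard (LinearMap.ker ψ) hker_inv hne _ h2
      simp only [Pi.sub_apply, Finset.sum_sub_distrib] at h3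
      rw [Finset.sum_pi_single', (hM0mem m).1 hm] at h3
      simp at h3
    obtain ⟨m', _, hm'0⟩ := hkey
    apply hm'0
    have : m' ∈ LinearMap.ker ψ := by rw [hkertop]; trivial
    exact this
  · show LinearMap.range ψ ≤ M0
    intro v hv
    rw [hM0mem]
    exact sum_eq_zero_of_mem hcard (LinearMap.range ψ) W'.apply_mem_toSubmodule hW'ne v hv
  · rintro g _ ⟨m, rfl⟩
    show Cfsg.permRep K G Ω g (ψ m) - ψ m ∈ M0.map ψ
    refine ⟨Cfsg.permRep K G Ω g m - m, ?_, ?_⟩
    · apply (hM0mem _).2
      simp only [Pi.sub_apply, Finset.sum_sub_distrib]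
      rw [sub_eq_zero]
      exact Equiv.sum_comp (MulAction.toPerm g⁻¹) m
    · rw [map_sub, heq]

end Local

end Cfsg.Agent.Lib.Lead.PermModule
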