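import Mathlib
import Cfsg.Prelude.Def_OddOrderLocal

namespace Cfsg.Agent.Lib.Lead.Puig

open Cfsg

variable {G : Type*} [Group G]

theorem puigStep_antitone {X Y : Subgroup G} (h : X ≤ Y) : puigStep Y ≤ puigStep X := by
  unfold puigStep
  apply sSup_le_sSup
  rintro A ⟨hA, hYA⟩
  exact ⟨hA, h.trans hYA⟩

theorem le_puigStep {X A : Subgroup G} (hA : IsMulCommutative A)
    (hX : X ≤ Subgroup.normalizer (A : Set G)) : A ≤ puigStep X :=
  le_sSup ⟨hA, hX⟩

theorem puigSeq_succ (n : ℕ) : puigSeq G (n + 1) = puigStep (puigSeq G n) := rfl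

theorem puigSeq_zero : puigSeq G 0 = ⊥ := rfl

theorem puigSeq_one : puigSeq G 1 = ⊤ := by
  rw [eq_top_iff]
  intro x _
  have hc : IsMulCommutative (Subgroup.zpowers x) := by
    constructor
    constructor
    rintro ⟨a, ha⟩ ⟨b, hb⟩
    apply Subtype.ext
    obtain ⟨i, rfl⟩ := Subgroup.mem_zpowers_iff.mp ha
    obtain ⟨j, rfl⟩ := Subgroup.mem_zpowers_iff.mp hb
    exact (Commute.zpow_zpow (Commute.refl x) i j).eq
  have : Subgroup.zpowers x ≤ puigStep (puigSeq G 0) := le_puigStep hc (by rw [puigSeq_zero]; exact bot_le)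
  exact this (Subgroup.mem_zpowers x)

theorem even_le_succ (k : ℕ) : puigSeq G (2 * k) ≤ puigSeq G (2 * k + 2) := by
  induction k with
  | zero => rw [puigSeq_zero]; exact bot_le
  | succ k ih =>
    have h1 : puigSeq G (2 * k + 3) ≤ puigSeq G (2 * k + 1) := puigStep_antitone ih
    have h2 : puigSeq G (2 * k + 2) ≤ puigSeq G (2 * k + 4) := puigStep_antitone h1
    exact h2

theorem odd_succ_le (k : ℕ) : puigSeq G (2 * k + 3) ≤ puigSeq G (2 * k + 1) :=
  puigStep_antitone (even_le_succ k)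

theorem even_le_odd_self (k : ℕ) : puigSeq G (2 * k) ≤ puigSeq G (2 * k + 1) := by
  induction k with
  | zero => rw [puigSeq_zero]; exact bot_le
  | succ k ih =>
    have h1 : puigSeq G (2 * k + 2) ≤ puigSeq G (2 * k + 1) := puigStep_antitone ih
    have h2 : puigSeq G (2 * k + 2) ≤ puigSeq G (2 * k + 3) := puigStep_antitone h1
    exact h2

theorem even_mono : Monotone (fun n => puigSeq G (2 * n)) :=
  monotone_nat_of_le_succ (fun n => even_le_succ n)

theorem odd_anti : Antitone (fun n => puigSeq G (2 * n + 1)) :=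
  antitone_nat_of_succ_le (fun n => odd_succ_le n)

theorem even_le_odd (n m : ℕ) : puigSeq G (2 * n) ≤ puigSeq G (2 * m + 1) :=
  calc puigSeq G (2 * n) ≤ puigSeq G (2 * (max n m)) := even_mono (le_max_left n m)
    _ ≤ puigSeq G (2 * (max n m) + 1) := even_le_odd_self _
    _ ≤ puigSeq G (2 * m + 1) := odd_anti (le_max_right n m)

theorem puigLower_le_puigSubgroup : puigLower G ≤ puigSubgroup G :=
  iSup_le fun n => le_iInf fun m => even_le_odd n m

theorem exists_stable [Finite G] : ∃ k : ℕ, ∀ n : ℕ, k ≤ n →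
    puigSeq G (2 * n) = puigLower G ∧ puigSeq G (2 * n + 1) = puigSubgroup G := by
  obtain ⟨k₁, hk₁⟩ := WellFoundedGT.monotone_chain_condition
    (⟨fun n => puigSeq G (2 * n), even_mono⟩ : ℕ →o Subgroup G)
  obtain ⟨k₂, hk₂⟩ := WellFoundedLT.antitone_chain_condition (odd_anti (G := G))
  have hL : puigLower G = puigSeq G (2 * k₁) := by
    apply le_antisymm
    · apply iSup_le
      intro n
      rcases le_total n k₁ with h | h
      · exact even_mono h
      · exact le_of_eq (hk₁ n h).symm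
    · exact le_iSup (fun n => puigSeq G (2 * n)) k₁
  have hU : puigSubgroup G = puigSeq G (2 * k₂ + 1) := by
    apply le_antisymm
    · exact iInf_le (fun n => puigSeq G (2 * n + 1)) k₂
    · apply le_iInf
      intro n
      rcases le_total n k₂ with h | h
      · exact odd_anti h
      · exact le_of_eq (hk₂ n h)
  refine ⟨max k₁ k₂, fun n hn => ⟨?_, ?_⟩⟩
  · rw [hL]; exact (hk₁ n (le_trans (le_max_left _ _) hn)).symm
  · rw [hU]; exact (hk₂ n (le_trans (le_max_right _ _) hn)).symm

end Cfsg.Agent.Lib.Lead.Puig
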