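import Mathlib
import Cfsg.Prelude.Def_OddOrderLocal
import Cfsg.Agent.Lib.Lead.Puig
import Cfsg.Agent.Lib.Helper7.PGroupAux

namespace Cfsg.Agent.Lib.Lead.Puig

open Cfsg

variable {G : Type*} [Group G]

/-- a subgroup is normal if it is stable under all inner automorphisms -/
theorem normal_of_map_conj_le (H : Subgroup G)
    (h : ∀ g : G, H.map (MulAut.conj g).toMonoidHom ≤ H) : H.Normal := by
  constructor
  intro x hx g
  apply h g
  exact Subgroup.mem_map.mpr ⟨x, hx, by simp [MulAut.conj_apply]⟩

theorem puigStep_normal (X : Subgroup G) [hX : X.Normal] : (puigStep X).Normal := by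
  apply normal_of_map_conj_le
  intro g
  have hdef : puigStep X = ⨆ A : {A : Subgroup G | IsMulCommutative A ∧
      X ≤ Subgroup.normalizer (A : Set G)}, (A : Subgroup G) := sSup_eq_iSup' _
  conv_lhs => rw [hdef]
  rw [Subgroup.map_iSup]
  apply iSup_le
  rintro ⟨A, hA, hXA⟩
  apply le_puigStep
  · -- commutative
    constructor
    constructor
    rintro ⟨a, ha⟩ ⟨b, hb⟩
    apply Subtype.ext
    obtain ⟨a', ha', rfl⟩ := Subgroup.mem_map.mp ha
    obtain ⟨b', hb', rfl⟩ := Subgroup.mem_map.mp hb
    have := hA.is_comm.comm (⟨a', ha'⟩ : A) ⟨b', hb'⟩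
    have h2 : a' * b' = b' * a' := congrArg Subtype.val this
    change (MulAut.conj g).toMonoidHom a' * (MulAut.conj g).toMonoidHom b' =
      (MulAut.conj g).toMonoidHom b' * (MulAut.conj g).toMonoidHom a'
    rw [← map_mul, ← map_mul, h2]
  · intro x hx
    rw [Subgroup.mem_normalizer_iff]
    -- x normalizes g A g⁻¹ iff g⁻¹ x g normalizes A
    have hx' : g⁻¹ * x * g ∈ X := by
      have := hX.conj_mem x hx g⁻¹
      simpa using this
    have hn := hXA hx'
    rw [Subgroup.mem_normalizer_iff] at hn
    intro y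
    have key : ∀ w : G, w ∈ A.map (MulAut.conj g).toMonoidHom ↔ g⁻¹ * w * g ∈ A := by
      intro w
      constructor
      · rintro ⟨a, ha, rfl⟩
        have : g⁻¹ * (MulAut.conj g).toMonoidHom a * g = a := by
          simp [MulAut.conj_apply]; group
        rw [this]; exact ha
      · intro hw
        refine ⟨g⁻¹ * w * g, hw, ?_⟩
        simp [MulAut.conj_apply]; group
    rw [key, key]
    have e : g⁻¹ * (x * y * x⁻¹) * g = (g⁻¹ * x * g) * (g⁻¹ * y * g) * (g⁻¹ * x * g)⁻¹ := by group
    rw [e]
    exact hn (g⁻¹ * y * g)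

theorem puigSeq_normal (n : ℕ) : (puigSeq G n).Normal := by
  induction n with
  | zero => rw [puigSeq_zero]; infer_instance
  | succ n ih =>
    rw [puigSeq_succ]
    haveI := ih
    exact puigStep_normal _

/-- In a finite `p`-group, `C_R(L(X)) ≤ L(X)` for `X` normal. -/
theorem centralizer_puigStep_le [Finite G] {p : ℕ} [Fact p.Prime] (hG : IsPGroup p G)
    (X : Subgroup G) [X.Normal] :
    Subgroup.centralizer ((puigStep X : Subgroup G) : Set G) ≤ puigStep X := by
  set L := puigStep X with hL
  haveI hLn : L.Normal := puigStep_normal X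
  set C := Subgroup.centralizer (L : Set G) with hC
  haveI hCn : C.Normal := Subgroup.normal_centralizer
  set Z := L ⊓ C with hZ
  haveI hZn : Z.Normal := inferInstance
  by_contra hnot
  have hCZ : ¬ C ≤ Z := fun h => hnot (h.trans inf_le_left)
  -- quotient
  let Q := G ⧸ Z
  have hQ : IsPGroup p Q := hG.to_quotient Z
  set D : Subgroup Q := C.map (QuotientGroup.mk' Z) with hD
  haveI hDn : D.Normal := hCn.map (QuotientGroup.mk' Z) (QuotientGroup.mk'_surjective Z)
  have hDne : D ≠ ⊥ := by
    intro h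
    apply hCZ
    intro c hc
    have : QuotientGroup.mk' Z c ∈ D := Subgroup.mem_map_of_mem _ hc
    rw [h, Subgroup.mem_bot] at this
    exact (QuotientGroup.eq_one_iff c).mp this
  obtain ⟨b, hbD, hb1, hbc⟩ :=
    Cfsg.Agent.Lib.Helper7.exists_mem_center_of_normal_ne_bot hQ D hDne
  obtain ⟨x, hxC, rfl⟩ := Subgroup.mem_map.mp hbD
  have hxZ : x ∉ Z := by
    intro h
    apply hb1
    exact (QuotientGroup.eq_one_iff x).mpr h
  -- conjugates of x lie in x Z
  have hconj : ∀ g : G, g * x * g⁻¹ * x⁻¹ ∈ Z := by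
    intro g
    rw [Subgroup.mem_center_iff] at hbc
    have h1 := hbc (QuotientGroup.mk' Z g)
    rw [← QuotientGroup.eq_one_iff]
    have : ((g * x * g⁻¹ * x⁻¹ : G) : Q) =
        (QuotientGroup.mk' Z g) * (QuotientGroup.mk' Z x) * (QuotientGroup.mk' Z g)⁻¹ *
          (QuotientGroup.mk' Z x)⁻¹ := by
      simp
    rw [this, h1]
    group
  -- the abelian subgroup
  set S : Set G := (Z : Set G) ∪ {x} with hS
  have hcommS : ∀ a ∈ S, ∀ b ∈ S, a * b = b * a := by
    have hxz : ∀ z ∈ Z, x * z = z * x := by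
      intro z hz
      have hzL : z ∈ L := (Subgroup.mem_inf.mp hz).1
      rw [hC, Subgroup.mem_centralizer_iff] at hxC
      exact (hxC z hzL).symm
    have hzz : ∀ z ∈ Z, ∀ w ∈ Z, z * w = w * z := by
      intro z hz w hw
      have hzL : z ∈ L := (Subgroup.mem_inf.mp hz).1
      have hwC : w ∈ C := (Subgroup.mem_inf.mp hw).2
      rw [hC, Subgroup.mem_centralizer_iff] at hwC
      exact hwC z hzL
    rintro a (ha | ha) b (hb | hb)
    · exact hzz a ha b hb
    · rw [Set.mem_singleton_iff] at hb; subst hb; exact (hxz a ha).symm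
    · rw [Set.mem_singleton_iff] at ha; subst ha; exact hxz b hb
    · rw [Set.mem_singleton_iff] at ha hb; subst ha; subst hb; rfl
  set A := Subgroup.closure S with hA
  have hAc : IsMulCommutative A := Subgroup.isMulCommutative_closure hcommS
  have hZA : Z ≤ A := by
    intro z hz
    exact Subgroup.subset_closure (Or.inl hz)
  have hxA : x ∈ A := Subgroup.subset_closure (Or.inr rfl)
  have hAn : A.Normal := by
    apply normal_of_map_conj_le
    intro g
    rw [hA, MonoidHom.map_closure, Subgroup.closure_le]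
    rintro _ ⟨s, hs, rfl⟩
    rcases hs with hs | hs
    · apply hZA
      have := hZn.conj_mem s hs g
      simpa [MulAut.conj_apply] using this
    · rw [Set.mem_singleton_iff] at hs
      subst hs
      have h1 : (MulAut.conj g).toMonoidHom s = (g * s * g⁻¹ * s⁻¹) * s := by
        simp [MulAut.conj_apply]
      rw [h1]
      exact A.mul_mem (hZA (hconj g)) hxA
  have hAL : A ≤ L := by
    apply le_puigStep hAc
    rw [Subgroup.normalizer_eq_top_iff.mpr hAn]
    exact le_top
  exact hxZ (Subgroup.mem_inf.mpr ⟨hAL hxA, hxC⟩)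

end Cfsg.Agent.Lib.Lead.Puig
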