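import Mathlib
import Cfsg.Agent.Lib.Lead.RVA

/-! Farm RV (S3175): pieces of unit A8 (hypotheses of A7 and the final chain argument). -/

set_option autoImplicit false

namespace Cfsg.Agent.Lib.Lead.RVB

open Subgroup

variable {P : Type*} [Group P]

/-- `φ` fixes `Z` pointwise, so it preserves `C_P(Z)`. -/
theorem map_mem_centralizer (Z : Subgroup P) (φ : MulAut P) (hfix : ∀ z ∈ Z, φ z = z) :
    ∀ w ∈ centralizer (Z : Set P), φ w ∈ centralizer (Z : Set P) := by
  intro w hw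
  rw [mem_centralizer_iff] at hw ⊢
  intro z hz
  have h1 := hw z hz
  have h2 : φ (z * w) = φ (w * z) := by rw [h1]
  rw [map_mul, map_mul, hfix z hz] at h2
  exact h2

/-- `φ` fixes the normal subgroup `Z` pointwise, so it is trivial on `P / C_P(Z)`. -/
theorem map_mul_inv_mem_centralizer (Z : Subgroup P) [Z.Normal] (φ : MulAut P)
    (hfix : ∀ z ∈ Z, φ z = z) : ∀ t : P, φ t * t⁻¹ ∈ centralizer (Z : Set P) := by
  intro t
  rw [mem_centralizer_iff]
  intro z hz
  -- φ t * (t⁻¹ z t) * (φ t)⁻¹ = φ (t * (t⁻¹ z t) * t⁻¹) = z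
  have hz' : t⁻¹ * z * t ∈ Z := by
    have := ‹Z.Normal›.conj_mem z hz t⁻¹
    simpa using this
  have h1 : φ (t * (t⁻¹ * z * t) * t⁻¹) = φ t * (t⁻¹ * z * t) * (φ t)⁻¹ := by
    rw [map_mul, map_mul, map_inv, hfix _ hz']
  have h2 : t * (t⁻¹ * z * t) * t⁻¹ = z := by group
  rw [h2, hfix z hz] at h1
  -- z = φ t * t⁻¹ * z * t * (φ t)⁻¹
  calc z * (φ t * t⁻¹) = (φ t * (t⁻¹ * z * t) * (φ t)⁻¹) * (φ t * t⁻¹) := by rw [← h1]
    _ = φ t * t⁻¹ * z := by group

/-- The socle hypothesis of A7 from `|Z_{n+1} : Z_n| = 2`. -/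
theorem socle_of_card (n : ℕ) [Finite P]
    (hcard : Nat.card ↥(Subgroup.upperCentralSeries P (n + 1)) = 2 * Nat.card ↥(Subgroup.upperCentralSeries P n))
    (a b : P) (ha : ∀ t : P, t * a * t⁻¹ * a⁻¹ ∈ Subgroup.upperCentralSeries P n)
    (hb : ∀ t : P, t * b * t⁻¹ * b⁻¹ ∈ Subgroup.upperCentralSeries P n)
    (haZ : a ∉ Subgroup.upperCentralSeries P n) (hbZ : b ∉ Subgroup.upperCentralSeries P n) :
    a * b⁻¹ ∈ Subgroup.upperCentralSeries P n := by
  have ha1 : a ∈ Subgroup.upperCentralSeries P (n + 1) := by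
    rw [Subgroup.mem_upperCentralSeries_succ_iff]
    intro y
    have := inv_mem (ha y)
    have e : (y * a * y⁻¹ * a⁻¹)⁻¹ = a * y * a⁻¹ * y⁻¹ := by group
    rwa [e] at this
  have hb1 : b ∈ Subgroup.upperCentralSeries P (n + 1) := by
    rw [Subgroup.mem_upperCentralSeries_succ_iff]
    intro y
    have := inv_mem (hb y)
    have e : (y * b * y⁻¹ * b⁻¹)⁻¹ = b * y * b⁻¹ * y⁻¹ := by group
    rwa [e] at this
  have hle : Subgroup.upperCentralSeries P n ≤ Subgroup.upperCentralSeries P (n + 1) :=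
    Subgroup.upperCentralSeries_mono P (Nat.le_succ n)
  have hrel : (Subgroup.upperCentralSeries P n).relIndex (Subgroup.upperCentralSeries P (n + 1)) = 2 := by
    have h := Subgroup.card_mul_index
      ((Subgroup.upperCentralSeries P n).subgroupOf (Subgroup.upperCentralSeries P (n + 1)))
    rw [Nat.card_congr (Subgroup.subgroupOfEquivOfLe hle).toEquiv, hcard] at h
    have hpos : 0 < Nat.card ↥(Subgroup.upperCentralSeries P n) := Nat.card_pos
    change Nat.card ↥(Subgroup.upperCentralSeries P n) *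
      (Subgroup.upperCentralSeries P n).relIndex (Subgroup.upperCentralSeries P (n + 1)) = _ at h
    nlinarith
  have h2 : ((Subgroup.upperCentralSeries P n).subgroupOf (Subgroup.upperCentralSeries P (n + 1))).index = 2 := hrel
  have key := mul_mem_iff_of_index_two h2
    (a := (⟨a, ha1⟩ : ↥(Subgroup.upperCentralSeries P (n + 1))))
    (b := (⟨b, hb1⟩ : ↥(Subgroup.upperCentralSeries P (n + 1)))⁻¹)
  simp only [mem_subgroupOf, coe_mul, coe_inv, inv_mem_iff] at key
  exact key.mpr ⟨fun h => absurd h haZ, fun h => absurd h hbZ⟩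

/-- Final chain argument of A8. -/
theorem eq_one_of_chain [Finite P] (hP : IsPGroup 2 P) (W Z : Subgroup P) (φ : MulAut P)
    (hφ : Odd (orderOf φ)) (hfixZ : ∀ z ∈ Z, φ z = z) (hWZ : ∀ w ∈ W, φ w * w⁻¹ ∈ Z)
    (hPW : ∀ t : P, φ t * t⁻¹ ∈ W) : φ = 1 := by
  have hodd : ∀ c : P, c ^ orderOf φ = 1 → c = 1 := by
    intro c hc
    obtain ⟨k, hk⟩ := hP c
    have h1 : orderOf c ∣ orderOf φ := orderOf_dvd_of_pow_eq_one hc
    have h2 : orderOf c ∣ 2 ^ k := orderOf_dvd_of_pow_eq_one hk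
    have h3 : Nat.Coprime (orderOf φ) (2 ^ k) := (Nat.Coprime.pow_right k hφ.coprime_two_right)
    have h4 : orderOf c = 1 := Nat.eq_one_of_dvd_coprimes h3 h1 h2
    exact orderOf_eq_one_iff.mp h4
  have hW : ∀ w ∈ W, φ w = w :=
    Cfsg.Agent.Lib.Lead.RVA.chain_step φ (orderOf φ) (pow_orderOf_eq_one φ) Z W
      (fun c _ hc => hodd c hc) hfixZ hWZ
  have hT : ∀ t ∈ (⊤ : Subgroup P), φ t = t :=
    Cfsg.Agent.Lib.Lead.RVA.chain_step φ (orderOf φ) (pow_orderOf_eq_one φ) W ⊤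
      (fun c _ hc => hodd c hc) hW (fun t _ => hPW t)
  ext t
  simpa using hT t (mem_top t)

end Cfsg.Agent.Lib.Lead.RVB
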