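import Mathlib
import Cfsg.Agent.Lib.Lead.RVA
import Cfsg.Agent.Lib.Lead.RVB
import Cfsg.Agent.Lib.Helper3.RuSylB
import Cfsg.Agent.Lib.Helper7.RVA5
import Cfsg.Agent.Lib.Helper5.RVA7Final

set_option autoImplicit false

namespace Cfsg.Agent.Lib.Lead.RVC

open Cfsg.Agent.Lib.Lead
open scoped commutatorElement

/-- UNIT A8 (assembly of Part 1, abstract). -/
theorem aut_trivial {P : Type*} [Group P] [Finite P] (hP : IsPGroup 2 P)
    (hb : Nat.card ↥(Subgroup.upperCentralSeries P 4) = 16) (hbig : 16 < Nat.card P)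
    (W : Subgroup P)
    (hW : W = Subgroup.centralizer ((Subgroup.upperCentralSeries P 3 : Subgroup P) : Set P))
    (hcomm : (commutator ↥W).map W.subtype = Subgroup.upperCentralSeries P 3)
    (φ : MulAut P) (hφ : Odd (orderOf φ)) : φ = 1 := by
  have hcards := Cfsg.Agent.Lib.Helper3.RuSylB.card_ucs hP hb hbig
  have hfix3 := Cfsg.Agent.Lib.Helper7.RVA5.fix_ucs3 hP hb hbig φ hφ
  have hZW : Subgroup.upperCentralSeries P 3 ≤ W := by
    rw [← hcomm]; exact Subgroup.map_subtype_le _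
  have hWn : W.Normal := by
    rw [hW]; infer_instance
  have hab : ∀ a ∈ W, ∀ b ∈ W, a * b * a⁻¹ * b⁻¹ ∈ Subgroup.upperCentralSeries P 3 := by
    intro a ha b hb'
    rw [← hcomm]
    have hx : ⁅(⟨a, ha⟩ : W), (⟨b, hb'⟩ : W)⁆ ∈ commutator ↥W :=
      Subgroup.commutator_mem_commutator (Subgroup.mem_top _) (Subgroup.mem_top _)
    refine ⟨_, hx, ?_⟩
    simp [commutatorElement_def]
  have hφW : ∀ w ∈ W, φ w ∈ W := by
    intro w hw
    rw [hW] at hw ⊢
    exact RVB.map_mem_centralizer _ φ hfix3 w hw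
  have hφZ : ∀ z ∈ Subgroup.upperCentralSeries P 3, φ z ∈ Subgroup.upperCentralSeries P 3 := by
    intro z hz; rw [hfix3 z hz]; exact hz
  have hφP : ∀ t : P, φ t * t⁻¹ ∈ W := by
    intro t; rw [hW]
    exact RVB.map_mul_inv_mem_centralizer _ φ hfix3 t
  have hsoc : ∀ a ∈ W, ∀ b ∈ W,
      (∀ t : P, t * a * t⁻¹ * a⁻¹ ∈ Subgroup.upperCentralSeries P 3) →
      (∀ t : P, t * b * t⁻¹ * b⁻¹ ∈ Subgroup.upperCentralSeries P 3) →
      a ∉ Subgroup.upperCentralSeries P 3 → b ∉ Subgroup.upperCentralSeries P 3 →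
      a * b⁻¹ ∈ Subgroup.upperCentralSeries P 3 := by
    intro a _ b _ h1 h2 h3 h4
    refine RVB.socle_of_card 3 ?_ a b h1 h2 h3 h4
    rw [hcards 4 le_rfl, hcards 3 (by norm_num)]; norm_num
  have hq := Cfsg.Agent.Lib.Helper5.RVA7Final.triv_on_quot hP W (Subgroup.upperCentralSeries P 3) hZW hab φ hφ hφW hφZ hφP hsoc
  exact RVB.eq_one_of_chain hP W (Subgroup.upperCentralSeries P 3) φ hφ hfix3 hq hφP

end Cfsg.Agent.Lib.Lead.RVC
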