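import Mathlib
import Cfsg.Prelude.Def_Transfer
import Cfsg.Agent.Lib.Lead.RVDefs

/-!
# Farm RV (S3175): STUBS (sorry'd; NEVER import this file).  Blueprint: lead tip "S3175 full proof".
Each unit: new file `Cfsg/Agent/Lib/<Seat>/RV<unit>.lean`, statement VERBATIM, importing Mathlib +
`Cfsg.Agent.Lib.Lead.RVDefs` (+ any existing main lib).
-/

set_option autoImplicit false

namespace Cfsg.Agent.Lib.Lead.RVStubs

open Cfsg.Agent.Lib.Lead.RVD

/-! ## Part 1: odd-order automorphisms of `P` are trivial -/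

/-- UNIT A1 (chain step). `φ(b) = c b`, `φ^m(b) = c^m b`. -/
theorem chain_step {P : Type*} [Group P] (φ : MulAut P) (n : ℕ) (hφ : φ ^ n = 1)
    (N B : Subgroup P) (hN : ∀ c ∈ N, c ^ n = 1 → c = 1) (hfix : ∀ c ∈ N, φ c = c)
    (hquot : ∀ b ∈ B, φ b * b⁻¹ ∈ N) : ∀ b ∈ B, φ b = b := by
  sorry

/-- UNIT A2 (index-two step). -/
theorem quot_triv_of_relIndex_two {P : Type*} [Group P] (φ : MulAut P) (N B : Subgroup P)
    (hNB : N ≤ B) (hidx : N.relIndex B = 2) (hNφ : ∀ c : P, c ∈ N ↔ φ c ∈ N)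
    (hBφ : ∀ b ∈ B, φ b ∈ B) : ∀ b ∈ B, φ b * b⁻¹ ∈ N := by
  sorry

/-- UNIT A3 (orders of the upper central series; shared with farm RU step (1)). -/
theorem card_ucs {P : Type*} [Group P] [Finite P] (hP : IsPGroup 2 P)
    (hb : Nat.card ↥(Subgroup.upperCentralSeries P 4) = 16) (hbig : 16 < Nat.card P) :
    ∀ i : ℕ, i ≤ 4 → Nat.card ↥(Subgroup.upperCentralSeries P i) = 2 ^ i := by
  sorry

/-- UNIT A5 (`φ` of odd order fixes `Z_3` pointwise). Uses A1, A2, A3 and that `Z_i` is characteristic. -/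
theorem fix_ucs3 {P : Type*} [Group P] [Finite P] (hP : IsPGroup 2 P)
    (hb : Nat.card ↥(Subgroup.upperCentralSeries P 4) = 16) (hbig : 16 < Nat.card P)
    (φ : MulAut P) (hφ : Odd (orderOf φ)) :
    ∀ z ∈ Subgroup.upperCentralSeries P 3, φ z = z := by
  sorry

/-- UNIT A6 (abelian coprime action with a one-dimensional socle). -/
theorem abelian_coprime_fix {M : Type*} [CommGroup M] [Finite M] (hM : IsPGroup 2 M)
    (κ : MulAut M) (hκ : Odd (orderOf κ)) {Tt : Type*} [Group Tt] [Finite Tt] (hT : IsPGroup 2 Tt)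
    (ρ : Tt →* MulAut M) (hcomm : ∀ (t : Tt) (m : M), κ (ρ t m) = ρ t (κ m))
    (hfix : ∀ a b : M, (∀ t, ρ t a = a) → (∀ t, ρ t b = b) → a ≠ 1 → b ≠ 1 → a = b) :
    κ = 1 := by
  sorry

/-- UNIT A7 (`φ` is trivial on `W / Z`). Build `M = W ⧸ Z`, apply A6. -/
theorem triv_on_quot {P : Type*} [Group P] [Finite P] (hP : IsPGroup 2 P) (W Z : Subgroup P)
    [W.Normal] [Z.Normal] (hZW : Z ≤ W) (hab : ∀ a ∈ W, ∀ b ∈ W, a * b * a⁻¹ * b⁻¹ ∈ Z)
    (φ : MulAut P) (hφ : Odd (orderOf φ)) (hφW : ∀ w ∈ W, φ w ∈ W) (hφZ : ∀ z ∈ Z, φ z ∈ Z)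
    (hφP : ∀ t : P, φ t * t⁻¹ ∈ W)
    (hsoc : ∀ a ∈ W, ∀ b ∈ W, (∀ t : P, t * a * t⁻¹ * a⁻¹ ∈ Z) → (∀ t : P, t * b * t⁻¹ * b⁻¹ ∈ Z) →
      a ∉ Z → b ∉ Z → a * b⁻¹ ∈ Z) :
    ∀ w ∈ W, φ w * w⁻¹ ∈ Z := by
  sorry

/-- UNIT A8 (assembly of Part 1, abstract). Uses A1, A3, A5, A7. `hcomm` is a conclusion of S3174
(it gives both `Z_3 ≤ W` and `W' ≤ Z_3`). -/
theorem aut_trivial {P : Type*} [Group P] [Finite P] (hP : IsPGroup 2 P)
    (hb : Nat.card ↥(Subgroup.upperCentralSeries P 4) = 16) (hbig : 16 < Nat.card P)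
    (W : Subgroup P)
    (hW : W = Subgroup.centralizer ((Subgroup.upperCentralSeries P 3 : Subgroup P) : Set P))
    (hcomm : (commutator ↥W).map W.subtype = Subgroup.upperCentralSeries P 3)
    (φ : MulAut P) (hφ : Odd (orderOf φ)) : φ = 1 := by
  sorry

/-- UNIT A9 (Schur–Zassenhaus + centralising complement is normal). -/
theorem npc_of_aut_trivial {G : Type*} [Group G] [Finite G] (T : Sylow 2 G)
    (h : ∀ φ : MulAut ↥(T : Subgroup G), Odd (orderOf φ) → φ = 1) :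
    Cfsg.HasNormalPComplement 2 ↥(Subgroup.normalizer ((T : Subgroup G) : Set G)) := by
  sorry

/-! ## Part 2: weak closure -/

/-- UNIT B1 (from the S3174 conclusions to `Intrinsic ↥W`). -/
theorem intrinsic_of_conclusions {P : Type*} [Group P] [Finite P] (hcard : Nat.card P = 2 ^ 14)
    (W Z : Subgroup P) (hidx : W.index = 8)
    (hcomm : (commutator ↥W).map W.subtype = Z) (hfrat : (frattini ↥W).map W.subtype = Z)
    (hcen : Nat.card ↥(Subgroup.center ↥W) = 8) (hZ : Nat.card ↥Z = 8)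
    (hWZ : ∀ w ∈ W, ∀ z ∈ Z, w * z = z * w)
    (hd : ∀ U : Subgroup ↥W, U.index ≤ 16 → frattini ↥W ≤ U) :
    Intrinsic ↥W ∧ (Subgroup.center ↥W).map W.subtype = Z := by
  sorry

/-- UNIT B2 (`Intrinsic` transports along an isomorphism). -/
theorem intrinsic_of_equiv {V V' : Type*} [Group V] [Group V'] (e : V ≃* V') (h : Intrinsic V) :
    Intrinsic V' := by
  sorry

/-- UNIT B3 (`Intrinsic ↥V` gives `Shape V (Z(V))`). -/
theorem shape_of_intrinsic {P : Type*} [Group P] (V : Subgroup P) (h : Intrinsic ↥V) :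
    Shape V ((Subgroup.center ↥V).map V.subtype) := by
  sorry

/-- UNIT B4a (complement modulo `D` in the elementary abelian `Y / D`; maximality argument). -/
theorem exists_compl_mod {P : Type*} [Group P] [Finite P] (Y Z D : Subgroup P) (hDZ : D ≤ Z)
    (hZY : Z ≤ Y) (hsq : ∀ y ∈ Y, y ^ 2 ∈ D) (hcomm : ∀ a ∈ Y, ∀ b ∈ Y, a * b * a⁻¹ * b⁻¹ ∈ D) :
    ∃ U : Subgroup P, D ≤ U ∧ U ≤ Y ∧ U ⊓ Z = D ∧ U.relIndex Y = D.relIndex Z := by
  sorry

/-- UNIT B4 (THE CORE of Part 2; see blueprint steps (i)-(iv); uses B4a). -/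
theorem wc_core {P : Type*} [Group P] [Finite P] (W Z X C : Subgroup P) (hW : Shape W Z)
    (hX : Shape X C) [W.Normal] [Z.Normal]
    (hcent : ∀ x : P, (∀ z ∈ Z, x * z = z * x) → x ∈ W) (hidx : W.index = 8)
    (hnonab : ∃ a b : P, a * b * a⁻¹ * b⁻¹ ∉ W) : X = W := by
  sorry

/-- UNIT B5 (from the abstract uniqueness to `IsWeaklyClosed`). -/
theorem wc_of_unique {G : Type*} [Group G] (P : Subgroup G) (W : Subgroup ↥P)
    (h : ∀ X : Subgroup ↥P, Nonempty (↥W ≃* ↥X) → X = W) :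
    Cfsg.IsWeaklyClosed (W.map P.subtype) P := by
  sorry

end Cfsg.Agent.Lib.Lead.RVStubs
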