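import Mathlib
import Cfsg.Agent.Lib.Helper1.PCore
import Cfsg.Agent.Lib.Helper3.SZRel
import Cfsg.Agent.Lib.Helper4.EqOrdSyl
import Cfsg.Agent.Lib.Helper7.PGroupAux
import Cfsg.Agent.Lib.Lead.SylowCount
import Cfsg.Agent.S3738
import Cfsg.Agent.S3734

set_option autoImplicit false
set_option linter.unusedVariables false
set_option linter.unusedSectionVars false
set_option maxHeartbeats 1000000

open scoped Pointwise

namespace Cfsg.Agent.Lib.Lead.Rank3

variable {G : Type*} [Group G]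

theorem comm_of_mc {H : Subgroup G} (h : IsMulCommutative H) {a b : G} (ha : a ∈ H) (hb : b ∈ H) :
    a * b = b * a :=
  congrArg Subtype.val (h.is_comm.comm (⟨a, ha⟩ : H) ⟨b, hb⟩)

theorem elemAb_of_le {V W : Subgroup G} (hW : Cfsg.IsElementaryAbelian 2 W) (hVW : V ≤ W) :
    Cfsg.IsElementaryAbelian 2 V :=
  ⟨⟨⟨fun a b => Subtype.ext (comm_of_mc hW.1 (hVW a.2) (hVW b.2))⟩⟩, fun a ha => hW.2 a (hVW ha)⟩

theorem mem_zpowers_invol {u x : G} (hu2 : u ^ 2 = 1) (hx : x ∈ Subgroup.zpowers u) :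
    x = 1 ∨ x = u := by
  obtain ⟨k, rfl⟩ := Subgroup.mem_zpowers_iff.1 hx
  by_cases hu1 : u = 1
  · left; rw [hu1, one_zpow]
  · haveI : Fact (Nat.Prime 2) := ⟨Nat.prime_two⟩
    have hou : orderOf u = 2 := orderOf_eq_prime hu2 hu1
    have hk : u ^ k = u ^ (k % 2) := by
      have h := zpow_mod_orderOf u k
      simp only [hou, Nat.cast_ofNat] at h
      exact h.symm
    rcases Int.emod_two_eq_zero_or_one k with h | h
    · left; rw [hk, h, zpow_zero]
    · right; rw [hk, h, zpow_one]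

theorem exists_e8 [Finite G] (V : Subgroup G) (hV : Cfsg.IsElementaryAbelian 2 V)
    (hV4 : Nat.card V = 4) (u : G) (hu2 : u ^ 2 = 1) (huV : u ∉ V)
    (hc : ∀ v ∈ V, u * v = v * u) :
    ∃ E : Subgroup G, Cfsg.IsElementaryAbelian 2 E ∧ Nat.card E = 8 := by
  haveI : Fact (Nat.Prime 2) := ⟨Nat.prime_two⟩
  have hu1 : u ≠ 1 := by
    intro h
    apply huV
    rw [h]; exact V.one_mem
  have hou : orderOf u = 2 := orderOf_eq_prime hu2 hu1
  have hgen : ∀ x ∈ ((V : Set G) ∪ {u}), ∀ y ∈ ((V : Set G) ∪ {u}), x * y = y * x := by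
    intro x hx y hy
    rcases hx with hx | hx <;> rcases hy with hy | hy
    · exact comm_of_mc hV.1 hx hy
    · rw [Set.mem_singleton_iff] at hy; rw [hy]; exact (hc x hx).symm
    · rw [Set.mem_singleton_iff] at hx; rw [hx]; exact hc y hy
    · rw [Set.mem_singleton_iff] at hx hy; rw [hx, hy]
  have hE : Subgroup.closure ((V : Set G) ∪ {u}) = V ⊔ Subgroup.zpowers u := by
    rw [Subgroup.closure_union, Subgroup.closure_eq, Subgroup.zpowers_eq_closure]
  have hmc : IsMulCommutative (Subgroup.closure ((V : Set G) ∪ {u})) :=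
    Subgroup.isMulCommutative_closure hgen
  refine ⟨Subgroup.closure ((V : Set G) ∪ {u}), ⟨hmc, ?_⟩, ?_⟩
  · intro a ha
    refine Subgroup.closure_induction (p := fun x _ => x ^ 2 = 1) ?_ ?_ ?_ ?_ ha
    · intro x hx
      rcases hx with hx | hx
      · exact hV.2 x hx
      · rw [Set.mem_singleton_iff] at hx; rw [hx]; exact hu2
    · exact one_pow 2
    · intro x y hx hy h1 h2
      have hxy : Commute x y := comm_of_mc hmc hx hy
      rw [hxy.mul_pow, h1, h2, one_mul]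
    · intro x hx h1
      rw [inv_pow, h1, inv_one]
  · have hcomm : ∀ a ∈ V, ∀ b ∈ Subgroup.zpowers u, a * b = b * a := by
      intro a ha b hb
      obtain ⟨k, rfl⟩ := Subgroup.mem_zpowers_iff.1 hb
      have h0 : Commute a u := (hc a ha).symm
      exact (h0.zpow_right k).eq
    have hdisj : V ⊓ Subgroup.zpowers u = ⊥ := by
      rw [eq_bot_iff]
      intro x hx
      obtain ⟨hxV, hxu⟩ := hx
      rcases mem_zpowers_invol hu2 hxu with h | h
      · exact Subgroup.mem_bot.2 h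
      · exfalso; rw [h] at hxV; exact huV hxV
    have h1 := Cfsg.Agent.Lib.Helper4.EqOrdSyl.card_sup_of_commute V (Subgroup.zpowers u) hcomm hdisj
    rw [hV4, Nat.card_zpowers, hou] at h1
    rw [hE]
    exact h1.trans (by norm_num)

theorem mem_of_no_e8 [Finite G]
    (hno : ∀ E : Subgroup G, Cfsg.IsElementaryAbelian 2 E → Nat.card E ≠ 8)
    (V : Subgroup G) (hV : Cfsg.IsElementaryAbelian 2 V) (hV4 : Nat.card V = 4) (u : G)
    (hu2 : u ^ 2 = 1) (hc : ∀ v ∈ V, u * v = v * u) : u ∈ V := by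
  by_contra huV
  obtain ⟨E, hE, hE8⟩ := exists_e8 V hV hV4 u hu2 huV hc
  exact hno E hE hE8

theorem irr [Finite G] (W : Subgroup G) (hW4 : Nat.card W = 4) (e : G)
    (hfpf : W ⊓ Subgroup.centralizer {e} = ⊥)
    (U : Subgroup G) (hUW : U ≤ W) (heU : ∀ x ∈ U, e * x * e⁻¹ ∈ U) : U = ⊥ ∨ U = W := by
  have hdvd := Subgroup.card_dvd_of_le hUW
  rw [hW4] at hdvd
  have hdvd' : Nat.card U ∣ 2 ^ 2 := by norm_num; exact hdvd
  obtain ⟨k, hk, hkU⟩ := (Nat.dvd_prime_pow Nat.prime_two).1 hdvd'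
  interval_cases k
  · left
    exact Subgroup.eq_bot_of_card_eq U (by simpa using hkU)
  · exfalso
    have h2 : Nat.card U = 2 := by simpa using hkU
    obtain ⟨u, hu1, huniq⟩ := (Nat.card_eq_two_iff' (1 : U)).1 h2
    have hu1' : u ≠ 1 := hu1
    have huniq' : ∀ y : U, y ≠ 1 → y = u := huniq
    have hv1 : (⟨e * u.1 * e⁻¹, heU u.1 u.2⟩ : U) ≠ 1 := by
      intro h
      apply hu1'
      have h' : e * u.1 * e⁻¹ = 1 := congrArg Subtype.val h
      apply Subtype.ext
      show u.1 = 1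
      calc u.1 = e⁻¹ * (e * u.1 * e⁻¹) * e := by group
        _ = 1 := by rw [h']; group
    have hveq := huniq' _ hv1
    have hconj : e * u.1 * e⁻¹ = u.1 := congrArg Subtype.val hveq
    have hmem : u.1 ∈ W ⊓ Subgroup.centralizer {e} := by
      refine ⟨hUW u.2, ?_⟩
      apply Subgroup.mem_centralizer_singleton_iff.2
      exact (mul_inv_eq_iff_eq_mul.1 hconj).symm
    rw [hfpf, Subgroup.mem_bot] at hmem
    exact hu1' (Subtype.ext hmem)
  · right
    have h4 : Nat.card U = 4 := by simpa using hkU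
    exact Subgroup.eq_of_le_of_card_ge hUW (by omega)

theorem exists_pow_invol {H : Type*} [Group H] (x : H) (hx : ∃ k : ℕ, x ^ 2 ^ k = 1)
    (hx1 : x ≠ 1) : ∃ m : ℕ, x ^ m ≠ 1 ∧ (x ^ m) ^ 2 = 1 := by
  classical
  have hk0 : Nat.find hx ≠ 0 := by
    intro h0
    have := Nat.find_spec hx
    rw [h0, pow_zero, pow_one] at this
    exact hx1 this
  obtain ⟨j, hj⟩ : ∃ j, Nat.find hx = j + 1 := ⟨Nat.find hx - 1, by omega⟩
  refine ⟨2 ^ j, ?_, ?_⟩
  · exact Nat.find_min hx (by omega)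
  · have := Nat.find_spec hx
    rw [hj, pow_succ, pow_mul] at this
    exact this

theorem core_invol {E : Type*} [Group E] [Finite E] (hE : IsPGroup 2 E) (D : Subgroup E)
    [D.Normal] (hD : D ≠ ⊥) : ∃ u ∈ D, u ≠ 1 ∧ u ^ 2 = 1 ∧ ∀ a : E, u * a = a * u := by
  haveI : Fact (Nat.Prime 2) := ⟨Nat.prime_two⟩
  obtain ⟨b, hbD, hb1, hbc⟩ :=
    Cfsg.Agent.Lib.Helper7.exists_mem_center_of_normal_ne_bot hE D hD
  obtain ⟨m, hm1, hm2⟩ := exists_pow_invol b (hE b) hb1
  refine ⟨b ^ m, Subgroup.pow_mem _ hbD m, hm1, hm2, ?_⟩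
  intro a
  exact (Subgroup.mem_center_iff.1 (Subgroup.pow_mem _ hbc m) a).symm

theorem exists_central_invol [Finite G] (T : Subgroup G) (hT : IsPGroup 2 T) (hT1 : T ≠ ⊥) :
    ∃ u ∈ T, u ≠ 1 ∧ u ^ 2 = 1 ∧ ∀ q ∈ T, u * q = q * u := by
  have hD : (⊤ : Subgroup T) ≠ ⊥ := by
    intro h
    apply hT1
    rw [eq_bot_iff]
    intro x hx
    have hm : (⟨x, hx⟩ : T) ∈ (⊤ : Subgroup T) := Subgroup.mem_top _
    rw [h, Subgroup.mem_bot] at hm
    exact Subgroup.mem_bot.2 (congrArg Subtype.val hm)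
  obtain ⟨u, -, hu1, hu2, huc⟩ := core_invol hT (⊤ : Subgroup T) hD
  refine ⟨u.1, u.2, fun h => hu1 (Subtype.ext h), congrArg Subtype.val hu2, ?_⟩
  intro q hq
  exact congrArg Subtype.val (huc ⟨q, hq⟩)

theorem fixpt [Finite G] (A N : Subgroup G) [N.Normal] (hA : IsPGroup 2 A) (hN : IsPGroup 2 N)
    (hN1 : N ≠ ⊥) : ∃ u ∈ N, u ≠ 1 ∧ u ^ 2 = 1 ∧ ∀ a ∈ A, u * a = a * u := by
  have hR : IsPGroup 2 (A ⊔ N : Subgroup G) := IsPGroup.to_sup_of_normal_right hA hN
  have hne : N.subgroupOf (A ⊔ N) ≠ ⊥ := by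
    intro h
    apply hN1
    rw [eq_bot_iff]
    intro q hq
    have hm : (⟨q, (le_sup_right : N ≤ A ⊔ N) hq⟩ : ↥(A ⊔ N)) ∈ N.subgroupOf (A ⊔ N) :=
      Subgroup.mem_subgroupOf.2 hq
    rw [h, Subgroup.mem_bot] at hm
    exact Subgroup.mem_bot.2 (congrArg Subtype.val hm)
  obtain ⟨u, huD, hu1, hu2, huc⟩ := core_invol hR (N.subgroupOf (A ⊔ N)) hne
  refine ⟨u.1, Subgroup.mem_subgroupOf.1 huD, fun h => hu1 (Subtype.ext h),
    congrArg Subtype.val hu2, ?_⟩
  intro a ha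
  exact congrArg Subtype.val (huc ⟨a, (le_sup_left : A ≤ A ⊔ N) ha⟩)

theorem exists_ne_one_of_ne_bot (W : Subgroup G) (hW1 : W ≠ ⊥) : ∃ w ∈ W, w ≠ 1 := by
  by_contra h
  push Not at h
  exact hW1 ((Subgroup.eq_bot_iff_forall W).2 h)

theorem card_W_eq_four [Finite G]
    (hno : ∀ E : Subgroup G, Cfsg.IsElementaryAbelian 2 E → Nat.card E ≠ 8)
    (d : G) (W : Subgroup G) (hW : Cfsg.IsElementaryAbelian 2 W) (hW1 : W ≠ ⊥)
    (hdW : d ∈ Subgroup.normalizer (W : Set G))
    (hfpf : W ⊓ Subgroup.centralizer {d} = ⊥) : Nat.card W = 4 := by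
  haveI : Fact (Nat.Prime 2) := ⟨Nat.prime_two⟩
  obtain ⟨w1, hw1W, hw1⟩ := exists_ne_one_of_ne_bot W hW1
  obtain ⟨w2, hw2W, hw21, hw2w1⟩ : ∃ w ∈ W, w ≠ 1 ∧ w ≠ w1 := by
    by_contra h
    push Not at h
    have hconj : d * w1 * d⁻¹ ∈ W := (Subgroup.mem_normalizer_iff.1 hdW w1).1 hw1W
    have hne : d * w1 * d⁻¹ ≠ 1 := by
      intro h1
      apply hw1
      calc w1 = d⁻¹ * (d * w1 * d⁻¹) * d := by group
        _ = 1 := by rw [h1]; group
    have heq := h _ hconj hne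
    have hcent : w1 ∈ Subgroup.centralizer {d} := by
      rw [Subgroup.mem_centralizer_singleton_iff]
      exact (mul_inv_eq_iff_eq_mul.1 heq).symm
    have hmem : w1 ∈ W ⊓ Subgroup.centralizer {d} := ⟨hw1W, hcent⟩
    rw [hfpf, Subgroup.mem_bot] at hmem
    exact hw1 hmem
  have hw1sq : w1 ^ 2 = 1 := hW.2 w1 hw1W
  have hw2sq : w2 ^ 2 = 1 := hW.2 w2 hw2W
  obtain ⟨V, hVdef⟩ : ∃ V : Subgroup G, V = Subgroup.zpowers w1 ⊔ Subgroup.zpowers w2 := ⟨_, rfl⟩
  have hVW : V ≤ W := by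
    rw [hVdef]; exact sup_le (Subgroup.zpowers_le.2 hw1W) (Subgroup.zpowers_le.2 hw2W)
  have hV4 : Nat.card V = 4 := by
    have hcomm : ∀ a ∈ Subgroup.zpowers w1, ∀ b ∈ Subgroup.zpowers w2, a * b = b * a :=
      fun a ha b hb => comm_of_mc hW.1 (Subgroup.zpowers_le.2 hw1W ha) (Subgroup.zpowers_le.2 hw2W hb)
    have hdisj : Subgroup.zpowers w1 ⊓ Subgroup.zpowers w2 = ⊥ := by
      rw [eq_bot_iff]
      intro x hx
      obtain ⟨hx1, hx2⟩ := hx
      rcases mem_zpowers_invol hw1sq hx1 with h | h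
      · exact Subgroup.mem_bot.2 h
      · rcases mem_zpowers_invol hw2sq hx2 with h' | h'
        · exact Subgroup.mem_bot.2 h'
        · exfalso; exact hw2w1 (h'.symm.trans h)
    have h1 := Cfsg.Agent.Lib.Helper4.EqOrdSyl.card_sup_of_commute (Subgroup.zpowers w1)
      (Subgroup.zpowers w2) hcomm hdisj
    rw [Nat.card_zpowers, Nat.card_zpowers, orderOf_eq_prime hw1sq hw1,
      orderOf_eq_prime hw2sq hw21] at h1
    rw [hVdef]
    exact h1.trans (by norm_num)
  have hWV : W ≤ V := by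
    intro w hw
    exact mem_of_no_e8 hno V (elemAb_of_le hW hVW) hV4 w (hW.2 w hw)
      (fun v hv => comm_of_mc hW.1 hw (hVW hv))
  have hWeq : W = V := le_antisymm hWV hVW
  rw [hWeq]; exact hV4

theorem main [Finite G]
    (hchar : Subgroup.centralizer (Cfsg.pCore 2 G : Set G) ≤ Cfsg.pCore 2 G)
    (hsix : ∃ g : G, orderOf g = 6) (d : G) (hd1 : d ≠ 1)
    (hd : IsPGroup 3 ↥(Subgroup.zpowers d)) (W : Subgroup G)
    (hW : Cfsg.IsElementaryAbelian 2 W) (hW1 : W ≠ ⊥)
    (hdW : d ∈ Subgroup.normalizer (W : Set G))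
    (hfpf : W ⊓ Subgroup.centralizer {d} = ⊥) :
    ∃ E : Subgroup G, Cfsg.IsElementaryAbelian 2 E ∧ Nat.card E = 8 := by
  by_contra hcon
  have hno : ∀ E : Subgroup G, Cfsg.IsElementaryAbelian 2 E → Nat.card E ≠ 8 :=
    fun E hE h8 => hcon ⟨E, hE, h8⟩
  haveI : Fact (Nat.Prime 2) := ⟨Nat.prime_two⟩
  haveI : Fact (Nat.Prime 3) := ⟨Nat.prime_three⟩
  obtain ⟨Q, hQdef⟩ : ∃ Q : Subgroup G, Q = Cfsg.pCore 2 G := ⟨_, rfl⟩
  rw [← hQdef] at hchar
  have hQn : Q.Normal := by rw [hQdef]; exact Cfsg.Agent.Lib.Helper1.pCore_normal 2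
  haveI := hQn
  have hQp : IsPGroup 2 Q := by rw [hQdef]; exact Cfsg.Agent.Lib.Helper1.pCore_isPGroup 2
  have hW4 : Nat.card W = 4 := card_W_eq_four hno d W hW hW1 hdW hfpf
  have hWp : IsPGroup 2 W := IsPGroup.of_card (n := 2) (hW4.trans (by norm_num))
  have hQ1 : Q ≠ ⊥ := by
    intro h
    have hdc : d ∈ Subgroup.centralizer (Q : Set G) := by
      rw [Subgroup.mem_centralizer_iff]
      intro x hx
      rw [h] at hx
      have hx1 : x = 1 := Subgroup.mem_bot.1 hx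
      rw [hx1, one_mul, mul_one]
    have hdQ := hchar hdc
    rw [h] at hdQ
    exact hd1 (Subgroup.mem_bot.1 hdQ)
  have hdinv : ∀ x ∈ W, d * x * d⁻¹ ∈ W :=
    fun x hx => (Subgroup.mem_normalizer_iff.1 hdW x).1 hx
  -- Step 3
  have hWQ : W ≤ Q := by
    have hU := irr W hW4 d hfpf (W ⊓ Q) inf_le_left
      (fun x hx => ⟨hdinv x hx.1, hQn.conj_mem x hx.2 d⟩)
    rcases hU with hU | hU
    · exfalso
      obtain ⟨u, huQ, hu1, hu2, huc⟩ := fixpt W Q hWp hQp hQ1
      have huW := mem_of_no_e8 hno W hW hW4 u hu2 huc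
      have hmem : u ∈ W ⊓ Q := ⟨huW, huQ⟩
      rw [hU, Subgroup.mem_bot] at hmem
      exact hu1 hmem
    · exact hU.symm.le.trans inf_le_right
  -- Step 4
  have hZconj : ∀ z, z ∈ Q → (∀ q ∈ Q, z * q = q * z) → ∀ g : G,
      (g * z * g⁻¹ ∈ Q ∧ ∀ q ∈ Q, (g * z * g⁻¹) * q = q * (g * z * g⁻¹)) := by
    intro z hz hzc g
    refine ⟨hQn.conj_mem z hz g, ?_⟩
    intro q hq
    have hq' : g⁻¹ * q * g ∈ Q := by
      have := hQn.conj_mem q hq g⁻¹
      rwa [inv_inv] at this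
    have h1 := hzc _ hq'
    calc g * z * g⁻¹ * q = g * (z * (g⁻¹ * q * g)) * g⁻¹ := by group
      _ = g * ((g⁻¹ * q * g) * z) * g⁻¹ := by rw [h1]
      _ = q * (g * z * g⁻¹) := by group
  have h4a : ∀ z, z ∈ Q → z ^ 2 = 1 → (∀ q ∈ Q, z * q = q * z) → z ∈ W := by
    intro z hz hz2 hzc
    exact mem_of_no_e8 hno W hW hW4 z hz2 (fun v hv => hzc v (hWQ hv))
  obtain ⟨z0, hz0Q, hz01, hz02, hz0c⟩ := exists_central_invol Q hQp hQ1
  have hz0W : z0 ∈ W := h4a z0 hz0Q hz02 hz0c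
  have hWZ : W ≤ Subgroup.centralizer (Q : Set G) := by
    have hinv : ∀ x ∈ W ⊓ (Q ⊓ Subgroup.centralizer (Q : Set G)),
        d * x * d⁻¹ ∈ W ⊓ (Q ⊓ Subgroup.centralizer (Q : Set G)) := by
      intro x hx
      obtain ⟨hxW, hxQ, hxc⟩ := hx
      have hxc' : ∀ q ∈ Q, x * q = q * x :=
        fun q hq => (Subgroup.mem_centralizer_iff.1 hxc q hq).symm
      obtain ⟨h1, h2⟩ := hZconj x hxQ hxc' d
      exact ⟨hdinv x hxW, h1, Subgroup.mem_centralizer_iff.2 (fun h hh => (h2 h hh).symm)⟩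
    have hU := irr W hW4 d hfpf (W ⊓ (Q ⊓ Subgroup.centralizer (Q : Set G))) inf_le_left hinv
    rcases hU with hU | hU
    · exfalso
      have hmem : z0 ∈ W ⊓ (Q ⊓ Subgroup.centralizer (Q : Set G)) :=
        ⟨hz0W, hz0Q, Subgroup.mem_centralizer_iff.2 (fun h hh => (hz0c h hh).symm)⟩
      rw [hU, Subgroup.mem_bot] at hmem
      exact hz01 hmem
    · exact hU.symm.le.trans (inf_le_right.trans inf_le_right)
  have hWc : ∀ w ∈ W, ∀ q ∈ Q, q * w = w * q :=
    fun w hw q hq => Subgroup.mem_centralizer_iff.1 (hWZ hw) q hq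
  have hWn : W.Normal := by
    refine ⟨fun w hw g => ?_⟩
    obtain ⟨h1, h2⟩ := hZconj w (hWQ hw) (fun q hq => (hWc w hw q hq).symm) g
    refine h4a _ h1 ?_ h2
    rw [conj_pow, hW.2 w hw, mul_one, mul_inv_cancel]
  haveI := hWn
  have h4d : ∀ u ∈ Q, u ^ 2 = 1 → u ∈ W := fun u hu hu2 =>
    mem_of_no_e8 hno W hW hW4 u hu2 (fun v hv => hWc v hv u hu)
  have h4e : ∀ e : G, W ⊓ Subgroup.centralizer {e} = ⊥ → Q ⊓ Subgroup.centralizer {e} = ⊥ := by
    intro e he
    by_contra hne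
    obtain ⟨u, huT, hu1, hu2, -⟩ :=
      exists_central_invol (Q ⊓ Subgroup.centralizer {e}) (hQp.to_le inf_le_left) hne
    have hmem : u ∈ W ⊓ Subgroup.centralizer {e} := ⟨h4d u huT.1 hu2, huT.2⟩
    rw [he, Subgroup.mem_bot] at hmem
    exact hu1 hmem
  -- Step 5
  have horder : ∀ e : G, e ≠ 1 → IsPGroup 3 ↥(Subgroup.zpowers e) →
      W ⊓ Subgroup.centralizer {e} = ⊥ → orderOf e = 3 := by
    intro e he1 he3 hefpf
    obtain ⟨n, hn⟩ := (IsPGroup.iff_card).1 he3
    rw [Nat.card_zpowers] at hn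
    have hn1 : 1 ≤ n := by
      rcases Nat.eq_zero_or_pos n with h0 | h0
      · exfalso
        rw [h0, pow_zero] at hn
        exact he1 (orderOf_eq_one_iff.1 hn)
      · exact h0
    refine Cfsg.Agent.S3738.result e n hn1 hn Q hQp ?_ ?_ (h4e e hefpf) ?_
    · rw [Subgroup.normalizer_eq_top]; exact Subgroup.mem_top e
    · rw [eq_bot_iff]
      exact (inf_le_inf_left _ hchar).trans
        (IsPGroup.disjoint_of_ne 3 2 (by norm_num) _ _ he3 hQp).le_bot
    · intro V hVQ _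
      unfold Cfsg.PRankLE
      intro A hA hA2
      have hle : A.map V.subtype ≤ W := by
        rintro _ ⟨a, ha, rfl⟩
        refine h4d _ (hVQ a.2) ?_
        have h2 := hA2 a ha
        exact congrArg Subtype.val h2
      calc Nat.card A = Nat.card (A.map V.subtype) :=
            (Subgroup.card_map_of_injective V.subtype_injective).symm
        _ ≤ Nat.card W := Subgroup.card_le_of_le hle
        _ = 2 ^ 2 := hW4.trans (by norm_num)
  have hd3 : orderOf d = 3 := horder d hd1 hd hfpf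
  have hd_not_cent : d ∉ Subgroup.centralizer (W : Set G) := by
    intro h
    apply hW1
    rw [eq_bot_iff, ← hfpf]
    intro w hw
    exact ⟨hw, Subgroup.mem_centralizer_singleton_iff.2 (Subgroup.mem_centralizer_iff.1 h w hw)⟩
  -- Step 6
  have h9 : ¬ 9 ∣ Nat.card G := by
    intro h9
    have h9' : 3 ^ (1 + 1) ∣ Nat.card G := by norm_num; exact h9
    obtain ⟨K, hK9, hdK⟩ := Sylow.exists_subgroup_card_pow_succ (p := 3) (n := 1) h9'
      (H := Subgroup.zpowers d) (by rw [Nat.card_zpowers, hd3, pow_one])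
    have hK9' : Nat.card K = 3 ^ 2 := hK9
    have hK9'' : Nat.card K = 9 := hK9.trans (by norm_num)
    have hKab : IsMulCommutative K := IsPGroup.isMulCommutative_of_card_eq_prime_sq hK9'
    have hK3 : IsPGroup 3 K := IsPGroup.of_card hK9'
    have hdKm : d ∈ K := hdK (Subgroup.mem_zpowers d)
    have hA : ∀ e ∈ K, e ∉ Subgroup.centralizer (W : Set G) →
        W ⊓ Subgroup.centralizer {e} = ⊥ := by
      intro e heK hec
      have hed : e * d = d * e := comm_of_mc hKab heK hdKm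
      have hinv : ∀ x ∈ W ⊓ Subgroup.centralizer {e}, d * x * d⁻¹ ∈ W ⊓ Subgroup.centralizer {e} := by
        intro x hx
        refine ⟨hdinv x hx.1, ?_⟩
        apply Subgroup.mem_centralizer_singleton_iff.2
        have hc1 : Commute e d := hed
        have hc2 : Commute e x := (Subgroup.mem_centralizer_singleton_iff.1 hx.2).symm
        exact ((hc1.mul_right hc2).mul_right hc1.inv_right).eq.symm
      have hU := irr W hW4 d hfpf (W ⊓ Subgroup.centralizer {e}) inf_le_left hinv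
      rcases hU with hU | hU
      · exact hU
      · exfalso
        apply hec
        rw [Subgroup.mem_centralizer_iff]
        intro w hw
        have hmem : w ∈ W ⊓ Subgroup.centralizer {e} := by rw [hU]; exact hw
        exact Subgroup.mem_centralizer_singleton_iff.1 hmem.2
    have hnocyc : ∀ a ∈ K, Subgroup.zpowers a ≠ K := by
      intro a haK hza
      have hac : a ∉ Subgroup.centralizer (W : Set G) := by
        intro hac
        apply hd_not_cent
        have hle : K ≤ Subgroup.centralizer (W : Set G) := by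
          rw [← hza]; exact Subgroup.zpowers_le.2 hac
        exact hle hdKm
      have ha1 : a ≠ 1 := by
        intro h
        apply hac
        rw [h]; exact Subgroup.one_mem _
      have ha3 := horder a ha1 (hK3.to_le (Subgroup.zpowers_le.2 haK)) (hA a haK hac)
      have hK3' : Nat.card K = 3 := by rw [← hza, Nat.card_zpowers, ha3]
      omega
    obtain ⟨K0, hK0def⟩ : ∃ K0 : Subgroup G, K0 = K ⊓ Subgroup.centralizer (W : Set G) :=
      ⟨_, rfl⟩
    have hK0K : K0 ≤ K := by rw [hK0def]; exact inf_le_left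
    have hdK0 : d ∉ K0 := by rw [hK0def]; exact fun h => hd_not_cent h.2
    have hK0card : Nat.card K0 = 1 ∨ Nat.card K0 = 3 := by
      have hdvd := Subgroup.card_dvd_of_le hK0K
      rw [hK9'] at hdvd
      obtain ⟨k, hk, hkc⟩ := (Nat.dvd_prime_pow Nat.prime_three).1 hdvd
      interval_cases k
      · left; simpa using hkc
      · right; simpa using hkc
      · exfalso
        have h99 : Nat.card K0 = 9 := by simpa using hkc
        have hKK : K0 = K := Subgroup.eq_of_le_of_card_ge hK0K (by omega)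
        apply hdK0
        rw [hKK]; exact hdKm
    have hterm : ∀ B : Subgroup G, B ≤ K → ¬ B ≤ K0 →
        Q ⊓ Subgroup.centralizer (B : Set G) = ⊥ := by
      intro B hBK hBK0
      obtain ⟨b, hbB, hbK0⟩ := SetLike.not_le_iff_exists.1 hBK0
      have hbc : b ∉ Subgroup.centralizer (W : Set G) := by
        intro h
        apply hbK0
        rw [hK0def]; exact ⟨hBK hbB, h⟩
      have h1 := h4e b (hA b (hBK hbB) hbc)
      rw [eq_bot_iff, ← h1]
      exact inf_le_inf_left _ (Subgroup.centralizer_le (Set.singleton_subset_iff.2 hbB))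
    have hcop : (Nat.card K).Coprime (Nat.card Q) := by
      obtain ⟨m, hm⟩ := (IsPGroup.iff_card).1 hQp
      rw [hK9', hm]
      exact Nat.Coprime.pow _ _ (by norm_num)
    obtain ⟨hgen, -⟩ := Cfsg.Agent.S3734.result K Q hKab
      (by rw [Subgroup.normalizer_eq_top]; exact le_top) hcop
    have hBne : ∀ B : Subgroup G, (B ≤ K ∧ ∃ a ∈ K, B ⊔ Subgroup.zpowers a = K) → B ≠ ⊥ := by
      rintro B ⟨-, a, haK, hBa⟩ hB
      rw [hB, bot_sup_eq] at hBa
      exact hnocyc a haK hBa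
    have hK0bot : K0 = ⊥ := by
      have hQle : Q ≤ Q ⊓ Subgroup.centralizer (K0 : Set G) := by
        refine hgen.symm.le.trans (iSup₂_le ?_)
        intro B hB
        have hB' : B ≤ K ∧ ∃ a ∈ K, B ⊔ Subgroup.zpowers a = K := hB
        have hBne' := hBne B hB'
        by_cases hBK0 : B ≤ K0
        · rcases hK0card with h1 | h3
          · exfalso
            apply hBne'
            have hb : K0 = ⊥ := Subgroup.eq_bot_of_card_eq K0 h1
            rw [eq_bot_iff, ← hb]; exact hBK0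
          · have hBd := Subgroup.card_dvd_of_le hBK0
            rw [h3] at hBd
            have hB13 : Nat.card B = 1 ∨ Nat.card B = 3 :=
              (Nat.dvd_prime Nat.prime_three).1 hBd
            rcases hB13 with hB1 | hB3
            · exact absurd (Subgroup.eq_bot_of_card_eq B hB1) hBne'
            · have hBeq : B = K0 := Subgroup.eq_of_le_of_card_ge hBK0 (by omega)
              rw [hBeq]
        · rw [hterm B hB'.1 hBK0]; exact bot_le
      have hK0c : K0 ≤ Subgroup.centralizer (Q : Set G) := by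
        intro k hk
        rw [Subgroup.mem_centralizer_iff]
        intro q hq
        have hqc := (hQle hq).2
        exact (Subgroup.mem_centralizer_iff.1 hqc k hk).symm
      have hK0Q : K0 ≤ K ⊓ Q := le_inf hK0K (hK0c.trans hchar)
      have hdisj : K ⊓ Q = ⊥ := (IsPGroup.disjoint_of_ne 3 2 (by norm_num) _ _ hK3 hQp).eq_bot
      rw [eq_bot_iff, ← hdisj]; exact hK0Q
    have hQbot : Q ≤ ⊥ := by
      refine hgen.symm.le.trans (iSup₂_le ?_)
      intro B hB
      have hB' : B ≤ K ∧ ∃ a ∈ K, B ⊔ Subgroup.zpowers a = K := hB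
      have hBne' := hBne B hB'
      have hBK0 : ¬ B ≤ K0 := by
        rw [hK0bot]; exact fun h => hBne' (le_bot_iff.1 h)
      rw [hterm B hB'.1 hBK0]
    exact hQ1 (le_bot_iff.1 hQbot)
  -- Step 6'
  obtain ⟨m, hm⟩ : 3 ∣ Nat.card G := by rw [← hd3]; exact orderOf_dvd_natCard d
  have hm3 : ¬ 3 ∣ m := by
    rintro ⟨m', rfl⟩
    apply h9
    rw [hm]; exact ⟨m', by ring⟩
  have hsyl3 : ∀ P : Sylow 3 G, Nat.card P = 3 := fun P =>
    Cfsg.Agent.Lib.Lead.SylowCount.card_sylow_of_card_eq 3 m hm hm3 P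
  -- Step 7
  obtain ⟨g, hg6⟩ := hsix
  obtain ⟨c, hcdef⟩ : ∃ c, c = g ^ 2 := ⟨_, rfl⟩
  obtain ⟨t, htdef⟩ : ∃ t, t = g ^ 3 := ⟨_, rfl⟩
  have hc3 : orderOf c = 3 := by
    have h := orderOf_pow' g (n := 2) (by norm_num)
    rw [hg6] at h
    norm_num at h
    rw [hcdef]; exact h
  have hg66 : g ^ 6 = 1 := by rw [← hg6]; exact pow_orderOf_eq_one g
  have ht2 : t ^ 2 = 1 := by rw [htdef, ← pow_mul]; exact hg66
  have ht1 : t ≠ 1 := by
    intro h
    rw [htdef] at h
    have h3 := orderOf_dvd_of_pow_eq_one h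
    rw [hg6] at h3
    omega
  have hct : Commute c t := by rw [hcdef, htdef]; exact (Commute.refl g).pow_pow 2 3
  have hc1 : c ≠ 1 := by
    intro h
    rw [h, orderOf_one] at hc3
    omega
  have hcp : IsPGroup 3 ↥(Subgroup.zpowers c) :=
    IsPGroup.of_card (n := 1) (by rw [Nat.card_zpowers, hc3, pow_one])
  obtain ⟨P, hcP⟩ := hcp.exists_le_sylow
  obtain ⟨Pd, hdPd⟩ := hd.exists_le_sylow
  have hP3 : Nat.card (P : Subgroup G) = 3 := hsyl3 P
  have hcPeq : Subgroup.zpowers c = (P : Subgroup G) :=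
    Subgroup.eq_of_le_of_card_ge hcP (by rw [hP3, Nat.card_zpowers, hc3])
  have hdPdm : d ∈ (Pd : Subgroup G) := hdPd (Subgroup.mem_zpowers d)
  obtain ⟨x, hx⟩ := MulAction.exists_smul_eq G Pd P
  have hxP : (P : Subgroup G) = MulAut.conj x • (Pd : Subgroup G) := by
    rw [← hx, Sylow.coe_subgroup_smul]
  have hd'P : x * d * x⁻¹ ∈ Subgroup.zpowers c := by
    rw [hcPeq, hxP, Cfsg.Agent.Lib.Helper3.mem_conj_smul_iff]
    have hxx : x⁻¹ * (x * d * x⁻¹) * x = d := by group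
    rw [hxx]; exact hdPdm
  obtain ⟨k, hk⟩ := Subgroup.mem_zpowers_iff.1 hd'P
  have hfpfc : W ⊓ Subgroup.centralizer {c} = ⊥ := by
    rw [eq_bot_iff]
    intro w hw
    obtain ⟨hwW, hwc⟩ := hw
    have hwc' : Commute w c := Subgroup.mem_centralizer_singleton_iff.1 hwc
    have hwd' : w * (x * d * x⁻¹) = (x * d * x⁻¹) * w := by
      rw [← hk]; exact (hwc'.zpow_right k).eq
    have hv : x⁻¹ * w * x ∈ W ⊓ Subgroup.centralizer {d} := by
      refine ⟨?_, ?_⟩
      · have h := hWn.conj_mem w hwW x⁻¹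
        rwa [inv_inv] at h
      · apply Subgroup.mem_centralizer_singleton_iff.2
        calc x⁻¹ * w * x * d = x⁻¹ * (w * (x * d * x⁻¹)) * x := by group
          _ = x⁻¹ * ((x * d * x⁻¹) * w) * x := by rw [hwd']
          _ = d * (x⁻¹ * w * x) := by group
    rw [hfpf, Subgroup.mem_bot] at hv
    rw [Subgroup.mem_bot]
    calc w = x * (x⁻¹ * w * x) * x⁻¹ := by group
      _ = 1 := by rw [hv]; group
  -- Step 8
  have hinvt : ∀ y ∈ W ⊓ Subgroup.centralizer {t}, c * y * c⁻¹ ∈ W ⊓ Subgroup.centralizer {t} := by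
    intro y hy
    refine ⟨hWn.conj_mem y hy.1 c, ?_⟩
    apply Subgroup.mem_centralizer_singleton_iff.2
    have hyt : Commute t y := (Subgroup.mem_centralizer_singleton_iff.1 hy.2).symm
    have htc : Commute t c := hct.symm
    exact ((htc.mul_right hyt).mul_right htc.inv_right).eq.symm
  have hUt := irr W hW4 c hfpfc (W ⊓ Subgroup.centralizer {t}) inf_le_left hinvt
  have hTp : IsPGroup 2 ↥(Subgroup.zpowers t) :=
    IsPGroup.of_card (n := 1) (by rw [Nat.card_zpowers, orderOf_eq_prime ht2 ht1, pow_one])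
  rcases hUt with hUt | hUt
  · obtain ⟨u, huW, hu1, hu2, huc⟩ := fixpt (Subgroup.zpowers t) W hTp hWp hW1
    have hmem : u ∈ W ⊓ Subgroup.centralizer {t} :=
      ⟨huW, Subgroup.mem_centralizer_singleton_iff.2 (huc t (Subgroup.mem_zpowers t))⟩
    rw [hUt, Subgroup.mem_bot] at hmem
    exact hu1 hmem
  · have htW : ∀ v ∈ W, t * v = v * t := by
      intro v hv
      have hmem : v ∈ W ⊓ Subgroup.centralizer {t} := by rw [hUt]; exact hv
      exact (Subgroup.mem_centralizer_singleton_iff.1 hmem.2).symm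
    have htinW := mem_of_no_e8 hno W hW hW4 t ht2 htW
    have hmem : t ∈ W ⊓ Subgroup.centralizer {c} :=
      ⟨htinW, Subgroup.mem_centralizer_singleton_iff.2 hct.symm.eq⟩
    rw [hfpfc, Subgroup.mem_bot] at hmem
    exact ht1 hmem

end Cfsg.Agent.Lib.Lead.Rank3
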