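import Mathlib
import Cfsg.Agent.Lib.Helper8.NormalFour
import Cfsg.Agent.Lib.Helper1.ThompsonTransfer
import Cfsg.Agent.Lib.Helper1.Nilpotent
import Cfsg.Agent.Lib.Lead.KleinSylow
import Cfsg.Agent.Lib.Lead.WRCore2

set_option autoImplicit false

namespace Cfsg.Agent.Lib.Lead.RankThree

variable {G : Type*} [Group G]

theorem comm_of_sq {a b : G} (ha : a ^ 2 = 1) (hb : b ^ 2 = 1) (hab : (a * b) ^ 2 = 1) :
    a * b = b * a := by
  have h1 : a⁻¹ = a := inv_eq_of_mul_eq_one_right (by rw [← pow_two]; exact ha)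
  have h2 : b⁻¹ = b := inv_eq_of_mul_eq_one_right (by rw [← pow_two]; exact hb)
  have h3 : (a * b)⁻¹ = a * b := inv_eq_of_mul_eq_one_right (by rw [← pow_two]; exact hab)
  rw [mul_inv_rev, h1, h2] at h3
  exact h3.symm

theorem sup_exp_two (H K : Subgroup G) (hH : ∀ h ∈ H, h ^ 2 = 1) (hK : ∀ k ∈ K, k ^ 2 = 1)
    (hc : ∀ h ∈ H, ∀ k ∈ K, h * k = k * h) : ∀ a ∈ H ⊔ K, a ^ 2 = 1 := by
  have hHc : ∀ a ∈ H, ∀ b ∈ H, a * b = b * a := fun a ha b hb =>
    comm_of_sq (hH a ha) (hH b hb) (hH _ (H.mul_mem ha hb))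
  have hKc : ∀ a ∈ K, ∀ b ∈ K, a * b = b * a := fun a ha b hb =>
    comm_of_sq (hK a ha) (hK b hb) (hK _ (K.mul_mem ha hb))
  have h1 : H ⊔ K ≤ Subgroup.centralizer (H : Set G) := by
    apply sup_le
    · intro a ha
      rw [Subgroup.mem_centralizer_iff]
      intro b hb
      exact hHc b hb a ha
    · intro k hk
      rw [Subgroup.mem_centralizer_iff]
      intro h hh
      exact hc h hh k hk
  have h2 : H ⊔ K ≤ Subgroup.centralizer (K : Set G) := by
    apply sup_le
    · intro h hh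
      rw [Subgroup.mem_centralizer_iff]
      intro k hk
      exact (hc h hh k hk).symm
    · intro a ha
      rw [Subgroup.mem_centralizer_iff]
      intro b hb
      exact hKc b hb a ha
  have h3 : H ⊔ K ≤ Subgroup.centralizer ((H ⊔ K : Subgroup G) : Set G) := by
    apply sup_le
    · rw [Subgroup.le_centralizer_iff]; exact h1
    · rw [Subgroup.le_centralizer_iff]; exact h2
  let Om : Subgroup G :=
    { carrier := {a | a ∈ H ⊔ K ∧ a ^ 2 = 1}
      one_mem' := ⟨one_mem _, one_pow 2⟩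
      mul_mem' := by
        rintro a b ⟨ha, ha2⟩ ⟨hb, hb2⟩
        refine ⟨mul_mem ha hb, ?_⟩
        have hab : b * a = a * b := (Subgroup.mem_centralizer_iff.1 (h3 ha)) b hb
        have : (a * b) ^ 2 = a ^ 2 * b ^ 2 := by
          rw [pow_two, pow_two, pow_two]
          calc a * b * (a * b) = a * (b * a) * b := by group
            _ = a * (a * b) * b := by rw [hab]
            _ = a * a * (b * b) := by group
        rw [this, ha2, hb2, one_mul]
      inv_mem' := by
        rintro a ⟨ha, ha2⟩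
        exact ⟨inv_mem ha, by rw [inv_pow, ha2, inv_one]⟩ }
  have h4 : H ⊔ K ≤ Om :=
    sup_le (fun h hh => ⟨Subgroup.mem_sup_left hh, hH h hh⟩)
      (fun k hk => ⟨Subgroup.mem_sup_right hk, hK k hk⟩)
  intro a ha
  exact (h4 ha).2

theorem isPGroup_of_sq (A : Subgroup G) (hA2 : ∀ a ∈ A, a ^ 2 = 1) : IsPGroup 2 A := by
  intro a
  refine ⟨1, ?_⟩
  apply Subtype.ext
  have := hA2 a.1 a.2
  simpa using this

theorem card_ge_eight [Finite G] (U A : Subgroup G) (hUA : U ≤ A) (hU4 : Nat.card U = 4)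
    (hA2 : ∀ a ∈ A, a ^ 2 = 1) (hne : U ≠ A) : 8 ≤ Nat.card A := by
  haveI : Fact (Nat.Prime 2) := ⟨Nat.prime_two⟩
  obtain ⟨k, hk⟩ := IsPGroup.iff_card.1 (isPGroup_of_sq A hA2)
  have hdvd : Nat.card U ∣ Nat.card A := Subgroup.card_dvd_of_le hUA
  have hlt : Nat.card U ≠ Nat.card A := by
    intro h
    exact hne (Subgroup.eq_of_le_of_card_ge hUA (by rw [h]))
  rw [hU4, hk] at hdvd hlt
  rw [hk]
  have h3 : 3 ≤ k := by
    by_contra hk3
    push Not at hk3
    interval_cases k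
    · norm_num at hdvd
    · norm_num at hdvd
    · norm_num at hlt
  calc 8 = 2 ^ 3 := rfl
    _ ≤ 2 ^ k := Nat.pow_le_pow_right (by norm_num) h3

theorem exists_E8 [Finite G] (A : Subgroup G) (hA2 : ∀ a ∈ A, a ^ 2 = 1) (h8 : 8 ≤ Nat.card A) :
    ∃ E : Subgroup G, E ≤ A ∧ Nat.card E = 8 := by
  haveI : Fact (Nat.Prime 2) := ⟨Nat.prime_two⟩
  obtain ⟨k, hk⟩ := IsPGroup.iff_card.1 (isPGroup_of_sq A hA2)
  have hk3 : 3 ≤ k := by
    by_contra h
    push Not at h
    have h1 : 2 ^ k ≤ 2 ^ 2 := Nat.pow_le_pow_right (by norm_num) (by omega)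
    rw [hk] at h8
    omega
  have hdvd : 2 ^ 3 ∣ Nat.card A := by rw [hk]; exact pow_dvd_pow 2 hk3
  obtain ⟨K, hK⟩ := Sylow.exists_subgroup_card_pow_prime 2 hdvd
  refine ⟨K.map A.subtype, Subgroup.map_subtype_le K, ?_⟩
  rw [Subgroup.card_map_of_injective A.subtype_injective, hK]
  norm_num

theorem klein_elems [Finite G] (U : Subgroup G) (hU4 : Nat.card U = 4)
    (hU2 : ∀ u ∈ U, u ^ 2 = 1) (a : G) (ha : a ∈ U) (ha1 : a ≠ 1) :
    ∃ b ∈ U, b ≠ 1 ∧ b ≠ a ∧ ∀ x ∈ U, x = 1 ∨ x = a ∨ x = b ∨ x = a * b := by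
  classical
  haveI : IsKleinFour U := Cfsg.Agent.Lib.Lead.WRCore.isKleinFour_of_card_of_sq hU4 (by
    rintro ⟨g, hg⟩
    apply Subtype.ext
    have := hU2 g hg
    rw [pow_two] at this
    exact this)
  haveI : Fintype U := Fintype.ofFinite U
  have hcard : Fintype.card U = 4 := by rw [← Nat.card_eq_fintype_card]; exact hU4
  have h2 : ∃ b : U, b ≠ 1 ∧ b ≠ ⟨a, ha⟩ := by
    by_contra h
    push Not at h
    have hsub : (Finset.univ : Finset U) ⊆ {1, ⟨a, ha⟩} := by
      intro x _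
      by_cases hx : x = 1
      · simp [hx]
      · simp [h x hx]
    have := Finset.card_le_card hsub
    rw [Finset.card_univ, hcard] at this
    have h3 : ({1, ⟨a, ha⟩} : Finset U).card ≤ 2 := Finset.card_le_two
    omega
  obtain ⟨b, hb1, hba⟩ := h2
  have ha' : (⟨a, ha⟩ : U) ≠ 1 := fun h => ha1 (congrArg Subtype.val h)
  refine ⟨b.1, b.2, fun h => hb1 (Subtype.ext h), fun h => hba (Subtype.ext h), ?_⟩
  intro x hx
  by_cases hx1 : (⟨x, hx⟩ : U) = 1
  · left; exact congrArg Subtype.val hx1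
  by_cases hxa : (⟨x, hx⟩ : U) = ⟨a, ha⟩
  · right; left; exact congrArg Subtype.val hxa
  by_cases hxb : (⟨x, hx⟩ : U) = b
  · right; right; left; exact congrArg Subtype.val hxb
  right; right; right
  have := IsKleinFour.eq_mul_of_ne_all ha' hb1 (Ne.symm hba) hx1 hxa hxb
  exact congrArg Subtype.val this

theorem conj_back [Finite G] (x g : G) (E' : Subgroup G)
    (hE' : E' ≤ Subgroup.centralizer ({g * x * g⁻¹} : Set G)) (h8 : Nat.card E' = 8)
    (h2 : ∀ e ∈ E', e ^ 2 = 1) :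
    ∃ E : Subgroup G, E ≤ Subgroup.centralizer ({x} : Set G) ∧ Nat.card E = 8 ∧
      ∀ e ∈ E, e ^ 2 = 1 := by
  refine ⟨E'.map (MulAut.conj g⁻¹).toMonoidHom, ?_, ?_, ?_⟩
  · rintro _ ⟨e, he, rfl⟩
    rw [Subgroup.mem_centralizer_iff]
    intro y hy
    rw [Set.mem_singleton_iff] at hy
    subst hy
    have h := (Subgroup.mem_centralizer_iff.1 (hE' he)) (g * y * g⁻¹) rfl
    show y * (g⁻¹ * e * g⁻¹⁻¹) = g⁻¹ * e * g⁻¹⁻¹ * y
    rw [inv_inv]
    calc y * (g⁻¹ * e * g) = g⁻¹ * (g * y * g⁻¹ * e) * g := by group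
      _ = g⁻¹ * (e * (g * y * g⁻¹)) * g := by rw [h]
      _ = g⁻¹ * e * g * y := by group
  · rw [Subgroup.card_map_of_injective (MulAut.conj g⁻¹).injective, h8]
  · rintro _ ⟨e, he, rfl⟩
    rw [← map_pow, h2 e he, map_one]

theorem core [Finite G] (hno : ∀ H : Subgroup G, H.index ≠ 2) (P : Sylow 2 G)
    (E0 : Subgroup G) (hE0P : E0 ≤ P) (hE08 : Nat.card E0 = 8) (hE02 : ∀ e ∈ E0, e ^ 2 = 1)
    (x : G) (hx : orderOf x = 2) (hxP : x ∈ (P : Subgroup G)) :
    ∃ E : Subgroup G, E ≤ Subgroup.centralizer ({x} : Set G) ∧ Nat.card E = 8 ∧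
      ∀ e ∈ E, e ^ 2 = 1 := by
  classical
  haveI : Fact (Nat.Prime 2) := ⟨Nat.prime_two⟩
  have hP2 : IsPGroup 2 (P : Subgroup G) := P.isPGroup'
  have hE0c : ∀ a ∈ E0, ∀ b ∈ E0, a * b = b * a := fun a ha b hb =>
    comm_of_sq (hE02 a ha) (hE02 b hb) (hE02 _ (E0.mul_mem ha hb))
  -- the normal four-group of `P`
  have hE0'card : Nat.card (E0.subgroupOf (P : Subgroup G)) = 8 := by
    rw [← hE08]
    exact Nat.card_congr (Subgroup.subgroupOfEquivOfLe hE0P).toEquiv
  have hE0'2 : ∀ e ∈ E0.subgroupOf (P : Subgroup G), e ^ 2 = 1 := by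
    intro e he
    apply Subtype.ext
    have := hE02 e.1 (Subgroup.mem_subgroupOf.1 he)
    simpa using this
  have hE0'c : ∀ a ∈ E0.subgroupOf (P : Subgroup G), ∀ b ∈ E0.subgroupOf (P : Subgroup G),
      a * b = b * a := fun a ha b hb =>
    comm_of_sq (hE0'2 a ha) (hE0'2 b hb) (hE0'2 _ (Subgroup.mul_mem _ ha hb))
  obtain ⟨Up, hUpn, hUpc, hUp2, hUp4⟩ :=
    Cfsg.Agent.Lib.Helper8.NormalFour.exists_normal_four hP2 (E0.subgroupOf (P : Subgroup G))
      hE0'c hE0'2 (by rw [hE0'card])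
  haveI : Group.IsNilpotent (P : Subgroup G) := hP2.isNilpotent
  haveI := hUpn
  have hUpne : Up ≠ ⊥ := by
    intro h
    rw [h, Subgroup.card_bot] at hUp4
    omega
  have hcen := Cfsg.Agent.Lib.Helper1.normal_inf_center_ne_bot Up hUpne
  obtain ⟨⟨c, hc⟩, hc1⟩ := (Subgroup.ne_bot_iff_exists_ne_one).1 hcen
  -- transport to `G`
  set U : Subgroup G := Up.map (P : Subgroup G).subtype with hUdef
  have hUP : U ≤ P := Subgroup.map_subtype_le Up
  have hU4 : Nat.card U = 4 := by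
    rw [hUdef, Subgroup.card_map_of_injective (Subgroup.subtype_injective _), hUp4]
  have hU2 : ∀ u ∈ U, u ^ 2 = 1 := by
    rintro _ ⟨u', hu', rfl⟩
    have h := congrArg Subtype.val (hUp2 u' hu')
    simpa using h
  have hUn : ∀ s ∈ (P : Subgroup G), ∀ u ∈ U, s * u * s⁻¹ ∈ U := by
    rintro s hs _ ⟨u', hu', rfl⟩
    exact ⟨⟨s, hs⟩ * u' * ⟨s, hs⟩⁻¹, hUpn.conj_mem u' hu' ⟨s, hs⟩, rfl⟩
  have hUc : ∀ a ∈ U, ∀ b ∈ U, a * b = b * a := fun a ha b hb =>
    comm_of_sq (hU2 a ha) (hU2 b hb) (hU2 _ (U.mul_mem ha hb))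
  have hu1U : (c : G) ∈ U := ⟨c, hc.1, rfl⟩
  have hu11 : (c : G) ≠ 1 := by
    intro h
    apply hc1
    apply Subtype.ext
    apply Subtype.ext
    exact h
  have hu1c : ∀ s ∈ (P : Subgroup G), s * (c : G) = (c : G) * s := by
    intro s hs
    have := (Subgroup.mem_center_iff.1 hc.2) ⟨s, hs⟩
    exact congrArg Subtype.val this
  have hu1sq : (c : G) * (c : G) = 1 := by rw [← pow_two]; exact hU2 _ hu1U
  obtain ⟨u2, hu2U, hu21, hu2a, hall⟩ := klein_elems U hU4 hU2 (c : G) hu1U hu11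
  -- `T = C_P(U)`
  set T : Subgroup G := (P : Subgroup G) ⊓ Subgroup.centralizer (U : Set G) with hTdef
  have key1 : ∀ s ∈ (P : Subgroup G), s * u2 = u2 * s → s ∈ T := by
    intro s hs h
    refine Subgroup.mem_inf.2 ⟨hs, ?_⟩
    rw [Subgroup.mem_centralizer_iff]
    intro u hu
    rcases hall u hu with rfl | rfl | rfl | rfl
    · rw [one_mul, mul_one]
    · exact (hu1c s hs).symm
    · exact h.symm
    · rw [mul_assoc, ← h, ← mul_assoc, ← hu1c s hs, mul_assoc]
  have key2 : ∀ s ∈ (P : Subgroup G), s * u2 * s⁻¹ = u2 ∨ s * u2 * s⁻¹ = (c : G) * u2 := by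
    intro s hs
    rcases hall _ (hUn s hs u2 hu2U) with h | h | h | h
    · exfalso; exact hu21 (conj_eq_one_iff.1 h)
    · exfalso
      rw [mul_inv_eq_iff_eq_mul, ← hu1c s hs] at h
      exact hu2a (mul_left_cancel h)
    · exact Or.inl h
    · exact Or.inr h
  have key3 : ∀ s ∈ (P : Subgroup G), s ∉ T → s * u2 * s⁻¹ = (c : G) * u2 := by
    intro s hs hsT
    rcases key2 s hs with h | h
    · exfalso
      apply hsT
      apply key1 s hs
      rwa [mul_inv_eq_iff_eq_mul] at h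
    · exact h
  have hrelK : ∀ K : Subgroup G, K ≤ (P : Subgroup G) → T.relIndex K ∣ 2 := by
    intro K hK
    rw [Subgroup.relIndex_dvd_two_iff]
    by_cases hKT : ∀ s ∈ K, s ∈ T
    · exact ⟨1, one_mem _, fun b hb => Or.inr (hKT b hb)⟩
    · push Not at hKT
      obtain ⟨a, haK, haT⟩ := hKT
      refine ⟨a, haK, fun b hb => ?_⟩
      by_cases hbT : b ∈ T
      · exact Or.inr hbT
      · left
        apply key1 _ (mul_mem (hK hb) (hK haK))
        have h1 := key3 a (hK haK) haT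
        have h2 := key3 b (hK hb) hbT
        have h3 : b * a * u2 * (b * a)⁻¹ = u2 := by
          calc b * a * u2 * (b * a)⁻¹ = b * (a * u2 * a⁻¹) * b⁻¹ := by group
            _ = b * ((c : G) * u2) * b⁻¹ := by rw [h1]
            _ = (b * (c : G)) * u2 * b⁻¹ := by group
            _ = ((c : G) * b) * u2 * b⁻¹ := by rw [hu1c b (hK hb)]
            _ = (c : G) * (b * u2 * b⁻¹) := by group
            _ = (c : G) * ((c : G) * u2) := by rw [h2]
            _ = ((c : G) * (c : G)) * u2 := by group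
            _ = u2 := by rw [hu1sq, one_mul]
        rwa [mul_inv_eq_iff_eq_mul] at h3
  -- `B = E0 ∩ T` has order at least 4
  set B : Subgroup G := E0 ⊓ T with hBdef
  have hB4 : 4 ≤ Nat.card B := by
    have h1 : B.relIndex E0 ∣ 2 := by
      rw [hBdef, Subgroup.inf_relIndex_left]
      exact hrelK E0 hE0P
    have h2 := Subgroup.relIndex_mul_relIndex (⊥ : Subgroup G) B E0 bot_le inf_le_left
    rw [Subgroup.relIndex_bot_left, Subgroup.relIndex_bot_left, hE08] at h2
    rcases (Nat.dvd_prime Nat.prime_two).1 h1 with h | h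
    · rw [h] at h2; omega
    · rw [h] at h2; omega
  -- case 1 : involutions in `T`
  have case1 : ∀ x' ∈ T, orderOf x' = 2 →
      ∃ E : Subgroup G, E ≤ Subgroup.centralizer ({x'} : Set G) ∧ Nat.card E = 8 ∧
        ∀ e ∈ E, e ^ 2 = 1 := by
    intro x' hx'T hx'
    have hx'U : ∀ u ∈ U, u * x' = x' * u := Subgroup.mem_centralizer_iff.1 hx'T.2
    have hx'sq : x' ^ 2 = 1 := Cfsg.Agent.Lib.Lead.invol_sq hx'
    by_cases hxU : x' ∈ U
    · have hA2 := sup_exp_two B U (fun b hb => hE02 b hb.1) hU2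
        (fun b hb u hu => ((Subgroup.mem_centralizer_iff.1 hb.2.2) u hu).symm)
      have hAx : B ⊔ U ≤ Subgroup.centralizer ({x'} : Set G) := by
        apply sup_le
        · intro b hb
          rw [Subgroup.mem_centralizer_iff]
          intro y hy
          rw [Set.mem_singleton_iff] at hy
          subst hy
          exact (Subgroup.mem_centralizer_iff.1 hb.2.2) y hxU
        · intro u hu
          rw [Subgroup.mem_centralizer_iff]
          intro y hy
          rw [Set.mem_singleton_iff] at hy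
          subst hy
          exact hUc y hxU u hu
      have hne : U ≠ B ⊔ U := by
        intro h
        have hBU : B ≤ U := by rw [h]; exact le_sup_left
        have hBeq : B = U := Subgroup.eq_of_le_of_card_ge hBU (by rw [hU4]; exact hB4)
        have hUE0 : U ≤ E0 := by rw [← hBeq]; exact inf_le_left
        have hE0T : E0 ≤ T := by
          intro e he
          refine Subgroup.mem_inf.2 ⟨hE0P he, ?_⟩
          rw [Subgroup.mem_centralizer_iff]
          intro u hu
          exact hE0c u (hUE0 hu) e he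
        have hBE0 : B = E0 := by rw [hBdef]; exact inf_eq_left.2 hE0T
        rw [hBE0] at hBeq
        rw [hBeq, hU4] at hE08
        omega
      have h8 := card_ge_eight U (B ⊔ U) le_sup_right hU4 hA2 hne
      obtain ⟨E, hEA, hE8⟩ := exists_E8 (B ⊔ U) hA2 h8
      exact ⟨E, hEA.trans hAx, hE8, fun e he => hA2 e (hEA he)⟩
    · have hz2 : ∀ k ∈ Subgroup.zpowers x', k ^ 2 = 1 := by
        rintro _ ⟨m, rfl⟩
        show (x' ^ m) ^ 2 = 1
        rw [← zpow_natCast (x' ^ m) 2, ← zpow_mul, mul_comm, zpow_mul, zpow_natCast, hx'sq,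
          one_zpow]
      have hcomm : ∀ u ∈ U, ∀ k ∈ Subgroup.zpowers x', u * k = k * u := by
        rintro u hu _ ⟨m, rfl⟩
        have hc0 : Commute u x' := hx'U u hu
        exact hc0.zpow_right m
      have hA2 := sup_exp_two U (Subgroup.zpowers x') hU2 hz2 hcomm
      have hAx : U ⊔ Subgroup.zpowers x' ≤ Subgroup.centralizer ({x'} : Set G) := by
        apply sup_le
        · intro u hu
          rw [Subgroup.mem_centralizer_iff]
          intro y hy
          rw [Set.mem_singleton_iff] at hy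
          subst hy
          exact (hx'U u hu).symm
        · rintro _ ⟨m, rfl⟩
          rw [Subgroup.mem_centralizer_iff]
          intro y hy
          rw [Set.mem_singleton_iff] at hy
          subst hy
          exact ((Commute.refl y).zpow_right m)
      have hne : U ≠ U ⊔ Subgroup.zpowers x' := by
        intro h
        apply hxU
        rw [h]
        exact Subgroup.mem_sup_right (Subgroup.mem_zpowers x')
      have h8 := card_ge_eight U (U ⊔ Subgroup.zpowers x') le_sup_left hU4 hA2 hne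
      obtain ⟨E, hEA, hE8⟩ := exists_E8 (U ⊔ Subgroup.zpowers x') hA2 h8
      exact ⟨E, hEA.trans hAx, hE8, fun e he => hA2 e (hEA he)⟩
  -- main
  by_cases hxT : x ∈ T
  · exact case1 x hxT hx
  · have hrel : T.relIndex (P : Subgroup G) = 2 := by
      rcases (Nat.dvd_prime Nat.prime_two).1 (hrelK (P : Subgroup G) le_rfl) with h | h
      · exfalso
        rw [Subgroup.relIndex_eq_one] at h
        exact hxT (h hxP)
      · exact h
    by_cases hex : ∃ g : G, g * x * g⁻¹ ∈ T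
    · obtain ⟨g, hg⟩ := hex
      have hx' : orderOf (g * x * g⁻¹) = 2 := by
        rw [← hx]
        exact orderOf_injective (MulAut.conj g).toMonoidHom (MulAut.conj g).injective x
      obtain ⟨E', h1, h2, h3⟩ := case1 _ hg hx'
      exact conj_back x g E' h1 h2 h3
    · exfalso
      push Not at hex
      obtain ⟨M, hMn, hMi, -⟩ := Cfsg.Agent.Lib.Helper1.thompson_transfer P T inf_le_left hrel x hx hex
      exact hno M hMi

theorem s0221 [Finite G] (hno : ∀ H : Subgroup G, H.index ≠ 2)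
    (hrank : ∃ E : Subgroup G, Nat.card E = 8 ∧ ∀ e ∈ E, e ^ 2 = 1) (x : G)
    (hx : orderOf x = 2) :
    ∃ E : Subgroup G, E ≤ Subgroup.centralizer ({x} : Set G) ∧ Nat.card E = 8 ∧
      ∀ e ∈ E, e ^ 2 = 1 := by
  haveI : Fact (Nat.Prime 2) := ⟨Nat.prime_two⟩
  obtain ⟨E0, hE08, hE02⟩ := hrank
  obtain ⟨P, hP⟩ := (isPGroup_of_sq E0 hE02).exists_le_sylow
  obtain ⟨g, hg⟩ := Cfsg.Agent.Lib.Lead.KleinSylow.conj_mem_sylow P x hx
  have hx' : orderOf (g * x * g⁻¹) = 2 := by
    rw [← hx]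
    exact orderOf_injective (MulAut.conj g).toMonoidHom (MulAut.conj g).injective x
  obtain ⟨E', h1, h2, h3⟩ := core hno P E0 hP hE08 hE02 _ hx' hg
  exact conj_back x g E' h1 h2 h3

end Cfsg.Agent.Lib.Lead.RankThree
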