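/-
Farm SW (S3211), units E and F (lead): `j` is isolated, given the structure lemma and the two counts;
and an isolated involution `j` gives `C(j) ⊔ O(G) = ⊤` (Glauberman Z*, Helper2.ZS.zstar).
-/
import Mathlib
import Cfsg.Agent.Lib.Lead.SWDefs
import Cfsg.Agent.Lib.Helper2.ZS10
import Cfsg.Agent.Lib.Helper1.PLengthOne

set_option autoImplicit false

namespace Cfsg.Agent.Lib.Lead.SWE

open Cfsg.Agent.Lib.Lead.SWD

variable {G : Type*} [Group G]

/-- conjugation by `g⁻¹` carries the square roots of `g j g⁻¹` commuting with `j` onto the square roots of `j`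
commuting with `g⁻¹ j g` -/
theorem card_conj (g j : G) :
    Nat.card {r : G // r ^ 2 = g * j * g⁻¹ ∧ r * j = j * r} =
      Nat.card {r : G // r ^ 2 = j ∧ r * (g⁻¹ * j * g) = (g⁻¹ * j * g) * r} := by
  refine Nat.card_congr ⟨fun r => ⟨g⁻¹ * r.1 * g, ?_, ?_⟩, fun r => ⟨g * r.1 * g⁻¹, ?_, ?_⟩, ?_, ?_⟩
  · have h := r.2.1
    calc (g⁻¹ * r.1 * g) ^ 2 = g⁻¹ * (r.1 ^ 2) * g := by rw [pow_two, pow_two]; group
      _ = g⁻¹ * (g * j * g⁻¹) * g := by rw [h]
      _ = j := by group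
  · have h := r.2.2
    calc g⁻¹ * r.1 * g * (g⁻¹ * j * g) = g⁻¹ * (r.1 * j) * g := by group
      _ = g⁻¹ * (j * r.1) * g := by rw [h]
      _ = g⁻¹ * j * g * (g⁻¹ * r.1 * g) := by group
  · have h := r.2.1
    calc (g * r.1 * g⁻¹) ^ 2 = g * (r.1 ^ 2) * g⁻¹ := by rw [pow_two, pow_two]; group
      _ = g * j * g⁻¹ := by rw [h]
  · have h := r.2.2
    have h' : r.1 * g⁻¹ * j * g = g⁻¹ * j * g * r.1 := by
      calc r.1 * g⁻¹ * j * g = r.1 * (g⁻¹ * j * g) := by group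
        _ = g⁻¹ * j * g * r.1 := h
    calc g * r.1 * g⁻¹ * j = g * (r.1 * g⁻¹ * j * g) * g⁻¹ := by group
      _ = g * (g⁻¹ * j * g * r.1) * g⁻¹ := by rw [h']
      _ = j * (g * r.1 * g⁻¹) := by group
  · intro r; apply Subtype.ext; simp only; group
  · intro r; apply Subtype.ext; simp only; group

/-- conjugate elements of `L` have centralizers in `L` of the same cardinality -/
theorem card_cent_conj (L : Subgroup G) (h a : G) (hh : h ∈ L) :
    Nat.card {x : G // x ∈ L ∧ x * (h * a * h⁻¹) = (h * a * h⁻¹) * x} =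
      Nat.card {x : G // x ∈ L ∧ x * a = a * x} := by
  refine Nat.card_congr ⟨fun x => ⟨h⁻¹ * x.1 * h, ?_, ?_⟩, fun x => ⟨h * x.1 * h⁻¹, ?_, ?_⟩, ?_, ?_⟩
  · exact L.mul_mem (L.mul_mem (L.inv_mem hh) x.2.1) hh
  · have hx := x.2.2
    have h' : x.1 * h * a * h⁻¹ = h * a * h⁻¹ * x.1 := by
      calc x.1 * h * a * h⁻¹ = x.1 * (h * a * h⁻¹) := by group
        _ = h * a * h⁻¹ * x.1 := hx
    calc h⁻¹ * x.1 * h * a = h⁻¹ * (x.1 * h * a * h⁻¹) * h := by group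
      _ = h⁻¹ * (h * a * h⁻¹ * x.1) * h := by rw [h']
      _ = a * (h⁻¹ * x.1 * h) := by group
  · exact L.mul_mem (L.mul_mem hh x.2.1) (L.inv_mem hh)
  · have hx := x.2.2
    calc h * x.1 * h⁻¹ * (h * a * h⁻¹) = h * (x.1 * a) * h⁻¹ := by group
      _ = h * (a * x.1) * h⁻¹ := by rw [hx]
      _ = h * a * h⁻¹ * (h * x.1 * h⁻¹) := by group
  · intro x; apply Subtype.ext; simp only; group
  · intro x; apply Subtype.ext; simp only; group

/-- Unit E: `j` is isolated -/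
theorem isolated_of_bounds [Finite G] {L₁ L₂ : Subgroup G} {j n : G} (S : Setting L₁ L₂ j n)
    (hform : ∀ t : G, t ∈ Subgroup.centralizer ({j} : Set G) → t ^ 2 = 1 → t ≠ 1 → t ≠ j →
      ∃ a ∈ L₁, ∃ b ∈ L₂, t = a * b ∧ a ^ 2 = j ∧ b ^ 2 = j)
    (hlow : ∀ a b : G, a ∈ L₁ → b ∈ L₂ → a ^ 2 = j → b ^ 2 = j →
      4 + 2 * Nat.card {x : G // x ∈ L₁ ∧ x * a = a * x} ≤
        Nat.card {r : G // r ^ 2 = j ∧ r * (a * b) = (a * b) * r})
    (hup : ∀ a b : G, a ∈ L₁ → b ∈ L₂ → a ^ 2 = j → b ^ 2 = j →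
      Nat.card {r : G // r ^ 2 = a * b ∧ r * j = j * r} ≤
        4 + Nat.card {x : G // x ∈ L₁ ∧ x * a = a * x}) :
    Cfsg.IsIsolatedInvolution j := by
  refine ⟨S.hj, fun g hcomm => ?_⟩
  by_contra hne
  have hj2 : j ^ 2 = 1 := by rw [← S.hj]; exact pow_orderOf_eq_one j
  have hj1 : j ≠ 1 := by
    intro h; have := S.hj; rw [h, orderOf_one] at this; omega
  have hjj : j * j = 1 := by rw [← pow_two]; exact hj2
  -- t
  have ht_mem : g * j * g⁻¹ ∈ Subgroup.centralizer ({j} : Set G) := by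
    rw [Subgroup.mem_centralizer_iff]
    intro h hh
    rw [Set.mem_singleton_iff] at hh
    rw [hh]; exact hcomm.eq
  have ht2 : (g * j * g⁻¹) ^ 2 = 1 := by
    calc (g * j * g⁻¹) ^ 2 = g * (j * j) * g⁻¹ := by rw [pow_two]; group
      _ = 1 := by rw [hjj]; group
  have ht1 : g * j * g⁻¹ ≠ 1 := by
    intro h
    apply hj1
    calc j = g⁻¹ * (g * j * g⁻¹) * g := by group
      _ = 1 := by rw [h]; group
  -- s
  have hs_comm : j * (g⁻¹ * j * g) = (g⁻¹ * j * g) * j := by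
    have h := hcomm.eq
    calc j * (g⁻¹ * j * g) = g⁻¹ * ((g * j * g⁻¹) * j) * g := by group
      _ = g⁻¹ * (j * (g * j * g⁻¹)) * g := by rw [h]
      _ = (g⁻¹ * j * g) * j := by group
  have hs_mem : g⁻¹ * j * g ∈ Subgroup.centralizer ({j} : Set G) := by
    rw [Subgroup.mem_centralizer_iff]
    intro h hh
    rw [Set.mem_singleton_iff] at hh
    rw [hh]; exact hs_comm
  have hs2 : (g⁻¹ * j * g) ^ 2 = 1 := by
    calc (g⁻¹ * j * g) ^ 2 = g⁻¹ * (j * j) * g := by rw [pow_two]; group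
      _ = 1 := by rw [hjj]; group
  have hs1 : g⁻¹ * j * g ≠ 1 := by
    intro h
    apply hj1
    calc j = g * (g⁻¹ * j * g) * g⁻¹ := by group
      _ = 1 := by rw [h]; group
  have hsj : g⁻¹ * j * g ≠ j := by
    intro h
    apply hne
    calc g * j * g⁻¹ = g * (g⁻¹ * j * g) * g⁻¹ := by rw [h]
      _ = j := by group
  obtain ⟨a, ha, b, hb, htab, ha2, hb2⟩ := hform _ ht_mem ht2 ht1 hne
  obtain ⟨a', ha', b', hb', hsab, ha'2, hb'2⟩ := hform _ hs_mem hs2 hs1 hsj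
  obtain ⟨h, hh, hconj⟩ := S.q1.conj4 a' ha' a ha ha'2 ha2
  have hcard : Nat.card {x : G // x ∈ L₁ ∧ x * a = a * x} =
      Nat.card {x : G // x ∈ L₁ ∧ x * a' = a' * x} := by
    rw [← hconj]; exact card_cent_conj L₁ h a' hh
  have h1 := hlow a' b' ha' hb' ha'2 hb'2
  have h2 := hup a b ha hb ha2 hb2
  have h3 := card_conj g j
  rw [htab] at h3
  rw [hsab] at h3
  have hpos : 0 < Nat.card {x : G // x ∈ L₁ ∧ x * a = a * x} := by
    haveI : Nonempty {x : G // x ∈ L₁ ∧ x * a = a * x} := ⟨⟨1, L₁.one_mem, by group⟩⟩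
    exact Nat.card_pos
  omega

/-- Unit F: an isolated involution `j` has `C(j) ⊔ O(G) = ⊤` -/
theorem sup_oddCore_of_isolated [Finite G] (j : G) (hiso : Cfsg.IsIsolatedInvolution j) :
    Subgroup.centralizer ({j} : Set G) ⊔ Cfsg.oddCore G = ⊤ := by
  have hj2 : j ^ 2 = 1 := by rw [← hiso.1]; exact pow_orderOf_eq_one j
  have hjj : j * j = 1 := by rw [← pow_two]; exact hj2
  have hjinv : j⁻¹ = j := inv_eq_of_mul_eq_one_right hjj
  rw [eq_top_iff]
  intro g _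
  -- c = j g j⁻¹ g⁻¹ ∈ O(G), inverted by j
  have hc : j * g * j⁻¹ * g⁻¹ ∈ Cfsg.oddCore G := Cfsg.Agent.Lib.Helper2.ZS.zstar j hiso g
  set c := j * g * j⁻¹ * g⁻¹ with hcdef
  have hinv : j * c * j⁻¹ = c⁻¹ := by
    rw [hcdef, hjinv]
    have : (j * g * j * g⁻¹)⁻¹ = g * j * g⁻¹ * j := by
      rw [mul_inv_rev, mul_inv_rev, mul_inv_rev, inv_inv, hjinv]; group
    rw [this]
    calc j * (j * g * j * g⁻¹) * j = (j * j) * g * j * g⁻¹ * j := by group
      _ = g * j * g⁻¹ * j := by rw [hjj]; group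
  -- odd order of c
  have hcop : (Nat.card (Cfsg.oddCore G)).Coprime 2 :=
    Cfsg.Agent.Lib.Helper1.pPrimeCore_card_coprime 2
  have hord : Odd (orderOf c) := by
    have hdvd : orderOf c ∣ Nat.card (Cfsg.oddCore G) := by
      have := Subgroup.orderOf_dvd_natCard (Cfsg.oddCore G) hc
      exact this
    have h2 : (orderOf c).Coprime 2 := Nat.Coprime.coprime_dvd_left hdvd hcop
    exact Nat.Coprime.odd_of_right h2
  obtain ⟨k, hk⟩ := hord
  -- m = c⁻¹ ^ (k+1): m^2 = c⁻¹ ^ (2k+2) = c⁻¹ ^ (orderOf c + 1) = c⁻¹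
  set m := (c⁻¹) ^ (k + 1) with hmdef
  have hm2 : m * m = c⁻¹ := by
    rw [hmdef, ← pow_add]
    have : k + 1 + (k + 1) = orderOf c + 1 := by omega
    rw [this, pow_succ, inv_pow, pow_orderOf_eq_one, inv_one, one_mul]
  have hmmem : m ∈ Cfsg.oddCore G := Subgroup.pow_mem _ (Subgroup.inv_mem _ hc) _
  have hmconj : j * m * j⁻¹ = m⁻¹ := by
    rw [hmdef]
    have h1 : j * (c⁻¹) ^ (k + 1) * j⁻¹ = (j * c⁻¹ * j⁻¹) ^ (k + 1) := by
      rw [conj_pow]
    rw [h1]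
    have h2 : j * c⁻¹ * j⁻¹ = c := by
      have := congrArg (fun x => x⁻¹) hinv
      simp only [mul_inv_rev, inv_inv] at this
      rw [hjinv] at this ⊢
      rw [← mul_assoc] at this
      exact this
    rw [h2, ← inv_pow, inv_inv]
  -- m⁻¹ g centralizes j
  have hcent : m⁻¹ * g ∈ Subgroup.centralizer ({j} : Set G) := by
    rw [Subgroup.mem_centralizer_iff]
    intro h hh
    rw [Set.mem_singleton_iff] at hh
    rw [hh]
    -- j * (m⁻¹ g) = (m⁻¹ g) * j  ⇔ j m⁻¹ j⁻¹ * (j g j⁻¹ g⁻¹) * g * j = m⁻¹ g j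
    have hm' : j * m⁻¹ * j⁻¹ = m := by
      have := congrArg (fun x => x⁻¹) hmconj
      simp only [mul_inv_rev, inv_inv] at this
      rw [← mul_assoc] at this
      exact this
    have hcm : c = m⁻¹ * m⁻¹ := by
      have := congrArg (fun x => x⁻¹) hm2
      simp only [mul_inv_rev, inv_inv] at this
      exact this.symm
    calc j * (m⁻¹ * g) = (j * m⁻¹ * j⁻¹) * (j * g * j⁻¹ * g⁻¹) * g * j := by group
      _ = m * c * g * j := by rw [hm']
      _ = m * (m⁻¹ * m⁻¹) * g * j := by rw [hcm]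
      _ = m⁻¹ * g * j := by group
  have : g = (m⁻¹ * g) * (g⁻¹ * m * g) := by group
  rw [this]
  refine Subgroup.mul_mem _ (Subgroup.mem_sup_left hcent) (Subgroup.mem_sup_right ?_)
  haveI : (Cfsg.oddCore G).Normal := Cfsg.Agent.Lib.Helper1.pPrimeCore_normal 2
  have := (inferInstance : (Cfsg.oddCore G).Normal).conj_mem m hmmem g⁻¹
  simpa using this

end Cfsg.Agent.Lib.Lead.SWE
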