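/-
STUB FILE for the farm SW (S3211, 10u).  NEVER imported by an S-file.  Statements are fixed:
prove each unit VERBATIM in a new file of your own directory (Lib/HelperN/SW*.lean),
check with `example : @mine = @Cfsg.Agent.Lib.Lead.SW.stubname := rfl`.

Mathematics (lead, checked by brute force for q = 3, 5, 7):
H = C(j) = L ∪ nL, L = L₁L₂, n² = j, n L₁ n⁻¹ = L₂.
(A) nL contains no involution; every involution of H other than j is a*b, a ∈ L₁, b ∈ L₂, a² = b² = j.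
(C) for s = a*b as in (A): #{r | r² = j ∧ r commutes with s} ≥ 4 + 2 |C_{L₁}(a)|
    (a, a⁻¹, b, b⁻¹ and the elements x n x⁻¹, x n⁻¹ x⁻¹ with x ∈ L₁, x⁻¹ a x = a' or a' j, a' = n b n⁻¹).
(D) for t = a*b: #{r | r² = t ∧ r commutes with j} ≤ 4 + |C_{L₁}(a)|
    (inside L: u*v with u² = a, v² = b or u² = a⁻¹, v² = b⁻¹, at most 4 by `sqrt4`;
     outside L: r = c * (x⁻¹ n x), c ∈ {a, a⁻¹}, x ∈ L₁ with x a x⁻¹ = (n b n⁻¹)⁻¹; (c,x) ~ (c, j x)).
(E) if t = g j g⁻¹ commutes with j, t ≠ j, put s = g⁻¹ j g: conjugation by g⁻¹ is a bijection from the set in (D)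
    for t onto the set in (C) for s, and |C_{L₁}(a_s)| = |C_{L₁}(a_t)| by `conj4`: 4 + 2c ≤ 4 + c, c ≥ 1: contradiction.
    Hence j is an isolated involution; Glauberman (Helper2.ZS.zstar) gives G = C(j) O(G).
-/
import Mathlib
import Cfsg.Prelude.Def_TwoFusion

set_option autoImplicit false

namespace Cfsg.Agent.Lib.Lead.SW

variable {G : Type*} [Group G]

/-- abstract properties of a subgroup `L ≅ SL₂(q)`, `q` odd, with central involution `j` -/
structure QLike (L : Subgroup G) (j : G) : Prop where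
  j_mem : j ∈ L
  inv_unique : ∀ x ∈ L, x ^ 2 = 1 → x = 1 ∨ x = j
  conj4 : ∀ x ∈ L, ∀ y ∈ L, x ^ 2 = j → y ^ 2 = j → ∃ g ∈ L, g * x * g⁻¹ = y
  sqrt4 : ∀ u ∈ L, ∀ v ∈ L, u ^ 2 = v ^ 2 → (u ^ 2) ^ 2 = j → v = u ∨ v = u * j

/-- the setting of S3211 with the SL₂ isomorphisms replaced by `QLike` -/
structure Setting (L₁ L₂ : Subgroup G) (j n : G) : Prop where
  hj : orderOf j = 2
  hc : ∀ x ∈ L₁, ∀ y ∈ L₂, x * y = y * x
  hm : L₁ ⊓ L₂ = Subgroup.zpowers j
  hle : L₁ ⊔ L₂ ≤ Subgroup.centralizer ({j} : Set G)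
  hi : (L₁ ⊔ L₂).relIndex (Subgroup.centralizer ({j} : Set G)) = 2
  hn : n ∈ Subgroup.centralizer ({j} : Set G)
  hn2 : n ^ 2 = j
  hswap : L₁.map (MulAut.conj n).toMonoidHom = L₂
  q1 : QLike L₁ j

/-! ### Unit SL2 (matrices) -/

/-- SL2-P1 -/
theorem sl2_inv_unique {F : Type*} [Field F] [Fintype F] (hodd : Odd (Fintype.card F))
    (x : Matrix.SpecialLinearGroup (Fin 2) F) (hx : x ^ 2 = 1) : x = 1 ∨ x = -1 := by sorry

/-- SL2-P2: all elements of order 4 are conjugate (basis `v, x v` + every element of a finite field is a sum of two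
squares, to correct the determinant inside the centralizer `{α + β x}`) -/
theorem sl2_conj4 {F : Type*} [Field F] [Fintype F] (hodd : Odd (Fintype.card F))
    (x y : Matrix.SpecialLinearGroup (Fin 2) F) (hx : x ^ 2 = -1) (hy : y ^ 2 = -1) :
    ∃ g : Matrix.SpecialLinearGroup (Fin 2) F, g * x * g⁻¹ = y := by sorry

/-- SL2-P3: Cayley-Hamilton gives u = (u² + 1)/tr u, v = (v² + 1)/tr v (traces nonzero since u² ≠ -1), so v = λ u, λ² = 1 -/
theorem sl2_sqrt4 {F : Type*} [Field F] [Fintype F] (hodd : Odd (Fintype.card F))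
    (u v : Matrix.SpecialLinearGroup (Fin 2) F) (huv : u ^ 2 = v ^ 2) (h4 : (u ^ 2) ^ 2 = -1) :
    v = u ∨ v = -u := by sorry

/-- SL2-T: transport along `e` -/
theorem qlike_of_equiv {F : Type*} [Field F] [Fintype F] (hodd : Odd (Fintype.card F))
    (L : Subgroup G) (e : ↥L ≃* Matrix.SpecialLinearGroup (Fin 2) F) (j : G) (hjL : j ∈ L)
    (hj : orderOf j = 2) : QLike L j := by sorry

/-! ### Unit A (structure of H = C(j)) -/

theorem Setting.n_not_mem {L₁ L₂ : Subgroup G} {j n : G} (S : Setting L₁ L₂ j n) : n ∉ L₁ ⊔ L₂ := by sorry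

theorem Setting.mem_cases {L₁ L₂ : Subgroup G} {j n : G} (S : Setting L₁ L₂ j n) (h : G)
    (hh : h ∈ Subgroup.centralizer ({j} : Set G)) :
    h ∈ L₁ ⊔ L₂ ∨ ∃ l ∈ L₁ ⊔ L₂, h = n * l := by sorry

/-- `QLike` for the second factor (conjugate everything by `n`) -/
theorem Setting.q2 {L₁ L₂ : Subgroup G} {j n : G} (S : Setting L₁ L₂ j n) : QLike L₂ j := by sorry

/-- no involution in the coset `nL` -/
theorem Setting.no_inv_outside {L₁ L₂ : Subgroup G} {j n : G} (S : Setting L₁ L₂ j n) (l : G)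
    (hl : l ∈ L₁ ⊔ L₂) : (n * l) ^ 2 ≠ 1 := by sorry

/-- the involutions of `C(j)` other than `j` -/
theorem Setting.inv_form {L₁ L₂ : Subgroup G} {j n : G} (S : Setting L₁ L₂ j n) (t : G)
    (ht : t ∈ Subgroup.centralizer ({j} : Set G)) (ht2 : t ^ 2 = 1) (ht1 : t ≠ 1) (htj : t ≠ j) :
    ∃ a ∈ L₁, ∃ b ∈ L₂, t = a * b ∧ a ^ 2 = j ∧ b ^ 2 = j := by sorry

/-! ### Units C and D (the two counts) -/

/-- Unit C: lower bound for the square roots of `j` commuting with `a*b` -/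
theorem Setting.lower [Finite G] {L₁ L₂ : Subgroup G} {j n : G} (S : Setting L₁ L₂ j n) (a b : G)
    (ha : a ∈ L₁) (hb : b ∈ L₂) (ha2 : a ^ 2 = j) (hb2 : b ^ 2 = j) :
    4 + 2 * Nat.card {x : G // x ∈ L₁ ∧ x * a = a * x} ≤
      Nat.card {r : G // r ^ 2 = j ∧ r * (a * b) = (a * b) * r} := by sorry

/-- Unit D: upper bound for the square roots of `a*b` commuting with `j` -/
theorem Setting.upper [Finite G] {L₁ L₂ : Subgroup G} {j n : G} (S : Setting L₁ L₂ j n) (a b : G)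
    (ha : a ∈ L₁) (hb : b ∈ L₂) (ha2 : a ^ 2 = j) (hb2 : b ^ 2 = j) :
    Nat.card {r : G // r ^ 2 = a * b ∧ r * j = j * r} ≤
      4 + Nat.card {x : G // x ∈ L₁ ∧ x * a = a * x} := by sorry

/-! ### Unit E (isolated) and F (final) : lead -/

theorem Setting.isolated [Finite G] {L₁ L₂ : Subgroup G} {j n : G} (S : Setting L₁ L₂ j n) :
    Cfsg.IsIsolatedInvolution j := by sorry

end Cfsg.Agent.Lib.Lead.SW
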