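import Mathlib

set_option autoImplicit false

/-! Second maximal subgroups below a maximal subgroup whose coset action contains
the alternating group. -/

namespace Cfsg.Agent.Lib.Lead.SecondMax

open MulAction
open scoped Pointwise

variable {G : Type*} [Group G] [Finite G]

theorem coatom_sub {M H : Subgroup G} (_hHM : H ≤ M) (hmax : IsCoatom (H.subgroupOf M))
    (X : Subgroup G) (hHX : H ≤ X) (hXM : X ≤ M) : X = H ∨ X = M := by
  have hle : H.subgroupOf M ≤ X.subgroupOf M := by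
    intro m hm
    exact Subgroup.mem_subgroupOf.mpr (hHX (Subgroup.mem_subgroupOf.mp hm))
  rcases hmax.le_iff.mp hle with h | h
  · right
    exact le_antisymm hXM (Subgroup.subgroupOf_eq_top.mp h)
  · left
    refine le_antisymm ?_ hHX
    intro x hx
    have h1 : (⟨x, hXM hx⟩ : M) ∈ X.subgroupOf M := Subgroup.mem_subgroupOf.mpr hx
    rw [h] at h1
    exact Subgroup.mem_subgroupOf.mp h1

theorem isCoatom_subgroupOf_of {H K : Subgroup G} (hHK : H ≤ K) (hne : ¬ K ≤ H)
    (h : ∀ L : Subgroup G, H ≤ L → L ≤ K → L ≠ H → K ≤ L) : IsCoatom (H.subgroupOf K) := by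
  refine ⟨fun htop => hne (Subgroup.subgroupOf_eq_top.mp htop), fun X hX => ?_⟩
  have h1 : H ≤ X.map K.subtype := by
    intro x hx
    have : (⟨x, hHK hx⟩ : K) ∈ X := hX.le (Subgroup.mem_subgroupOf.mpr hx)
    exact Subgroup.mem_map.mpr ⟨⟨x, hHK hx⟩, this, rfl⟩
  have h2 : X.map K.subtype ≤ K := by
    intro x hx
    obtain ⟨k, _, rfl⟩ := Subgroup.mem_map.mp hx
    exact k.2
  have h3 : X.map K.subtype ≠ H := by
    intro heq
    apply hX.ne'
    ext k
    rw [Subgroup.mem_subgroupOf, ← heq]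
    constructor
    · intro hk
      exact Subgroup.mem_map.mpr ⟨k, hk, rfl⟩
    · intro hk
      obtain ⟨k', hk', hkk'⟩ := Subgroup.mem_map.mp hk
      have : k' = k := by
        apply Subtype.ext
        exact hkk'
      rwa [← this]
  have h4 := h _ h1 h2 h3
  rw [eq_top_iff]
  intro k _
  obtain ⟨k', hk', hkk'⟩ := Subgroup.mem_map.mp (h4 k.2)
  have : k' = k := by
    apply Subtype.ext
    exact hkk'
  rwa [← this]

theorem exists_three_cycle (n : ℕ)
    (hA : ∀ P : Subgroup (Equiv.Perm (Fin n)), MulAction.IsPreprimitive P (Fin n) →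
      alternatingGroup (Fin n) ≤ P)
    (M : Subgroup G) (hM : IsCoatom M) (hn : M.index = n) (x y z : G ⧸ M)
    (hxy : x ≠ y) (hxz : x ≠ z) (hyz : y ≠ z) :
    ∃ g : G, g • x = y ∧ g • y = z ∧ ∀ w, w ≠ x → w ≠ y → w ≠ z → g • w = w := by
  have hcard : Nat.card (G ⧸ M) = n := by rw [← hn, Subgroup.index_eq_card]
  let e : (G ⧸ M) ≃ Fin n := Finite.equivFinOfCardEq hcard
  let ψ : G →* Equiv.Perm (Fin n) :=
    (e.permCongrHom : Equiv.Perm (G ⧸ M) ≃* Equiv.Perm (Fin n)).toMonoidHom.comp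
      (MulAction.toPermHom G (G ⧸ M))
  have hψ : ∀ (g : G) (i : Fin n), ψ g i = e (g • e.symm i) := by
    intro g i
    show (e.permCongrHom (MulAction.toPermHom G (G ⧸ M) g)) i = _
    rw [Equiv.permCongrHom_coe, Equiv.permCongr_apply]
    rfl
  haveI : Nontrivial (G ⧸ M) := by
    apply Finite.one_lt_card_iff_nontrivial.mp
    rw [← Subgroup.index_eq_card]
    exact Subgroup.one_lt_index_of_ne_top hM.1
  haveI hprimG : IsPreprimitive G (G ⧸ M) := by
    rw [← isCoatom_stabilizer_iff_preprimitive G ((1 : G) : G ⧸ M), stabilizer_quotient]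
    exact hM
  let φ : G → ψ.range := fun g => ⟨ψ g, MonoidHom.mem_range.mpr ⟨g, rfl⟩⟩
  let f : (G ⧸ M) →ₑ[φ] Fin n :=
    { toFun := e
      map_smul' := by
        intro g w
        show e (g • w) = ψ g (e w)
        rw [hψ, Equiv.symm_apply_apply] }
  have hf : Function.Surjective f := e.surjective
  have hprimP : IsPreprimitive ψ.range (Fin n) := IsPreprimitive.of_surjective (f := f) hf
  have hAP := hA ψ.range hprimP
  have hexy : e x ≠ e y := fun h => hxy (e.injective h)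
  have hexz : e x ≠ e z := fun h => hxz (e.injective h)
  have heyz : e y ≠ e z := fun h => hyz (e.injective h)
  have hσ : Equiv.swap (e x) (e z) * Equiv.swap (e x) (e y) ∈ alternatingGroup (Fin n) := by
    rw [Equiv.Perm.mem_alternatingGroup, Equiv.Perm.sign_mul, Equiv.Perm.sign_swap hexz,
      Equiv.Perm.sign_swap hexy]
    simp
  obtain ⟨g, hg⟩ := MonoidHom.mem_range.mp (hAP hσ)
  have hgw : ∀ w, g • w = e.symm ((Equiv.swap (e x) (e z) * Equiv.swap (e x) (e y)) (e w)) := by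
    intro w
    rw [← hg, hψ, Equiv.symm_apply_apply, Equiv.symm_apply_apply]
  refine ⟨g, ?_, ?_, ?_⟩
  · rw [hgw, Equiv.Perm.mul_apply, Equiv.swap_apply_left,
      Equiv.swap_apply_of_ne_of_ne (a := e x) (b := e z) (x := e y) hexy.symm heyz,
      Equiv.symm_apply_apply]
  · rw [hgw, Equiv.Perm.mul_apply, Equiv.swap_apply_right, Equiv.swap_apply_left,
      Equiv.symm_apply_apply]
  · intro w hwx hwy hwz
    have h1 : e w ≠ e x := fun h => hwx (e.injective h)
    have h2 : e w ≠ e y := fun h => hwy (e.injective h)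
    have h3 : e w ≠ e z := fun h => hwz (e.injective h)
    rw [hgw, Equiv.Perm.mul_apply,
      Equiv.swap_apply_of_ne_of_ne (a := e x) (b := e y) (x := e w) h1 h2,
      Equiv.swap_apply_of_ne_of_ne (a := e x) (b := e z) (x := e w) h1 h3,
      Equiv.symm_apply_apply]

theorem main (n : ℕ) (hodd : Odd n)
    (hA : ∀ P : Subgroup (Equiv.Perm (Fin n)), MulAction.IsPreprimitive P (Fin n) →
      alternatingGroup (Fin n) ≤ P)
    (M : Subgroup G) (hM : IsCoatom M) (hn : M.index = n) (H : Subgroup G) (hHM : H ≤ M)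
    (hmax : IsCoatom (H.subgroupOf M)) (K : Subgroup G) (hK : IsCoatom K) (hHK : H ≤ K) :
    IsCoatom (H.subgroupOf K) := by
  by_cases hKM : K = M
  · subst hKM
    exact hmax
  have hMK : ¬ M ≤ K := by
    intro h
    rcases eq_or_lt_of_le h with h1 | h1
    · exact hKM h1.symm
    · exact hK.1 (hM.2 K h1)
  have hKH : K ⊓ M = H := by
    rcases coatom_sub hHM hmax (K ⊓ M) (le_inf hHK hHM) inf_le_right with h | h
    · exact h
    · exact absurd (inf_eq_right.mp h) hMK
  have hnKH : ¬ K ≤ H := by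
    intro h
    have hKM' : K ≤ M := h.trans hHM
    rcases eq_or_lt_of_le hKM' with h1 | h1
    · exact hKM h1
    · exact hM.1 (hK.2 M h1)
  refine isCoatom_subgroupOf_of hHK hnKH ?_
  intro L hHL hLK hLH
  by_contra hKL
  obtain ⟨k, hkK, hkL⟩ := SetLike.not_le_iff_exists.mp hKL
  obtain ⟨l, hlL, hlH⟩ := SetLike.exists_of_lt (lt_of_le_of_ne hHL (Ne.symm hLH))
  obtain ⟨α, hstab⟩ : ∃ α : G ⧸ M, ∀ g : G, g • α = α ↔ g ∈ M :=
    ⟨((1 : G) : G ⧸ M), fun g => by rw [← mem_stabilizer_iff, stabilizer_quotient]⟩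
  have hlM : l ∉ M := by
    intro h
    have h1 : l ∈ K ⊓ M := ⟨hLK hlL, h⟩
    rw [hKH] at h1
    exact hlH h1
  have hblock : ∀ k' ∈ K, ∀ l₁ ∈ L, ∀ l₂ ∈ L, k' • l₁ • α = l₂ • α → k' ∈ L := by
    intro k' hk' l₁ hl₁ l₂ hl₂ h
    have h1 : (l₂⁻¹ * k' * l₁) • α = α := by
      rw [mul_smul, mul_smul, h, inv_smul_smul]
    have h2 : l₂⁻¹ * k' * l₁ ∈ H := by
      rw [← hKH]
      exact ⟨K.mul_mem (K.mul_mem (K.inv_mem (hLK hl₂)) hk') (hLK hl₁), (hstab _).mp h1⟩
    have h3 : k' = l₂ * (l₂⁻¹ * k' * l₁) * l₁⁻¹ := by group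
    rw [h3]
    exact L.mul_mem (L.mul_mem hl₂ (hHL h2)) (L.inv_mem hl₁)
  set B : Set (G ⧸ M) := (fun g : G => g • α) '' (L : Set G) with hB
  set kB : Set (G ⧸ M) := (fun w : G ⧸ M => k • w) '' B with hkB
  have hαB : α ∈ B := ⟨1, L.one_mem, one_smul _ _⟩
  have hbB : l • α ∈ B := ⟨l, hlL, rfl⟩
  have hxkB : k • α ∈ kB := ⟨α, hαB, rfl⟩
  have hykB : k • l • α ∈ kB := ⟨l • α, hbB, rfl⟩
  have hdisj : Disjoint B kB := by
    rw [Set.disjoint_left]
    rintro w ⟨l₂, hl₂, rfl⟩ ⟨w', ⟨l₁, hl₁, rfl⟩, hw'⟩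
    exact hkL (hblock k hkK l₁ hl₁ l₂ hl₂ hw')
  obtain ⟨z, hzB, hzkB⟩ : ∃ z, z ∉ B ∧ z ∉ kB := by
    by_contra hcon
    push Not at hcon
    have huniv : B ∪ kB = Set.univ := by
      ext w
      simp only [Set.mem_union, Set.mem_univ, iff_true]
      by_cases hw : w ∈ B
      · exact Or.inl hw
      · exact Or.inr (hcon w hw)
    have h1 : (B ∪ kB).ncard = B.ncard + kB.ncard :=
      Set.ncard_union_eq hdisj (Set.toFinite _) (Set.toFinite _)
    have h2 : kB.ncard = B.ncard := Set.ncard_image_of_injective B (MulAction.injective k)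
    rw [huniv, Set.ncard_univ, ← Subgroup.index_eq_card, hn, h2] at h1
    obtain ⟨m, hm⟩ := hodd
    omega
  have hαkB : α ∉ kB := fun h => Set.disjoint_left.mp hdisj hαB h
  have hxB : k • α ∉ B := fun h => Set.disjoint_left.mp hdisj h hxkB
  have hyB : k • l • α ∉ B := fun h => Set.disjoint_left.mp hdisj h hykB
  have hab : l • α ≠ α := fun h => hlM ((hstab l).mp h)
  have hxy : k • α ≠ k • l • α := by
    intro h
    exact hab ((MulAction.injective k) h).symm
  have hαx : α ≠ k • α := ne_of_mem_of_not_mem hαB hxB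
  have hαy : α ≠ k • l • α := ne_of_mem_of_not_mem hαB hyB
  have hαz : α ≠ z := ne_of_mem_of_not_mem hαB hzB
  have hxz : k • α ≠ z := ne_of_mem_of_not_mem hxkB hzkB
  have hyz : k • l • α ≠ z := ne_of_mem_of_not_mem hykB hzkB
  have hbz : l • α ≠ z := ne_of_mem_of_not_mem hbB hzB
  have hbx : l • α ≠ k • α := ne_of_mem_of_not_mem hbB hxB
  have hX : M ⊓ stabilizer G B = H := by
    have hHX : H ≤ M ⊓ stabilizer G B := by
      intro h hh
      refine Subgroup.mem_inf.mpr ⟨hHM hh, ?_⟩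
      rw [mem_stabilizer_set_iff_smul_set_subset (Set.toFinite B), Set.smul_set_subset_iff]
      rintro w ⟨l₁, hl₁, rfl⟩
      exact ⟨h * l₁, L.mul_mem (hHL hh) hl₁, mul_smul _ _ _⟩
    rcases coatom_sub hHM hmax _ hHX inf_le_left with h | h
    · exact h
    · exfalso
      obtain ⟨m, hm1, hm2, hm3⟩ :=
        exists_three_cycle n hA M hM hn (l • α) z (k • α) hbz hbx hxz.symm
      have hmM : m ∈ M := (hstab m).mp (hm3 α hab.symm hαz hαx)
      have hmS : m ∈ stabilizer G B := by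
        have h1 : m ∈ M ⊓ stabilizer G B := by
          rw [h]
          exact hmM
        exact h1.2
      rw [mem_stabilizer_set_iff_smul_set_subset (Set.toFinite B), Set.smul_set_subset_iff] at hmS
      have h2 := hmS hbB
      rw [hm1] at h2
      exact hzB h2
  obtain ⟨g, hg1, hg2, hg3⟩ :=
    exists_three_cycle n hA M hM hn (k • α) (k • l • α) z hxy hxz hyz
  have hgH : g ∈ H := by
    rw [← hX]
    refine Subgroup.mem_inf.mpr ⟨(hstab g).mp (hg3 α hαx hαy hαz), ?_⟩
    rw [mem_stabilizer_set_iff_smul_set_subset (Set.toFinite B), Set.smul_set_subset_iff]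
    intro w hw
    rw [hg3 w (ne_of_mem_of_not_mem hw hxB) (ne_of_mem_of_not_mem hw hyB)
      (ne_of_mem_of_not_mem hw hzB)]
    exact hw
  have hk'K : k⁻¹ * g * k ∈ K := K.mul_mem (K.mul_mem (K.inv_mem hkK) (hHK hgH)) hkK
  have hk'α : (k⁻¹ * g * k) • α = l • α := by
    rw [mul_smul, mul_smul, hg1, inv_smul_smul]
  have hk'L : k⁻¹ * g * k ∈ L := by
    apply hblock _ hk'K 1 L.one_mem l hlL
    rw [one_smul]
    exact hk'α
  have h5 : (k⁻¹ * g * k) • l • α = k⁻¹ • z := by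
    rw [mul_smul, mul_smul, hg2]
  have h6 : k⁻¹ • z ∈ B := by
    rw [← h5]
    exact ⟨k⁻¹ * g * k * l, L.mul_mem hk'L hlL, mul_smul _ _ _⟩
  apply hzkB
  exact ⟨k⁻¹ • z, h6, smul_inv_smul k z⟩

end Cfsg.Agent.Lib.Lead.SecondMax
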