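import Mathlib
import Cfsg.Agent.Lib.Lead.Hecke3
import Cfsg.Agent.Lib.Helper6.BlkCover3
import Cfsg.Agent.Lib.Helper3.CharTriple2
import Cfsg.Agent.Lib.Helper7.GC2

/-! All irreducible character degrees below `p` force a normal abelian Sylow `p`-subgroup. -/

set_option autoImplicit false
set_option linter.unusedSectionVars false
set_option linter.unusedVariables false

open scoped ComplexConjugate
open Classical
open Cfsg.Agent.Lib.Helper6

namespace Cfsg.Agent.Lib.Lead.SmallDeg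

universe u

theorem charDegree_const_one {K : Type*} [Group K] : Cfsg.charDegree (fun _ : K => (1 : ℂ)) = 1 := by
  simp [Cfsg.charDegree]

/-- the sum of a character over the group is a natural multiple of the order -/
theorem sum_eq_nat_mul {K : Type*} [Group K] [Fintype K] {φ : K → ℂ} (hφ : Cfsg.IsCharacter K φ) :
    ∃ k : ℕ, ∑ y : K, φ y = (k : ℂ) * (Nat.card K : ℂ) := by
  obtain ⟨k, hk⟩ := IsCharacter.classInner_irr_nat hφ (isIrrCharacter_one (G := K))
  refine ⟨k, ?_⟩
  unfold Cfsg.classInner at hk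
  have hK : (Nat.card K : ℂ) ≠ 0 := by
    have : Nat.card K ≠ 0 := Nat.card_pos.ne'
    exact_mod_cast this
  simp only [map_one, mul_one] at hk
  have : ∑ y : K, φ y = (Nat.card K : ℂ) * ((Nat.card K : ℂ)⁻¹ * ∑ g : K, φ g) := by
    rw [← mul_assoc, mul_inv_cancel₀ hK, one_mul]
  rw [this, hk, mul_comm]

theorem sum_comp_ge {H K : Type*} [Group H] [Fintype H] [Group K] [Fintype K] (f : K →* H)
    {ψ : H → ℂ} (hψ : Cfsg.IsCharacter H ψ) (c : ℕ)
    (hc : Cfsg.classInner ψ (fun _ => (1 : ℂ)) = c) :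
    ∃ k : ℕ, c ≤ k ∧ ∑ y : K, ψ (f y) = (k : ℂ) * (Nat.card K : ℂ) := by
  haveI : Fintype (Cfsg.IrrCharacter H) := Fintype.ofFinite _
  obtain ⟨m, hm, hmi⟩ := IsCharacter.exists_mult hψ
  have hk : ∀ θ : Cfsg.IrrCharacter H, ∃ k : ℕ,
      ∑ y : K, (θ : H → ℂ) (f y) = (k : ℂ) * (Nat.card K : ℂ) :=
    fun θ => sum_eq_nat_mul (IsCharacter.comp f (IsIrrCharacter.isCharacter θ.2))
  choose k hk using hk
  obtain ⟨θ₀, hθ₀⟩ : ∃ θ₀ : Cfsg.IrrCharacter H, (θ₀ : H → ℂ) = fun _ => (1 : ℂ) :=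
    ⟨⟨_, isIrrCharacter_one⟩, rfl⟩
  have hK : (Nat.card K : ℂ) ≠ 0 := by
    have : Nat.card K ≠ 0 := Nat.card_pos.ne'
    exact_mod_cast this
  have hk0 : k θ₀ = 1 := by
    have h1 := hk θ₀
    have h2 : ∑ y : K, (θ₀ : H → ℂ) (f y) = (Nat.card K : ℂ) := by
      rw [hθ₀]
      simp [Nat.card_eq_fintype_card]
    rw [h2] at h1
    have h3 : ((k θ₀ : ℕ) : ℂ) = 1 := by
      have := mul_right_cancel₀ hK
        (show (1 : ℂ) * (Nat.card K : ℂ) = (k θ₀ : ℂ) * (Nat.card K : ℂ) by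
          rw [one_mul]; exact h1)
      exact this.symm
    exact_mod_cast h3
  have hm0 : m θ₀ = c := by
    have h1 := hmi θ₀
    rw [hθ₀, hc] at h1
    exact_mod_cast h1.symm
  refine ⟨∑ θ, m θ * k θ, ?_, ?_⟩
  · calc c = m θ₀ * k θ₀ := by rw [hk0, hm0, mul_one]
      _ ≤ ∑ θ, m θ * k θ :=
        Finset.single_le_sum (f := fun θ => m θ * k θ) (fun i _ => Nat.zero_le _)
          (Finset.mem_univ θ₀)
  · have h1 : ∀ y : K, ψ (f y) = ∑ θ : Cfsg.IrrCharacter H, (m θ : ℂ) * (θ : H → ℂ) (f y) :=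
      fun y => apply_eq_sum_mult hm (f y)
    calc ∑ y : K, ψ (f y)
        = ∑ y : K, ∑ θ : Cfsg.IrrCharacter H, (m θ : ℂ) * (θ : H → ℂ) (f y) :=
          Finset.sum_congr rfl (fun y _ => h1 y)
      _ = ∑ θ : Cfsg.IrrCharacter H, ∑ y : K, (m θ : ℂ) * (θ : H → ℂ) (f y) := Finset.sum_comm
      _ = ∑ θ : Cfsg.IrrCharacter H, (m θ : ℂ) * ((k θ : ℂ) * (Nat.card K : ℂ)) := by
          apply Finset.sum_congr rfl
          intro θ _
          rw [← Finset.mul_sum, hk θ]
      _ = ((∑ θ, m θ * k θ : ℕ) : ℂ) * (Nat.card K : ℂ) := by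
          push_cast
          rw [Finset.sum_mul]
          apply Finset.sum_congr rfl
          intro θ _
          ring

theorem degree_lt_subgroup {G : Type*} [Group G] [Finite G] {p : ℕ}
    (hb : ∀ χ : Cfsg.IrrCharacter G, Cfsg.charDegree (χ : G → ℂ) < p) (H : Subgroup G)
    (θ : Cfsg.IrrCharacter H) : Cfsg.charDegree (θ : H → ℂ) < p := by
  haveI : Fintype G := Fintype.ofFinite G
  haveI : Fintype H := Fintype.ofFinite H
  obtain ⟨χ, hχ⟩ := exists_irr_over H θ
  have h1 := IsCharacter.charDegree_le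
    (IsCharacter.restrict H (IsIrrCharacter.isCharacter χ.2)) θ.2 hχ
  have h2 : Cfsg.charDegree (fun h : H => (χ : G → ℂ) h) = Cfsg.charDegree (χ : G → ℂ) := by
    simp [Cfsg.charDegree]
  rw [h2] at h1
  exact lt_of_le_of_lt h1 (hb χ)

theorem degree_lt_quotient {G : Type*} [Group G] [Finite G] {p : ℕ}
    (hb : ∀ χ : Cfsg.IrrCharacter G, Cfsg.charDegree (χ : G → ℂ) < p) (Z : Subgroup G) [Z.Normal]
    (θ : Cfsg.IrrCharacter (G ⧸ Z)) : Cfsg.charDegree (θ : G ⧸ Z → ℂ) < p := by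
  have h1 := Cfsg.Agent.Lib.Helper3.CharTriple.isIrrCharacter_comp_surjective
    (QuotientGroup.mk' Z) (QuotientGroup.mk'_surjective Z) θ.2
  have h2 : Cfsg.charDegree (fun l : G => (θ : G ⧸ Z → ℂ) (QuotientGroup.mk' Z l)) < p :=
    hb ⟨_, h1⟩
  have h3 : Cfsg.charDegree (fun l : G => (θ : G ⧸ Z → ℂ) (QuotientGroup.mk' Z l))
      = Cfsg.charDegree (θ : G ⧸ Z → ℂ) := by
    simp [Cfsg.charDegree]
  rw [h3] at h2
  exact h2

theorem comm_of_pgroup {Q : Type*} [Group Q] [Finite Q] {p : ℕ} [hp : Fact p.Prime]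
    (hQ : IsPGroup p Q)
    (hb : ∀ χ : Cfsg.IrrCharacter Q, Cfsg.charDegree (χ : Q → ℂ) < p) (a b : Q) :
    a * b = b * a := by
  haveI : Fintype Q := Fintype.ofFinite Q
  by_contra hab
  have hna : commutator Q ≠ ⊥ := by
    intro h
    apply hab
    have h2 := (commutator_eq_bot_iff_center_eq_top Q).mp h
    have h3 : a ∈ Subgroup.center Q := by rw [h2]; exact Subgroup.mem_top a
    exact (Subgroup.mem_center_iff.mp h3 b).symm
  obtain ⟨n, ρ, hρ, hn1⟩ := Cfsg.Agent.Lib.Helper7.GC.exists_nonlinear hna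
  have hχ : Cfsg.IsIrrCharacter Q ρ.character := ⟨n, ρ, hρ, rfl⟩
  have h1 := IsCharacter.apply_one_eq_charDegree (IsIrrCharacter.isCharacter hχ)
  rw [Representation.char_one, Module.finrank_fin_fun] at h1
  have h2 : n = Cfsg.charDegree ρ.character := by exact_mod_cast h1
  have h3 : n < p := by rw [h2]; exact hb ⟨_, hχ⟩
  have h4 : n ∣ Nat.card Q := by rw [h2]; exact IsIrrCharacter.charDegree_dvd_card hχ
  obtain ⟨k, hk⟩ := IsPGroup.iff_card.mp hQ
  rw [hk] at h4
  obtain ⟨j, hj, hnj⟩ := (Nat.dvd_prime_pow hp.out).mp h4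
  rcases Nat.eq_zero_or_pos j with h0 | hpos
  · apply hn1; rw [hnj, h0, pow_zero]
  · have : p ≤ p ^ j := Nat.le_self_pow hpos.ne' p
    omega

/-- the character computation: a TI Sylow subgroup is normal when all degrees are below `p` -/
theorem normal_of_TI {G : Type*} [Group G] [Finite G] {p : ℕ} [hp : Fact p.Prime] (P : Sylow p G)
    (hTI : ∀ Q : Sylow p G, ∀ y : G, y ≠ 1 → y ∈ P → y ∈ Q → Q = P)
    (hb : ∀ χ : Cfsg.IrrCharacter G, Cfsg.charDegree (χ : G → ℂ) < p) :
    (P : Subgroup G).Normal := by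
  by_cases hP1 : (P : Subgroup G) = ⊥
  · rw [hP1]; infer_instance
  haveI : Fintype G := Fintype.ofFinite G
  haveI : Fintype (Sylow p G) := Fintype.ofFinite _
  haveI : Fintype (Cfsg.IrrCharacter G) := Fintype.ofFinite _
  obtain ⟨m, hm1, hm2, hm3, -, hm5⟩ := Hecke.exists_mult_data (G := G) (Ω := Sylow p G) P
  obtain ⟨N, hN⟩ : ∃ N : Subgroup G, N = MulAction.stabilizer G P := ⟨_, rfl⟩
  have hPN : (P : Subgroup G) ≤ N := by
    intro y hy
    rw [hN, MulAction.mem_stabilizer_iff]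
    exact Sylow.smul_eq_iff_mem_normalizer.mpr (Subgroup.le_normalizer hy)
  have hfix : ∀ y : G, y ∈ (P : Subgroup G) → y ≠ 1 → ∀ Q : Sylow p G, y • Q = Q → Q = P := by
    intro y hy hy1 Q hQ
    apply hTI Q y hy1 hy
    have hzp : IsPGroup p (Subgroup.zpowers y) := P.isPGroup'.to_le (Subgroup.zpowers_le.mpr hy)
    have h2 := IsPGroup.inf_normalizer_sylow hzp Q
    have h3 : y ∈ (Subgroup.zpowers y ⊓ (Q : Subgroup G)) := by
      rw [← h2]
      exact Subgroup.mem_inf.mpr
        ⟨Subgroup.mem_zpowers y, Sylow.smul_eq_iff_mem_normalizer.mp hQ⟩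
    exact (Subgroup.mem_inf.mp h3).2
  have hπ1 : ∀ y : G, y ∈ (P : Subgroup G) → y ≠ 1 → permChar G (Sylow p G) y = 1 := by
    intro y hy hy1
    rw [Hecke.permChar_eq_sum, Finset.sum_eq_single P]
    · have : y • P = P := by
        have := hPN hy
        rw [hN, MulAction.mem_stabilizer_iff] at this
        exact this
      rw [if_pos this]
    · intro Q _ hQP
      rw [if_neg]
      intro hQ
      exact hQP (hfix y hy hy1 Q hQ)
    · intro h; exact absurd (Finset.mem_univ _) h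
  have hdata : ∀ θ : Cfsg.IrrCharacter G, ∃ k : ℕ, m θ ≤ k ∧
      ∑ y : (P : Subgroup G), (θ : G → ℂ) y = (k : ℂ) * (Nat.card (P : Subgroup G) : ℂ) := by
    intro θ
    have hcl := IsIrrCharacter.isClassFunction θ.2
    have e1 := Hecke.classInner_permChar_eq (G := G) (Ω := Sylow p G) P hcl
    rw [hm1 θ, ← hN] at e1
    have e3 : Hecke.th N (θ : G → ℂ) (Hecke.fs N) = (m θ : ℂ) := by
      have := congrArg (starRingEnd ℂ) e1
      rw [Complex.conj_conj, Complex.conj_natCast] at this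
      exact this.symm
    have e2 : Cfsg.classInner (fun n : N => (θ : G → ℂ) n) (fun _ => (1 : ℂ)) = (m θ : ℂ) := by
      unfold Cfsg.classInner
      unfold Hecke.th at e3
      rw [← e3]
      congr 1
      rw [Finset.sum_subtype (Hecke.fs N) (fun x => Hecke.mem_fs) (fun g => (θ : G → ℂ) g)]
      apply Finset.sum_congr rfl
      intro n _
      simp
    obtain ⟨k, hk1, hk2⟩ := sum_comp_ge (Subgroup.inclusion hPN)
      (IsCharacter.restrict N (IsIrrCharacter.isCharacter θ.2)) (m θ) e2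
    refine ⟨k, hk1, ?_⟩
    rw [← hk2]
    apply Finset.sum_congr rfl
    intro y _
    show (θ : G → ℂ) (y : G) = (θ : G → ℂ) ((Subgroup.inclusion hPN y : N) : G)
    rw [Subgroup.coe_inclusion]
  choose k hk1 hk2 using hdata
  have hcardpos : 0 < Nat.card (P : Subgroup G) := Nat.card_pos
  -- the sum of the permutation character over `P`, two ways
  have hS1 : ∑ y : (P : Subgroup G), permChar G (Sylow p G) (y : G)
      = ((Nat.card (P : Subgroup G) : ℂ) - 1) + (Fintype.card (Sylow p G) : ℂ) := by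
    have hsplit := Finset.add_sum_erase Finset.univ
      (fun y : (P : Subgroup G) => permChar G (Sylow p G) (y : G))
      (Finset.mem_univ (1 : (P : Subgroup G)))
    have h2 : ∑ y ∈ Finset.univ.erase (1 : (P : Subgroup G)), permChar G (Sylow p G) (y : G)
        = ((Nat.card (P : Subgroup G) : ℂ) - 1) := by
      calc ∑ y ∈ Finset.univ.erase (1 : (P : Subgroup G)), permChar G (Sylow p G) (y : G)
          = ∑ y ∈ Finset.univ.erase (1 : (P : Subgroup G)), (1 : ℂ) :=
            Finset.sum_congr rfl (fun y hy => hπ1 y y.2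
              (fun h => (Finset.mem_erase.mp hy).1 (OneMemClass.coe_eq_one.mp h)))
        _ = ((Nat.card (P : Subgroup G) : ℂ) - 1) := by
            rw [Finset.sum_const, Finset.card_erase_of_mem (Finset.mem_univ _), Finset.card_univ,
              nsmul_eq_mul, mul_one, ← Nat.card_eq_fintype_card, Nat.cast_sub hcardpos,
              Nat.cast_one]
    rw [← hsplit, h2, Subgroup.coe_one, Hecke.permChar_one]
    ring
  have hS2 : ∑ y : (P : Subgroup G), permChar G (Sylow p G) (y : G)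
      = ∑ θ : Cfsg.IrrCharacter G,
          (m θ : ℂ) * (k θ : ℂ) * (Nat.card (P : Subgroup G) : ℂ) := by
    calc ∑ y : (P : Subgroup G), permChar G (Sylow p G) (y : G)
        = ∑ y : (P : Subgroup G), ∑ θ : Cfsg.IrrCharacter G, (m θ : ℂ) * (θ : G → ℂ) y :=
          Finset.sum_congr rfl (fun y _ => hm5 y)
      _ = ∑ θ : Cfsg.IrrCharacter G, ∑ y : (P : Subgroup G), (m θ : ℂ) * (θ : G → ℂ) y :=
          Finset.sum_comm
      _ = ∑ θ : Cfsg.IrrCharacter G,
            (m θ : ℂ) * (k θ : ℂ) * (Nat.card (P : Subgroup G) : ℂ) := by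
          apply Finset.sum_congr rfl
          intro θ _
          rw [← Finset.mul_sum, hk2 θ, mul_assoc]
  have hnat : Nat.card (P : Subgroup G) + ∑ θ, m θ * Cfsg.charDegree (θ : G → ℂ)
      = (∑ θ, m θ * k θ * Nat.card (P : Subgroup G)) + 1 := by
    have h := hS1.symm.trans hS2
    rw [hm3] at h
    have h' : ((Nat.card (P : Subgroup G) + ∑ θ, m θ * Cfsg.charDegree (θ : G → ℂ) : ℕ) : ℂ)
        = (((∑ θ, m θ * k θ * Nat.card (P : Subgroup G)) + 1 : ℕ) : ℂ) := by
      push_cast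
      push_cast at h
      linear_combination h
    exact_mod_cast h'
  obtain ⟨θ₀, hθ₀⟩ : ∃ θ₀ : Cfsg.IrrCharacter G, (θ₀ : G → ℂ) = fun _ => (1 : ℂ) :=
    ⟨⟨_, isIrrCharacter_one⟩, rfl⟩
  have hm0 : m θ₀ = 1 := hm2 θ₀ hθ₀
  have hd0 : Cfsg.charDegree (θ₀ : G → ℂ) = 1 := by rw [hθ₀]; exact charDegree_const_one
  have hcardP : p ≤ Nat.card (P : Subgroup G) := by
    have h1 : Nat.card (P : Subgroup G) ≠ 1 := fun h => hP1 (Subgroup.card_eq_one.mp h)
    rcases IsPGroup.card_eq_or_dvd P.isPGroup' with h | h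
    · exact absurd h h1
    · exact Nat.le_of_dvd hcardpos h
  have hterm : ∀ θ : Cfsg.IrrCharacter G,
      m θ * Cfsg.charDegree (θ : G → ℂ) ≤ m θ * k θ * Nat.card (P : Subgroup G) := by
    intro θ
    rcases Nat.eq_zero_or_pos (m θ) with h0 | hpos
    · rw [h0]; simp
    · have h1 : 1 ≤ k θ := le_trans hpos (hk1 θ)
      have h2 : Cfsg.charDegree (θ : G → ℂ) ≤ k θ * Nat.card (P : Subgroup G) := by
        calc Cfsg.charDegree (θ : G → ℂ) ≤ p := (hb θ).le
          _ ≤ Nat.card (P : Subgroup G) := hcardP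
          _ = 1 * Nat.card (P : Subgroup G) := (one_mul _).symm
          _ ≤ k θ * Nat.card (P : Subgroup G) := Nat.mul_le_mul_right _ h1
      rw [mul_assoc]
      exact Nat.mul_le_mul_left _ h2
  have hstrict : ∀ θ : Cfsg.IrrCharacter G, 0 < m θ →
      m θ * Cfsg.charDegree (θ : G → ℂ) < m θ * k θ * Nat.card (P : Subgroup G) := by
    intro θ hpos
    have h1 : 1 ≤ k θ := le_trans hpos (hk1 θ)
    have h2 : Cfsg.charDegree (θ : G → ℂ) < k θ * Nat.card (P : Subgroup G) := by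
      calc Cfsg.charDegree (θ : G → ℂ) < p := hb θ
        _ ≤ Nat.card (P : Subgroup G) := hcardP
        _ = 1 * Nat.card (P : Subgroup G) := (one_mul _).symm
        _ ≤ k θ * Nat.card (P : Subgroup G) := Nat.mul_le_mul_right _ h1
    rw [mul_assoc]
    exact mul_lt_mul_of_pos_left h2 hpos
  obtain ⟨A, hA'⟩ : ∃ A : ℕ, A = ∑ θ ∈ Finset.univ.erase θ₀,
      m θ * Cfsg.charDegree (θ : G → ℂ) := ⟨_, rfl⟩
  obtain ⟨B, hB'⟩ : ∃ B : ℕ, B = ∑ θ ∈ Finset.univ.erase θ₀,
      m θ * k θ * Nat.card (P : Subgroup G) := ⟨_, rfl⟩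
  have hA : ∑ θ, m θ * Cfsg.charDegree (θ : G → ℂ) = 1 + A := by
    have := Finset.add_sum_erase Finset.univ
      (fun θ : Cfsg.IrrCharacter G => m θ * Cfsg.charDegree (θ : G → ℂ)) (Finset.mem_univ θ₀)
    rw [← this, hm0, hd0, hA']
  obtain ⟨X, hX⟩ : ∃ X : ℕ, X = k θ₀ * Nat.card (P : Subgroup G) := ⟨_, rfl⟩
  have hB : ∑ θ, m θ * k θ * Nat.card (P : Subgroup G) = X + B := by
    have := Finset.add_sum_erase Finset.univ
      (fun θ : Cfsg.IrrCharacter G => m θ * k θ * Nat.card (P : Subgroup G)) (Finset.mem_univ θ₀)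
    rw [← this, hm0, one_mul, hB', hX]
  have hXge : Nat.card (P : Subgroup G) ≤ X := by
    have h1 : 1 ≤ k θ₀ := by have := hk1 θ₀; rw [hm0] at this; exact this
    rw [hX]
    exact Nat.le_mul_of_pos_left _ h1
  rw [hA, hB] at hnat
  have hAB : B ≤ A := by omega
  have hzero : ∀ θ : Cfsg.IrrCharacter G, θ ≠ θ₀ → m θ = 0 := by
    intro θ₁ hne
    by_contra hm
    have hpos : 0 < m θ₁ := Nat.pos_of_ne_zero hm
    have hlt : A < B := by
      rw [hA', hB']
      exact Finset.sum_lt_sum (fun θ _ => hterm θ)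
        ⟨θ₁, Finset.mem_erase.mpr ⟨hne, Finset.mem_univ _⟩, hstrict θ₁ hpos⟩
    omega
  have hAz : A = 0 := by
    rw [hA']
    exact Finset.sum_eq_zero (fun θ hθ => by rw [hzero θ (Finset.mem_erase.mp hθ).1, zero_mul])
  have hcard : Fintype.card (Sylow p G) = 1 := by
    rw [hm3, hA, hAz]
  haveI : Subsingleton (Sylow p G) := Fintype.card_le_one_iff_subsingleton.mp hcard.le
  exact Sylow.normal_of_subsingleton P

theorem main_aux (p : ℕ) [hp : Fact p.Prime] :
    ∀ (n : ℕ) (G : Type u) [Group G] [Finite G], Nat.card G = n →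
    (∀ χ : Cfsg.IrrCharacter G, Cfsg.charDegree (χ : G → ℂ) < p) →
    ∃ P : Subgroup G, P.Normal ∧ IsPGroup p P ∧ ¬ p ∣ P.index := by
  intro n
  induction n using Nat.strong_induction_on with
  | _ n ih =>
    intro G _ _ hn hb
    by_cases hcase : ∃ y : G, y ≠ 1 ∧ y ∈ Subgroup.center G ∧ IsPGroup p (Subgroup.zpowers y)
    · obtain ⟨y, hy1, hyc, hyp⟩ := hcase
      haveI hZn : (Subgroup.zpowers y).Normal :=
        Cfsg.Agent.Lib.Helper7.GC.normal_of_le_center_gc (Subgroup.zpowers_le.mpr hyc)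
      have hcard : Nat.card (G ⧸ Subgroup.zpowers y) < n := by
        have h1 := Subgroup.card_eq_card_quotient_mul_card_subgroup (Subgroup.zpowers y)
        have h2 : 1 < Nat.card (Subgroup.zpowers y) :=
          (Subgroup.one_lt_card_iff_ne_bot _).mpr (Subgroup.zpowers_ne_bot.mpr hy1)
        have h3 : 0 < Nat.card (G ⧸ Subgroup.zpowers y) := Nat.card_pos
        rw [← hn, h1]
        exact lt_mul_of_one_lt_right h3 h2
      obtain ⟨Q, hQn, hQp, hQi⟩ := ih _ hcard (G ⧸ Subgroup.zpowers y) rfl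
        (degree_lt_quotient hb (Subgroup.zpowers y))
      refine ⟨Q.comap (QuotientGroup.mk' (Subgroup.zpowers y)), hQn.comap _, ?_, ?_⟩
      · exact hQp.comap_of_ker_isPGroup _ (by rw [QuotientGroup.ker_mk']; exact hyp)
      · rw [Subgroup.index_comap_of_surjective Q (QuotientGroup.mk'_surjective _)]
        exact hQi
    · obtain ⟨P⟩ := (inferInstance : Nonempty (Sylow p G))
      refine ⟨P, ?_, P.isPGroup', P.not_dvd_index⟩
      apply normal_of_TI P _ hb
      intro Q y hy1 hyP hyQ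
      have hab : ∀ R : Sylow p G, ∀ a ∈ (R : Subgroup G), ∀ b ∈ (R : Subgroup G),
          a * b = b * a := by
        intro R a ha b hb'
        have := comm_of_pgroup (p := p) R.isPGroup' (degree_lt_subgroup hb (R : Subgroup G))
          ⟨a, ha⟩ ⟨b, hb'⟩
        exact congrArg Subtype.val this
      have hyz : IsPGroup p (Subgroup.zpowers y) :=
        P.isPGroup'.to_le (Subgroup.zpowers_le.mpr hyP)
      have hync : y ∉ Subgroup.center G := fun h => hcase ⟨y, hy1, h, hyz⟩
      obtain ⟨C, hC⟩ : ∃ C : Subgroup G, C = Subgroup.centralizer {y} := ⟨_, rfl⟩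
      have hCtop : C ≠ ⊤ := by
        intro h
        apply hync
        rw [hC] at h
        have := Subgroup.centralizer_eq_top_iff_subset.mp h
        exact this (Set.mem_singleton y)
      have hPC : (P : Subgroup G) ≤ C := by
        intro a ha
        rw [hC, Subgroup.mem_centralizer_iff]
        intro h hh
        rw [Set.mem_singleton_iff.mp hh]
        exact hab P y hyP a ha
      have hQC : (Q : Subgroup G) ≤ C := by
        intro a ha
        rw [hC, Subgroup.mem_centralizer_iff]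
        intro h hh
        rw [Set.mem_singleton_iff.mp hh]
        exact hab Q y hyQ a ha
      have hcardC : Nat.card C < n := by
        rw [← hn]
        exact lt_of_le_of_ne (Subgroup.card_le_card_group C)
          (fun h => hCtop ((Subgroup.card_eq_iff_eq_top C).mp h))
      obtain ⟨R, hRn, hRp, hRi⟩ := ih _ hcardC C rfl (degree_lt_subgroup hb C)
      obtain ⟨R', hR'⟩ : ∃ R' : Sylow p C, (R' : Subgroup C) = R := ⟨hRp.toSylow hRi, rfl⟩
      haveI hR'n : (R' : Subgroup C).Normal := by rw [hR']; exact hRn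
      have key : ∀ S : Sylow p G, (S : Subgroup G) ≤ C →
          (S : Subgroup G) = R.map C.subtype := by
        intro S hSC
        have hsub : IsPGroup p ((S : Subgroup G).subgroupOf C) :=
          S.isPGroup'.comap_of_injective C.subtype (Subgroup.subtype_injective C)
        obtain ⟨T, hT⟩ := hsub.exists_le_sylow
        have hTR : T = R' := by
          obtain ⟨g, hg⟩ := MulAction.exists_smul_eq C R' T
          rw [← hg]
          exact Sylow.smul_eq_of_normal
        have h1 : (S : Subgroup G) ≤ R.map C.subtype := by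
          intro a ha
          have h2 : (⟨a, hSC ha⟩ : C) ∈ (T : Subgroup C) :=
            hT (Subgroup.mem_subgroupOf.mpr ha)
          rw [hTR, hR'] at h2
          exact Subgroup.mem_map.mpr ⟨⟨a, hSC ha⟩, h2, rfl⟩
        exact (S.is_maximal' (hRp.map C.subtype) h1).symm
      have := (key Q hQC).trans (key P hPC).symm
      exact Sylow.ext this

theorem main {G : Type u} [Group G] [Finite G] (p : ℕ) (hp : p.Prime)
    (hb : ∀ χ : Cfsg.IrrCharacter G, Cfsg.charDegree (χ : G → ℂ) < p) :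
    ∃ P : Subgroup G, P.Normal ∧ (∀ x ∈ P, ∀ y ∈ P, x * y = y * x) ∧ IsPGroup p P ∧
      ¬ p ∣ P.index := by
  haveI : Fact p.Prime := ⟨hp⟩
  obtain ⟨P, hPn, hPp, hPi⟩ := main_aux p _ G rfl hb
  refine ⟨P, hPn, ?_, hPp, hPi⟩
  intro x hx y hy
  have := comm_of_pgroup (p := p) hPp (degree_lt_subgroup hb P) ⟨x, hx⟩ ⟨y, hy⟩
  exact congrArg Subtype.val this

end Cfsg.Agent.Lib.Lead.SmallDeg
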