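import Mathlib
import Cfsg.Agent.Lib.Lead.JordanCycle

set_option autoImplicit false

namespace Cfsg.Agent.Lib.Lead.SmallSupport

open Equiv Equiv.Perm MulAction

variable {α : Type*} [Fintype α] [DecidableEq α]

omit [Fintype α] [DecidableEq α] in
theorem ainv (f : Perm α) (x : α) : f (f⁻¹ x) = x := f.apply_symm_apply x

omit [Fintype α] [DecidableEq α] in
theorem inva (f : Perm α) (x : α) : f⁻¹ (f x) = x := f.symm_apply_apply x

/-- support of the commutator-like element -/
theorem supp_sub (g h : Perm α) :
    (g⁻¹ * h * g * h⁻¹).support ⊆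
      (g.support ∪ g.support.image h) \
        (Finset.univ.filter fun x => h x = x ∧ h (g x) = g x) := by
  intro x hx
  rw [Finset.mem_sdiff, Finset.mem_union, Finset.mem_image, Finset.mem_filter]
  rw [Perm.mem_support] at hx
  constructor
  · by_contra hcon
    push Not at hcon
    obtain ⟨h1, h2⟩ := hcon
    apply hx
    have hx1 : g x = x := by rwa [Perm.mem_support, not_not] at h1
    have hx2 : g (h⁻¹ x) = h⁻¹ x := by
      by_contra h3
      exact h2 (h⁻¹ x) (Perm.mem_support.mpr h3) (by simp)
    simp only [Perm.mul_apply]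
    rw [hx2, ainv, Perm.inv_eq_iff_eq, hx1]
  · rintro ⟨-, h1, h2⟩
    apply hx
    simp only [Perm.mul_apply]
    have : h⁻¹ x = x := by rw [Perm.inv_eq_iff_eq]; exact h1.symm
    rw [this, h2, inva]

theorem card_supp_le (g h : Perm α) (E : Finset α)
    (hE : ∀ x ∈ E, x ∈ g.support ∧ h x = x ∧ h (g x) = g x) :
    (g⁻¹ * h * g * h⁻¹).support.card + (g.support ∩ g.support.image h).card + E.card ≤
      2 * g.support.card := by
  have h1 : (g⁻¹ * h * g * h⁻¹).support ⊆ (g.support ∪ g.support.image h) \ E := by
    intro x hx
    have := supp_sub g h hx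
    rw [Finset.mem_sdiff] at this ⊢
    refine ⟨this.1, fun hxE => this.2 ?_⟩
    rw [Finset.mem_filter]
    exact ⟨Finset.mem_univ _, (hE x hxE).2⟩
  have h2 := Finset.card_le_card h1
  have hEsub : E ⊆ g.support ∪ g.support.image h :=
    fun x hx => Finset.mem_union_left _ (hE x hx).1
  rw [Finset.card_sdiff_of_subset hEsub] at h2
  have h3 := Finset.card_union_add_card_inter g.support (g.support.image h)
  have h4 : (g.support.image h).card = g.support.card :=
    Finset.card_image_of_injective _ h.injective
  have h5 := Finset.card_le_card hEsub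
  omega

theorem exists_seg (g : Perm α) (f : ℕ) (hf : f ≤ g.support.card) :
    ∃ F ⊆ g.support, F.card = f ∧ (F.filter fun x => g x ∉ F).card ≤ 1 := by
  induction f with
  | zero => exact ⟨∅, Finset.empty_subset _, rfl, by simp⟩
  | succ f ih =>
    obtain ⟨F, hFS, hFc, hFe⟩ := ih (by omega)
    by_cases hex : (F.filter fun x => g x ∉ F) = ∅
    · -- no exits: add any point
      have : ∃ y ∈ g.support, y ∉ F := by
        by_contra hcon
        push Not at hcon
        have := Finset.card_le_card hcon
        omega
      obtain ⟨y, hyS, hyF⟩ := this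
      refine ⟨insert y F, ?_, ?_, ?_⟩
      · intro x hx
        rcases Finset.mem_insert.mp hx with rfl | hx
        · exact hyS
        · exact hFS hx
      · rw [Finset.card_insert_of_notMem hyF, hFc]
      · have : ((insert y F).filter fun x => g x ∉ insert y F) ⊆ {y} := by
          intro x hx
          rw [Finset.mem_filter] at hx
          rw [Finset.mem_singleton]
          rcases Finset.mem_insert.mp hx.1 with rfl | hxF
          · rfl
          · exfalso
            have : x ∈ F.filter fun x => g x ∉ F := by
              rw [Finset.mem_filter]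
              exact ⟨hxF, fun h => hx.2 (Finset.mem_insert_of_mem h)⟩
            rw [hex] at this
            exact Finset.notMem_empty _ this
        exact (Finset.card_le_card this).trans (by simp)
    · obtain ⟨x₀, hx₀⟩ := Finset.nonempty_iff_ne_empty.mpr hex
      have hx₀' := Finset.mem_filter.mp hx₀
      have huniq : ∀ x ∈ F.filter (fun x => g x ∉ F), x = x₀ := by
        intro x hx
        exact Finset.card_le_one.mp hFe x hx x₀ hx₀
      refine ⟨insert (g x₀) F, ?_, ?_, ?_⟩
      · intro x hx
        rcases Finset.mem_insert.mp hx with rfl | hx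
        · exact Perm.apply_mem_support.mpr (hFS hx₀'.1)
        · exact hFS hx
      · rw [Finset.card_insert_of_notMem hx₀'.2, hFc]
      · have : ((insert (g x₀) F).filter fun x => g x ∉ insert (g x₀) F) ⊆ {g x₀} := by
          intro x hx
          rw [Finset.mem_filter] at hx
          rw [Finset.mem_singleton]
          rcases Finset.mem_insert.mp hx.1 with rfl | hxF
          · rfl
          · exfalso
            have h1 : x ∈ F.filter fun x => g x ∉ F := by
              rw [Finset.mem_filter]
              exact ⟨hxF, fun h => hx.2 (Finset.mem_insert_of_mem h)⟩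
            have := huniq x h1
            rw [this] at hx
            exact hx.2 (Finset.mem_insert_self _ _)
        exact (Finset.card_le_card this).trans (by simp)

theorem exists_entry (g : Perm α) (F : Finset α) (x : α) (hx : x ∈ F) (hgx : g x ∉ F) :
    ∃ y, y ∉ F ∧ g y ∈ F := by
  by_contra hcon
  push Not at hcon
  have hsub : F.image (g⁻¹ : Perm α) ⊆ F := by
    intro y hy
    rw [Finset.mem_image] at hy
    obtain ⟨x', hx', rfl⟩ := hy
    by_contra h
    exact hcon _ h (by rw [ainv]; exact hx')
  have hcard : (F.image (g⁻¹ : Perm α)).card = F.card :=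
    Finset.card_image_of_injective _ (g⁻¹ : Perm α).injective
  have heq := Finset.eq_of_subset_of_card_le hsub (by rw [hcard])
  rw [← heq, Finset.mem_image] at hx
  obtain ⟨x', hx', hxx⟩ := hx
  apply hgx
  rw [← hxx, ainv]
  exact hx'

open Cfsg.Agent.Lib.Lead.JordanCycle in
/-- core: produce an element with controlled support -/
theorem core (G : Subgroup (Perm α)) {k : ℕ} (hkn : k ≤ Fintype.card α)
    (hG : IsMultiplyPretransitive G α k) (g : Perm α) (hg : g ∈ G)
    (F : Finset α) (hFS : F ⊆ g.support) (hFk : F.card + 1 ≤ k)
    (y z : α) (hyS : y ∈ g.support) (hyF : y ∉ F) (hzF : z ∉ F) (hyz : y ≠ z)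
    (hz : z ∉ g.support ∨ (z ∈ g.support ∧ g y ∈ F)) :
    ∃ c ∈ G, c ≠ 1 ∧ c.support.card + (F.card + (if z ∈ g.support then 1 else 0)) +
      (F.filter fun x => g x ∈ F).card ≤ 2 * g.support.card := by
  have hcardΓ : (insert y F).card ≤ k := by
    rw [Finset.card_insert_of_notMem hyF]; exact hFk
  obtain ⟨h, hhG, hh⟩ := exists_on_finset G hG hkn (insert y F) hcardΓ (swap y z)
  have hhF : ∀ x ∈ F, h x = x := by
    intro x hx
    rw [hh x (Finset.mem_insert_of_mem hx)]
    apply swap_apply_of_ne_of_ne
    · rintro rfl; exact hyF hx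
    · rintro rfl; exact hzF hx
  have hhy : h y = z := by
    rw [hh y (Finset.mem_insert_self _ _), swap_apply_left]
  have hhiz : h⁻¹ z = y := by rw [Perm.inv_eq_iff_eq, hhy]
  refine ⟨g⁻¹ * h * g * h⁻¹, ?_, ?_, ?_⟩
  · exact G.mul_mem (G.mul_mem (G.mul_mem (G.inv_mem hg) hhG) hg) (G.inv_mem hhG)
  · intro hc1
    have hcz : (g⁻¹ * h * g * h⁻¹) z = z := by rw [hc1]; rfl
    simp only [Perm.mul_apply] at hcz
    rw [hhiz, Perm.inv_eq_iff_eq] at hcz
    rcases hz with hzS | ⟨hzS, hgy⟩
    · have hgz : g z = z := by rwa [Perm.mem_support, not_not] at hzS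
      rw [hgz] at hcz
      have : g y = h⁻¹ z := by rw [Perm.eq_inv_iff_eq]; exact hcz
      rw [hhiz] at this
      exact (Perm.mem_support.mp hyS) this
    · rw [hhF _ hgy] at hcz
      exact hyz (g.injective hcz)
  · have hE : ∀ x ∈ (F.filter fun x => g x ∈ F),
        x ∈ g.support ∧ h x = x ∧ h (g x) = g x := by
      intro x hx
      rw [Finset.mem_filter] at hx
      exact ⟨hFS hx.1, hhF x hx.1, hhF _ hx.2⟩
    have h1 := card_supp_le g h _ hE
    have h2 : F.card + (if z ∈ g.support then 1 else 0) ≤
        (g.support ∩ g.support.image h).card := by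
      have hFsub : F ⊆ g.support ∩ g.support.image h := by
        intro x hx
        rw [Finset.mem_inter, Finset.mem_image]
        exact ⟨hFS hx, x, hFS hx, hhF x hx⟩
      split_ifs with hzS
      · have : insert z F ⊆ g.support ∩ g.support.image h := by
          intro x hx
          rcases Finset.mem_insert.mp hx with rfl | hx
          · rw [Finset.mem_inter, Finset.mem_image]
            exact ⟨hzS, y, hyS, hhy⟩
          · exact hFsub hx
        have := Finset.card_le_card this
        rwa [Finset.card_insert_of_notMem hzF] at this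
      · simpa using Finset.card_le_card hFsub
    omega

theorem filter_split (g : Perm α) (F : Finset α) :
    (F.filter fun x => g x ∈ F).card + (F.filter fun x => g x ∉ F).card = F.card :=
  Finset.card_filter_add_card_filter_not (s := F) (fun x => g x ∈ F)

open Cfsg.Agent.Lib.Lead.JordanCycle in
theorem descent (G : Subgroup (Perm α)) {k : ℕ} (hk : 3 ≤ k) (hkn : k ≤ Fintype.card α)
    (hG : IsMultiplyPretransitive G α k) (g : Perm α) (hg : g ∈ G)
    (hm4 : 4 ≤ g.support.card) (hm : g.support.card + 3 ≤ 2 * k) :
    ∃ c ∈ G, c ≠ 1 ∧ c.support.card < g.support.card := by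
  by_cases hfull : g.support = Finset.univ
  · -- case A
    have hn : 4 ≤ Fintype.card α := by
      rw [← Finset.card_univ, ← hfull]; exact hm4
    obtain ⟨a, b, c, hab, hac, hbc⟩ : ∃ a b c : α, a ≠ b ∧ a ≠ c ∧ b ≠ c := by
      have : 2 < Fintype.card α := by omega
      exact Fintype.two_lt_card_iff.mp this
    obtain ⟨h, hhG, hh⟩ := exists_on_finset G hG hkn {a, b} (by
      rw [Finset.card_pair hab]; omega) (swap b c)
    have hha : h a = a := by
      rw [hh a (by simp)]
      exact swap_apply_of_ne_of_ne hab hac
    have hhb : h b = c := by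
      rw [hh b (by simp), swap_apply_left]
    refine ⟨h, hhG, ?_, ?_⟩
    · intro h1
      rw [h1] at hhb
      exact hbc hhb
    · rw [hfull]
      apply Finset.card_lt_card
      rw [Finset.ssubset_univ_iff]
      intro hu
      have : a ∈ h.support := by rw [hu]; exact Finset.mem_univ a
      exact (Perm.mem_support.mp this) hha
  · -- case B
    obtain ⟨w, hw⟩ : ∃ w, w ∉ g.support := by
      by_contra hcon
      push Not at hcon
      exact hfull (Finset.eq_univ_iff_forall.mpr hcon)
    by_cases hmk : g.support.card ≤ k
    · -- B1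
      obtain ⟨y, hyS⟩ : g.support.Nonempty := by
        rw [← Finset.card_pos]; omega
      have hFc : (g.support.erase y).card = g.support.card - 1 := Finset.card_erase_of_mem hyS
      have hexits : ((g.support.erase y).filter fun x => g x ∉ g.support.erase y) ⊆
          {(g⁻¹ : Perm α) y} := by
        intro x hx
        rw [Finset.mem_filter] at hx
        rw [Finset.mem_singleton]
        have hxS : x ∈ g.support := Finset.mem_of_mem_erase hx.1
        have hgxS : g x ∈ g.support := Perm.apply_mem_support.mpr hxS
        have : g x = y := by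
          by_contra hne
          exact hx.2 (Finset.mem_erase.mpr ⟨hne, hgxS⟩)
        rw [← this, inva]
      have hexc := Finset.card_le_card hexits
      rw [Finset.card_singleton] at hexc
      have hsplit := filter_split g (g.support.erase y)
      obtain ⟨c, hcG, hc1, hcb⟩ := core G hkn hG g hg (g.support.erase y)
        (Finset.erase_subset _ _) (by omega) y w hyS (Finset.notMem_erase _ _)
        (fun h => hw (Finset.mem_of_mem_erase h)) (by rintro rfl; exact hw hyS) (Or.inl hw)
      refine ⟨c, hcG, hc1, ?_⟩
      rw [if_neg hw] at hcb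
      omega
    · -- B2
      push Not at hmk
      obtain ⟨F, hFS, hFc, hFe⟩ := exists_seg g (k - 1) (by omega)
      have hsplit := filter_split g F
      by_cases hex : (F.filter fun x => g x ∉ F) = ∅
      · -- B2b
        have hex0 : (F.filter fun x => g x ∉ F).card = 0 := by rw [hex]; rfl
        obtain ⟨y, hyS, hyF⟩ : ∃ y ∈ g.support, y ∉ F := by
          by_contra hcon
          push Not at hcon
          have := Finset.card_le_card hcon
          omega
        obtain ⟨c, hcG, hc1, hcb⟩ := core G hkn hG g hg F hFS (by omega) y w hyS hyF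
          (fun h => hw (hFS h)) (by rintro rfl; exact hw hyS) (Or.inl hw)
        refine ⟨c, hcG, hc1, ?_⟩
        rw [if_neg hw] at hcb
        omega
      · -- B2a
        obtain ⟨x₀, hx₀⟩ := Finset.nonempty_iff_ne_empty.mpr hex
        have hx₀' := Finset.mem_filter.mp hx₀
        obtain ⟨y, hyF, hgyF⟩ := exists_entry g F x₀ hx₀'.1 hx₀'.2
        have hyS : y ∈ g.support := by
          rw [Perm.mem_support]
          intro h
          rw [h] at hgyF
          exact hyF hgyF
        obtain ⟨z, hzS, hzF⟩ : ∃ z ∈ g.support, z ∉ insert y F := by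
          by_contra hcon
          push Not at hcon
          have := Finset.card_le_card hcon
          rw [Finset.card_insert_of_notMem hyF] at this
          omega
        have hzy : y ≠ z := by
          rintro rfl; exact hzF (Finset.mem_insert_self _ _)
        have hzF' : z ∉ F := fun h => hzF (Finset.mem_insert_of_mem h)
        obtain ⟨c, hcG, hc1, hcb⟩ := core G hkn hG g hg F hFS (by omega) y z hyS hyF
          hzF' hzy (Or.inr ⟨hzS, hgyF⟩)
        refine ⟨c, hcG, hc1, ?_⟩
        rw [if_pos hzS] at hcb
        omega

theorem small_support (G : Subgroup (Perm α)) {k : ℕ} (hk : 3 ≤ k) (hkn : k ≤ Fintype.card α)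
    (hG : IsMultiplyPretransitive G α k) :
    ∀ (m : ℕ) (g : Perm α), g ∈ G → g ≠ 1 → g.support.card = m → m + 3 ≤ 2 * k →
      ∃ h ∈ G, h ≠ 1 ∧ h.support.card ≤ 3 := by
  intro m
  induction m using Nat.strong_induction_on with
  | _ m ih =>
    intro g hg hg1 hgm hm
    by_cases h3 : m ≤ 3
    · exact ⟨g, hg, hg1, by omega⟩
    · obtain ⟨c, hcG, hc1, hcl⟩ := descent G hk hkn hG g hg (by omega) (by omega)
      exact ih c.support.card (by omega) c hcG hc1 rfl (by omega)

/-- a primitive group with a nonidentity element of support at most three contains `A_n` -/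
theorem alt_le_of_small (G : Subgroup (Perm α)) (hG : IsPreprimitive G α) (h : Perm α)
    (hh : h ∈ G) (h1 : h ≠ 1) (h3 : h.support.card ≤ 3) : alternatingGroup α ≤ G := by
  have h0 : h.support.card ≠ 0 := by
    rw [Ne, Finset.card_eq_zero, Perm.support_eq_empty_iff]; exact h1
  have h1' : h.support.card ≠ 1 := Perm.card_support_ne_one h
  have : h.support.card = 2 ∨ h.support.card = 3 := by omega
  rcases this with h2 | h3
  · have hswap : h.IsSwap := Perm.card_support_eq_two.mp h2
    have := Equiv.Perm.subgroup_eq_top_of_isPreprimitive_of_isSwap_mem hG h hswap hh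
    rw [this]; exact le_top
  · have h3c : h.IsThreeCycle := _root_.card_support_eq_three_iff.mp h3
    exact Equiv.Perm.alternatingGroup_le_of_isPreprimitive_of_isThreeCycle_mem hG h3c hh

end Cfsg.Agent.Lib.Lead.SmallSupport
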