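import Mathlib
import Cfsg.Agent.Lib.Helper5.HermCenter
import Cfsg.Agent.Lib.Lead.Spec33

/-! The set of element orders of `PSU(3,3)` is `{1, 2, 3, 4, 6, 7, 8, 12}`. -/

set_option autoImplicit false
set_option maxRecDepth 100000
set_option maxHeartbeats 4000000

namespace Cfsg.Agent.Lib.Lead.Spec93

open Cfsg.Agent.Lib.Helper5.HermCenter

/-! ## Generalities -/

theorem mem_spec_of_pow {G : Type*} [Monoid G] (x : G) (n : ℕ) (hn : n ∈ [2, 3, 4, 6, 7, 8, 12])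
    (h : x ^ n = 1) : orderOf x ∈ ({1, 2, 3, 4, 6, 7, 8, 12} : Set ℕ) := by
  have hd : orderOf x ∣ n := orderOf_dvd_of_pow_eq_one h
  have hnpos : 0 < n := by
    simp only [List.mem_cons, List.not_mem_nil, or_false] at hn
    omega
  have hpos : 0 < orderOf x := Nat.pos_of_dvd_of_pos hd hnpos
  have hle : orderOf x ≤ n := Nat.le_of_dvd hnpos hd
  simp only [Set.mem_insert_iff, Set.mem_singleton_iff]
  simp only [List.mem_cons, List.not_mem_nil, or_false] at hn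
  obtain ⟨k, hk⟩ : ∃ k, k = orderOf x := ⟨_, rfl⟩
  rw [← hk] at hd hpos hle ⊢
  rcases hn with rfl | rfl | rfl | rfl | rfl | rfl | rfl <;> interval_cases k <;> omega

theorem range_eq_of {G : Type*} [Group G]
    (h1 : ∀ x : G, orderOf x ∈ ({1, 2, 3, 4, 6, 7, 8, 12} : Set ℕ)) (a b c : G)
    (ha : orderOf a = 8) (hb : orderOf b = 12) (hc : orderOf c = 7) :
    Set.range (orderOf : G → ℕ) = ({1, 2, 3, 4, 6, 7, 8, 12} : Set ℕ) := by
  ext n
  constructor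
  · rintro ⟨x, rfl⟩
    exact h1 x
  · intro hn
    simp only [Set.mem_insert_iff, Set.mem_singleton_iff] at hn
    rcases hn with rfl | rfl | rfl | rfl | rfl | rfl | rfl | rfl
    · exact ⟨1, orderOf_one⟩
    · refine ⟨a ^ 4, ?_⟩
      rw [orderOf_pow_of_dvd (by norm_num) (by rw [ha]; norm_num), ha]
    · refine ⟨b ^ 4, ?_⟩
      rw [orderOf_pow_of_dvd (by norm_num) (by rw [hb]; norm_num), hb]
    · refine ⟨a ^ 2, ?_⟩
      rw [orderOf_pow_of_dvd (by norm_num) (by rw [ha]; norm_num), ha]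
    · refine ⟨b ^ 2, ?_⟩
      rw [orderOf_pow_of_dvd (by norm_num) (by rw [hb]; norm_num), hb]
    · exact ⟨c, hc⟩
    · exact ⟨a, ha⟩
    · exact ⟨b, hb⟩

/-! ## The field with nine elements -/

/-- the field with nine elements, concretely: `𝔽₃[i]`, `i² = -1` -/
abbrev K9 := QuadraticAlgebra (ZMod 3) (-1) 0

instance instFactK9 : Fact (∀ r : ZMod 3, r ^ 2 ≠ (-1 : ZMod 3) + 0 * r) := ⟨by decide⟩

noncomputable instance instFieldK9 : Field K9 := inferInstance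

instance instFintypeK9 : Fintype K9 :=
  Fintype.ofEquiv _ (QuadraticAlgebra.equivProd (-1 : ZMod 3) 0).symm

theorem card_K9 : Fintype.card K9 = 9 := by
  rw [Fintype.card_congr (QuadraticAlgebra.equivProd (-1 : ZMod 3) 0)]
  rfl

/-- one step of the reduction of powers modulo `x³ - t x² + t³ x - 1` -/
noncomputable def step9 (t : K9) (x : K9 × K9 × K9) : K9 × K9 × K9 :=
  (x.1 * t + x.2.1, x.2.2 - x.1 * t ^ 3, x.1)

/-- `x^n ≡ a x² + b x + c` modulo `x³ - t x² + t³ x - 1` -/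
noncomputable def rec9 (t : K9) : ℕ → K9 × K9 × K9
  | 0 => (0, 0, 1)
  | n + 1 => step9 t (rec9 t n)

theorem rec9_spec : ∀ a b : ZMod 3, ∃ n ∈ [7, 8, 12], rec9 ⟨a, b⟩ n = (0, 0, 1) := by
  decide +kernel

noncomputable def A7 : Matrix (Fin 3) (Fin 3) K9 := !![0, ⟨1, 1⟩, ⟨1, 1⟩; 0, ⟨1, 1⟩, ⟨2, 2⟩; ⟨0, 1⟩, 0, 0]
noncomputable def A8 : Matrix (Fin 3) (Fin 3) K9 := !![0, 0, 1; 0, ⟨0, 1⟩, 0; ⟨0, 1⟩, 0, 0]
noncomputable def A12 : Matrix (Fin 3) (Fin 3) K9 := !![0, ⟨1, 1⟩, ⟨1, 2⟩; 0, ⟨2, 1⟩, ⟨2, 2⟩; ⟨0, 1⟩, 0, 0]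

theorem A7_spec : A7 ^ 7 = 1 ∧ A7 ^ 1 ≠ 1 ∧ A7.det = 1 ∧ A7.transpose * A7.map (· ^ 3) = 1 := by
  decide +kernel

theorem A8_spec : A8 ^ 2 ^ (2 + 1) = 1 ∧ A8 ^ 2 ^ 2 ≠ 1 ∧ A8.det = 1 ∧
    A8.transpose * A8.map (· ^ 3) = 1 := by
  decide +kernel

theorem A12_spec : A12 ^ 12 = 1 ∧ A12 ^ (12 / 2) ≠ 1 ∧ A12 ^ (12 / 3) ≠ 1 ∧ A12.det = 1 ∧
    A12.transpose * A12.map (· ^ 3) = 1 := by
  decide +kernel

/-! ## The element orders of `PSU(3,3)` -/

section PSU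

variable {F : Type*} [Field F] [Fintype F]

/-- a ring isomorphism from the concrete model -/
noncomputable def e9 (hF : Fintype.card F = 9) : K9 ≃+* F :=
  FiniteField.ringEquivOfCardEq (by rw [card_K9, hF])

theorem three_eq_zero (hF : Fintype.card F = 9) : (3 : F) = 0 := by
  have h : (3 : K9) = 0 := by decide
  have h2 := congrArg (e9 hF) h
  rwa [map_ofNat, map_zero] at h2

theorem card_sq (hF : Fintype.card F = 9) : Fintype.card F = 3 ^ 2 := by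
  rw [hF]; norm_num

theorem pow_rec (hF : Fintype.card F = 9) (M : Matrix (Fin 3) (Fin 3) F) (τ : K9)
    (h : M ^ 3 = (e9 hF τ) • M ^ 2 - (e9 hF (τ ^ 3)) • M + 1) (n : ℕ) :
    M ^ n = (e9 hF (rec9 τ n).1) • M ^ 2 + (e9 hF (rec9 τ n).2.1) • M +
      (e9 hF (rec9 τ n).2.2) • (1 : Matrix (Fin 3) (Fin 3) F) := by
  induction n with
  | zero =>
    show M ^ 0 = (e9 hF 0) • M ^ 2 + (e9 hF 0) • M + (e9 hF 1) • (1 : Matrix (Fin 3) (Fin 3) F)
    rw [map_zero, map_one, zero_smul, zero_smul, zero_add, zero_add, one_smul, pow_zero]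
  | succ n ih =>
    have h' : M ^ 2 * M = (e9 hF τ) • M ^ 2 - (e9 hF (τ ^ 3)) • M + 1 := by
      rw [← pow_succ]; exact h
    rw [pow_succ, ih, add_mul, add_mul, smul_mul_assoc, smul_mul_assoc, smul_mul_assoc, one_mul,
      ← pow_two, h']
    show _ = (e9 hF (step9 τ (rec9 τ n)).1) • M ^ 2 + (e9 hF (step9 τ (rec9 τ n)).2.1) • M +
      (e9 hF (step9 τ (rec9 τ n)).2.2) • (1 : Matrix (Fin 3) (Fin 3) F)
    simp only [step9, map_add, map_sub, map_mul, map_pow]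
    module

theorem su_pow (hF : Fintype.card F = 9) (g : ↥(Cfsg.SU 3 F 3)) :
    g ^ 7 = 1 ∨ g ^ 8 = 1 ∨ g ^ 12 = 1 := by
  have h3 := three_eq_zero hF
  obtain ⟨M, hM⟩ : ∃ M : Matrix (Fin 3) (Fin 3) F, M = (g.1 : Matrix (Fin 3) (Fin 3) F) :=
    ⟨_, rfl⟩
  have hdet : M.det = 1 := by rw [hM]; exact g.1.2
  have hU : IsU 3 M := by rw [hM]; exact (mem_SU_iff (card_sq hF) g.1).1 g.2
  obtain ⟨N, hN⟩ : ∃ N : Matrix (Fin 3) (Fin 3) F, N = M.map (· ^ 3) := ⟨_, rfl⟩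
  have h1 : M.transpose * N = 1 := by rw [hN]; exact hU
  have h2 : N * M.transpose = 1 := mul_eq_one_comm.1 h1
  have h4 : M * N.transpose = 1 := by
    have h5 := congrArg Matrix.transpose h2
    rwa [Matrix.transpose_mul, Matrix.transpose_transpose, Matrix.transpose_one] at h5
  have hadj : M.adjugate = N.transpose := by
    calc M.adjugate = M.adjugate * (M * N.transpose) := by rw [h4, mul_one]
      _ = (M.adjugate * M) * N.transpose := by rw [mul_assoc]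
      _ = N.transpose := by rw [Matrix.adjugate_mul, hdet, one_smul, one_mul]
  have e0 : M 1 1 * M 2 2 - M 1 2 * M 2 1 = (M 0 0) ^ 3 := by
    have h5 := congrFun (congrFun hadj 0) 0
    rw [Matrix.adjugate_fin_three] at h5
    simpa [hN] using h5
  have e1 : M 0 0 * M 2 2 - M 0 2 * M 2 0 = (M 1 1) ^ 3 := by
    have h5 := congrFun (congrFun hadj 1) 1
    rw [Matrix.adjugate_fin_three] at h5
    simpa [hN] using h5
  have e2 : M 0 0 * M 1 1 - M 0 1 * M 1 0 = (M 2 2) ^ 3 := by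
    have h5 := congrFun (congrFun hadj 2) 2
    rw [Matrix.adjugate_fin_three] at h5
    simpa [hN] using h5
  have hs : M 0 0 * M 1 1 - M 0 1 * M 1 0 + M 0 0 * M 2 2 - M 0 2 * M 2 0 +
      M 1 1 * M 2 2 - M 1 2 * M 2 1 = M.trace ^ 3 := by
    rw [Matrix.trace_fin_three]
    linear_combination e0 + e1 + e2 - ((M 0 0) ^ 2 * M 1 1 + (M 0 0) ^ 2 * M 2 2 +
      M 0 0 * (M 1 1) ^ 2 + (M 1 1) ^ 2 * M 2 2 + M 0 0 * (M 2 2) ^ 2 + M 1 1 * (M 2 2) ^ 2 +
      2 * M 0 0 * M 1 1 * M 2 2) * h3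
  have hch := Cfsg.Agent.Lib.Lead.Spec33.cayley3 M
  rw [hs, hdet, one_smul] at hch
  obtain ⟨τ, hτ⟩ := (e9 hF).surjective M.trace
  have hM3 : M ^ 3 = (e9 hF τ) • M ^ 2 - (e9 hF (τ ^ 3)) • M + 1 := by
    rw [map_pow, hτ, ← sub_eq_zero, ← hch]
    abel
  have key : ∀ m : ℕ, M ^ m = 1 → g ^ m = 1 := by
    intro m hm
    apply Subtype.ext
    rw [Subgroup.coe_pow]
    apply Subtype.ext
    rw [Matrix.SpecialLinearGroup.coe_pow, ← hM, hm]
    rfl
  obtain ⟨a, b⟩ := τ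
  obtain ⟨n, hn, hrec⟩ := rec9_spec a b
  have hMn : M ^ n = 1 := by
    rw [pow_rec hF M ⟨a, b⟩ hM3 n, hrec]
    show (e9 hF 0) • M ^ 2 + (e9 hF 0) • M + (e9 hF 1) • (1 : Matrix (Fin 3) (Fin 3) F) = 1
    rw [map_zero, map_one, zero_smul, zero_smul, zero_add, zero_add, one_smul]
  simp only [List.mem_cons, List.not_mem_nil, or_false] at hn
  rcases hn with rfl | rfl | rfl
  · exact Or.inl (key 7 hMn)
  · exact Or.inr (Or.inl (key 8 hMn))
  · exact Or.inr (Or.inr (key 12 hMn))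

theorem psu_orderOf_mem (hF : Fintype.card F = 9) (x : Cfsg.PSU 3 F 3) :
    orderOf x ∈ ({1, 2, 3, 4, 6, 7, 8, 12} : Set ℕ) := by
  obtain ⟨g, rfl⟩ := QuotientGroup.mk_surjective x
  have key : ∀ m : ℕ, g ^ m = 1 → (QuotientGroup.mk g : Cfsg.PSU 3 F 3) ^ m = 1 := by
    intro m hm
    rw [← QuotientGroup.mk_pow, hm]
    rfl
  rcases su_pow hF g with h | h | h
  · exact mem_spec_of_pow _ 7 (by simp) (key 7 h)
  · exact mem_spec_of_pow _ 8 (by simp) (key 8 h)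
  · exact mem_spec_of_pow _ 12 (by simp) (key 12 h)

theorem center_eq_bot (hF : Fintype.card F = 9) : Subgroup.center ↥(Cfsg.SU 3 F 3) = ⊥ := by
  have h1 := card_center_SU (card_sq hF) 3 (by norm_num)
  have h2 : Nat.gcd 3 (3 + 1) = 1 := by norm_num
  rw [h2] at h1
  exact Subgroup.card_eq_one.1 h1

/-- the image in `SL(3,9)` of a matrix of determinant one over the concrete model -/
noncomputable def toSL (hF : Fintype.card F = 9) (A : Matrix (Fin 3) (Fin 3) K9) (hdet : A.det = 1) :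
    Matrix.SpecialLinearGroup (Fin 3) F :=
  ⟨((e9 hF : K9 ≃+* F) : K9 →+* F).mapMatrix A, by rw [← RingHom.map_det, hdet, map_one]⟩

theorem toSL_mem (hF : Fintype.card F = 9) (A : Matrix (Fin 3) (Fin 3) K9) (hdet : A.det = 1)
    (hU : A.transpose * A.map (· ^ 3) = 1) : toSL hF A hdet ∈ Cfsg.SU 3 F 3 := by
  rw [mem_SU_iff (card_sq hF)]
  show (((e9 hF : K9 ≃+* F) : K9 →+* F).mapMatrix A).transpose *
    (((e9 hF : K9 ≃+* F) : K9 →+* F).mapMatrix A).map (· ^ 3) = 1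
  have h1 : (((e9 hF : K9 ≃+* F) : K9 →+* F).mapMatrix A).map (· ^ 3) =
      ((e9 hF : K9 ≃+* F) : K9 →+* F).mapMatrix (A.map (· ^ 3)) := by
    ext i j
    simp [RingHom.mapMatrix_apply, Matrix.map_apply, map_pow]
  have h2 : (((e9 hF : K9 ≃+* F) : K9 →+* F).mapMatrix A).transpose =
      ((e9 hF : K9 ≃+* F) : K9 →+* F).mapMatrix A.transpose := by
    ext i j
    simp [RingHom.mapMatrix_apply, Matrix.map_apply, Matrix.transpose_apply]
  rw [h1, h2, ← map_mul, hU, map_one]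

/-- the image in `SU(3,3)` of a unitary matrix over the concrete model -/
noncomputable def toSU (hF : Fintype.card F = 9) (A : Matrix (Fin 3) (Fin 3) K9) (hdet : A.det = 1)
    (hU : A.transpose * A.map (· ^ 3) = 1) : ↥(Cfsg.SU 3 F 3) :=
  ⟨toSL hF A hdet, toSL_mem hF A hdet hU⟩

theorem toSU_pow_eq_one_iff (hF : Fintype.card F = 9) (A : Matrix (Fin 3) (Fin 3) K9)
    (hdet : A.det = 1) (hU : A.transpose * A.map (· ^ 3) = 1) (m : ℕ) :
    (toSU hF A hdet hU) ^ m = 1 ↔ A ^ m = 1 := by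
  have key : ((((toSU hF A hdet hU) ^ m : ↥(Cfsg.SU 3 F 3)) :
      Matrix.SpecialLinearGroup (Fin 3) F) : Matrix (Fin 3) (Fin 3) F) =
      ((e9 hF : K9 ≃+* F) : K9 →+* F).mapMatrix (A ^ m) := by
    rw [Subgroup.coe_pow, Matrix.SpecialLinearGroup.coe_pow, map_pow]
    rfl
  have hinj : Function.Injective (((e9 hF : K9 ≃+* F) : K9 →+* F).mapMatrix :
      Matrix (Fin 3) (Fin 3) K9 → Matrix (Fin 3) (Fin 3) F) := by
    intro X Y hXY
    rw [RingHom.mapMatrix_apply, RingHom.mapMatrix_apply] at hXY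
    exact Matrix.map_injective (e9 hF).injective hXY
  constructor
  · intro h
    apply hinj
    rw [← key, h, map_one]
    rfl
  · intro h
    apply Subtype.ext
    apply Subtype.ext
    rw [key, h, map_one]
    rfl

theorem range_psu (hF : Fintype.card F = 9) :
    Set.range (orderOf : Cfsg.PSU 3 F 3 → ℕ) = ({1, 2, 3, 4, 6, 7, 8, 12} : Set ℕ) := by
  let q : ↥(Cfsg.SU 3 F 3) →* Cfsg.PSU 3 F 3 :=
    QuotientGroup.mk' (Subgroup.center ↥(Cfsg.SU 3 F 3))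
  have hq : Function.Injective q := by
    rw [← MonoidHom.ker_eq_bot_iff, QuotientGroup.ker_mk', center_eq_bot hF]
  obtain ⟨g7, hg7⟩ : ∃ g : ↥(Cfsg.SU 3 F 3), g = toSU hF A7 A7_spec.2.2.1 A7_spec.2.2.2 :=
    ⟨_, rfl⟩
  obtain ⟨g8, hg8⟩ : ∃ g : ↥(Cfsg.SU 3 F 3), g = toSU hF A8 A8_spec.2.2.1 A8_spec.2.2.2 :=
    ⟨_, rfl⟩
  obtain ⟨g12, hg12⟩ : ∃ g : ↥(Cfsg.SU 3 F 3),
      g = toSU hF A12 A12_spec.2.2.2.1 A12_spec.2.2.2.2 := ⟨_, rfl⟩
  have o7 : orderOf g7 = 7 := by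
    haveI : Fact (Nat.Prime 7) := ⟨by norm_num⟩
    apply orderOf_eq_prime
    · rw [hg7, toSU_pow_eq_one_iff]; exact A7_spec.1
    · intro h
      apply A7_spec.2.1
      rw [← toSU_pow_eq_one_iff hF A7 A7_spec.2.2.1 A7_spec.2.2.2 1, pow_one, ← hg7, h]
  have o8 : orderOf g8 = 8 := by
    haveI : Fact (Nat.Prime 2) := ⟨Nat.prime_two⟩
    refine orderOf_eq_prime_pow (p := 2) (n := 2) ?_ ?_
    · rw [hg8, toSU_pow_eq_one_iff]; exact A8_spec.2.1
    · rw [hg8, toSU_pow_eq_one_iff]; exact A8_spec.1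
  have o12 : orderOf g12 = 12 := by
    apply orderOf_eq_of_pow_and_pow_div_prime (by norm_num)
    · rw [hg12, toSU_pow_eq_one_iff]; exact A12_spec.1
    · intro p hp hd
      have hp' : p = 2 ∨ p = 3 := by
        have hle : p ≤ 12 := Nat.le_of_dvd (by norm_num) hd
        have h2 := hp.two_le
        interval_cases p <;> first | omega | exact absurd hp (by norm_num)
      rcases hp' with rfl | rfl
      · rw [hg12, Ne, toSU_pow_eq_one_iff]; exact A12_spec.2.1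
      · rw [hg12, Ne, toSU_pow_eq_one_iff]; exact A12_spec.2.2.1
  refine range_eq_of (psu_orderOf_mem hF) (q g8) (q g12) (q g7) ?_ ?_ ?_
  · rw [orderOf_injective _ hq, o8]
  · rw [orderOf_injective _ hq, o12]
  · rw [orderOf_injective _ hq, o7]

end PSU

end Cfsg.Agent.Lib.Lead.Spec93
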