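import Mathlib
import Cfsg.Agent.Lib.Lead.Spec93a

/-! The Frobenius-like group `7^4 : (3 : 8)` has the same spectrum as `PSU(3,3)`. -/

set_option autoImplicit false
set_option maxRecDepth 100000
set_option maxHeartbeats 4000000

namespace Cfsg.Agent.Lib.Lead.Spec93

def ent (a : List ℕ) (i j : ℕ) : ℕ := a.getD (4 * i + j) 0

def dot (a b : List ℕ) (i j : ℕ) : ℕ :=
  (ent a i 0 * ent b 0 j + ent a i 1 * ent b 1 j + ent a i 2 * ent b 2 j +
    ent a i 3 * ent b 3 j) % 7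

def mulL (a b : List ℕ) : List ℕ :=
  [dot a b 0 0, dot a b 0 1, dot a b 0 2, dot a b 0 3, dot a b 1 0, dot a b 1 1, dot a b 1 2, dot a b 1 3, dot a b 2 0, dot a b 2 1, dot a b 2 2, dot a b 2 3, dot a b 3 0, dot a b 3 1, dot a b 3 2, dot a b 3 3]

def addL (a b : List ℕ) : List ℕ :=
  [(ent a 0 0 + ent b 0 0) % 7, (ent a 0 1 + ent b 0 1) % 7, (ent a 0 2 + ent b 0 2) % 7, (ent a 0 3 + ent b 0 3) % 7, (ent a 1 0 + ent b 1 0) % 7, (ent a 1 1 + ent b 1 1) % 7, (ent a 1 2 + ent b 1 2) % 7, (ent a 1 3 + ent b 1 3) % 7, (ent a 2 0 + ent b 2 0) % 7, (ent a 2 1 + ent b 2 1) % 7, (ent a 2 2 + ent b 2 2) % 7, (ent a 2 3 + ent b 2 3) % 7, (ent a 3 0 + ent b 3 0) % 7, (ent a 3 1 + ent b 3 1) % 7, (ent a 3 2 + ent b 3 2) % 7, (ent a 3 3 + ent b 3 3) % 7]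

def idL : List ℕ := [1, 0, 0, 0, 0, 1, 0, 0, 0, 0, 1, 0, 0, 0, 0, 1]
def zeroL : List ℕ := [0, 0, 0, 0, 0, 0, 0, 0, 0, 0, 0, 0, 0, 0, 0, 0]

def powL (a : List ℕ) : ℕ → List ℕ
  | 0 => idL
  | n + 1 => mulL (powL a n) a

def geomL (a : List ℕ) : ℕ → List ℕ
  | 0 => zeroL
  | n + 1 => addL (geomL a n) (powL a n)

def wL : List ℕ := [0, 0, 0, 6, 0, 0, 1, 0, 1, 0, 0, 0, 0, 1, 0, 0]
def xL : List ℕ := [0, 5, 0, 0, 2, 0, 0, 0, 0, 0, 0, 3, 0, 0, 4, 0]
def wiL : List ℕ := [0, 0, 1, 0, 0, 0, 0, 1, 0, 1, 0, 0, 6, 0, 0, 0]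
def xiL : List ℕ := [0, 4, 0, 0, 3, 0, 0, 0, 0, 0, 0, 2, 0, 0, 5, 0]

def elemsL : List (List ℕ) :=
  [[1, 0, 0, 0, 0, 1, 0, 0, 0, 0, 1, 0, 0, 0, 0, 1],
  [0, 0, 0, 6, 0, 0, 1, 0, 1, 0, 0, 0, 0, 1, 0, 0],
  [0, 5, 0, 0, 2, 0, 0, 0, 0, 0, 0, 3, 0, 0, 4, 0],
  [0, 0, 1, 0, 0, 0, 0, 1, 0, 1, 0, 0, 6, 0, 0, 0],
  [0, 4, 0, 0, 3, 0, 0, 0, 0, 0, 0, 2, 0, 0, 5, 0],
  [0, 6, 0, 0, 1, 0, 0, 0, 0, 0, 0, 6, 0, 0, 1, 0],
  [0, 0, 5, 0, 0, 0, 0, 5, 0, 3, 0, 0, 4, 0, 0, 0],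
  [0, 0, 4, 0, 0, 0, 0, 4, 0, 2, 0, 0, 5, 0, 0, 0],
  [0, 0, 3, 0, 0, 0, 0, 3, 0, 5, 0, 0, 2, 0, 0, 0],
  [3, 0, 0, 0, 0, 3, 0, 0, 0, 0, 5, 0, 0, 0, 0, 5],
  [0, 0, 0, 3, 0, 0, 4, 0, 2, 0, 0, 0, 0, 2, 0, 0],
  [0, 0, 0, 5, 0, 0, 2, 0, 4, 0, 0, 0, 0, 4, 0, 0],
  [0, 1, 0, 0, 6, 0, 0, 0, 0, 0, 0, 1, 0, 0, 6, 0],
  [0, 0, 0, 4, 0, 0, 3, 0, 5, 0, 0, 0, 0, 5, 0, 0],
  [0, 0, 2, 0, 0, 0, 0, 2, 0, 4, 0, 0, 3, 0, 0, 0],
  [0, 0, 0, 2, 0, 0, 5, 0, 3, 0, 0, 0, 0, 3, 0, 0],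
  [5, 0, 0, 0, 0, 5, 0, 0, 0, 0, 3, 0, 0, 0, 0, 3],
  [0, 0, 6, 0, 0, 0, 0, 6, 0, 6, 0, 0, 1, 0, 0, 0],
  [4, 0, 0, 0, 0, 4, 0, 0, 0, 0, 2, 0, 0, 0, 0, 2],
  [0, 3, 0, 0, 4, 0, 0, 0, 0, 0, 0, 5, 0, 0, 2, 0],
  [2, 0, 0, 0, 0, 2, 0, 0, 0, 0, 4, 0, 0, 0, 0, 4],
  [0, 2, 0, 0, 5, 0, 0, 0, 0, 0, 0, 4, 0, 0, 3, 0],
  [0, 0, 0, 1, 0, 0, 6, 0, 6, 0, 0, 0, 0, 6, 0, 0],
  [6, 0, 0, 0, 0, 6, 0, 0, 0, 0, 6, 0, 0, 0, 0, 6]]

theorem elemsL_closed : ∀ a ∈ elemsL, mulL wL a ∈ elemsL ∧ mulL xL a ∈ elemsL ∧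
    mulL wiL a ∈ elemsL ∧ mulL xiL a ∈ elemsL := by
  decide +kernel

theorem elemsL_id : ∀ a ∈ elemsL, a = idL ∨
    ∃ n ∈ [2, 3, 4, 6, 8, 12], powL a n = idL ∧ geomL a n = zeroL := by
  decide +kernel

abbrev M4 := Matrix (Fin 4) (Fin 4) (ZMod 7)

def toM (a : List ℕ) : M4 := Matrix.of fun i j => ((ent a i.val j.val : ℕ) : ZMod 7)

theorem toM_mul (a b : List ℕ) : toM (mulL a b) = toM a * toM b := by
  ext i j
  fin_cases i <;> fin_cases j <;>
    simp [toM, mulL, dot, ent, Matrix.mul_apply, Fin.sum_univ_four]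

theorem toM_add (a b : List ℕ) : toM (addL a b) = toM a + toM b := by
  ext i j
  fin_cases i <;> fin_cases j <;>
    simp [toM, addL, ent]

theorem toM_id : toM idL = 1 := by
  ext i j
  fin_cases i <;> fin_cases j <;> simp [toM, idL, ent]

theorem toM_zero : toM zeroL = 0 := by
  ext i j
  fin_cases i <;> fin_cases j <;> simp [toM, zeroL, ent]

theorem toM_pow (a : List ℕ) (n : ℕ) : toM (powL a n) = toM a ^ n := by
  induction n with
  | zero => rw [pow_zero]; exact toM_id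
  | succ n ih => rw [pow_succ, ← ih, ← toM_mul]; rfl

theorem toM_geom (a : List ℕ) (n : ℕ) :
    toM (geomL a n) = ∑ j ∈ Finset.range n, toM a ^ j := by
  induction n with
  | zero => rw [Finset.sum_range_zero]; exact toM_zero
  | succ n ih => rw [Finset.sum_range_succ, ← ih, ← toM_pow, ← toM_add]; rfl

def gw : M4ˣ := ⟨toM wL, toM wiL,
  by rw [← toM_mul, show mulL wL wiL = idL by decide +kernel, toM_id],
  by rw [← toM_mul, show mulL wiL wL = idL by decide +kernel, toM_id]⟩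

def gx : M4ˣ := ⟨toM xL, toM xiL,
  by rw [← toM_mul, show mulL xL xiL = idL by decide +kernel, toM_id],
  by rw [← toM_mul, show mulL xiL xL = idL by decide +kernel, toM_id]⟩

/-- the group `3 : 8` of order 24 acting fixed-point-freely -/
def K : Subgroup M4ˣ := Subgroup.closure {gw, gx}

theorem mem_elems (k : M4ˣ) (hk : k ∈ K) : ∃ a ∈ elemsL, (k : M4) = toM a := by
  refine Subgroup.closure_induction_left (p := fun (g : M4ˣ) _ => ∃ a ∈ elemsL, (g : M4) = toM a)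
    ?_ ?_ ?_ (show k ∈ Subgroup.closure {gw, gx} from hk)
  · exact ⟨idL, by decide +kernel, by rw [Units.val_one, toM_id]⟩
  · rintro x hx y _ ⟨a, ha, hya⟩
    obtain ⟨h1, h2, -, -⟩ := elemsL_closed a ha
    rcases hx with rfl | rfl
    · exact ⟨_, h1, by rw [Units.val_mul, hya, toM_mul]; rfl⟩
    · exact ⟨_, h2, by rw [Units.val_mul, hya, toM_mul]; rfl⟩
  · rintro x hx y _ ⟨a, ha, hya⟩
    obtain ⟨-, -, h3, h4⟩ := elemsL_closed a ha
    rcases hx with rfl | rfl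
    · exact ⟨_, h3, by rw [Units.val_mul, hya, toM_mul]; rfl⟩
    · exact ⟨_, h4, by rw [Units.val_mul, hya, toM_mul]; rfl⟩

theorem K_identity (k : K) : k = 1 ∨ ∃ n ∈ [2, 3, 4, 6, 8, 12],
    ((k : M4ˣ) : M4) ^ n = 1 ∧ ∑ j ∈ Finset.range n, ((k : M4ˣ) : M4) ^ j = 0 := by
  obtain ⟨a, ha, hka⟩ := mem_elems k.1 k.2
  rcases elemsL_id a ha with rfl | ⟨n, hn, h1, h2⟩
  · left
    apply Subtype.ext
    apply Units.ext
    rw [hka, toM_id]
    rfl
  · right
    refine ⟨n, hn, ?_, ?_⟩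
    · rw [hka, ← toM_pow, h1, toM_id]
    · rw [hka, ← toM_geom, h2, toM_zero]

theorem K_pow (k : K) (n : ℕ) (h : ((k : M4ˣ) : M4) ^ n = 1) : k ^ n = 1 := by
  apply Subtype.ext
  apply Units.ext
  rw [Subgroup.coe_pow, Units.val_pow_eq_pow_val, h]
  rfl

instance : Finite K := inferInstance

theorem K_solvable : Group.IsSolvable K := by
  have hprime : ∀ p : ℕ, p.Prime → p ∣ Nat.card K → p = 2 ∨ p = 3 := by
    intro p hp hd
    haveI : Fact p.Prime := ⟨hp⟩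
    obtain ⟨k, hk⟩ := exists_prime_orderOf_dvd_card' (G := K) p hd
    rcases K_identity k with rfl | ⟨n, hn, h1, -⟩
    · rw [orderOf_one] at hk
      exact absurd hk.symm hp.ne_one
    · have hdvd : p ∣ n := by
        rw [← hk]
        exact orderOf_dvd_of_pow_eq_one (K_pow k n h1)
      simp only [List.mem_cons, List.not_mem_nil, or_false] at hn
      have hle : p ≤ 12 := by
        rcases hn with rfl | rfl | rfl | rfl | rfl | rfl <;>
          exact (Nat.le_of_dvd (by norm_num) hdvd).trans (by norm_num)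
      have h2 := hp.two_le
      interval_cases p <;> first | omega | exact absurd hp (by norm_num)
  obtain ⟨a, b, hab⟩ :=
    Cfsg.Agent.Lib.Lead.Spec33.two_three (Nat.card K) Nat.card_pos.ne' hprime
  exact Cfsg.Agent.S0144.result 2 3 a b Nat.prime_two Nat.prime_three hab

/-- the group `7^4 : (3 : 8)` -/
@[ext] structure HG where
  v : Fin 4 → ZMod 7
  k : K

instance : Mul HG := ⟨fun a b => ⟨a.v + Matrix.mulVec ((a.k : M4ˣ) : M4) b.v, a.k * b.k⟩⟩
instance : One HG := ⟨⟨0, 1⟩⟩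
instance : Inv HG := ⟨fun a => ⟨-Matrix.mulVec (((a.k⁻¹ : K) : M4ˣ) : M4) a.v, a.k⁻¹⟩⟩

@[simp] theorem mul_v (a b : HG) : (a * b).v = a.v + Matrix.mulVec ((a.k : M4ˣ) : M4) b.v := rfl
@[simp] theorem mul_k (a b : HG) : (a * b).k = a.k * b.k := rfl
@[simp] theorem one_v : (1 : HG).v = 0 := rfl
@[simp] theorem one_k : (1 : HG).k = 1 := rfl
@[simp] theorem inv_v (a : HG) : (a⁻¹).v = -Matrix.mulVec (((a.k⁻¹ : K) : M4ˣ) : M4) a.v := rfl
@[simp] theorem inv_k (a : HG) : (a⁻¹).k = a.k⁻¹ := rfl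

instance instGroupHG : Group HG :=
  Group.ofLeftAxioms
    (by
      intro a b c
      ext1
      · simp only [mul_v, mul_k, Subgroup.coe_mul, Units.val_mul, Matrix.mulVec_add,
          Matrix.mulVec_mulVec, add_assoc]
      · simp only [mul_k, mul_assoc])
    (by
      intro a
      ext1
      · simp only [mul_v, one_v, one_k, Subgroup.coe_one, Units.val_one, Matrix.one_mulVec,
          zero_add]
      · simp only [mul_k, one_k, one_mul])
    (by
      intro a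
      ext1
      · simp only [mul_v, inv_v, inv_k, one_v, neg_add_cancel]
      · simp only [mul_k, inv_k, inv_mul_cancel, one_k])

theorem pow_k (a : HG) (n : ℕ) : (a ^ n).k = a.k ^ n := by
  induction n with
  | zero => rw [pow_zero, pow_zero]; rfl
  | succ n ih => rw [pow_succ, pow_succ, mul_k, ih]

theorem pow_v (a : HG) (n : ℕ) :
    (a ^ n).v = Matrix.mulVec (∑ j ∈ Finset.range n, ((a.k : M4ˣ) : M4) ^ j) a.v := by
  induction n with
  | zero => rw [pow_zero, Finset.sum_range_zero, Matrix.zero_mulVec]; rfl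
  | succ n ih =>
    rw [pow_succ, mul_v, ih, pow_k, Finset.sum_range_succ, Matrix.add_mulVec, Subgroup.coe_pow,
      Units.val_pow_eq_pow_val]

theorem hg_orderOf_mem (a : HG) : orderOf a ∈ ({1, 2, 3, 4, 6, 7, 8, 12} : Set ℕ) := by
  rcases K_identity a.k with h | ⟨n, hn, h1, h2⟩
  · refine mem_spec_of_pow a 7 (by simp) ?_
    ext1
    · rw [pow_v, h, one_v]
      have : ∑ j ∈ Finset.range 7, (((1 : K) : M4ˣ) : M4) ^ j = 0 := by
        rw [Subgroup.coe_one, Units.val_one, ← toM_id, ← toM_geom,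
          show geomL idL 7 = zeroL by decide +kernel, toM_zero]
      rw [this, Matrix.zero_mulVec]
    · rw [pow_k, h, one_pow]
      rfl
  · refine mem_spec_of_pow a n ?_ ?_
    · simp only [List.mem_cons, List.not_mem_nil, or_false] at hn ⊢
      tauto
    · ext1
      · rw [pow_v, h2, Matrix.zero_mulVec]
        rfl
      · rw [pow_k, K_pow a.k n h1]
        rfl

def incl : K →* HG where
  toFun k := ⟨0, k⟩
  map_one' := rfl
  map_mul' x y := by
    ext1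
    · simp only [mul_v, Matrix.mulVec_zero, add_zero]
    · rfl

theorem incl_injective : Function.Injective incl := by
  intro x y h
  exact congrArg HG.k h

def proj : HG →* K where
  toFun a := a.k
  map_one' := rfl
  map_mul' _ _ := rfl

theorem ne_one_of_entry (a : List ℕ) (h : ((ent a 0 0 : ℕ) : ZMod 7) ≠ 1) : toM a ≠ 1 := by
  intro h1
  apply h
  have h00 := congrFun (congrFun h1 0) 0
  simpa [toM] using h00

theorem orderOf_gw : orderOf gw = 8 := by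
  haveI : Fact (Nat.Prime 2) := ⟨Nat.prime_two⟩
  rw [← orderOf_units]
  refine orderOf_eq_prime_pow (p := 2) (n := 2) ?_ ?_
  · show ¬ toM wL ^ 2 ^ 2 = 1
    rw [← toM_pow]
    exact ne_one_of_entry _ (by decide +kernel)
  · show toM wL ^ 2 ^ (2 + 1) = 1
    rw [← toM_pow, show powL wL (2 ^ (2 + 1)) = idL by decide +kernel, toM_id]

theorem orderOf_gx : orderOf gx = 12 := by
  rw [← orderOf_units]
  apply orderOf_eq_of_pow_and_pow_div_prime (by norm_num)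
  · show toM xL ^ 12 = 1
    rw [← toM_pow, show powL xL 12 = idL by decide +kernel, toM_id]
  · intro p hp hd
    have hp' : p = 2 ∨ p = 3 := by
      have hle : p ≤ 12 := Nat.le_of_dvd (by norm_num) hd
      have h2 := hp.two_le
      interval_cases p <;> first | omega | exact absurd hp (by norm_num)
    rcases hp' with rfl | rfl
    · show toM xL ^ (12 / 2) ≠ 1
      rw [← toM_pow]
      exact ne_one_of_entry _ (by decide +kernel)
    · show toM xL ^ (12 / 3) ≠ 1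
      rw [← toM_pow]
      exact ne_one_of_entry _ (by decide +kernel)

theorem gw_mem : gw ∈ K := Subgroup.subset_closure (by simp)
theorem gx_mem : gx ∈ K := Subgroup.subset_closure (by simp)
def hw : HG := incl ⟨gw, gw_mem⟩
def hx : HG := incl ⟨gx, gx_mem⟩
def ht : HG := ⟨Pi.single 0 1, 1⟩

theorem orderOf_hw : orderOf hw = 8 := by
  rw [hw, orderOf_injective incl incl_injective, Subgroup.orderOf_mk, orderOf_gw]

theorem orderOf_hx : orderOf hx = 12 := by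
  rw [hx, orderOf_injective incl incl_injective, Subgroup.orderOf_mk, orderOf_gx]

theorem orderOf_ht : orderOf ht = 7 := by
  haveI : Fact (Nat.Prime 7) := ⟨by norm_num⟩
  apply orderOf_eq_prime
  · ext1
    · rw [pow_v]
      have : ∑ j ∈ Finset.range 7, (((ht.k : K) : M4ˣ) : M4) ^ j = 0 := by
        show ∑ j ∈ Finset.range 7, (((1 : K) : M4ˣ) : M4) ^ j = 0
        rw [Subgroup.coe_one, Units.val_one, ← toM_id, ← toM_geom,
          show geomL idL 7 = zeroL by decide +kernel, toM_zero]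
      rw [this, Matrix.zero_mulVec]
      rfl
    · rw [pow_k]
      show (1 : K) ^ 7 = 1
      rw [one_pow]
  · intro h
    have := congrFun (congrArg HG.v h) 0
    simp [ht] at this

theorem range_hg : Set.range (orderOf : HG → ℕ) = ({1, 2, 3, 4, 6, 7, 8, 12} : Set ℕ) :=
  range_eq_of hg_orderOf_mem hw hx ht orderOf_hw orderOf_hx orderOf_ht

instance : Finite HG :=
  Finite.of_injective (fun a : HG => (a.v, a.k)) (by
    intro a b h
    have h1 := congrArg Prod.fst h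
    have h2 := congrArg Prod.snd h
    exact HG.ext h1 h2)

theorem hg_solvable : Group.IsSolvable HG := by
  haveI := K_solvable
  haveI : Group.IsSolvable proj.ker := by
    apply Group.isSolvable_of_comm
    intro a b
    have ha : a.1.k = 1 := a.2
    have hb : b.1.k = 1 := b.2
    apply Subtype.ext
    show a.1 * b.1 = b.1 * a.1
    ext1
    · simp only [mul_v, ha, hb, Subgroup.coe_one, Units.val_one, Matrix.one_mulVec, add_comm]
    · simp only [mul_k, ha, hb]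
  exact Group.isSolvable_of_ker_le_range proj.ker.subtype proj (by rw [Subgroup.range_subtype])

theorem main {F : Type*} [Field F] [Fintype F] (hF : Fintype.card F = 9) :
    ∃ (H : Type) (_ : Group H) (_ : Fintype H), Group.IsSolvable H ∧
      Set.range (orderOf : H → ℕ) = Set.range (orderOf : Cfsg.PSU 3 F 3 → ℕ) := by
  classical
  refine ⟨HG, instGroupHG, Fintype.ofFinite HG, hg_solvable, ?_⟩
  rw [range_hg, range_psu hF]

end Cfsg.Agent.Lib.Lead.Spec93
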