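import Mathlib

set_option autoImplicit false

/-!
# Rank one Steinberg relations, abstractly (part A)

A structure `St K P` records two families `X Y : K → P` of elements of a group `P`
satisfying the rank one Steinberg relations over the field `K`.  We derive the standard
consequences: the behaviour of `w t = X t * Y (-t⁻¹) * X t`, `hd t = w t * (w 1)⁻¹`.
-/

namespace Cfsg.Agent.Lib.Lead.St2A

structure St (K : Type*) [Field K] (P : Type*) [Group P] where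
  X : K → P
  Y : K → P
  X_add : ∀ t u, X t * X u = X (t + u)
  Y_add : ∀ t u, Y t * Y u = Y (t + u)
  relX : ∀ t u, t ≠ 0 →
    (X t * Y (-t⁻¹) * X t) * X u * (X t * Y (-t⁻¹) * X t)⁻¹ = Y (-(t⁻¹ ^ 2 * u))
  relY : ∀ t u, t ≠ 0 →
    (Y t * X (-t⁻¹) * Y t) * Y u * (Y t * X (-t⁻¹) * Y t)⁻¹ = X (-(t⁻¹ ^ 2 * u))

variable {K : Type*} [Field K] {P : Type*} [Group P] (S : St K P)

def St.swap : St K P := ⟨S.Y, S.X, S.Y_add, S.X_add, S.relY, S.relX⟩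

def St.w (t : K) : P := S.X t * S.Y (-t⁻¹) * S.X t
def St.w' (t : K) : P := S.Y t * S.X (-t⁻¹) * S.Y t
def St.hd (t : K) : P := S.w t * (S.w 1)⁻¹

theorem St.X_zero : S.X 0 = 1 := by
  have h := S.X_add 0 0
  rw [add_zero] at h
  exact mul_left_cancel (a := S.X 0) (by rw [h, mul_one])

theorem St.X_neg (t : K) : S.X (-t) = (S.X t)⁻¹ := by
  apply eq_inv_of_mul_eq_one_left
  rw [S.X_add, neg_add_cancel, S.X_zero]

theorem St.Y_zero : S.Y 0 = 1 := S.swap.X_zero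
theorem St.Y_neg (t : K) : S.Y (-t) = (S.Y t)⁻¹ := S.swap.X_neg t

theorem St.w_neg (t : K) : S.w (-t) = (S.w t)⁻¹ := by
  have h1 : S.X (-t) = (S.X t)⁻¹ := S.X_neg t
  have h2 : S.Y (-(-t)⁻¹) = (S.Y (-t⁻¹))⁻¹ := by rw [← S.Y_neg, inv_neg]
  unfold St.w
  rw [h1, h2]
  group

theorem St.w_conj_X (t u : K) (ht : t ≠ 0) :
    S.w t * S.X u * (S.w t)⁻¹ = S.Y (-(t⁻¹ ^ 2 * u)) := S.relX t u ht

theorem St.w_conj_Y (t v : K) (ht : t ≠ 0) :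
    S.w t * S.Y v * (S.w t)⁻¹ = S.X (-(t ^ 2 * v)) := by
  have h := S.w_conj_X (-t) (-(t ^ 2 * v)) (neg_ne_zero.mpr ht)
  have e : -((-t)⁻¹ ^ 2 * -(t ^ 2 * v)) = v := by
    rw [inv_neg]; field_simp
  rw [e, S.w_neg] at h
  rw [← h]; group

theorem St.w_eq_w' (t : K) (ht : t ≠ 0) : S.w t = S.w' (-t⁻¹) := by
  have h1 := S.w_conj_X t t ht
  have h2 := S.w_conj_Y t (-t⁻¹) ht
  have e1 : -(t⁻¹ ^ 2 * t) = -t⁻¹ := by field_simp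
  have e2 : -(t ^ 2 * -t⁻¹) = t := by field_simp
  have e3 : -(-t⁻¹)⁻¹ = t := by rw [inv_neg, inv_inv, neg_neg]
  rw [e1] at h1; rw [e2] at h2
  have h3 : S.w t = (S.w t * S.X t * (S.w t)⁻¹) * (S.w t * S.Y (-t⁻¹) * (S.w t)⁻¹) *
      (S.w t * S.X t * (S.w t)⁻¹) := by
    have hw : S.X t * S.Y (-t⁻¹) * S.X t = S.w t := rfl
    have h4 : (S.w t * S.X t * (S.w t)⁻¹) * (S.w t * S.Y (-t⁻¹) * (S.w t)⁻¹) *
      (S.w t * S.X t * (S.w t)⁻¹) = S.w t * (S.X t * S.Y (-t⁻¹) * S.X t) * (S.w t)⁻¹ := by group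
    rw [h4, hw]; group
  rw [h1, h2] at h3
  have hw' : S.w' (-t⁻¹) = S.Y (-t⁻¹) * S.X (-(-t⁻¹)⁻¹) * S.Y (-t⁻¹) := rfl
  rw [hw', e3]; exact h3

theorem St.w'_eq_w (t : K) (ht : t ≠ 0) : S.w' t = S.w (-t⁻¹) := S.swap.w_eq_w' t ht

theorem St.w_conj_w (t u : K) (ht : t ≠ 0) (hu : u ≠ 0) :
    S.w t * S.w u * (S.w t)⁻¹ = S.w (t ^ 2 / u) := by
  have h1 := S.w_conj_X t u ht
  have h2 := S.w_conj_Y t (-u⁻¹) ht
  have hne : -(t⁻¹ ^ 2 * u) ≠ 0 :=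
    neg_ne_zero.mpr (mul_ne_zero (pow_ne_zero 2 (inv_ne_zero ht)) hu)
  have h3 := S.w'_eq_w (-(t⁻¹ ^ 2 * u)) hne
  have e1 : -(-(t⁻¹ ^ 2 * u))⁻¹ = t ^ 2 / u := by
    rw [inv_neg, neg_neg]; field_simp
  have e2 : -(t ^ 2 * -u⁻¹) = t ^ 2 / u := by ring
  have hw : S.w u = S.X u * S.Y (-u⁻¹) * S.X u := rfl
  have hw' : S.w' (-(t⁻¹ ^ 2 * u)) =
      S.Y (-(t⁻¹ ^ 2 * u)) * S.X (-(-(t⁻¹ ^ 2 * u))⁻¹) * S.Y (-(t⁻¹ ^ 2 * u)) := rfl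
  rw [e2] at h2
  rw [e1] at h3 hw'
  rw [← h3, hw', ← h1, ← h2, hw]; group

theorem St.w_one_conj_X (u : K) : S.w 1 * S.X u * (S.w 1)⁻¹ = S.Y (-u) := by
  have h := S.w_conj_X 1 u one_ne_zero
  have e : -((1 : K)⁻¹ ^ 2 * u) = -u := by rw [inv_one]; ring
  rw [e] at h; exact h

theorem St.w_one_conj_Y (u : K) : S.w 1 * S.Y u * (S.w 1)⁻¹ = S.X (-u) := by
  have h := S.w_conj_Y 1 u one_ne_zero
  have e : -((1 : K) ^ 2 * u) = -u := by ring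
  rw [e] at h; exact h

theorem St.w_one_inv_conj_X (u : K) : (S.w 1)⁻¹ * S.X u * S.w 1 = S.Y (-u) := by
  have h := S.w_conj_X (-1) u (neg_ne_zero.mpr one_ne_zero)
  have e : -((-1 : K)⁻¹ ^ 2 * u) = -u := by rw [inv_neg_one]; ring
  rw [e, S.w_neg, inv_inv] at h
  exact h

theorem St.w_one_inv_conj_Y (u : K) : (S.w 1)⁻¹ * S.Y u * S.w 1 = S.X (-u) := by
  have h := S.w_conj_Y (-1) u (neg_ne_zero.mpr one_ne_zero)
  have e : -((-1 : K) ^ 2 * u) = -u := by ring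
  rw [e, S.w_neg, inv_inv] at h
  exact h

theorem St.hd_conj_X (t u : K) (ht : t ≠ 0) :
    S.hd t * S.X u * (S.hd t)⁻¹ = S.X (t ^ 2 * u) := by
  have h1 := S.w_one_inv_conj_X u
  have h2 := S.w_conj_Y t (-u) ht
  have e : -(t ^ 2 * -u) = t ^ 2 * u := by ring
  rw [e] at h2
  rw [← h2, ← h1]; unfold St.hd; group

theorem St.hd_conj_Y (t u : K) (ht : t ≠ 0) :
    S.hd t * S.Y u * (S.hd t)⁻¹ = S.Y (t⁻¹ ^ 2 * u) := by
  have h1 := S.w_one_inv_conj_Y u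
  have h2 := S.w_conj_X t (-u) ht
  have e : -(t⁻¹ ^ 2 * -u) = t⁻¹ ^ 2 * u := by ring
  rw [e] at h2
  rw [← h2, ← h1]; unfold St.hd; group

theorem St.hd_conj_w (t u : K) (ht : t ≠ 0) :
    S.hd t * S.w u * (S.hd t)⁻¹ = S.w (t ^ 2 * u) := by
  have h1 := S.hd_conj_X t u ht
  have h2 := S.hd_conj_Y t (-u⁻¹) ht
  have e : t⁻¹ ^ 2 * -u⁻¹ = -(t ^ 2 * u)⁻¹ := by rw [mul_inv, inv_pow]; ring
  rw [e] at h2
  have hw : S.w u = S.X u * S.Y (-u⁻¹) * S.X u := rfl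
  have hw2 : S.w (t ^ 2 * u) =
      S.X (t ^ 2 * u) * S.Y (-(t ^ 2 * u)⁻¹) * S.X (t ^ 2 * u) := rfl
  rw [hw2, ← h1, ← h2, hw]; group

theorem St.hd_conj_hd (t u : K) (ht : t ≠ 0) :
    S.hd t * S.hd u * (S.hd t)⁻¹ = S.hd (t ^ 2 * u) * (S.hd (t ^ 2))⁻¹ := by
  have h1 := S.hd_conj_w t u ht
  have h2 := S.hd_conj_w t 1 ht
  rw [mul_one] at h2
  have e1 : S.hd u = S.w u * (S.w 1)⁻¹ := rfl
  have e2 : S.hd (t ^ 2 * u) = S.w (t ^ 2 * u) * (S.w 1)⁻¹ := rfl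
  have e3 : S.hd (t ^ 2) = S.w (t ^ 2) * (S.w 1)⁻¹ := rfl
  rw [e1, e2, e3, ← h1, ← h2]; group

theorem St.w_one_conj_hd (t : K) (ht : t ≠ 0) :
    S.w 1 * S.hd t * (S.w 1)⁻¹ = S.hd t⁻¹ := by
  have h := S.w_conj_w 1 t one_ne_zero ht
  rw [one_pow, one_div] at h
  have e1 : S.hd t = S.w t * (S.w 1)⁻¹ := rfl
  have e2 : S.hd t⁻¹ = S.w t⁻¹ * (S.w 1)⁻¹ := rfl
  rw [e1, e2, ← h]; group

theorem St.hd_one : S.hd 1 = 1 := by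
  unfold St.hd; exact mul_inv_cancel _

theorem St.hd_neg_one : S.hd (-1) = (S.w 1)⁻¹ * (S.w 1)⁻¹ := by
  unfold St.hd; rw [S.w_neg]

theorem St.w_one_sq : S.w 1 * S.w 1 = (S.hd (-1))⁻¹ := by
  rw [S.hd_neg_one, mul_inv_rev, inv_inv]

theorem St.hd_mul_w_one (t : K) : S.hd t * S.w 1 = S.w t := by
  unfold St.hd; group

theorem St.hd_neg_one_comm (u : K) (hu : u ≠ 0) :
    S.hd (-1) * S.hd u = S.hd u * S.hd (-1) := by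
  have h1 := S.w_one_conj_hd u hu
  have h2 := S.w_one_conj_hd u⁻¹ (inv_ne_zero hu)
  rw [inv_inv] at h2
  rw [← h1] at h2
  rw [S.hd_neg_one]
  calc (S.w 1)⁻¹ * (S.w 1)⁻¹ * S.hd u
      = (S.w 1)⁻¹ * (S.w 1)⁻¹ * (S.w 1 * (S.w 1 * S.hd u * (S.w 1)⁻¹) * (S.w 1)⁻¹) := by
        rw [h2]
    _ = S.hd u * ((S.w 1)⁻¹ * (S.w 1)⁻¹) := by group

theorem St.Y_eq (σ : K) : S.Y (-σ⁻¹) = S.X (-σ) * S.w σ * S.X (-σ) := by
  unfold St.w; rw [S.X_neg]; group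

theorem St.X_eq (r : K) (hr : r ≠ 0) : S.X (-r) = S.Y (-r⁻¹) * S.w (-r) * S.Y (-r⁻¹) := by
  have h := S.w'_eq_w (-r⁻¹) (neg_ne_zero.mpr (inv_ne_zero hr))
  have e : -(-r⁻¹)⁻¹ = r := by rw [inv_neg, inv_inv, neg_neg]
  have hw' : S.w' (-r⁻¹) = S.Y (-r⁻¹) * S.X (-(-r⁻¹)⁻¹) * S.Y (-r⁻¹) := rfl
  rw [e] at h hw'
  rw [hw'] at h
  rw [S.w_neg, ← h, S.X_neg]; group

theorem w_add_aux {Q : Type*} [Group Q] (xr xt xu xs xts xus ys A B C W : Q)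
    (h0 : xt * A * xt * (xu * B * xu) = xr⁻¹ * W * xr⁻¹)
    (F1 : xt * xu = xs) (F2 : xs = ys * C * ys) (F3 : A * ys * A⁻¹ = xts)
    (F4 : B⁻¹ * ys * B = xus) (F5 : xr * xt * xts = 1) (F6 : xus * xu * xr = 1) :
    W = A * C * B := by
  calc W = xr * (xt * A * xt * (xu * B * xu)) * xr := by rw [h0]; group
    _ = xr * xt * A * (xt * xu) * B * xu * xr := by group
    _ = xr * xt * A * (ys * C * ys) * B * xu * xr := by rw [F1, F2]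
    _ = (xr * xt * (A * ys * A⁻¹)) * A * C * B * ((B⁻¹ * ys * B) * xu * xr) := by group
    _ = A * C * B := by rw [F3, F4, F5, F6]; group

theorem St.w_add (t u : K) (ht : t ≠ 0) (hu : u ≠ 0) (hs : t + u ≠ 0) :
    S.w (t * u / (t + u)) = S.w t * S.w (-(t + u)) * S.w u := by
  have hY : S.Y (-t⁻¹) * S.Y (-u⁻¹) = S.Y (-(t * u / (t + u))⁻¹) := by
    rw [S.Y_add]; congr 1; field_simp; ring
  rw [S.Y_eq t, S.Y_eq u, S.Y_eq (t * u / (t + u)), S.X_neg (t * u / (t + u))] at hY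
  have F1 : S.X (-t) * S.X (-u) = S.X (-(t + u)) := by
    rw [S.X_add]; congr 1; ring
  have F2 := S.X_eq (t + u) hs
  have F3 : S.w t * S.Y (-(t + u)⁻¹) * (S.w t)⁻¹ = S.X (t ^ 2 / (t + u)) := by
    rw [S.w_conj_Y t _ ht]; congr 1; ring
  have F4 : (S.w u)⁻¹ * S.Y (-(t + u)⁻¹) * S.w u = S.X (u ^ 2 / (t + u)) := by
    have h := S.w_conj_Y (-u) (-(t + u)⁻¹) (neg_ne_zero.mpr hu)
    rw [S.w_neg, inv_inv] at h
    rw [h]; congr 1; ring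
  have F5 : S.X (t * u / (t + u)) * S.X (-t) * S.X (t ^ 2 / (t + u)) = 1 := by
    rw [S.X_add, S.X_add]
    have e : t * u / (t + u) + -t + t ^ 2 / (t + u) = 0 := by field_simp; ring
    rw [e, S.X_zero]
  have F6 : S.X (u ^ 2 / (t + u)) * S.X (-u) * S.X (t * u / (t + u)) = 1 := by
    rw [S.X_add, S.X_add]
    have e : u ^ 2 / (t + u) + -u + t * u / (t + u) = 0 := by field_simp; ring
    rw [e, S.X_zero]
  exact w_add_aux _ _ _ _ _ _ _ _ _ _ _ hY F1 F2 F3 F4 F5 F6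

theorem hd_add_aux {Q : Type*} [Group Q] (a c b v : Q)
    (h3 : v⁻¹ * v⁻¹ * (b * v⁻¹) = b * v⁻¹ * (v⁻¹ * v⁻¹)) :
    a * c * b * v⁻¹ = a * v⁻¹ * (v * c * v⁻¹ * v⁻¹) * (b * v⁻¹) * (v⁻¹ * v⁻¹)⁻¹ := by
  have h4 : b * v⁻¹ = v⁻¹ * v⁻¹ * (b * v⁻¹) * (v⁻¹ * v⁻¹)⁻¹ := by rw [h3]; group
  calc a * c * b * v⁻¹ = a * c * (b * v⁻¹) := by group
    _ = a * c * (v⁻¹ * v⁻¹ * (b * v⁻¹) * (v⁻¹ * v⁻¹)⁻¹) := by rw [← h4]
    _ = a * v⁻¹ * (v * c * v⁻¹ * v⁻¹) * (b * v⁻¹) * (v⁻¹ * v⁻¹)⁻¹ := by group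

theorem St.hd_add (t u : K) (ht : t ≠ 0) (hu : u ≠ 0) (hs : t + u ≠ 0) :
    S.hd (t * u / (t + u)) =
      S.hd t * S.hd (-(t + u)⁻¹) * S.hd u * (S.hd (-1))⁻¹ := by
  have h1 := S.w_add t u ht hu hs
  have h2 := S.w_conj_w 1 (-(t + u)) one_ne_zero (neg_ne_zero.mpr hs)
  have e : (1 : K) ^ 2 / (-(t + u)) = -(t + u)⁻¹ := by rw [one_pow, one_div, inv_neg]
  rw [e] at h2
  have h3 := S.hd_neg_one_comm u hu
  rw [S.hd_neg_one] at h3 ⊢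
  unfold St.hd at h3 ⊢
  rw [h1, ← h2]
  exact hd_add_aux _ _ _ _ h3

theorem St.hd_steinberg (t : K) (ht : t ≠ 0) (ht1 : t ≠ 1) :
    S.hd (t * (1 - t)) = S.hd t * S.hd (1 - t) := by
  have h1t : (1 - t) ≠ 0 := sub_ne_zero.mpr (Ne.symm ht1)
  have hs : t + (1 - t) ≠ 0 := by rw [add_sub_cancel]; exact one_ne_zero
  have h := S.hd_add t (1 - t) ht h1t hs
  have e1 : t * (1 - t) / (t + (1 - t)) = t * (1 - t) := by rw [add_sub_cancel, div_one]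
  have e2 : -(t + (1 - t))⁻¹ = -1 := by rw [add_sub_cancel, inv_one]
  rw [e1, e2] at h
  have hc := S.hd_neg_one_comm (1 - t) h1t
  rw [h]
  calc S.hd t * S.hd (-1) * S.hd (1 - t) * (S.hd (-1))⁻¹
      = S.hd t * (S.hd (-1) * S.hd (1 - t)) * (S.hd (-1))⁻¹ := by group
    _ = S.hd t * (S.hd (1 - t) * S.hd (-1)) * (S.hd (-1))⁻¹ := by rw [hc]
    _ = S.hd t * S.hd (1 - t) := by group

end Cfsg.Agent.Lib.Lead.St2A
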