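import Cfsg.Agent.Lib.Lead.St2A

set_option autoImplicit false

/-!
# Rank one Steinberg relations, abstractly (part B)

Over a finite field, when `P` is generated by the `X t` and `Y t`, the elements `hd t`
commute pairwise and `t ↦ hd t` is multiplicative.
-/

namespace Cfsg.Agent.Lib.Lead.St2A

open Polynomial

variable {K : Type*} [Field K] {P : Type*} [Group P]

/-- `a` acts on the root subgroups like the diagonal matrix `diag(l, l⁻¹)`. -/
def St.IsD (S : St K P) (a : P) (l : K) : Prop :=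
  l ≠ 0 ∧ (∀ u, a * S.X u * a⁻¹ = S.X (l ^ 2 * u)) ∧ (∀ u, a * S.Y u * a⁻¹ = S.Y (l⁻¹ ^ 2 * u))

theorem St.isD_hd (S : St K P) (t : K) (ht : t ≠ 0) : S.IsD (S.hd t) t :=
  ⟨ht, fun u => S.hd_conj_X t u ht, fun u => S.hd_conj_Y t u ht⟩

theorem St.isD_one (S : St K P) : S.IsD 1 1 := by
  refine ⟨one_ne_zero, fun u => ?_, fun u => ?_⟩
  · simp
  · simp

theorem St.IsD.mul {S : St K P} {a b : P} {l m : K} (ha : S.IsD a l) (hb : S.IsD b m) :
    S.IsD (a * b) (l * m) := by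
  refine ⟨mul_ne_zero ha.1 hb.1, fun u => ?_, fun u => ?_⟩
  · have e : a * b * S.X u * (a * b)⁻¹ = a * (b * S.X u * b⁻¹) * a⁻¹ := by group
    rw [e, hb.2.1, ha.2.1]; congr 1; ring
  · have e : a * b * S.Y u * (a * b)⁻¹ = a * (b * S.Y u * b⁻¹) * a⁻¹ := by group
    rw [e, hb.2.2, ha.2.2]; congr 1; rw [mul_inv]; ring

theorem St.IsD.inv {S : St K P} {a : P} {l : K} (ha : S.IsD a l) : S.IsD a⁻¹ l⁻¹ := by
  have hl := ha.1
  refine ⟨inv_ne_zero hl, fun u => ?_, fun u => ?_⟩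
  · have h := ha.2.1 (l⁻¹ ^ 2 * u)
    have e : l ^ 2 * (l⁻¹ ^ 2 * u) = u := by field_simp
    rw [e] at h
    rw [← h]; group
  · have h := ha.2.2 (l⁻¹⁻¹ ^ 2 * u)
    have e : l⁻¹ ^ 2 * (l⁻¹⁻¹ ^ 2 * u) = u := by rw [inv_inv]; field_simp
    rw [e] at h
    rw [← h]; group

theorem St.IsD.pow {S : St K P} {a : P} {l : K} (ha : S.IsD a l) (n : ℕ) :
    S.IsD (a ^ n) (l ^ n) := by
  induction n with
  | zero => rw [pow_zero, pow_zero]; exact S.isD_one
  | succ n ih => rw [pow_succ, pow_succ]; exact ih.mul ha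

theorem St.IsD.central {S : St K P} {a : P} (ha : S.IsD a 1)
    (hgen : Subgroup.closure (Set.range S.X ∪ Set.range S.Y) = ⊤) (g : P) :
    a * g = g * a := by
  have hle : Subgroup.closure (Set.range S.X ∪ Set.range S.Y) ≤ Subgroup.centralizer {a} := by
    rw [Subgroup.closure_le]
    rintro x (⟨u, rfl⟩ | ⟨u, rfl⟩)
    · rw [SetLike.mem_coe, Subgroup.mem_centralizer_iff]
      intro h hh
      rw [Set.mem_singleton_iff] at hh
      rw [hh]
      have h1 := ha.2.1 u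
      rw [one_pow, one_mul] at h1
      calc a * S.X u = (a * S.X u * a⁻¹) * a := by group
        _ = S.X u * a := by rw [h1]
    · rw [SetLike.mem_coe, Subgroup.mem_centralizer_iff]
      intro h hh
      rw [Set.mem_singleton_iff] at hh
      rw [hh]
      have h1 := ha.2.2 u
      rw [inv_one, one_pow, one_mul] at h1
      calc a * S.Y u = (a * S.Y u * a⁻¹) * a := by group
        _ = S.Y u * a := by rw [h1]
  have hg : g ∈ Subgroup.centralizer {a} := hle (by rw [hgen]; exact Subgroup.mem_top g)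
  exact (Subgroup.mem_centralizer_iff.mp hg) a rfl

/-- The "torus": the subgroup generated by the `hd t`. -/
def St.Hs (S : St K P) : Subgroup P := Subgroup.closure {x | ∃ t : K, t ≠ 0 ∧ x = S.hd t}

theorem St.hd_mem (S : St K P) (t : K) (ht : t ≠ 0) : S.hd t ∈ S.Hs :=
  Subgroup.subset_closure ⟨t, ht, rfl⟩

theorem St.exists_isD (S : St K P) (a : P) (ha : a ∈ S.Hs) : ∃ l, S.IsD a l := by
  unfold St.Hs at ha
  induction ha using Subgroup.closure_induction with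
  | mem x hx =>
    obtain ⟨t, ht, rfl⟩ := hx
    exact ⟨t, S.isD_hd t ht⟩
  | one => exact ⟨1, S.isD_one⟩
  | mul x y _ _ ihx ihy =>
    obtain ⟨l, hl⟩ := ihx
    obtain ⟨m, hm⟩ := ihy
    exact ⟨l * m, hl.mul hm⟩
  | inv x _ ih =>
    obtain ⟨l, hl⟩ := ih
    exact ⟨l⁻¹, hl.inv⟩

theorem St.Hs_comm [Finite K] (S : St K P)
    (hgen : Subgroup.closure (Set.range S.X ∪ Set.range S.Y) = ⊤) {a b : P}
    (ha : a ∈ S.Hs) (hb : b ∈ S.Hs) : a * b = b * a := by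
  obtain ⟨γ, hγ⟩ := IsCyclic.exists_monoid_generator (α := Kˣ)
  have key : ∀ c ∈ S.Hs, ∃ (z : P) (i : ℕ), (∀ g, z * g = g * z) ∧
      c = z * (S.hd (γ : K)) ^ i := by
    intro c hc
    obtain ⟨l, hl⟩ := S.exists_isD c hc
    obtain ⟨i, hi⟩ := (Submonoid.mem_powers_iff _ _).mp (hγ (Units.mk0 l hl.1))
    have hli : (γ : K) ^ i = l := by
      have h1 := congrArg Units.val hi
      rwa [Units.val_pow_eq_pow_val, Units.val_mk0] at h1
    have hg : S.IsD (S.hd (γ : K)) (γ : K) := S.isD_hd _ γ.ne_zero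
    have hz : S.IsD (c * ((S.hd (γ : K)) ^ i)⁻¹) (l * ((γ : K) ^ i)⁻¹) := hl.mul (hg.pow i).inv
    rw [hli, mul_inv_cancel₀ hl.1] at hz
    exact ⟨_, i, fun g => hz.central hgen g, (inv_mul_cancel_right c _).symm⟩
  obtain ⟨z, i, hz, hza⟩ := key a ha
  obtain ⟨z', j, hz', hzb⟩ := key b hb
  rw [hza, hzb]
  have c1 : Commute z (z' * S.hd (γ : K) ^ j) :=
    Commute.mul_right (hz z') (hz _)
  have c2 : Commute (S.hd (γ : K) ^ i) (z' * S.hd (γ : K) ^ j) :=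
    Commute.mul_right (Commute.symm (hz' _)) ((Commute.refl _).pow_pow i j)
  exact (Commute.mul_left c1 c2).eq

theorem St.hd_sq_mul [Finite K] (S : St K P)
    (hgen : Subgroup.closure (Set.range S.X ∪ Set.range S.Y) = ⊤) (t u : K)
    (ht : t ≠ 0) (hu : u ≠ 0) : S.hd (t ^ 2 * u) = S.hd (t ^ 2) * S.hd u := by
  have h := S.hd_conj_hd t u ht
  have hc := S.Hs_comm hgen (S.hd_mem t ht) (S.hd_mem u hu)
  have h2 : S.hd t * S.hd u * (S.hd t)⁻¹ = S.hd u := by rw [hc]; group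
  rw [h2] at h
  have hc2 := S.Hs_comm hgen (S.hd_mem (t ^ 2) (pow_ne_zero 2 ht)) (S.hd_mem u hu)
  rw [hc2, h]; group

theorem St.hd_mul_of_isSquare [Finite K] (S : St K P)
    (hgen : Subgroup.closure (Set.range S.X ∪ Set.range S.Y) = ⊤) (t u : K)
    (ht : t ≠ 0) (hu : u ≠ 0) (hsq : IsSquare t) : S.hd (t * u) = S.hd t * S.hd u := by
  obtain ⟨r, hr⟩ := hsq
  have hr0 : r ≠ 0 := fun h => ht (by rw [hr, h, mul_zero])
  have h := S.hd_sq_mul hgen r u hr0 hu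
  rw [pow_two, ← hr] at h; exact h

theorem St.hd_mul_of_isSquare' [Finite K] (S : St K P)
    (hgen : Subgroup.closure (Set.range S.X ∪ Set.range S.Y) = ⊤) (t u : K)
    (ht : t ≠ 0) (hu : u ≠ 0) (hsq : IsSquare u) : S.hd (t * u) = S.hd t * S.hd u := by
  rw [mul_comm t u, S.hd_mul_of_isSquare hgen u t hu ht hsq]
  exact S.Hs_comm hgen (S.hd_mem u hu) (S.hd_mem t ht)

theorem exists_sq_add_sq [Fintype K] (hch : ringChar K ≠ 2) (x : K) :
    ∃ a b : K, a ^ 2 + b ^ 2 = x := by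
  let f : K[X] := X ^ 2
  let g : K[X] := X ^ 2 - C x
  obtain ⟨a, b, hab⟩ : ∃ a b, f.eval a + g.eval b = 0 :=
    @FiniteField.exists_root_sum_quadratic _ _ _ _ f g (degree_X_pow 2)
      (degree_X_pow_sub_C (by decide) _) (FiniteField.odd_card_of_char_ne_two hch)
  refine ⟨a, b, ?_⟩
  rw [← sub_eq_zero]
  simpa only [f, g, eval_C, eval_X, eval_pow, eval_sub, ← add_sub_assoc] using hab

theorem St.hd_sq_of_not_isSquare [Fintype K] (S : St K P)
    (hgen : Subgroup.closure (Set.range S.X ∪ Set.range S.Y) = ⊤)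
    (hch : ringChar K ≠ 2) (v : K) (hv : ¬ IsSquare v) :
    S.hd (v ^ 2) = S.hd v * S.hd v := by
  have hv0 : v ≠ 0 := fun h => hv ⟨0, by rw [h, mul_zero]⟩
  obtain ⟨a, b, hab1⟩ := exists_sq_add_sq hch v⁻¹
  have hab' : v * a ^ 2 + v * b ^ 2 = 1 := by
    rw [← mul_add, hab1, mul_inv_cancel₀ hv0]
  have hsqv : ∀ c : K, v * c ^ 2 = 1 → False := by
    intro c hc
    apply hv
    refine ⟨c⁻¹, ?_⟩
    rw [← mul_inv, ← pow_two]
    exact eq_inv_of_mul_eq_one_left hc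
  have ha : a ≠ 0 := by
    rintro rfl
    apply hsqv b
    rw [← hab']; ring
  have hb : b ≠ 0 := by
    rintro rfl
    apply hsqv a
    rw [← hab']; ring
  have hT0 : v * a ^ 2 ≠ 0 := mul_ne_zero hv0 (pow_ne_zero 2 ha)
  have e1 : 1 - v * a ^ 2 = v * b ^ 2 := by linear_combination (-1 : K) * hab'
  have hT1 : v * a ^ 2 ≠ 1 := by
    intro h
    have h0 : v * b ^ 2 = 0 := by rw [← e1, h, sub_self]
    exact mul_ne_zero hv0 (pow_ne_zero 2 hb) h0
  have hst := S.hd_steinberg (v * a ^ 2) hT0 hT1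
  rw [e1] at hst
  have e2 : v * a ^ 2 * (v * b ^ 2) = (a * b) ^ 2 * v ^ 2 := by ring
  have e3 : v * a ^ 2 = a ^ 2 * v := mul_comm _ _
  have e4 : v * b ^ 2 = b ^ 2 * v := mul_comm _ _
  have hv2 : v ^ 2 ≠ 0 := pow_ne_zero 2 hv0
  rw [e2, e3, e4, S.hd_sq_mul hgen (a * b) (v ^ 2) (mul_ne_zero ha hb) hv2,
    S.hd_sq_mul hgen a v ha hv0, S.hd_sq_mul hgen b v hb hv0, mul_pow,
    S.hd_sq_mul hgen a (b ^ 2) ha (pow_ne_zero 2 hb)] at hst
  have hVB : S.hd v * S.hd (b ^ 2) = S.hd (b ^ 2) * S.hd v :=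
    S.Hs_comm hgen (S.hd_mem v hv0) (S.hd_mem _ (pow_ne_zero 2 hb))
  have hfin : S.hd (a ^ 2) * S.hd (b ^ 2) * S.hd (v ^ 2) =
      S.hd (a ^ 2) * S.hd (b ^ 2) * (S.hd v * S.hd v) := by
    rw [hst]
    calc S.hd (a ^ 2) * S.hd v * (S.hd (b ^ 2) * S.hd v)
        = S.hd (a ^ 2) * (S.hd v * S.hd (b ^ 2)) * S.hd v := by group
      _ = S.hd (a ^ 2) * (S.hd (b ^ 2) * S.hd v) * S.hd v := by rw [hVB]
      _ = S.hd (a ^ 2) * S.hd (b ^ 2) * (S.hd v * S.hd v) := by group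
  exact mul_left_cancel hfin

theorem St.hd_mul [Finite K] (S : St K P)
    (hgen : Subgroup.closure (Set.range S.X ∪ Set.range S.Y) = ⊤) (t u : K)
    (ht : t ≠ 0) (hu : u ≠ 0) : S.hd (t * u) = S.hd t * S.hd u := by
  by_cases hsqt : IsSquare t
  · exact S.hd_mul_of_isSquare hgen t u ht hu hsqt
  by_cases hsqu : IsSquare u
  · exact S.hd_mul_of_isSquare' hgen t u ht hu hsqu
  haveI : Fintype K := Fintype.ofFinite K
  have hch : ringChar K ≠ 2 := fun h2 => hsqt (FiniteField.isSquare_of_char_two h2 t)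
  have h1 := (FiniteField.pow_dichotomy hch ht).resolve_left
    (fun h => hsqt ((FiniteField.isSquare_iff hch ht).mpr h))
  have h2 := (FiniteField.pow_dichotomy hch hu).resolve_left
    (fun h => hsqu ((FiniteField.isSquare_iff hch hu).mpr h))
  have hsq : IsSquare (u * t⁻¹) := by
    rw [FiniteField.isSquare_iff hch (mul_ne_zero hu (inv_ne_zero ht)), mul_pow, inv_pow, h1, h2,
      inv_neg_one, neg_mul_neg, one_mul]
  obtain ⟨c, hc⟩ := hsq
  have hu' : u = c ^ 2 * t := by rw [pow_two, ← hc, inv_mul_cancel_right₀ ht]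
  have hc0 : c ≠ 0 := by
    rintro rfl
    apply hu
    rw [hu']; ring
  have e : t * u = c ^ 2 * t ^ 2 := by rw [hu']; ring
  have hcm := S.Hs_comm hgen (S.hd_mem t ht) (S.hd_mem (c ^ 2) (pow_ne_zero 2 hc0))
  rw [e, S.hd_sq_mul hgen c (t ^ 2) hc0 (pow_ne_zero 2 ht),
    S.hd_sq_of_not_isSquare hgen hch t hsqt, hu', S.hd_sq_mul hgen c t hc0 ht]
  calc S.hd (c ^ 2) * (S.hd t * S.hd t) = (S.hd (c ^ 2) * S.hd t) * S.hd t := by group
    _ = (S.hd t * S.hd (c ^ 2)) * S.hd t := by rw [hcm]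
    _ = S.hd t * (S.hd (c ^ 2) * S.hd t) := by group

theorem St.hd_inv [Finite K] (S : St K P)
    (hgen : Subgroup.closure (Set.range S.X ∪ Set.range S.Y) = ⊤) (t : K) (ht : t ≠ 0) :
    S.hd t⁻¹ = (S.hd t)⁻¹ := by
  apply eq_inv_of_mul_eq_one_left
  rw [← S.hd_mul hgen _ _ (inv_ne_zero ht) ht, inv_mul_cancel₀ ht, S.hd_one]

end Cfsg.Agent.Lib.Lead.St2A
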