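import Cfsg.Agent.Lib.Lead.St2B

set_option autoImplicit false

/-!
# Rank one Steinberg relations, abstractly (part C)

Normal form `X u * hd t` / `X u * w t * X v`, and: a homomorphism to `SL₂(K)` sending
`X t`, `Y t` to the elementary matrices is bijective.
-/

namespace Cfsg.Agent.Lib.Lead.St2A

variable {K : Type*} [Field K] {P : Type*} [Group P]

theorem mat2_ext {a b c d a' b' c' d' : K} (h1 : a = a') (h2 : b = b') (h3 : c = c')
    (h4 : d = d') : (!![a, b; c, d] : Matrix (Fin 2) (Fin 2) K) = !![a', b'; c', d'] := by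
  subst h1 h2 h3 h4; rfl

section abstract

variable [Finite K] (S : St K P)

theorem St.hd_neg_one_inv
    (hgen : Subgroup.closure (Set.range S.X ∪ Set.range S.Y) = ⊤) :
    (S.hd (-1))⁻¹ = S.hd (-1) := by
  have h := S.hd_inv hgen (-1) (neg_ne_zero.mpr one_ne_zero)
  rw [inv_neg_one] at h
  exact h.symm

theorem St.w_mul_w
    (hgen : Subgroup.closure (Set.range S.X ∪ Set.range S.Y) = ⊤) (t r : K)
    (ht : t ≠ 0) (hr : r ≠ 0) : S.w t * S.w r = S.hd (t * r⁻¹ * (-1)) := by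
  have hr' : r⁻¹ ≠ 0 := inv_ne_zero hr
  calc S.w t * S.w r = S.hd t * (S.w 1 * S.hd r * (S.w 1)⁻¹) * (S.w 1 * S.w 1) := by
        rw [← S.hd_mul_w_one t, ← S.hd_mul_w_one r]; group
    _ = S.hd t * S.hd r⁻¹ * S.hd (-1) := by
        rw [S.w_one_conj_hd r hr, S.w_one_sq, S.hd_neg_one_inv hgen]
    _ = S.hd (t * r⁻¹ * (-1)) := by
        rw [S.hd_mul hgen _ _ (mul_ne_zero ht hr') (neg_ne_zero.mpr one_ne_zero),
          S.hd_mul hgen _ _ ht hr']

theorem St.w_mul_w_mul_w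
    (hgen : Subgroup.closure (Set.range S.X ∪ Set.range S.Y) = ⊤) (t v r : K)
    (ht : t ≠ 0) (hv : v ≠ 0) (hr : r ≠ 0) :
    S.w t * S.w v * S.w r = S.w (t * v⁻¹ * (-1) * r) := by
  have h0 : t * v⁻¹ * (-1) ≠ 0 :=
    mul_ne_zero (mul_ne_zero ht (inv_ne_zero hv)) (neg_ne_zero.mpr one_ne_zero)
  rw [S.w_mul_w hgen t v ht hv, ← S.hd_mul_w_one r, ← mul_assoc, ← S.hd_mul hgen _ _ h0 hr,
    S.hd_mul_w_one]

omit [Finite K] in
theorem St.X_eq' (v : K) (hv : v ≠ 0) : S.X v = S.Y v⁻¹ * S.w v * S.Y v⁻¹ := by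
  have h := S.X_eq (-v) (neg_ne_zero.mpr hv)
  simp only [inv_neg, neg_neg] at h
  exact h

/-- The Bruhat normal form. -/
def St.NF (g : P) : Prop :=
  (∃ u t : K, t ≠ 0 ∧ g = S.X u * S.hd t) ∨ (∃ u t v : K, t ≠ 0 ∧ g = S.X u * S.w t * S.X v)

omit [Finite K] in
theorem St.NF_one : S.NF 1 :=
  Or.inl ⟨0, 1, one_ne_zero, by rw [S.X_zero, S.hd_one, one_mul]⟩

omit [Finite K] in
theorem St.NF_mul_X (g : P) (hg : S.NF g) (s : K) : S.NF (g * S.X s) := by
  rcases hg with ⟨u, t, ht, rfl⟩ | ⟨u, t, v, ht, rfl⟩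
  · refine Or.inl ⟨u + t ^ 2 * s, t, ht, ?_⟩
    have h := S.hd_conj_X t s ht
    rw [← S.X_add, ← h]; group
  · refine Or.inr ⟨u, t, v + s, ht, ?_⟩
    rw [← S.X_add]; group

theorem St.NF_mul_w
    (hgen : Subgroup.closure (Set.range S.X ∪ Set.range S.Y) = ⊤) (g : P) (hg : S.NF g)
    (r : K) (hr : r ≠ 0) : S.NF (g * S.w r) := by
  rcases hg with ⟨u, t, ht, rfl⟩ | ⟨u, t, v, ht, rfl⟩
  · refine Or.inr ⟨u, t * r, 0, mul_ne_zero ht hr, ?_⟩
    rw [S.X_zero, mul_one, ← S.hd_mul_w_one (t * r), S.hd_mul hgen t r ht hr,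
      ← S.hd_mul_w_one r]
    group
  · by_cases hv : v = 0
    · subst hv
      refine Or.inl ⟨u, t * r⁻¹ * (-1),
        mul_ne_zero (mul_ne_zero ht (inv_ne_zero hr)) (neg_ne_zero.mpr one_ne_zero), ?_⟩
      rw [S.X_zero, mul_one, mul_assoc, S.w_mul_w hgen t r ht hr]
    · have h1 := S.w_conj_Y t v⁻¹ ht
      have h2 := S.w_conj_Y (-r) v⁻¹ (neg_ne_zero.mpr hr)
      rw [S.w_neg, inv_inv] at h2
      have h3 := S.w_mul_w_mul_w hgen t v r ht hv hr
      have h0 : t * v⁻¹ * (-1) * r ≠ 0 :=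
        mul_ne_zero (mul_ne_zero (mul_ne_zero ht (inv_ne_zero hv))
          (neg_ne_zero.mpr one_ne_zero)) hr
      refine Or.inr ⟨u + -(t ^ 2 * v⁻¹), t * v⁻¹ * (-1) * r, -((-r) ^ 2 * v⁻¹), h0, ?_⟩
      rw [← S.X_add, ← h1, ← h2, ← h3, S.X_eq' v hv]; group

theorem St.NF_mul_Y
    (hgen : Subgroup.closure (Set.range S.X ∪ Set.range S.Y) = ⊤) (g : P) (hg : S.NF g)
    (s : K) : S.NF (g * S.Y s) := by
  have h := S.w_one_conj_X (-s)
  rw [neg_neg] at h
  rw [← h, ← S.w_neg 1]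
  have h1 := S.NF_mul_w hgen g hg 1 one_ne_zero
  have h2 := S.NF_mul_X _ h1 (-s)
  have h3 := S.NF_mul_w hgen _ h2 (-1) (neg_ne_zero.mpr one_ne_zero)
  have e : g * (S.w 1 * S.X (-s) * S.w (-1)) = g * S.w 1 * S.X (-s) * S.w (-1) := by group
  rw [e]; exact h3

theorem St.NF_all
    (hgen : Subgroup.closure (Set.range S.X ∪ Set.range S.Y) = ⊤) (g : P) : S.NF g := by
  have hg : g ∈ Subgroup.closure (Set.range S.X ∪ Set.range S.Y) := by
    rw [hgen]; exact Subgroup.mem_top g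
  induction hg using Subgroup.closure_induction_right with
  | one => exact S.NF_one
  | mul_right x hx y hy ih =>
    rcases hy with ⟨s, rfl⟩ | ⟨s, rfl⟩
    · exact S.NF_mul_X x ih s
    · exact S.NF_mul_Y hgen x ih s
  | mul_inv_cancel x hx y hy ih =>
    rcases hy with ⟨s, rfl⟩ | ⟨s, rfl⟩
    · rw [← S.X_neg]; exact S.NF_mul_X x ih (-s)
    · rw [← S.Y_neg]; exact S.NF_mul_Y hgen x ih (-s)

end abstract

section matrices

variable (S : St K P) (π : P →* Matrix.SpecialLinearGroup (Fin 2) K)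
  (hX : ∀ t : K, ((π (S.X t) : Matrix.SpecialLinearGroup (Fin 2) K) :
    Matrix (Fin 2) (Fin 2) K) = !![1, t; 0, 1])
  (hY : ∀ t : K, ((π (S.Y t) : Matrix.SpecialLinearGroup (Fin 2) K) :
    Matrix (Fin 2) (Fin 2) K) = !![1, 0; t, 1])

include hX hY in
theorem pi_w (t : K) (ht : t ≠ 0) :
    ((π (S.w t) : Matrix.SpecialLinearGroup (Fin 2) K) : Matrix (Fin 2) (Fin 2) K) =
      !![0, t; -t⁻¹, 0] := by
  unfold St.w
  rw [map_mul, map_mul, Matrix.SpecialLinearGroup.coe_mul, Matrix.SpecialLinearGroup.coe_mul,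
    hX, hY, Matrix.mul_fin_two, Matrix.mul_fin_two]
  apply mat2_ext <;> (try field_simp) <;> (try ring)

include hX hY in
theorem pi_hd (t : K) (ht : t ≠ 0) :
    ((π (S.hd t) : Matrix.SpecialLinearGroup (Fin 2) K) : Matrix (Fin 2) (Fin 2) K) =
      !![t, 0; 0, t⁻¹] := by
  have e : S.hd t = S.w t * S.w (-1) := by unfold St.hd; rw [S.w_neg]
  rw [e, map_mul, Matrix.SpecialLinearGroup.coe_mul, pi_w S π hX hY t ht,
    pi_w S π hX hY (-1) (neg_ne_zero.mpr one_ne_zero), Matrix.mul_fin_two, inv_neg_one, neg_neg]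
  apply mat2_ext <;> (try field_simp) <;> (try ring)

include hX hY in
theorem pi_injective [Finite K]
    (hgen : Subgroup.closure (Set.range S.X ∪ Set.range S.Y) = ⊤) : Function.Injective π := by
  rw [injective_iff_map_eq_one]
  intro g hg
  have hm : ((π g : Matrix.SpecialLinearGroup (Fin 2) K) : Matrix (Fin 2) (Fin 2) K) = 1 := by
    rw [hg]; rfl
  rcases S.NF_all hgen g with ⟨u, t, ht, rfl⟩ | ⟨u, t, v, ht, rfl⟩
  · rw [map_mul, Matrix.SpecialLinearGroup.coe_mul, hX, pi_hd S π hX hY t ht,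
      Matrix.mul_fin_two, Matrix.one_fin_two] at hm
    have h00 : t = 1 := by
      have h := congrFun (congrFun hm 0) 0
      simpa using h
    subst h00
    have h01 : u = 0 := by
      have h := congrFun (congrFun hm 0) 1
      simpa using h
    subst h01
    rw [S.X_zero, S.hd_one, one_mul]
  · exfalso
    rw [map_mul, map_mul, Matrix.SpecialLinearGroup.coe_mul, Matrix.SpecialLinearGroup.coe_mul,
      hX, hX, pi_w S π hX hY t ht, Matrix.mul_fin_two, Matrix.mul_fin_two,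
      Matrix.one_fin_two] at hm
    have h10 : t = 0 := by
      have h := congrFun (congrFun hm 1) 0
      simpa using h
    exact ht h10

theorem surj_aux (a b c d : K) (hc : c ≠ 0) (hdet : a * d - b * c = 1) :
    (!![1, (a - 1) / c; 0, 1] : Matrix (Fin 2) (Fin 2) K) * !![1, 0; c, 1] *
      !![1, (d - 1) / c; 0, 1] = !![a, b; c, d] := by
  have hb : b = (a * d - 1) / c := eq_div_of_mul_eq hc (by linear_combination (-1 : K) * hdet)
  rw [Matrix.mul_fin_two, Matrix.mul_fin_two, hb]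
  apply mat2_ext <;> (try field_simp) <;> (try ring)

include hX hY in
theorem pi_surjective : Function.Surjective π := by
  have hdet : ∀ M : Matrix.SpecialLinearGroup (Fin 2) K,
      (M : Matrix (Fin 2) (Fin 2) K) 0 0 * (M : Matrix (Fin 2) (Fin 2) K) 1 1 -
      (M : Matrix (Fin 2) (Fin 2) K) 0 1 * (M : Matrix (Fin 2) (Fin 2) K) 1 0 = 1 := by
    intro M
    rw [← Matrix.det_fin_two]; exact M.2
  have key : ∀ M : Matrix.SpecialLinearGroup (Fin 2) K,
      (M : Matrix (Fin 2) (Fin 2) K) 1 0 ≠ 0 → ∃ g, π g = M := by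
    intro M hc
    refine ⟨S.X (((M : Matrix (Fin 2) (Fin 2) K) 0 0 - 1) / (M : Matrix (Fin 2) (Fin 2) K) 1 0) *
      S.Y ((M : Matrix (Fin 2) (Fin 2) K) 1 0) *
      S.X (((M : Matrix (Fin 2) (Fin 2) K) 1 1 - 1) / (M : Matrix (Fin 2) (Fin 2) K) 1 0), ?_⟩
    apply Subtype.ext
    refine Eq.trans ?_ (Matrix.eta_fin_two (M : Matrix (Fin 2) (Fin 2) K)).symm
    rw [map_mul, map_mul, Matrix.SpecialLinearGroup.coe_mul, Matrix.SpecialLinearGroup.coe_mul,
      hX, hY, hX]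
    exact surj_aux _ _ _ _ hc (hdet M)
  intro M
  by_cases hc : (M : Matrix (Fin 2) (Fin 2) K) 1 0 = 0
  · have hd : (M : Matrix (Fin 2) (Fin 2) K) 1 1 ≠ 0 := by
      intro h
      have h2 := hdet M
      rw [hc, h, mul_zero, mul_zero, sub_zero] at h2
      exact zero_ne_one h2
    have h1 : ((M * π (S.Y 1) : Matrix.SpecialLinearGroup (Fin 2) K) :
        Matrix (Fin 2) (Fin 2) K) 1 0 = (M : Matrix (Fin 2) (Fin 2) K) 1 1 := by
      rw [Matrix.SpecialLinearGroup.coe_mul, hY, Matrix.mul_apply, Fin.sum_univ_two, hc]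
      simp
    obtain ⟨g, hg⟩ := key (M * π (S.Y 1)) (by rw [h1]; exact hd)
    exact ⟨g * (S.Y 1)⁻¹, by rw [map_mul, map_inv, hg, mul_inv_cancel_right]⟩
  · exact key M hc

include hX hY in
theorem pi_bijective [Finite K]
    (hgen : Subgroup.closure (Set.range S.X ∪ Set.range S.Y) = ⊤) : Function.Bijective π :=
  ⟨pi_injective S π hX hY hgen, pi_surjective S π hX hY⟩

end matrices

end Cfsg.Agent.Lib.Lead.St2A
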