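import Cfsg.Agent.Lib.Lead.St2D

set_option autoImplicit false

/-!
# Groups generated by a rank one Steinberg datum over a finite field (part E)

If `S : St K G` (finite field `K`) is non-degenerate, the subgroup generated by the `S.X t`, `S.Y t`
is isomorphic to `SL₂(K)` or `PSL₂(K)`.
-/

namespace Cfsg.Agent.Lib.Lead.St2A

variable {K : Type*} [Field K] {P : Type*} [Group P]

/-! ### The homomorphism from the presented group -/

def St.fl (S : St K P) (q : Bool × K) : P := cond q.1 (S.X q.2) (S.Y q.2)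

theorem St.fl_rels (S : St K P) : ∀ r ∈ rels K, FreeGroup.lift S.fl r = 1 := by
  rintro r (⟨b, t, u, rfl⟩ | ⟨b, t, u, ht, rfl⟩)
  · simp only [map_mul, map_inv, FreeGroup.lift_apply_of]
    cases b
    · exact mul_inv_eq_one.mpr (S.Y_add t u)
    · exact mul_inv_eq_one.mpr (S.X_add t u)
  · simp only [map_mul, map_inv, FreeGroup.lift_apply_of]
    cases b
    · exact mul_inv_eq_one.mpr (S.relY t u ht)
    · exact mul_inv_eq_one.mpr (S.relX t u ht)

def St.lift (S : St K P) : PresentedGroup (rels K) →* P := PresentedGroup.toGroup S.fl_rels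

theorem St.lift_X (S : St K P) (t : K) : S.lift (PresentedGroup.of (true, t)) = S.X t :=
  PresentedGroup.toGroup.of S.fl_rels

theorem St.lift_Y (S : St K P) (t : K) : S.lift (PresentedGroup.of (false, t)) = S.Y t :=
  PresentedGroup.toGroup.of S.fl_rels

theorem exists_psi [Finite K] (S : St K P) :
    ∃ Ψ : Matrix.SpecialLinearGroup (Fin 2) K →* P, (∀ t, Ψ (Xm t) = S.X t) ∧
      (∀ t, Ψ (Ym t) = S.Y t) ∧
      Ψ.range = Subgroup.closure (Set.range S.X ∪ Set.range S.Y) := by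
  obtain ⟨e, he1, he2⟩ := steinberg_presentation_SL2 K
  have h1 : ∀ t, e (PresentedGroup.of (true, t)) = Xm t := fun t => Subtype.ext (he1 t)
  have h2 : ∀ t, e (PresentedGroup.of (false, t)) = Ym t := fun t => Subtype.ext (he2 t)
  refine ⟨S.lift.comp e.symm.toMonoidHom, ?_, ?_, ?_⟩
  · intro t
    rw [← h1 t]
    show S.lift (e.symm (e (PresentedGroup.of (true, t)))) = _
    rw [e.symm_apply_apply]; exact S.lift_X t
  · intro t
    rw [← h2 t]
    show S.lift (e.symm (e (PresentedGroup.of (false, t)))) = _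
    rw [e.symm_apply_apply]; exact S.lift_Y t
  · have hr : (S.lift.comp e.symm.toMonoidHom).range = S.lift.range := by
      rw [MonoidHom.range_comp, MonoidHom.range_eq_top_of_surjective _ e.symm.surjective,
        ← MonoidHom.range_eq_map]
    rw [hr, MonoidHom.range_eq_map, ← PresentedGroup.closure_range_of (rels K),
      MonoidHom.map_closure]
    congr 1
    ext x
    constructor
    · rintro ⟨_, ⟨⟨b, t⟩, rfl⟩, rfl⟩
      cases b
      · exact Or.inr ⟨t, (S.lift_Y t).symm⟩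
      · exact Or.inl ⟨t, (S.lift_X t).symm⟩
    · rintro (⟨t, rfl⟩ | ⟨t, rfl⟩)
      · exact ⟨_, ⟨(true, t), rfl⟩, S.lift_X t⟩
      · exact ⟨_, ⟨(false, t), rfl⟩, S.lift_Y t⟩

/-! ### Matrix lemmas -/

theorem Xm_zero : Xm (0 : K) = 1 := by
  apply Subtype.ext
  rw [Xm_val, Matrix.SpecialLinearGroup.coe_one, Matrix.one_fin_two]

theorem Ym_zero : Ym (0 : K) = 1 := by
  apply Subtype.ext
  rw [Ym_val, Matrix.SpecialLinearGroup.coe_one, Matrix.one_fin_two]

theorem Xm_neg (t : K) : Xm (-t) = (Xm t)⁻¹ := by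
  apply eq_inv_of_mul_eq_one_left
  rw [Xm_add, neg_add_cancel, Xm_zero]

theorem Ym_neg (t : K) : Ym (-t) = (Ym t)⁻¹ := by
  apply eq_inv_of_mul_eq_one_left
  rw [Ym_add, neg_add_cancel, Ym_zero]

theorem mat2_00 (a b c d : K) : (!![a, b; c, d] : Matrix (Fin 2) (Fin 2) K) 0 0 = a := rfl
theorem mat2_01 (a b c d : K) : (!![a, b; c, d] : Matrix (Fin 2) (Fin 2) K) 0 1 = b := rfl
theorem mat2_10 (a b c d : K) : (!![a, b; c, d] : Matrix (Fin 2) (Fin 2) K) 1 0 = c := rfl
theorem mat2_11 (a b c d : K) : (!![a, b; c, d] : Matrix (Fin 2) (Fin 2) K) 1 1 = d := rfl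

/-- `-1` in `SL₂(K)`. -/
def negOne : Matrix.SpecialLinearGroup (Fin 2) K :=
  ⟨!![-1, 0; 0, -1], by rw [Matrix.det_fin_two_of]; ring⟩

theorem exists_entries (g : Matrix.SpecialLinearGroup (Fin 2) K) :
    ∃ α β γ δ : K, (g : Matrix (Fin 2) (Fin 2) K) = !![α, β; γ, δ] ∧ α * δ - β * γ = 1 := by
  refine ⟨_, _, _, _, Matrix.eta_fin_two (g : Matrix (Fin 2) (Fin 2) K), ?_⟩
  rw [← Matrix.det_fin_two]; exact g.2

theorem eq_one_or_negOne (g : Matrix.SpecialLinearGroup (Fin 2) K) (α : K)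
    (e : (g : Matrix (Fin 2) (Fin 2) K) = !![α, 0; 0, α]) (hdet : α * α = 1) :
    g = 1 ∨ g = negOne := by
  have h2 : (α - 1) * (α + 1) = 0 := by linear_combination hdet
  rcases mul_eq_zero.mp h2 with h | h
  · left
    apply Subtype.ext
    rw [e, sub_eq_zero.mp h, Matrix.SpecialLinearGroup.coe_one, Matrix.one_fin_two]
  · right
    apply Subtype.ext
    rw [e, eq_neg_of_add_eq_zero_left h]
    rfl

theorem negOne_mem_center : (negOne : Matrix.SpecialLinearGroup (Fin 2) K) ∈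
    Subgroup.center (Matrix.SpecialLinearGroup (Fin 2) K) := by
  rw [Subgroup.mem_center_iff]
  intro M
  obtain ⟨α, β, γ, δ, e, -⟩ := exists_entries M
  apply Subtype.ext
  rw [Matrix.SpecialLinearGroup.coe_mul, Matrix.SpecialLinearGroup.coe_mul, e]
  show (!![α, β; γ, δ] : Matrix (Fin 2) (Fin 2) K) * !![-1, 0; 0, -1] =
    !![-1, 0; 0, -1] * !![α, β; γ, δ]
  rw [Matrix.mul_fin_two, Matrix.mul_fin_two]
  apply mat2_ext <;> ring

theorem center_cases (g : Matrix.SpecialLinearGroup (Fin 2) K)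
    (hg : g ∈ Subgroup.center (Matrix.SpecialLinearGroup (Fin 2) K)) : g = 1 ∨ g = negOne := by
  rw [Subgroup.mem_center_iff] at hg
  obtain ⟨α, β, γ, δ, e, hdet⟩ := exists_entries g
  have h1 := congrArg Subtype.val (hg (Xm 1))
  have h2 := congrArg Subtype.val (hg (Ym 1))
  rw [Matrix.SpecialLinearGroup.coe_mul, Matrix.SpecialLinearGroup.coe_mul, e, Xm_val,
    Matrix.mul_fin_two, Matrix.mul_fin_two] at h1
  rw [Matrix.SpecialLinearGroup.coe_mul, Matrix.SpecialLinearGroup.coe_mul, e, Ym_val,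
    Matrix.mul_fin_two, Matrix.mul_fin_two] at h2
  have h100 := congrFun (congrFun h1 0) 0
  have h101 := congrFun (congrFun h1 0) 1
  have h200 := congrFun (congrFun h2 0) 0
  rw [mat2_00, mat2_00] at h100 h200
  rw [mat2_01, mat2_01] at h101
  have hγ : γ = 0 := by linear_combination h100
  have hd : δ = α := by linear_combination h101
  have hβ : β = 0 := by linear_combination (-1 : K) * h200
  rw [hγ, hβ, hd] at e
  rw [hγ, hβ, hd, mul_zero, sub_zero] at hdet
  exact eq_one_or_negOne g α e hdet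

/-! ### The kernel -/

theorem conj_identity (α β γ δ r : K) (hα : α = r * γ) (hdet : α * δ - β * γ = 1) :
    (!![α, β; γ, δ] : Matrix (Fin 2) (Fin 2) K) * !![1, 1; 0, 1] =
      !![1, r; 0, 1] * !![1, 0; -γ ^ 2, 1] * !![1, -r; 0, 1] * !![α, β; γ, δ] := by
  subst hα
  rw [Matrix.mul_fin_two, Matrix.mul_fin_two, Matrix.mul_fin_two, Matrix.mul_fin_two]
  apply mat2_ext
  · ring
  · linear_combination (-(r * γ)) * hdet
  · ring
  · linear_combination (-γ) * hdet

theorem conj_identity' (α β γ δ r : K) (hδ : δ = r * β) (hdet : α * δ - β * γ = 1) :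
    (!![α, β; γ, δ] : Matrix (Fin 2) (Fin 2) K) * !![1, 0; 1, 1] =
      !![1, 0; r, 1] * !![1, -β ^ 2; 0, 1] * !![1, 0; -r, 1] * !![α, β; γ, δ] := by
  subst hδ
  rw [Matrix.mul_fin_two, Matrix.mul_fin_two, Matrix.mul_fin_two, Matrix.mul_fin_two]
  apply mat2_ext
  · linear_combination (-β) * hdet
  · ring
  · linear_combination (-(r * β)) * hdet
  · ring

section kernel

variable {G : Type*} [Group G] (Ψ : Matrix.SpecialLinearGroup (Fin 2) K →* G)
  (hA : ∀ r s : K, Ψ (Xm r) * Ψ (Ym s) * (Ψ (Xm r))⁻¹ ≠ Ψ (Xm 1))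
  (hB : ∀ r s : K, Ψ (Ym r) * Ψ (Xm s) * (Ψ (Ym r))⁻¹ ≠ Ψ (Ym 1))

include hA in
theorem low_zero (g : Matrix.SpecialLinearGroup (Fin 2) K) (hg : Ψ g = 1) (α β γ δ : K)
    (e : (g : Matrix (Fin 2) (Fin 2) K) = !![α, β; γ, δ]) (hdet : α * δ - β * γ = 1) :
    γ = 0 := by
  by_contra hγ
  have hr : α = α / γ * γ := by field_simp
  have hM : g * Xm 1 = (Xm (α / γ) * Ym (-γ ^ 2) * Xm (-(α / γ))) * g := by
    apply Subtype.ext
    rw [Matrix.SpecialLinearGroup.coe_mul, Matrix.SpecialLinearGroup.coe_mul,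
      Matrix.SpecialLinearGroup.coe_mul, Matrix.SpecialLinearGroup.coe_mul, Xm_val, Xm_val,
      Xm_val, Ym_val, e]
    exact conj_identity α β γ δ (α / γ) hr hdet
  have h2 := congrArg Ψ hM
  simp only [map_mul, hg, one_mul, mul_one] at h2
  rw [Xm_neg, map_inv] at h2
  exact hA _ _ h2.symm

include hB in
theorem up_zero (g : Matrix.SpecialLinearGroup (Fin 2) K) (hg : Ψ g = 1) (α β γ δ : K)
    (e : (g : Matrix (Fin 2) (Fin 2) K) = !![α, β; γ, δ]) (hdet : α * δ - β * γ = 1) :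
    β = 0 := by
  by_contra hβ
  have hr : δ = δ / β * β := by field_simp
  have hM : g * Ym 1 = (Ym (δ / β) * Xm (-β ^ 2) * Ym (-(δ / β))) * g := by
    apply Subtype.ext
    rw [Matrix.SpecialLinearGroup.coe_mul, Matrix.SpecialLinearGroup.coe_mul,
      Matrix.SpecialLinearGroup.coe_mul, Matrix.SpecialLinearGroup.coe_mul, Ym_val, Ym_val,
      Ym_val, Xm_val, e]
    exact conj_identity' α β γ δ (δ / β) hr hdet
  have h2 := congrArg Ψ hM
  simp only [map_mul, hg, one_mul, mul_one] at h2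
  rw [Ym_neg, map_inv] at h2
  exact hB _ _ h2.symm

include hA hB in
theorem ker_cases (g : Matrix.SpecialLinearGroup (Fin 2) K) (hg : Ψ g = 1) :
    g = 1 ∨ g = negOne := by
  obtain ⟨α, β, γ, δ, e, hdet⟩ := exists_entries g
  have hγ := low_zero Ψ hA g hg α β γ δ e hdet
  have hβ := up_zero Ψ hB g hg α β γ δ e hdet
  subst hγ hβ
  -- conjugate by `Xm 1`
  have hg' : Ψ (Xm 1 * g * Xm (-1)) = 1 := by
    rw [map_mul, map_mul, hg, mul_one, ← map_mul, Xm_add, add_neg_cancel, Xm_zero, map_one]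
  have e' : ((Xm 1 * g * Xm (-1) : Matrix.SpecialLinearGroup (Fin 2) K) :
      Matrix (Fin 2) (Fin 2) K) = !![1 * α + 1 * 0, (1 * α + 1 * 0) * -1 + (1 * 0 + 1 * δ) * 1;
        0 * α + 1 * 0, (0 * α + 1 * 0) * -1 + (0 * 0 + 1 * δ) * 1] := by
    rw [Matrix.SpecialLinearGroup.coe_mul, Matrix.SpecialLinearGroup.coe_mul, Xm_val, Xm_val, e,
      Matrix.mul_fin_two, Matrix.mul_fin_two]
    apply mat2_ext <;> ring
  obtain ⟨α', β', γ', δ', e'', hdet'⟩ := exists_entries (Xm 1 * g * Xm (-1))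
  have hβ' := up_zero Ψ hB _ hg' α' β' γ' δ' e'' hdet'
  have h01 : β' = (1 * α + 1 * 0) * -1 + (1 * 0 + 1 * δ) * 1 := by
    have h3 := e''.symm.trans e'
    have h4 := congrFun (congrFun h3 0) 1
    rw [mat2_01, mat2_01] at h4
    exact h4
  have hd : δ = α := by rw [hβ'] at h01; linear_combination (-1 : K) * h01
  subst hd
  rw [mul_zero, sub_zero] at hdet
  exact eq_one_or_negOne g δ e hdet

end kernel

/-! ### The main theorem -/

theorem sl2_or_psl2 [Finite K] {G : Type*} [Group G] (S : St K G)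
    (hA : ∀ r s : K, S.X r * S.Y s * (S.X r)⁻¹ ≠ S.X 1)
    (hB : ∀ r s : K, S.Y r * S.X s * (S.Y r)⁻¹ ≠ S.Y 1) :
    Nonempty (↥(Subgroup.closure (Set.range S.X ∪ Set.range S.Y)) ≃*
        Matrix.SpecialLinearGroup (Fin 2) K) ∨
      Nonempty (↥(Subgroup.closure (Set.range S.X ∪ Set.range S.Y)) ≃*
        Matrix.ProjectiveSpecialLinearGroup (Fin 2) K) := by
  obtain ⟨Ψ, hΨX, hΨY, hrange⟩ := exists_psi S
  have hker : ∀ g, Ψ g = 1 → g = 1 ∨ g = negOne :=
    ker_cases Ψ (by intro r s; rw [hΨX, hΨY, hΨX]; exact hA r s)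
      (by intro r s; rw [hΨY, hΨX, hΨY]; exact hB r s)
  by_cases hinj : Function.Injective Ψ
  · left
    exact ⟨((MonoidHom.ofInjective hinj).trans (MulEquiv.subgroupCongr hrange)).symm⟩
  · right
    have hneg : Ψ negOne = 1 := by
      by_contra hne
      apply hinj
      rw [injective_iff_map_eq_one]
      intro g hg
      rcases hker g hg with h | h
      · exact h
      · rw [h] at hg; exact absurd hg hne
    have hk : Ψ.ker = Subgroup.center (Matrix.SpecialLinearGroup (Fin 2) K) := by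
      ext g
      rw [MonoidHom.mem_ker]
      constructor
      · intro hg
        rcases hker g hg with h | h
        · rw [h]; exact one_mem _
        · rw [h]; exact negOne_mem_center
      · intro hg
        rcases center_cases g hg with h | h
        · rw [h, map_one]
        · rw [h]; exact hneg
    exact ⟨(MulEquiv.subgroupCongr hrange.symm).trans
      ((QuotientGroup.quotientKerEquivRange Ψ).symm.trans
        (QuotientGroup.quotientMulEquivOfEq hk))⟩

end Cfsg.Agent.Lib.Lead.St2A
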