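import Mathlib
import Cfsg.Prelude.Def_Solvable
import Cfsg.Agent.Lib.Helper1.Subnormal
import Cfsg.Agent.Lib.Helper1.SubnormalPCore
import Cfsg.Agent.Lib.Helper1.PCore

/-! Subnormalizers of `p`-subgroups: `H` is subnormal in `⟨H, g⟩` iff `g` normalizes a radical
`p`-subgroup containing `H`. -/
set_option autoImplicit false
open Cfsg

namespace Cfsg.Agent.Lib.Lead.Subnz

open Cfsg.Agent.Lib.Helper1

variable {G : Type*} [Group G] [Finite G] {p : ℕ} [hp : Fact p.Prime]

/-- the image in `G` of `O_p` of a subgroup -/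
def coreOf (p : ℕ) (X : Subgroup G) : Subgroup G := (Cfsg.pCore p ↥X).map X.subtype

theorem coreOf_isPGroup (X : Subgroup G) : IsPGroup p (coreOf p X) :=
  (pCore_isPGroup p).map _

omit [Finite G] in
theorem mem_normalizer_of_normal' {X : Type*} [Group X] (N : Subgroup X) [hN : N.Normal] (x : X) :
    x ∈ Subgroup.normalizer (N : Set X) := by
  rw [Subgroup.mem_normalizer_iff]
  intro h
  constructor
  · intro hh
    exact hN.conj_mem h hh x
  · intro hh
    have := hN.conj_mem _ hh x⁻¹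
    simpa [mul_assoc] using this

omit [Finite G] hp in
theorem le_normalizer_coreOf (X : Subgroup G) :
    X ≤ Subgroup.normalizer (coreOf p X : Set G) := by
  intro x hx
  have h := Subgroup.le_normalizer_map (H := Cfsg.pCore p ↥X) X.subtype
  haveI := Cfsg.Agent.Lib.Helper1.pCore_normal (G := ↥X) p
  exact h (Subgroup.mem_map.mpr ⟨⟨x, hx⟩, mem_normalizer_of_normal' _ _, rfl⟩)

theorem sn_iff {K X : Subgroup G} (hK : IsPGroup p K) :
    (K.subgroupOf X).IsSubnormal ↔ K.subgroupOf X ≤ Cfsg.pCore p ↥X := by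
  constructor
  · intro h
    exact le_pCore_of_isSubnormal_of_isPGroup h (hK.comap_subtype : IsPGroup p ↥(K.subgroupOf X))
  · intro h
    have hO : (Cfsg.pCore p ↥X).IsSubnormal :=
      (Cfsg.Agent.Lib.Helper1.pCore_normal (G := ↥X) p).isSubnormal
    haveI : Group.IsNilpotent ↥(Cfsg.pCore p ↥X) := (pCore_isPGroup p).isNilpotent
    have h2 := (isNilpotent_iff_forall_isSubnormal (G := ↥(Cfsg.pCore p ↥X))).mp inferInstance
      ((K.subgroupOf X).subgroupOf (Cfsg.pCore p ↥X))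
    exact Subgroup.IsSubnormal.trans h h2 hO

theorem sn_of_le {K R : Subgroup G} {g : G} (hR : IsPGroup p R) (hKR : K ≤ R)
    (hg : g ∈ Subgroup.normalizer (R : Set G)) :
    (K.subgroupOf (K ⊔ Subgroup.zpowers g)).IsSubnormal := by
  have hK : IsPGroup p K := hR.to_le hKR
  rw [sn_iff hK]
  have hX : K ⊔ Subgroup.zpowers g ≤ Subgroup.normalizer (R : Set G) := by
    apply sup_le (hKR.trans Subgroup.le_normalizer)
    rw [Subgroup.zpowers_le]; exact hg
  have hn : (R.subgroupOf (K ⊔ Subgroup.zpowers g)).Normal :=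
    Subgroup.normal_subgroupOf_of_le_normalizer hX
  have hp' : IsPGroup p (R.subgroupOf (K ⊔ Subgroup.zpowers g)) := hR.comap_subtype
  have h1 : R.subgroupOf (K ⊔ Subgroup.zpowers g) ≤ Cfsg.pCore p _ := le_pCore hn hp'
  refine le_trans ?_ h1
  intro x hx
  exact Subgroup.mem_subgroupOf.mpr (hKR (Subgroup.mem_subgroupOf.mp hx))

theorem exists_of_sn {K : Subgroup G} {g : G} (hK : IsPGroup p K)
    (h : (K.subgroupOf (K ⊔ Subgroup.zpowers g)).IsSubnormal) :
    ∃ R : Subgroup G, IsPGroup p R ∧ K ≤ R ∧ g ∈ Subgroup.normalizer (R : Set G) := by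
  rw [sn_iff hK] at h
  refine ⟨coreOf p (K ⊔ Subgroup.zpowers g), coreOf_isPGroup _, ?_, ?_⟩
  · have h1 := Subgroup.map_mono (f := (K ⊔ Subgroup.zpowers g).subtype) h
    rwa [Subgroup.map_subgroupOf_eq_of_le le_sup_left] at h1
  · apply le_normalizer_coreOf
    exact (le_sup_right : Subgroup.zpowers g ≤ _) (Subgroup.mem_zpowers g)

theorem exists_radical {K R : Subgroup G} {g : G} (hR : IsPGroup p R) (hKR : K ≤ R)
    (hg : g ∈ Subgroup.normalizer (R : Set G)) :
    ∃ R' : Subgroup G, K ≤ R' ∧ coreOf p (Subgroup.normalizer (R' : Set G)) = R' ∧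
      g ∈ Subgroup.normalizer (R' : Set G) := by
  haveI : Nonempty {T : Subgroup G // IsPGroup p T ∧ K ≤ T ∧ g ∈ Subgroup.normalizer (T : Set G)} :=
    ⟨⟨R, hR, hKR, hg⟩⟩
  obtain ⟨⟨T, hT, hKT, hgT⟩, hmax⟩ := Finite.exists_max
    (fun T : {T : Subgroup G // IsPGroup p T ∧ K ≤ T ∧ g ∈ Subgroup.normalizer (T : Set G)} =>
      Nat.card T.1)
  have hle : T ≤ coreOf p (Subgroup.normalizer (T : Set G)) := by
    have hn : (T.subgroupOf (Subgroup.normalizer (T : Set G))).Normal :=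
      Subgroup.normal_subgroupOf_of_le_normalizer le_rfl
    have h1 : T.subgroupOf (Subgroup.normalizer (T : Set G)) ≤ Cfsg.pCore p _ :=
      le_pCore hn hT.comap_subtype
    have h2 := Subgroup.map_mono (f := (Subgroup.normalizer (T : Set G)).subtype) h1
    rwa [Subgroup.map_subgroupOf_eq_of_le Subgroup.le_normalizer] at h2
  have hg' : g ∈ Subgroup.normalizer (coreOf p (Subgroup.normalizer (T : Set G)) : Set G) :=
    le_normalizer_coreOf _ hgT
  have hcard := hmax ⟨coreOf p (Subgroup.normalizer (T : Set G)), coreOf_isPGroup _,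
    hKT.trans hle, hg'⟩
  have heq : T = coreOf p (Subgroup.normalizer (T : Set G)) :=
    Subgroup.eq_of_le_of_card_ge hle hcard
  exact ⟨T, hKT, heq.symm, hgT⟩

theorem sInf_sylow_le_aux {H R N : Subgroup G} (hHR : H ≤ R)
    (hN : N = Subgroup.normalizer (R : Set G))
    (hcore : (Cfsg.pCore p ↥N).map N.subtype = R) :
    sInf {K : Subgroup G | ∃ Q : Sylow p G, H ≤ (Q : Subgroup G) ∧ K = (Q : Subgroup G)} ≤ R := by
  have hpc : Cfsg.pCore p ↥N = ⨅ S : Sylow p ↥N, (S : Subgroup ↥N) := pCore_eq_iInf_sylow p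
  have hRS : ∀ S : Sylow p ↥N, R ≤ (S : Subgroup ↥N).map N.subtype := by
    intro S
    rw [← hcore]
    apply Subgroup.map_mono
    rw [hpc]
    exact iInf_le _ S
  have hext : ∀ S : Sylow p ↥N, ∃ Q : Sylow p G,
      (S : Subgroup ↥N).map N.subtype ≤ (Q : Subgroup G) :=
    fun S => (S.isPGroup'.map N.subtype).exists_le_sylow
  choose ext hextle using hext
  have hmeet : ∀ (S : Sylow p ↥N) (x : G) (hx : x ∈ N), x ∈ (ext S : Subgroup G) →
      (⟨x, hx⟩ : ↥N) ∈ (S : Subgroup ↥N) := by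
    intro S x hx hxe
    have hTp : IsPGroup p ((ext S : Subgroup G).subgroupOf N) := (ext S).isPGroup'.comap_subtype
    have hST : (S : Subgroup ↥N) ≤ (ext S : Subgroup G).subgroupOf N := by
      intro y hy
      rw [Subgroup.mem_subgroupOf]
      exact hextle S (Subgroup.mem_map.mpr ⟨y, hy, rfl⟩)
    have hTS := S.is_maximal' hTp hST
    rw [← hTS, Subgroup.mem_subgroupOf]
    exact hxe
  have hRD : R ≤ ⨅ S : Sylow p ↥N, (ext S : Subgroup G) :=
    le_iInf (fun S => (hRS S).trans (hextle S))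
  have hDp : IsPGroup p (⨅ S : Sylow p ↥N, (ext S : Subgroup G) : Subgroup G) :=
    (ext (Classical.arbitrary _)).isPGroup'.to_le (iInf_le _ _)
  have hDN : (⨅ S : Sylow p ↥N, (ext S : Subgroup G)) ⊓ N ≤ R := by
    rintro x ⟨hxD, hxN⟩
    rw [← hcore]
    refine Subgroup.mem_map.mpr ⟨⟨x, hxN⟩, ?_, rfl⟩
    rw [hpc, Subgroup.mem_iInf]
    intro S
    exact hmeet S x hxN ((Subgroup.mem_iInf.mp hxD) S)
  have hDR : (⨅ S : Sylow p ↥N, (ext S : Subgroup G)) ≤ R := by
    haveI : Group.IsNilpotent ↥(⨅ S : Sylow p ↥N, (ext S : Subgroup G) : Subgroup G) :=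
      hDp.isNilpotent
    by_cases htop : R.subgroupOf (⨅ S : Sylow p ↥N, (ext S : Subgroup G)) = ⊤
    · intro x hx
      have : (⟨x, hx⟩ : ↥(⨅ S : Sylow p ↥N, (ext S : Subgroup G) : Subgroup G)) ∈
          R.subgroupOf (⨅ S : Sylow p ↥N, (ext S : Subgroup G)) := by
        rw [htop]; exact Subgroup.mem_top _
      exact Subgroup.mem_subgroupOf.mp this
    · exfalso
      have hlt := Group.normalizerCondition_of_isNilpotent
        (G := ↥(⨅ S : Sylow p ↥N, (ext S : Subgroup G) : Subgroup G))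
        (R.subgroupOf (⨅ S : Sylow p ↥N, (ext S : Subgroup G))) (lt_top_iff_ne_top.mpr htop)
      obtain ⟨y, hyn, hyK⟩ := SetLike.exists_of_lt hlt
      rw [← Subgroup.subgroupOf_normalizer_eq hRD, Subgroup.mem_subgroupOf] at hyn
      apply hyK
      rw [Subgroup.mem_subgroupOf]
      apply hDN
      exact ⟨y.2, (SetLike.ext_iff.mp hN (y : G)).mpr hyn⟩
  refine le_trans ?_ hDR
  exact le_iInf (fun S => sInf_le ⟨ext S, (hHR.trans (hRS S)).trans (hextle S), rfl⟩)

theorem main1 {H : Subgroup G} (hH : IsPGroup p H) (g : G) :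
    (H.subgroupOf (H ⊔ Subgroup.zpowers g)).IsSubnormal ↔
      ∃ R : Subgroup G, H ≤ R ∧
        (Cfsg.pCore p (Subgroup.normalizer (R : Set G))).map
          (Subgroup.normalizer (R : Set G)).subtype = R ∧
        g ∈ Subgroup.normalizer (R : Set G) := by
  constructor
  · intro h
    obtain ⟨R₀, hR₀, hle, hg⟩ := exists_of_sn hH h
    exact exists_radical hR₀ hle hg
  · rintro ⟨R, hHR, hrad, hg⟩
    have hR : IsPGroup p R := by
      have := coreOf_isPGroup (p := p) (Subgroup.normalizer (R : Set G))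
      unfold coreOf at this
      rwa [hrad] at this
    exact sn_of_le hR hHR hg

theorem main2 {H : Subgroup G} (hH : IsPGroup p H) (g : G) :
    (H.subgroupOf (H ⊔ Subgroup.zpowers g)).IsSubnormal ↔
      ((sInf {K : Subgroup G | ∃ Q : Sylow p G, H ≤ (Q : Subgroup G) ∧
          K = (Q : Subgroup G)}).subgroupOf
        (sInf {K : Subgroup G | ∃ Q : Sylow p G, H ≤ (Q : Subgroup G) ∧ K = (Q : Subgroup G)} ⊔
          Subgroup.zpowers g)).IsSubnormal := by
  have hHHs : H ≤ sInf {K : Subgroup G | ∃ Q : Sylow p G, H ≤ (Q : Subgroup G) ∧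
      K = (Q : Subgroup G)} := by
    apply le_sInf
    rintro K ⟨Q, hQ, rfl⟩
    exact hQ
  have hHsp : IsPGroup p (sInf {K : Subgroup G | ∃ Q : Sylow p G, H ≤ (Q : Subgroup G) ∧
      K = (Q : Subgroup G)} : Subgroup G) := by
    obtain ⟨Q, hQ⟩ := hH.exists_le_sylow
    exact Q.isPGroup'.to_le (sInf_le ⟨Q, hQ, rfl⟩)
  constructor
  · intro h
    obtain ⟨R, hHR, hrad, hg⟩ := (main1 hH g).mp h
    have hR : IsPGroup p R := by
      have := coreOf_isPGroup (p := p) (Subgroup.normalizer (R : Set G))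
      unfold coreOf at this
      rwa [hrad] at this
    exact sn_of_le hR (sInf_sylow_le_aux hHR rfl hrad) hg
  · intro h
    obtain ⟨R₀, hR₀, hle, hg⟩ := exists_of_sn hHsp h
    exact sn_of_le hR₀ (hHHs.trans hle) hg

end Cfsg.Agent.Lib.Lead.Subnz
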