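import Mathlib
import Cfsg.Agent.S3762

set_option autoImplicit false
set_option linter.style.haveILetI false

namespace Cfsg.Agent.Lib.Lead.Sy4

open scoped commutatorElement

theorem not_cyclic_three {R : Type*} [Group R] [Finite R] (H : Subgroup R) (x y : R)
    (hx : x ∈ H) (hy : y ∈ H) (hx2 : x ^ 2 = 1) (hy2 : y ^ 2 = 1) (hx1 : x ≠ 1) (hy1 : y ≠ 1)
    (hxy : x ≠ y) : ¬ IsCyclic H := by
  intro hcyc
  classical
  haveI : Fintype H := Fintype.ofFinite H
  have h1 := IsCyclic.card_pow_eq_one_le (α := H) (n := 2) (by norm_num)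
  have h2 : ({1, ⟨x, hx⟩, ⟨y, hy⟩} : Finset H) ⊆ Finset.univ.filter (fun a : H => a ^ 2 = 1) := by
    intro t ht
    simp only [Finset.mem_insert, Finset.mem_singleton] at ht
    simp only [Finset.mem_filter, Finset.mem_univ, true_and]
    rcases ht with rfl | rfl | rfl
    · simp
    · exact Subtype.ext hx2
    · exact Subtype.ext hy2
  have h3 : ({1, ⟨x, hx⟩, ⟨y, hy⟩} : Finset H).card = 3 := by
    rw [Finset.card_eq_three]
    refine ⟨1, ⟨x, hx⟩, ⟨y, hy⟩, ?_, ?_, ?_, rfl⟩
    · intro h; exact hx1 (congrArg Subtype.val h).symm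
    · intro h; exact hy1 (congrArg Subtype.val h).symm
    · intro h; exact hxy (congrArg Subtype.val h)
  have h4 := Finset.card_le_card h2
  omega

/-- Structure of a 2-group of symplectic type and exponent dividing 4, relative to a central
involution `z`. -/
theorem symp_facts {T : Type*} [Group T] [Finite T]
    (hsymp : ∀ A : Subgroup T, A.Characteristic → IsMulCommutative A → IsCyclic A)
    (hT : IsPGroup 2 T) (h4 : ∀ t : T, t ^ 4 = 1) (z : T) (hz2 : z * z = 1) (hz1 : z ≠ 1)
    (hzc : ∀ t : T, z * t = t * z) :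
    (∀ x y : T, x * y = y * x ∨ x * y = z * (y * x)) ∧ (∀ x : T, x * x = 1 ∨ x * x = z) ∧
      (∀ c : T, (∀ x : T, c * x = x * c) → c * c = 1 → c = 1 ∨ c = z) := by
  haveI : Fact (Nat.Prime 2) := ⟨Nat.prime_two⟩
  have hZcyc : IsCyclic (Subgroup.center T) := hsymp _ inferInstance inferInstance
  have P3 : ∀ c : T, (∀ x : T, c * x = x * c) → c * c = 1 → c = 1 ∨ c = z := by
    intro c hc hcc
    by_contra hcon
    push_neg at hcon
    refine not_cyclic_three (Subgroup.center T) c z ?_ ?_ ?_ ?_ hcon.1 hz1 hcon.2 hZcyc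
    · rw [Subgroup.mem_center_iff]; intro g; exact (hc g).symm
    · rw [Subgroup.mem_center_iff]; intro g; exact (hzc g).symm
    · rw [pow_two]; exact hcc
    · rw [pow_two]; exact hz2
  obtain ⟨E, R, hER, hsup, hE, hR⟩ := Cfsg.Agent.S3762.result (p := 2) hT hsymp
  have hR4 : ∀ r : R, r ^ 4 = 1 := fun r => Subtype.ext (by simpa using h4 (r : T))
  have hRcyc : IsCyclic R := by
    rcases hR with h | ⟨_, h16, hD | hQ | hQD⟩
    · exact h
    · exfalso
      obtain ⟨m, ⟨e⟩⟩ := hD
      have h1 : (DihedralGroup.r 1 : DihedralGroup m) ^ 4 = 1 := by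
        have := hR4 (e.symm (DihedralGroup.r 1))
        have h2 := congrArg e this
        simpa using h2
      have h2 : m ∣ 4 := by
        have := orderOf_dvd_of_pow_eq_one h1
        rwa [DihedralGroup.orderOf_r_one] at this
      have h3 : m ≤ 4 := Nat.le_of_dvd (by norm_num) h2
      have h5 : Nat.card R = 2 * m := by
        rw [Nat.card_congr e.toEquiv, DihedralGroup.nat_card]
      omega
    · exfalso
      obtain ⟨m, ⟨e⟩⟩ := hQ
      have h1 : (QuaternionGroup.a 1 : QuaternionGroup m) ^ 4 = 1 := by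
        have := hR4 (e.symm (QuaternionGroup.a 1))
        have h2 := congrArg e this
        simpa using h2
      have h2 : 2 * m ∣ 4 := by
        have := orderOf_dvd_of_pow_eq_one h1
        rwa [QuaternionGroup.orderOf_a_one] at this
      have h3 : 2 * m ≤ 4 := Nat.le_of_dvd (by norm_num) h2
      have hm0 : m ≠ 0 := by
        rintro rfl
        simp at h2
      haveI : NeZero m := ⟨hm0⟩
      have h5 : Nat.card R = 4 * m := by
        rw [Nat.card_congr e.toEquiv, Nat.card_eq_fintype_card, QuaternionGroup.card]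
      omega
    · exfalso
      obtain ⟨n, hn3, _, x, y, hx, _, _⟩ := hQD
      have h1 : 2 ^ n ∣ 4 := by
        have := orderOf_dvd_of_pow_eq_one (hR4 x)
        rwa [hx] at this
      have h2 : 2 ^ n ≤ 4 := Nat.le_of_dvd (by norm_num) h1
      have h3 : 2 ^ 3 ≤ 2 ^ n := Nat.pow_le_pow_right (by norm_num) hn3
      omega
  have hRR : ∀ r ∈ R, ∀ r' ∈ R, r * r' = r' * r := by
    intro r hr r' hr'
    haveI := hRcyc
    obtain ⟨g, hg⟩ := IsCyclic.exists_generator (α := R)
    obtain ⟨i, hi⟩ := Subgroup.mem_zpowers_iff.1 (hg ⟨r, hr⟩)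
    obtain ⟨j, hj⟩ := Subgroup.mem_zpowers_iff.1 (hg ⟨r', hr'⟩)
    have h1 : (⟨r, hr⟩ : R) * ⟨r', hr'⟩ = ⟨r', hr'⟩ * ⟨r, hr⟩ := by
      rw [← hi, ← hj]
      exact ((Commute.refl g).zpow_zpow i j).eq
    exact congrArg Subtype.val h1
  have hRc : ∀ r ∈ R, ∀ t : T, r * t = t * r := by
    intro r hr t
    have h1 : E ⊔ R ≤ Subgroup.centralizer {r} := by
      apply sup_le
      · intro e he
        rw [Subgroup.mem_centralizer_singleton_iff]
        exact hER e he r hr
      · intro r' hr'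
        rw [Subgroup.mem_centralizer_singleton_iff]
        exact hRR r' hr' r hr
    have h2 : t ∈ Subgroup.centralizer {r} := h1 (by rw [hsup]; exact Subgroup.mem_top t)
    rw [Subgroup.mem_centralizer_singleton_iff] at h2
    exact h2.symm
  haveI hRn : R.Normal := ⟨fun r hr t => by
    have : t * r * t⁻¹ = r := by rw [← hRc r hr t, mul_inv_cancel_right]
    rw [this]; exact hr⟩
  have hdec : ∀ t : T, ∃ e ∈ E, ∃ r ∈ R, t = e * r := by
    intro t
    have : t ∈ E ⊔ R := by rw [hsup]; exact Subgroup.mem_top t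
    obtain ⟨e, he, r, hr, h⟩ := Subgroup.mem_sup_of_normal_right.1 this
    exact ⟨e, he, r, hr, h.symm⟩
  have hEf : (∀ e₁ ∈ E, ∀ e₂ ∈ E, e₁ * e₂ = e₂ * e₁ ∨ e₁ * e₂ = z * (e₂ * e₁)) ∧
      (∀ e ∈ E, e * e = 1 ∨ e * e = z) := by
    rcases hE with hE | hE
    · subst hE
      constructor
      · intro e₁ h1 e₂ h2
        rw [Subgroup.mem_bot] at h1 h2
        left; rw [h1, h2]
      · intro e he
        rw [Subgroup.mem_bot] at he
        left; rw [he, one_mul]
    · obtain ⟨⟨_, _, hcomm⟩, hcard⟩ := hE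
      have hcen : ∀ c : E, c ∈ Subgroup.center E → (c : T) = 1 ∨ (c : T) = z := by
        intro c hc
        have hcE : ∀ e ∈ E, (c : T) * e = e * (c : T) := by
          intro e he
          have := Subgroup.mem_center_iff.1 hc ⟨e, he⟩
          exact (congrArg Subtype.val this).symm
        have hcT : ∀ t : T, (c : T) * t = t * (c : T) := by
          intro t
          obtain ⟨e, he, r, hr, rfl⟩ := hdec t
          calc (c : T) * (e * r) = ((c : T) * e) * r := (mul_assoc _ _ _).symm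
            _ = (e * (c : T)) * r := by rw [hcE e he]
            _ = e * ((c : T) * r) := mul_assoc _ _ _
            _ = e * (r * (c : T)) := by rw [hRc r hr (c : T)]
            _ = e * r * (c : T) := (mul_assoc _ _ _).symm
        have hcc : (c : T) * (c : T) = 1 := by
          have h1 : (⟨c, hc⟩ : Subgroup.center E) ^ Nat.card (Subgroup.center E) = 1 :=
            pow_card_eq_one'
          rw [hcard, pow_two] at h1
          have h2 := congrArg (fun u : Subgroup.center E => ((u : E) : T)) h1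
          simpa using h2
        exact P3 _ hcT hcc
      have hE1 : ∀ e₁ ∈ E, ∀ e₂ ∈ E, e₁ * e₂ = e₂ * e₁ ∨ e₁ * e₂ = z * (e₂ * e₁) := by
        intro e₁ h1 e₂ h2
        have hk : ⁅(⟨e₁, h1⟩ : E), ⟨e₂, h2⟩⁆ ∈ Subgroup.center E := by
          rw [← hcomm, commutator_def]
          exact Subgroup.commutator_mem_commutator (Subgroup.mem_top _) (Subgroup.mem_top _)
        have hk' := hcen _ hk
        have hkv : ((⁅(⟨e₁, h1⟩ : E), ⟨e₂, h2⟩⁆ : E) : T) = e₁ * e₂ * e₁⁻¹ * e₂⁻¹ := by
          rw [commutatorElement_def]; rfl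
        rw [hkv] at hk'
        have hid : e₁ * e₂ = (e₁ * e₂ * e₁⁻¹ * e₂⁻¹) * (e₂ * e₁) := by group
        rcases hk' with h3 | h3
        · left
          calc e₁ * e₂ = (e₁ * e₂ * e₁⁻¹ * e₂⁻¹) * (e₂ * e₁) := hid
            _ = e₂ * e₁ := by rw [h3, one_mul]
        · right
          calc e₁ * e₂ = (e₁ * e₂ * e₁⁻¹ * e₂⁻¹) * (e₂ * e₁) := hid
            _ = z * (e₂ * e₁) := by rw [h3]
      refine ⟨hE1, ?_⟩
      intro e he
      have hsq : (⟨e * e, E.mul_mem he he⟩ : E) ∈ Subgroup.center E := by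
        rw [Subgroup.mem_center_iff]
        intro y
        apply Subtype.ext
        show (y : T) * (e * e) = e * e * (y : T)
        rcases hE1 e he y y.2 with h3 | h3
        · calc (y : T) * (e * e) = ((y : T) * e) * e := (mul_assoc _ _ _).symm
            _ = (e * (y : T)) * e := by rw [h3]
            _ = e * ((y : T) * e) := mul_assoc _ _ _
            _ = e * (e * (y : T)) := by rw [h3]
            _ = e * e * (y : T) := (mul_assoc _ _ _).symm
        · have h4' : (y : T) * e = z * (e * (y : T)) := by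
            have : z * (e * (y : T)) = (y : T) * e := by
              calc z * (e * (y : T)) = z * (z * ((y : T) * e)) := by rw [h3]
                _ = (z * z) * ((y : T) * e) := (mul_assoc _ _ _).symm
                _ = (y : T) * e := by rw [hz2, one_mul]
            exact this.symm
          calc (y : T) * (e * e) = ((y : T) * e) * e := (mul_assoc _ _ _).symm
            _ = (z * (e * (y : T))) * e := by rw [h4']
            _ = z * (e * ((y : T) * e)) := by simp only [mul_assoc]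
            _ = z * (e * (z * (e * (y : T)))) := by rw [h4']
            _ = z * ((e * z) * (e * (y : T))) := by simp only [mul_assoc]
            _ = z * ((z * e) * (e * (y : T))) := by rw [hzc e]
            _ = (z * z) * (e * e * (y : T)) := by simp only [mul_assoc]
            _ = e * e * (y : T) := by rw [hz2, one_mul]
      exact hcen _ hsq
  obtain ⟨hE1, hE2⟩ := hEf
  have hprod : ∀ e₁ r₁ e₂ r₂ : T, r₁ ∈ R →
      (e₁ * r₁) * (e₂ * r₂) = (e₁ * e₂) * (r₁ * r₂) := by
    intro e₁ r₁ e₂ r₂ hr₁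
    calc (e₁ * r₁) * (e₂ * r₂) = e₁ * ((r₁ * e₂) * r₂) := by simp only [mul_assoc]
      _ = e₁ * ((e₂ * r₁) * r₂) := by rw [hRc r₁ hr₁ e₂]
      _ = (e₁ * e₂) * (r₁ * r₂) := by simp only [mul_assoc]
  refine ⟨?_, ?_, P3⟩
  · intro x y
    obtain ⟨e₁, he₁, r₁, hr₁, rfl⟩ := hdec x
    obtain ⟨e₂, he₂, r₂, hr₂, rfl⟩ := hdec y
    rw [hprod e₁ r₁ e₂ r₂ hr₁, hprod e₂ r₂ e₁ r₁ hr₂, hRR r₂ hr₂ r₁ hr₁]
    rcases hE1 e₁ he₁ e₂ he₂ with h3 | h3
    · left; rw [h3]
    · right; rw [h3]; simp only [mul_assoc]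
  · intro x
    obtain ⟨e, he, r, hr, rfl⟩ := hdec x
    rw [hprod e r e r hr]
    have hrr : r * r = 1 ∨ r * r = z := by
      apply P3
      · intro t
        calc r * r * t = r * (r * t) := mul_assoc _ _ _
          _ = r * (t * r) := by rw [hRc r hr t]
          _ = (r * t) * r := (mul_assoc _ _ _).symm
          _ = (t * r) * r := by rw [hRc r hr t]
          _ = t * (r * r) := mul_assoc _ _ _
      · have := h4 r
        rw [show (4 : ℕ) = 2 + 2 from rfl, pow_add, pow_two] at this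
        exact this
    rcases hE2 e he with h3 | h3 <;> rcases hrr with h5 | h5
    · left; rw [h3, h5, one_mul]
    · right; rw [h3, h5, one_mul]
    · right; rw [h3, h5, mul_one]
    · left; rw [h3, h5, hz2]

/-- The configuration: `Q` behaves like `F*(C_G(z))` of symplectic type and exponent 4. -/
structure Cfg {G : Type*} [Group G] (z : G) (Q : Subgroup G) : Prop where
  z2 : z * z = 1
  z1 : z ≠ 1
  zQ : z ∈ Q
  QM : ∀ q ∈ Q, q * z = z * q
  nrm : ∀ m : G, m * z = z * m → ∀ q ∈ Q, m * q * m⁻¹ ∈ Q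
  cent : ∀ m : G, m * z = z * m → (∀ q ∈ Q, m * q = q * m) → m ∈ Q
  o2 : ∀ N : Subgroup G, (∀ n ∈ N, n * z = z * n) →
    (∀ m : G, m * z = z * m → ∀ n ∈ N, m * n * m⁻¹ ∈ N) → IsPGroup 2 N → N ≤ Q
  p1 : ∀ x ∈ Q, ∀ y ∈ Q, x * y = y * x ∨ x * y = z * (y * x)
  p2 : ∀ x ∈ Q, x * x = 1 ∨ x * x = z
  p3 : ∀ c ∈ Q, (∀ x ∈ Q, c * x = x * c) → c * c = 1 → c = 1 ∨ c = z

theorem Cfg.map {G : Type*} [Group G] {z : G} {Q : Subgroup G} (h : Cfg z Q) (φ : G ≃* G) :
    Cfg (φ z) (Q.map φ.toMonoidHom) where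
  z2 := by rw [← map_mul, h.z2, map_one]
  z1 := fun e => h.z1 ((map_eq_one_iff φ φ.injective).1 e)
  zQ := ⟨z, h.zQ, rfl⟩
  QM := by
    rintro _ ⟨q, hq, rfl⟩
    simp only [MulEquiv.coe_toMonoidHom]
    rw [← map_mul, ← map_mul, h.QM q hq]
  nrm := by
    intro m hm
    rintro _ ⟨q, hq, rfl⟩
    have hm' : φ.symm m * z = z * φ.symm m := by
      apply φ.injective
      rw [map_mul, map_mul, φ.apply_symm_apply]; exact hm
    refine ⟨φ.symm m * q * (φ.symm m)⁻¹, h.nrm _ hm' q hq, ?_⟩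
    simp only [MulEquiv.coe_toMonoidHom, map_mul, map_inv, φ.apply_symm_apply]
  cent := by
    intro m hm hmq
    have hm' : φ.symm m * z = z * φ.symm m := by
      apply φ.injective
      rw [map_mul, map_mul, φ.apply_symm_apply]; exact hm
    refine ⟨φ.symm m, h.cent _ hm' ?_, by simp⟩
    intro q hq
    apply φ.injective
    rw [map_mul, map_mul, φ.apply_symm_apply]
    exact hmq (φ q) ⟨q, hq, rfl⟩
  o2 := by
    intro N hNz hNn hN2
    have hle : N.map φ.symm.toMonoidHom ≤ Q := by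
      apply h.o2
      · rintro _ ⟨n, hn, rfl⟩
        apply φ.injective
        simp only [MulEquiv.coe_toMonoidHom, map_mul, φ.apply_symm_apply]
        exact hNz n hn
      · intro m hm
        rintro _ ⟨n, hn, rfl⟩
        refine ⟨φ m * n * (φ m)⁻¹, hNn (φ m) (by rw [← map_mul, ← map_mul, hm]) n hn, by simp⟩
      · exact hN2.map _
    intro n hn
    exact ⟨φ.symm n, hle ⟨n, hn, rfl⟩, by simp⟩
  p1 := by
    rintro _ ⟨x, hx, rfl⟩ _ ⟨y, hy, rfl⟩
    simp only [MulEquiv.coe_toMonoidHom, ← map_mul]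
    rcases h.p1 x hx y hy with h1 | h1
    · left; rw [h1]
    · right; rw [h1]
  p2 := by
    rintro _ ⟨x, hx, rfl⟩
    simp only [MulEquiv.coe_toMonoidHom, ← map_mul]
    rcases h.p2 x hx with h1 | h1
    · left; rw [h1, map_one]
    · right; rw [h1]
  p3 := by
    rintro _ ⟨c, hc, rfl⟩ hcx hcc
    simp only [MulEquiv.coe_toMonoidHom] at hcx hcc ⊢
    have h1 : ∀ x ∈ Q, c * x = x * c := fun x hx =>
      φ.injective (by rw [map_mul, map_mul]; exact hcx (φ x) ⟨x, hx, rfl⟩)
    have h2 : c * c = 1 := φ.injective (by rw [map_mul, map_one]; exact hcc)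
    rcases h.p3 c hc h1 h2 with h3 | h3
    · left; rw [h3, map_one]
    · right; rw [h3]

theorem cfg_core {G : Type*} [Group G] [Finite G] (z : G) (hz : orderOf z = 2)
    (C : Subgroup G) (hC : ∀ g, g ∈ C ↔ g * z = z * g)
    (F : Subgroup C) [hFn : F.Normal] (hF2 : IsPGroup 2 F)
    (hsymp : ∀ A : Subgroup F, A.Characteristic → IsMulCommutative A → IsCyclic A)
    (hcent : Subgroup.centralizer (F : Set C) ≤ F)
    (hO2 : ∀ N : Subgroup C, N.Normal → IsPGroup 2 N → N ≤ F)
    (h4 : ∀ f : F, f ^ 4 = 1) : Cfg z (F.map C.subtype) := by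
  have hmem : ∀ x : G, x ∈ F.map C.subtype ↔ ∃ f : F, ((f : C) : G) = x := by
    intro x
    constructor
    · rintro ⟨c, hc, rfl⟩
      exact ⟨⟨c, hc⟩, rfl⟩
    · rintro ⟨f, rfl⟩
      exact ⟨(f : C), f.2, rfl⟩
  have hz2 : z * z = 1 := by
    have := pow_orderOf_eq_one z
    rw [hz, pow_two] at this
    exact this
  have hz1 : z ≠ 1 := by
    intro h
    rw [h, orderOf_one] at hz
    omega
  have hzC : z ∈ C := (hC z).mpr rfl
  have hzcent : (⟨z, hzC⟩ : C) ∈ Subgroup.centralizer (F : Set C) := by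
    rw [Subgroup.mem_centralizer_iff]
    intro f _
    apply Subtype.ext
    simp only [Subgroup.coe_mul]
    exact (hC f).mp f.2
  have hzF : (⟨z, hzC⟩ : C) ∈ F := hcent hzcent
  obtain ⟨P1, P2, P3⟩ := symp_facts hsymp hF2 h4 (⟨⟨z, hzC⟩, hzF⟩ : F)
    (Subtype.ext (Subtype.ext hz2)) (fun e => hz1 (congrArg (fun t : F => ((t : C) : G)) e))
    (fun t => Subtype.ext (Subtype.ext ((hC (t : C)).mp (t : C).2).symm))
  refine ⟨hz2, hz1, (hmem z).2 ⟨⟨⟨z, hzC⟩, hzF⟩, rfl⟩, ?_, ?_, ?_, ?_, ?_, ?_, ?_⟩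
  · intro q hq
    obtain ⟨f, rfl⟩ := (hmem q).1 hq
    exact (hC _).1 (f : C).2
  · intro m hm q hq
    obtain ⟨f, rfl⟩ := (hmem q).1 hq
    have := hFn.conj_mem (f : C) f.2 ⟨m, (hC m).2 hm⟩
    exact ⟨_, this, rfl⟩
  · intro m hm hmq
    have hmC : m ∈ C := (hC m).2 hm
    have : (⟨m, hmC⟩ : C) ∈ Subgroup.centralizer (F : Set C) := by
      rw [Subgroup.mem_centralizer_iff]
      intro f hf
      apply Subtype.ext
      simp only [Subgroup.coe_mul]
      exact (hmq f ((hmem _).2 ⟨⟨f, hf⟩, rfl⟩)).symm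
    exact ⟨_, hcent this, rfl⟩
  · intro N hNz hNn hN2
    have hN'n : (N.comap C.subtype).Normal := by
      refine ⟨fun n hn c => ?_⟩
      rw [Subgroup.mem_comap] at hn ⊢
      simp only [Subgroup.coe_subtype, Subgroup.coe_mul, Subgroup.coe_inv] at hn ⊢
      exact hNn c ((hC c).1 c.2) n hn
    have hN'2 : IsPGroup 2 (N.comap C.subtype) := hN2.comap_subtype
    have hle := hO2 _ hN'n hN'2
    intro n hn
    have hnC : n ∈ C := (hC n).2 (hNz n hn)
    have : (⟨n, hnC⟩ : C) ∈ N.comap C.subtype := by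
      rw [Subgroup.mem_comap]; exact hn
    exact ⟨_, hle this, rfl⟩
  · intro x hx y hy
    obtain ⟨f1, rfl⟩ := (hmem x).1 hx
    obtain ⟨f2, rfl⟩ := (hmem y).1 hy
    rcases P1 f1 f2 with h1 | h1
    · left
      have := congrArg (fun t : F => ((t : C) : G)) h1
      simpa using this
    · right
      have := congrArg (fun t : F => ((t : C) : G)) h1
      simpa using this
  · intro x hx
    obtain ⟨f, rfl⟩ := (hmem x).1 hx
    rcases P2 f with h1 | h1
    · left
      have := congrArg (fun t : F => ((t : C) : G)) h1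
      simpa using this
    · right
      have := congrArg (fun t : F => ((t : C) : G)) h1
      simpa using this
  · intro c hc hcx hcc
    obtain ⟨f, rfl⟩ := (hmem c).1 hc
    have h1 : ∀ x : F, f * x = x * f := fun x =>
      Subtype.ext (Subtype.ext (hcx _ ((hmem _).2 ⟨x, rfl⟩)))
    have h2 : f * f = 1 := Subtype.ext (Subtype.ext hcc)
    rcases P3 f h1 h2 with h3 | h3
    · left; rw [h3]; rfl
    · right; rw [h3]

end Cfsg.Agent.Lib.Lead.Sy4
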