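import Mathlib
import Cfsg.Agent.Lib.Lead.Sy4A

set_option autoImplicit false
set_option linter.style.haveILetI false

namespace Cfsg.Agent.Lib.Lead.Sy4

variable {G : Type*} [Group G] {z a : G} {Q Qa : Subgroup G}

theorem exists_q (h : Cfg z Q) (aa : a * a = 1) (ha1 : a ≠ 1) (haQ : a ∈ Q) (haz : a ≠ z) :
    ∃ q ∈ Q, a * q = z * (q * a) := by
  by_contra hcon
  have h0 : ∀ x ∈ Q, a * x = x * a := by
    intro x hx
    rcases h.p1 a haQ x hx with h1 | h1
    · exact h1
    · exact absurd ⟨x, hx, h1⟩ hcon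
  rcases h.p3 a haQ h0 aa with h1 | h1
  · exact ha1 h1
  · exact haz h1

theorem dich (h : Cfg z Q) (haQ : a ∈ Q) {q : G} (hqQ : q ∈ Q) (hq : a * q = z * (q * a))
    {y : G} (hy : y ∈ Q) : y * a = a * y ∨ (q * y) * a = a * (q * y) := by
  rcases h.p1 y hy a haQ with h1 | h1
  · left; exact h1
  · right
    calc q * y * a = q * (y * a) := mul_assoc _ _ _
      _ = q * (z * (a * y)) := by rw [h1]
      _ = (q * z) * (a * y) := (mul_assoc _ _ _).symm
      _ = (z * q) * (a * y) := by rw [h.QM q hqQ]
      _ = z * (q * a) * y := by simp only [mul_assoc]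
      _ = a * q * y := by rw [← hq]
      _ = a * (q * y) := mul_assoc _ _ _

theorem central_of (h : Cfg z Q) (haQ : a ∈ Q) {q : G} (hqQ : q ∈ Q) (hq : a * q = z * (q * a))
    {c : G} (hcq : c * q = q * c) (hct : ∀ t ∈ Q, t * a = a * t → c * t = t * c) :
    ∀ y ∈ Q, c * y = y * c := by
  intro y hy
  rcases dich h haQ hqQ hq hy with h1 | h1
  · exact hct y hy h1
  · have h2 := hct (q * y) (Q.mul_mem hqQ hy) h1
    have h3 : q * (c * y) = q * (y * c) := by
      calc q * (c * y) = (q * c) * y := (mul_assoc _ _ _).symm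
        _ = (c * q) * y := by rw [hcq]
        _ = c * (q * y) := mul_assoc _ _ _
        _ = (q * y) * c := h2
        _ = q * (y * c) := mul_assoc _ _ _
    exact mul_left_cancel h3

theorem zlemma (h : Cfg z Q) (aa : a * a = 1) (haQ : a ∈ Q) {q : G} (hqQ : q ∈ Q)
    (hq : a * q = z * (q * a)) {c : G} (hcQ : c ∈ Q) (hca : c * a = a * c)
    (hcT : ∀ t ∈ Q, t * a = a * t → c * t = t * c) (hcc : c * c = 1) :
    c = 1 ∨ c = z ∨ c = a ∨ c = z * a := by
  rcases h.p1 c hcQ q hqQ with h1 | h1
  · rcases h.p3 c hcQ (central_of h haQ hqQ hq h1 hcT) hcc with h2 | h2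
    · left; exact h2
    · right; left; exact h2
  · have hc'Q : a * c ∈ Q := Q.mul_mem haQ hcQ
    have hc'q : (a * c) * q = q * (a * c) := by
      calc a * c * q = a * (c * q) := mul_assoc _ _ _
        _ = a * (z * (q * c)) := by rw [h1]
        _ = (a * z) * (q * c) := (mul_assoc _ _ _).symm
        _ = (z * a) * (q * c) := by rw [h.QM a haQ]
        _ = z * (a * q) * c := by simp only [mul_assoc]
        _ = z * (z * (q * a)) * c := by rw [hq]
        _ = (z * z) * (q * a) * c := by simp only [mul_assoc]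
        _ = q * (a * c) := by rw [h.z2, one_mul, mul_assoc]
    have hc't : ∀ t ∈ Q, t * a = a * t → (a * c) * t = t * (a * c) := by
      intro t ht hta
      calc a * c * t = a * (c * t) := mul_assoc _ _ _
        _ = a * (t * c) := by rw [hcT t ht hta]
        _ = (a * t) * c := (mul_assoc _ _ _).symm
        _ = (t * a) * c := by rw [hta]
        _ = t * (a * c) := mul_assoc _ _ _
    have hc'c' : (a * c) * (a * c) = 1 := by
      calc a * c * (a * c) = a * (c * a) * c := by simp only [mul_assoc]
        _ = a * (a * c) * c := by rw [hca]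
        _ = (a * a) * (c * c) := by simp only [mul_assoc]
        _ = 1 := by rw [aa, hcc, one_mul]
    rcases h.p3 (a * c) hc'Q (central_of h haQ hqQ hq hc'q hc't) hc'c' with h2 | h2
    · right; right; left
      calc c = (a * a) * c := by rw [aa, one_mul]
        _ = a * (a * c) := mul_assoc _ _ _
        _ = a := by rw [h2, mul_one]
    · right; right; right
      calc c = (a * a) * c := by rw [aa, one_mul]
        _ = a * (a * c) := mul_assoc _ _ _
        _ = a * z := by rw [h2]
        _ = z * a := h.QM a haQ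

/-- If `s ∈ C(a)` acts trivially on `Qa` modulo `⟨a⟩`, then `s ∈ Qa`. -/
theorem mem_of_stab (ha : Cfg a Qa) {s : G} (hsa : s * a = a * s)
    (hs : ∀ x ∈ Qa, s * x = x * s ∨ s * x = a * (x * s)) : s ∈ Qa := by
  have aa := ha.z2
  let N0 : Subgroup G :=
    { carrier := {m | m * a = a * m ∧ ∀ x ∈ Qa, m * x = x * m ∨ m * x = a * (x * m)}
      one_mem' := ⟨by rw [one_mul, mul_one], fun x _ => Or.inl (by rw [one_mul, mul_one])⟩
      mul_mem' := by
        rintro m n ⟨hma, hm⟩ ⟨hna, hn⟩
        refine ⟨?_, ?_⟩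
        · rw [mul_assoc, hna, ← mul_assoc, hma, mul_assoc]
        · intro x hx
          rcases hn x hx with h1 | h1 <;> rcases hm x hx with h2 | h2
          · left
            calc m * n * x = m * (n * x) := mul_assoc _ _ _
              _ = m * (x * n) := by rw [h1]
              _ = (m * x) * n := (mul_assoc _ _ _).symm
              _ = (x * m) * n := by rw [h2]
              _ = x * (m * n) := mul_assoc _ _ _
          · right
            calc m * n * x = m * (n * x) := mul_assoc _ _ _
              _ = m * (x * n) := by rw [h1]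
              _ = (m * x) * n := (mul_assoc _ _ _).symm
              _ = (a * (x * m)) * n := by rw [h2]
              _ = a * (x * (m * n)) := by simp only [mul_assoc]
          · right
            calc m * n * x = m * (n * x) := mul_assoc _ _ _
              _ = m * (a * (x * n)) := by rw [h1]
              _ = (m * a) * (x * n) := (mul_assoc _ _ _).symm
              _ = (a * m) * (x * n) := by rw [hma]
              _ = a * ((m * x) * n) := by simp only [mul_assoc]
              _ = a * ((x * m) * n) := by rw [h2]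
              _ = a * (x * (m * n)) := by simp only [mul_assoc]
          · left
            calc m * n * x = m * (n * x) := mul_assoc _ _ _
              _ = m * (a * (x * n)) := by rw [h1]
              _ = (m * a) * (x * n) := (mul_assoc _ _ _).symm
              _ = (a * m) * (x * n) := by rw [hma]
              _ = a * ((m * x) * n) := by simp only [mul_assoc]
              _ = a * ((a * (x * m)) * n) := by rw [h2]
              _ = (a * a) * (x * (m * n)) := by simp only [mul_assoc]
              _ = x * (m * n) := by rw [aa, one_mul]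
      inv_mem' := by
        rintro m ⟨hma, hm⟩
        refine ⟨(Commute.inv_left (show Commute m a from hma)).eq, ?_⟩
        intro x hx
        rcases hm x hx with h1 | h1
        · left; exact (Commute.inv_left (show Commute m x from h1)).eq
        · right
          rw [inv_mul_eq_iff_eq_mul]
          symm
          calc m * (a * (x * m⁻¹)) = (m * a) * (x * m⁻¹) := (mul_assoc _ _ _).symm
            _ = (a * m) * (x * m⁻¹) := by rw [hma]
            _ = a * ((m * x) * m⁻¹) := by simp only [mul_assoc]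
            _ = a * ((a * (x * m)) * m⁻¹) := by rw [h1]
            _ = (a * a) * x := by group
            _ = x := by rw [aa, one_mul] }
  have hN0mem : ∀ m : G, m ∈ N0 ↔
      (m * a = a * m ∧ ∀ x ∈ Qa, m * x = x * m ∨ m * x = a * (x * m)) := fun m => Iff.rfl
  have hN0a : ∀ n ∈ N0, n * a = a * n := fun n hn => ((hN0mem n).1 hn).1
  have hN0n : ∀ m : G, m * a = a * m → ∀ n ∈ N0, m * n * m⁻¹ ∈ N0 := by
    intro m hma n hn
    obtain ⟨hna, hn⟩ := (hN0mem n).1 hn
    have hmia : m⁻¹ * a = a * m⁻¹ := (Commute.inv_left (show Commute m a from hma)).eq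
    rw [hN0mem]
    refine ⟨?_, ?_⟩
    · exact (Commute.mul_left (Commute.mul_left (show Commute m a from hma)
        (show Commute n a from hna)) (show Commute m⁻¹ a from hmia)).eq
    · intro x hx
      have hx' : m⁻¹ * x * m ∈ Qa := by
        have := ha.nrm m⁻¹ hmia x hx
        rwa [inv_inv] at this
      rcases hn _ hx' with h1 | h1
      · left
        calc m * n * m⁻¹ * x = m * (n * (m⁻¹ * x * m)) * m⁻¹ := by group
          _ = m * ((m⁻¹ * x * m) * n) * m⁻¹ := by rw [h1]
          _ = x * (m * n * m⁻¹) := by group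
      · right
        calc m * n * m⁻¹ * x = m * (n * (m⁻¹ * x * m)) * m⁻¹ := by group
          _ = m * (a * ((m⁻¹ * x * m) * n)) * m⁻¹ := by rw [h1]
          _ = (m * a) * ((m⁻¹ * x * m) * n) * m⁻¹ := by simp only [mul_assoc]
          _ = (a * m) * ((m⁻¹ * x * m) * n) * m⁻¹ := by rw [hma]
          _ = a * (x * (m * n * m⁻¹)) := by group
  have hN02 : IsPGroup 2 N0 := by
    rintro ⟨n, hn0⟩
    obtain ⟨hna, hn⟩ := (hN0mem n).1 hn0
    have hnn : ∀ x ∈ Qa, (n * n) * x = x * (n * n) := by
      intro x hx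
      rcases hn x hx with h1 | h1
      · exact (Commute.mul_left (show Commute n x from h1) (show Commute n x from h1)).eq
      · calc n * n * x = n * (n * x) := mul_assoc _ _ _
          _ = n * (a * (x * n)) := by rw [h1]
          _ = (n * a) * (x * n) := (mul_assoc _ _ _).symm
          _ = (a * n) * (x * n) := by rw [hna]
          _ = a * ((n * x) * n) := by simp only [mul_assoc]
          _ = a * ((a * (x * n)) * n) := by rw [h1]
          _ = (a * a) * (x * (n * n)) := by simp only [mul_assoc]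
          _ = x * (n * n) := by rw [aa, one_mul]
    have hnnQ : n * n ∈ Qa :=
      ha.cent (n * n) (Commute.mul_left (show Commute n a from hna) (show Commute n a from hna)).eq
        hnn
    have h8 : n ^ 8 = 1 := by
      have e8 : n ^ 8 = ((n * n) * (n * n)) * ((n * n) * (n * n)) := by
        rw [show (8 : ℕ) = 2 * 2 * 2 from rfl, pow_mul, pow_mul]
        simp only [pow_two]
      rw [e8]
      rcases ha.p2 (n * n) hnnQ with h1 | h1
      · rw [h1, one_mul]
      · rw [h1, aa]
    refine ⟨3, ?_⟩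
    apply Subtype.ext
    simpa using h8
  have hle : N0 ≤ Qa := ha.o2 N0 hN0a hN0n hN02
  exact hle ((hN0mem s).2 ⟨hsa, hs⟩)

/-- The context for the contradiction argument. -/
structure Ctx (z a : G) (Q Qa : Subgroup G) (q : G) : Prop where
  h : Cfg z Q
  ha : Cfg a Qa
  haQ : a ∈ Q
  haz : a ≠ z
  hqQ : q ∈ Q
  hq : a * q = z * (q * a)
  hfus : ∀ w : G, w * z = a * w → ∀ y ∈ Q, w * y * w⁻¹ ∈ Qa
  hz : z ∉ Qa

variable {q : G}

theorem Ctx.az (c : Ctx z a Q Qa q) : a * z = z * a := c.h.QM a c.haQ

theorem qa_of (h : Cfg z Q) (hq : a * q = z * (q * a)) : q * a = z * a * q := by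
  calc q * a = (z * z) * (q * a) := by rw [h.z2, one_mul]
    _ = z * (z * (q * a)) := mul_assoc _ _ _
    _ = z * (a * q) := by rw [hq]
    _ = z * a * q := (mul_assoc _ _ _).symm

theorem Ctx.inter (c : Ctx z a Q Qa q) {i : G} (hiQ : i ∈ Q) (hiQa : i ∈ Qa) : i = 1 ∨ i = a := by
  have hii : i * i = 1 := by
    rcases c.h.p2 i hiQ with h1 | h1
    · exact h1
    · rcases c.ha.p2 i hiQa with h2 | h2
      · exact h2
      · exact absurd (h2.symm.trans h1) c.haz
  have hia : i * a = a * i := c.ha.QM i hiQa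
  have hiT : ∀ t ∈ Q, t * a = a * t → i * t = t * i := by
    intro t ht hta
    rcases c.h.p1 i hiQ t ht with h1 | h1
    · exact h1
    · exfalso
      apply c.hz
      have h3 : t * i⁻¹ * t⁻¹ ∈ Qa := c.ha.nrm t hta i⁻¹ (Qa.inv_mem hiQa)
      have h4 : z = i * (t * i⁻¹ * t⁻¹) := by
        calc z = z * (t * i) * (t * i)⁻¹ := by group
          _ = i * t * (t * i)⁻¹ := by rw [h1]
          _ = i * (t * i⁻¹ * t⁻¹) := by group
      rw [h4]
      exact Qa.mul_mem hiQa h3
  rcases zlemma c.h c.ha.z2 c.haQ c.hqQ c.hq hiQ hia hiT hii with h1 | h1 | h1 | h1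
  · left; exact h1
  · exact absurd (h1 ▸ hiQa) c.hz
  · right; exact h1
  · exfalso
    apply c.hz
    have h5 : z = i * a := by rw [h1, mul_assoc, c.ha.z2, mul_one]
    rw [h5]
    exact Qa.mul_mem hiQa c.ha.zQ

theorem Ctx.no_swap (c : Ctx z a Q Qa q) {x : G} (hx : x ∈ Qa) (hxz : x * z = a * (z * x)) :
    False := by
  have aa := c.ha.z2
  have hxz' : SemiconjBy x z (z * a) := by
    show x * z = z * a * x
    rw [hxz, ← mul_assoc, c.az]
  have hxa : SemiconjBy x a a := c.ha.QM x hx
  have hqz : SemiconjBy q z z := c.h.QM q c.hqQ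
  have hqa : SemiconjBy q a (z * a) := qa_of c.h c.hq
  have e1 : z * (z * a) = a := by rw [← mul_assoc, c.h.z2, one_mul]
  have e2 : z * a * a = z := by rw [mul_assoc, aa, mul_one]
  have hw1 : SemiconjBy (q * x) z a := by
    have := (hqz.mul_right hqa).mul_left hxz'
    rwa [e1] at this
  have hx_za : SemiconjBy x (z * a) z := by
    have := hxz'.mul_right hxa
    rwa [e2] at this
  have hw2 : SemiconjBy (q * x) (z * a) z := hqz.mul_left hx_za
  have h1 := c.hfus (q * x) hw1.eq (z * a) (Q.mul_mem c.h.zQ c.haQ)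
  have h2 : q * x * (z * a) * (q * x)⁻¹ = z := by rw [hw2.eq, mul_inv_cancel_right]
  rw [h2] at h1
  exact c.hz h1

theorem Ctx.brk (c : Ctx z a Q Qa q) {x : G} (hx : x ∈ Qa) :
    ∃ y ∈ Qa, y * z = z * y ∧ x * z = y * (z * x) := by
  have zinv : z⁻¹ = z := inv_eq_of_mul_eq_one_left c.h.z2
  obtain ⟨y, hy⟩ : ∃ y, y = x * (z * x⁻¹ * z⁻¹) := ⟨_, rfl⟩
  have hyQa : y ∈ Qa := by
    rw [hy]
    exact Qa.mul_mem hx (c.ha.nrm z c.az.symm x⁻¹ (Qa.inv_mem hx))
  have hid1 : x * z = y * (z * x) := by rw [hy]; group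
  have hyzy : y * z * y = z := by
    calc y * z * y = x * (z * z) * x⁻¹ * z⁻¹ := by rw [hy]; group
      _ = z⁻¹ := by rw [c.h.z2, mul_one, mul_inv_cancel, one_mul]
      _ = z := zinv
  refine ⟨y, hyQa, ?_, hid1⟩
  have hyz : y * z = (y * y) * (z * y) := by
    calc y * z = y * (y * z * y) := by rw [hyzy]
      _ = (y * y) * (z * y) := by simp only [mul_assoc]
  rcases c.ha.p2 y hyQa with h1 | h1
  · rw [hyz, h1, one_mul]
  · exfalso
    refine c.no_swap hyQa ?_
    rw [hyz, h1]

theorem Ctx.l7 (c : Ctx z a Q Qa q) {t d : G} (ht : t ∈ Q) (hta : t * a = a * t) (hd : d ∈ Qa)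
    (hdz : d * z = z * d) : t * d = d * t ∨ t * d = a * (d * t) := by
  have hiQ : t * d * t⁻¹ * d⁻¹ ∈ Q := by
    have h1 : d * t⁻¹ * d⁻¹ ∈ Q := c.h.nrm d hdz t⁻¹ (Q.inv_mem ht)
    have h2 : t * d * t⁻¹ * d⁻¹ = t * (d * t⁻¹ * d⁻¹) := by group
    rw [h2]
    exact Q.mul_mem ht h1
  have hiQa : t * d * t⁻¹ * d⁻¹ ∈ Qa :=
    Qa.mul_mem (c.ha.nrm t hta d hd) (Qa.inv_mem hd)
  have hid : t * d = (t * d * t⁻¹ * d⁻¹) * (d * t) := by group
  rcases c.inter hiQ hiQa with h1 | h1
  · left
    calc t * d = (t * d * t⁻¹ * d⁻¹) * (d * t) := hid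
      _ = d * t := by rw [h1, one_mul]
  · right
    calc t * d = (t * d * t⁻¹ * d⁻¹) * (d * t) := hid
      _ = a * (d * t) := by rw [h1]

theorem Ctx.l8 (c : Ctx z a Q Qa q) {t x : G} (ht : t ∈ Q) (hta : t * a = a * t) (hx : x ∈ Qa) :
    ∃ c' ∈ Qa, c' * z = z * c' ∧ t * x = x * c' * t := by
  obtain ⟨y, hyQa, hyz, hxzy⟩ := c.brk hx
  have hc'Qa : x⁻¹ * (t * x * t⁻¹) ∈ Qa :=
    Qa.mul_mem (Qa.inv_mem hx) (c.ha.nrm t hta x hx)
  refine ⟨x⁻¹ * (t * x * t⁻¹), hc'Qa, ?_, by group⟩
  have htz : SemiconjBy t z z := c.h.QM t ht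
  have hxz : SemiconjBy x z (y * z) := by
    show x * z = y * z * x
    rw [hxzy, mul_assoc]
  have hxa : SemiconjBy x a a := c.ha.QM x hx
  rcases c.l7 ht hta hyQa hyz with hty | hty
  · have hty' : SemiconjBy t y y := hty
    have h1 : SemiconjBy t (y * z) (y * z) := hty'.mul_right htz
    have h2 : SemiconjBy (t * x * t⁻¹) z (y * z) := (h1.mul_left hxz).mul_left htz.inv_symm_left
    have h3 : SemiconjBy x⁻¹ (y * z) z := hxz.inv_symm_left
    exact (h3.mul_left h2).eq
  · exfalso
    have hty' : SemiconjBy t y (a * y) := by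
      show t * y = a * y * t
      rw [hty, mul_assoc]
    have h1 : SemiconjBy t (y * z) (a * (y * z)) := by
      have := hty'.mul_right htz
      rwa [mul_assoc] at this
    have h2 : SemiconjBy (t * x * t⁻¹) z (a * (y * z)) :=
      (h1.mul_left hxz).mul_left htz.inv_symm_left
    have h3 : SemiconjBy x⁻¹ (a * (y * z)) (a * z) :=
      hxa.inv_symm_left.mul_right hxz.inv_symm_left
    have h4 := (h3.mul_left h2).eq
    refine c.no_swap hc'Qa ?_
    rw [h4, mul_assoc]

theorem Ctx.sq_one (c : Ctx z a Q Qa q) {t : G} (ht : t ∈ Q) (hta : t * a = a * t) :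
    t * t = 1 := by
  have aa := c.ha.z2
  have hstab : ∀ x ∈ Qa, (t * t) * x = x * (t * t) ∨ (t * t) * x = a * (x * (t * t)) := by
    intro x hx
    obtain ⟨c', hc'Qa, hc'z, htx⟩ := c.l8 ht hta hx
    have key : ∀ e d : G, t * c' = e * (c' * t) → c' * c' = d → e * x = x * e → e * c' = c' * e →
        d * x = x * d → t * t * x = (e * d) * (x * (t * t)) := by
      intro e d htc hcc hex hec hdx
      calc t * t * x = t * (t * x) := mul_assoc _ _ _
        _ = t * (x * c' * t) := by rw [htx]
        _ = (t * x) * (c' * t) := by simp only [mul_assoc]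
        _ = (x * c' * t) * (c' * t) := by rw [htx]
        _ = x * c' * (t * c') * t := by simp only [mul_assoc]
        _ = x * c' * (e * (c' * t)) * t := by rw [htc]
        _ = x * (c' * e) * c' * t * t := by simp only [mul_assoc]
        _ = x * (e * c') * c' * t * t := by rw [hec]
        _ = (x * e) * (c' * c') * (t * t) := by simp only [mul_assoc]
        _ = (e * x) * d * (t * t) := by rw [hex, hcc]
        _ = e * (x * d) * (t * t) := by simp only [mul_assoc]
        _ = e * (d * x) * (t * t) := by rw [hdx]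
        _ = (e * d) * (x * (t * t)) := by simp only [mul_assoc]
    have hax : a * x = x * a := (c.ha.QM x hx).symm
    have hac : a * c' = c' * a := (c.ha.QM c' hc'Qa).symm
    have h1x : (1 : G) * x = x * 1 := by rw [one_mul, mul_one]
    have h1c : (1 : G) * c' = c' * 1 := by rw [one_mul, mul_one]
    rcases c.l7 ht hta hc'Qa hc'z with h1 | h1 <;> rcases c.ha.p2 c' hc'Qa with h2 | h2
    · left
      rw [key 1 1 (by rw [one_mul]; exact h1) h2 h1x h1c h1x, one_mul, one_mul]
    · right
      rw [key 1 a (by rw [one_mul]; exact h1) h2 h1x h1c hax, one_mul]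
    · right
      rw [key a 1 h1 h2 hax hac h1x, mul_one]
    · left
      rw [key a a h1 h2 hax hac hax, aa, one_mul]
  have htta : (t * t) * a = a * (t * t) :=
    (Commute.mul_left (show Commute t a from hta) (show Commute t a from hta)).eq
  have hmem := mem_of_stab c.ha htta hstab
  rcases c.h.p2 t ht with h1 | h1
  · exact h1
  · exfalso
    rw [h1] at hmem
    exact c.hz hmem

theorem Ctx.four (c : Ctx z a Q Qa q) {t : G} (ht : t ∈ Q) (hta : t * a = a * t) :
    t = 1 ∨ t = z ∨ t = a ∨ t = z * a := by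
  refine zlemma c.h c.ha.z2 c.haQ c.hqQ c.hq ht hta ?_ (c.sq_one ht hta)
  intro t' ht' ht'a
  have h1 := c.sq_one ht hta
  have h2 := c.sq_one ht' ht'a
  have h3 := c.sq_one (Q.mul_mem ht ht')
    (Commute.mul_left (show Commute t a from hta) (show Commute t' a from ht'a)).eq
  calc t * t' = t * 1 * t' := by rw [mul_one]
    _ = t * ((t * t') * (t * t')) * t' := by rw [h3]
    _ = (t * t) * (t' * t) * (t' * t') := by simp only [mul_assoc]
    _ = t' * t := by rw [h1, h2, one_mul, mul_one]

theorem Ctx.final (c : Ctx z a Q Qa q) (hex : ∃ x₁ ∈ Qa, x₁ ≠ 1 ∧ x₁ ≠ a) : False := by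
  have aa := c.ha.z2
  have zz := c.h.z2
  obtain ⟨x₁, hx₁, hx₁1, hx₁a⟩ := hex
  have hd : ∃ d ∈ Qa, d * z = z * d ∧ d ≠ 1 ∧ d ≠ a := by
    by_cases hc : x₁ * z = z * x₁
    · exact ⟨x₁, hx₁, hc, hx₁1, hx₁a⟩
    · obtain ⟨y, hyQa, hyz, hxzy⟩ := c.brk hx₁
      refine ⟨y, hyQa, hyz, ?_, ?_⟩
      · intro hy1
        apply hc
        rw [hxzy, hy1, one_mul]
      · intro hya
        rw [hya] at hxzy
        exact c.no_swap hx₁ hxzy
  obtain ⟨d, hdQa, hdz, hd1, hda'⟩ := hd
  have hda : d * a = a * d := c.ha.QM d hdQa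
  have hdQ : d ∉ Q := by
    intro hdQ
    rcases c.inter hdQ hdQa with h1 | h1
    · exact hd1 h1
    · exact hda' h1
  have commQ : ∀ d' : G, d' * z = z * d' → d' * a = a * d' → d' * q = q * d' → d' ∈ Q := by
    intro d' h1 h2 h3
    apply c.h.cent d' h1
    apply central_of c.h c.haQ c.hqQ c.hq h3
    intro t ht hta
    rcases c.four ht hta with e | e | e | e
    · rw [e, mul_one, one_mul]
    · rw [e]; exact h1
    · rw [e]; exact h2
    · rw [e]
      exact (Commute.mul_right (show Commute d' z from h1) (show Commute d' a from h2)).eq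
  obtain ⟨j, hj⟩ : ∃ j, j = q⁻¹ * (d * q * d⁻¹) := ⟨_, rfl⟩
  have hjQ : j ∈ Q := by
    rw [hj]
    exact Q.mul_mem (Q.inv_mem c.hqQ) (c.h.nrm d hdz q c.hqQ)
  have hqa : SemiconjBy q a (z * a) := qa_of c.h c.hq
  have hja : j * a = a * j := by
    have hdza : SemiconjBy d (z * a) (z * a) :=
      (show SemiconjBy d z z from hdz).mul_right (show SemiconjBy d a a from hda)
    have hdinv : SemiconjBy d⁻¹ a a := (show SemiconjBy d a a from hda).inv_symm_left
    have h1 : SemiconjBy (d * q * d⁻¹) a (z * a) := (hdza.mul_left hqa).mul_left hdinv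
    have h2 : SemiconjBy q⁻¹ (z * a) a := hqa.inv_symm_left
    rw [hj]
    exact (h2.mul_left h1).eq
  have hdq : d * q = q * j * d := by rw [hj]; group
  have hqz : q * z = z * q := c.h.QM q c.hqQ
  have hbad : (q * a) * (q * a) = z * (q * q) := by
    calc (q * a) * (q * a) = q * (a * q) * a := by simp only [mul_assoc]
      _ = q * (z * (q * a)) * a := by rw [c.hq]
      _ = (q * z) * (q * (a * a)) := by simp only [mul_assoc]
      _ = (z * q) * (q * (a * a)) := by rw [hqz]
      _ = z * (q * q) := by rw [aa, mul_one, mul_assoc]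
  have hdqq : d * (q * q) = (q * q) * d := by
    rcases c.h.p2 q c.hqQ with h1 | h1
    · rw [h1, mul_one, one_mul]
    · rw [h1]; exact hdz
  have hcontra : ∀ j' : G, d * q = q * j' * d → (q * j') * (q * j') = z * (q * q) → False := by
    intro j' hdq' hsq
    have hS : SemiconjBy d q (q * j') := hdq'
    have hS2 : SemiconjBy d (q * q) ((q * j') * (q * j')) := hS.mul_right hS
    have h1 : (q * j') * (q * j') * d = (q * q) * d := by
      rw [← hS2.eq, hdqq]
    have h2 : (q * j') * (q * j') = q * q := mul_right_cancel h1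
    rw [hsq] at h2
    have h3 : z * (q * q) = 1 * (q * q) := by rw [one_mul]; exact h2
    exact c.h.z1 (mul_right_cancel h3)
  rcases c.four hjQ hja with e | e | e | e
  · apply hdQ
    apply commQ d hdz hda
    rw [hdq, e, mul_one]
  · apply hdQ
    have had : a * d ∈ Q := by
      apply commQ (a * d)
      · exact (Commute.mul_left (show Commute a z from c.az) (show Commute d z from hdz)).eq
      · exact (Commute.mul_left (Commute.refl a) (show Commute d a from hda)).eq
      · calc a * d * q = a * (d * q) := mul_assoc _ _ _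
          _ = a * (q * z * d) := by rw [hdq, e]
          _ = (a * q) * (z * d) := by simp only [mul_assoc]
          _ = (z * (q * a)) * (z * d) := by rw [c.hq]
          _ = z * (q * (a * z) * d) := by simp only [mul_assoc]
          _ = z * (q * (z * a) * d) := by rw [c.az]
          _ = z * ((q * z) * (a * d)) := by simp only [mul_assoc]
          _ = z * ((z * q) * (a * d)) := by rw [hqz]
          _ = (z * z) * (q * (a * d)) := by simp only [mul_assoc]
          _ = q * (a * d) := by rw [zz, one_mul]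
    have := Q.mul_mem (Q.inv_mem c.haQ) had
    rwa [inv_mul_cancel_left] at this
  · rw [e] at hdq
    exact hcontra a hdq hbad
  · rw [e] at hdq
    refine hcontra (z * a) hdq ?_
    have hzqa : (q * a) * z = z * (q * a) := c.h.QM (q * a) (Q.mul_mem c.hqQ c.haQ)
    calc (q * (z * a)) * (q * (z * a)) = ((q * z) * a) * ((q * z) * a) := by
          simp only [mul_assoc]
      _ = ((z * q) * a) * ((z * q) * a) := by rw [hqz]
      _ = z * (((q * a) * z) * (q * a)) := by simp only [mul_assoc]
      _ = z * ((z * (q * a)) * (q * a)) := by rw [hzqa]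
      _ = (z * z) * ((q * a) * (q * a)) := by simp only [mul_assoc]
      _ = (q * a) * (q * a) := by rw [zz, one_mul]
      _ = z * (q * q) := hbad

end Cfsg.Agent.Lib.Lead.Sy4
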