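import Mathlib
import Cfsg.Agent.Lib.Lead.Sy4B
import Cfsg.Agent.Lib.Helper8.FStar
import Cfsg.Prelude.Def_ClassificationK

set_option autoImplicit false
set_option linter.style.haveILetI false

namespace Cfsg.Agent.Lib.Lead.Sy4

open Cfsg.Agent.Lib.Helper8

theorem cfg_of {G : Type*} [Group G] [Finite G] (z : G) (hz : orderOf z = 2)
    (hQ : Cfsg.IsOfSymplecticType
      ↥(Cfsg.generalizedFittingSubgroup ↥(Subgroup.centralizer ({z} : Set G))))
    (h4 : ∀ q ∈ (Cfsg.generalizedFittingSubgroup ↥(Subgroup.centralizer ({z} : Set G))).map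
      (Subgroup.centralizer ({z} : Set G)).subtype, q ^ 4 = 1) :
    Cfg z ((Cfsg.generalizedFittingSubgroup ↥(Subgroup.centralizer ({z} : Set G))).map
      (Subgroup.centralizer ({z} : Set G)).subtype) := by
  haveI : Fact (Nat.Prime 2) := ⟨Nat.prime_two⟩
  haveI hFn : (Cfsg.generalizedFittingSubgroup ↥(Subgroup.centralizer ({z} : Set G))).Normal :=
    generalizedFittingSubgroup_normal
  refine cfg_core z hz (Subgroup.centralizer ({z} : Set G)) ?_ _ hQ.1 hQ.2
    centralizer_generalizedFittingSubgroup_le ?_ ?_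
  · intro x
    rw [Subgroup.mem_centralizer_singleton_iff]
  · intro N hNn hN2
    have hnil : Group.IsNilpotent N := hN2.isNilpotent
    have h1 : N ≤ Cfsg.fittingSubgroup _ := le_sSup ⟨hNn, hnil⟩
    refine h1.trans ?_
    unfold Cfsg.generalizedFittingSubgroup
    exact le_sup_right
  · intro f
    apply Subtype.ext
    apply Subtype.ext
    simpa using h4 _ ⟨(f : _), f.2, rfl⟩

variable {G : Type*} [Group G]

theorem main_mem {z : G} {Q : Subgroup G} (h : Cfg z Q) (g : G) (hne : g * z * g⁻¹ ≠ z)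
    (hin : g * z * g⁻¹ ∈ Q) : z ∈ Q.map (MulAut.conj g).toMonoidHom := by
  by_contra hz
  have ha : Cfg (g * z * g⁻¹) (Q.map (MulAut.conj g).toMonoidHom) := by
    have := h.map (MulAut.conj g)
    simpa only [MulAut.conj_apply] using this
  obtain ⟨q, hqQ, hq⟩ := exists_q h ha.z2 ha.z1 hin hne
  have hfus : ∀ w : G, w * z = g * z * g⁻¹ * w → ∀ y ∈ Q,
      w * y * w⁻¹ ∈ Q.map (MulAut.conj g).toMonoidHom := by
    intro w hw y hy
    have hm : (g⁻¹ * w) * z = z * (g⁻¹ * w) := by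
      calc g⁻¹ * w * z = g⁻¹ * (w * z) := mul_assoc _ _ _
        _ = g⁻¹ * (g * z * g⁻¹ * w) := by rw [hw]
        _ = z * (g⁻¹ * w) := by group
    refine ⟨(g⁻¹ * w) * y * (g⁻¹ * w)⁻¹, h.nrm _ hm y hy, ?_⟩
    simp only [MulEquiv.coe_toMonoidHom, MulAut.conj_apply]
    group
  have c : Ctx z (g * z * g⁻¹) Q (Q.map (MulAut.conj g).toMonoidHom) q :=
    ⟨h, ha, hin, hne, hqQ, hq, hfus, hz⟩
  refine c.final ⟨g * (g * z * g⁻¹) * g⁻¹, ⟨g * z * g⁻¹, hin, ?_⟩, ?_, ?_⟩
  · simp only [MulEquiv.coe_toMonoidHom, MulAut.conj_apply]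
  · intro e
    apply ha.z1
    calc g * z * g⁻¹ = g⁻¹ * (g * (g * z * g⁻¹) * g⁻¹) * g := by group
      _ = 1 := by rw [e]; group
  · intro e
    apply hne
    calc g * z * g⁻¹ = g⁻¹ * (g * (g * z * g⁻¹) * g⁻¹) * g := by group
      _ = g⁻¹ * (g * z * g⁻¹) * g := by rw [e]
      _ = z := by group

theorem main_six {z : G} {Q : Subgroup G} (h : Cfg z Q) (g : G) (hne : g * z * g⁻¹ ≠ z)
    (hin : g * z * g⁻¹ ∈ Q) :
    ∀ u ∈ Subgroup.closure ({z, g * z * g⁻¹} : Set G),
      ∀ v ∈ Subgroup.closure ({z, g * z * g⁻¹} : Set G), u ≠ 1 → v ≠ 1 → u ≠ v →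
        ∃ x ∈ Q ⊔ Q.map (MulAut.conj g).toMonoidHom,
          x * z * x⁻¹ = u ∧ x * (g * z * g⁻¹) * x⁻¹ = v := by
  have hzQa := main_mem h g hne hin
  have ha : Cfg (g * z * g⁻¹) (Q.map (MulAut.conj g).toMonoidHom) := by
    have := h.map (MulAut.conj g)
    simpa only [MulAut.conj_apply] using this
  obtain ⟨a, hadef⟩ : ∃ a, a = g * z * g⁻¹ := ⟨_, rfl⟩
  obtain ⟨Qa, hQadef⟩ : ∃ Qa, Qa = Q.map (MulAut.conj g).toMonoidHom := ⟨_, rfl⟩
  rw [← hadef] at hne hin ha ⊢
  rw [← hQadef] at hzQa ha ⊢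
  have zz := h.z2
  have aa := ha.z2
  have az : a * z = z * a := h.QM a hin
  obtain ⟨q, hqQ, hq⟩ := exists_q h aa ha.z1 hin hne
  obtain ⟨x, hxQa, hx⟩ := exists_q ha zz h.z1 hzQa (Ne.symm hne)
  -- the actions
  have Sqz : SemiconjBy q z z := h.QM q hqQ
  have Sqa : SemiconjBy q a (z * a) := qa_of h hq
  have Sxa : SemiconjBy x a a := ha.QM x hxQa
  have Sxz : SemiconjBy x z (z * a) := by
    have := qa_of ha hx
    show x * z = z * a * x
    rw [this, az]
  have e1 : z * (z * a) = a := by rw [← mul_assoc, zz, one_mul]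
  have e2 : z * a * a = z := by rw [mul_assoc, aa, mul_one]
  have Sqza : SemiconjBy q (z * a) a := by
    have := Sqz.mul_right Sqa
    rwa [e1] at this
  have Sxza : SemiconjBy x (z * a) z := by
    have := Sxz.mul_right Sxa
    rwa [e2] at this
  have Sqiz : SemiconjBy q⁻¹ z z := Sqz.inv_symm_left
  have Sqia : SemiconjBy q⁻¹ a (z * a) := Sqza.inv_symm_left
  have conj_of : ∀ {w s t : G}, SemiconjBy w s t → w * s * w⁻¹ = t := by
    intro w s t hS
    rw [hS.eq, mul_inv_cancel_right]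
  have hqS : q ∈ Q ⊔ Qa := Subgroup.mem_sup_left hqQ
  have hxS : x ∈ Q ⊔ Qa := Subgroup.mem_sup_right hxQa
  have zinv : z⁻¹ = z := inv_eq_of_mul_eq_one_left zz
  have ainv : a⁻¹ = a := inv_eq_of_mul_eq_one_left aa
  have aza : a * (z * a) = z := by rw [← mul_assoc, az, mul_assoc, aa, mul_one]
  have hV : ∀ u ∈ Subgroup.closure ({z, a} : Set G), u = 1 ∨ u = z ∨ u = a ∨ u = z * a := by
    intro u hu
    induction hu using Subgroup.closure_induction with
    | mem y hy =>
      rcases hy with hy | hy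
      · right; left; exact hy
      · right; right; left; exact hy
    | one => left; rfl
    | mul y w _ _ hy hw =>
      rcases hy with hy | hy | hy | hy <;> rcases hw with hw | hw | hw | hw <;> rw [hy, hw] <;>
        simp [mul_assoc, zz, aa, az, e1, aza]
    | inv y _ hy =>
      rcases hy with hy | hy | hy | hy <;> rw [hy] <;> simp [zinv, ainv, az]
  intro u hu v hv hu1 hv1 huv
  rcases hV u hu with eu | eu | eu | eu
  · exact absurd eu hu1
  · rcases hV v hv with ev | ev | ev | ev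
    · exact absurd ev hv1
    · exact absurd (eu.trans ev.symm) huv
    · refine ⟨1, Subgroup.one_mem _, ?_, ?_⟩
      · rw [eu]; simp
      · rw [ev]; simp
    · refine ⟨q, hqS, ?_, ?_⟩
      · rw [eu]; exact conj_of Sqz
      · rw [ev]; exact conj_of Sqa
  · rcases hV v hv with ev | ev | ev | ev
    · exact absurd ev hv1
    · refine ⟨q * x * q⁻¹, Subgroup.mul_mem _ (Subgroup.mul_mem _ hqS hxS) (Subgroup.inv_mem _ hqS),
        ?_, ?_⟩
      · rw [eu]; exact conj_of ((Sqza.mul_left Sxz).mul_left Sqiz)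
      · rw [ev]; exact conj_of ((Sqz.mul_left Sxza).mul_left Sqia)
    · exact absurd (eu.trans ev.symm) huv
    · refine ⟨q * x, Subgroup.mul_mem _ hqS hxS, ?_, ?_⟩
      · rw [eu]; exact conj_of (Sqza.mul_left Sxz)
      · rw [ev]; exact conj_of (Sqa.mul_left Sxa)
  · rcases hV v hv with ev | ev | ev | ev
    · exact absurd ev hv1
    · refine ⟨x * q, Subgroup.mul_mem _ hxS hqS, ?_, ?_⟩
      · rw [eu]; exact conj_of (Sxz.mul_left Sqz)
      · rw [ev]; exact conj_of (Sxza.mul_left Sqa)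
    · refine ⟨x, hxS, ?_, ?_⟩
      · rw [eu]; exact conj_of Sxz
      · rw [ev]; exact conj_of Sxa
    · exact absurd (eu.trans ev.symm) huv

end Cfsg.Agent.Lib.Lead.Sy4
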