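import Mathlib

namespace Cfsg.Agent.Lib.Lead.SylowTrans

open MulAction

/-- A Sylow `p`-subgroup of a finite group acting transitively on a set of `p`-power size is
itself transitive. -/
theorem sylow_pretransitive {G Ω : Type*} [Group G] [Finite G] [MulAction G Ω]
    [IsPretransitive G Ω] [Finite Ω] {p f : ℕ} [hp : Fact p.Prime] (hcard : Nat.card Ω = p ^ f)
    (P : Sylow p G) : IsPretransitive (P : Subgroup G) Ω := by
  have hne : Nonempty Ω := by
    rw [← Finite.card_pos_iff, hcard]; exact pow_pos hp.out.pos f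
  obtain ⟨x⟩ := hne
  -- the orbit of x under P is everything
  have hidx : (stabilizer G x).index = p ^ f := by
    rw [index_stabilizer_of_transitive, hcard]
  let Q : Subgroup (P : Subgroup G) := stabilizer (P : Subgroup G) x
  have hQp : IsPGroup p Q := P.isPGroup'.to_subgroup Q
  obtain ⟨c, hc⟩ := IsPGroup.iff_card.mp hQp
  have hQS : Nat.card Q ∣ Nat.card (stabilizer G x) := by
    have hle : Q.map (P : Subgroup G).subtype ≤ stabilizer G x := by
      rintro _ ⟨g, hg, rfl⟩
      exact hg
    have := Subgroup.card_dvd_of_le hle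
    rwa [Subgroup.card_map_of_injective (Subgroup.subtype_injective _)] at this
  have hG : Nat.card G = p ^ f * Nat.card (stabilizer G x) := by
    rw [← hidx, Subgroup.index_mul_card]
  have hdvd : p ^ (f + c) ∣ Nat.card G := by
    rw [hG, pow_add, ← hc]
    exact Nat.mul_dvd_mul_left _ hQS
  have hle : f + c ≤ (Nat.card G).factorization p :=
    (hp.out.pow_dvd_iff_le_factorization Nat.card_pos.ne').mp hdvd
  have hP : Nat.card (P : Subgroup G) = p ^ (Nat.card G).factorization p := P.card_eq_multiplicity
  have horb : (orbit (P : Subgroup G) x).ncard * Nat.card Q = Nat.card (P : Subgroup G) := by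
    rw [← index_stabilizer, Subgroup.index_mul_card]
  have hge : p ^ f ≤ (orbit (P : Subgroup G) x).ncard := by
    rw [hP, hc] at horb
    have h1 : p ^ (f + c) ∣ (orbit (P : Subgroup G) x).ncard * p ^ c := by
      rw [horb]; exact pow_dvd_pow p hle
    rw [pow_add] at h1
    have h2 : p ^ f ∣ (orbit (P : Subgroup G) x).ncard :=
      Nat.dvd_of_mul_dvd_mul_right (pow_pos hp.out.pos c) h1
    have hpos : 0 < (orbit (P : Subgroup G) x).ncard :=
      (Set.ncard_pos (Set.toFinite _)).mpr ⟨x, mem_orbit_self x⟩
    exact Nat.le_of_dvd hpos h2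
  have huniv : orbit (P : Subgroup G) x = Set.univ := by
    by_contra hne
    have := Set.ncard_lt_card hne
    rw [hcard] at this
    omega
  constructor
  intro y z
  have hy : y ∈ orbit (P : Subgroup G) x := by rw [huniv]; exact Set.mem_univ y
  have hz : z ∈ orbit (P : Subgroup G) x := by rw [huniv]; exact Set.mem_univ z
  obtain ⟨g, rfl⟩ := hy
  obtain ⟨h, rfl⟩ := hz
  exact ⟨h * g⁻¹, by rw [mul_smul, inv_smul_smul]⟩

end Cfsg.Agent.Lib.Lead.SylowTrans
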