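import Mathlib

/-! Transfer evaluated on an element whose conjugates in `H` are controlled. -/

namespace Cfsg.Agent.Lib.Lead.TransferCtrl

open Subgroup MulAction

variable {G : Type*} [Group G] {H : Subgroup G} {A : Type*} [CommGroup A]

/-- If every conjugate of a power `g ^ n` lying in `H` has the same image as `g ^ n` under `ϕ`,
then the transfer of `g` is `ϕ g ^ [G : H]`. -/
theorem transfer_eq_pow_of_ctrl (ϕ : H →* A) [H.FiniteIndex] (g : G) (hgH : g ∈ H)
    (hctrl : ∀ (n : ℕ) (a : G) (ha : a⁻¹ * g ^ n * a ∈ H),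
      ϕ ⟨a⁻¹ * g ^ n * a, ha⟩ = ϕ ⟨g, hgH⟩ ^ n) :
    MonoidHom.transfer ϕ g = ϕ ⟨g, hgH⟩ ^ H.index := by
  classical
  haveI : Fintype (Quotient (MulAction.orbitRel (zpowers g) (G ⧸ H))) := Fintype.ofFinite _
  rw [MonoidHom.transfer_eq_prod_quotient_orbitRel_zpowers_quot,
    Subgroup.index_eq_sum_minimalPeriod H g, ← Finset.prod_pow_eq_pow_sum]
  apply Finset.prod_congr rfl
  intro q _
  exact hctrl _ _ _

end Cfsg.Agent.Lib.Lead.TransferCtrl
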