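import Mathlib
import Cfsg.Prelude.Def_Transfer
import Cfsg.Prelude.Def_CaseTheorems
import Cfsg.Agent.Lib.Helper1.PCore
import Cfsg.Agent.Lib.Helper1.Fitting
import Cfsg.Agent.Lib.Helper1.FittingCentralizer
import Cfsg.Agent.Lib.Helper1.ThompsonPQ
import Cfsg.Agent.Lib.Helper1.CoprimeGenCentralizers
import Cfsg.Agent.Lib.Helper2.Cores
import Cfsg.Agent.Lib.Helper2.PGroupOdd
import Cfsg.Agent.Lib.Lead.UniqueP
import Cfsg.Agent.Lib.Lead.Frob1

/-! Solvable groups with `O(H) = 1` all of whose involution centralizers are `2`-nilpotent. -/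

set_option autoImplicit false
set_option maxHeartbeats 1000000

namespace Cfsg.Agent.Lib.Lead.TwoNilp

open Cfsg.Agent.Lib

section generalities

variable {G : Type*} [Group G]

theorem eq_one_of_odd_dvd {g : G} (ho : Odd (orderOf g)) {k : ℕ} (hd : orderOf g ∣ 2 ^ k) :
    g = 1 := by
  have hcop : (orderOf g).Coprime (2 ^ k) := Nat.Coprime.pow_right k (Nat.coprime_two_right.2 ho)
  exact orderOf_eq_one_iff.1 (Nat.Coprime.eq_one_of_dvd hcop hd)

/-- an element lying in a `2`-subgroup and in a subgroup of odd order is trivial -/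
theorem eq_one_of_mem_of_mem [Finite G] {A B : Subgroup G} (hA : IsPGroup 2 A)
    (hB : (Nat.card B).Coprime 2) {g : G} (h1 : g ∈ A) (h2 : g ∈ B) : g = 1 := by
  obtain ⟨k, hk⟩ := hA ⟨g, h1⟩
  have hk' : g ^ 2 ^ k = 1 := by
    have := congrArg Subtype.val hk
    simpa using this
  have hd1 : orderOf g ∣ 2 ^ k := orderOf_dvd_of_pow_eq_one hk'
  have hd2 : orderOf g ∣ Nat.card B := by
    have := orderOf_dvd_natCard (⟨g, h2⟩ : B)
    rwa [Subgroup.orderOf_mk] at this
  have hcop : (Nat.card B).Coprime (2 ^ k) := Nat.Coprime.pow_right k hB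
  exact orderOf_eq_one_iff.1 (Nat.eq_one_of_dvd_coprimes hcop hd2 hd1)

theorem not_odd_two_pow {i : ℕ} (hi : 0 < i) : ¬ Odd (2 ^ i) :=
  Nat.not_odd_iff_even.2 (Nat.even_pow.2 ⟨even_two, hi.ne'⟩)

/-- a subgroup of `2`-power index contains every overgroup of odd order -/
theorem le_of_odd_of_index [Finite G] {A B : Subgroup G} (hAB : A ≤ B) (hB : Odd (Nat.card B))
    (hA : ∃ j : ℕ, A.index = 2 ^ j) : B ≤ A := by
  obtain ⟨j, hj⟩ := hA
  rw [← Subgroup.relIndex_eq_one]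
  have h1 : A.relIndex B ∣ 2 ^ j := hj ▸ Subgroup.relIndex_dvd_index_of_le hAB
  have h2 : A.relIndex B ∣ Nat.card B := Subgroup.relIndex_dvd_card A B
  have h3 : Odd (A.relIndex B) := hB.of_dvd_nat h2
  obtain ⟨i, -, hi⟩ := (Nat.dvd_prime_pow Nat.prime_two).1 h1
  rw [hi] at h3 ⊢
  rcases Nat.eq_zero_or_pos i with rfl | hpos
  · rfl
  · exact absurd h3 (not_odd_two_pow hpos)

end generalities

section main

variable {H : Type*} [Group H] [Finite H]

/-- the centralizer of an involution is a `2`-group -/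
theorem key (hsol : Group.IsSolvable H) (hO : Cfsg.pPrimeCore 2 H = ⊥)
    (hI : ∀ t : H, orderOf t = 2 →
      Cfsg.HasNormalPComplement 2 ↥(Subgroup.centralizer ({t} : Set H)))
    (z x : H) (hz : orderOf z = 2) (hx : Odd (orderOf x)) (hzx : z * x = x * z) : x = 1 := by
  haveI := hsol
  haveI : Fact (Nat.Prime 2) := ⟨Nat.prime_two⟩
  obtain ⟨Y, hY⟩ : ∃ Y : Subgroup H, Y = Cfsg.pCore 2 H := ⟨_, rfl⟩
  have hYn : Y.Normal := hY ▸ Helper1.pCore_normal 2
  have hY2 : IsPGroup 2 Y := hY ▸ Helper1.pCore_isPGroup 2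
  have hCY : Subgroup.centralizer (Y : Set H) ≤ Y := hY ▸ Helper1.centralizer_pCore_le 2 hO
  obtain ⟨P, N, hNn, hNP⟩ := hI z hz
  obtain ⟨k, hk⟩ := IsPGroup.exists_card_eq P.2
  have hNidx : N.index = 2 ^ k := by rw [← hk]; exact hNP.symm.index_eq_card
  have hNodd : (Nat.card N).Coprime 2 := by
    have h1 : (P : Subgroup ↥(Subgroup.centralizer ({z} : Set H))).index = Nat.card N :=
      hNP.index_eq_card
    rw [← h1, Nat.coprime_comm, Nat.Prime.coprime_iff_not_dvd Nat.prime_two]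
    exact P.not_dvd_index
  obtain ⟨K, hK⟩ : ∃ K : Subgroup H,
      K = N.map (Subgroup.centralizer ({z} : Set H)).subtype := ⟨_, rfl⟩
  have hKcard : (Nat.card K).Coprime 2 := by
    rw [hK, Subgroup.card_map_of_injective (Subgroup.subtype_injective _)]; exact hNodd
  have hKC : K ≤ Subgroup.centralizer ({z} : Set H) := by
    rw [hK]; exact Subgroup.map_subtype_le N
  have hmemK : ∀ n : ↥(Subgroup.centralizer ({z} : Set H)), n ∈ N → (n : H) ∈ K :=
    fun n hn => hK ▸ ⟨n, hn, rfl⟩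
  have hxC : x ∈ Subgroup.centralizer ({z} : Set H) :=
    Subgroup.mem_centralizer_singleton_iff.2 hzx.symm
  have hxN : (⟨x, hxC⟩ : ↥(Subgroup.centralizer ({z} : Set H))) ∈ N := by
    haveI := hNn
    apply Lead.Frob.mem_of_coprime_orderOf_index N
    rw [Subgroup.orderOf_mk, hNidx]
    exact Nat.Coprime.pow_right k (Nat.coprime_two_right.2 hx)
  have hxK : x ∈ K := hmemK ⟨x, hxC⟩ hxN
  have hcomm : Y ⊓ Subgroup.centralizer (Subgroup.zpowers z : Set H) ≤
      Subgroup.centralizer (K : Set H) := by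
    rintro u ⟨huY, huz⟩
    rw [Subgroup.mem_centralizer_iff]
    intro k' hk'
    rw [hK] at hk'
    obtain ⟨n, hn, rfl⟩ := hk'
    have huC : u ∈ Subgroup.centralizer ({z} : Set H) := by
      rw [Subgroup.mem_centralizer_singleton_iff]
      exact (Subgroup.mem_centralizer_iff.1 huz z (Subgroup.mem_zpowers z)).symm
    have hc : (⟨u, huC⟩ : ↥(Subgroup.centralizer ({z} : Set H))) * n *
        (⟨u, huC⟩ : ↥(Subgroup.centralizer ({z} : Set H)))⁻¹ * n⁻¹ ∈ N :=
      N.mul_mem (hNn.conj_mem n hn _) (N.inv_mem hn)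
    have hcK : u * (n : H) * u⁻¹ * (n : H)⁻¹ ∈ K := hmemK _ hc
    have hcY : u * (n : H) * u⁻¹ * (n : H)⁻¹ ∈ Y := by
      have h1 : (n : H) * u⁻¹ * (n : H)⁻¹ ∈ Y := hYn.conj_mem _ (Y.inv_mem huY) _
      have h2 := Y.mul_mem huY h1
      have e : u * ((n : H) * u⁻¹ * (n : H)⁻¹) = u * (n : H) * u⁻¹ * (n : H)⁻¹ := by group
      rwa [e] at h2
    have h1 := eq_one_of_mem_of_mem hY2 hKcard hcY hcK
    have h2 : u * (n : H) = (n : H) * u := by
      calc u * (n : H) = (u * (n : H) * u⁻¹ * (n : H)⁻¹) * ((n : H) * u) := by group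
        _ = (n : H) * u := by rw [h1, one_mul]
    exact h2.symm
  have hKY : K ≤ Subgroup.centralizer (Y : Set H) := by
    apply Helper1.thompson_PxQ 2 (Subgroup.zpowers z) K Y
    · exact IsPGroup.of_card (n := 1) (by rw [Nat.card_zpowers, hz, pow_one])
    · exact hKcard
    · exact hY2
    · rw [Subgroup.zpowers_le, Subgroup.mem_centralizer_iff]
      intro k' hk'
      have := hKC hk'
      rw [Subgroup.mem_centralizer_singleton_iff] at this
      exact this
    · rw [Subgroup.normalizer_eq_top_iff.2 hYn]; exact le_top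
    · rw [Subgroup.normalizer_eq_top_iff.2 hYn]; exact le_top
    · exact hcomm
  exact eq_one_of_mem_of_mem hY2 hKcard ((hKY.trans hCY) hxK) hxK

theorem part1 (hsol : Group.IsSolvable H) (hO : Cfsg.pPrimeCore 2 H = ⊥)
    (hI : ∀ t : H, orderOf t = 2 →
      Cfsg.HasNormalPComplement 2 ↥(Subgroup.centralizer ({t} : Set H)))
    (X : Subgroup H) (hXodd : Odd (Nat.card X)) :
    ∀ x ∈ X, x ≠ 1 → ∀ y ∈ Cfsg.pCore 2 H, y ≠ 1 → x * y ≠ y * x := by
  haveI : Fact (Nat.Prime 2) := ⟨Nat.prime_two⟩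
  intro x hx hx1 y hy hy1 hxy
  have hY2 : IsPGroup 2 (Cfsg.pCore 2 H) := Helper1.pCore_isPGroup 2
  obtain ⟨m, hm⟩ := IsPGroup.iff_orderOf.1 hY2 ⟨y, hy⟩
  rw [Subgroup.orderOf_mk] at hm
  have hm0 : m ≠ 0 := by
    rintro rfl
    rw [pow_zero, orderOf_eq_one_iff] at hm
    exact hy1 hm
  obtain ⟨m', rfl⟩ := Nat.exists_eq_succ_of_ne_zero hm0
  have hz : orderOf (y ^ 2 ^ m') = 2 := by
    rw [orderOf_pow_of_dvd (pow_ne_zero _ two_ne_zero)
      (by rw [hm]; exact pow_dvd_pow 2 (Nat.le_succ m')), hm, pow_succ,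
      Nat.mul_div_cancel_left _ (pow_pos two_pos m')]
  have hxo : Odd (orderOf x) := by
    have := orderOf_dvd_natCard (⟨x, hx⟩ : X)
    rw [Subgroup.orderOf_mk] at this
    exact hXodd.of_dvd_nat this
  have hcomm : y ^ 2 ^ m' * x = x * y ^ 2 ^ m' := by
    have : Commute y x := hxy.symm
    exact (this.pow_left _).eq
  exact hx1 (key hsol hO hI _ x hz hxo hcomm)

/-- no element has order `2 m` with `m > 1` odd -/
theorem two_pow_of_even (hsol : Group.IsSolvable H) (hO : Cfsg.pPrimeCore 2 H = ⊥)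
    (hI : ∀ t : H, orderOf t = 2 →
      Cfsg.HasNormalPComplement 2 ↥(Subgroup.centralizer ({t} : Set H)))
    (g : H) (hg : 2 ∣ orderOf g) : ∃ k, orderOf g = 2 ^ k := by
  have hn0 : orderOf g ≠ 0 := (orderOf_pos g).ne'
  obtain ⟨a, m, hm, hn⟩ := Nat.exists_eq_two_pow_mul_odd hn0
  have ha : a ≠ 0 := by
    rintro rfl
    rw [pow_zero, one_mul] at hn
    rw [hn] at hg
    exact (Nat.not_even_iff_odd.2 hm) (even_iff_two_dvd.2 hg)
  obtain ⟨a', rfl⟩ : ∃ a', a = a' + 1 := ⟨a - 1, by omega⟩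
  have hmpos : 0 < m := hm.pos
  have hne : 2 ^ a' * m ≠ 0 := (Nat.mul_pos (pow_pos two_pos _) hmpos).ne'
  have hz : orderOf (g ^ (2 ^ a' * m)) = 2 := by
    rw [orderOf_pow_of_dvd hne (by rw [hn]; exact ⟨2, by ring⟩), hn,
      show 2 ^ (a' + 1) * m = (2 ^ a' * m) * 2 by ring]
    exact Nat.mul_div_cancel_left 2 (Nat.pos_of_ne_zero hne)
  have hxo : orderOf (g ^ 2 ^ (a' + 1)) = m := by
    rw [orderOf_pow_of_dvd (pow_ne_zero _ two_ne_zero) (by rw [hn]; exact dvd_mul_right _ _), hn]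
    exact Nat.mul_div_cancel_left m (pow_pos two_pos _)
  have hcomm : g ^ (2 ^ a' * m) * g ^ 2 ^ (a' + 1) = g ^ 2 ^ (a' + 1) * g ^ (2 ^ a' * m) := by
    rw [← pow_add, ← pow_add, add_comm]
  have h1 := key hsol hO hI _ _ hz (hxo ▸ hm) hcomm
  rw [← orderOf_eq_one_iff, hxo] at h1
  exact ⟨a' + 1, by rw [hn, h1, mul_one]⟩

theorem part2 (hsol : Group.IsSolvable H) (hO : Cfsg.pPrimeCore 2 H = ⊥)
    (hI : ∀ t : H, orderOf t = 2 →
      Cfsg.HasNormalPComplement 2 ↥(Subgroup.centralizer ({t} : Set H)))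
    (X : Subgroup H) (hXodd : Odd (Nat.card X))
    (p : ℕ) [hp : Fact p.Prime] (P : Sylow p ↥X) : IsCyclic ↥(P : Subgroup ↥X) := by
  haveI := hsol
  haveI : Fact (Nat.Prime 2) := ⟨Nat.prime_two⟩
  by_contra hnc
  have hPp : IsPGroup p ↥(P : Subgroup ↥X) := P.2
  have hp2 : p ≠ 2 := by
    rintro rfl
    apply hnc
    have hcard : Nat.card ↥(P : Subgroup ↥X) = 1 := by
      obtain ⟨k, hk⟩ := hPp.exists_card_eq
      have hd : Nat.card ↥(P : Subgroup ↥X) ∣ Nat.card X := Subgroup.card_subgroup_dvd_card _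
      have hodd : Odd (Nat.card ↥(P : Subgroup ↥X)) := hXodd.of_dvd_nat hd
      rw [hk] at hodd ⊢
      rcases Nat.eq_zero_or_pos k with rfl | hpos
      · rfl
      · exact absurd hodd (not_odd_two_pow hpos)
    haveI : Subsingleton ↥(P : Subgroup ↥X) := (Nat.card_eq_one_iff_unique.1 hcard).1
    exact isCyclic_of_subsingleton
  obtain ⟨E, -, hEcard, hEexp⟩ := Helper2.exists_normal_elementary_sq hp2 hPp hnc
  obtain ⟨A, hA⟩ : ∃ A : Subgroup H,
      A = (E.map (P : Subgroup ↥X).subtype).map X.subtype := ⟨_, rfl⟩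
  have hAcard : Nat.card A = p ^ 2 := by
    rw [hA, Subgroup.card_map_of_injective (Subgroup.subtype_injective _),
      Subgroup.card_map_of_injective (Subgroup.subtype_injective _), hEcard]
  have hAX : A ≤ X := by rw [hA]; exact Subgroup.map_subtype_le _
  have hAexp : ∀ a ∈ A, a ^ p = 1 := by
    rw [hA]
    rintro a ⟨b, ⟨e, he, rfl⟩, rfl⟩
    have h1 := hEexp e he
    have h2 := congrArg (fun t : ↥(P : Subgroup ↥X) => ((t : ↥X) : H)) h1
    simpa using h2
  haveI hAc : IsMulCommutative A := IsPGroup.isMulCommutative_of_card_eq_prime_sq hAcard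
  have hAnc : ¬ IsCyclic A := by
    intro hcyc
    obtain ⟨g, hg⟩ := hcyc.exists_generator
    have h1 : orderOf g = Nat.card A := orderOf_eq_card_of_forall_mem_zpowers hg
    have h2 : g ^ p = 1 := Subtype.ext (by simpa using hAexp g g.2)
    have h3 : orderOf g ∣ p := orderOf_dvd_of_pow_eq_one h2
    have h4 := Nat.le_of_dvd hp.out.pos h3
    rw [h1, hAcard] at h4
    have : p < p ^ 2 := by nlinarith [hp.out.one_lt]
    omega
  obtain ⟨Y, hY⟩ : ∃ Y : Subgroup H, Y = Cfsg.pCore 2 H := ⟨_, rfl⟩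
  have hYn : Y.Normal := hY ▸ Helper1.pCore_normal 2
  have hY2 : IsPGroup 2 Y := hY ▸ Helper1.pCore_isPGroup 2
  have hgen := Helper1.coprime_generated_by_centralizers A Y hAnc
    (by rw [Subgroup.normalizer_eq_top_iff.2 hYn]; exact le_top)
    (by
      obtain ⟨k, hk⟩ := hY2.exists_card_eq
      rw [hAcard, hk]
      apply Nat.Coprime.pow
      exact (Nat.coprime_primes hp.out Nat.prime_two).2 hp2)
  have hbot : (⨆ a ∈ {a : H | a ∈ A ∧ a ≠ 1}, Y ⊓ Subgroup.centralizer {a}) = ⊥ := by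
    rw [eq_bot_iff]
    apply iSup₂_le
    rintro a ⟨haA, ha1⟩ u ⟨huY, hua⟩
    rw [Subgroup.mem_bot]
    by_contra hu1
    have hua' : u ∈ Subgroup.centralizer ({a} : Set H) := hua
    rw [Subgroup.mem_centralizer_singleton_iff] at hua'
    have huY' : u ∈ Y := huY
    exact part1 hsol hO hI X hXodd a (hAX haA) ha1 u (hY ▸ huY') hu1 hua'.symm
  rw [hbot] at hgen
  have hCY : Subgroup.centralizer (Y : Set H) ≤ Y := hY ▸ Helper1.centralizer_pCore_le 2 hO
  rw [← hgen] at hCY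
  have htop : (⊤ : Subgroup H) ≤ ⊥ := by
    intro g _
    apply hCY
    rw [Subgroup.mem_centralizer_iff]
    intro h hh
    rw [Subgroup.coe_bot, Set.mem_singleton_iff] at hh
    rw [hh, one_mul, mul_one]
  have hA1 : Nat.card A = 1 := by
    have hA' : A = ⊥ := eq_bot_iff.2 (le_top.trans htop)
    rw [hA', Subgroup.card_bot]
  rw [hAcard] at hA1
  have : 1 < p ^ 2 := Nat.one_lt_pow (by norm_num) hp.out.one_lt
  omega

end main

end Cfsg.Agent.Lib.Lead.TwoNilp
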