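import Mathlib
import Cfsg.Agent.Lib.Lead.TwoNilp

/-! Solvable groups with `O(H) = 1` all of whose involution centralizers are `2`-nilpotent:
the quotient by `O_2(H)`. -/

set_option autoImplicit false
set_option maxHeartbeats 1000000

namespace Cfsg.Agent.Lib.Lead.TwoNilp

open Cfsg.Agent.Lib

variable {H : Type*} [Group H] [Finite H]

theorem part34 (hsol : Group.IsSolvable H) (hO : Cfsg.pPrimeCore 2 H = ⊥)
    (hI : ∀ t : H, orderOf t = 2 →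
      Cfsg.HasNormalPComplement 2 ↥(Subgroup.centralizer ({t} : Set H)))
    (X : Subgroup H) (hXodd : Odd (Nat.card X)) (hXidx : ∃ k : ℕ, X.index = 2 ^ k) :
    (X ⊔ Cfsg.pCore 2 H).Normal ∧
      ∀ hN : (X ⊔ Cfsg.pCore 2 H).Normal,
        IsCyclic (H ⧸ (X ⊔ Cfsg.pCore 2 H)) ∧ IsPGroup 2 (H ⧸ (X ⊔ Cfsg.pCore 2 H)) := by
  haveI := hsol
  haveI : Fact (Nat.Prime 2) := ⟨Nat.prime_two⟩
  obtain ⟨Y, hY⟩ : ∃ Y : Subgroup H, Y = Cfsg.pCore 2 H := ⟨_, rfl⟩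
  rw [← hY]
  haveI hYn : Y.Normal := hY ▸ Helper1.pCore_normal 2
  have hY2 : IsPGroup 2 Y := hY ▸ Helper1.pCore_isPGroup 2
  obtain ⟨π, hπ⟩ : ∃ π : H →* H ⧸ Y, π = QuotientGroup.mk' Y := ⟨_, rfl⟩
  have hπs : Function.Surjective π := hπ ▸ QuotientGroup.mk'_surjective Y
  have hπk : π.ker = Y := hπ ▸ QuotientGroup.ker_mk' Y
  -- `O_2 (H/Y) = 1`
  have hQ1 : Cfsg.pCore 2 (H ⧸ Y) = ⊥ := by
    have h1 : IsPGroup 2 ((Cfsg.pCore 2 (H ⧸ Y)).comap π) :=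
      (Helper1.pCore_isPGroup 2).comap_of_ker_isPGroup π (by rw [hπk]; exact hY2)
    have h2 : (Cfsg.pCore 2 (H ⧸ Y)).comap π ≤ Y :=
      (Helper1.le_pCore ((Helper1.pCore_normal 2).comap π) h1).trans (le_of_eq hY.symm)
    rw [eq_bot_iff, ← Subgroup.map_comap_eq_self_of_surjective hπs (Cfsg.pCore 2 (H ⧸ Y))]
    rintro g ⟨h, hh, rfl⟩
    rw [Subgroup.mem_bot]
    have h3 : h ∈ π.ker := by rw [hπk]; exact h2 hh
    exact h3
  have hQ2 : ∀ g : H ⧸ Y, 2 ∣ orderOf g → ∃ k, orderOf g = 2 ^ k := by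
    intro g hg
    obtain ⟨h, rfl⟩ := hπs g
    have hd : orderOf (π h) ∣ orderOf h := orderOf_map_dvd π h
    obtain ⟨k, hk⟩ := two_pow_of_even hsol hO hI h (hg.trans hd)
    rw [hk] at hd
    obtain ⟨j, -, hj⟩ := (Nat.dvd_prime_pow Nat.prime_two).1 hd
    exact ⟨j, hj⟩
  have hQ2' : ∀ v w : H ⧸ Y, orderOf v = 2 → Odd (orderOf w) → v * w = w * v → w = 1 := by
    intro v w hv hw hvw
    have hcop : (orderOf v).Coprime (orderOf w) := by
      rw [hv]; exact Nat.coprime_two_left.2 hw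
    have ho := Commute.orderOf_mul_eq_mul_orderOf_of_coprime (show Commute v w from hvw) hcop
    obtain ⟨k, hk⟩ := hQ2 (v * w) (by rw [ho, hv]; exact dvd_mul_right 2 _)
    have hd : orderOf w ∣ 2 ^ k := by rw [← hk, ho]; exact dvd_mul_left _ _
    exact eq_one_of_odd_dvd hw hd
  -- the Fitting subgroup of the quotient
  obtain ⟨F, hF⟩ : ∃ F : Subgroup (H ⧸ Y), F = Cfsg.fittingSubgroup (H ⧸ Y) := ⟨_, rfl⟩
  haveI hFn : F.Normal := hF ▸ Helper1.fittingSubgroup_normal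
  haveI hFnil : Group.IsNilpotent F := hF ▸ Helper1.fittingSubgroup_isNilpotent
  have hFC : Subgroup.centralizer (F : Set (H ⧸ Y)) ≤ F :=
    hF ▸ Helper1.centralizer_fittingSubgroup_le
  have hFodd : Odd (Nat.card F) := by
    by_contra hne
    rw [Nat.not_odd_iff_even, even_iff_two_dvd] at hne
    obtain ⟨P⟩ : Nonempty (Sylow 2 F) := inferInstance
    have htf := (Group.isNilpotent_of_finite_tfae (G := F)).out 0 3
    have hPn : (P : Subgroup F).Normal := htf.1 hFnil 2 inferInstance P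
    haveI hPc : (P : Subgroup F).Characteristic := Sylow.characteristic_of_normal P hPn
    have hPN : ((P : Subgroup F).map F.subtype).Normal :=
      ConjAct.normal_of_characteristic_of_normal
    have hP2 : IsPGroup 2 ((P : Subgroup F).map F.subtype) := P.2.map F.subtype
    have hle : (P : Subgroup F).map F.subtype ≤ Cfsg.pCore 2 (H ⧸ Y) := Helper1.le_pCore hPN hP2
    rw [hQ1, le_bot_iff] at hle
    have hPbot : (P : Subgroup F) = ⊥ :=
      (Subgroup.map_eq_bot_iff_of_injective _ (Subgroup.subtype_injective F)).1 hle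
    have hd : 2 ∣ Nat.card (P : Subgroup F) := P.dvd_card_of_dvd_card hne
    rw [hPbot, Subgroup.card_bot] at hd
    omega
  -- the image of `X`
  obtain ⟨Xb, hXb⟩ : ∃ Xb : Subgroup (H ⧸ Y), Xb = X.map π := ⟨_, rfl⟩
  have hXbodd : Odd (Nat.card Xb) := by
    rw [hXb]; exact hXodd.of_dvd_nat (Subgroup.card_map_dvd X π)
  have hXbidx : ∃ j : ℕ, Xb.index = 2 ^ j := by
    obtain ⟨k, hk⟩ := hXidx
    have hd : Xb.index ∣ 2 ^ k := by rw [hXb, ← hk]; exact X.index_map_dvd hπs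
    obtain ⟨j, -, hj⟩ := (Nat.dvd_prime_pow Nat.prime_two).1 hd
    exact ⟨j, hj⟩
  have hFX : F ≤ Xb := by
    have h1 : Odd (Nat.card (Xb ⊔ F : Subgroup (H ⧸ Y))) :=
      (hXbodd.mul hFodd).of_dvd_nat (Helper2.card_sup_dvd Xb F)
    exact le_sup_right.trans (le_of_odd_of_index le_sup_left h1 hXbidx)
  haveI hXZ : IsZGroup X := ⟨fun p hp P => by
    haveI : Fact p.Prime := ⟨hp⟩
    exact part2 hsol hO hI X hXodd p P⟩
  haveI hXbZ : IsZGroup Xb := by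
    rw [hXb]
    exact IsZGroup.of_surjective (f := π.subgroupMap X) (π.subgroupMap_surjective X)
  haveI hFZ : IsZGroup F :=
    IsZGroup.of_injective (f := Subgroup.inclusion hFX) (Subgroup.inclusion_injective hFX)
  haveI hFcyc : IsCyclic F := inferInstance
  -- a Sylow 2-subgroup of the quotient
  obtain ⟨S⟩ : Nonempty (Sylow 2 (H ⧸ Y)) := inferInstance
  have hS2 : IsPGroup 2 (S : Subgroup (H ⧸ Y)) := S.2
  have hFcop : (Nat.card F).Coprime 2 := Nat.coprime_two_right.2 hFodd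
  obtain ⟨f, hf⟩ := hFcyc.exists_generator
  have hFcomm : ∀ a b : F, a * b = b * a := fun a b => Lead.UniqueP.comm_of_isCyclic a b
  have hcent : ∀ c : H ⧸ Y, c * (f : H ⧸ Y) = (f : H ⧸ Y) * c → c ∈ F := by
    intro c hc
    apply hFC
    rw [Subgroup.mem_centralizer_iff]
    intro x hx
    obtain ⟨k, hk⟩ := Subgroup.mem_zpowers_iff.1 (hf ⟨x, hx⟩)
    have hx' : x = (f : H ⧸ Y) ^ k := by
      have := congrArg Subtype.val hk
      simpa using this.symm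
    rw [hx']
    exact ((show Commute c (f : H ⧸ Y) from hc).zpow_right k).eq.symm
  have hconj : ∀ s : H ⧸ Y, ∃ k : ℤ, s * (f : H ⧸ Y) * s⁻¹ = (f : H ⧸ Y) ^ k := by
    intro s
    have hmem : s * (f : H ⧸ Y) * s⁻¹ ∈ F := hFn.conj_mem _ f.2 s
    obtain ⟨k, hk⟩ := Subgroup.mem_zpowers_iff.1 (hf ⟨_, hmem⟩)
    refine ⟨k, ?_⟩
    have := congrArg Subtype.val hk
    simpa using this.symm
  have hSF : ∀ c : H ⧸ Y, c ∈ S → c ∈ F → c = 1 :=
    fun c h1 h2 => eq_one_of_mem_of_mem hS2 hFcop h1 h2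
  have hScomm : ∀ a b : H ⧸ Y, a ∈ S → b ∈ S → a * b = b * a := by
    intro a b ha hb
    obtain ⟨i, hi⟩ := hconj a
    obtain ⟨j, hj⟩ := hconj b
    have h1 : (a * b) * (f : H ⧸ Y) * (a * b)⁻¹ = (f : H ⧸ Y) ^ (j * i) := by
      calc (a * b) * (f : H ⧸ Y) * (a * b)⁻¹ = a * (b * (f : H ⧸ Y) * b⁻¹) * a⁻¹ := by group
        _ = a * (f : H ⧸ Y) ^ j * a⁻¹ := by rw [hj]
        _ = (a * (f : H ⧸ Y) * a⁻¹) ^ j := by rw [conj_zpow]
        _ = ((f : H ⧸ Y) ^ i) ^ j := by rw [hi]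
        _ = (f : H ⧸ Y) ^ (j * i) := by rw [← zpow_mul, mul_comm]
    have h2 : (b * a) * (f : H ⧸ Y) * (b * a)⁻¹ = (f : H ⧸ Y) ^ (j * i) := by
      calc (b * a) * (f : H ⧸ Y) * (b * a)⁻¹ = b * (a * (f : H ⧸ Y) * a⁻¹) * b⁻¹ := by group
        _ = b * (f : H ⧸ Y) ^ i * b⁻¹ := by rw [hi]
        _ = (b * (f : H ⧸ Y) * b⁻¹) ^ i := by rw [conj_zpow]
        _ = ((f : H ⧸ Y) ^ j) ^ i := by rw [hj]
        _ = (f : H ⧸ Y) ^ (j * i) := by rw [← zpow_mul]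
    have h3 : (a * b) * (f : H ⧸ Y) * (a * b)⁻¹ = (b * a) * (f : H ⧸ Y) * (b * a)⁻¹ :=
      h1.trans h2.symm
    have hc : ((b * a)⁻¹ * (a * b)) * (f : H ⧸ Y) = (f : H ⧸ Y) * ((b * a)⁻¹ * (a * b)) := by
      calc ((b * a)⁻¹ * (a * b)) * (f : H ⧸ Y)
          = (b * a)⁻¹ * ((a * b) * (f : H ⧸ Y) * (a * b)⁻¹) * (a * b) := by group
        _ = (b * a)⁻¹ * ((b * a) * (f : H ⧸ Y) * (b * a)⁻¹) * (a * b) := by rw [h3]
        _ = (f : H ⧸ Y) * ((b * a)⁻¹ * (a * b)) := by group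
    have hcS : (b * a)⁻¹ * (a * b) ∈ S :=
      Subgroup.mul_mem _ (Subgroup.inv_mem _ (Subgroup.mul_mem _ hb ha)) (Subgroup.mul_mem _ ha hb)
    have h4 := hSF _ hcS (hcent _ hc)
    exact (inv_mul_eq_one.1 h4).symm
  have hinv : ∀ v : H ⧸ Y, orderOf v = 2 → v * (f : H ⧸ Y) * v⁻¹ = (f : H ⧸ Y)⁻¹ := by
    intro v hv
    have hv2 : v * v = 1 := by rw [← pow_two, ← hv, pow_orderOf_eq_one]
    obtain ⟨t, ht⟩ : ∃ t : H ⧸ Y, t = v * (f : H ⧸ Y) * v⁻¹ := ⟨_, rfl⟩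
    have htF : t ∈ F := by rw [ht]; exact hFn.conj_mem _ f.2 v
    have hft : (f : H ⧸ Y) * t = t * (f : H ⧸ Y) := by
      have := hFcomm f ⟨t, htF⟩
      exact congrArg Subtype.val this
    have ht2 : v * t * v⁻¹ = (f : H ⧸ Y) := by
      rw [ht]
      calc v * (v * (f : H ⧸ Y) * v⁻¹) * v⁻¹ = (v * v) * (f : H ⧸ Y) * (v * v)⁻¹ := by group
        _ = (f : H ⧸ Y) := by rw [hv2]; group
    have hvw : v * ((f : H ⧸ Y) * t) = ((f : H ⧸ Y) * t) * v := by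
      calc v * ((f : H ⧸ Y) * t) = (v * (f : H ⧸ Y) * v⁻¹) * (v * t * v⁻¹) * v := by group
        _ = t * (f : H ⧸ Y) * v := by rw [← ht, ht2]
        _ = ((f : H ⧸ Y) * t) * v := by rw [hft]
    have hwF : (f : H ⧸ Y) * t ∈ F := F.mul_mem f.2 htF
    have hwodd : Odd (orderOf ((f : H ⧸ Y) * t)) := by
      have := orderOf_dvd_natCard (⟨_, hwF⟩ : F)
      rw [Subgroup.orderOf_mk] at this
      exact hFodd.of_dvd_nat this
    have h1 := hQ2' v _ hv hwodd hvw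
    rw [← ht]
    exact eq_inv_of_mul_eq_one_right h1
  have hSuop : Lead.UniqueP.UOP 2 ↥(S : Subgroup (H ⧸ Y)) := by
    intro x y hx hy hx1
    by_cases hy1 : y = 1
    · rw [hy1]; exact one_mem _
    have ox : orderOf x = 2 := orderOf_eq_prime hx hx1
    have oy : orderOf y = 2 := orderOf_eq_prime hy hy1
    have ox' : orderOf (x : H ⧸ Y) = 2 := (Subgroup.orderOf_coe x).trans ox
    have oy' : orderOf (y : H ⧸ Y) = 2 := (Subgroup.orderOf_coe y).trans oy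
    have hx_inv := hinv _ ox'
    have hy_inv := hinv _ oy'
    have hconj1 : ((x : H ⧸ Y) * y) * (f : H ⧸ Y) * ((x : H ⧸ Y) * y)⁻¹ = (f : H ⧸ Y) := by
      calc ((x : H ⧸ Y) * y) * (f : H ⧸ Y) * ((x : H ⧸ Y) * y)⁻¹
          = (x : H ⧸ Y) * ((y : H ⧸ Y) * (f : H ⧸ Y) * (y : H ⧸ Y)⁻¹) * (x : H ⧸ Y)⁻¹ := by group
        _ = (x : H ⧸ Y) * (f : H ⧸ Y)⁻¹ * (x : H ⧸ Y)⁻¹ := by rw [hy_inv]
        _ = ((x : H ⧸ Y) * (f : H ⧸ Y) * (x : H ⧸ Y)⁻¹)⁻¹ := by group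
        _ = (f : H ⧸ Y) := by rw [hx_inv, inv_inv]
    have hc : ((x : H ⧸ Y) * y) * (f : H ⧸ Y) = (f : H ⧸ Y) * ((x : H ⧸ Y) * y) := by
      calc ((x : H ⧸ Y) * y) * (f : H ⧸ Y)
          = (((x : H ⧸ Y) * y) * (f : H ⧸ Y) * ((x : H ⧸ Y) * y)⁻¹) * ((x : H ⧸ Y) * y) := by
            group
        _ = (f : H ⧸ Y) * ((x : H ⧸ Y) * y) := by rw [hconj1]
    have hxy1 : (x : H ⧸ Y) * y = 1 :=
      hSF _ (Subgroup.mul_mem _ x.2 y.2) (hcent _ hc)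
    have hyx : y = x⁻¹ := by
      apply Subtype.ext
      rw [Subgroup.coe_inv]
      exact eq_inv_of_mul_eq_one_right hxy1
    rw [hyx]
    exact Subgroup.inv_mem _ (Subgroup.mem_zpowers x)
  have hScyc : IsCyclic ↥(S : Subgroup (H ⧸ Y)) := by
    letI : CommGroup ↥(S : Subgroup (H ⧸ Y)) :=
      { (inferInstance : Group ↥(S : Subgroup (H ⧸ Y))) with
        mul_comm := fun a b => Subtype.ext (hScomm a b a.2 b.2) }
    exact Lead.UniqueP.isCyclic_of_comm 2 hS2 hSuop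
  -- the normal `2`-complement of the quotient
  obtain ⟨Nb, hNbn, hNbS⟩ : ∃ Nb : Subgroup (H ⧸ Y),
      Nb.Normal ∧ Nb.IsComplement' (S : Subgroup (H ⧸ Y)) := by
    by_cases heven : 2 ∣ Nat.card (H ⧸ Y)
    · have hmin : (Nat.card (H ⧸ Y)).minFac = 2 := (Nat.minFac_eq_two_iff _).2 heven
      exact ⟨_, MonoidHom.normal_ker _, IsCyclic.isComplement' hmin hScyc⟩
    · have hSbot : (S : Subgroup (H ⧸ Y)) = ⊥ := by
        rw [← Subgroup.card_eq_one]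
        obtain ⟨k, hk⟩ := hS2.exists_card_eq
        rcases Nat.eq_zero_or_pos k with rfl | hpos
        · rw [hk, pow_zero]
        · exfalso
          apply heven
          have : 2 ∣ Nat.card (S : Subgroup (H ⧸ Y)) := by
            rw [hk]; exact dvd_pow_self 2 hpos.ne'
          exact this.trans (Subgroup.card_subgroup_dvd_card _)
      refine ⟨⊤, inferInstance, ?_⟩
      rw [hSbot]
      exact Subgroup.isComplement'_top_bot
  have hNbodd : Odd (Nat.card Nb) := by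
    have h1 : (S : Subgroup (H ⧸ Y)).index = Nat.card Nb := hNbS.index_eq_card
    rw [← h1]
    exact Nat.odd_iff.2 (Nat.two_dvd_ne_zero.1 S.not_dvd_index)
  have hNbidx : Nb.index = Nat.card (S : Subgroup (H ⧸ Y)) := hNbS.symm.index_eq_card
  have hXN : Xb ≤ Nb := by
    intro x hx
    haveI := hNbn
    apply Lead.Frob.mem_of_coprime_orderOf_index Nb
    obtain ⟨k, hk⟩ := hS2.exists_card_eq
    rw [hNbidx, hk]
    apply Nat.Coprime.pow_right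
    have hodd : Odd (orderOf x) := by
      have := orderOf_dvd_natCard (⟨x, hx⟩ : Xb)
      rw [Subgroup.orderOf_mk] at this
      exact hXbodd.of_dvd_nat this
    exact Nat.coprime_two_right.2 hodd
  have hNX : Nb ≤ Xb := le_of_odd_of_index hXN hNbodd hXbidx
  have hXbN : Xb = Nb := le_antisymm hXN hNX
  have hXbn : Xb.Normal := hXbN ▸ hNbn
  have hsup : X ⊔ Y = Xb.comap π := by
    rw [hXb, Subgroup.comap_map_eq, hπk]
  have h3 : (X ⊔ Y).Normal := by rw [hsup]; exact hXbn.comap π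
  refine ⟨h3, fun hN => ?_⟩
  haveI := hN
  constructor
  · obtain ⟨ψ, hψ⟩ : ∃ ψ : H ⧸ Y →* H ⧸ (X ⊔ Y),
        ∀ h : H, ψ (π h) = (QuotientGroup.mk h : H ⧸ (X ⊔ Y)) := by
      refine ⟨QuotientGroup.map Y (X ⊔ Y) (MonoidHom.id H)
        (fun y hy => (le_sup_right : Y ≤ X ⊔ Y) hy), fun h => ?_⟩
      rw [hπ]
      rfl
    haveI := hScyc
    apply isCyclic_of_surjective (ψ.comp (S : Subgroup (H ⧸ Y)).subtype)
    intro q
    obtain ⟨h, rfl⟩ := QuotientGroup.mk_surjective q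
    obtain ⟨⟨n, s⟩, hns⟩ := hNbS.2 (π h)
    have hns' : (n : H ⧸ Y) * (s : H ⧸ Y) = π h := hns
    have hnX : (n : H ⧸ Y) ∈ X.map π := by rw [← hXb, hXbN]; exact n.2
    obtain ⟨x, hxX, hxn⟩ := hnX
    refine ⟨s, ?_⟩
    have hs : (s : H ⧸ Y) = π (x⁻¹ * h) := by
      rw [map_mul, map_inv, hxn, ← hns']; group
    show ψ (s : H ⧸ Y) = _
    rw [hs, hψ, QuotientGroup.eq]
    have hx' : x ∈ X ⊔ Y := (le_sup_left : X ≤ X ⊔ Y) hxX
    have h5 := hN.conj_mem x hx' h⁻¹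
    have e : (x⁻¹ * h)⁻¹ * h = h⁻¹ * x * h⁻¹⁻¹ := by group
    rw [e]
    exact h5
  · obtain ⟨k, hk⟩ := hXidx
    have hd : (X ⊔ Y).index ∣ 2 ^ k := hk ▸ Subgroup.index_dvd_of_le le_sup_left
    obtain ⟨j, -, hj⟩ := (Nat.dvd_prime_pow Nat.prime_two).1 hd
    apply IsPGroup.of_card (n := j)
    rw [← Subgroup.index_eq_card, hj]

theorem main215 (hsol : Group.IsSolvable H) (hO : Cfsg.oddCore H = ⊥)
    (hI : ∀ t : H, orderOf t = 2 →
      Cfsg.HasNormalPComplement 2 ↥(Subgroup.centralizer ({t} : Set H)))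
    (X : Subgroup H) (hXodd : Odd (Nat.card X)) (hXidx : ∃ k : ℕ, X.index = 2 ^ k) :
    (∀ x ∈ X, x ≠ 1 → ∀ y ∈ Cfsg.pCore 2 H, y ≠ 1 → x * y ≠ y * x) ∧
      (∀ (p : ℕ) [Fact p.Prime] (P : Sylow p ↥X), IsCyclic ↥(P : Subgroup ↥X)) ∧
      (X ⊔ Cfsg.pCore 2 H).Normal ∧
      ∀ hN : (X ⊔ Cfsg.pCore 2 H).Normal,
        IsCyclic (H ⧸ (X ⊔ Cfsg.pCore 2 H)) ∧ IsPGroup 2 (H ⧸ (X ⊔ Cfsg.pCore 2 H)) := by
  have hO' : Cfsg.pPrimeCore 2 H = ⊥ := hO
  obtain ⟨h3, h4⟩ := part34 hsol hO' hI X hXodd hXidx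
  exact ⟨part1 hsol hO' hI X hXodd, fun p _ P => part2 hsol hO' hI X hXodd p P, h3, h4⟩

end Cfsg.Agent.Lib.Lead.TwoNilp
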