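import Mathlib
import Cfsg.Agent.Lib.Lead.WRCore2

set_option autoImplicit false

namespace Cfsg.Agent.Lib.Lead.WRCore

open Cfsg.Agent.Lib.Lead.QDArith

theorem s1195 {S : Type*} [Group S] [Finite S] (hS : Cfsg.IsWreathed S) :
    Nat.card {C : ConjClasses S // ∃ t : S, orderOf t = 2 ∧ ConjClasses.mk t = C} = 3 := by
  classical
  obtain ⟨n, x, y, z, hw⟩ := exists_WR hS
  have hn1 := hw.n1
  have hh0 := hh_ne_zero (n := n) hn1
  have hcentral : ∀ c : S, c * a n x y (hh n) (hh n) * c⁻¹ = a n x y (hh n) (hh n) := by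
    intro c
    have := (Subgroup.mem_center_iff.1 (hw.diag_mem_center (hh n))) c
    rw [this, mul_inv_cancel_right]
  have key : {C : ConjClasses S | ∃ t : S, orderOf t = 2 ∧ ConjClasses.mk t = C}.ncard = 3 := by
    rw [Set.ncard_eq_three]
    refine ⟨ConjClasses.mk (a n x y (hh n) (hh n)), ConjClasses.mk (a n x y (hh n) 0),
      ConjClasses.mk (b n x y z 0 0), ?_, ?_, ?_, ?_⟩
    · intro h
      rw [ConjClasses.mk_eq_mk_iff_isConj, isConj_iff] at h
      obtain ⟨c, hc⟩ := h
      rw [hcentral] at hc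
      exact hh0 (hw.a_inj hc).2
    · intro h
      rw [ConjClasses.mk_eq_mk_iff_isConj, isConj_iff] at h
      obtain ⟨c, hc⟩ := h
      rw [hcentral] at hc
      exact hw.b_ne_a _ _ _ _ hc.symm
    · intro h
      rw [ConjClasses.mk_eq_mk_iff_isConj, isConj_iff] at h
      obtain ⟨c, hc⟩ := h
      rcases hw.exists_rep c with ⟨k, l, rfl⟩ | ⟨k, l, rfl⟩
      · rw [hw.a_conj_a] at hc
        exact hw.b_ne_a _ _ _ _ hc.symm
      · rw [hw.b_conj_a] at hc
        exact hw.b_ne_a _ _ _ _ hc.symm
    · ext C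
      constructor
      · rintro ⟨t, ht, rfl⟩
        rw [hw.orderOf_two_iff] at ht
        obtain ⟨ht1, ht2⟩ := ht
        rcases hw.exists_rep t with ⟨i, j, rfl⟩ | ⟨i, j, rfl⟩
        · rw [hw.a_mul_self_eq_one_iff] at ht1
          obtain ⟨hi | hi, hj | hj⟩ := ht1
          · exfalso; apply ht2; rw [hi, hj]; exact hw.a_zero
          · right; left
            rw [hi, hj]
            show ConjClasses.mk _ = ConjClasses.mk _
            rw [ConjClasses.mk_eq_mk_iff_isConj, isConj_iff]
            exact ⟨b n x y z 0 0, hw.b_conj_a _ _ _ _⟩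
          · right; left
            rw [hi, hj]
          · left
            rw [hi, hj]
        · rw [hw.b_mul_self_eq_one_iff] at ht1
          right; right
          show ConjClasses.mk _ = ConjClasses.mk _
          rw [ConjClasses.mk_eq_mk_iff_isConj, isConj_iff]
          refine ⟨a n x y 0 i, ?_⟩
          rw [hw.a_conj_b]
          congr 1
          · ring
          · linear_combination ht1
      · rintro (rfl | rfl | rfl)
        · refine ⟨_, ?_, rfl⟩
          rw [hw.orderOf_two_iff, hw.a_mul_self_eq_one_iff]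
          refine ⟨⟨Or.inr rfl, Or.inr rfl⟩, ?_⟩
          intro h
          exact hh0 ((hw.a_eq_one_iff _ _).1 h).1
        · refine ⟨_, ?_, rfl⟩
          rw [hw.orderOf_two_iff, hw.a_mul_self_eq_one_iff]
          refine ⟨⟨Or.inr rfl, Or.inl rfl⟩, ?_⟩
          intro h
          exact hh0 ((hw.a_eq_one_iff _ _).1 h).1
        · refine ⟨_, ?_, rfl⟩
          rw [hw.orderOf_two_iff, hw.b_mul_self_eq_one_iff]
          exact ⟨by ring, hw.b_ne_one _ _⟩
  exact (Nat.card_coe_set_eq _).trans key

end Cfsg.Agent.Lib.Lead.WRCore
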