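import Mathlib
import Cfsg.Agent.Lib.Helper3.TW5
import Cfsg.Agent.Lib.Helper1.Fitting

set_option autoImplicit false

namespace Cfsg.Agent.Lib.Lead.WB

open Cfsg Cfsg.Agent.Lib.Helper7 Cfsg.Agent.Lib.Helper3.TW

variable {G : Type*} [Group G]

theorem mem_cr {H K : Subgroup G} {z : G} :
    z ∈ cr H K ↔ z ∈ H ∧ ∀ h ∈ H, h * z * h⁻¹ ∈ K := by
  constructor
  · rintro ⟨w, hw, rfl⟩
    refine ⟨w.2, fun h hh => ?_⟩
    have h1 : (⟨h, hh⟩ : ↥H) * w * (⟨h, hh⟩ : ↥H)⁻¹ ∈ K.subgroupOf H :=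
      (show ∀ b : ↥H, b * w * b⁻¹ ∈ K.subgroupOf H from hw) ⟨h, hh⟩
    rw [Subgroup.mem_subgroupOf] at h1
    simpa using h1
  · rintro ⟨hz, h⟩
    refine ⟨⟨z, hz⟩, ?_, rfl⟩
    show ∀ b : ↥H, b * ⟨z, hz⟩ * b⁻¹ ∈ K.subgroupOf H
    intro b
    rw [Subgroup.mem_subgroupOf]
    simpa using h b b.2

theorem relIndex_mul_card' [Finite G] {H K : Subgroup G} (h : H ≤ K) :
    H.relIndex K * Nat.card H = Nat.card K := by
  have h1 := Subgroup.card_mul_index (H.subgroupOf K)
  have h2 : Nat.card (H.subgroupOf K) = Nat.card H :=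
    Nat.card_congr (Subgroup.subgroupOfEquivOfLe h).toEquiv
  rw [h2] at h1
  rw [mul_comm]; exact h1

theorem relIndex_pos' [Finite G] (H K : Subgroup G) : 0 < H.relIndex K :=
  Nat.pos_of_ne_zero (by unfold Subgroup.relIndex; exact Subgroup.index_ne_zero_of_finite)

theorem relIndex_cr_dvd [Finite G] (H K : Subgroup G) :
    (cr H K).relIndex H ∣ (K.relIndex H).factorial := by
  have h1 : (cr H K).subgroupOf H = (K.subgroupOf H).normalCore :=
    Subgroup.comap_map_eq_self_of_injective H.subtype_injective _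
  have h2 : (cr H K).relIndex H = ((K.subgroupOf H).normalCore).index := by
    unfold Subgroup.relIndex; rw [h1]
  rw [h2, Subgroup.normalCore_eq_ker, Subgroup.index_ker]
  have h3 := Subgroup.card_subgroup_dvd_card (MulAction.toPermHom ↥H (↥H ⧸ K.subgroupOf H)).range
  rw [Nat.card_perm, ← Subgroup.index_eq_card] at h3
  exact h3

theorem relIndex_core_dvd [Finite G] {A X K : Subgroup G} (hAX : A ≤ X) (hXK : X ≤ K) :
    (cr K X).relIndex A ∣ (X.relIndex K - 1).factorial := by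
  have hBX : cr K X ≤ X := cr_le_right K X
  haveI : ((cr K X).subgroupOf X).Normal :=
    (Subgroup.normal_subgroupOf_iff_le_normalizer hBX).mpr (hXK.trans (le_normalizer_cr K X))
  have h1 : (cr K X).relIndex A ∣ (cr K X).relIndex X := by
    have := Subgroup.relIndex_dvd_index_of_normal ((cr K X).subgroupOf X) (A.subgroupOf X)
    rwa [Subgroup.relIndex_subgroupOf hAX] at this
  have h2 : (cr K X).relIndex X * X.relIndex K = (cr K X).relIndex K :=
    Subgroup.relIndex_mul_relIndex _ X K hBX hXK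
  have h3 : (cr K X).relIndex K ∣ (X.relIndex K).factorial := relIndex_cr_dvd K X
  have hpos : 0 < X.relIndex K := relIndex_pos' X K
  obtain ⟨m, hm⟩ : ∃ m, X.relIndex K = m + 1 := ⟨X.relIndex K - 1, by omega⟩
  rw [← h2, hm, Nat.factorial_succ] at h3
  have h4 : (cr K X).relIndex X ∣ m.factorial := by
    rw [mul_comm (m + 1)] at h3
    exact Nat.dvd_of_mul_dvd_mul_right (Nat.succ_pos m) h3
  rw [hm]
  simpa using h1.trans h4

theorem index_inf_dvd {A : Type*} [Group A] (N M : Subgroup A) [N.Normal] :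
    (N ⊓ M).index ∣ N.index * M.index := by
  have h1 : (N ⊓ M).relIndex M * M.index = (N ⊓ M).index := Subgroup.relIndex_mul_index inf_le_right
  have h2 : (N ⊓ M).relIndex M = N.relIndex M := Subgroup.inf_relIndex_right N M
  rw [← h1, h2]
  exact mul_dvd_mul_right (Subgroup.relIndex_dvd_index_of_normal N M) _

theorem index_iInf_dvd {A : Type*} [Group A] {ι : Type*} [Fintype ι] (f : ι → Subgroup A)
    (hf : ∀ i, (f i).Normal) : (⨅ i, f i).index ∣ ∏ i, (f i).index := by
  classical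
  have key : ∀ s : Finset ι, (⨅ i ∈ s, f i).index ∣ ∏ i ∈ s, (f i).index := by
    intro s
    induction s using Finset.induction_on with
    | empty => simp
    | insert a s ha ih =>
      rw [Finset.iInf_insert, Finset.prod_insert ha]
      haveI := hf a
      exact (index_inf_dvd (f a) (⨅ i ∈ s, f i)).trans (mul_dvd_mul_left _ ih)
  simpa using key Finset.univ

theorem map_conj_eq_of_mem_normalizer {A : Subgroup G} {h : G}
    (hh : h ∈ Subgroup.normalizer (A : Set G)) : A.map (MulAut.conj h).toMonoidHom = A := by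
  apply le_antisymm
  · rintro _ ⟨a, ha, rfl⟩
    simpa using conj_mem_of_mem_normalizer hh ha
  · intro a ha
    refine ⟨h⁻¹ * a * h, conj_inv_mem_of_mem_normalizer hh ha, ?_⟩
    simp only [MulEquiv.coe_toMonoidHom, MulAut.conj_apply]
    group

/-- the family of conjugates of `B` by coset representatives of `X` in `H` -/
noncomputable def conjFam (H X B : Subgroup G) (q : ↥H ⧸ X.subgroupOf H) : Subgroup G :=
  B.map (MulAut.conj ((Quotient.out q : ↥H) : G)).toMonoidHom

theorem relIndex_cr_inf_dvd [Finite G] {A B X H : Subgroup G} (hAX : A ≤ X) (hXH : X ≤ H)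
    (hAn : H ≤ Subgroup.normalizer (A : Set G)) (hXB : X ≤ Subgroup.normalizer (B : Set G)) :
    (cr H (A ⊓ B)).relIndex A ∣ (B.relIndex A) ^ (X.relIndex H) := by
  classical
  haveI : Fintype (↥H ⧸ X.subgroupOf H) := Fintype.ofFinite _
  have hb : cr H (A ⊓ B) = A ⊓ ⨅ q, conjFam H X B q := by
    ext z
    rw [mem_cr, Subgroup.mem_inf, Subgroup.mem_iInf]
    constructor
    · rintro ⟨hz, hall⟩
      refine ⟨?_, fun q => ?_⟩
      · have := (Subgroup.mem_inf.mp (hall 1 H.one_mem)).1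
        simpa using this
      · have hhH : ((Quotient.out q : ↥H) : G) ∈ H := (Quotient.out q : ↥H).2
        have h1 := (Subgroup.mem_inf.mp (hall ((Quotient.out q : ↥H) : G)⁻¹ (H.inv_mem hhH))).2
        unfold conjFam
        refine ⟨_, h1, ?_⟩
        simp only [MulEquiv.coe_toMonoidHom, MulAut.conj_apply]
        group
    · rintro ⟨hzA, hall⟩
      refine ⟨hXH (hAX hzA), fun h hh => ?_⟩
      refine Subgroup.mem_inf.mpr ⟨conj_mem_of_mem_normalizer (hAn hh) hzA, ?_⟩
      obtain ⟨x, hx⟩ := QuotientGroup.mk_out_eq_mul (X.subgroupOf H) ((⟨h, hh⟩ : ↥H)⁻¹)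
      have hq := hall (((⟨h, hh⟩ : ↥H)⁻¹ : ↥H) : ↥H ⧸ X.subgroupOf H)
      unfold conjFam at hq
      obtain ⟨b, hb, hbz⟩ := hq
      have hxX : ((x : ↥H) : G) ∈ X := Subgroup.mem_subgroupOf.mp x.2
      have h2 : ((x : ↥H) : G) * b * ((x : ↥H) : G)⁻¹ ∈ B :=
        conj_mem_of_mem_normalizer (hXB hxX) hb
      have h3 : h * z * h⁻¹ = ((x : ↥H) : G) * b * ((x : ↥H) : G)⁻¹ := by
        rw [← hbz, hx]
        simp only [MulEquiv.coe_toMonoidHom, MulAut.conj_apply, Subgroup.coe_mul, Subgroup.coe_inv,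
          Subgroup.coe_mk]
        group
      rw [h3]; exact h2
  have hc1 : ∀ q, ((conjFam H X B q).subgroupOf A).Normal := by
    intro q
    apply Subgroup.normal_subgroupOf_of_le_normalizer
    have hhH : ((Quotient.out q : ↥H) : G) ∈ H := (Quotient.out q : ↥H).2
    unfold conjFam
    apply le_normalizer_of_conj_mem
    rintro a ha _ ⟨b, hb, rfl⟩
    have ha' : ((Quotient.out q : ↥H) : G)⁻¹ * a * ((Quotient.out q : ↥H) : G) ∈ A :=
      conj_inv_mem_of_mem_normalizer (hAn hhH) ha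
    have hb' := conj_mem_of_mem_normalizer (hXB (hAX ha')) hb
    refine ⟨_, hb', ?_⟩
    simp only [MulEquiv.coe_toMonoidHom, MulAut.conj_apply]
    group
  have hc2 : ∀ q, (conjFam H X B q).relIndex A = B.relIndex A := by
    intro q
    have hhH : ((Quotient.out q : ↥H) : G) ∈ H := (Quotient.out q : ↥H).2
    have hA : A.map (MulAut.conj ((Quotient.out q : ↥H) : G)).toMonoidHom = A :=
      map_conj_eq_of_mem_normalizer (hAn hhH)
    unfold conjFam
    calc (B.map (MulAut.conj ((Quotient.out q : ↥H) : G)).toMonoidHom).relIndex A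
        = (B.map (MulAut.conj ((Quotient.out q : ↥H) : G)).toMonoidHom).relIndex
            (A.map (MulAut.conj ((Quotient.out q : ↥H) : G)).toMonoidHom) := by rw [hA]
      _ = B.relIndex A := Subgroup.relIndex_map_map_of_injective B A (MulAut.conj _).injective
  have hd : (⨅ q, conjFam H X B q).relIndex A ∣
      ∏ q : ↥H ⧸ X.subgroupOf H, (conjFam H X B q).relIndex A := by
    have h1 : (⨅ q, conjFam H X B q).subgroupOf A = ⨅ q, (conjFam H X B q).subgroupOf A :=
      Subgroup.comap_iInf _ _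
    unfold Subgroup.relIndex
    rw [h1]
    exact index_iInf_dvd _ hc1
  rw [hb, Subgroup.inf_relIndex_left]
  simp only [hc2, Finset.prod_const, Finset.card_univ] at hd
  rw [← Nat.card_eq_fintype_card, ← Subgroup.index_eq_card] at hd
  exact hd

theorem count [Finite G] (H K : Subgroup G) :
    (cr H (cr H (H ⊓ K) ⊓ cr K (H ⊓ K))).relIndex H ∣
      ((H ⊓ K).relIndex H).factorial *
        (((H ⊓ K).relIndex K - 1).factorial) ^ ((H ⊓ K).relIndex H) := by
  have hAX : cr H (H ⊓ K) ≤ H ⊓ K := cr_le_right H (H ⊓ K)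
  have hAH : cr H (H ⊓ K) ≤ H := cr_le_left H (H ⊓ K)
  have h1 : (cr H (cr H (H ⊓ K) ⊓ cr K (H ⊓ K))).relIndex (cr H (H ⊓ K)) *
      (cr H (H ⊓ K)).relIndex H = (cr H (cr H (H ⊓ K) ⊓ cr K (H ⊓ K))).relIndex H :=
    Subgroup.relIndex_mul_relIndex _ _ _ ((cr_le_right H _).trans inf_le_left) hAH
  have h2 : (cr H (H ⊓ K)).relIndex H ∣ ((H ⊓ K).relIndex H).factorial := relIndex_cr_dvd H (H ⊓ K)
  have h3 : (cr H (cr H (H ⊓ K) ⊓ cr K (H ⊓ K))).relIndex (cr H (H ⊓ K)) ∣
      ((cr K (H ⊓ K)).relIndex (cr H (H ⊓ K))) ^ ((H ⊓ K).relIndex H) :=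
    relIndex_cr_inf_dvd hAX inf_le_left (le_normalizer_cr H (H ⊓ K))
      (inf_le_right.trans (le_normalizer_cr K (H ⊓ K)))
  have h4 : (cr K (H ⊓ K)).relIndex (cr H (H ⊓ K)) ∣ ((H ⊓ K).relIndex K - 1).factorial :=
    relIndex_core_dvd hAX inf_le_right
  rw [← h1, mul_comm]
  exact mul_dvd_mul h2 (h3.trans (pow_dvd_pow_of_dvd h4 _))

end Cfsg.Agent.Lib.Lead.WB
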