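import Mathlib
import Cfsg.Agent.Lib.Lead.WielandtBound

set_option autoImplicit false

namespace Cfsg.Agent.Lib.Lead.WB

open Cfsg Cfsg.Agent.Lib.Helper7 Cfsg.Agent.Lib.Helper3.TW

variable {G : Type*} [Group G]

/-- If `O_p(M₁ ∩ M₂)` acts trivially on the suborbit (lies in the first core), it is trivial. -/
theorem pCoreIn_inf_eq_bot [Finite G] (M₁ M₂ : Subgroup G) (hmax : IsCoatom M₁) (g : G)
    (hconj : M₂ = M₁.map (MulAut.conj g).toMonoidHom) (hne : M₁ ≠ M₂) (hcore : M₁.normalCore = ⊥)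
    (p : ℕ) [hp : Fact p.Prime] (hY : pCoreIn p (M₁ ⊓ M₂) ≤ cr M₁ (M₁ ⊓ M₂)) :
    pCoreIn p (M₁ ⊓ M₂) = ⊥ := by
  by_contra hYne
  have hcard : Nat.card M₂ = Nat.card M₁ := by rw [hconj]; exact card_map_conj M₁ g
  have hYX : pCoreIn p (M₁ ⊓ M₂) ≤ M₁ ⊓ M₂ := pCoreIn_le p _
  have hYp : IsPGroup p (pCoreIn p (M₁ ⊓ M₂)) := pCoreIn_isPGroup p _
  have hAX : cr M₁ (M₁ ⊓ M₂) ≤ M₁ ⊓ M₂ := cr_le_right M₁ _
  have hXM1 : M₁ ⊓ M₂ ≤ M₁ := inf_le_left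
  have hXM2 : M₁ ⊓ M₂ ≤ M₂ := inf_le_right
  have hnA : Subgroup.normalizer ((cr M₁ (M₁ ⊓ M₂) : Subgroup G) : Set G) ≤
      Subgroup.normalizer ((pCoreIn p (cr M₁ (M₁ ⊓ M₂)) : Subgroup G) : Set G) :=
    Cfsg.Agent.Lib.Helper3.TW.normalizer_le_normalizer_pCoreIn p _
  have h1 : pCoreIn p (M₁ ⊓ M₂) ≤ pCoreIn p (cr M₁ (M₁ ⊓ M₂)) :=
    le_pCoreIn hY hYp (hAX.trans (le_normalizer_pCoreIn p _))
  have h2 : pCoreIn p (cr M₁ (M₁ ⊓ M₂)) ≤ pCoreIn p (M₁ ⊓ M₂) :=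
    le_pCoreIn ((pCoreIn_le p _).trans hAX) (pCoreIn_isPGroup p _)
      (hXM1.trans ((le_normalizer_cr M₁ _).trans hnA))
  have hYA : pCoreIn p (M₁ ⊓ M₂) = pCoreIn p (cr M₁ (M₁ ⊓ M₂)) := le_antisymm h1 h2
  have hM1Y : M₁ ≤ Subgroup.normalizer ((pCoreIn p (M₁ ⊓ M₂) : Subgroup G) : Set G) := by
    rw [hYA]; exact (le_normalizer_cr M₁ _).trans hnA
  have hN : Subgroup.normalizer ((pCoreIn p (M₁ ⊓ M₂) : Subgroup G) : Set G) ≤ M₁ :=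
    normalizer_le_of_isCoatom hmax hcore _ hYne (hYX.trans hXM1) hM1Y
  have hRp : IsPGroup p (pCoreIn p M₂) := pCoreIn_isPGroup p M₂
  have hRM2 : pCoreIn p M₂ ≤ M₂ := pCoreIn_le p M₂
  have hM2R : M₂ ≤ Subgroup.normalizer ((pCoreIn p M₂ : Subgroup G) : Set G) :=
    le_normalizer_pCoreIn p M₂
  have hYNR : pCoreIn p (M₁ ⊓ M₂) ≤ Subgroup.normalizer ((pCoreIn p M₂ : Subgroup G) : Set G) :=
    (hYX.trans hXM2).trans hM2R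
  have hRM1 : (pCoreIn p M₂ ⊓ M₁ : Subgroup G) ≤ pCoreIn p (M₁ ⊓ M₂) := by
    apply le_pCoreIn (le_inf inf_le_right (inf_le_left.trans hRM2)) (hRp.to_le inf_le_left)
    intro x hx
    exact normalizer_inf_le (pCoreIn p M₂) M₁
      (Subgroup.mem_inf.mpr ⟨hM2R (hXM2 hx), Subgroup.le_normalizer (hXM1 hx)⟩)
  have hRY : pCoreIn p M₂ ≤ pCoreIn p (M₁ ⊓ M₂) := by
    by_contra hnot
    have hPp : IsPGroup p ↥(pCoreIn p (M₁ ⊓ M₂) ⊔ pCoreIn p M₂) :=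
      IsPGroup.to_sup_of_normal_right' hYp hRp hYNR
    haveI : Group.IsNilpotent ↥(pCoreIn p (M₁ ⊓ M₂) ⊔ pCoreIn p M₂) := hPp.isNilpotent
    have hH : (pCoreIn p (M₁ ⊓ M₂)).subgroupOf (pCoreIn p (M₁ ⊓ M₂) ⊔ pCoreIn p M₂) < ⊤ := by
      rw [lt_top_iff_ne_top, Ne, Subgroup.subgroupOf_eq_top]
      intro hPY
      exact hnot (le_sup_right.trans hPY)
    have hgrow := Group.normalizerCondition_of_isNilpotent
      (G := ↥(pCoreIn p (M₁ ⊓ M₂) ⊔ pCoreIn p M₂)) _ hH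
    obtain ⟨u, hu1, hu2⟩ := SetLike.exists_of_lt hgrow
    have huN : (u : G) ∈ Subgroup.normalizer ((pCoreIn p (M₁ ⊓ M₂) : Subgroup G) : Set G) := by
      apply Subgroup.mem_normalizer_fintype
      intro z hz
      have hzP : z ∈ pCoreIn p (M₁ ⊓ M₂) ⊔ pCoreIn p M₂ :=
        le_sup_left (a := pCoreIn p (M₁ ⊓ M₂)) hz
      have h1 : (⟨z, hzP⟩ : ↥(pCoreIn p (M₁ ⊓ M₂) ⊔ pCoreIn p M₂)) ∈
          (pCoreIn p (M₁ ⊓ M₂)).subgroupOf (pCoreIn p (M₁ ⊓ M₂) ⊔ pCoreIn p M₂) := by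
        rw [Subgroup.mem_subgroupOf]; exact hz
      have h2 := conj_mem_of_mem_normalizer hu1 h1
      rw [Subgroup.mem_subgroupOf] at h2
      simpa using h2
    obtain ⟨y, hy, x, hx, e⟩ := mem_sup_of_le_normalizer hYNR u.2
    have hxN : x ∈ Subgroup.normalizer ((pCoreIn p (M₁ ⊓ M₂) : Subgroup G) : Set G) := by
      have e' : x = y⁻¹ * (u : G) := by rw [e]; group
      rw [e']
      exact Subgroup.mul_mem _ (Subgroup.inv_mem _ (Subgroup.le_normalizer hy)) huN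
    have hxY : x ∈ pCoreIn p (M₁ ⊓ M₂) := hRM1 (Subgroup.mem_inf.mpr ⟨hx, hN hxN⟩)
    apply hu2
    rw [Subgroup.mem_subgroupOf, e]
    exact Subgroup.mul_mem _ hy hxY
  have hYQ : pCoreIn p (M₁ ⊓ M₂) ≤ pCoreIn p M₁ := le_pCoreIn (hYX.trans hXM1) hYp hM1Y
  have hcQR : Nat.card (pCoreIn p M₁) ≤ Nat.card (pCoreIn p M₂) := by
    have := card_pCoreIn_le_map_conj p M₁ g
    rwa [← hconj] at this
  have hRQ : pCoreIn p M₂ = pCoreIn p M₁ := Subgroup.eq_of_le_of_card_ge (hRY.trans hYQ) hcQR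
  have hQne : pCoreIn p M₁ ≠ ⊥ := fun h => hYne (le_bot_iff.mp (h ▸ hYQ))
  have hNQ : Subgroup.normalizer ((pCoreIn p M₁ : Subgroup G) : Set G) ≤ M₁ :=
    normalizer_le_of_isCoatom hmax hcore _ hQne (pCoreIn_le p M₁) (le_normalizer_pCoreIn p M₁)
  have hM2M1 : M₂ ≤ M₁ := by
    have : M₂ ≤ Subgroup.normalizer ((pCoreIn p M₁ : Subgroup G) : Set G) := by
      rw [← hRQ]; exact hM2R
    exact this.trans hNQ
  exact hne (Subgroup.eq_of_le_of_card_ge hM2M1 hcard.ge).symm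

theorem fitting_eq_bot_of_pCoreIn [Finite G] (X : Subgroup G)
    (h : ∀ p : ℕ, p.Prime → pCoreIn p X = ⊥) : Cfsg.fittingSubgroup ↥X = ⊥ := by
  rw [Cfsg.Agent.Lib.Helper1.fittingSubgroup_eq_iSup_pCore, iSup_eq_bot]
  intro p
  have := h p p.2
  unfold pCoreIn at this
  exact (Subgroup.map_eq_bot_iff_of_injective _ X.subtype_injective).mp this

/-- if one of the second cores is trivial, the order of `M₁` divides Wielandt's bound -/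
theorem card_dvd [Finite G] (M₁ M₂ : Subgroup G) (hcard : Nat.card M₂ = Nat.card M₁) (d : ℕ)
    (hd1 : (M₁ ⊓ M₂).relIndex M₁ = d) (hd2 : (M₁ ⊓ M₂).relIndex M₂ = d)
    (hor : cr M₁ (cr M₁ (M₁ ⊓ M₂) ⊓ cr M₂ (M₁ ⊓ M₂)) = ⊥ ∨
      cr M₂ (cr M₁ (M₁ ⊓ M₂) ⊓ cr M₂ (M₁ ⊓ M₂)) = ⊥) :
    Nat.card M₁ ∣ d.factorial * ((d - 1).factorial) ^ d := by
  rcases hor with h | h
  · have := count M₁ M₂
    rwa [h, Subgroup.relIndex_bot_left, hd1, hd2] at this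
  · have := count M₂ M₁
    rw [inf_comm M₂ M₁, inf_comm (cr M₂ (M₁ ⊓ M₂)) (cr M₁ (M₁ ⊓ M₂)), h,
      Subgroup.relIndex_bot_left, hd1, hd2, hcard] at this
    exact this

theorem wielandt_group [Finite G] (M₁ M₂ : Subgroup G) (hmax : IsCoatom M₁) (g : G)
    (hconj : M₂ = M₁.map (MulAut.conj g).toMonoidHom) (hne : M₁ ≠ M₂) (hcore : M₁.normalCore = ⊥)
    (d : ℕ) (hd1 : (M₁ ⊓ M₂).relIndex M₁ = d) (hd2 : (M₁ ⊓ M₂).relIndex M₂ = d) :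
    ∃ p : ℕ, p.Prime ∧ ∃ P : Subgroup ↥M₁, P.Normal ∧ IsPGroup p P ∧
      (∀ x : P, ((x : ↥M₁) : G) ∈ M₂) ∧ P.index ∣ d.factorial * ((d - 1).factorial) ^ d := by
  have hcard : Nat.card M₂ = Nat.card M₁ := by rw [hconj]; exact card_map_conj M₁ g
  by_cases hor : cr M₁ (cr M₁ (M₁ ⊓ M₂) ⊓ cr M₂ (M₁ ⊓ M₂)) = ⊥ ∨
      cr M₂ (cr M₁ (M₁ ⊓ M₂) ⊓ cr M₂ (M₁ ⊓ M₂)) = ⊥
  · refine ⟨2, Nat.prime_two, ⊥, inferInstance, IsPGroup.of_bot, ?_, ?_⟩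
    · intro x
      have hx := x.2
      rw [Subgroup.mem_bot] at hx
      rw [hx]
      exact M₂.one_mem
    · rw [Subgroup.index_bot]
      exact card_dvd M₁ M₂ hcard d hd1 hd2 hor
  · push Not at hor
    obtain ⟨p, hp, hPG, -⟩ := thompson_wielandt M₁ M₂ hmax g hconj hne hcore hor.1 hor.2
    have hA2M1 : cr M₁ (cr M₁ (M₁ ⊓ M₂) ⊓ cr M₂ (M₁ ⊓ M₂)) ≤ M₁ := cr_le_left _ _
    refine ⟨p, hp, (cr M₁ (cr M₁ (M₁ ⊓ M₂) ⊓ cr M₂ (M₁ ⊓ M₂))).subgroupOf M₁,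
      (Subgroup.normal_subgroupOf_iff_le_normalizer hA2M1).mpr (le_normalizer_cr M₁ _),
      (hPG.to_le le_sup_left).comap_subtype, ?_, ?_⟩
    · intro x
      have hx := x.2
      rw [Subgroup.mem_subgroupOf] at hx
      exact (Subgroup.mem_inf.mp (cr_le_right M₁ (M₁ ⊓ M₂)
        ((Subgroup.mem_inf.mp (cr_le_right M₁ _ hx)).1))).2
    · have := count M₁ M₂
      rw [hd1, hd2] at this
      exact this

/-- the second cores cannot both be nontrivial when every `O_p(M₁ ∩ M₂)` is trivial -/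
theorem cores_bot_of_pCoreIn [Finite G] (M₁ M₂ : Subgroup G) (hmax : IsCoatom M₁) (g : G)
    (hconj : M₂ = M₁.map (MulAut.conj g).toMonoidHom) (hne : M₁ ≠ M₂) (hcore : M₁.normalCore = ⊥)
    (hbot : ∀ p : ℕ, p.Prime → pCoreIn p (M₁ ⊓ M₂) = ⊥) :
    cr M₁ (cr M₁ (M₁ ⊓ M₂) ⊓ cr M₂ (M₁ ⊓ M₂)) = ⊥ ∨
      cr M₂ (cr M₁ (M₁ ⊓ M₂) ⊓ cr M₂ (M₁ ⊓ M₂)) = ⊥ := by
  by_contra hor
  push Not at hor
  obtain ⟨p, hp, hPG, -⟩ := thompson_wielandt M₁ M₂ hmax g hconj hne hcore hor.1 hor.2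
  apply hor.2
  rw [eq_bot_iff, ← hbot p hp]
  apply le_pCoreIn
  · exact (cr_le_right M₂ _).trans (inf_le_left.trans (cr_le_right M₁ _))
  · exact hPG.to_le le_sup_right
  · exact inf_le_right.trans (le_normalizer_cr M₂ _)

end Cfsg.Agent.Lib.Lead.WB
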