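import Mathlib
import Cfsg.Agent.Lib.Lead.WielandtBound2

set_option autoImplicit false

namespace Cfsg.Agent.Lib.Lead.WB

open Cfsg Cfsg.Agent.Lib.Helper7 Cfsg.Agent.Lib.Helper3.TW

theorem setup {G Ω : Type*} [Group G] [Finite G] [MulAction G Ω] [FaithfulSMul G Ω] [Finite Ω]
    (hprim : MulAction.IsPreprimitive G Ω) (a b : Ω) (d : ℕ)
    (hd : Nat.card (MulAction.orbit (MulAction.stabilizer G a) b) = d) (h2 : 2 ≤ d) :
    IsCoatom (MulAction.stabilizer G a) ∧
    (∃ g : G, MulAction.stabilizer G b =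
      (MulAction.stabilizer G a).map (MulAut.conj g).toMonoidHom) ∧
    MulAction.stabilizer G a ≠ MulAction.stabilizer G b ∧
    (MulAction.stabilizer G a).normalCore = ⊥ ∧
    (MulAction.stabilizer G a ⊓ MulAction.stabilizer G b).relIndex (MulAction.stabilizer G a) = d ∧
    (MulAction.stabilizer G a ⊓ MulAction.stabilizer G b).relIndex (MulAction.stabilizer G b) = d := by
  haveI := hprim
  haveI : MulAction.IsPretransitive G Ω := hprim.toIsPretransitive
  have hfix : ¬ (∀ m ∈ MulAction.stabilizer G a, m • b = b) := by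
    intro h
    have hs : MulAction.orbit (MulAction.stabilizer G a) b = {b} := by
      ext x
      constructor
      · rintro ⟨m, rfl⟩
        exact h m.1 m.2
      · rintro rfl
        exact MulAction.mem_orbit_self _
    rw [hs] at hd
    have h1 : Nat.card ↥({b} : Set Ω) = 1 := by simp
    omega
  have hab : a ≠ b := by
    rintro rfl
    exact hfix (fun m hm => hm)
  haveI : Nontrivial Ω := ⟨⟨a, b, hab⟩⟩
  have hmax : IsCoatom (MulAction.stabilizer G a) :=
    MulAction.IsPreprimitive.isCoatom_stabilizer_of_isPreprimitive G a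
  obtain ⟨g, hg⟩ := MulAction.exists_smul_eq G a b
  have hconj : MulAction.stabilizer G b =
      (MulAction.stabilizer G a).map (MulAut.conj g).toMonoidHom := by
    rw [← hg]; exact MulAction.stabilizer_smul_eq_stabilizer_map_conj g a
  have hne : MulAction.stabilizer G a ≠ MulAction.stabilizer G b := by
    intro h
    apply hfix
    intro m hm
    rw [h] at hm
    exact hm
  have hcore : (MulAction.stabilizer G a).normalCore = ⊥ := by
    rw [eq_bot_iff]
    intro x hx
    rw [Subgroup.mem_bot]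
    apply FaithfulSMul.eq_of_smul_eq_smul (α := Ω)
    intro c
    rw [one_smul]
    obtain ⟨k, hk⟩ := MulAction.exists_smul_eq G a c
    have h1 : k⁻¹ * x * k⁻¹⁻¹ ∈ MulAction.stabilizer G a :=
      (show ∀ b : G, b * x * b⁻¹ ∈ MulAction.stabilizer G a from hx) k⁻¹
    rw [MulAction.mem_stabilizer_iff] at h1
    have h3 : x • k • a = k • a := by
      have h4 := congrArg (fun t => k • t) h1
      simpa [mul_smul] using h4
    rw [← hk]; exact h3
  have hd1 : (MulAction.stabilizer G a ⊓ MulAction.stabilizer G b).relIndex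
      (MulAction.stabilizer G a) = d := by
    have h5 : (MulAction.stabilizer G b).subgroupOf (MulAction.stabilizer G a) =
        MulAction.stabilizer ↥(MulAction.stabilizer G a) b := by
      ext m
      simp [Subgroup.mem_subgroupOf, MulAction.mem_stabilizer_iff, Subgroup.smul_def]
    rw [Subgroup.inf_relIndex_left]
    unfold Subgroup.relIndex
    rw [h5, MulAction.index_stabilizer, ← hd, Nat.card_coe_set_eq]
  refine ⟨hmax, ⟨g, hconj⟩, hne, hcore, hd1, ?_⟩
  have hcard : Nat.card (MulAction.stabilizer G b) = Nat.card (MulAction.stabilizer G a) := by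
    rw [hconj]; exact card_map_conj _ g
  have e1 := relIndex_mul_card' (inf_le_left :
    MulAction.stabilizer G a ⊓ MulAction.stabilizer G b ≤ MulAction.stabilizer G a)
  have e2 := relIndex_mul_card' (inf_le_right :
    MulAction.stabilizer G a ⊓ MulAction.stabilizer G b ≤ MulAction.stabilizer G b)
  rw [hcard, ← e1, hd1] at e2
  exact Nat.eq_of_mul_eq_mul_right Nat.card_pos e2

theorem pCoreIn_le_cr_of_fitting {G Ω : Type*} [Group G] [Finite G] [MulAction G Ω] [Finite Ω]
    (a b : Ω)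
    (hF : Cfsg.fittingSubgroup ↥(((MulAction.stabilizer G b).subgroupOf
      (MulAction.stabilizer G a)).map
      (MulAction.toPermHom (MulAction.stabilizer G a)
        (MulAction.orbit (MulAction.stabilizer G a) b))) = ⊥)
    (p : ℕ) [Fact p.Prime] :
    pCoreIn p (MulAction.stabilizer G a ⊓ MulAction.stabilizer G b) ≤
      cr (MulAction.stabilizer G a) (MulAction.stabilizer G a ⊓ MulAction.stabilizer G b) := by
  set M₁ := MulAction.stabilizer G a with hM1
  set M₂ := MulAction.stabilizer G b with hM2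
  set φ := MulAction.toPermHom ↥M₁ ↥(MulAction.orbit ↥M₁ b) with hφ
  set I := (M₂.subgroupOf M₁).map φ with hI
  have hYX : pCoreIn p (M₁ ⊓ M₂) ≤ M₁ ⊓ M₂ := pCoreIn_le p _
  have hJn : ((((pCoreIn p (M₁ ⊓ M₂)).subgroupOf M₁).map φ).subgroupOf I).Normal := by
    constructor
    intro j hj i
    rw [Subgroup.mem_subgroupOf] at hj ⊢
    obtain ⟨y, hy, hyj⟩ := hj
    obtain ⟨x, hx, hxi⟩ := i.2
    refine ⟨x * y * x⁻¹, ?_, ?_⟩
    · rw [SetLike.mem_coe, Subgroup.mem_subgroupOf] at hy hx ⊢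
      have hxX : (x : G) ∈ M₁ ⊓ M₂ := Subgroup.mem_inf.mpr ⟨x.2, hx⟩
      have := conj_mem_of_mem_normalizer (le_normalizer_pCoreIn p (M₁ ⊓ M₂) hxX) hy
      simpa using this
    · simp [map_mul, hyj, hxi]
  have hJp : IsPGroup p ↥((((pCoreIn p (M₁ ⊓ M₂)).subgroupOf M₁).map φ).subgroupOf I) := by
    have h1 : IsPGroup p ↥((pCoreIn p (M₁ ⊓ M₂)).subgroupOf M₁) :=
      (pCoreIn_isPGroup p _).comap_subtype
    exact (h1.map φ).comap_subtype
  haveI : Group.IsNilpotent ↥((((pCoreIn p (M₁ ⊓ M₂)).subgroupOf M₁).map φ).subgroupOf I) :=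
    hJp.isNilpotent
  have hJle := Cfsg.Agent.Lib.Helper1.le_fittingSubgroup hJn inferInstance
  rw [hF] at hJle
  intro y hy
  rw [mem_cr]
  have hyM1 : y ∈ M₁ := (Subgroup.mem_inf.mp (hYX hy)).1
  have hyM2 : y ∈ M₂ := (Subgroup.mem_inf.mp (hYX hy)).2
  refine ⟨hyM1, fun m hm =>
    Subgroup.mem_inf.mpr ⟨M₁.mul_mem (M₁.mul_mem hm hyM1) (M₁.inv_mem hm), ?_⟩⟩
  have hφy : φ ⟨y, hyM1⟩ = 1 := by
    have hmemI : φ ⟨y, hyM1⟩ ∈ I :=
      ⟨⟨y, hyM1⟩, by rw [SetLike.mem_coe, Subgroup.mem_subgroupOf]; exact hyM2, rfl⟩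
    have h1 : (⟨φ ⟨y, hyM1⟩, hmemI⟩ : ↥I) ∈
        ((((pCoreIn p (M₁ ⊓ M₂)).subgroupOf M₁).map φ).subgroupOf I) := by
      rw [Subgroup.mem_subgroupOf]
      exact ⟨⟨y, hyM1⟩, by rw [SetLike.mem_coe, Subgroup.mem_subgroupOf]; exact hy, rfl⟩
    have h2 := hJle h1
    rw [Subgroup.mem_bot] at h2
    exact congrArg Subtype.val h2
  rw [hM2, MulAction.mem_stabilizer_iff]
  have hpt : (⟨m, hm⟩⁻¹ : ↥M₁) • b ∈ MulAction.orbit ↥M₁ b := MulAction.mem_orbit _ _
  have h3 : (φ ⟨y, hyM1⟩) ⟨_, hpt⟩ = (1 : Equiv.Perm ↥(MulAction.orbit ↥M₁ b)) ⟨_, hpt⟩ := by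
    rw [hφy]
  have h4 : y • (m⁻¹ • b) = m⁻¹ • b := by
    have := congrArg Subtype.val h3
    simpa [hφ, Subgroup.smul_def] using this
  calc (m * y * m⁻¹) • b = m • y • m⁻¹ • b := by simp [mul_smul]
    _ = m • m⁻¹ • b := by rw [h4]
    _ = b := by simp

end Cfsg.Agent.Lib.Lead.WB
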